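import Cfsg.Statements.S3702
import Cfsg.Agent.Char.Cube
import Cfsg.Agent.Char.NineD8
import Cfsg.Agent.Char.NormThree
import Cfsg.Agent.Char.BrauerPerm
import Cfsg.Agent.Transfer.Focal
-- import your own Cfsg.Agent.* helpers here

set_option autoImplicit false
open Cfsg

namespace Cfsg.Agent.S3702

open Cfsg.Agent.Char Cfsg.Agent.Char.Euclid Cfsg.Agent.Char.Cube Subgroup

theorem compl_of_self_normalizing {C : Type*} [Group C] [Finite C] (E : Subgroup C)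
    (h9 : Nat.card E = 3 ^ 2) (hN : normalizer (E : Set C) ≤ E) :
    HasNormalPComplement 3 C ∧ (Nat.card C).factorization 3 = 2 := by
  have h1 := Sylow.card_normalizer_modEq_card h9
  rw [le_antisymm hN le_normalizer, h9, ← E.card_mul_index, h9] at h1
  have h2 : ¬ 3 ∣ E.index := by
    unfold Nat.ModEq at h1
    omega
  let P := (IsPGroup.of_card h9).toSylow h2
  refine ⟨Transfer.hasNormalPComplement_of_normalizer_le_centralizer P fun g hg =>
    mem_centralizer_iff.2 fun x hx => congrArg Subtype.val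
      ((IsPGroup.isMulCommutative_of_card_eq_prime_sq (p := 3) h9).is_comm.comm ⟨x, hx⟩
        ⟨g, hN hg⟩), ?_⟩
  have h3 := P.card_eq_multiplicity
  rw [show Nat.card P = 3 ^ 2 from h9] at h3
  exact (Nat.pow_right_injective (by norm_num) h3).symm

theorem eq_top_of_four {G : Type*} [Group G] [Finite G] {H : Subgroup G} {φ : V3 →* G}
    {κ : W2 →* G} (h : Split φ κ S3701.act H) (hN : normalizer (φ.range : Set G) ≤ H)
    (hC : ∀ t ∈ φ.range, t ≠ 1 → centralizer ({t} : Set G) ≤ H) (g : G) : g ∈ H := by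
  have h1 := S3701.card_le h hN hC
  by_contra hg
  have hV : ∀ v : V3, v ^ 3 = 1 := by decide
  have hW : ∀ w : W2, w ^ 3 = 1 → w = 1 := by decide
  have h2 := Split.card_mul_le (φ := φ) (H := H) (g := g) fun v hv => by
    by_contra hv1
    obtain ⟨u, hu⟩ := h.mem_range_of_pow hW hv (by rw [conj_pow, ← map_pow, hV]; simp)
    exact hg (h.mem_of_conj hV hW hN hC hv1 g u hu.symm)
  rw [h.card, show Nat.card V3 = 27 by simp, show Nat.card W2 = 4 by simp] at h2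
  omega

theorem isRat_of_nine {G : Type*} [Group G] [Finite G] {y : G} (h9 : y ^ 9 = 1)
    (hd : 9 ∣ Nat.card G) (h : IsConj y (y ^ 2)) : IsRat y := by
  have h1 : ∀ k, IsConj y (y ^ k) → IsConj y (y ^ (2 * k % 9)) := fun k hk => by
    have := h.pow k
    rw [← pow_mul, pow_eq_pow_mod (2 * k) h9] at this
    exact hk.trans this
  have h4 := h1 2 h
  have h8 := h1 4 h4
  have h7 := h1 8 h8
  have h5 := h1 7 h7
  refine isRat_of_pow h9 hd fun m hm hc => ?_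
  interval_cases m <;> first | assumption | rw [pow_one] | exact absurd hc (by norm_num)

/-- the standing hypotheses -/
structure Hyp {G : Type*} [Group G] (φ : V3 →* G) (κ : W →* G) (H : Subgroup G) : Prop where
  sp : Split φ κ act H
  cen : ∀ v, v ≠ 1 → centralizer ({φ v} : Set G) ≤ H
  sc : ∀ v g, g * φ v * g⁻¹ ∈ H → g * φ v * g⁻¹ ∈ φ.range

namespace Hyp

variable {G : Type*} [Group G] [Finite G] {H : Subgroup G} {φ : V3 →* G} {κ : W →* G}
  (h : Hyp φ κ H)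
include h

omit [Finite G] in
theorem card_cen {u : V3} (hu : u ≠ 1) : Nat.card (centralizer ({φ u} : Set G)) = 27 * st u := by
  rw [st, ← Fintype.card_subtype, ← Nat.card_eq_fintype_card, show 27 = Nat.card V3 by simp,
    ← Nat.card_prod]
  have key : ∀ a b, φ a * κ b ∈ centralizer ({φ u} : Set G) ↔ act b u = u := fun a b => by
    rw [mem_centralizer_singleton_iff, ← mul_inv_eq_iff_eq_mul, h.sp.conj_φ, h.sp.inj.eq_iff]
  symm
  refine Nat.card_eq_of_bijective (fun r => ⟨φ r.1 * κ r.2, (key _ _).2 r.2.2⟩)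
    ⟨fun p q e => ?_, ?_⟩
  · have := h.sp.eq_iff.1 (congrArg Subtype.val e)
    exact Prod.ext this.1 (Subtype.ext this.2)
  · rintro ⟨x, hx⟩
    obtain ⟨a, b, rfl⟩ := (h.sp.mem _).1 (h.cen u hu hx)
    exact ⟨(a, ⟨b, (key _ _).1 hx⟩), rfl⟩

theorem fus {u : V3} (hu : u ≠ 1) (ho : ∀ v, st v = st u → ∃ w, act w u = v) {g : G}
    (hg : g * φ u * g⁻¹ ∈ H) : g ∈ H := by
  obtain ⟨v, hv⟩ := h.sc u g hg
  have hv1 : v ≠ 1 := by
    rintro rfl
    exact hu (h.sp.inj (by simpa [mul_inv_eq_iff_eq_mul] using hv.symm))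
  have h1 := card_centralizer_eq_of_isConj (isConj_iff.2 ⟨g, hv.symm⟩)
  rw [h.card_cen hu, h.card_cen hv1] at h1
  obtain ⟨w, rfl⟩ := ho v (by omega)
  have h2 : (κ w)⁻¹ * g ∈ H := h.cen u hu (mem_centralizer_singleton_iff.2 (by
    rw [← h.sp.conj] at hv
    calc (κ w)⁻¹ * g * φ u = (κ w)⁻¹ * (g * φ u * g⁻¹) * g := by group
      _ = _ := by rw [← hv]; group))
  simpa using mul_mem (h.sp.κ_mem w) h2

omit [Finite G] in
theorem not_isConj (u v : V3) : ¬ IsConj (φ u) (φ v * κ σ) := fun e => by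
  obtain ⟨g, hg⟩ := isConj_iff.1 e
  obtain ⟨a, ha⟩ := h.sc u g (hg ▸ (h.sp.mem _).2 ⟨_, _, rfl⟩)
  rw [hg, ← mul_one (φ a), ← κ.map_one, h.sp.eq_iff] at ha
  exact absurd ha.2 (by decide)

omit [Finite G] in
theorem comm_iff (a v v' : V3) (b w w' : W) : φ a * κ b * (φ v * κ w) = φ v' * κ w' * (φ a * κ b) ↔
    b * w = w' * b ∧ a * act b v = v' * act w' a := by
  rw [h.sp.mul_eq, h.sp.mul_eq, h.sp.eq_iff, and_comm]

omit [Finite G] in
theorem cube' (i : ZMod 3) : (φ (v3 i 0 0) * κ σ) ^ 3 = φ (v3 i i i) := by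
  rw [pow_succ, pow_two, h.sp.mul_eq, h.sp.mul_eq, cube, show σ * σ * σ = 1 by decide, map_one,
    mul_one]

omit [Finite G] h in
theorem pow3 (v : V3) : φ v ^ 3 = 1 := by
  rw [← map_pow, show v ^ 3 = 1 by revert v; decide, map_one]

omit [Finite G] in
theorem nine (i : ZMod 3) : (φ (v3 i 0 0) * κ σ) ^ 9 = 1 := by
  rw [show 9 = 3 * 3 from rfl, pow_mul, h.cube', pow3]

theorem rat (v : V3) : IsRat (φ v) := by
  obtain ⟨w, hw⟩ := real v
  exact isRat_of_cube (pow3 v) (by rw [← map_inv, ← hw]; exact h.sp.isConj_act w v)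

theorem rat' (i : ZMod 3) : IsRat (φ (v3 i 0 0) * κ σ) := by
  obtain ⟨r, hr⟩ := conj_sq i
  refine isRat_of_nine (h.nine i) (dvd_trans ?_ (card_subgroup_dvd_card H))
    (isConj_iff.2 ⟨φ r.1 * κ r.2, mul_inv_eq_iff_eq_mul.2 ?_⟩)
  · rw [h.sp.card, show Nat.card V3 = 9 * 3 by simp, mul_assoc]
    exact dvd_mul_right _ _
  · rw [pow_two, h.sp.mul_eq (v3 i 0 0), h.comm_iff]
    exact hr

theorem compl (i : ZMod 3) :
    HasNormalPComplement 3 (centralizer ({φ (v3 i 0 0) * κ σ} : Set G)) ∧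
      (Nat.card (centralizer ({φ (v3 i 0 0) * κ σ} : Set G))).factorization 3 = 2 := by
  refine compl_of_self_normalizing (H.subgroupOf _) ?_ fun n hn => ?_
  · rw [show 3 ^ 2 = 9 from rfl, ← card_cent i, ← Fintype.card_subtype, ← Nat.card_eq_fintype_card]
    symm
    refine Nat.card_eq_of_bijective (fun r => ⟨⟨φ r.1.1 * κ r.1.2, mem_centralizer_singleton_iff.2
      ((h.comm_iff _ _ _ _ _ _).2 r.2)⟩, (h.sp.mem _).2 ⟨_, _, rfl⟩⟩) ⟨fun p q e => ?_, ?_⟩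
    · exact Subtype.ext (Prod.ext_iff.2
        (h.sp.eq_iff.1 (congrArg Subtype.val (congrArg Subtype.val e))))
    · rintro ⟨⟨x, hx⟩, hx'⟩
      obtain ⟨a, b, rfl⟩ := (h.sp.mem x).1 hx'
      exact ⟨⟨(a, b), (h.comm_iff _ _ _ _ _ _).1 (mem_centralizer_singleton_iff.1 hx)⟩, rfl⟩
  · have hc : φ (v3 1 1 1) ∈ centralizer ({φ (v3 i 0 0) * κ σ} : Set G) := by
      rw [mem_centralizer_singleton_iff, ← mul_one (φ (v3 1 1 1)), ← κ.map_one, h.comm_iff,
        act_σ_c, mul_comm (v3 i 0 0)]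
      exact ⟨by simp, congrArg _ ((by decide +kernel : ∀ v, act 1 v = v) _)⟩
    exact h.fus (by decide) orb_c ((mem_normalizer_iff.1 hn ⟨_, hc⟩).1 (h.sp.φ_mem _))

theorem pairs_zero : pairs (φ (v3 1 0 0)) (φ (v3 1 0 0)) (φ (v3 0 0 0) * κ σ) = 0 := by
  rw [pairs, Nat.card_eq_zero]
  refine Or.inl ⟨fun ⟨⟨x, y⟩, hx, hy, hxy⟩ => ?_⟩
  simp only at hx hy hxy
  obtain ⟨g, rfl⟩ := isConj_iff.1 hy
  obtain ⟨k, rfl⟩ := isConj_iff.1 hx
  have d3 : (φ (v3 0 0 0) * κ σ) ^ 3 = 1 := (h.cube' 0).trans φ.map_one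
  rcases triangle (x := g * φ (v3 1 0 0) * g⁻¹) (y := (φ (v3 0 0 0) * κ σ)⁻¹)
    (by rw [conj_pow, pow3]; simp) (by rw [inv_pow, d3, inv_one])
    (by rw [← hxy, mul_inv_rev, mul_inv_cancel_left, inv_pow, conj_pow, pow3]; simp) with e | e
  · obtain ⟨m, hm⟩ := isConj_iff.1 (hy.trans e)
    exact h.not_isConj (v3 1 0 0)⁻¹ (v3 0 0 0)
      (isConj_iff.2 ⟨m, by rw [map_inv, ← conj_inv, hm, inv_inv]⟩)
  obtain ⟨z, hz1, hz3, hz, hz'⟩ := e
  have h1 : g⁻¹ * z * g ∈ centralizer ({φ (v3 1 0 0)} : Set G) :=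
    mem_centralizer_singleton_iff.2 (by
      calc g⁻¹ * z * g * φ (v3 1 0 0) = g⁻¹ * (z * (g * φ (v3 1 0 0) * g⁻¹)) * g := by group
        _ = _ := by rw [hz.eq]; group)
  obtain ⟨a, b, hab⟩ := (h.sp.mem _).1 (h.cen _ (by decide) h1)
  have hb : b = 1 := by
    rw [hab, mem_centralizer_singleton_iff, ← mul_inv_eq_iff_eq_mul, h.sp.conj_φ,
      h.sp.inj.eq_iff] at h1
    obtain ⟨v', e⟩ := h.sp.exists_pow a b 3
    rw [← hab, show g⁻¹ * z * g = g⁻¹ * z * g⁻¹⁻¹ by rw [inv_inv], conj_pow, hz3,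
      show g⁻¹ * 1 * g⁻¹⁻¹ = φ 1 * κ 1 by simp, h.sp.eq_iff] at e
    exact stab_x b h1 e.2.symm
  rw [hb, map_one, mul_one] at hab
  have ha : a ≠ 1 := by
    rintro rfl
    exact hz1 (by simpa [mul_inv_eq_iff_eq_mul, mul_assoc, inv_mul_eq_iff_eq_mul] using hab)
  have h2 : g⁻¹ * (φ (v3 0 0 0) * κ σ) * g ∈ H := h.cen a ha (mem_centralizer_singleton_iff.2 (by
    rw [← hab]
    calc g⁻¹ * (φ (v3 0 0 0) * κ σ) * g * (g⁻¹ * z * g)
        = g⁻¹ * ((φ (v3 0 0 0) * κ σ) * z) * g := by group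
      _ = _ := by rw [← (Commute.inv_right_iff.1 hz').eq]; group))
  have h3 : g⁻¹ * (φ (v3 0 0 0) * κ σ) * g =
      (g⁻¹ * k) * φ (v3 1 0 0) * (g⁻¹ * k)⁻¹ * φ (v3 1 0 0) := by rw [← hxy]; group
  obtain ⟨c, hc⟩ := h.sc (v3 1 0 0) (g⁻¹ * k) (by
    rw [h3] at h2
    exact (mul_mem_cancel_right (h.sp.φ_mem _)).1 h2)
  refine h.not_isConj (c * v3 1 0 0) (v3 0 0 0) (isConj_iff.2 ⟨g, ?_⟩)
  rw [map_mul, hc, ← h3]; group

theorem not_isConj' {i j : ZMod 3} (hij : (i = 0 ∧ j = 1) ∨ (i = 0 ∧ j = 2) ∨ (i = 1 ∧ j = 2)) :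
    ¬ IsConj (φ (v3 i 0 0) * κ σ) (φ (v3 j 0 0) * κ σ) := fun e => by
  have h3 := e.pow 3
  rw [h.cube', h.cube'] at h3
  rcases hij with ⟨rfl, rfl⟩ | ⟨rfl, rfl⟩ | ⟨rfl, rfl⟩
  · rw [show φ (v3 0 0 0) = 1 from φ.map_one, isConj_one_right, ← φ.map_one] at h3
    exact absurd (h.sp.inj h3) (by decide)
  · rw [show φ (v3 0 0 0) = 1 from φ.map_one, isConj_one_right, ← φ.map_one] at h3
    exact absurd (h.sp.inj h3) (by decide)
  · obtain ⟨g, hg⟩ := isConj_iff.1 e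
    obtain ⟨a, b, rfl⟩ := (h.sp.mem g).1 (h.fus (by decide) orb_c (by
      rw [← h.cube' 1, ← conj_pow, hg, h.cube']
      exact h.sp.φ_mem _))
    have := (h.comm_iff _ _ _ _ _ _).1 (mul_inv_eq_iff_eq_mul.1 hg)
    exact not_conj (a, b) this.1 this.2

theorem exists_ker : ∃ N : Subgroup G, N.Normal ∧ φ (v3 1 0 0) ∈ N ∧ κ σ ∉ N := by
  classical
  obtain ⟨M, hM⟩ := Block.exists_isPModular Nat.prime_three
  have o9 : ∀ {g : G}, g ^ 9 = 1 → ∃ k, orderOf g = 3 ^ k := fun hg => by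
    obtain ⟨k, -, hk⟩ := (Nat.dvd_prime_pow Nat.prime_three (m := 2)).1 (orderOf_dvd_of_pow_eq_one hg)
    exact ⟨k, hk⟩
  have oφ : ∀ v, ∃ k, orderOf (φ v) = 3 ^ k := fun v =>
    o9 (by rw [show 9 = 3 * 3 from rfl, pow_mul, pow3, one_pow])
  set y : ZMod 3 → G := fun i => φ (v3 i 0 0) * κ σ with hy
  set x := φ (v3 1 0 0) with hx
  have qy : ∀ i, IsRat (y i) := h.rat'
  have oy : ∀ i, ∃ k, orderOf (y i) = 3 ^ k := fun i => o9 (h.nine i)
  have n0 : ∀ i, ∑ χ, bv M χ (y i) * bv M χ (y i) = 9 := fun i => by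
    simp only [bv_mul_bv]
    rw [sum_bv_self hM (oy i) (qy i) (h.compl i).1, (h.compl i).2]; rfl
  have n1 : ∀ {i j}, (i = 0 ∧ j = 1) ∨ (i = 0 ∧ j = 2) ∨ (i = 1 ∧ j = 2) →
      ∑ χ, bv M χ (y i) * bv M χ (y j) = 0 := fun hij => by
    simp only [bv_mul_bv]
    exact sum_bv_of_not_isConj hM (oy _) (oy _) (qy _) (qy _) (h.not_isConj' hij)
  have n2 : ∀ i v, ∑ χ, bv M χ (y i) * iv χ (φ v) = 0 := fun i v =>
    sum_bv_of_not_isConj hM (oy _) (oφ _) (qy _) (h.rat v) fun e => h.not_isConj _ _ e.symm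
  have n3 : ∀ i, ∑ χ, bv M χ (y i) * iv χ 1 = 0 := fun i => φ.map_one ▸ n2 i 1
  have cg : ∀ i χ, (3 : ℤ) ∣ bv M χ 1 - bv M χ (y i) := fun i χ => by
    unfold bv
    split_ifs
    · have d1 := dvd_iv_pow_sub Nat.prime_three (qy i) (by rw [hy, h.cube']; exact h.rat _) χ
      have d2 := dvd_iv_one_sub Nat.prime_three (h.rat (v3 i i i)) (pow3 _) χ
      rw [hy, h.cube'] at d1
      push_cast at d1 d2
      simp only [hy]
      omega
    · simp
  have ex : ∀ a b c : ℤ, (a + b + c) % 3 = 0 → ∃ f : IrrCharacter G → ℤ,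
      (∀ χ, 3 * f χ = a * bv M χ (y 0) + b * bv M χ (y 1) + c * bv M χ (y 2)) ∧
      ∑ χ, f χ ^ 2 = a ^ 2 + b ^ 2 + c ^ 2 ∧ ∑ χ, f χ * iv χ 1 = 0 ∧ ∑ χ, f χ * iv χ x = 0 := by
    intro a b c habc
    have : ∀ χ, ∃ f, 3 * f = a * bv M χ (y 0) + b * bv M χ (y 1) + c * bv M χ (y 2) := fun χ => by
      obtain ⟨k0, h0⟩ := cg 0 χ
      obtain ⟨k1, h1⟩ := cg 1 χ
      obtain ⟨k2, h2⟩ := cg 2 χ
      obtain ⟨k, hk⟩ := Int.dvd_of_emod_eq_zero habc
      exact ⟨k * bv M χ 1 - a * k0 - b * k1 - c * k2, by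
        linear_combination a * h0 + b * h1 + c * h2 - bv M χ 1 * hk⟩
    choose f hf using this
    have lin : ∀ g : IrrCharacter G → ℤ, 3 * ∑ χ, f χ * g χ = a * ∑ χ, bv M χ (y 0) * g χ +
        b * ∑ χ, bv M χ (y 1) * g χ + c * ∑ χ, bv M χ (y 2) * g χ := fun g => by
      simp only [Finset.mul_sum, ← Finset.sum_add_distrib]
      exact Finset.sum_congr rfl fun χ _ => by linear_combination g χ * hf χ
    have l0 := lin fun χ => bv M χ (y 0)
    have l1 := lin fun χ => bv M χ (y 1)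
    have l2 := lin fun χ => bv M χ (y 2)
    have l3 := lin f
    have l4 := lin fun χ => iv χ 1
    have l5 := lin fun χ => iv χ x
    have m01 := n1 (i := 0) (j := 1) (by simp)
    have m02 := n1 (i := 0) (j := 2) (by simp)
    have m12 := n1 (i := 1) (j := 2) (by simp)
    simp only [mul_comm (bv M _ (y 1)) (bv M _ (y 0)), mul_comm (bv M _ (y 2)) (bv M _ (y 0)),
      mul_comm (bv M _ (y 2)) (bv M _ (y 1)), n0, m01, m02, m12] at l0 l1 l2
    simp only [n3] at l4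
    rw [n2 0 (v3 1 0 0), n2 1 (v3 1 0 0), n2 2 (v3 1 0 0)] at l5
    simp only [mul_comm (bv M _ _) (f _), ← pow_two] at l3
    refine ⟨f, hf, ?_, by omega, by omega⟩
    exact mul_left_cancel₀ (by norm_num : (9 : ℤ) ≠ 0) (by
      linear_combination 3 * l3 + a * l0 + b * l1 + c * l2)
  obtain ⟨D, hD, D2, D1, Dx⟩ := ex 1 1 1 rfl
  obtain ⟨F, hF, F2, F1, Fx⟩ := ex 1 (-1) 0 rfl
  obtain ⟨E, hE, E2, E1, Ex⟩ := ex 1 0 (-1) rfl
  have s1 := sum_eq_zero_of_norm_two F _ _ iv_one_pos F2 F1 Fx fun a d => (a : ℚ) ^ 2 / d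
  have s2 := sum_eq_zero_of_norm_two E _ _ iv_one_pos E2 E1 Ex fun a d => (a : ℚ) ^ 2 / d
  have s3 := pairs_mul (h.rat (v3 1 0 0)) (h.rat (v3 1 0 0)) (qy 0)
  rw [show pairs (φ (v3 1 0 0)) (φ (v3 1 0 0)) (y 0) = 0 from h.pairs_zero] at s3
  have h0 : (Nat.card G : ℚ) ≠ 0 := by exact_mod_cast Nat.card_pos.ne'
  have s4 := (mul_eq_zero.1 (s3.symm.trans (by simp))).resolve_left h0
  have van : ∀ χ, χ ∉ principalBlock M G → iv χ x = 0 := fun χ hχ => iv_eq (by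
    refine (apply_eq_zero_of_not_mem_principal hM (oφ _) (Q := φ.range) ?_ ?_ ?_ ?_ hχ).trans
      (by simp)
    · rintro ⟨_, v, rfl⟩
      exact ⟨1, Subtype.ext (pow3 v)⟩
    · rintro _ ⟨v, rfl⟩
      rw [mem_centralizer_singleton_iff, ← map_mul, ← map_mul, mul_comm]
    · refine fun g hg => mem_normalizer_fintype ?_
      rintro _ ⟨v, rfl⟩
      exact h.sp.conj_mem_range (h.cen _ (by decide) hg) v
    · intro g hg
      obtain ⟨a, b, rfl⟩ := (h.sp.mem g).1 (h.cen (v3 1 0 0) (by decide)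
        (mem_centralizer_singleton_iff.2 (mem_centralizer_iff.1 hg _ ⟨_, rfl⟩).symm))
      rw [h.sp.faith b fun v => h.sp.inj (by
        rw [← h.sp.conj_φ a, ← mem_centralizer_iff.1 hg _ ⟨v, rfl⟩, mul_inv_cancel_right])]
      exact ⟨a, by simp⟩)
  obtain ⟨l, hl⟩ := prop_of_norm_three D _ _ iv_one_pos D2 D1 Dx (by
    have s5 := congrArg₂ (· - ·) (congrArg₂ (· - ·) s4 s1) s2
    simp only [← Finset.sum_sub_distrib, sub_zero] at s5
    refine Eq.trans (Finset.sum_congr rfl fun χ _ => ?_) s5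
    have e : D χ = bv M χ (y 0) - F χ - E χ := by
      have := hD χ; have := hF χ; have := hE χ; omega
    have e' : bv M χ (y 0) * iv χ x = iv χ (y 0) * iv χ x := by
      unfold bv
      split_ifs with hχ
      · rfl
      · rw [van χ hχ]; simp
    have e'' : (bv M χ (y 0) * iv χ x : ℚ) = iv χ (y 0) * iv χ x := by exact_mod_cast e'
    rw [e]
    push_cast
    linear_combination (iv χ x / iv χ 1 : ℚ) * e'')
  have D0 : D (irrOne G) = 1 := by
    have := hD (irrOne G)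
    simp only [bv_irrOne hM] at this
    omega
  have l1 : l = 1 := by
    have := hl (irrOne G) (by omega)
    simp only [iv_irrOne] at this
    simpa using this.symm
  obtain ⟨χ, hχ⟩ : ∃ χ, D χ < 0 := by
    by_contra hn
    push Not at hn
    have := Finset.single_le_sum (f := fun χ => D χ * iv χ 1)
      (fun χ _ => mul_nonneg (hn χ) (iv_one_pos χ).le) (Finset.mem_univ (irrOne G))
    simp only [D0, D1, iv_irrOne] at this
    omega
  have hxk : x ∈ charKer (χ : G → ℂ) := by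
    have := hl χ hχ.ne
    rw [l1, one_mul, Int.cast_inj] at this
    rw [mem_charKer_irr, (h.rat _).cast, isRat_one.cast, this]
  refine ⟨charKer (χ : G → ℂ), inferInstance, hxk, fun hσ => ?_⟩
  have hyk : ∀ i, bv M χ (y i) = bv M χ 1 := fun i => by
    have : y i ∈ charKer (χ : G → ℂ) := mul_mem (by
      rw [show v3 i 0 0 = v3 1 0 0 ^ i.val by revert i; decide, map_pow]
      exact pow_mem hxk _) hσ
    rw [mem_charKer_irr] at this
    simp only [bv, iv, this]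
  have h1 := hD χ
  have h2 : 0 ≤ bv M χ 1 := by
    unfold bv
    split_ifs
    · exact (iv_one_pos χ).le
    · rfl
  simp only [hyk] at h1
  omega

theorem mem (g : G) : g ∈ H := by
  obtain ⟨N, hN, hx, hσ⟩ := h.exists_ker
  have hφ : ∀ v, φ v ∈ N := fun v => by
    have h1 : φ (act σ (v3 1 0 0)) ∈ N := h.sp.conj _ _ ▸ hN.conj_mem _ hx _
    have h2 : φ (act σ (act σ (v3 1 0 0))) ∈ N := h.sp.conj _ _ ▸ hN.conj_mem _ h1 _
    rw [span_x v, map_mul, map_mul, map_pow, map_pow, map_pow]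
    exact mul_mem (mul_mem (pow_mem hx _) (pow_mem h1 _)) (pow_mem h2 _)
  set K := N ⊔ (κ.comp ι).range with hK
  have hφK : ∀ v, φ v ∈ K := fun v => mem_sup_left (hφ v)
  have hκK : ∀ w, κ.comp ι w ∈ K := fun w => mem_sup_right ⟨w, rfl⟩
  have hs : Split (φ.codRestrict K hφK) ((κ.comp ι).codRestrict K hκK) S3701.act
      (H.subgroupOf K) := by
    refine ⟨fun a b e => h.sp.inj (congrArg Subtype.val e), fun w v => Subtype.ext ?_,
      fun ⟨k, hk⟩ => ⟨fun hH => ?_, ?_⟩, S3701.split0.faith⟩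
    · rw [← act_ι]
      exact h.sp.conj (ι w) v
    · obtain ⟨n, hn, _, ⟨u, rfl⟩, rfl⟩ := mem_sup_of_normal_left.1 hk
      obtain ⟨a, b, rfl⟩ := (h.sp.mem n).1 ((mul_mem_cancel_right (h.sp.κ_mem (ι u))).1 hH)
      have hb : κ b ∈ N := (mul_mem_cancel_left (hφ a)).1 hn
      rcases mem_or b with ⟨u', rfl⟩ | ⟨c, d, e⟩
      · exact ⟨a, u' * u, Subtype.ext (by simp [mul_assoc])⟩
      · refine absurd ?_ hσ
        rw [← e]
        simp only [map_mul, map_inv]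
        exact mul_mem (hN.conj_mem _ hb _) (hN.conj_mem _ hb _)
    · rintro ⟨v, w, e⟩
      rw [e]
      exact mul_mem (h.sp.φ_mem v) (h.sp.κ_mem (ι w))
  have h1 := eq_top_of_four hs (fun n hn => by
    obtain ⟨v, hv⟩ := (mem_normalizer_iff.1 hn _).1 ⟨v3 1 0 0, rfl⟩
    exact h.fus (u := v3 1 0 0) (by decide) orb_x (by
      have : φ v = n * φ (v3 1 0 0) * (n : G)⁻¹ := congrArg Subtype.val hv
      exact this ▸ h.sp.φ_mem v)) (by
    rintro _ ⟨v, rfl⟩ hv n hn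
    exact h.cen v (by rintro rfl; exact hv (map_one _)) (mem_centralizer_singleton_iff.2
      (congrArg Subtype.val (mem_centralizer_singleton_iff.1 hn))))
  exact h.fus (by decide) orb_x (h1 ⟨_, mem_sup_left (hN.conj_mem _ hx g)⟩)

end Hyp

/-- Let K ≤ Sym(9) be generated by (1 2 3), (1 4 7)(2 5 8)(3 6 9), (1 2)(4 5) and (1 4)(2 5)(3 6)(7 8) (the normalizer in Alt(9) of the elementary abelian group generated by (1 2 3), (4 5 6), (7 8 9)). Let G be a finite group with a subgroup H ≅ K and J = O₃(H). If C_G(j) ≤ H for every j ≠ 1 in J and J is strongly closed in H with respect to G (a G-conjugate of an element of J lying in H lies in J), then G = H. -/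
theorem result {G : Type*} [Group G] [Finite G] (H : Subgroup G)
    (hH : Nonempty (↥H ≃* ↥(Subgroup.closure ({Equiv.swap (0 : Fin 9) 1 * Equiv.swap 1 2,
        Equiv.swap (0 : Fin 9) 3 * Equiv.swap 3 6 * (Equiv.swap (1 : Fin 9) 4 * Equiv.swap 4 7) * (Equiv.swap (2 : Fin 9) 5 * Equiv.swap 5 8),
        Equiv.swap (0 : Fin 9) 1 * Equiv.swap 3 4, Equiv.swap (0 : Fin 9) 3 * Equiv.swap 1 4 * Equiv.swap 2 5 * Equiv.swap 6 7} : Set (Equiv.Perm (Fin 9))))))
    (J : Subgroup G) (hJ : J = (Cfsg.pCore 3 ↥H).map H.subtype)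
    (hC : ∀ j ∈ J, j ≠ 1 → Subgroup.centralizer ({j} : Set G) ≤ H) (hsc : Cfsg.IsStronglyClosed J H) : H = ⊤ := by
  obtain ⟨e⟩ := hH
  have h := split0.transport e
  generalize (H.subtype.comp e.symm.toMonoidHom).comp (S3701.φ0.codRestrict _ split0.φ_mem) = φ at h
  generalize (H.subtype.comp e.symm.toMonoidHom).comp (κ0.codRestrict _ split0.κ_mem) = κ at h
  have h1 : φ.range.subgroupOf H ≤ pCore 3 H := by
    refine Grp.le_pCore ⟨fun n hn g => ?_⟩ ?_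
    · obtain ⟨v, hv⟩ := hn
      have := h.conj_mem_range g.2 v
      rwa [hv] at this
    · rintro ⟨n, v, hv⟩
      exact ⟨1, Subtype.ext (Subtype.ext (by
        change (n : G) ^ 3 = 1
        rw [← show φ v = n from hv, Hyp.pow3]))⟩
  have h2 : ∀ w, (⟨κ w, h.κ_mem w⟩ : H) ∈ pCore 3 H → w ^ 4 = 1 → w = 1 := fun w hw h4 => by
    obtain ⟨k, hk⟩ := Grp.pCore_isPGroup 3 H ⟨_, hw⟩
    have h5 : w ^ 3 ^ k = 1 := h.κ_inj (by
      rw [map_pow, map_one]
      exact congrArg Subtype.val (congrArg Subtype.val hk))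
    exact (pow_eq_one_iff_of_coprime (Nat.Coprime.pow_right k (by norm_num))).1 ⟨h4, h5⟩
  have hJ' : J = φ.range := by
    rw [hJ]
    refine le_antisymm ?_ ?_
    · rintro _ ⟨⟨n, hn⟩, hn', rfl⟩
      obtain ⟨v, w, rfl⟩ := (h.mem n).1 hn
      have h3 : (⟨κ w, h.κ_mem w⟩ : H) ∈ pCore 3 H :=
        (mul_mem_cancel_left (h1 (show (⟨φ v, h.φ_mem v⟩ : H) ∈ _ from ⟨v, rfl⟩))).1 hn'
      obtain rfl : w = 1 := by
        rcases four_or w with h4 | ⟨a, ha, h4⟩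
        · exact h2 w h3 h4
        · refine absurd (h2 _ ?_ h4) ha
          have := mul_mem ((inferInstance : (pCore 3 H).Normal).conj_mem _ h3 ⟨κ a, h.κ_mem a⟩) h3
          convert this using 1
          exact Subtype.ext (by simp)
      exact ⟨v, by simp⟩
    · rintro _ ⟨v, rfl⟩
      exact ⟨⟨φ v, h.φ_mem v⟩, h1 ⟨v, rfl⟩, rfl⟩
  subst hJ'
  exact eq_top_iff.2 fun g _ => Hyp.mem ⟨h, fun v hv => hC _ ⟨v, rfl⟩ fun e =>
    hv (h.inj (e.trans φ.map_one.symm)), fun v g => hsc.2 _ ⟨v, rfl⟩ g⟩ g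

end Cfsg.Agent.S3702
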