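import Cfsg.Statements.S3430
import Cfsg.Agent.Misc.Zsigmondy

set_option autoImplicit false
open Cfsg

namespace Cfsg.Agent.S3430

open Misc.Zsig

theorem le_totient_sq (n : ℕ) : n ≤ 2 * n.totient ^ 2 ∧ (Odd n → n ≤ n.totient ^ 2) := by
  induction n using induction_on_primes with
  | zero => simp
  | one => simp
  | prime_mul r a hr ih =>
    have h2 := hr.two_le
    by_cases h : r ∣ a
    · rw [Nat.totient_mul_of_prime_of_dvd hr h, mul_pow]
      have h3 : r ≤ r ^ 2 := by nlinarith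
      refine ⟨?_, fun ho => Nat.mul_le_mul h3 (ih.2 (Nat.odd_mul.1 ho).2)⟩
      have := Nat.mul_le_mul h3 ih.1
      linarith
    · rw [Nat.totient_mul_of_prime_of_not_dvd hr h, mul_pow]
      rcases hr.eq_two_or_odd' with rfl | ho
      · refine ⟨?_, fun ho => absurd (Nat.odd_mul.1 ho).1 (by decide)⟩
        have := ih.2 (by rw [← Nat.not_even_iff_odd, even_iff_two_dvd]; exact h)
        simpa using this
      · have h3 : r ≤ (r - 1) ^ 2 := by
          obtain ⟨k, rfl⟩ := ho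
          have : 1 ≤ k := by omega
          rw [Nat.add_sub_cancel]; nlinarith
        refine ⟨?_, fun ho => Nat.mul_le_mul h3 (ih.2 (Nat.odd_mul.1 ho).2)⟩
        have := Nat.mul_le_mul h3 ih.1
        linarith

theorem ineq1 {r : ℕ} (hr : 2 ≤ r) : 3 ^ r ≤ (2 ^ r - 1) ^ 2 := by
  induction r, hr using Nat.le_induction with
  | base => norm_num
  | succ n hn ih =>
    obtain ⟨k, hk⟩ : ∃ k, 2 ^ n = k + 1 := ⟨2 ^ n - 1, by have := Nat.one_le_two_pow (n := n); omega⟩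
    rw [pow_succ 2, pow_succ 3, hk, show (k + 1) * 2 - 1 = 2 * k + 1 by omega]
    rw [hk, Nat.add_sub_cancel] at ih
    nlinarith

theorem ineq2 {r : ℕ} (hr : 5 ≤ r) : 3 ^ (r + 1) ≤ (2 ^ r - 1) ^ 2 := by
  induction r, hr using Nat.le_induction with
  | base => norm_num
  | succ n hn ih =>
    obtain ⟨k, hk⟩ : ∃ k, 2 ^ n = k + 1 := ⟨2 ^ n - 1, by have := Nat.one_le_two_pow (n := n); omega⟩
    rw [pow_succ 2, pow_succ 3, hk, show (k + 1) * 2 - 1 = 2 * k + 1 by omega]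
    rw [hk, Nat.add_sub_cancel] at ih
    nlinarith

theorem ineq3 {t : ℕ} (ht : 17 ≤ t) : ((t + 1) * (2 * t ^ 2 + 1)) ^ 2 < 3 ^ t := by
  induction t, ht using Nat.le_induction with
  | base => norm_num
  | succ n hn ih =>
    have h1 : 4 * ((n + 1 + 1) * (2 * (n + 1) ^ 2 + 1)) ≤ 5 * ((n + 1) * (2 * n ^ 2 + 1)) := by
      obtain ⟨k, rfl⟩ := Nat.exists_eq_add_of_le hn
      ring_nf; omega
    have h2 := Nat.pow_le_pow_left h1 2
    rw [mul_pow, mul_pow 5] at h2
    rw [pow_succ 3]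
    omega

theorem lower_two {n : ℕ} (hn : 2 < n) (he : 2 ∣ n) (h6 : n ≠ 6) :
    3 ^ n.totient ≤ phi n 2 ^ 2 := by
  by_cases h : ∃ r : ℕ, r.Prime ∧ r ^ 2 ∣ n
  · obtain ⟨r, hr, c, rfl⟩ := h
    have hc : 0 < c := Nat.pos_of_mul_pos_left (a := r ^ 2) (by omega)
    have h2 := hr.two_le
    have h1 : r ∣ r * c := Dvd.intro _ rfl
    rw [show r ^ 2 * c = r * (r * c) by ring, Nat.totient_mul_of_prime_of_dvd hr h1,
      mul_comm r (r * c), phi_mul_of_dvd hr h1, pow_mul]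
    have h3 := lt_phi (n := r * c) (a := 2 ^ r) (by nlinarith) (Nat.one_lt_two_pow (by omega))
    calc (3 ^ r) ^ (r * c).totient ≤ ((2 ^ r - 1) ^ 2) ^ (r * c).totient :=
          Nat.pow_le_pow_left (ineq1 h2) _
      _ = ((2 ^ r - 1) ^ (r * c).totient) ^ 2 := by rw [← pow_mul, ← pow_mul, mul_comm]
      _ ≤ _ := Nat.pow_le_pow_left h3.le _
  push Not at h
  obtain ⟨r, hr, hr5, hrn⟩ : ∃ r : ℕ, r.Prime ∧ 5 ≤ r ∧ r ∣ n := by
    have h4 := h 2 Nat.prime_two
    have h9 := h 3 Nat.prime_three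
    have key : ∀ m : ℕ, m ≠ 1 → m ∣ n → ¬ 2 ∣ m → ¬ 3 ∣ m → ∃ r : ℕ, r.Prime ∧ 5 ≤ r ∧ r ∣ n := by
      intro m h1 h2 h3 h4
      obtain ⟨r, hr, hrm⟩ := Nat.exists_prime_and_dvd h1
      refine ⟨r, hr, hr.five_le_of_ne_two_of_ne_three ?_ ?_, hrm.trans h2⟩
      · rintro rfl; exact h3 hrm
      · rintro rfl; exact h4 hrm
    by_cases h3 : 3 ∣ n
    · exact key (n / 6) (by omega) (Nat.div_dvd_of_dvd (by omega)) (by omega) (by omega)
    · exact key (n / 2) (by omega) (Nat.div_dvd_of_dvd (by omega)) (by omega) (by omega)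
  obtain ⟨m, rfl⟩ := hrn
  have hm : ¬ r ∣ m := fun h1 => h r hr (by rw [sq]; exact Nat.mul_dvd_mul_left r h1)
  have hm2 : 2 ∣ m := ((Nat.coprime_primes Nat.prime_two hr).2 (by omega)).dvd_of_dvd_mul_left he
  have hm0 : 0 < m := Nat.pos_of_mul_pos_left (a := r) (by omega)
  have h1 := phi_mul_of_not_dvd (a := 2) hr hm
  have h2 := lt_phi (n := m) (a := 2 ^ r) (by omega) (Nat.one_lt_two_pow (by omega))
  have h3 := phi_le m one_lt_two
  rw [Nat.totient_mul_of_prime_of_not_dvd hr hm, mul_comm r m]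
  apply Nat.le_of_mul_le_mul_right (c := (3 ^ m.totient) ^ 2) _ (by positivity)
  calc 3 ^ ((r - 1) * m.totient) * (3 ^ m.totient) ^ 2 = (3 ^ (r + 1)) ^ m.totient := by
        rw [← pow_mul, ← pow_mul, ← pow_add, mul_comm _ 2, ← add_mul]
        congr 2; omega
    _ ≤ ((2 ^ r - 1) ^ 2) ^ m.totient := Nat.pow_le_pow_left (ineq2 hr5) _
    _ = ((2 ^ r - 1) ^ m.totient) ^ 2 := by rw [← pow_mul, ← pow_mul, mul_comm]
    _ ≤ (phi (m * r) 2 * phi m 2) ^ 2 := Nat.pow_le_pow_left (h1 ▸ h2.le) _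
    _ ≤ (phi (m * r) 2 * 3 ^ m.totient) ^ 2 := Nat.pow_le_pow_left (Nat.mul_le_mul_left _ h3) _
    _ = _ := mul_pow _ _ _

theorem small : ∀ n < 513, 2 < n → n.totient ≤ 16 →
    (∀ k ∈ [2, 3, 5, 7, 11, 13, 17, 19], k ∣ n + 1 → k = n + 1) →
    n ∈ [4, 6, 10, 12, 16, 18, 22, 28, 30, 36, 40, 42, 60] := by
  decide +kernel

/-- The conclusion of the statement. -/
def Large (q n p : ℕ) : Prop :=
  p.Prime ∧ p ∣ q ^ n - 1 ∧ (∀ i : ℕ, 1 ≤ i → i < n → ¬ p ∣ q ^ i - 1) ∧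
    (n + 1 < p ∨ p ^ 2 ∣ q ^ n - 1)

theorem large_of {q n p : ℕ} (hp : p.Prime)
    (h : p ∣ q ^ n - 1 ∧ (∀ i < n, 1 ≤ i → ¬ p ∣ q ^ i - 1) ∧ n + 1 < p) : ∃ p, Large q n p :=
  ⟨p, hp, h.1, fun i h1 h2 => h.2.1 i h2 h1, Or.inl h.2.2⟩

theorem dvd_of_sqfree {m a : ℕ} (hm : m ≠ 0) (h1 : ∀ r : ℕ, r.Prime → ¬ r ^ 2 ∣ m)
    (h2 : ∀ r : ℕ, r.Prime → r ∣ m → r ∣ a) (ha : a ≠ 0) : m ∣ a := by
  rw [← Nat.factorization_prime_le_iff_dvd hm ha]
  intro r hr
  by_cases h : r ∣ m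
  · have h3 := (hr.dvd_iff_one_le_factorization ha).1 (h2 r hr h)
    have h4 := mt (hr.pow_dvd_iff_le_factorization hm (k := 2)).2 (h1 r hr)
    omega
  · rw [Nat.factorization_eq_zero_of_not_dvd h]; exact Nat.zero_le _

/-- Let q, n ≥ 2 be integers. Unless (n = 2 and q + 1 = 2^s·3^t for some s ≥ 0 and t ≤ 1), or (q = 2 and n ∈ {4, 6, 10, 12, 18}), or (q = 3 and n ∈ {4, 6}), or (q, n) = (5, 6), there is a prime p dividing q^n − 1 but no q^i − 1 with 1 ≤ i < n (a primitive prime divisor), such that p > n + 1 or p² divides q^n − 1. -/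
theorem result (q n : ℕ) (hq : 2 ≤ q) (hn : 2 ≤ n)
    (h1 : ¬ (n = 2 ∧ ∃ s t : ℕ, t ≤ 1 ∧ q + 1 = 2 ^ s * 3 ^ t))
    (h2 : ¬ (q = 2 ∧ (n = 4 ∨ n = 6 ∨ n = 10 ∨ n = 12 ∨ n = 18)))
    (h3 : ¬ (q = 3 ∧ (n = 4 ∨ n = 6))) (h4 : ¬ (q = 5 ∧ n = 6)) :
    ∃ p : ℕ, p.Prime ∧ p ∣ q ^ n - 1 ∧ (∀ i : ℕ, 1 ≤ i → i < n → ¬ p ∣ q ^ i - 1) ∧ (n + 1 < p ∨ p ^ 2 ∣ q ^ n - 1) := by
  change ∃ p, Large q n p
  by_contra! hno
  have hq' : 1 < q := hq
  have hall : ∀ r : ℕ, r.Prime → r ∣ phi n q → ¬ r ∣ n → r = n + 1 ∧ ¬ r ^ 2 ∣ phi n q := by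
    intro r hr h hrn
    have h5 := isPPD_of_not_dvd (by omega) hq' hr h hrn
    have h6 := h5.lt (by omega) hq'
    have h7 : ¬ (n + 1 < r ∨ r ^ 2 ∣ q ^ n - 1) := fun h => hno r ⟨hr, h5.2.1, h5.2.2, h⟩
    push Not at h7
    exact ⟨by omega, fun h => h7.2 (h.trans (phi_dvd hq'))⟩
  have hpos := phi_pos n hq'
  by_cases hn2 : n = 2
  · subst hn2
    rw [phi_two] at hall
    obtain ⟨s, m, hm, hs⟩ := Nat.exists_eq_pow_mul_and_not_dvd (n := q + 1) (by omega) 2 (by norm_num)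
    have hm0 : m ≠ 0 := by rintro rfl; simp at hm
    have h5 : ∀ r : ℕ, r.Prime → r ∣ m → r = 3 ∧ ¬ r ^ 2 ∣ q + 1 := fun r hr h =>
      hall r hr (hs ▸ h.mul_left _) fun h' =>
        hm ((Nat.prime_dvd_prime_iff_eq hr Nat.prime_two).1 h' ▸ h)
    have h6 : m ∣ 3 := dvd_of_sqfree hm0 (fun r hr h => (h5 r hr ((dvd_pow_self r two_ne_zero).trans h)).2
      (hs ▸ h.mul_left _)) (fun r hr h => (h5 r hr h).1 ▸ dvd_rfl) (by norm_num)
    rcases (Nat.dvd_prime Nat.prime_three).1 h6 with rfl | rfl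
    · exact h1 ⟨rfl, s, 0, by norm_num, hs⟩
    · exact h1 ⟨rfl, s, 1, by norm_num, hs⟩
  have hn3 : 2 < n := by omega
  have hsq : ∀ r : ℕ, r.Prime → ¬ r ^ 2 ∣ phi n q := fun r hr h => by
    by_cases hrn : r ∣ n
    · exact not_sq_dvd_phi hn3 hq' hr hrn h
    · exact (hall r hr ((dvd_pow_self r two_ne_zero).trans h) hrn).2 h
  obtain ⟨ℓ, hℓ⟩ := zsigmondy hq' (show 1 < n by omega) (by omega) (fun h => hn2 h.1)
  have hℓn : ℓ = n + 1 := by
    have h6 := hℓ.lt (by omega) hq'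
    have h7 : ¬ (n + 1 < ℓ ∨ ℓ ^ 2 ∣ q ^ n - 1) := fun h => hno ℓ ⟨hℓ.1, hℓ.2.1, hℓ.2.2, h⟩
    omega
  have hprime : (n + 1).Prime := hℓn ▸ hℓ.1
  have heven : 2 ∣ n := by have := hprime.eq_two_or_odd; omega
  obtain ⟨r, hr, hrn, hle⟩ : ∃ r : ℕ, r.Prime ∧ r ∣ n ∧ phi n q ≤ r * (n + 1) := by
    by_cases h : ∃ r : ℕ, r.Prime ∧ r ∣ n ∧ r ∣ phi n q
    · obtain ⟨r, hr, hrn, hrp⟩ := h
      refine ⟨r, hr, hrn, Nat.le_of_dvd (by have := hr.pos; positivity)
        (dvd_of_sqfree hpos.ne' hsq (fun s hs h => ?_) (by have := hr.pos; positivity))⟩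
      by_cases hsn : s ∣ n
      · rw [le_antisymm (le_of_dvd_phi (by omega) hq' hr hrp hs hsn)
          (le_of_dvd_phi (by omega) hq' hs h hr hrn)]
        exact Dvd.intro _ rfl
      · rw [(hall s hs h hsn).1]; exact Dvd.intro_left _ rfl
    · push Not at h
      refine ⟨2, Nat.prime_two, heven, Nat.le_of_dvd (by positivity)
        (dvd_of_sqfree hpos.ne' hsq (fun s hs h' => ?_) (by positivity))⟩
      rw [(hall s hs h' fun hsn => h s hs hsn h').1]; exact Dvd.intro_left _ rfl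
  have hlt := lt_phi (show 1 < n by omega) hq'
  have hlow : 3 ^ n.totient ≤ phi n q ^ 2 := by
    by_cases hq2 : q = 2
    · subst hq2; exact lower_two hn3 heven (by omega)
    · calc 3 ^ n.totient ≤ (2 ^ 2) ^ n.totient := Nat.pow_le_pow_left (by norm_num) _
        _ = (2 ^ n.totient) ^ 2 := by rw [← pow_mul, ← pow_mul, mul_comm]
        _ ≤ ((q - 1) ^ n.totient) ^ 2 :=
          Nat.pow_le_pow_left (Nat.pow_le_pow_left (by omega) _) _
        _ ≤ _ := Nat.pow_le_pow_left hlt.le _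
  have hrt : r ≤ n.totient + 1 := by
    have := Nat.le_of_dvd (Nat.totient_pos.2 (by omega)) (Nat.totient_dvd_of_dvd hrn)
    rw [Nat.totient_prime hr] at this
    omega
  have hnt := (le_totient_sq n).1
  have ht : n.totient ≤ 16 := by
    by_contra h
    have h5 := ineq3 (show 17 ≤ n.totient by omega)
    have h6 : phi n q ≤ (n.totient + 1) * (2 * n.totient ^ 2 + 1) :=
      hle.trans (Nat.mul_le_mul hrt (by omega))
    have h7 := Nat.pow_le_pow_left h6 2
    omega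
  have hn513 : n < 513 := by nlinarith
  have hmem := small n hn513 hn3 ht (fun k hk h => by
    refine ((Nat.dvd_prime hprime).1 h).resolve_left ?_
    simp only [List.mem_cons, List.not_mem_nil, or_false] at hk
    omega)
  have hbd : ∀ (t b : ℕ), n.totient = t → (t + 1) * (n + 1) ≤ b ^ t → q ≤ b := by
    intro t b h5 h7
    rw [h5] at hlt hrt
    have h9 : (q - 1) ^ t < b ^ t :=
      hlt.trans_le (hle.trans ((Nat.mul_le_mul_right _ hrt).trans h7))
    have := lt_of_pow_lt_pow_left₀ t (Nat.zero_le _) h9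
    omega
  apply absurd _ (not_exists.2 hno)
  simp only [List.mem_cons, List.not_mem_nil, or_false] at hmem
  rcases hmem with rfl | rfl | rfl | rfl | rfl | rfl | rfl | rfl | rfl | rfl | rfl | rfl | rfl
  · obtain rfl : q = 4 := by have := hbd 2 4 (by decide +kernel) (by norm_num); omega
    exact large_of (p := 17) (by norm_num) (by decide +kernel)
  · obtain rfl : q = 4 := by have := hbd 2 5 (by decide +kernel) (by norm_num); omega
    exact large_of (p := 13) (by norm_num) (by decide +kernel)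
  · obtain rfl : q = 3 := by have := hbd 4 3 (by decide +kernel) (by norm_num); omega
    exact large_of (p := 61) (by norm_num) (by decide +kernel)
  · obtain rfl : q = 3 := by have := hbd 4 3 (by decide +kernel) (by norm_num); omega
    exact large_of (p := 73) (by norm_num) (by decide +kernel)
  · obtain rfl : q = 2 := by have := hbd 8 2 (by decide +kernel) (by norm_num); omega
    exact large_of (p := 257) (by norm_num) (by decide +kernel)
  · obtain rfl : q = 3 := by have := hbd 6 3 (by decide +kernel) (by norm_num); omega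
    exact large_of (p := 37) (by norm_num) (by decide +kernel)
  · obtain rfl : q = 2 := by have := hbd 10 2 (by decide +kernel) (by norm_num); omega
    exact large_of (p := 683) (by norm_num) (by decide +kernel)
  · obtain rfl : q = 2 := by have := hbd 12 2 (by decide +kernel) (by norm_num); omega
    exact large_of (p := 113) (by norm_num) (by decide +kernel)
  · obtain rfl | rfl : q = 2 ∨ q = 3 := by
      have := hbd 8 3 (by decide +kernel) (by norm_num); omega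
    · exact large_of (p := 331) (by norm_num) (by decide +kernel)
    · exact large_of (p := 271) (by norm_num) (by decide +kernel)
  · obtain rfl : q = 2 := by have := hbd 12 2 (by decide +kernel) (by norm_num); omega
    exact large_of (p := 109) (by norm_num) (by decide +kernel)
  · obtain rfl : q = 2 := by have := hbd 16 2 (by decide +kernel) (by norm_num); omega
    exact large_of (p := 61681) (by norm_num) (by decide +kernel)
  · obtain rfl : q = 2 := by have := hbd 12 2 (by decide +kernel) (by norm_num); omega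
    exact large_of (p := 5419) (by norm_num) (by decide +kernel)
  · obtain rfl : q = 2 := by have := hbd 16 2 (by decide +kernel) (by norm_num); omega
    exact large_of (p := 1321) (by norm_num) (by decide +kernel)

end Cfsg.Agent.S3430
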