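import Cfsg.Statements.S3360
import Cfsg.Agent.Perm.Huppert2
import Cfsg.Agent.S3430

set_option autoImplicit false
open Cfsg

namespace Cfsg.Agent.S3360

open Perm.SemiLin

/-- Let q be a prime and V a non-trivial finite vector space over the field with q elements, and let G be a finite solvable group acting faithfully and linearly on V and transitively on the non-zero vectors. Then either V can be identified with the additive group of a finite field F in such a way that every element of G acts as x ↦ a·σ(x) for some a ∈ F and some field automorphism σ, or the number of elements of V is one of 3^2, 5^2, 7^2, 11^2, 23^2, 3^4. -/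
theorem result
    (q : ℕ) [Fact q.Prime] {V : Type*} [AddCommGroup V] [Module (ZMod q) V] [Finite V] [Nontrivial V]
    {G : Type*} [Group G] [Finite G] (hsol : Group.IsSolvable G)
    (ρ : G →* (V ≃ₗ[ZMod q] V)) (hρ : Function.Injective ρ)
    (htrans : ∀ v w : V, v ≠ 0 → w ≠ 0 → ∃ g : G, ρ g v = w) :
    (∃ (F : Type) (_ : Field F) (_ : Fintype F) (e : V ≃+ F),
        ∀ g : G, ∃ (a : F) (σ : F ≃+* F), ∀ v : V, e (ρ g v) = a * σ (e v)) ∨
    Nat.card V ∈ ({9, 25, 49, 121, 529, 81} : Set ℕ) := by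
  have hq : q.Prime := Fact.out
  let ρ' : G →* Module.End (ZMod q) V :=
    { toFun := fun g => (ρ g : V →ₗ[ZMod q] V), map_one' := by simp; rfl
      map_mul' := fun a b => by simp }
  have hρ' : Function.Injective ρ' := fun a b h => hρ (LinearEquiv.toLinearMap_injective h)
  have ht : Trans ρ' := htrans
  obtain ⟨n, hn⟩ : ∃ n, Nat.card V = q ^ n :=
    ⟨_, by rw [Module.natCard_eq_pow_finrank (K := ZMod q), Nat.card_zmod]⟩
  have hn0 : n ≠ 0 := by
    rintro rfl
    exact Finite.one_lt_card.ne' hn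
  have fin : IsSemiLin ρ' n → ∃ (F : Type) (_ : Field F) (_ : Fintype F) (e : V ≃+ F),
      ∀ g : G, ∃ (a : F) (σ : F ≃+* F), ∀ v : V, e (ρ g v) = a * σ (e v) := by
    rintro ⟨f, hf⟩
    refine ⟨GaloisField q n, inferInstance, Fintype.ofFinite _, f.toAddEquiv, fun g => ?_⟩
    obtain ⟨a, σ, -, h⟩ := hf g
    exact ⟨a, σ, h⟩
  have hd := ht.card_dvd
  rw [hn] at hd
  have ppd : ∀ ℓ : ℕ, ℓ.Prime → (ℓ ∣ q ^ n - 1 ∧ ∀ k < n, 0 < k → ¬ ℓ ∣ q ^ k - 1) →
      (q ≠ 2 → ¬ ∃ m, ℓ = 2 ^ m + 1) → IsSemiLin ρ' n := fun ℓ h1 h2 h3 =>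
    semilinear_of_ppd_dvd hρ' (by omega) hn ⟨h1, h2.1, fun k a b => h2.2 k b a⟩ (h2.1.trans hd)
      fun h _ => h3 h
  have not7 : ¬ ∃ m, 7 = 2 ^ m + 1 := by
    rintro ⟨m, hm⟩
    have : 3 ∣ 2 ^ m := ⟨2, by omega⟩
    exact absurd (Nat.prime_three.dvd_of_dvd_pow this) (by norm_num)
  by_cases hn1 : n = 1
  · subst hn1
    exact Or.inl (fin (semilinear_of_dim_one ρ' hn))
  by_cases hn2 : n = 2
  · subst hn2
    rcases ht.dim_two hρ' hn with h | h
    · exact Or.inl (fin h)
    by_cases hq2 : q = 2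
    · subst hq2
      exact Or.inl (fin (ppd 3 (by norm_num) (by decide) fun h => absurd rfl h))
    right
    have h1 := Nat.le_of_dvd (by norm_num) h
    have h2 := hq.two_le
    have h3 : q ≤ 23 := by omega
    rw [hn]
    clear * - h h2 h3 hq2
    interval_cases q <;> simp_all
  by_cases h2 : q = 2 ∧ (n = 4 ∨ n = 6 ∨ n = 10 ∨ n = 12 ∨ n = 18)
  · obtain ⟨rfl, rfl | rfl | rfl | rfl | rfl⟩ := h2
    · exact Or.inl (fin (ppd 5 (by norm_num) (by decide) fun h => absurd rfl h))
    · exact Or.inl (fin (ht.two_six hρ' hn))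
    · exact Or.inl (fin (ppd 11 (by norm_num) (by decide) fun h => absurd rfl h))
    · exact Or.inl (fin (ppd 13 (by norm_num) (by decide) fun h => absurd rfl h))
    · exact Or.inl (fin (ppd 19 (by norm_num) (by decide) fun h => absurd rfl h))
  by_cases h3 : q = 3 ∧ (n = 4 ∨ n = 6)
  · obtain ⟨rfl, rfl | rfl⟩ := h3
    · right; rw [hn]; simp
    · exact Or.inl (fin (ppd 7 (by norm_num) (by decide) fun _ => not7))
  by_cases h4 : q = 5 ∧ n = 6
  · obtain ⟨rfl, rfl⟩ := h4
    exact Or.inl (fin (ppd 7 (by norm_num) (by decide) fun _ => not7))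
  obtain ⟨ℓ, h5, h6, h7, h8⟩ := S3430.result q n hq.two_le (by omega) (fun h => hn2 h.1) h2 h3 h4
  exact Or.inl (fin (ht.isSemiLin_of_large hρ' (by omega) hn ⟨h5, h6, h7⟩ h8))

end Cfsg.Agent.S3360
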