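import Cfsg.Statements.S2392
import Mathlib
import Cfsg.Agent.KSG.SpSiegel
import Cfsg.Agent.Class.GLStab

set_option autoImplicit false
open scoped MatrixGroups
open Cfsg

namespace Cfsg.Agent.S2392

section
open Matrix
variable {F : Type*} [Field F] {m : ℕ} {ι : Type} [Fintype ι] [DecidableEq ι]

/-- The elements `[1 a; 0 M]` of `SL_{m+1}`. -/
def blk (e : Fin 1 ⊕ Fin m ≃ ι) (a : Fin m → F) (M : Matrix (Fin m) (Fin m) F) (h : M.det = 1) :
    Matrix.SpecialLinearGroup ι F :=
  ⟨reindex e e (fromBlocks 1 (replicateRow (Fin 1) a) 0 M), by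
    rw [det_reindex_self, det_fromBlocks_zero₂₁]; simp [h]⟩

theorem blk_mul (e : Fin 1 ⊕ Fin m ≃ ι) (a b : Fin m → F) (M N : Matrix (Fin m) (Fin m) F)
    (h : M.det = 1) (h' : N.det = 1) :
    blk e a M h * blk e b N h' = blk e (b + a ᵥ* N) (M * N) (by simp [h, h']) := by
  apply Subtype.ext
  rw [Matrix.SpecialLinearGroup.coe_mul]
  simp only [blk, reindex_apply, submatrix_mul_equiv, fromBlocks_multiply]
  simp [replicateRow_add, replicateRow_vecMul]

/-- The elements `[1 a; 0 1]` of `SL_{m+1}`. -/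
def rowChar (F : Type*) [Field F] (e : Fin 1 ⊕ Fin m ≃ ι) :
    AddChar (Fin m → F) (Matrix.SpecialLinearGroup ι F) where
  toFun a := blk e a 1 det_one
  map_zero_eq_one' := by
    apply Subtype.ext
    simp [blk, fromBlocks_one]
  map_add_eq_mul' a b := by
    rw [blk_mul]
    simp [add_comm]

theorem rowChar_apply (e : Fin 1 ⊕ Fin m ≃ ι) (a : Fin m → F) :
    rowChar F e a = blk e a 1 det_one := rfl

theorem rowChar_mul_levi (e : Fin 1 ⊕ Fin m ≃ ι) (M : Matrix (Fin m) (Fin m) F)
    (h : M.det = 1) (a : Fin m → F) :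
    rowChar F e a * blk e 0 M h = blk e 0 M h * rowChar F e (a ᵥ* M) := by
  simp only [rowChar_apply, blk_mul]
  simp

theorem rowChar_not_mem_center (e : Fin 1 ⊕ Fin m ≃ ι) {a : Fin m → F} (ha : a ≠ 0) :
    rowChar F e a ∉ Subgroup.center (Matrix.SpecialLinearGroup ι F) := by
  rw [Matrix.SpecialLinearGroup.mem_center_iff]
  rintro ⟨r, -, hr⟩
  apply ha
  ext j
  have := congrFun (congrFun hr (e (Sum.inl 0))) (e (Sum.inr j))
  have hne : e (Sum.inl 0) ≠ e (Sum.inr j) := by simp
  rw [scalar_apply, diagonal_apply_ne _ hne] at this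
  simpa [rowChar_apply, blk] using this.symm

end


/-- A lower bound for representations in cross characteristic: for `n ≥ 3` and a field `F` with `q` elements, every homomorphism from `SL_n(F)` to `GL_d(K)`, `K` a field of characteristic different from that of `F`, whose kernel is central has `d ≥ q^(n-1) - 1`. -/
theorem result {F : Type*} [Field F] [Fintype F] {q : ℕ} (hq : Fintype.card F = q) (n : ℕ) (hn : 3 ≤ n)
    {K : Type*} [Field K] (hK : ringChar K ≠ ringChar F) {d : ℕ}
    (ρ : Matrix.SpecialLinearGroup (Fin n) F →* GL (Fin d) K) (hker : ρ.ker ≤ Subgroup.center (Matrix.SpecialLinearGroup (Fin n) F)) :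
    q ^ (n - 1) - 1 ≤ d := by
  obtain ⟨m, rfl⟩ : ∃ m, n = m + 1 := ⟨n - 1, by omega⟩
  obtain ⟨ψ, hψ⟩ := KSG.exists_addChar_ne_one F K hK
  have hK' : ringChar (AlgebraicClosure K) ≠ ringChar F := by
    rwa [Algebra.ringChar_eq K (AlgebraicClosure K)] at hK
  have hA := KSG.natCard_ne_zero_of_ringChar_ne (Fin m → F) _ hK'
  let e : Fin 1 ⊕ Fin m ≃ Fin (m + 1) := finSumFinEquiv.trans (finCongr (Nat.add_comm 1 m))
  set σ := KSG.glExtend (AlgebraicClosure K) ρ
  have hv : (Pi.single ⟨0, by omega⟩ 1 : Fin m → F) ≠ 0 := by simp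
  obtain ⟨f, hf, hf0⟩ := KSG.exists_wt_of_ne_one hψ hA (σ.compAddChar (rowChar F e))
    (KSG.glExtend_ne_one _ ρ fun h => rowChar_not_mem_center e hv (hker h))
  have hle := KSG.ncard_wt_le_finrank hψ hA (σ.compAddChar (rowChar F e))
  rw [Module.finrank_fin_fun] at hle
  refine le_trans ?_ hle
  have := KSG.finite_dual (F := F) (A := Fin m → F)
  have hc := KSG.card_dual_eq (F := F) (A := Fin m → F)
  rw [Nat.card_fun, Nat.card_eq_fintype_card (α := Fin m), Fintype.card_fin,
    Nat.card_eq_fintype_card (α := F), hq] at hc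
  have h1 : (Set.univ \ {0} : Set (Module.Dual F (Fin m → F))).ncard = q ^ m - 1 := by
    rw [Set.ncard_sdiff_singleton_of_mem (Set.mem_univ _), Set.ncard_univ, hc]
  rw [add_tsub_cancel_right, ← h1]
  refine Set.ncard_le_ncard ?_ (Set.toFinite _)
  rintro g ⟨-, hg⟩
  obtain ⟨w, hw⟩ := Class.GLStab.exists_dot_eq f
  obtain ⟨w', hw'⟩ := Class.GLStab.exists_dot_eq g
  have : Nontrivial (Fin m) := Fin.nontrivial_iff_two_le.2 (by omega)
  obtain ⟨M, hM, hMw⟩ := Class.GLStab.exists_det_eq_mulVec_eq (u := w) (u' := w') (d := (1 : F))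
    (by rintro rfl; apply hf0; rw [← hw]; simp)
    (by rintro rfl; apply hg; ext1 i; ext; simp [← hw']) one_ne_zero
  refine KSG.wtSpace_ne_bot_of_map (σ (blk e 0 _ hM)) (KSG.rep_injective σ _)
    (fun a => Matrix.vecMul a M) (fun a => ?_) (fun a => ?_) hf
  · simp only [MonoidHom.compAddChar_apply, Function.comp_apply]
    rw [← map_mul, ← map_mul, rowChar_mul_levi]
  · rw [← hw, ← hw', ← hMw, dotProduct_comm, Matrix.dotProduct_mulVec, dotProduct_comm]

end Cfsg.Agent.S2392
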