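import Cfsg.Statements.S2941
import Mathlib
import Cfsg.Agent.PLocal.Amb
import Cfsg.Agent.PLocal.Thompson
import Cfsg.Agent.Grp.Card

set_option autoImplicit false
open Cfsg

namespace Cfsg.Agent.S2941

open Cfsg.Agent.PLocal

/-- Let G be a finite group of characteristic 2 type in which every 2-local subgroup is solvable and the centralizer of Ω₁(Z(S)) lies in N_G(S) for every Sylow 2-subgroup S, and let T be a nontrivial 2-subgroup and K a J(T)-component (J the Thompson subgroup generated by the elementary abelian 2-subgroups of largest order). If a subgroup Q is normalized by ⟨K, J(T)⟩ and normalizes J(T), then Q normalizes K. -/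
theorem result {G : Type*} [Group G] [Finite G] (hL : Cfsg.IsCharacteristicTwoType G) (hN : ∀ N : Subgroup G, Cfsg.IsTwoLocal N → Group.IsSolvable ↥N)
    (hZ : ∀ S : Sylow 2 G, Subgroup.centralizer (Cfsg.omegaCenterOf (S : Subgroup G) : Set G) ≤ Subgroup.normalizer ((S : Subgroup G) : Set G)) (T : Subgroup G) (hT : IsPGroup 2 ↥T) (hT1 : T ≠ ⊥) (K : Subgroup G) (hK : Cfsg.IsJComponent T K)
    (Q : Subgroup G) (hQ1 : K ⊔ Cfsg.thompsonSubgroupOf 2 T ≤ Subgroup.normalizer (Q : Set G)) (hQ2 : Q ≤ Subgroup.normalizer (Cfsg.thompsonSubgroupOf 2 T : Set G)) :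
    Q ≤ Subgroup.normalizer (K : Set G) := by
  obtain ⟨hK1, hK2, -⟩ := hK
  set J := Cfsg.thompsonSubgroupOf 2 T with hJ
  have hJp : IsPGroup 2 J := hT.to_le (thompsonSubgroupOf_le T)
  have hJK : J ≤ Subgroup.normalizer (K : Set G) := by
    rw [← hK2]
    exact Subgroup.normalizer_commutator_ge_right K J
  -- elements `x` of `K ⊔ J` with `[q, x] ∈ K ⊔ J` for all `q ∈ Q`
  let X : Subgroup G :=
    { carrier := {x | x ∈ K ⊔ J ∧ ∀ q ∈ Q, q * x * q⁻¹ ∈ K ⊔ J}
      mul_mem' := by
        rintro a b ⟨ha, ha'⟩ ⟨hb, hb'⟩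
        refine ⟨Subgroup.mul_mem _ ha hb, fun q hq => ?_⟩
        have := Subgroup.mul_mem _ (ha' q hq) (hb' q hq)
        simpa [mul_assoc] using this
      one_mem' := ⟨Subgroup.one_mem _, fun q _ => by simp⟩
      inv_mem' := by
        rintro a ⟨ha, ha'⟩
        refine ⟨Subgroup.inv_mem _ ha, fun q hq => ?_⟩
        have := Subgroup.inv_mem _ (ha' q hq)
        simpa [mul_assoc] using this }
  have hJX : J ≤ X := fun j hj => ⟨Subgroup.mem_sup_right hj, fun q hq =>
    Subgroup.mem_sup_right (Amb.conj_mem_of_mem_normalizer (hQ2 hq) hj)⟩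
  have hKX : K ≤ X := by
    rw [← hK2, Subgroup.commutator_le]
    intro k hk j hj
    rw [commutatorElement_def]
    refine X.mul_mem ?_ (X.inv_mem (hJX hj))
    have hk' : k ∈ K ⊔ J := Subgroup.mem_sup_left hk
    refine ⟨Subgroup.mul_mem _ (Subgroup.mul_mem _ hk' (Subgroup.mem_sup_right hj))
      (Subgroup.inv_mem _ hk'), fun q hq => ?_⟩
    have h1 := (hJX hj).2 _ (Amb.inv_conj_mem_of_mem_normalizer (hQ1 hk') hq)
    have h2 := Subgroup.mul_mem _ (Subgroup.mul_mem _ hk' h1) (Subgroup.inv_mem _ hk')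
    convert h2 using 1
    group
  -- odd order elements of `K ⊔ J` lie in `K`
  have hodd : ∀ x ∈ K ⊔ J, Odd (orderOf x) → x ∈ K := by
    intro x hx hox
    have hn := Grp.normal_subgroupOf_sup_of_le_normalizer hJK
    have hc := Grp.card_sup_mul_card_inf_of_le_normalizer hJK
    have hx' : x ∈ J ⊔ K := by rwa [sup_comm]
    have h1 : Subgroup.zpowers (⟨x, hx'⟩ : ↥(J ⊔ K)) ≤ K.subgroupOf (J ⊔ K) := by
      apply Grp.le_normal_of_coprime_card_index
      rw [Nat.card_zpowers, ← Subgroup.orderOf_coe]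
      obtain ⟨n, hn⟩ := IsPGroup.iff_card.1 hJp
      have h2 : K.relIndex (J ⊔ K) ∣ 2 ^ n := by
        rw [relIndex_sup_of_le_normalizer hJK, ← hn]
        exact Subgroup.relIndex_dvd_card K J
      exact Nat.Coprime.coprime_dvd_right h2 (Nat.Coprime.pow_right _ (Odd.coprime_two_right hox))
    exact Subgroup.mem_subgroupOf.1 (h1 (Subgroup.mem_zpowers _))
  intro q hq
  apply Amb.mem_normalizer_of_cj_le
  conv_lhs => rw [← hK1]
  rw [MonoidHom.map_closure, Subgroup.closure_le]
  rintro _ ⟨x, ⟨hx, hox⟩, rfl⟩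
  refine hodd _ ((hKX hx).2 q hq) ?_
  rw [← (MulAut.conj q).orderOf_eq x] at hox
  exact hox


end Cfsg.Agent.S2941
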