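import Mathlib
import Cfsg.Statements.S0591

set_option autoImplicit false
open Cfsg

namespace Cfsg.Agent.S0591

open scoped commutatorElement

/-- For a quadratically acting element a on an elementary abelian p-group V, the fixed points C_V(a) have order at least the square root of the order of V. -/
theorem result {G : Type*} [Group G] [Finite G] {p : ℕ} [Fact p.Prime] (V : Subgroup G) (hV : Cfsg.IsElementaryAbelian p V) (a : G) (ha : a ∈ Subgroup.normalizer (V : Set G)) (hq : ⁅⁅V, Subgroup.zpowers a⁆, Subgroup.zpowers a⁆ = ⊥) : Nat.card V ≤ Nat.card ↥(V ⊓ Subgroup.centralizer (Subgroup.zpowers a : Set G)) ^ 2 := by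
  have hcomm : ∀ x ∈ V, ∀ y ∈ V, x * y = y * x := fun x hx y hy => by
    have := hV.1
    exact congrArg Subtype.val (mul_comm' (⟨x, hx⟩ : V) ⟨y, hy⟩)
  have hconj : ∀ v ∈ V, a * v * a⁻¹ ∈ V := fun v hv => (Subgroup.mem_normalizer_iff.1 ha _).1 hv
  set C := V ⊓ Subgroup.centralizer (Subgroup.zpowers a : Set G) with hC
  have hmem : ∀ v : V, ⁅(v : G), a⁆ ∈ C := by
    intro v
    refine ⟨?_, ?_⟩
    · rw [commutatorElement_def]
      simpa [mul_assoc] using V.mul_mem v.2 (hconj _ (V.inv_mem v.2))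
    · exact Subgroup.commutator_eq_bot_iff_le_centralizer.1 hq
        (Subgroup.commutator_mem_commutator v.2 (Subgroup.mem_zpowers a))
  let f : V →* C := MonoidHom.mk' (fun v => ⟨⁅(v : G), a⁆, hmem v⟩) (by
    intro v w
    apply Subtype.ext
    simp only [Subgroup.coe_mul, commutatorElement_def, mul_inv_rev]
    have h1 := hcomm _ (hconj _ (V.inv_mem v.2)) _ (V.mul_mem w.2 (hconj _ (V.inv_mem w.2)))
    calc (v : G) * w * a * ((w : G)⁻¹ * (v : G)⁻¹) * a⁻¹
        = v * (w * (a * (w : G)⁻¹ * a⁻¹) * (a * (v : G)⁻¹ * a⁻¹)) := by group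
      _ = v * ((a * (v : G)⁻¹ * a⁻¹) * (w * (a * (w : G)⁻¹ * a⁻¹))) := by rw [h1]
      _ = _ := by group)
  have h1 : Nat.card V = Nat.card f.ker * Nat.card f.range := by
    rw [← Subgroup.card_mul_index f.ker, Subgroup.index_ker]
  have h2 : Nat.card f.range ≤ Nat.card C := Nat.card_le_card_of_injective _ f.range.subtype_injective
  have h3 : Nat.card f.ker ≤ Nat.card C := by
    refine Nat.card_le_card_of_injective (fun v => ⟨v.1.1, v.1.2, ?_⟩) ?_
    · have : ⁅(v.1 : G), a⁆ = 1 := congrArg Subtype.val v.2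
      rintro _ ⟨k, rfl⟩
      exact ((commutatorElement_eq_one_iff_commute.1 this).zpow_right k).symm
    · intro v w h
      exact Subtype.ext (Subtype.ext (congrArg (fun x : C => (x : G)) h))
  rw [h1, pow_two]
  exact Nat.mul_le_mul h3 h2

end Cfsg.Agent.S0591
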