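import Cfsg.Statements.S0898
import Cfsg.Agent.Char.Leonard

set_option autoImplicit false
open Cfsg

namespace Cfsg.Agent.S0898

open Cfsg.Agent.Char in

/-- Let H be an abelian subgroup of the finite group G meeting the centre of G trivially, such that for every non-central g the centralizer of g has nontrivial intersection with at most one conjugate of H. Let χ be an irreducible character of G with χ h ≠ χ 1 for some h in H, and let c be the inner product of the restriction of χ to H with the principal character. Then χ(1)² > (order of H)·c²; and if in addition χ 1 ≠ 1 and no proper normal subgroup of G contains H, then (1 + χ 1)² > order of H (both sides read as real numbers). -/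
theorem result {G : Type*} [Group G] [Fintype G] (H : Subgroup G) [Fintype H] (hab : ∀ a ∈ H, ∀ b ∈ H, a * b = b * a) (hZ : H ⊓ Subgroup.center G = ⊥) (hone : ∀ g : G, g ∉ Subgroup.center G → ∀ a b : G, Subgroup.centralizer ({g} : Set G) ⊓ H.map (MulAut.conj a).toMonoidHom ≠ ⊥ → Subgroup.centralizer ({g} : Set G) ⊓ H.map (MulAut.conj b).toMonoidHom ≠ ⊥ → H.map (MulAut.conj a).toMonoidHom = H.map (MulAut.conj b).toMonoidHom) (χ : G → ℂ) (hχ : Cfsg.IsIrrCharacter G χ) (hker : ∃ h ∈ H, χ h ≠ χ 1) : (χ 1).re ^ 2 > (Nat.card H : ℝ) * (Cfsg.classInner (fun h : H => χ h) (fun _ => 1)).re ^ 2 ∧ (χ 1 ≠ 1 → (∀ M : Subgroup G, M.Normal → H ≤ M → M = ⊤) → (1 + (χ 1).re) ^ 2 > (Nat.card H : ℝ)) := by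
  have hone' : ∀ g x : G, x ∉ Subgroup.center G → (∃ h ∈ H, h ≠ 1 ∧ h * x = x * h) →
      (∃ h ∈ H, h ≠ 1 ∧ h * (g * x * g⁻¹) = g * x * g⁻¹ * h) →
      g ∈ Subgroup.normalizer (H : Set G) := by
    rintro g x hx ⟨a, ha, ha1, ha2⟩ ⟨b, hb, hb1, hb2⟩
    have h := hone x hx 1 g⁻¹ (fun h => ha1 ?_) (fun h => hb1 ?_)
    · rw [Subgroup.mem_normalizer_iff]
      intro y
      have h1 := SetLike.ext_iff.1 h y
      simp only [Subgroup.mem_map, MulEquiv.coe_toMonoidHom, MulAut.conj_apply, one_mul, inv_one,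
        mul_one, exists_eq_right, inv_inv] at h1
      rw [h1]
      constructor
      · rintro ⟨z, hz, rfl⟩
        rwa [show g * (g⁻¹ * z * g) * g⁻¹ = z by group]
      · exact fun hy => ⟨_, hy, by group⟩
    · rw [← Subgroup.mem_bot, ← h]
      exact ⟨Subgroup.mem_centralizer_singleton_iff.2 ha2, a, ha, by simp⟩
    · have : g⁻¹ * b * g ∈ (⊥ : Subgroup G) := by
        rw [← h]
        refine ⟨Subgroup.mem_centralizer_singleton_iff.2 ?_, b, hb, by simp⟩
        calc g⁻¹ * b * g * x = g⁻¹ * (b * (g * x * g⁻¹)) * g := by group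
          _ = _ := by rw [hb2]; group
      rw [Subgroup.mem_bot] at this
      calc b = g * (g⁻¹ * b * g) * g⁻¹ := by group
        _ = 1 := by rw [this]; group
  refine ⟨?_, fun h1 hM => leonard_bound' H hab hZ hone' hM hχ h1⟩
  obtain ⟨k, hk, hk1⟩ := hker
  have h := leonard_bound H hab hZ hone' hχ hk hk1
  obtain ⟨d, -, hd⟩ := hχ.exists_nat_one
  obtain ⟨c, hc⟩ := (hχ.isCharacter.restrict H).exists_nat_inner isCharacter_one
  rw [hc, hd, Complex.norm_natCast, Complex.norm_natCast] at h
  rwa [hc, hd, Complex.natCast_re, Complex.natCast_re]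

end Cfsg.Agent.S0898
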