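import Cfsg.Statements.S0899
import Cfsg.Agent.S0898
import Cfsg.Agent.S4468
import Cfsg.Agent.Char.Blichfeldt
import Cfsg.Agent.Transfer.Focal

set_option autoImplicit false
open Cfsg

namespace Cfsg.Agent.S0899


open Cfsg.Agent.Char Subgroup

universe u

/-- Any two `p`-subgroups of `K` generate a `p`-group. -/
def NS (p : ℕ) {G : Type*} [Group G] (K : Subgroup G) : Prop :=
  ∀ A ≤ K, ∀ B ≤ K, IsPGroup p A → IsPGroup p B → IsPGroup p (A ⊔ B : Subgroup G)

variable {p : ℕ} [hp : Fact p.Prime]

theorem ns_of_normal {G : Type*} [Group G] [Finite G] {K : Subgroup G}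
    (h : ∀ Q : Sylow p K, (Q : Subgroup K).Normal) : NS p K := by
  intro A hA B hB h1 h2
  obtain ⟨Q⟩ : Nonempty (Sylow p K) := inferInstance
  have := h Q
  have := Sylow.unique_of_normal Q this
  have key : ∀ C ≤ K, IsPGroup p C → C ≤ (Q : Subgroup K).map K.subtype := fun C hC h3 => by
    have h4 : IsPGroup p (C.subgroupOf K) := h3.comap_of_injective K.subtype K.subtype_injective
    obtain ⟨R, hR⟩ := h4.exists_le_sylow
    rw [Subsingleton.elim R Q] at hR
    intro x hx
    exact ⟨⟨x, hC hx⟩, hR hx, rfl⟩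
  exact (Q.isPGroup'.map K.subtype).to_le (sup_le (key A hA h1) (key B hB h2))

omit hp in
theorem le_of_ns {G : Type*} [Group G] {K : Subgroup G} (h : NS p K) (P : Sylow p G)
    (hP : (P : Subgroup G) ≤ K) {A : Subgroup G} (hA : A ≤ K) (h1 : IsPGroup p A) :
    A ≤ P :=
  le_sup_right.trans (P.is_maximal' (h _ hP _ hA P.isPGroup' h1) le_sup_left).le

omit hp in
theorem normal_of_ns {G : Type*} [Group G] {K : Subgroup G} [hK : K.Normal] (h : NS p K)
    (P : Sylow p G) (hP : (P : Subgroup G) ≤ K) : (P : Subgroup G).Normal := by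
  refine ⟨fun x hx g => ?_⟩
  have h1 : (P : Subgroup G).map (MulAut.conj g).toMonoidHom ≤ P :=
    le_of_ns h P hP (by
      rintro _ ⟨y, hy, rfl⟩
      exact hK.conj_mem y (hP hy) g) (P.isPGroup'.map _)
  exact h1 ⟨x, hx, rfl⟩

omit hp in
theorem ns_of_map {G : Type*} [Group G] {H : Subgroup G} {K : Subgroup H}
    (h : NS p (K.map H.subtype)) : NS p K := by
  intro A hA B hB h1 h2
  have h3 := h _ (map_mono hA) _ (map_mono hB) (h1.map _) (h2.map _)
  rw [← Subgroup.map_sup] at h3
  exact h3.of_equiv (equivMapOfInjective _ _ H.subtype_injective).symm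

theorem psolv {G : Type*} [Group G] [Finite G] (P : Sylow p G)
    (h1 : commutator G ⊔ (P : Subgroup G) = ⊤) (h2 : NS p (commutator G)) : IsPSolvable p G := by
  obtain ⟨Q⟩ : Nonempty (Sylow p (commutator G)) := inferInstance
  have hQ : (Q : Subgroup (commutator G)).Normal :=
    normal_of_ns (K := ⊤) (ns_of_map (by rwa [← MonoidHom.range_eq_map, range_subtype])) Q le_top
  have hc := Sylow.characteristic_of_normal Q hQ
  have hn : ((Q : Subgroup (commutator G)).map (commutator G).subtype).Normal := inferInstance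
  refine ⟨3, ![⊥, (Q : Subgroup (commutator G)).map (commutator G).subtype, commutator G, ⊤],
    rfl, rfl, ?_, ?_, ?_⟩
  · refine Fin.monotone_iff_le_succ.mpr fun i => ?_
    fin_cases i
    · exact bot_le
    · exact map_subtype_le _
    · exact le_top
  · intro i
    fin_cases i
    · exact normal_bot
    · exact hn
    · exact (inferInstance : (commutator G).Normal)
    · exact normal_top
  · intro i
    fin_cases i
    · left
      obtain ⟨m, hm⟩ := IsPGroup.iff_card.mp (Q.isPGroup'.map (commutator G).subtype)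
      exact ⟨m, by simpa using hm⟩
    · right
      have h3 : ((Q : Subgroup (commutator G)).map (commutator G).subtype).relIndex
          (commutator G) = (Q : Subgroup (commutator G)).index := by
        rw [relIndex, subgroupOf, comap_map_eq_self_of_injective (subtype_injective _)]
      have h4 := (Nat.coprime_comm.mp ((Nat.Prime.coprime_iff_not_dvd hp.out).mpr Q.not_dvd_index))
      rw [← h3] at h4
      exact h4
    · left
      have h3 : (commutator G).relIndex (⊤ : Subgroup G) = (commutator G).relIndex P := by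
        rw [← h1, relIndex_sup_left]
      obtain ⟨m, hm⟩ := P.isPGroup'.index ((commutator G).subgroupOf P)
      exact ⟨m, h3.trans hm⟩

theorem main (n m : ℕ) : ∀ (G : Type u) [Group G] [Finite G], Nat.card G = m → ∀ χ : G → ℂ,
    IsCharacter G χ → (∀ g, χ g = χ 1 → g = 1) → charDegree χ = n → n + 1 < p →
    ((n + 1) ^ 2 ≤ p ∨ ∀ K : Subgroup G, ¬ p ^ 2 ∣ Nat.card K → NS p K) →
    ∀ P : Sylow p G, (P : Subgroup G).Normal := by
  induction m using Nat.strong_induction_on with
  | _ m ih =>
  intro G _ _ hm χ hχ hf hn hlt h P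
  classical
  have := Fintype.ofFinite G
  by_contra hP
  have hprop : ∀ K : Subgroup G, K ≠ ⊤ → NS p K := fun K hK => by
    refine ns_of_normal (ih (Nat.card K) ?_ K rfl (fun x : K => χ x) (hχ.restrict K)
      (fun g hg => Subtype.ext (hf g hg)) ((charDegree_congr_one (by simp)).trans hn) hlt
      (h.imp id fun h L hL => ns_of_map (h _ (by
        rwa [card_map_of_injective K.subtype_injective]))))
    rw [← hm]
    have h1 := K.card_mul_index
    have h2 : 1 < K.index := one_lt_index_of_ne_top hK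
    have h3 : 0 < Nat.card K := Nat.card_pos
    nlinarith
  have hab : ∀ A : Subgroup G, IsPGroup p A → ∀ a ∈ A, ∀ b ∈ A, a * b = b * a := fun A hA =>
    comm_of_isPGroup_of_faithful_lt hχ hf (by omega) hA
  have hM : ∀ M : Subgroup G, M.Normal → (P : Subgroup G) ≤ M → M = ⊤ := fun M hMn hPM => by
    by_contra h1
    exact hP (normal_of_ns (hprop M h1) P hPM)
  have hperf : commutator G = ⊤ := by
    by_contra h1
    have h2 := hM (commutator G ⊔ P) (by
      exact Subgroup.Normal.of_commutator_le G le_sup_left) le_sup_right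
    have h3 := (S4468.result χ hχ hf n hn p hp.out (psolv P h2 (hprop _ h1)) hlt.le P hP).1
    omega
  have hZ : ∀ Q : Sylow p G, ∀ x ∈ (Q : Subgroup G), x ∈ center G → x = 1 := fun Q x hx hz => by
    have h1 := Transfer.mem_commutator_of_hall_of_central (H := Q) Q.card_coprime_index hx hz
      (hperf ▸ mem_top x)
    have h2 : ⁅(Q : Subgroup G), (Q : Subgroup G)⁆ = ⊥ :=
      commutator_eq_bot_iff_le_centralizer.mpr fun a ha =>
        mem_centralizer_iff.mpr fun b hb => hab _ Q.isPGroup' b hb a ha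
    rwa [h2, mem_bot] at h1
  have hC : ∀ g : G, g ∉ center G → centralizer ({g} : Set G) ≠ ⊤ := fun g hg h1 =>
    hg (mem_center_iff.mpr fun x => by
      have : x ∈ centralizer ({g} : Set G) := h1 ▸ mem_top x
      exact (mem_centralizer_singleton_iff.mp this))
  have hzp : ∀ (Q : Sylow p G) (x : G), x ∈ (Q : Subgroup G) → IsPGroup p (zpowers x) :=
    fun Q x hx => Q.isPGroup'.to_le (zpowers_le.mpr hx)
  have hQC : ∀ (Q : Sylow p G) (x : G), x ∈ (Q : Subgroup G) →
      (Q : Subgroup G) ≤ centralizer ({x} : Set G) := fun Q x hx y hy =>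
    mem_centralizer_singleton_iff.mpr (hab _ Q.isPGroup' y hy x hx)
  have hone : ∀ g : G, g ∉ center G → ∀ Q R : Sylow p G,
      centralizer ({g} : Set G) ⊓ (Q : Subgroup G) ≠ ⊥ →
      centralizer ({g} : Set G) ⊓ (R : Subgroup G) ≠ ⊥ → (Q : Subgroup G) = R := by
    intro g hg Q R h1 h2
    obtain ⟨⟨x, hx⟩, hx1⟩ := ne_bot_iff_exists_ne_one.mp h1
    obtain ⟨⟨y, hy⟩, hy1⟩ := ne_bot_iff_exists_ne_one.mp h2
    have hx2 : x ∉ center G := fun h => hx1 (Subtype.ext (hZ Q x hx.2 h))
    have hy2 : y ∉ center G := fun h => hy1 (Subtype.ext (hZ R y hy.2 h))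
    have h3 := hprop _ (hC g hg) _ (zpowers_le.mpr hx.1) _ (zpowers_le.mpr hy.1)
      (hzp Q x hx.2) (hzp R y hy.2)
    have h4 := hab _ h3 y (mem_sup_right (mem_zpowers y)) x (mem_sup_left (mem_zpowers x))
    have h5 : y ∈ (Q : Subgroup G) :=
      le_of_ns (hprop _ (hC x hx2)) Q (hQC Q x hx.2)
        (zpowers_le.mpr (mem_centralizer_singleton_iff.mpr h4)) (hzp R y hy.2) (mem_zpowers y)
    exact le_antisymm
      (le_of_ns (hprop _ (hC y hy2)) R (hQC R y hy.2) (hQC Q y h5) Q.isPGroup')
      (le_of_ns (hprop _ (hC y hy2)) Q (hQC Q y h5) (hQC R y hy.2) R.isPGroup')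
  have hG : ∃ a b : G, a * b ≠ b * a := by
    by_contra h1
    push Not at h1
    exact hP ⟨fun x hx g => by rwa [h1 g x, mul_inv_cancel_right]⟩
  obtain ⟨ψ, h1, h2⟩ := exists_nonlinear_constituent hχ hf hG
  have h3 : ψ.1 1 ≠ 1 := mt (charDegree_eq_one_iff ψ.2.isCharacter).mpr h1
  have hker : ∃ x ∈ (P : Subgroup G), ψ.1 x ≠ ψ.1 1 := by
    by_contra h4
    push Not at h4
    have h5 := hM _ (charKer_normal ψ.2.isClassFunction) fun x hx =>
      (mem_charKer_iff ψ.2.isCharacter).mpr (h4 x hx)
    exact h3 (congrFun (eq_one_of_charKer_eq_top ψ.2 h5) 1)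
  have h4 := (S0898.result (P : Subgroup G) (hab _ P.isPGroup')
    (eq_bot_iff.mpr fun x hx => mem_bot.mpr (hZ P x hx.1 hx.2))
    (fun g hg a b => hone g hg (a • P) (b • P)) ψ.1 ψ.2 hker).2 h3 hM
  rw [← coe_charDegree_irr ψ, Complex.natCast_re] at h4
  have h5 : Nat.card P < (1 + charDegree ψ.1) ^ 2 := by exact_mod_cast h4
  have h6 : (1 + charDegree ψ.1) ^ 2 ≤ (n + 1) ^ 2 := Nat.pow_le_pow_left (by omega) 2
  have h7 : ∀ k, p ^ k ∣ Nat.card G → p ^ k ≤ Nat.card P := fun k hk => by
    rw [P.card_eq_multiplicity]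
    exact Nat.pow_le_pow_right hp.out.pos
      ((hp.out.pow_dvd_iff_le_factorization Nat.card_pos.ne').mp hk)
  rcases h with h | h
  · have h8 : p ^ 1 ∣ Nat.card G := by
      by_contra h8
      have h9 : Nat.card P = 1 := by
        rw [P.card_eq_multiplicity, Nat.factorization_eq_zero_of_not_dvd (by simpa using h8),
          pow_zero]
      exact hP (card_eq_one.mp h9 ▸ normal_bot)
    have := h7 1 h8
    rw [pow_one] at this
    omega
  · by_cases h8 : p ^ 2 ∣ Nat.card G
    · have h9 := h7 2 h8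
      have := Nat.pow_lt_pow_left hlt two_ne_zero
      omega
    · exact hP (normal_of_ns (h ⊤ (by rwa [card_top])) P le_top)


/-- Let G be a finite group with a faithful complex representation of degree n (on Fin n → ℂ) and p a prime. Suppose either that (n + 1) ^ 2 ≤ p, or that n + 1 < p and every subgroup of G whose order is not divisible by p ^ 2 has a normal Sylow p-subgroup. Then every Sylow p-subgroup of G is normal. -/
theorem result {G : Type*} [Group G] [Finite G] (n : ℕ) (ρ : Representation ℂ G (Fin n → ℂ)) (hρ : Function.Injective ρ) (p : ℕ) [Fact p.Prime] (h : (n + 1) ^ 2 ≤ p ∨ (n + 1 < p ∧ ∀ K : Subgroup G, ¬ p ^ 2 ∣ Nat.card K → ∀ Q : Sylow p K, (Q : Subgroup K).Normal)) (P : Sylow p G) : (P : Subgroup G).Normal := by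
  have hf : ∀ g, ρ.character g = ρ.character 1 → g = 1 := fun g hg => by
    rw [ρ.char_one, rep_char_eq_finrank_iff] at hg
    exact hρ (hg.trans (by rw [map_one]; rfl))
  have hp : p.Prime := Fact.out
  rcases Nat.eq_zero_or_pos n with rfl | hn
  · have : Subsingleton G := ⟨fun a b => hρ (Subsingleton.elim _ _)⟩
    exact ⟨fun x hx g => by rwa [Subsingleton.elim (g * x * g⁻¹) x]⟩
  refine main n _ G rfl ρ.character ⟨n, ρ, rfl⟩ hf (by rw [charDegree_character]; simp) ?_
    (h.imp id fun h K hK => ns_of_normal (h.2 K hK)) P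
  rcases h with h | h
  · nlinarith
  · exact h.1

end Cfsg.Agent.S0899
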