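import Cfsg.Statements.S0102
import Mathlib
import Cfsg.Agent.Transfer.Focal


set_option autoImplicit false
open Cfsg

namespace Cfsg.Agent.S0102

/-- A finite perfect group with cyclic Sylow p-subgroups has no perfect central extension whose kernel has order divisible by p. -/
theorem result {G : Type*} {H : Type*} [Group G] [Group H] [Finite G] [Finite H] (hG : commutator G = ⊤) {p : ℕ} [Fact p.Prime] (hcyc : ∀ P : Sylow p G, IsCyclic P) (σ : H →* G) (hσ : Function.Surjective σ) (hz : σ.ker ≤ Subgroup.center H) (hH : commutator H = ⊤) : ¬ p ∣ Nat.card σ.ker := by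
  intro hd
  obtain ⟨x, hx⟩ := exists_prime_orderOf_dvd_card' p hd
  have hz' : IsPGroup p (Subgroup.zpowers (x : H)) :=
    IsPGroup.of_card (n := 1) (by rw [Nat.card_zpowers, Subgroup.orderOf_coe, hx, pow_one])
  obtain ⟨P, hP⟩ := hz'.exists_le_sylow
  have h1 := Transfer.mem_commutator_of_hall_of_central P.card_coprime_index
    (hP (Subgroup.mem_zpowers _)) (hz x.2) (hH ▸ Subgroup.mem_top _)
  have : IsCyclic ((P : Subgroup H).map σ) := hcyc (P.mapSurjective hσ)
  have hc : IsMulCommutative (P : Subgroup H) := by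
    refine ⟨⟨commutative_of_cyclic_center_quotient (σ.subgroupMap P) fun y hy => ?_⟩⟩
    have h2 : (y : H) ∈ σ.ker := congrArg Subtype.val hy
    rw [Subgroup.mem_center_iff]
    exact fun g => Subtype.ext (Subgroup.mem_center_iff.mp (hz h2) g)
  rw [Subgroup.commutator_eq_bot_iff_le_centralizer.mpr
    (Transfer.le_centralizer_self_of_comm hc), Subgroup.mem_bot] at h1
  rw [← Subgroup.orderOf_coe, h1, orderOf_one] at hx
  exact (Fact.out : p.Prime).one_lt.ne hx

end Cfsg.Agent.S0102
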