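import Cfsg.Statements.S4701
import Cfsg.Agent.Char.BrauerReynoldsCor

set_option autoImplicit false
open Cfsg

namespace Cfsg.Agent.S4701

open Subgroup Cfsg.Agent.Grp Cfsg.Agent.Grp.SelfCent Cfsg.Agent.Char Cfsg.Agent.Char.SelfC Cfsg.Agent.Small


/-- Let G be a finite perfect group and p a prime dividing the order of G with p^3 larger than the order of G. Suppose a Sylow p-subgroup of G is not normal and G has no normal subgroup of order 2. Then p > 3 and G is isomorphic to PSL(2, p), or to SL(2, 2^m) with p = 2^m + 1. -/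
theorem result {G : Type*} [Group G] [Finite G] (hperf : commutator G = ⊤) (p : ℕ) [Fact p.Prime] (hdvd : p ∣ Nat.card G) (hbig : Nat.card G < p ^ 3) (P : Sylow p G) (hP : ¬ (P : Subgroup G).Normal) (h2 : ∀ N : Subgroup G, N.Normal → Nat.card N ≠ 2) : (∃ (F : Type) (_ : Field F) (_ : Fintype F), Fintype.card F = p ∧ 3 < p ∧ Nonempty (G ≃* Matrix.ProjectiveSpecialLinearGroup (Fin 2) F)) ∨ (∃ (m : ℕ) (F : Type) (_ : Field F) (_ : Fintype F), Fintype.card F = 2 ^ m ∧ p = 2 ^ m + 1 ∧ 3 < p ∧ Nonempty (G ≃* Matrix.SpecialLinearGroup (Fin 2) F)) := by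
  obtain ⟨x, hx, hxP⟩ := exists_zpowers_eq_sylow P (card_sylow_eq_of_lt_cube hdvd hbig P hP)
  obtain ⟨n, h1, -⟩ := exists_index_normalizer P hxP.symm
  have hT := not_third_of_lt_cube hperf P hxP.symm hx h1 hbig
  have hO : Cfsg.pPrimeCore p G = ⊥ := by
    rw [← card_eq_one]
    have h3 := h2 (Cfsg.pPrimeCore p G) inferInstance
    have h4 : 0 < Nat.card (Cfsg.pPrimeCore p G) := Nat.card_pos
    by_contra h5
    have h6 : 3 * (Cfsg.pPrimeCore p G).index ≤ Nat.card G := by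
      rw [← card_mul_index (Cfsg.pPrimeCore p G)]
      exact Nat.mul_le_mul_right _ (by omega)
    rcases (brauerReynolds hperf P hxP.symm hx h1 hT).2 with
      ⟨F, _, _, hF, h3p, ⟨e⟩⟩ | ⟨m, F, _, _, hF, hpm, h3p, ⟨e⟩⟩
    · have h7 := Class.Dickson.gcd_mul_card_PSL2 (K := F)
      rw [← Nat.card_congr e.toEquiv, Nat.card_eq_fintype_card (α := F), hF, ← index_eq_card] at h7
      have h8 : p * (p ^ 2 - 1) ≤ 2 * (Cfsg.pPrimeCore p G).index :=
        h7 ▸ Nat.mul_le_mul_right _ (Nat.gcd_le_left _ two_pos)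
      obtain ⟨r, hr⟩ : ∃ r, p ^ 2 = r + 1 := ⟨p ^ 2 - 1, by have : 0 < p ^ 2 := by positivity
                                                            omega⟩
      rw [pow_succ, hr] at hbig
      rw [hr, Nat.add_sub_cancel] at h8
      have h9 : 16 ≤ r + 1 := hr ▸ Nat.pow_le_pow_left (by omega : 4 ≤ p) 2
      nlinarith
    · have h7 := Class.Dickson.gcd_mul_card_PSL2 (K := F)
      have hm : m ≠ 0 := by rintro rfl; omega
      obtain ⟨r, hr⟩ : 2 ∣ 2 ^ m := dvd_pow_self 2 hm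
      rw [← Nat.card_congr e.toEquiv, Nat.card_eq_fintype_card (α := F), hF, ← index_eq_card,
        hr, Nat.Coprime.gcd_eq_one (by
          rw [Nat.coprime_two_left]; exact ⟨r - 1, by omega⟩), one_mul] at h7
      rw [hr] at hpm
      obtain ⟨c, hc⟩ : ∃ c, r = c + 2 := ⟨r - 2, by omega⟩
      rw [hc, show (2 * (c + 2)) ^ 2 - 1 = 4 * c ^ 2 + 16 * c + 15 from
        Nat.sub_eq_of_eq_add (by ring)] at h7
      rw [hpm, hc] at hbig
      rw [h7] at h6
      nlinarith [Nat.zero_le (c ^ 2), Nat.zero_le (c ^ 3)]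
  rcases brauerReynolds_of_bot hperf hO P hxP.symm hx h1 hT with
    h | ⟨m, F, _, _, hF, hpm, h3p, ⟨e⟩⟩
  · exact Or.inl h
  · refine Or.inr ⟨m, F, inferInstance, inferInstance, hF, hpm, h3p,
      ⟨e.trans (Perm.ZassPSL.slEquivPsl ?_).symm⟩⟩
    rw [Nat.card_eq_fintype_card, hF]
    refine even_two.pow_of_ne_zero ?_
    rintro rfl
    omega

end Cfsg.Agent.S4701
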