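import Cfsg.Statements.S4705
import Mathlib
import Cfsg.Agent.Char.SubP2
import Cfsg.Agent.Char.DiffFour
import Cfsg.Agent.Class.SmallIso
import Cfsg.Agent.S4701
import Cfsg.Agent.S0102
import Cfsg.Agent.S0262

set_option autoImplicit false
open Cfsg

namespace Cfsg.Agent.S4705

open Subgroup Cfsg.Agent.Char Cfsg.Agent.Char.SubP Cfsg.Agent.Block

theorem odd_center {G : Type*} [Group G] [Finite G] (hG : commutator G = ⊤) {ζ : G → ℂ}
    (hζ : IsIrrCharacter G ζ) (hf : ∀ g, ζ g = ζ 1 → g = 1) {d : ℕ} (hd : ζ 1 = d) (ho : Odd d) :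
    Odd (Nat.card (center G)) := by
  have := Fintype.ofFinite G
  by_contra h
  obtain ⟨u, hu⟩ := exists_prime_orderOf_dvd_card' (G := center G) 2
    (Nat.not_odd_iff_even.1 h).two_dvd
  rw [← orderOf_coe] at hu
  obtain ⟨n, ε, h1, h2, h3, h4⟩ := Four.eig hG hζ.isCharacter (u : G)
  obtain rfl : n = d := by exact_mod_cast h1.symm.trans hd
  have h5 : ζ u = ∑ i, ε i := by simpa using h3 1
  have h6 := eq_of_norm_sum_eq_card ε
    (fun i => norm_eq_one_of_pow_eq_one (orderOf_pos _).ne' (h2 i))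
    (by rw [← h5, norm_eq_of_mem_center hζ u.2, hd]; simp)
  have h7 : ∀ i, ε i = 1 := fun i => by
    rw [Finset.prod_congr rfl fun j _ => h6 j i, Finset.prod_const, Finset.card_univ,
      Fintype.card_fin] at h4
    obtain ⟨k, hk⟩ := ho
    have h8 := h2 i
    rw [hu] at h8
    rwa [hk, pow_succ, pow_mul, h8, one_pow, one_mul] at h4
  rw [hf u (by simp [h5, h7, hd]), orderOf_one] at hu
  omega

theorem perfect_case {G : Type*} [Group G] [Finite G] (hG : commutator G = ⊤) {p : ℕ}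
    [hp : Fact p.Prime] (h5 : 5 < p) {x : G} (hx : orderOf x = p) (hG2 : ¬ p ^ 2 ∣ Nat.card G)
    (hn : ¬ (zpowers x).Normal) {ζ : G → ℂ} (hζ : IsIrrCharacter G ζ)
    (hf : ∀ g, ζ g = ζ 1 → g = 1) {d : ℕ} (hd : ζ 1 = d) (hdp : d + 2 = p) :
    center G = ⊥ ∧ ∃ (a : ℕ) (F : Type) (_ : Field F) (_ : Fintype F), p = 2 ^ a + 1 ∧
      Fintype.card F = 2 ^ a ∧ Nonempty (G ≃* Matrix.SpecialLinearGroup (Fin 2) F) := by
  have := Fintype.ofFinite G
  have : Group.IsPerfect G := ⟨hG⟩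
  obtain ⟨t, ht⟩ := hp.out.odd_of_ne_two (by omega)
  have hxZ : x ∉ center G := fun h => hn (ModSl2.normal_of_commute hx hG2 fun g =>
    mem_center_iff.1 h _)
  have hZ := odd_center hG hζ hf hd ⟨t - 1, by omega⟩
  obtain ⟨-, hC, l, hl, hv⟩ := deg_sub_two hx hG2 hxZ hζ hf hd hdp
  obtain ⟨m, m1, m2, m3, m4, m5⟩ := exists_exp hp.out (by omega) hG2
    (hx ▸ _root_.orderOf_dvd_natCard x)
  have H : Hyp p x ζ d t l m := ⟨hx, hG2, hζ, hf, hd, by omega, ht.symm, by omega, hC, hl,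
    fun j hj => by
      have h1 := hv (j % p) (Finset.mem_Ico.2 ⟨Nat.pos_of_ne_zero fun h =>
        hj (Nat.dvd_of_mod_eq_zero h), Nat.mod_lt _ hp.out.pos⟩)
      rw [pow_eq_pow_mod j (hx ▸ pow_orderOf_eq_one x), h1, SelfC.tw, SelfC.tw,
        ← pow_eq_pow_mod j hl.pow_eq_one, ← pow_eq_pow_mod j hl.inv.pow_eq_one],
    hZ, m1, m2, m3, m4, m5⟩
  have hQ : Nat.card (G ⧸ center G) = p * (d + 1) * d ∨
      2 * Nat.card (G ⧸ center G) = p * d ^ 2 := by
    have h1 := card_eq_card_quotient_mul_card_subgroup (center G)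
    refine H.card_eq.imp (fun h => ?_) fun h => ?_ <;>
      apply Nat.eq_of_mul_eq_mul_left (Nat.card_pos (α := center G)) <;> rw [← h, h1] <;> ring
  let π := QuotientGroup.mk' (center G)
  have hx' : orderOf (π x) = p := orderOf_eq_prime (by rw [← map_pow, ← hx]; simp)
    (fun h => hxZ ((QuotientGroup.eq_one_iff x).1 h))
  obtain ⟨S, hS⟩ := ModSl2.exists_sylow_eq hx'
    (fun h => hG2 (h.trans (card_quotient_dvd_card _)))
  rcases S4701.result (G := G ⧸ center G) (Group.isPerfect_def.1 inferInstance) p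
    (hx' ▸ _root_.orderOf_dvd_natCard _) (by subst hdp; rcases hQ with h | h <;> nlinarith) S
    (fun h => hn (ModSl2.normal_of_commute hx hG2 fun g => by
      rw [hS] at h
      obtain ⟨k, hk⟩ := mem_zpowers_iff.1 (h.conj_mem _ (mem_zpowers _) (π g))
      rw [← map_zpow, ← map_inv, ← map_mul, ← map_mul] at hk
      obtain ⟨z, hz, h1⟩ := (QuotientGroup.mk'_eq_mk' _).1 hk
      rw [← h1]
      exact ((Commute.refl x).zpow_left k).mul_left (mem_center_iff.1 hz x).symm))
    (fun N hN h => by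
      obtain ⟨u, hu, h1⟩ := (Nat.card_eq_two_iff' (1 : N)).1 h
      have h2 : (u : G ⧸ center G) ∈ center (G ⧸ center G) := mem_center_iff.2 fun g => by
        have h3 := h1 ⟨_, hN.conj_mem _ u.2 g⟩ fun h3 =>
          hu (Subtype.ext (conj_eq_one_iff.1 (congrArg Subtype.val h3)))
        exact mul_inv_eq_iff_eq_mul.1 (congrArg Subtype.val h3)
      rw [Group.IsPerfect.center_quotient_center_eq_bot, mem_bot] at h2
      exact hu (Subtype.ext h2)) with ⟨F, _, _, h1, -, ⟨e⟩⟩ | ⟨a, F, _, _, h1, h2, -, ⟨e⟩⟩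
  · exfalso
    have h2 := Class.gcd_mul_card_PSL2 (F := F)
    rw [← Nat.card_congr e.toEquiv, h1, Nat.gcd_eq_left ⟨t, by omega⟩] at h2
    have h3 : p ^ 2 - 1 = (d + 1) * (d + 3) := by
      rw [← hdp, show (d + 2) ^ 2 = (d + 1) * (d + 3) + 1 by ring, Nat.add_sub_cancel]
    rw [h3] at h2
    rcases hQ with h | h
    · rw [h, mul_assoc, mul_left_comm] at h2
      have := Nat.eq_of_mul_eq_mul_left hp.out.pos h2
      nlinarith
    · rw [h] at h2
      have := Nat.eq_of_mul_eq_mul_left hp.out.pos h2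
      nlinarith
  have : CharP F 2 := charP_of_card_eq_prime_pow h1
  let σ := e.toMonoidHom.comp π
  have hσ : Function.Surjective σ := e.surjective.comp (QuotientGroup.mk'_surjective _)
  have hk : σ.ker = center G := by
    ext g
    simp [σ, π]
  have hb : center G = ⊥ := by
    rw [← card_eq_one, ← hk]
    by_contra h
    obtain ⟨r, hr, h3⟩ := Nat.exists_prime_and_dvd h
    have : Fact r.Prime := ⟨hr⟩
    have h4 : r ≠ 2 := by
      rintro rfl
      rw [hk] at h3
      exact (Nat.not_even_iff_odd.2 hZ) (even_iff_two_dvd.2 h3)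
    exact S0102.result (Group.isPerfect_def.1 (Group.IsPerfect.ofSurjective hσ))
      (S0262.result 2 r h4 h4) σ hσ hk.le hG h3
  exact ⟨hb, a, F, _, _, h2, h1,
    ⟨MulEquiv.ofBijective σ ⟨(MonoidHom.ker_eq_bot_iff σ).1 (hk.trans hb), hσ⟩⟩⟩

theorem exists_mul {G : Type*} [Group G] [Finite G] {p : ℕ} [hp : Fact p.Prime] (h5 : 5 < p)
    {x : G} (hx : orderOf x = p) (hG2 : ¬ p ^ 2 ∣ Nat.card G) (hn : ¬ (zpowers x).Normal)
    {ζ : G → ℂ} (hζ : IsIrrCharacter G ζ) (hf : ∀ g, ζ g = ζ 1 → g = 1) {d : ℕ} (hd : ζ 1 = d)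
    (hdp : d + 2 = p) : x ∈ commutator G ∧ commutator G ⊔ center G = ⊤ := by
  have hxZ : x ∉ center G := fun h => hn (ModSl2.normal_of_commute hx hG2 fun g =>
    mem_center_iff.1 h _)
  obtain ⟨⟨w, hw, hN⟩, hC, -⟩ := deg_sub_two hx hG2 hxZ hζ hf hd hdp
  have hxH : x ∈ commutator G := by
    have h1 := commutator_mem_commutator (mem_top x) (mem_top w)
    rw [commutatorElement_def, mul_assoc, mul_assoc, ← mul_assoc w, ← conj_inv, hw, inv_inv] at h1
    obtain ⟨k, hk⟩ := exists_pow_eq_self_of_coprime (x := x) (n := 2)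
      (hx ▸ (Nat.coprime_primes Nat.prime_two hp.out).2 (by omega))
    rw [← hk, pow_two]
    exact pow_mem h1 k
  refine ⟨hxH, ?_⟩
  set K := commutator G ⊔ center G with hK
  have hxK : x ∈ K := mem_sup_left hxH
  have hCK : centralizer ((zpowers x : Subgroup G) : Set G) ≤ K := fun c hc => by
    rw [← pPart_mul_pReg p c]
    refine mul_mem (zpowers_le.2 hxK (ModSl2.le_zpowers_of_normalizer hx hG2
      (isPGroup_zpowers_pPart p c) (Or.inl (zpowers_le.2 (centralizer_le_normalizer _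
        (pPart_mem hc)))) (mem_zpowers _)))
      (mem_sup_right (hC _ (pReg_mem hc) (not_dvd_orderOf_pReg p c)))
  by_cases h : ∃ n ∈ K, n ∈ normalizer ((zpowers x : Subgroup G) : Set G) ∧
      n ∉ centralizer ((zpowers x : Subgroup G) : Set G)
  · obtain ⟨n, h1, h2, h3⟩ := h
    have hwK : w⁻¹ ∈ K := by simpa using mul_mem (hCK ((hN n h2).resolve_left h3)) (inv_mem h1)
    obtain ⟨S, hS⟩ := ModSl2.exists_sylow_eq hx hG2
    rw [eq_top_iff, ← Sylow.normalizer_sup_eq_top' (N := K) S (hS ▸ zpowers_le.2 hxK), sup_le_iff]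
    refine ⟨fun g hg => ?_, le_rfl⟩
    rw [← S.coe_coe, hS] at hg
    exact (hN g hg).elim (fun h => hCK h) fun h => (K.mul_mem_cancel_left hwK).1 (hCK h)
  exfalso
  push Not at h
  have h1 := apply_comm_of_le (x := (⟨x, hxK⟩ : K)) (p := p) (by rw [orderOf_mk, hx])
    (fun h => hG2 (h.trans (card_subgroup_dvd_card K))) (fun n hn => by
      obtain ⟨k, hk⟩ := mem_zpowers_iff.1 ((mem_normalizer_iff.1 hn _).1 (mem_zpowers _))
      exact mem_C_iff.2 (Subtype.ext (mem_C_iff.1 (h n n.2 (SelfC.mem_normalizer_of_conj hx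
        (mem_zpowers x) (fun h => hxZ (h ▸ one_mem _)) ⟨k, congrArg Subtype.val hk⟩)))))
    (hζ.isCharacter.restrict K) fun e he => by
      have : e = d := by exact_mod_cast he.symm.trans hd
      omega
  refine hn (ModSl2.normal_of_commute hx hG2 fun g => ?_)
  have h2 := hf _ (h1 ⟨g * x * g⁻¹, (inferInstance : K.Normal).conj_mem x hxK g⟩)
  rw [coe_mul, coe_mul, coe_mul, coe_inv, coe_inv, mul_inv_eq_one, mul_inv_eq_iff_eq_mul] at h2
  exact h2.symm

/-- Let G be a finite group with centre Z and p > 5 a prime such that a Sylow p-subgroup of G has order p and is not normal. If G has a faithful irreducible character of degree p − 2, then p = 2^a + 1 for some a and G is isomorphic to the direct product of SL(2, 2^a) with Z. -/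
theorem result {G : Type*} [Group G] [Finite G] (p : ℕ) [Fact p.Prime] (hp : 5 < p) (P : Sylow p G) (hP : Nat.card P = p) (hnn : ¬ (P : Subgroup G).Normal) (ζ : G → ℂ) (hζ : Cfsg.IsIrrCharacter G ζ) (hfaith : ∀ g : G, ζ g = ζ 1 → g = 1) (hdeg : Cfsg.charDegree ζ = p - 2) : ∃ (a : ℕ) (F : Type) (_ : Field F) (_ : Fintype F), p = 2 ^ a + 1 ∧ Fintype.card F = 2 ^ a ∧ Nonempty (G ≃* Matrix.SpecialLinearGroup (Fin 2) F × Subgroup.center G) := by
  classical
  have := Fintype.ofFinite G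
  obtain ⟨x, hx, hP'⟩ : ∃ x : G, orderOf x = p ∧ (P : Subgroup G) = zpowers x := by
    have : IsCyclic (P : Subgroup G) := isCyclic_of_prime_card hP
    obtain ⟨x, hx⟩ := (isCyclic_iff_exists_zpowers_eq_top.1 this)
    have h1 : (P : Subgroup G) = zpowers (x : G) := by
      have h2 := congrArg (map (P : Subgroup G).subtype) hx
      rw [MonoidHom.map_zpowers, ← MonoidHom.range_eq_map, range_subtype] at h2
      exact h2.symm
    exact ⟨x, by rw [← Nat.card_zpowers, ← h1]; exact hP, h1⟩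
  have hG2 : ¬ p ^ 2 ∣ Nat.card G := fun h => P.not_dvd_index (by
    rw [← (P : Subgroup G).card_mul_index, show Nat.card (P : Subgroup G) = p from hP, pow_two] at h
    exact Nat.dvd_of_mul_dvd_mul_left (by omega) h)
  rw [hP'] at hnn
  have hd : ζ 1 = (p - 2 : ℕ) := by rw [← hdeg, cast_charDegree hζ.isCharacter]
  obtain ⟨hxH, hK⟩ := exists_mul hp hx hG2 hnn hζ hfaith hd (by omega)
  set H := commutator G with hH
  let f : H × center G →* G := H.subtype.noncommCoprod (center G).subtype fun a b =>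
    (mem_center_iff.1 b.2 a : (a : G) * b = b * a)
  have hf : Function.Surjective f := fun g => by
    have h1 : g ∈ ((H ⊔ center G : Subgroup G) : Set G) := hK ▸ mem_top g
    rw [mul_normal] at h1
    obtain ⟨a, ha, b, hb, rfl⟩ := h1
    exact ⟨(⟨a, ha⟩, ⟨b, hb⟩), rfl⟩
  have hirr : IsIrrCharacter H fun h => ζ h := by
    refine (hζ.isCharacter.restrict H).isIrr_of_inner_self ?_
    have h1 := (hζ.comp_surjective f hf).inner_self
    rw [classInner_self_eq_sum_normSq] at h1 ⊢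
    rw [← h1, Fintype.sum_prod_type, Nat.card_prod]
    have h2 : ∀ (a : H) (b : center G), ‖ζ (f (a, b))‖ = ‖ζ a‖ := fun a b => by
      obtain ⟨ω, h3, h4⟩ := (isCharacter_norm_eq_iff hζ.isCharacter _).1
        (norm_eq_of_mem_center hζ b.2)
      change ‖ζ (a * b)‖ = _
      rw [mem_center_iff.1 b.2 a, h4, norm_mul, h3, one_mul]
    have h3 : (Nat.card (center G) : ℝ) ≠ 0 := Nat.cast_ne_zero.2 Nat.card_pos.ne'
    simp only [h2, Finset.sum_const, Finset.card_univ, nsmul_eq_mul, ← Finset.mul_sum,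
      ← Nat.card_eq_fintype_card]
    congr 1
    push_cast
    field_simp
  have hperf : commutator H = ⊤ := by
    refine Group.isPerfect_def.1 (isPerfect_iff.2 (le_antisymm (commutator_mono le_top le_top)
      (commutator_le.2 fun g _ h _ => ?_)))
    obtain ⟨⟨a, b⟩, rfl⟩ := hf g
    obtain ⟨⟨c, d⟩, rfl⟩ := hf h
    convert commutator_mem_commutator a.2 c.2 using 1
    change (a : G) * b * (c * d) * ((a : G) * b)⁻¹ * ((c : G) * d)⁻¹ =
      a * c * (a : G)⁻¹ * (c : G)⁻¹
    rw [mul_assoc (a : G), ← mem_center_iff.1 b.2, mul_inv_rev, mul_inv_rev, ← mul_assoc,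
      ← mul_assoc, ← mul_assoc, mul_inv_cancel_right, ← mul_assoc, mul_assoc _ (d : G),
      ← mem_center_iff.1 d.2, ← mul_assoc, mul_inv_cancel_right]
  obtain ⟨h1, a, F, _, _, h2, h3, ⟨e⟩⟩ := perfect_case hperf hp (x := ⟨x, hxH⟩)
    (by rw [orderOf_mk, hx]) (fun h => hG2 (h.trans (card_subgroup_dvd_card H)))
    (fun h => hnn (ModSl2.normal_of_commute hx hG2 fun g => by
      obtain ⟨⟨a, b⟩, rfl⟩ := hf g
      obtain ⟨k, hk⟩ := mem_zpowers_iff.1 (h.conj_mem _ (mem_zpowers _) a)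
      have h1 : x ^ k = a * x * (a : G)⁻¹ := congrArg Subtype.val hk
      change Commute ((a : G) * b * x * ((a : G) * b)⁻¹) x
      rw [mul_assoc (a : G), ← mem_center_iff.1 b.2 x, mul_inv_rev, ← mul_assoc, ← mul_assoc,
        mul_inv_cancel_right, ← h1]
      exact (Commute.refl x).zpow_left k))
    hirr (fun g hg => Subtype.ext (hfaith g hg)) hd (by omega)
  refine ⟨a, F, inferInstance, inferInstance, h2, h3, ⟨(MulEquiv.ofBijective f
    ⟨(injective_iff_map_eq_one f).2 ?_, hf⟩).symm.trans (e.prodCongr (MulEquiv.refl _))⟩⟩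
  rintro ⟨a, b⟩ hab
  have h4 : (a : G) = (b : G)⁻¹ := eq_inv_of_mul_eq_one_left hab
  have h5 : a = 1 := mem_bot.1 (h1 ▸ mem_center_iff.2 fun g => Subtype.ext
    (mem_center_iff.1 (h4 ▸ inv_mem b.2 : (a : G) ∈ center G) g))
  rw [h5] at h4
  exact Prod.ext h5 (Subtype.ext (inv_eq_one.1 h4.symm))

end Cfsg.Agent.S4705
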