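import Cfsg.Statements.S4721
import Cfsg.Agent.Block.FrobThree

set_option autoImplicit false
open Cfsg

namespace Cfsg.Agent.S4721

open Cfsg.Agent.Char Cfsg.Agent.Block Subgroup

theorem one_neg {X Y Z x y z : ℚ} (hX : 0 < X) (hY : 0 < Y) (h1 : 1 + X + Y = Z)
    (h2 : 1 + x + y = z) (h3 : 1 + x ^ 2 / X + y ^ 2 / Y = z ^ 2 / Z) : x = X := by
  subst h1 h2
  field_simp at h3
  have : Y * (X - x) ^ 2 + X * (Y - y) ^ 2 + (x * Y - y * X) ^ 2 = 0 := by linear_combination h3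
  have h4 : Y * (X - x) ^ 2 = 0 := by
    nlinarith [mul_nonneg hY.le (sq_nonneg (X - x)), mul_nonneg hX.le (sq_nonneg (Y - y)),
      sq_nonneg (x * Y - y * X)]
  rw [mul_eq_zero, pow_eq_zero_iff two_ne_zero] at h4
  linarith [h4.resolve_left hY.ne']

theorem two_neg {X Y Z x y z : ℚ} (hX : 0 < X) (hY : 0 < Y) (hZ : 0 < Z) (h1 : 1 + X = Y + Z)
    (h2 : 1 + x = y + z) (h3 : 1 + x ^ 2 / X = y ^ 2 / Y + z ^ 2 / Z) (hx : x ≠ X) :
    IsSquare (X * Y * Z) := by
  obtain rfl : X = Y + Z - 1 := by linarith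
  obtain rfl : x = y + z - 1 := by linarith
  have h0 := sub_ne_zero.2 hx
  refine ⟨(Y + Z - 1) * (y * Z - z * Y) / (y + z - 1 - (Y + Z - 1)), ?_⟩
  field_simp at h3 ⊢
  linear_combination (Y + Z) * h3

theorem signs {X Y Z x y z : ℚ} {a b c : ℤ} (hX : 0 < X) (hY : 0 < Y) (hZ : 0 < Z)
    (hX1 : 1 ≤ X) (ha : a = 1 ∨ a = -1) (hb : b = 1 ∨ b = -1) (hc : c = 1 ∨ c = -1)
    (h1 : 1 + a * X + b * Y - c * Z = 0) (h2 : 1 + a * x + b * y - c * z = 0)
    (h3 : 1 + a * (x ^ 2 / X) + b * (y ^ 2 / Y) - c * (z ^ 2 / Z) = 0) (hx : x ≠ X) (hy : y ≠ Y)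
    (hz : z ≠ Z) : (if a = -1 then 1 else 0) + (if b = -1 then 1 else 0) +
      (if c = 1 then 1 else 0) = 2 ∧ IsSquare (X * Y * Z) := by
  rcases ha with rfl | rfl <;> rcases hb with rfl | rfl <;> rcases hc with rfl | rfl <;>
    push_cast at h1 h2 h3
  · exact absurd (one_neg hX hY (Z := Z) (y := y) (z := z) (by linarith) (by linarith)
      (by linarith)) hx
  · exfalso; linarith
  · exact ⟨rfl, two_neg hX hY hZ (y := y) (z := z) (by linarith) (by linarith) (by linarith) hx⟩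
  · exact absurd (one_neg hX hZ (Z := Y) (y := z) (z := y) (by linarith) (by linarith)
      (by linarith)) hx
  · exact ⟨rfl, mul_comm Y X ▸ two_neg hY hX hZ (y := x) (z := z) (by linarith) (by linarith)
      (by linarith) hy⟩
  · exact absurd (one_neg hY hZ (Z := X) (y := z) (z := x) (by linarith) (by linarith)
      (by linarith)) hy
  · exfalso; linarith
  · exact ⟨rfl, (by ring : Z * X * Y = X * Y * Z) ▸ two_neg hZ hX hY (y := x) (z := y)
      (by linarith) (by linarith) (by linarith) hz⟩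


/-- Let p be a prime, M a maximal ideal of the algebraic integers containing p, and G a finite group with a nontrivial abelian Sylow p-subgroup P, N = N_G(P), C = C_G(P), such that N/C is cyclic of order 3, #P > 4, and C_G(y) ∩ N = C for every non-identity y ∈ P. Then the principal p-block is the disjoint union of a set X of exactly 3 characters containing the principal character and a set Y of (#P − 1)/3 characters, with signs a_χ = ±1 (χ ∈ X, a = 1 at the principal character) and δ = ±1 such that every χ ∈ X takes the value a_χ at every element whose p-part is a non-identity element of P, and there is a map ζ from the non-principal linear characters of P onto Y, constant on N-conjugacy classes, with ζ_ψ(z) = δ·Σ ψ'(y) over the N-orbit of ψ, for z with p-part y ≠ 1 in P. If moreover G has an involution lying in no proper normal subgroup of G, then exactly two of the three numbers −δ and a_χ (χ ∈ X non-principal)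 equal −1, and the product of the degrees of the two non-principal members of X and of any member of Y is a perfect square. -/
theorem result {G : Type*} [Group G] [Finite G] (p : ℕ) [Fact p.Prime] (M : Ideal Cfsg.AlgInt) (hM : Cfsg.IsPModular p M) (P : Sylow p G) (hab : IsMulCommutative P) (hP1 : Nat.card P ≠ 1) (hCN : (Subgroup.centralizer ((P : Subgroup G) : Set G)).relIndex (Subgroup.normalizer ((P : Subgroup G) : Set G)) = 3) (hcyc : ∃ g : G, g ∈ Subgroup.normalizer ((P : Subgroup G) : Set G) ∧ Subgroup.centralizer ((P : Subgroup G) : Set G) ⊔ Subgroup.zpowers g = Subgroup.normalizer ((P : Subgroup G) : Set G)) (hm2 : 3 + 1 < Nat.card P) (hfrob : ∀ y : G, y ∈ (P : Subgroup G) → y ≠ 1 → Subgroup.centralizer ({y} : Set G) ⊓ Subgroup.normalizer ((P : Subgroup G) : Set G) = Subgroup.centralizer ((P : Subgroup G) : Set G)) : ∃ (X Y : Set (Cfsg.IrrCharacter G)), Cfsg.principalBlock M G = X ∪ Y ∧ Disjoint X Y ∧ Nat.card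 X = 3 ∧ Nat.card Y = (Nat.card P - 1) / 3 ∧ (∃ χ₁ ∈ X, (χ₁ : G → ℂ) = fun _ => 1) ∧ ∃ (a : Cfsg.IrrCharacter G → ℤ) (δ : ℤ) (ζ : (↥(P : Subgroup G) →* ℂˣ) → Cfsg.IrrCharacter G), (δ = 1 ∨ δ = -1) ∧ (∀ χ ∈ X, (a χ = 1 ∨ a χ = -1) ∧ ∀ z y : G, Cfsg.IsPPart p z y → y ∈ (P : Subgroup G) → y ≠ 1 → (χ : G → ℂ) z = (a χ : ℂ)) ∧ (∀ ψ : ↥(P : Subgroup G) →* ℂˣ, ψ ≠ 1 → ζ ψ ∈ Y) ∧ (∀ η ∈ Y, ∃ ψ : ↥(P : Subgroup G) →* ℂˣ, ψ ≠ 1 ∧ ζ ψ = η) ∧ (∀ ψ ψ' : ↥(P : Subgroup G) →* ℂˣ, ψ ≠ 1 → (∃ n : G, n ∈ Subgroup.normalizer ((P : Subgroup G) : Set G) ∧ ∀ w w' : ↥(P : Subgroup G), (w' : G) = n * w * n⁻¹ → ψ' w' = ψ w) → ζ ψ' = ζ ψ) ∧ (∀ ψ : ↥(P : Subgroup G) →* ℂˣ, ψ ≠ 1 → ∀ (z : G) (y : ↥(P : Subgroup G)), Cfsg.IsPPart p z (y : G) → (y : G) ≠ 1 → (ζ ψ : G → ℂ) z = (δ : ℂ) * ∑ᶠ ψ' ∈ {ψ' : ↥(P : Subgroup G) →* ℂˣ | ∃ n : G, n ∈ Subgroup.normalizer ((P : Subgroup G) : Set G) ∧ ∀ w w' : ↥(P : Subgroup G), (w' : G) = n * w * n⁻¹ → ψ' w'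 = ψ w}, ((ψ' y : ℂˣ) : ℂ)) ∧ ((∃ t : G, orderOf t = 2 ∧ ∀ K : Subgroup G, K.Normal → t ∈ K → K = ⊤) → Nat.card {χ : Cfsg.IrrCharacter G // χ ∈ X ∧ (χ : G → ℂ) ≠ (fun _ => 1) ∧ a χ = -1} + (if δ = 1 then 1 else 0) = 2 ∧ ∀ η ∈ Y, IsSquare (Cfsg.charDegree (η : G → ℂ) * ∏ᶠ χ ∈ {χ : Cfsg.IrrCharacter G | χ ∈ X ∧ (χ : G → ℂ) ≠ fun _ => 1}, Cfsg.charDegree (χ : G → ℂ))) := by
  classical
  have := Fintype.ofFinite G
  have h : FrobHyp (P : Subgroup G) := hfrob
  have hm2' : 3 + 1 < Nat.card (P : Subgroup G) := hm2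
  obtain ⟨hr, hnt⟩ := h.card_orbs hCN hm2'
  obtain ⟨D, hd, x, y, hx, hy, hxy, hX, hax, hay⟩ := h.exists_frobData_three hCN hM hm2'
  obtain ⟨⟨_, ψ, hψ, rfl⟩⟩ : Nonempty (Orbs (P : Subgroup G)) := inferInstance
  refine ⟨principalBlock M G \ Set.range D.μ, Set.range D.μ, D.union_eq,
    Set.disjoint_sdiff_left, ?_, D.card_range.trans hr, ⟨_, D.irrOne_mem hM, rfl⟩, D.a, D.δ,
    D.zeta, D.sign, fun χ hχ => ⟨?_, D.valX' h hM hχ⟩, fun _ => D.zeta_mem,
    fun _ => D.exists_zeta, fun _ _ => D.zeta_congr,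
    fun _ hφ z w hz hw => by simpa [hd] using D.valY' h hM hφ z w hz hw, ?_⟩
  · rw [hX, Nat.card_coe_set_eq]
    exact Set.ncard_eq_three.2 ⟨_, _, _, hx.symm, hy.symm, hxy, rfl⟩
  · rw [hX] at hχ
    rcases hχ with rfl | rfl | rfl
    exacts [Or.inl (D.a_irrOne hM hψ), hax, hay]
  rintro ⟨t, ht, htK⟩
  have hker : ∀ χ : IrrCharacter G, χ ≠ irrOne G → t ∉ charKer (χ : G → ℂ) := fun χ hχ h1 =>
    hχ (Subtype.ext (eq_one_of_charKer_eq_top χ.2 (htK _ inferInstance h1)))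
  have ht2 := Inv.mul_self_of_orderOf_two ht
  by_cases hp2 : p = 2
  · subst hp2
    obtain ⟨χ, hχ, h1⟩ := h.exists_irr_sylow_le_ker hCN hM hm2'
    obtain ⟨c, hc⟩ := exists_conj_mem_sylow P (x := t) ⟨1, ht⟩
    exact absurd (by simpa [mul_assoc] using (charKer_irr_normal χ).conj_mem' _ (h1 hc) c) (hker χ hχ)
  have hodd : ¬ p ∣ 2 := fun h1 => hp2 ((Nat.prime_dvd_prime_iff_eq Fact.out Nat.prime_two).1 h1)
  choose s hs _ using fun ζ : IrrCharacter G => S0944.result ζ t ht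
  have hs' : ∀ χ : IrrCharacter G, χ ≠ irrOne G → (s χ : ℚ) ≠ charDegree (χ : G → ℂ) :=
    fun χ hχ h1 => hker χ hχ ((mem_charKer_irr χ).2 (by
      rw [hs, ← coe_charDegree_irr]; exact_mod_cast h1))
  have hpos : ∀ χ : IrrCharacter G, (0 : ℚ) < charDegree (χ : G → ℂ) := fun χ => by
    exact_mod_cast charDegree_irr_pos χ
  have key : ∀ i, (if D.a x = -1 then 1 else 0) + (if D.a y = -1 then 1 else 0) +
      (if D.δ = 1 then 1 else 0) = 2 ∧ IsSquare ((charDegree (x : G → ℂ) : ℚ) *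
        charDegree (y : G → ℂ) * charDegree (D.μ i : G → ℂ)) := fun i => by
    obtain ⟨_, φ, hφ, rfl⟩ := i
    have h0 : ∀ g, ¬ p ∣ orderOf g → _ := fun g hg =>
      (D.colF_three hM hd hx hy hxy hX hφ g).symm.trans (colF_eq_zero hM P.2 (by simp) hg)
    have h1 := h0 1 not_dvd_orderOf_one
    have h2 := h0 t (ht ▸ hodd)
    have h3 := four_term_rel t x y _ _ _ _ fun u => h0 _ (pPart_eq_one_iff.1
      (eq_one_of_orderOf_pow_of_not_dvd (orderOf_pPart p _) fun h4 => hodd (h4.trans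
        (orderOf_dvd_of_pow_eq_one (by
          rw [sq]
          refine h.mul_self_of_inverted hCN (orderOf_pPart p _) (t := t) ?_
          rw [← pPart_conj, ← pPart_inv,
            Inv.conj_mul_eq_inv_left ht2 (Inv.conj_mul_self ht2 u)])))))
    simp only [hs, ← coe_charDegree_irr] at h1 h2 h3
    exact signs (hpos x) (hpos y) (hpos (D.μ (orbOf hφ))) (by exact_mod_cast charDegree_irr_pos x)
      hax hay D.sign (Rat.cast_injective (α := ℂ) (by push_cast; exact h1))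
      (Rat.cast_injective (α := ℂ) (by push_cast; exact h2))
      (Rat.cast_injective (α := ℂ) (by push_cast; exact h3)) (hs' x hx) (hs' y hy)
      (hs' _ (D.ne_one _))
  have hset : ∀ χ : IrrCharacter G, (χ ∈ principalBlock M G \ Set.range D.μ ∧
      (χ : G → ℂ) ≠ fun _ => 1) ↔ χ ∈ ({x, y} : Set (IrrCharacter G)) := fun χ => by
    rw [hX]
    refine ⟨fun ⟨h1, h2⟩ => h1.resolve_left fun h3 => h2 (by rw [h3]; rfl), fun h1 =>
      ⟨Or.inr h1, fun h2 => ?_⟩⟩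
    rcases h1 with rfl | rfl
    exacts [hx (Subtype.ext h2), hy (Subtype.ext h2)]
  constructor
  · rw [← (key (orbOf hψ)).1]
    congr 1
    simp only [← and_assoc, hset]
    rw [Nat.card_eq_fintype_card, Fintype.card_subtype, show (Finset.univ.filter fun χ =>
      χ ∈ ({x, y} : Set (IrrCharacter G)) ∧ D.a χ = -1) = ({x, y} : Finset _).filter
        fun χ => D.a χ = -1 by ext; simp, Finset.card_filter, Finset.sum_pair hxy]
  · rintro _ ⟨i, rfl⟩
    simp only [hset]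
    rw [Set.setOf_mem_eq, finprod_mem_pair hxy, ← Rat.isSquare_natCast_iff, mul_comm]
    exact_mod_cast (key i).2

end Cfsg.Agent.S4721
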