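import Cfsg.Statements.S5470
import Mathlib
import Cfsg.Agent.TT.RowCent

set_option autoImplicit false
open Cfsg

namespace Cfsg.Agent.S5470

/-- Let G be a finite group with trivial centre generated by a conjugation-invariant set D of 3-transpositions on which it acts primitively, such that for some d in D the subgroup generated by the members of D other than d commuting with d has central largest normal 2- and 3-subgroups, and suppose G with D is of type M(22). Then the centralizer of a product of three distinct pairwise commuting members of D has order 2^16 · 3^3. -/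
theorem result {G : Type*} [Group G] [Finite G] {D : Set G} (hD : Cfsg.IsThreeTranspositionGroup D) (hprim : Cfsg.IsPrimitiveUnderConj D) (d₀ : G) (hd₀ : d₀ ∈ D) (h3 : Cfsg.pCore 3 ↥(Subgroup.closure {y : G | y ∈ D ∧ y ≠ d₀ ∧ Commute d₀ y}) ≤ Subgroup.center ↥(Subgroup.closure {y : G | y ∈ D ∧ y ≠ d₀ ∧ Commute d₀ y})) (h2 : Cfsg.pCore 2 ↥(Subgroup.closure {y : G | y ∈ D ∧ y ≠ d₀ ∧ Commute d₀ y}) ≤ Subgroup.center ↥(Subgroup.closure {y : G | y ∈ D ∧ y ≠ d₀ ∧ Commute d₀ y})) (h22 : Cfsg.IsOfTypeM22 G D) (d₁ d₂ d₃ : G) (h₁ : d₁ ∈ D) (h₂ : d₂ ∈ D) (h₃ : d₃ ∈ D) (h12 : d₁ ≠ d₂) (h13 : d₁ ≠ d₃) (h23 : d₂ ≠ d₃) (c12 : Commute d₁ d₂) (c13 : Commute d₁ d₃) (c23 : Commute d₂ d₃) : Nat.card ↥(Subgroup.centralizer ({d₁ * d₂ * d₃} : Set G)) = 2 ^ 16 * 3 ^ 3 := by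
  have h := TT.m22g_of_type hD hprim h22
  have hl : TT.CL D [d₁, d₂, d₃] := TT.CL.cons_iff.2 ⟨h₁, TT.CL.cons_iff.2 ⟨⟨h₂, h12.symm, c12⟩,
    TT.CL.cons_iff.2 ⟨⟨⟨h₃, h13.symm, c13⟩, h23.symm, c23⟩, TT.CL.nil _⟩⟩⟩
  have e1 := h.primTo.card_centralizer hD.2.2 hl le_rfl
  have e2 := h.primTo.card_centralizer hD.2.2 hl.tail (by simp)
  have e3 := h.primTo.card_centralizer hD.2.2 hl.tail.tail (by simp)
  have e4 : Subgroup.centralizer {x : G | x ∈ ([] : List G)} = ⊤ := by simp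
  rw [e4, Subgroup.card_top, h.card hD.2.2 h22.1, show TT.locs D [] = D from rfl, h.ncard] at e3
  rw [show TT.locs D [d₃] = TT.loc D d₃ from rfl, (h.2.1 d₃ h₃).ncard_six] at e2
  rw [show TT.locs D [d₂, d₃] = TT.loc (TT.loc D d₂) d₃ from rfl,
    (h.2.1 d₂ h₂).ncard_loc_eq ⟨h₃, h23.symm, c23⟩ fun _ => TT.IsU.ncard_four] at e1
  obtain ⟨d, e, f, h8, h9, h10⟩ := h.exists_hexad hl
  have h11 : TT.CL D [d, e, f] := TT.CL.right (l := [d₁, d₂, d₃]) h8
  have hj : d₁ * d₂ * d₃ = [d₁, d₂, d₃].prod := by simp [mul_assoc]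
  rw [hj]
  have key : ∀ x r, TT.CL D (x :: r) → r.length = 2 → (x :: r).prod = [d₁, d₂, d₃].prod →
      ∃ g ∈ Subgroup.centralizer {[d₁, d₂, d₃].prod}, g * d₁ * g⁻¹ = x := fun x r hr h2 hp => by
    obtain ⟨g, -, hg⟩ := h.primTo.exists_conj hl hr le_rfl (by simp [h2])
    refine ⟨g, Subgroup.mem_centralizer_singleton_iff.2 (TT.commute_of_conj_eq ?_).eq,
      (List.cons.inj hg).1⟩
    rw [← TT.prod_map_conj, hg, hp]
  have e5 := TT.card_eq_ncard_mul (Subgroup.centralizer {[d₁, d₂, d₃].prod}) d₁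
    (O := {x | x ∈ [d₁, d₂, d₃] ++ [d, e, f]}) fun x => ⟨fun hx => by
      rcases List.mem_append.1 hx with hx | hx
      · obtain ⟨r, hr, p⟩ := hl.exists_cons hx
        exact key x r hr (by simpa using p.length_eq.symm) (hl.prod_perm p).symm
      · obtain ⟨r, hr, p⟩ := h11.exists_cons hx
        exact key x r hr (by simpa using p.length_eq.symm)
          ((h11.prod_perm p).symm.trans (h9.eq hD.2.2 h22.1).symm), by
      rintro ⟨g, hg, rfl⟩
      have := h.factor_cases h8 h10 (hl.map_conj h.1.toIsTT (hD.2.2 ▸ Subgroup.mem_top g)) rfl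
        (TT.SameOn.of_eq (by
          rw [TT.prod_map_conj,
            TT.conj_eq_of_commute (Subgroup.mem_centralizer_singleton_iff.1 hg)]))
      exact List.mem_append.2 (this.imp (fun p => p.mem_iff.1 (by simp))
        fun p => p.mem_iff.1 (by simp))⟩
  have e6 := TT.card_eq_ncard_mul
    (Subgroup.centralizer {[d₁, d₂, d₃].prod} ⊓ Subgroup.centralizer {d₁}) d₂
    (O := {x | x ∈ [d₂, d₃]}) fun x => ⟨fun hx => by
      obtain ⟨r, hr, p⟩ := (TT.CL.cons_iff.1 hl).2.exists_cons hx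
      obtain ⟨g, -, hg⟩ := h.primTo.exists_conj hl (TT.CL.cons_iff.2 ⟨h₁, hr⟩) le_rfl
        (by simpa using p.length_eq)
      refine ⟨g, ⟨Subgroup.mem_centralizer_singleton_iff.2 (TT.commute_of_conj_eq ?_).eq,
        Subgroup.mem_centralizer_singleton_iff.2 (TT.commute_of_conj_eq (List.cons.inj hg).1).eq⟩,
        (List.cons.inj (List.cons.inj hg).2).1⟩
      rw [← TT.prod_map_conj, hg, hl.prod_perm (p.cons d₁)], by
      rintro ⟨g, ⟨hg, hg'⟩, rfl⟩
      refine h.primTo.subset_of_sameOn hl.tail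
        (hl.tail.map_conj h.1.toIsTT (hD.2.2 ▸ Subgroup.mem_top g)) le_rfl (by simp)
        (TT.SameOn.of_eq ?_) (by simp)
      have : Commute g (d₁⁻¹ * [d₁, d₂, d₃].prod) :=
        (Commute.inv_right (Subgroup.mem_centralizer_singleton_iff.1 hg')).mul_right
          (Subgroup.mem_centralizer_singleton_iff.1 hg)
      rw [List.prod_cons, inv_mul_cancel_left] at this
      rw [TT.prod_map_conj, TT.conj_eq_of_commute this]⟩
  have e7 : Subgroup.centralizer {[d₁, d₂, d₃].prod} ⊓ Subgroup.centralizer {d₁} ⊓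
      Subgroup.centralizer {d₂} = Subgroup.centralizer {x | x ∈ [d₁, d₂, d₃]} := by
    ext g
    simp only [Subgroup.mem_inf, Subgroup.mem_centralizer_singleton_iff]
    simp only [Subgroup.mem_centralizer_iff, ← commute_iff_eq]
    constructor
    · rintro ⟨⟨h4, h5⟩, h6⟩
      have := (h6.inv_right.mul_right (h5.inv_right.mul_right h4)).symm
      simpa [h5.symm, h6.symm] using this
    · intro h4
      exact ⟨⟨TT.CL.commute_prod fun a ha => (h4 a ha).symm, (h4 d₁ (by simp)).symm⟩,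
        (h4 d₂ (by simp)).symm⟩
  have e8 : ∀ l : List G, l.Nodup → {x | x ∈ l}.ncard = l.length := fun l hl => by
    classical
    rw [← List.coe_toFinset, Set.ncard_coe_finset, List.toFinset_card_of_nodup hl]
  rw [e7, e8 _ hl.tail.nodup] at e6
  rw [e8 ([d₁, d₂, d₃] ++ [d, e, f]) h8.nodup] at e5
  simp only [List.length_cons, List.length_nil, List.length_append] at e5 e6
  omega

end Cfsg.Agent.S5470
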