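import Cfsg.Statements.S4249
import Mathlib
import Cfsg.Agent.Solv.Hughes
import Cfsg.Agent.Grp.PFrattini
import Cfsg.Agent.FGS.NilpPi

set_option autoImplicit false
open Cfsg

namespace Cfsg.Agent.S4249

/-- Let G be a finite group and p a prime such that G is not a p-group, and suppose the Hughes subgroup H_p(G), generated by all elements g with g^p ≠ 1, is a proper subgroup. Then H_p(G) is nilpotent and has index p in G. -/
theorem result {G : Type*} [Group G] [Finite G] (p : ℕ) (hp : p.Prime) (hG : ¬ IsPGroup p G)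
    (hH : Subgroup.closure {g : G | g ^ p ≠ 1} ≠ ⊤) :
    Group.IsNilpotent (Subgroup.closure {g : G | g ^ p ≠ 1}) ∧ (Subgroup.closure {g : G | g ^ p ≠ 1}).index = p := by
  have := Fact.mk hp
  set H := Subgroup.closure {g : G | g ^ p ≠ 1} with hHdef
  have hout : ∀ g, g ∉ H → g ^ p = 1 := fun g hg => by
    by_contra h
    exact hg (Subgroup.subset_closure h)
  have hHn : H.Normal := by
    constructor
    intro n hn g
    have h1 : H.map (MulAut.conj g).toMonoidHom ≤ H := by
      rw [hHdef, MonoidHom.map_closure]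
      refine Subgroup.closure_mono ?_
      rintro _ ⟨x, hx, rfl⟩ h
      rw [← map_pow] at h
      exact hx ((MulAut.conj g).injective (h.trans (map_one _).symm))
    exact h1 (Subgroup.mem_map_of_mem _ hn)
  have hq : IsPGroup p (G ⧸ H) := by
    intro x
    induction x using QuotientGroup.induction_on with | H x => ?_
    by_cases hx : x ∈ H
    · exact ⟨0, by rw [pow_zero, pow_one, QuotientGroup.eq_one_iff]; exact hx⟩
    · exact ⟨1, by rw [pow_one, ← QuotientGroup.mk_pow, hout x hx, QuotientGroup.mk_one]⟩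
  have hnt : Nontrivial (G ⧸ H) := QuotientGroup.nontrivial_iff.2 hH
  obtain ⟨M', hM', -⟩ := (eq_top_or_exists_le_coatom (⊥ : Subgroup (G ⧸ H))).resolve_left bot_ne_top
  have hM'n := Grp.PFrattini.normal_of_isCoatom hq hM'
  set M := M'.comap (QuotientGroup.mk' H) with hMdef
  have hHM : H ≤ M := QuotientGroup.le_comap_mk' H M'
  have hi : M.index = p := by
    rw [hMdef, Subgroup.index_comap_of_surjective _ (QuotientGroup.mk'_surjective H),
      Grp.PFrattini.index_of_isCoatom hq hM']
  have hnil := Solv.Hughes.isNilpotent_of_pow_eq_one hp G M inferInstance hi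
    (fun g hg => hout g fun h => hg (hHM h))
  suffices h : H = M by rw [h]; exact ⟨hnil, hi⟩
  refine le_antisymm hHM fun b hb => ?_
  by_contra hbH
  obtain ⟨q, hq', hqd, hqp⟩ : ∃ q : ℕ, q.Prime ∧ q ∣ Nat.card G ∧ q ≠ p := by
    by_contra h
    push Not at h
    exact hG (IsPGroup.of_card
      (Nat.eq_prime_pow_of_unique_prime_dvd Nat.card_pos.ne' (fun hq hd => h _ hq hd)))
  have := Fact.mk hq'
  have hqM : q ∣ Nat.card M := by
    rw [← M.index_mul_card, hi] at hqd
    exact ((Nat.coprime_primes hq' hp).2 hqp).dvd_of_dvd_mul_left hqd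
  obtain ⟨c, hc⟩ := exists_prime_orderOf_dvd_card' q hqM
  have hbo : orderOf (⟨b, hb⟩ : M) = p := by
    rw [Subgroup.orderOf_mk]
    exact orderOf_eq_prime (hout b hbH) fun e => hbH (e ▸ H.one_mem)
  have hcomm : Commute (⟨b, hb⟩ : M) c :=
    FGS.commute_of_coprime_of_isNilpotent (by
      rw [hbo, hc]; exact (Nat.coprime_primes hp hq').2 hqp.symm)
  have hcomm' : Commute b (c : G) := congrArg Subtype.val hcomm
  have hcp : (c : G) ^ p ≠ 1 := fun e => by
    have := orderOf_dvd_of_pow_eq_one e
    rw [Subgroup.orderOf_coe, hc] at this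
    exact hqp ((Nat.prime_dvd_prime_iff_eq hq' hp).1 this)
  have hcH : (c : G) ∈ H := Subgroup.subset_closure hcp
  have h1 := hout (b * c) fun h => hbH (by simpa using H.mul_mem h (H.inv_mem hcH))
  rw [hcomm'.mul_pow, hout b hbH, one_mul] at h1
  exact hcp h1

end Cfsg.Agent.S4249
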