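import Cfsg.Statements.S4037
import Mathlib
import Cfsg.Agent.FGS.SolvRad
import Cfsg.Agent.FGS.ClassSize
import Cfsg.Agent.S0907
import Cfsg.Agent.Block.Principal
import Cfsg.Agent.Block.ModExists
import Cfsg.Agent.Char.Ito
import Cfsg.Agent.Char.Quot
import Cfsg.Agent.Char.Integrality
import Cfsg.Agent.Solv.CoprimeSylow
import Cfsg.Agent.Solv.FrobeniusAction
import Cfsg.Agent.Solv.Coprime2
import Cfsg.Agent.PLocal.AmbSyl

set_option autoImplicit false
open Cfsg

namespace Cfsg.Agent.S4037

open Cfsg.Agent.Char Cfsg.Agent.Block Cfsg.Agent.FGS Cfsg.Agent.PLocal.Amb ComplexConjugate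
open scoped commutatorElement

universe u

/-- If the conjugates of `x` generate `G` and `x` is central modulo `K`, then `G = K⟨x⟩`. -/
theorem sup_eq_top {G : Type*} [Group G] {x : G} (hx : Subgroup.normalClosure ({x} : Set G) = ⊤)
    (K : Subgroup G) [hK : K.Normal] (h : ∀ g, g * x * g⁻¹ * x⁻¹ ∈ K) :
    K ⊔ Subgroup.zpowers x = ⊤ := by
  rw [eq_top_iff, ← hx]
  refine (Subgroup.closure_le _).2 ?_
  intro y hy
  obtain ⟨a, ha, hc⟩ := Group.mem_conjugatesOfSet_iff.1 hy
  rw [Set.mem_singleton_iff] at ha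
  subst ha
  obtain ⟨g, rfl⟩ := isConj_iff.1 hc
  have := Subgroup.mul_mem_sup (h g) (Subgroup.mem_zpowers a)
  simpa using this

theorem block_case {G : Type*} [Group G] [Finite G] {x : G}
    (hx : Subgroup.normalClosure ({x} : Set G) = ⊤) {p q : ℕ} (hp : p.Prime) (hq : q.Prime)
    (hpq : p ≠ q) (hxq : orderOf x = q) {k : ℕ}
    (hk : (Subgroup.centralizer ({x} : Set G)).index = p ^ k) :
    ¬ q ∣ Nat.card (commutator G) := by
  classical
  intro hd
  haveI := Fact.mk hq
  letI := Fintype.ofFinite G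
  obtain ⟨⟨y, hyN⟩, hy⟩ := exists_prime_orderOf_dvd_card' q hd
  rw [← Subgroup.orderOf_coe] at hy
  obtain ⟨M, hM⟩ := exists_isPModular hq
  set N := commutator G with hN
  have hsup : N ⊔ Subgroup.zpowers x = ⊤ := sup_eq_top hx N fun g =>
    Subgroup.commutator_mem_commutator (Subgroup.mem_top g) (Subgroup.mem_top x)
  have hpow : ∀ g : G, g ^ q ∈ N := by
    intro g
    have : g ∈ N ⊔ Subgroup.zpowers x := hsup ▸ Subgroup.mem_top g
    obtain ⟨a, ha, b, hb, rfl⟩ := Subgroup.mem_sup_of_normal_left.1 this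
    rw [← QuotientGroup.eq_one_iff, QuotientGroup.mk_pow, QuotientGroup.mk_mul,
      (QuotientGroup.eq_one_iff a).2 ha, one_mul, ← QuotientGroup.mk_pow]
    obtain ⟨n, rfl⟩ := hb
    simp only
    rw [← zpow_natCast, ← zpow_mul, mul_comm, zpow_mul, zpow_natCast, ← hxq, pow_orderOf_eq_one]
    simp
  have hidx : N.index ∣ q := by
    have h1 : N.relIndex (N ⊔ Subgroup.zpowers x) = N.relIndex (Subgroup.zpowers x) :=
      Subgroup.relIndex_sup_left _ _
    rw [hsup, Subgroup.relIndex_top_right] at h1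
    rw [h1, ← hxq, ← Nat.card_zpowers]
    exact Subgroup.relIndex_dvd_card _ _
  let L : IrrCharacter G → Prop := fun χ => ∀ n ∈ N, χ.1 n = χ.1 1
  -- linear characters lie in the principal block
  have hL : ∀ χ : IrrCharacter G, L χ → χ ∈ principalBlock M G := by
    intro χ hχ g
    have h1 : χ.1 1 = 1 := one_eq_one_of_commutator_le χ.2 fun n hn =>
      (mem_charKer_irr χ).2 (hχ n hn)
    obtain ⟨l, hl⟩ := χ.2.isCharacter.exists_linear h1
    have h2 : (χ.1 g) ^ q ^ 1 = 1 := by
      have := hχ _ (hpow g)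
      rw [h1, hl] at this
      rw [pow_one, hl]
      simpa using this
    have h3 : centralChar (fun _ : G => (1 : ℂ)) g - centralChar χ.1 g =
        -(((Subgroup.centralizer ({g} : Set G)).index : ℂ) * (χ.1 g - 1)) := by
      simp only [centralChar, h1]; ring
    rw [h3]
    refine memLocalIdeal_neg hM (memLocalIdeal_mul_left hM (memLocalRing_natCast hM _) ?_)
    exact memLocalIdeal_of_val hM ((χ.2.isCharacter.isIntegral g).sub isIntegral_one).isAlgebraic
      (val_sub_one_lt_of_pow_prime_pow hM h2)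
  choose d hd0 hd using fun ψ : IrrCharacter G => ψ.2.exists_nat_one
  have hB : ∀ χ ∈ principalBlock M G, ¬ L χ → p ∣ d χ := by
    intro χ hχ hχL
    by_contra hpd
    apply hχL
    have h1 := apply_ne_zero_of_mem_principal hM hχ (g := x) (by
      rw [hk]; exact fun h => hpq ((Nat.prime_dvd_prime_iff_eq hq hp).1 (hq.dvd_of_dvd_pow h)).symm)
    have h2 := (χ.2.eq_zero_or_norm_eq (hd χ) x (by
      rw [hk]; exact Nat.Coprime.pow_right _ ((Nat.Prime.coprime_iff_not_dvd hp).2 hpd).symm)).resolve_left h1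
    have h3 := commutator_mem_charKer_of_norm_eq χ.2.isCharacter h2
    have h4 := sup_eq_top hx (charKer χ.1) fun g => by
      have := inv_mem (h3 g)
      simpa [mul_assoc] using this
    have h5 : N ≤ charKer χ.1 := by
      rw [hN, commutator_def, Subgroup.commutator_le]
      intro a _ b _
      have hb : b ∈ charKer χ.1 ⊔ Subgroup.zpowers x := h4 ▸ Subgroup.mem_top b
      have ha : a ∈ charKer χ.1 ⊔ Subgroup.zpowers x := h4 ▸ Subgroup.mem_top a
      obtain ⟨a', ha', _, ⟨m, rfl⟩, rfl⟩ := Subgroup.mem_sup_of_normal_left.1 ha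
      obtain ⟨b', hb', _, ⟨n, rfl⟩, rfl⟩ := Subgroup.mem_sup_of_normal_left.1 hb
      rw [← QuotientGroup.eq_one_iff, ← QuotientGroup.mk'_apply, map_commutatorElement,
        commutatorElement_eq_one_iff_commute]
      simp only [map_mul, QuotientGroup.mk'_apply, (QuotientGroup.eq_one_iff a').2 ha',
        (QuotientGroup.eq_one_iff b').2 hb', one_mul, QuotientGroup.mk_zpow]
      exact Commute.zpow_zpow_self _ _ _
    exact fun n hn => (mem_charKer_irr χ).1 (h5 hn)
  have horth := S0907.result q M hM _ isPBlock_principal 1 y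
    (by rw [orderOf_one, Nat.dvd_one]; exact hq.ne_one) hy.symm.dvd
  rw [finsum_mem_eq_finite_toFinset_sum _ (Set.toFinite _),
    ← Finset.sum_filter_add_sum_filter_not _ L] at horth
  have e1 : ∑ χ ∈ (Set.toFinite (principalBlock M G)).toFinset.filter L,
      χ.1 1 * conj (χ.1 y) = N.index := by
    have h1 := sum_irr_one_sq (G := G ⧸ N)
    rw [Subgroup.index_eq_card, ← h1]
    symm
    refine Finset.sum_bij (fun ψ _ => inflateIrr (QuotientGroup.mk' N)
      (QuotientGroup.mk'_surjective N) ψ) ?_ ?_ ?_ ?_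
    · intro ψ _
      have : L (inflateIrr (QuotientGroup.mk' N) (QuotientGroup.mk'_surjective N) ψ) := by
        have := (mem_range_inflateIrr (QuotientGroup.mk' N) (QuotientGroup.mk'_surjective N) _).1
          ⟨ψ, rfl⟩
        rwa [QuotientGroup.ker_mk'] at this
      simp [this, hL _ this]
    · intro a _ b _ h
      exact inflateIrr_injective _ _ h
    · intro χ hχ
      rw [Finset.mem_filter] at hχ
      obtain ⟨ψ, hψ⟩ := (mem_range_inflateIrr (QuotientGroup.mk' N)
        (QuotientGroup.mk'_surjective N) χ).2 (by rw [QuotientGroup.ker_mk']; exact hχ.2)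
      exact ⟨ψ, Finset.mem_univ _, hψ⟩
    · intro ψ _
      rw [inflateIrr_apply, inflateIrr_apply, map_one, QuotientGroup.mk'_apply,
        (QuotientGroup.eq_one_iff y).2 hyN, ψ.2.isCharacter.conj_one, sq]
  rw [e1] at horth
  have hp0 : (p : ℂ) ≠ 0 := by exact_mod_cast hp.ne_zero
  have e2 : IsIntegral ℤ ((N.index : ℂ) / p) := by
    rw [eq_neg_of_add_eq_zero_left horth, neg_div, Finset.sum_div]
    refine IsIntegral.neg (IsIntegral.sum _ fun χ hχ => ?_)
    rw [Finset.mem_filter, Set.Finite.mem_toFinset] at hχ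
    obtain ⟨c, hc⟩ := hB χ hχ.1 hχ.2
    have : χ.1 1 * conj (χ.1 y) / p = c * conj (χ.1 y) := by
      rw [hd, hc]; push_cast; field_simp
    rw [this]
    exact (isIntegral_natCast c).mul (isIntegral_conj (χ.2.isCharacter.isIntegral y))
  exact hpq ((Nat.prime_dvd_prime_iff_eq hp hq).1
    ((dvd_of_isIntegral_div hp.ne_zero e2).trans hidx))

theorem top_case {G : Type*} [Group G] [Finite G] {x : G}
    (hx : Subgroup.normalClosure ({x} : Set G) = ⊤) {p q : ℕ} (hp : p.Prime) (hq : q.Prime)
    (hpq : p ≠ q) (hxq : orderOf x = q) {k : ℕ}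
    (hk : (Subgroup.centralizer ({x} : Set G)).index = p ^ k) : Group.IsSolvable G := by
  have h1 := block_case hx hp hq hpq hxq hk
  haveI := Fact.mk hp
  set N := commutator G with hN
  have hsup : N ⊔ Subgroup.zpowers x = ⊤ := sup_eq_top hx N fun g =>
    Subgroup.commutator_mem_commutator (Subgroup.mem_top g) (Subgroup.mem_top x)
  obtain ⟨P, hP⟩ := Solv.exists_invariant_sylow (Subgroup.zpowers x) N
    (by rw [Subgroup.normalizer_eq_top]; exact le_top)
    (by rw [Nat.card_zpowers, hxq]; exact (Nat.Prime.coprime_iff_not_dvd hq).2 h1)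
    (Or.inl inferInstance) p
  have h2 := relIndex_normal_dvd_index (Subgroup.centralizer ({x} : Set G)) N
  rw [hk] at h2
  obtain ⟨j, -, hj⟩ := (Nat.dvd_prime_pow hp).1 h2
  have hs : Group.IsSolvable ((Subgroup.zpowers x) ⊔ (P : Subgroup N).map N.subtype :
      Subgroup G) := Solv.Frob.isSolvable_sup_of_le_normalizer hP inferInstance
        (Solv.isSolvable_of_isPGroup (P.isPGroup'.map _))
  have h3 : (Subgroup.zpowers x) ⊔ (P : Subgroup N).map N.subtype = ⊤ := by
    rw [eq_top_iff, ← hx]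
    refine (Subgroup.closure_le _).2 ?_
    intro y hy
    obtain ⟨a, ha, hc⟩ := Group.mem_conjugatesOfSet_iff.1 hy
    rw [Set.mem_singleton_iff] at ha
    subst ha
    obtain ⟨g, rfl⟩ := isConj_iff.1 hc
    have : g ∈ N ⊔ Subgroup.zpowers a := hsup ▸ Subgroup.mem_top g
    obtain ⟨n, hn, _, ⟨m, rfl⟩, rfl⟩ := Subgroup.mem_sup_of_normal_left.1 this
    obtain ⟨u, hu, c, hc, e⟩ := exists_sylow_mul_of_index_eq_pow hj P ⟨n, hn⟩
    have e' : n = u * c := (congrArg Subtype.val e).symm
    have hc' : (c : G) * a * (c : G)⁻¹ = a := mem_centralizer_singleton_iff'.1 hc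
    have : n * a ^ m * a * (n * a ^ m)⁻¹ = u * a * (u : G)⁻¹ := by
      rw [e']
      calc (u : G) * c * a ^ m * a * ((u : G) * c * a ^ m)⁻¹
          = u * (c * (a ^ m * a * (a ^ m)⁻¹) * (c : G)⁻¹) * (u : G)⁻¹ := by group
        _ = _ := by rw [show a ^ m * a * (a ^ m)⁻¹ = a by group, hc']
    simp only
    rw [this]
    have hu' : (u : G) ∈ (Subgroup.zpowers a) ⊔ (P : Subgroup N).map N.subtype :=
      Subgroup.mem_sup_right ⟨u, hu, rfl⟩
    exact mul_mem (mul_mem hu' (Subgroup.mem_sup_left (Subgroup.mem_zpowers a))) (inv_mem hu')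
  rw [h3] at hs
  exact Group.isSolvable_of_surjective (f := (⊤ : Subgroup G).subtype)
    (fun x => ⟨⟨x, trivial⟩, rfl⟩)

theorem prime_case {p q : ℕ} (hp : p.Prime) (hq : q.Prime) (G : Type u) [Group G] [Finite G] :
    ∀ x : G, orderOf x = q → (∃ k, (Subgroup.centralizer ({x} : Set G)).index = p ^ k) →
      x ∈ solvableRadical G := by
  refine Grp.card_induction (P := fun G _ _ => ∀ x : G, orderOf x = q →
    (∃ k, (Subgroup.centralizer ({x} : Set G)).index = p ^ k) → x ∈ solvableRadical G) ?_ G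
  intro G _ _ ih x hxq ⟨k, hk⟩
  by_cases hpq : p = q
  · subst hpq
    haveI := Fact.mk hp
    exact pCore_le_solvableRadical p (mem_pCore_of_index_centralizer_eq_pow
      ⟨1, by rw [pow_one, ← hxq, pow_orderOf_eq_one]⟩ hk)
  by_cases ht : Subgroup.normalClosure ({x} : Set G) = ⊤
  · rw [solvableRadical_eq_top_iff.2 (top_case ht hp hq hpq hxq hk)]; trivial
  set N := Subgroup.normalClosure ({x} : Set G)
  have hxN : x ∈ N := Subgroup.subset_normalClosure rfl
  have h1 := index_centralizer_normal_dvd N ⟨x, hxN⟩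
  rw [hk] at h1
  obtain ⟨j, -, hj⟩ := (Nat.dvd_prime_pow hp).1 h1
  have h2 := ih N (Grp.card_lt_of_ne_top ht) ⟨x, hxN⟩
    (by rw [← Subgroup.orderOf_coe]; exact hxq) ⟨j, hj⟩
  exact map_solvableRadical_le_of_normal N ⟨_, h2, rfl⟩

theorem mem_solvableRadical {G : Type*} [Group G] [Finite G] {x : G} {p : ℕ} (hp : p.Prime)
    {k : ℕ} (hk : (Subgroup.centralizer ({x} : Set G)).index = p ^ k) :
    x ∈ solvableRadical G := by
  rw [← QuotientGroup.eq_one_iff, ← orderOf_eq_one_iff]
  by_contra hne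
  obtain ⟨q, hq, hd⟩ := Nat.exists_prime_and_dvd hne
  set y : G ⧸ solvableRadical G := QuotientGroup.mk x
  have h1 : orderOf (y ^ (orderOf y / q)) = q := orderOf_pow_orderOf_div (orderOf_pos y).ne' hd
  have h2 : (Subgroup.centralizer ({y ^ (orderOf y / q)} : Set _)).index ∣ p ^ k := by
    rw [← hk]
    refine (Subgroup.index_dvd_of_le ?_).trans
      (index_centralizer_map_dvd (QuotientGroup.mk' _) (QuotientGroup.mk'_surjective _) x)
    intro g hg
    rw [Subgroup.mem_centralizer_singleton_iff] at hg ⊢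
    exact (Commute.pow_right hg _).eq
  obtain ⟨j, -, hj⟩ := (Nat.dvd_prime_pow hp).1 h2
  have h3 := prime_case hp hq _ _ h1 ⟨j, hj⟩
  rw [solvableRadical_quotient, Subgroup.mem_bot] at h3
  rw [h3, orderOf_one] at h1
  exact hq.ne_one h1.symm

/-- If an element x of a finite group G has a conjugacy class of prime-power size, then the normal closure of x in G (the subgroup generated by the conjugacy class of x) is solvable. -/
theorem result {G : Type*} [Group G] [Finite G]
    (x : G) {p : ℕ} (hp : p.Prime) (k : ℕ) (hx : (ConjClasses.mk x).carrier.ncard = p ^ k) :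
    Group.IsSolvable ↥(Subgroup.normalClosure ({x} : Set G)) := by
  rw [ncard_carrier_mk] at hx
  exact mem_solvableRadical_iff.1 (mem_solvableRadical hp hx)

end Cfsg.Agent.S4037
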