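import Cfsg.Statements.S0581
import Mathlib
import Cfsg.Agent.Transfer.Wielandt


set_option autoImplicit false
open Pointwise
open Cfsg

namespace Cfsg.Agent.S0581

/-- Let H be a nilpotent subgroup of a finite group G whose order is coprime to its index, and K a subgroup every prime divisor of whose order divides the order of H. Then K lies in some conjugate of H. -/
theorem result {G : Type*} [Group G] [Finite G] (H K : Subgroup G) (hH : Group.IsNilpotent H) (hHall : (Nat.card H).Coprime H.index) (hK : ∀ p : ℕ, p.Prime → p ∣ Nat.card K → p ∣ Nat.card H) : ∃ x : G, K ≤ MulAut.conj x • H := by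
  have h1 : (Nat.card K).Coprime (H.relIndex ⊤) := by
    rw [Subgroup.relIndex_top_right]
    refine Nat.coprime_of_dvd fun p hp h1 h2 => ?_
    exact hp.one_lt.ne' (Nat.eq_one_of_dvd_coprimes hHall (hK p hp h1) h2)
  obtain ⟨x, -, hx⟩ := Transfer.exists_cj_le_of_nilpotent_hall le_top K le_top h1
  exact ⟨x⁻¹, PLocal.Amb.cj_le_iff.mp hx⟩

end Cfsg.Agent.S0581
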