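import Cfsg.Statements.S4034
import Mathlib
import Cfsg.Agent.FGS.ClassSize
import Cfsg.Agent.Transfer.PCompl
import Cfsg.Agent.Grp.Fitting
import Cfsg.Agent.Solv.Hall
import Cfsg.Agent.S0143
import Cfsg.Agent.S0581

set_option autoImplicit false
open Cfsg

namespace Cfsg.Agent.S4034

open Pointwise

universe u

/-- The hypothesis: all `p`-regular elements have `p`-power class size. -/
def Hyp (p : ℕ) (G : Type u) [Group G] [Finite G] : Prop :=
  ∀ x : G, (orderOf x).Coprime p → ∃ k : ℕ, (Subgroup.centralizer ({x} : Set G)).index = p ^ k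

theorem hyp_sub {p : ℕ} (hp : p.Prime) (G : Type u) [Group G] [Finite G] (N : Subgroup G)
    [N.Normal] (h : Hyp p G) : Hyp p N := by
  intro x hx
  obtain ⟨k, hk⟩ := h x (by simpa using hx)
  obtain ⟨j, -, hj⟩ := (Nat.dvd_prime_pow hp).1 (hk ▸ FGS.index_centralizer_normal_dvd N x)
  exact ⟨j, hj⟩

theorem hyp_quot {p : ℕ} (hp : p.Prime) (G : Type u) [Group G] [Finite G] (N : Subgroup G)
    [N.Normal] (h : Hyp p G) : Hyp p (G ⧸ N) := by
  intro y hy
  obtain ⟨x, rfl, hx⟩ := FGS.exists_lift_coprime (QuotientGroup.mk' N)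
    (QuotientGroup.mk'_surjective N) y hy
  obtain ⟨k, hk⟩ := h x hx
  obtain ⟨j, -, hj⟩ := (Nat.dvd_prime_pow hp).1
    (hk ▸ FGS.index_centralizer_map_dvd _ (QuotientGroup.mk'_surjective N) x)
  exact ⟨j, hj⟩

theorem hyp_simple {p : ℕ} (hp : p.Prime) (G : Type u) [Group G] [Finite G] [IsSimpleGroup G]
    (h : Hyp p G) : Group.IsSolvable G := by
  have := Fact.mk hp
  by_cases hex : ∃ x : G, x ≠ 1 ∧ (orderOf x).Coprime p
  · obtain ⟨x, hx1, hx⟩ := hex
    obtain ⟨k, hk⟩ := h x hx
    have hpr := S0143.result p k hp x hx1 hk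
    have := Fact.mk hpr
    have : IsCyclic G := isCyclic_of_prime_card (p := Nat.card G) rfl
    exact Group.isSolvable_of_comm (fun a b => (IsCyclic.commutative (α := G)).is_comm.comm a b)
  · push Not at hex
    have : IsPGroup p G := by
      intro x
      obtain ⟨k, hk⟩ := Transfer.exists_pow_coprime_orderOf (p := p) x
      refine ⟨k, ?_⟩
      by_contra hne
      exact hex _ hne hk
    have := this.isNilpotent
    infer_instance

theorem main {p : ℕ} (hp : p.Prime) (G : Type u) [Group G] [Finite G] :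
    Hyp p G → ∃ H : Subgroup G, IsMulCommutative H ∧ ¬ p ∣ Nat.card H ∧ ∃ k : ℕ, H.index = p ^ k := by
  have := Fact.mk hp
  refine Grp.card_induction (P := fun G _ _ => Hyp p G →
    ∃ H : Subgroup G, IsMulCommutative H ∧ ¬ p ∣ Nat.card H ∧ ∃ k : ℕ, H.index = p ^ k) ?_ G
  intro G _ _ ih hG
  have hsolv : Group.IsSolvable G := FGS.isSolvable_of_closed (P := fun G _ _ => Hyp p G)
    (fun G _ _ N _ h => hyp_sub hp G N h) (fun G _ _ N _ h => hyp_quot hp G N h)
    (fun G _ _ _ h => hyp_simple hp G h) G hG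
  obtain ⟨a, m, hm, hcard⟩ := Nat.exists_eq_pow_mul_and_not_dvd (Nat.card_pos (α := G)).ne' p hp.ne_one
  have hcop : m.Coprime (p ^ a) :=
    Nat.Coprime.pow_right _ ((Nat.Prime.coprime_iff_not_dvd hp).2 hm).symm
  obtain ⟨H, hH⟩ := Solv.exists_hall G hsolv m (p ^ a) (by rw [hcard, mul_comm]) hcop
  have hm0 : 0 < m := hH ▸ Nat.card_pos
  have hidx : H.index = p ^ a := by
    have := H.card_mul_index
    rw [hH, hcard, mul_comm (p ^ a)] at this
    exact Nat.eq_of_mul_eq_mul_left hm0 this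
  refine ⟨H, ?_, hH ▸ hm, a, hidx⟩
  have hHp : (Nat.card H).Coprime p := hH ▸ ((Nat.Prime.coprime_iff_not_dvd hp).2 hm).symm
  by_cases hO : pCore p G = ⊥
  · have hF : fittingSubgroup G ≤ pPrimeCore p G := Grp.fitting_le_pPrimeCore_of_pCore_eq_bot hO
    have hFp : (Nat.card (fittingSubgroup G)).Coprime p := Grp.coprime_of_le_pPrimeCore hF
    have key : ∀ x : G, (orderOf x).Coprime p →
        x ∈ Subgroup.centralizer (fittingSubgroup G : Set G) := by
      intro x hx
      obtain ⟨k, hk⟩ := hG x hx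
      have : fittingSubgroup G ≤ Subgroup.centralizer ({x} : Set G) :=
        Grp.le_of_coprime_card_index (hk ▸ Nat.Coprime.pow_right _ hFp)
      intro f hf
      exact Subgroup.mem_centralizer_singleton_iff.1 (this hf)
    have hx : ∀ x ∈ H, (orderOf x).Coprime p := fun x hx =>
      Nat.Coprime.coprime_dvd_left (Subgroup.orderOf_dvd_natCard H hx) hHp
    refine ⟨⟨fun x y => Subtype.ext ?_⟩⟩
    exact key y (hx y y.2) x (Grp.centralizer_fitting_le G (key x (hx x x.2)))
  · obtain ⟨K, hK1, hK2, k, hK3⟩ := ih (G ⧸ pCore p G) (Grp.card_quotient_lt _ hO)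
      (hyp_quot hp G _ hG)
    have hKc : (Nat.card K).Coprime K.index :=
      hK3 ▸ Nat.Coprime.pow_right _ ((Nat.Prime.coprime_iff_not_dvd hp).2 hK2).symm
    have hmap : (Nat.card (H.map (QuotientGroup.mk' (pCore p G)))).Coprime K.index := by
      rw [hK3]
      exact Nat.Coprime.pow_right _ (Nat.Coprime.coprime_dvd_left (H.card_map_dvd _) hHp)
    obtain ⟨g, hg⟩ := Solv.exists_conj_le_hall (G ⧸ pCore p G) inferInstance K _ hKc hmap
    have hdisj : pCore p G ⊓ H = ⊥ :=
      Grp.inf_eq_bot_of_isPGroup_of_coprime (Grp.pCore_isPGroup p G) hHp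
    refine ⟨⟨fun x y => Subtype.ext ?_⟩⟩
    have hmem : ∀ z : H, g * (QuotientGroup.mk' (pCore p G) z) * g⁻¹ ∈ K := by
      intro z
      apply hg
      rw [Grp.mem_conj_smul_iff]
      exact ⟨z, z.2, by group⟩
    have hc := hK1.is_comm.comm ⟨_, hmem x⟩ ⟨_, hmem y⟩
    have hc' := congrArg Subtype.val hc
    simp only [Subgroup.coe_mul] at hc'
    have h1 : (QuotientGroup.mk' (pCore p G)) ((x * y : G) * (y * x : G)⁻¹) = 1 := by
      simp only [map_mul, map_inv]
      set a := (QuotientGroup.mk' (pCore p G)) x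
      set b := (QuotientGroup.mk' (pCore p G)) y
      have : a * b = b * a := by
        calc a * b = g⁻¹ * (g * a * g⁻¹ * (g * b * g⁻¹)) * g := by group
          _ = g⁻¹ * (g * b * g⁻¹ * (g * a * g⁻¹)) * g := by rw [hc']
          _ = b * a := by group
      rw [this, mul_inv_cancel]
    have h2 : (x * y : G) * (y * x : G)⁻¹ ∈ pCore p G ⊓ H :=
      ⟨(QuotientGroup.eq_one_iff _).1 h1,
        H.mul_mem (H.mul_mem x.2 y.2) (H.inv_mem (H.mul_mem y.2 x.2))⟩
    rw [hdisj, Subgroup.mem_bot, mul_inv_eq_one] at h2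
    exact h2

/-- Let G be a finite group and p a prime. Every conjugacy class of p-regular elements of G (elements of order prime to p) has p-power size if and only if G has an abelian p-complement, i.e. an abelian subgroup of order prime to p and p-power index. -/
theorem result {G : Type*} [Group G] [Finite G] {p : ℕ} (hp : p.Prime) :
    (∀ x : G, (orderOf x).Coprime p → ∃ k : ℕ, (ConjClasses.mk x).carrier.ncard = p ^ k) ↔
    (∃ H : Subgroup G, IsMulCommutative H ∧ ¬ p ∣ Nat.card H ∧ ∃ k : ℕ, H.index = p ^ k) := by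
  constructor
  · intro h
    apply main hp G
    intro x hx
    rw [← FGS.ncard_carrier_mk]; exact h x hx
  · rintro ⟨H, hH1, hH2, k, hk⟩ x hx
    rw [FGS.ncard_carrier_mk]
    have hc : (Nat.card H).Coprime H.index :=
      hk ▸ Nat.Coprime.pow_right _ ((Nat.Prime.coprime_iff_not_dvd hp).2 hH2).symm
    obtain ⟨g, hg⟩ := S0581.result H (Subgroup.zpowers x) (Grp.isNilpotent_of_isMulCommutative H) hc
      (by
        intro r hr hrx
        rw [Nat.card_zpowers] at hrx
        have h1 : r ∣ Nat.card H * H.index := by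
          rw [H.card_mul_index]; exact hrx.trans (orderOf_dvd_natCard x)
        rcases (Nat.Prime.dvd_mul hr).1 h1 with h1 | h1
        · exact h1
        · rw [hk] at h1
          exact absurd (Nat.eq_one_of_dvd_coprimes hx hrx (hr.dvd_of_dvd_pow h1)) hr.ne_one)
    have hx' := hg (Subgroup.mem_zpowers x)
    rw [Grp.mem_conj_smul_iff] at hx'
    have hle : H ≤ Subgroup.centralizer ({g⁻¹ * x * g⁻¹⁻¹} : Set G) := by
      intro h hh
      rw [Subgroup.mem_centralizer_singleton_iff, inv_inv]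
      exact congrArg Subtype.val (hH1.is_comm.comm ⟨h, hh⟩ ⟨_, hx'⟩)
    have := Subgroup.index_dvd_of_le hle
    rw [FGS.index_centralizer_conj, hk] at this
    obtain ⟨j, -, hj⟩ := (Nat.dvd_prime_pow hp).1 this
    exact ⟨j, hj⟩

end Cfsg.Agent.S4034
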