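import Cfsg.Statements.S4039
import Mathlib
import Cfsg.Agent.FGS.DeskinsJanko
import Cfsg.Agent.S4056

set_option autoImplicit false
open Cfsg

namespace Cfsg.Agent.S4039

/-- A finite group possessing a maximal subgroup that is nilpotent of class at most 2 is solvable. -/
theorem result {G : Type*} [Group G] [Finite G]
    (M : Subgroup G) (hmax : IsCoatom M) (hnil : Group.IsNilpotent M) (hcl : Group.nilpotencyClass ↥M ≤ 2) :
    Group.IsSolvable G := by
  letI : MulDistribMulAction (⊥ : Subgroup (MulAut G)) G := inferInstance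
  refine FGS.CT2.deskins_janko (A := (⊥ : Subgroup (MulAut G))) inferInstance (by simp) M hmax.1
    ?_ (fun H hH _ => hmax.2 H hH) hnil ?_
  · rintro ⟨a, ha⟩ x hx
    rw [Subgroup.mem_bot] at ha
    subst ha
    exact hx
  · refine FGS.CT2.Cl2.mono (P := M) (fun x hx y hy z hz => ?_) (PLocal.Amb.pCoreOf_le 2 M)
    exact (S4056.commute_of_class_le_two hcl ⟨x, hx⟩ ⟨y, hy⟩ ⟨z, hz⟩).map M.subtype

end Cfsg.Agent.S4039
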