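import Cfsg.Statements.S4040
import Cfsg.Agent.S0117
import Cfsg.Agent.Solv.WielandtCompl
import Cfsg.Agent.Solv.Schmidt
import Cfsg.Agent.Solv.CoprimeSylow
import Cfsg.Agent.PLocal.ThompsonAb
import Cfsg.Agent.Grp.MinNormal

set_option autoImplicit false
open Cfsg

namespace Cfsg.Agent.S4040

open Subgroup Cfsg.Agent.PLocal.Amb

universe u

theorem corefree {G : Type u} [Group G] [Finite G]
    (M : Subgroup G) (hmax : IsCoatom M) (hnil : Group.IsNilpotent M) (hodd : Odd (Nat.card M))
    (hcf : ∀ N : Subgroup G, N.Normal → N ≤ M → N = ⊥) : Group.IsSolvable G := by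
  have hG : Nontrivial G := by
    by_contra h
    rw [not_nontrivial_iff_subsingleton] at h
    exact hmax.1 (Subsingleton.elim _ _)
  have hnorm : ∀ X : Subgroup G, X ≤ M → X ≠ ⊥ → M ≤ 𝐍[X] → 𝐍[X] = M := by
    intro X h1 h2 h3
    by_contra h
    have := hmax.2 _ (lt_of_le_of_ne h3 (Ne.symm h))
    exact h2 (hcf X (normalizer_eq_top_iff.1 this) h1)
  obtain ⟨N, hN, hN1, hmin⟩ := Grp.exists_minNormal G
  have hcop : (Nat.card M).Coprime (Nat.card N) := by
    refine Nat.coprime_of_dvd fun p hp hd hdN => ?_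
    have := Fact.mk hp
    have hp2 : p ≠ 2 := by
      rintro rfl
      exact (Nat.not_even_iff_odd.2 hodd) (even_iff_two_dvd.2 hd)
    have hP1 : pCoreOf p M ≠ ⊥ := fun h => ((Solv.NA.isSyl_pCoreOf hnil).eq_bot_iff.1 h) hd
    have hPn : M ≤ 𝐍[pCoreOf p M] := le_normalizer_pCoreOf p M
    have hNP := hnorm _ (pCoreOf_le p M) hP1 hPn
    obtain ⟨S, hS⟩ := (Solv.NA.isSyl_top_of_normalizer_le hnil hNP.le).exists_sylow_top
    have hZ1 : centerThompsonOf p (S : Subgroup G) ≠ ⊥ := by
      intro h
      have := PLocal.centerThompsonOf_ne_bot (p := p) S.isPGroup' (hS ▸ hP1)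
      apply this
      rw [h, eq_bot_iff]
      refine (closure_le _).2 fun x hx => hx.1
    have hZ : 𝐍[centerThompsonOf p (S : Subgroup G)] = M :=
      hnorm _ ((PLocal.centerThompsonOf_le _).trans (hS ▸ pCoreOf_le p M)) hZ1
        (le_trans (hS ▸ hPn) (PLocal.normalizer_le_normalizer_centerThompsonOf _))
    have hc : HasNormalPComplement p G := by
      rw [S0117.result hp2 S]
      have h := Solv.hasNormalPComplement_of_isNilpotent hnil p
      rw [← hZ] at h
      exact h
    obtain ⟨K, hK, hKc, k, hk⟩ := Transfer.hasNormalPComplement_iff_exists_normal.1 hc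
    rcases hmin (N ⊓ K) inferInstance inf_le_left with h | h
    · have hNp : IsPGroup p N := by
        have hq := Transfer.isPGroup_quotient_iff_index.2 ⟨k, hk⟩
        refine hq.of_injective ((QuotientGroup.mk' K).comp N.subtype) ?_
        rw [injective_iff_map_eq_one]
        intro x hx
        have : (x : G) ∈ N ⊓ K := ⟨x.2, (QuotientGroup.eq_one_iff _).1 hx⟩
        rw [h] at this
        exact Subtype.ext this
      have : N ≤ S := hNp.le_sylow_of_normal S
      exact hN1 (hcf N hN (this.trans (hS ▸ pCoreOf_le p M)))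
    · have h2 : N ≤ K := inf_eq_left.1 h
      have := (hdN.trans (card_dvd_of_le h2))
      exact hp.one_lt.ne' (Nat.eq_one_of_dvd_coprimes hKc this dvd_rfl)
  obtain ⟨q, hq, hqN⟩ := Nat.exists_prime_and_dvd (n := Nat.card N)
    (fun h => hN1 (card_eq_one.1 h))
  have := Fact.mk hq
  have hMs : Group.IsSolvable M := inferInstance
  obtain ⟨Q, hQ⟩ := Solv.exists_invariant_sylow M N le_normalizer_of_normal hcop (Or.inl hMs) q
  set Q' : Subgroup G := (Q : Subgroup N).map N.subtype with hQ'
  have hQN : Q' ≤ N := map_subtype_le _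
  have hQ1 : Q' ≠ ⊥ := by
    intro h
    rw [hQ', map_eq_bot_iff_of_injective _ N.subtype_injective] at h
    exact Q.ne_bot_of_dvd_card hqN h
  have hQM : ¬ Q' ≤ M := by
    intro h
    have h1 := card_dvd_of_le h
    have h2 := card_dvd_of_le hQN
    exact hQ1 (card_eq_one.1 (Nat.eq_one_of_dvd_coprimes hcop h1 h2))
  have hQn : Q'.Normal := by
    rw [← normalizer_eq_top_iff]
    refine hmax.2 _ (lt_of_le_of_ne hQ fun h => hQM ?_)
    rw [h]; exact le_normalizer
  have hQp : IsPGroup q Q' := Q.isPGroup'.map _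
  have hQs : Group.IsSolvable Q' := by
    have := hQp.isNilpotent
    infer_instance
  have hsup : M ⊔ Q' = ⊤ := hmax.2 _ (left_lt_sup.2 hQM)
  have hquo : Group.IsSolvable (G ⧸ Q') := by
    refine solvable_of_surjective (f := (QuotientGroup.mk' Q').comp M.subtype) ?_
    intro y
    obtain ⟨g, rfl⟩ := QuotientGroup.mk_surjective y
    have hg : g ∈ M ⊔ Q' := hsup ▸ mem_top g
    obtain ⟨m, hm, z, hz, rfl⟩ := mem_sup_of_normal_right.1 hg
    exact ⟨⟨m, hm⟩, by simp [(QuotientGroup.eq_one_iff z).2 hz]⟩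
  exact solvable_of_ker_le_range Q'.subtype (QuotientGroup.mk' Q') (by simp)

theorem aux (n : ℕ) : ∀ (G : Type u) [Group G] [Finite G] (M : Subgroup G), Nat.card G = n →
    IsCoatom M → Group.IsNilpotent M → Odd (Nat.card M) → Group.IsSolvable G := by
  induction n using Nat.strong_induction_on with
  | _ n ih =>
  intro G _ _ M hn hmax hnil hodd
  by_cases hcf : ∀ N : Subgroup G, N.Normal → N ≤ M → N = ⊥
  · exact corefree M hmax hnil hodd hcf
  push Not at hcf
  obtain ⟨N, hN, hNM, hN1⟩ := hcf
  have h1 : IsCoatom (M.map (QuotientGroup.mk' N)) := by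
    refine ⟨fun h => hmax.1 ?_, fun K hK => ?_⟩
    · have := congrArg (comap (QuotientGroup.mk' N)) h
      rwa [comap_map_eq, QuotientGroup.ker_mk', sup_eq_left.2 hNM, comap_top] at this
    · have h2 : M < K.comap (QuotientGroup.mk' N) := by
        refine lt_of_le_of_ne (map_le_iff_le_comap.1 hK.le) fun h => hK.ne ?_
        rw [h, map_comap_eq_self_of_surjective (QuotientGroup.mk'_surjective N)]
      rw [← map_comap_eq_self_of_surjective (QuotientGroup.mk'_surjective N) K, hmax.2 _ h2,
        map_top_of_surjective _ (QuotientGroup.mk'_surjective N)]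
  have h2 : Group.IsNilpotent (M.map (QuotientGroup.mk' N)) :=
    nilpotent_of_surjective _ ((QuotientGroup.mk' N).subgroupMap_surjective M)
  have h3 : Odd (Nat.card (M.map (QuotientGroup.mk' N))) :=
    hodd.of_dvd_nat (card_map_dvd _ _)
  have h4 := ih _ (hn ▸ Grp.card_quotient_lt N hN1) (G ⧸ N) _ rfl h1 h2 h3
  have h5 : Group.IsNilpotent N :=
    nilpotent_of_mulEquiv (subgroupOfEquivOfLe hNM)
  exact solvable_of_ker_le_range N.subtype (QuotientGroup.mk' N) (by simp)

/-- A finite group possessing a maximal subgroup that is nilpotent of odd order is solvable. -/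
theorem result {G : Type*} [Group G] [Finite G]
    (M : Subgroup G) (hmax : IsCoatom M) (hnil : Group.IsNilpotent M) (hodd : Odd (Nat.card M)) :
    Group.IsSolvable G := aux _ G M rfl hmax hnil hodd

end Cfsg.Agent.S4040
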