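import Cfsg.Statements.S0731
import Mathlib
import Cfsg.Agent.Perm.ZassAbel

set_option autoImplicit false
open Cfsg

namespace Cfsg.Agent.S0731



/-- A finite Zassenhaus group whose point stabiliser has an abelian regular normal subgroup on the remaining points is sharply triply transitive or isomorphic to `PSL(2, F)` for a finite field `F` of odd characteristic. -/
theorem result {G Ω : Type*} [Group G] [Finite G] [MulAction G Ω] [Finite Ω] (hZ : Cfsg.IsZassenhausGroup G Ω) (x : Ω) (F : Subgroup G) (hFle : F ≤ MulAction.stabilizer G x) (hFn : (F.subgroupOf (MulAction.stabilizer G x)).Normal) (hFab : IsMulCommutative F) (hreg : ∀ y z : Ω, y ≠ x → z ≠ x → ∃! u : F, (u : G) • y = z) : (MulAction.IsMultiplyPretransitive G Ω 3 ∧ ∀ t : Fin 3 ↪ Ω, MulAction.stabilizer G t = ⊥) ∨ ∃ (K : Type) (_ : Field K) (_ : Fintype K), ringChar K ≠ 2 ∧ Nonempty (G ≃* Matrix.ProjectiveSpecialLinearGroup (Fin 2) K) := by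
  have hU := Perm.Zass.isKer_of_regular hZ hFle hreg
  obtain ⟨b, hb⟩ := Perm.Zass.exists_ne hZ x
  rcases Perm.ZassPSL.sharp_or_psl hZ hb hU
    (fun u hu v hv => congrArg Subtype.val (hFab.is_comm.comm ⟨u, hu⟩ ⟨v, hv⟩)) with
    h | ⟨h, K, _, _, h1, h2⟩
  · exact Or.inl ⟨Perm.ZassPSL.three_trans_of_card hZ hb h, Perm.sharp_three_iff.mpr
      fun g a b c hab hac hbc => Perm.Zass.eq_one_of_fix_three hZ hab hbc hac⟩
  · refine Or.inr ⟨K, inferInstance, inferInstance, fun h3 => ?_, h2⟩
    have h4 := FiniteField.even_card_of_char_two h3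
    have h5 := Perm.Zass.four_le_card hZ
    rw [← Nat.card_eq_fintype_card] at h4
    omega

end Cfsg.Agent.S0731
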