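import Cfsg.Statements.S1004
import Mathlib
import Cfsg.Agent.Inv.D8Cent
import Cfsg.Agent.Class.PSL2Max
import Cfsg.Agent.S0495

set_option autoImplicit false
open Cfsg

namespace Cfsg.Agent.S1004


/-- Let G be a simple group of order 168 and T a Sylow 2-subgroup. Then T is dihedral of order 8, T is its own normalizer, and T is the centralizer of any non-identity element of T that commutes with every element of T. -/
theorem result {G : Type*} [Group G] [Finite G] [IsSimpleGroup G] (h : Nat.card G = 168) (T : Sylow 2 G) : Nonempty (↥(T : Subgroup G) ≃* DihedralGroup 4) ∧ Subgroup.normalizer ((T : Subgroup G) : Set G) = T ∧ ∀ z : G, z ∈ (T : Subgroup G) → z ≠ 1 → (∀ t ∈ (T : Subgroup G), t * z = z * t) → Subgroup.centralizer ({z} : Set G) = T := by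
  open Cfsg.Agent.Inv Subgroup in
  classical
  have : Fact (Nat.Prime 7) := ⟨by norm_num⟩
  obtain ⟨φ⟩ := S0495.result h (F := ZMod 7) (ZMod.card 7)
  obtain ⟨g, hg⟩ := KSG.M2.exists_noEig (F := ZMod 7)
  obtain ⟨D, ⟨e⟩, -⟩ := Class.Dickson.exists_dihedral_of_trace hg.trace_sq_ne_four
  rw [KSG.M2.SL_card_centralizer_noEig hg, Nat.card_zmod, ZMod.card] at e
  have e1 : D.map φ.symm.toMonoidHom ≃* DihedralGroup 4 := (φ.symm.subgroupMap D).symm.trans e
  have hc : Nat.card (D.map φ.symm.toMonoidHom) = 2 ^ (Nat.card G).factorization 2 := by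
    rw [card_of_equiv_dihedral e1, h, show 168 = 2 ^ 3 * 21 by rfl,
      Nat.factorization_mul (by norm_num) (by norm_num), Nat.prime_two.factorization_pow,
      Finsupp.add_apply, Nat.factorization_eq_zero_of_not_dvd (by norm_num : ¬ 2 ∣ 21)]
    simp
  have e2 : (T : Subgroup G) ≃* DihedralGroup 4 := (Sylow.equiv T (Sylow.ofCard _ hc)).trans e1
  let c : DC (T : Subgroup G) 0 := CycExt.ofMulEquiv e2 (dihedralCycExt _)
  have hidx : ∀ H : Subgroup G, H.index ≠ 2 := by
    intro H hH
    rcases (normal_of_index_eq_two hH).eq_bot_or_eq_top with rfl | rfl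
    · rw [index_bot, h] at hH; omega
    · simp at hH
  have hb := (GW.order_bounds T (by norm_num) e2 (D8Cent.one_class c hidx) c.orderOf_z).1
  have hk : 4 ≤ {a : G | orderOf a = 2 ∧ a * c.r (2 ^ (0 + 1)) = c.r (2 ^ (0 + 1)) * a ∧
      a ≠ c.r (2 ^ (0 + 1))}.ncard := by
    have h1 : (Set.range c.s).ncard = 4 := by
      rw [Set.ncard_range_of_injective fun a b => (c.s_inj a b).1, Nat.card_zmod]; rfl
    rw [← h1]
    refine Set.ncard_le_ncard ?_
    rintro _ ⟨b, rfl⟩
    exact ⟨c.orderOf_s b, c.commute_z (c.s_mem b), c.s_ne_r _ _⟩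
  have hle := Block.DihBlock.le_centralizer_z c
  have hT : (T : Subgroup G).index = 21 := by
    have := index_mul_card (T : Subgroup G)
    rw [card_of_equiv_dihedral e2, h] at this
    omega
  have h1 := index_dvd_of_le hle
  rw [hT] at h1
  have h2 : (centralizer ({c.r (2 ^ (0 + 1))} : Set G)).index = 21 := by
    have h3 := Nat.le_of_dvd (by norm_num) h1
    have h4 : 12 ≤ (centralizer ({c.r (2 ^ (0 + 1))} : Set G)).index := by nlinarith
    generalize (centralizer ({c.r (2 ^ (0 + 1))} : Set G)).index = n at *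
    interval_cases n <;> omega
  have h3 : centralizer ({c.r (2 ^ (0 + 1))} : Set G) = T := by
    refine (eq_of_le_of_card_ge hle ?_).symm
    have i1 := index_mul_card (T : Subgroup G)
    have i2 := index_mul_card (centralizer ({c.r (2 ^ (0 + 1))} : Set G))
    rw [hT] at i1
    rw [h2] at i2
    omega
  refine ⟨⟨e2⟩, le_antisymm ?_ le_normalizer, fun z hz hz1 hzc => ?_⟩
  · have := D8Cent.normalizer_centralizer_le (c.congr h3.symm) rfl
    rwa [h3] at this
  · suffices z = c.r (2 ^ (0 + 1)) by rw [this, h3]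
    rcases c.cases hz with ⟨i, rfl⟩ | ⟨i, rfl⟩
    · have h4 := hzc _ (c.s_mem 0)
      simp only [CycExt.r_mul_s, CycExt.s_mul_r, c.s_inj] at h4
      rcases (Z2.two_mul_eq_zero_iff i).1 (by linear_combination -h4) with h5 | h5
      · simp [h5] at hz1
      · rw [h5]
    · have h4 := hzc _ (c.r_mem 1)
      simp only [CycExt.r_mul_s, CycExt.s_mul_r, c.s_inj] at h4
      have h6 : (2 : ZMod (2 ^ (0 + 2))) ^ 1 = 0 := by linear_combination h4
      rw [Z2.two_pow_eq_zero_iff] at h6
      omega

end Cfsg.Agent.S1004
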