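import Cfsg.Statements.S1005
import Mathlib
import Cfsg.Agent.Small.O168

set_option autoImplicit false
open Cfsg

namespace Cfsg.Agent.S1005

open Cfsg.Agent.Small Cfsg.Agent.Small.O168

/-- In a simple group of order 168 every element has order 1, 2, 3, 4 or 7; there are exactly 21 elements of order 2, and any two of them are conjugate. -/
theorem result {G : Type*} [Group G] [Finite G] [IsSimpleGroup G] (h : Nat.card G = 168) : (∀ g : G, orderOf g = 1 ∨ orderOf g = 2 ∨ orderOf g = 3 ∨ orderOf g = 4 ∨ orderOf g = 7) ∧ Nat.card {g : G // orderOf g = 2} = 21 ∧ ∀ s t : G, orderOf s = 2 → orderOf t = 2 → IsConj s t := by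
  obtain ⟨z, y, a, b, hz, hy, ha, hb, cz, -, hc⟩ := classes h
  have h1 : ∀ u, orderOf u = 2 ↔ IsConj z u := fun u => ⟨fun hu => by
    rcases hc u with rfl | e | e | e | e | e
    · simp at hu
    · exact e
    all_goals
      have := ord_conj e
      try rw [orderOf_inv] at this
      omega, fun e => ord_conj e ▸ hz⟩
  refine ⟨orders h, ?_, fun s t hs ht => ((h1 s).1 hs).symm.trans ((h1 t).1 ht)⟩
  rw [Nat.card_congr (Equiv.subtypeEquivRight h1), card_class, idx h cz (n := 21) rfl]

end Cfsg.Agent.S1005
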