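import Cfsg.Statements.S0420
import Cfsg.Agent.Char.M11Ord5

set_option autoImplicit false
open scoped Pointwise
open Cfsg

namespace Cfsg.Agent.S0420
open Cfsg.Agent.Char

/-- Simple groups of order 7920 are all isomorphic to the concrete smallest Mathieu group. -/
theorem result {G : Type*} [Group G] [Finite G] (hG : Cfsg.IsM11 G) (d : Finset Cfsg.GolayPt) (hd : d ∈ Cfsg.dodecads) (p : Cfsg.GolayPt) (hp : p ∈ d) : Nonempty (G ≃* ↥(MulAction.stabilizer Cfsg.M24 d ⊓ MulAction.stabilizer Cfsg.M24 p)) := by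
  classical
  haveI := hG.1
  haveI := Fintype.ofFinite G
  obtain ⟨S, h⟩ := Cfsg.Agent.Char.M11Ord.exists_fused hG.2
  obtain ⟨M, h1, h2⟩ := h.exists_action hG.2
  haveI := Fintype.ofFinite (G ⧸ M)
  exact Cfsg.Agent.Spor.Sharp11.nonempty_equiv_dodecad
    (by rw [← Nat.card_eq_fintype_card, ← h1]; rfl) hG.2 h2 hd hp

end Cfsg.Agent.S0420
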