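import Cfsg.Statements.S4397
import Cfsg.Agent.FGS.SecRank

set_option autoImplicit false
open Cfsg

namespace Cfsg.Agent.S4397

open Subgroup Cfsg.Agent.FT Cfsg.Agent.FT.R2
open scoped commutatorElement

universe u

theorem ord_sq {R : Type*} [Group R] [Finite R] (hR : IsPGroup 2 R) {x : R} (hx : x ≠ 1) :
    orderOf (x ^ 2) * 2 = orderOf x := by
  haveI : Fact (Nat.Prime 2) := ⟨Nat.prime_two⟩
  rw [orderOf_pow' _ two_ne_zero, Nat.gcd_eq_right (hR.dvd_orderOf hx)]
  exact Nat.div_mul_cancel (hR.dvd_orderOf hx)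

theorem base {R : Type*} [Group R] [Finite R] (hR : IsPGroup 2 R) (hr : SectionalPRankLE 2 2 R)
    (hc : Nat.card (commutator R) ≤ 2) : IsMetacyclic R := by
  haveI : Fact (Nat.Prime 2) := ⟨Nat.prime_two⟩
  have h8 := FGS.SecRank.index_frattini_le hR hr
  by_cases hF : frattini R = ⊤
  · have : (⊥ : Subgroup R) = ⊤ := frattini_nongenerating (by rw [hF, bot_sup_eq])
    haveI : Subsingleton R := ⟨fun x y => by
      have hx : x ∈ (⊥ : Subgroup R) := this ▸ mem_top x
      have hy : y ∈ (⊥ : Subgroup R) := this ▸ mem_top y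
      rw [mem_bot.1 hx, mem_bot.1 hy]⟩
    exact isMetacyclic_of_isCyclic inferInstance
  obtain ⟨a, -, ha⟩ := SetLike.exists_of_lt (lt_top_iff_ne_top.2 hF)
  by_cases h1 : commutator R = ⊥
  · exact isMetacyclic_of_frattini hR h8 ha (Normal.of_commutator_le _ (by rw [h1]; exact bot_le))
  have hc2 : Nat.card (commutator R) = 2 := le_antisymm hc (prime_le_card (hR.to_subgroup _) h1)
  have hZ : commutator R ≤ center R := Grp.PChain.le_center_of_card_eq_prime hR _ hc2
  obtain ⟨z, hz, hz1⟩ : ∃ z ∈ commutator R, z ≠ 1 := by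
    by_contra h
    push Not at h
    exact h1 ((Subgroup.eq_bot_iff_forall _).2 h)
  have hz2 : ∀ w ∈ commutator R, w ^ 2 = 1 := fun w hw => by
    have h1 := pow_card_eq_one' (x := (⟨w, hw⟩ : commutator R))
    rw [hc2] at h1
    exact congrArg Subtype.val h1
  have hzz : commutator R = zpowers z := by
    symm
    apply Subgroup.eq_of_le_of_card_ge (zpowers_le.2 hz)
    rw [hc2, Nat.card_zpowers, orderOf_eq_prime (hz2 z hz) hz1]
  have hcases : ∀ w ∈ commutator R, w = 1 ∨ w = z := by
    intro w hw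
    rw [hzz] at hw
    obtain ⟨k, rfl⟩ := hw
    have h4 : z * z = 1 := by rw [← pow_two]; exact hz2 z hz
    rcases Int.even_or_odd' k with ⟨m, rfl | rfl⟩
    · left; simp only [zpow_mul, zpow_ofNat, pow_two, h4, one_zpow]
    · right; simp only [zpow_add, zpow_mul, zpow_ofNat, pow_two, h4, one_zpow, one_mul, pow_one]
  have hcm : ∀ x y : R, ⁅x, y⁆ ∈ commutator R := fun x y =>
    commutator_mem_commutator (mem_top x) (mem_top y)
  have hsq : ∀ x y : R, ∃ w ∈ commutator R, (x * y) ^ 2 = x ^ 2 * y ^ 2 * w := by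
    intro x y
    refine ⟨⁅x⁻¹, y⁆, hcm _ _, ?_⟩
    have := mem_center_iff.1 (hZ (hcm x⁻¹ y)) (y ^ 2)
    rw [mul_assoc, this, commutatorElement_def]
    simp only [pow_two]; group
  have hsqZ : ∀ x : R, x ^ 2 ∈ center R := by
    intro x
    rw [mem_center_iff]
    intro y
    have h3 := Grp.CommPow.commutator_zpow_left (x := x) (y := y)
      (mem_center_iff.1 (hZ (hcm x y)) x).symm 2
    rw [zpow_ofNat, zpow_ofNat, hz2 _ (hcm x y)] at h3
    exact (commutatorElement_eq_one_iff_mul_comm.1 h3).symm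
  have hFZ : frattini R ≤ center R := Grp.PFrattini.frattini_le hZ hsqZ
  have hcF : commutator R ≤ frattini R := Grp.PFrattini.commutator_le_frattini hR
  have hpF : ∀ x : R, x ^ 2 ∈ frattini R := Grp.PFrattini.pow_mem_frattini hR
  -- the Frattini subgroup consists of squares times commutators
  let W : Subgroup R :=
    { carrier := {x | ∃ d : R, ∃ w ∈ commutator R, x = d ^ 2 * w}
      one_mem' := ⟨1, 1, one_mem _, by simp⟩
      mul_mem' := by
        rintro _ _ ⟨d, w, hw, rfl⟩ ⟨e, v, hv, rfl⟩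
        obtain ⟨t, ht, h⟩ := hsq d e
        refine ⟨d * e, t⁻¹ * (w * v), mul_mem (inv_mem ht) (mul_mem hw hv), ?_⟩
        rw [h, mul_assoc (d ^ 2) w, ← mul_assoc w, ← mem_center_iff.1 (hZ hw)]
        group
      inv_mem' := by
        rintro _ ⟨d, w, hw, rfl⟩
        refine ⟨d⁻¹, w⁻¹, inv_mem hw, ?_⟩
        rw [mul_inv_rev, ← mem_center_iff.1 (hZ (inv_mem hw)), inv_pow] }
  have hFW : frattini R ≤ W := Grp.PFrattini.frattini_le (p := 2) (fun w hw => ⟨1, w, hw, by simp⟩)
    fun g => ⟨g, 1, one_mem _, by simp⟩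
  obtain ⟨c, hc1, hcmax⟩ := Set.exists_max_image {c : R | z ∈ zpowers c} orderOf (Set.toFinite _)
    ⟨z, mem_zpowers z⟩
  have hn : (zpowers c).Normal := Normal.of_commutator_le _ (by rw [hzz]; exact zpowers_le.mpr hc1)
  by_cases hcF' : c ∉ frattini R
  · exact isMetacyclic_of_frattini hR h8 hcF' hn
  exfalso
  push Not at hcF'
  have hc0 : c ≠ 1 := by
    rintro rfl
    exact hz1 (by simpa using hc1)
  have hnsq : ∀ e : R, e ^ 2 ≠ z := by
    obtain ⟨d, w, hw, hd⟩ := hFW hcF'
    rcases hcases w hw with rfl | rfl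
    · rw [mul_one] at hd
      have hd0 : d ≠ 1 := by rintro rfl; exact hc0 (by simpa using hd)
      have h9 := hcmax d (zpowers_le.mpr (hd ▸ pow_mem (mem_zpowers d) 2) hc1)
      have := ord_sq hR hd0
      have := orderOf_pos c
      rw [← hd] at *
      omega
    · obtain ⟨k, hk⟩ := hc1
      have hcd : c ^ 2 = (d ^ 2) ^ 2 := by
        have h4 : Commute (d ^ 2) w := mem_center_iff.1 (hZ hw) _
        rw [hd, h4.mul_pow, hz2 w hw, mul_one]
      rcases Int.even_or_odd' k with ⟨m, rfl | rfl⟩
      · exfalso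
        simp only [zpow_mul, zpow_ofNat] at hk
        have hd2 : d ^ 2 ≠ 1 := by
          intro h; rw [hcd, h] at hk; exact hz1 (by simpa using hk.symm)
        have hd0 : d ≠ 1 := by rintro rfl; exact hd2 (by simp)
        have h9 := hcmax d (by
          change w ∈ zpowers d
          rw [← hk, hcd]
          exact zpow_mem (pow_mem (pow_mem (mem_zpowers d) 2) 2) m)
        have e1 := ord_sq hR hd0
        have e2 := ord_sq hR hd2
        have e3 := ord_sq hR hc0
        have := orderOf_pos (c ^ 2)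
        rw [← hcd] at e2
        omega
      · intro e he
        have h9 := hcmax e (by change w ∈ zpowers e; rw [← he]; exact pow_mem (mem_zpowers e) 2)
        have he0 : e ≠ 1 := by rintro rfl; exact hz1 (by simpa using he.symm)
        have e1 := ord_sq hR he0
        rw [he, orderOf_eq_prime (hz2 w hw) hz1] at e1
        have h5 : (c ^ 2) ^ (2 * m + 1) = 1 := by
          rw [← zpow_natCast, ← zpow_mul, mul_comm, zpow_mul, zpow_natCast]
          simp only at hk
          rw [hk]; exact hz2 w hw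
        have h6 : c ^ 2 = 1 := by
          by_contra h7
          have h10 := hR.dvd_orderOf h7
          have h11 := orderOf_dvd_iff_zpow_eq_one.2 h5
          have h12 : (2 : ℤ) ∣ 2 * m + 1 := (Int.natCast_dvd_natCast.2 h10).trans h11
          omega
        have := orderOf_le_of_pow_eq_one two_pos h6
        omega
  have hMc : ∀ a : R, IsMulCommutative (frattini R ⊔ zpowers a : Subgroup R) := fun a =>
    Grp.PChain.isMulCommutative_sup_zpowers (Grp.PChain.isMulCommutative_of_le inferInstance hFZ)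
      (by rw [mem_centralizer_iff]; intro t ht; exact (mem_center_iff.mp (hFZ ht) a).symm)
  have hna : ∀ M : Subgroup R, IsMulCommutative M → M ≠ ⊤ := by
    rintro M hM rfl
    apply h1
    rw [eq_bot_iff, _root_.commutator_def, commutator_le]
    intro x hx y hy
    rw [mem_bot, commutatorElement_eq_one_iff_mul_comm]
    exact setLike_mul_comm hx hy
  have key : ∀ a ∉ frattini R, ∃ s ∉ frattini R ⊔ zpowers a, s ^ 2 = 1 := by
    intro a ha
    set M := frattini R ⊔ zpowers a with hM
    haveI := hMc a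
    obtain ⟨b, -, hb⟩ := SetLike.exists_of_lt (lt_top_iff_ne_top.2 (hna M this))
    let Sq : Subgroup R :=
      { carrier := {x | ∃ m ∈ M, x = m ^ 2}
        one_mem' := ⟨1, one_mem _, by simp⟩
        mul_mem' := by
          rintro _ _ ⟨d, hd, rfl⟩ ⟨e, he, rfl⟩
          exact ⟨d * e, mul_mem hd he, ((Grp.PChain.commute_of_mem this hd he).mul_pow 2).symm⟩
        inv_mem' := by
          rintro _ ⟨d, hd, rfl⟩
          exact ⟨d⁻¹, inv_mem hd, by rw [inv_pow]⟩ }
    have hSF : Sq ≤ frattini R := by rintro _ ⟨d, -, rfl⟩; exact hpF d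
    haveI : Sq.Normal := ⟨fun x hx g => by
      rw [mem_center_iff.1 (hFZ (hSF hx)) g, mul_inv_cancel_right]; exact hx⟩
    have hi : Sq.relIndex M ≤ 2 ^ 2 := FGS.SecRank.relIndex_le hr
      (by
        rw [commutator_le]; intro x hx y hy
        rw [commutatorElement_eq_one_iff_mul_comm.2 (setLike_mul_comm hx hy)]; exact one_mem _)
      (fun m hm => ⟨m, hm, rfl⟩)
    have hzS : z ∉ Sq := by rintro ⟨d, -, hd⟩; exact hnsq d hd.symm
    have c1 := Grp.PChain.card_sup_zpowers (A := Sq) Nat.prime_two hzS (by rw [hz2 z hz]; exact one_mem _)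
    have c2 := Grp.PChain.card_sup_zpowers (A := frattini R) Nat.prime_two ha (hpF a)
    have c3 := Grp.card_inf_mul_relIndex M Sq
    rw [inf_eq_right.2 (hSF.trans le_sup_left)] at c3
    have heq : Sq ⊔ zpowers z = frattini R := by
      apply Subgroup.eq_of_le_of_card_ge (sup_le hSF (zpowers_le.2 (hcF hz)))
      rw [c1]
      rw [← hM, ← c3] at c2
      nlinarith
    obtain ⟨_, ⟨m, hm, rfl⟩, i, hi⟩ := Grp.PChain.mem_sup_zpowers.1 (heq ▸ hpF b)
    refine ⟨b * m⁻¹, fun h => hb (by simpa using mul_mem h hm), ?_⟩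
    obtain ⟨w, hw, hw2⟩ := hsq b m⁻¹
    have h5 : (b * m⁻¹) ^ 2 ∈ commutator R := by
      rw [hw2, hi, inv_pow, mem_center_iff.1 (hZ (zpow_mem hz i)), mul_inv_cancel_right]
      exact mul_mem (zpow_mem hz i) hw
    exact (hcases _ h5).resolve_right (hnsq _)
  obtain ⟨s, hs, hs2⟩ := key a ha
  have hsF : s ∉ frattini R := fun h => hs (mem_sup_left h)
  obtain ⟨t, ht, ht2⟩ := key s hsF
  have hst : ⁅s, t⁆ = 1 := by
    refine (hcases _ (hcm s t)).resolve_right fun h => hnsq (s * t) ?_
    rw [← h, commutatorElement_def, inv_eq_of_mul_eq_one_right (by rw [← pow_two]; exact hs2),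
      inv_eq_of_mul_eq_one_right (by rw [← pow_two]; exact ht2)]
    simp only [pow_two, mul_assoc]
  haveI : (frattini R ⊔ zpowers s).Normal := Normal.of_commutator_le _ (hcF.trans le_sup_left)
  have c2 := Grp.PChain.card_sup_zpowers (A := frattini R) Nat.prime_two hsF (hpF s)
  have c1 := Grp.PChain.card_sup_zpowers (A := frattini R ⊔ zpowers s) Nat.prime_two ht
    (mem_sup_left (hpF t))
  refine hna (frattini R ⊔ zpowers s ⊔ zpowers t) (Grp.PChain.isMulCommutative_sup_zpowers (hMc s) ?_) ?_
  · rw [Grp.PChain.centralizer_sup_zpowers]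
    refine ⟨mem_centralizer_singleton_iff.2 (commutatorElement_eq_one_iff_mul_comm.1 hst).symm, ?_⟩
    exact mem_centralizer_iff.2 fun u hu => (mem_center_iff.mp (hFZ hu) t).symm
  · apply Subgroup.eq_of_le_of_card_ge le_top
    rw [c1, c2, card_top, ← (frattini R).card_mul_index]
    nlinarith

theorem main (R : Type u) [Group R] [Finite R] :
    IsPGroup 2 R → SectionalPRankLE 2 2 R → IsMetacyclic R := by
  haveI hp : Fact (Nat.Prime 2) := ⟨Nat.prime_two⟩
  refine Grp.card_induction (P := fun R _ _ => IsPGroup 2 R →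
    SectionalPRankLE 2 2 R → IsMetacyclic R) ?_ R
  · intro R _ _ ih hR hO
    by_cases hc : Nat.card (commutator R) ≤ 2
    · exact base hR hO hc
    set N : Subgroup R := closure {y | ∃ x ∈ commutator R, y = x ^ 2} with hN
    have hNn : N.Normal := by
      rw [← normalizer_eq_top_iff, eq_top_iff, le_normalizer_closure_iff]
      rintro g - _ ⟨x, hx, rfl⟩
      exact subset_closure ⟨g * x * g⁻¹, Normal.conj_mem inferInstance x hx g, by rw [conj_pow]⟩
    obtain ⟨T, hTn, hTc, hT⟩ : ∃ T : Subgroup R, T.Normal ∧ Nat.card T = 2 ∧ (N ≠ ⊥ → T ≤ N) := by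
      by_cases h : N = ⊥
      · obtain ⟨T, h1, -, h2⟩ := Grp.PChain.exists_normal_le_card hR (commutator R) 1
          (by rw [pow_one]; exact (not_le.mp hc).le)
        exact ⟨T, h1, by simpa using h2, fun h' => absurd h h'⟩
      · obtain ⟨T, h1, h3, h2⟩ := Grp.PChain.exists_normal_le_card hR N 1
          (by simpa using prime_le_card (hR.to_subgroup _) h)
        exact ⟨T, h1, by simpa using h2, fun _ => h3⟩
    have hTZ := Grp.PChain.le_center_of_card_eq_prime hR T hTc
    have hm : IsMetacyclic (R ⧸ T) := by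
      refine ih (R ⧸ T) (Grp.card_quotient_lt T ?_) (hR.to_quotient T) (FGS.SecRank.quotient hO T)
      rintro rfl
      exact hp.out.one_lt.ne (by simpa using hTc)
    obtain ⟨a', b', hn, hab⟩ := isMetacyclic_iff.mp hm
    obtain ⟨a, rfl⟩ := QuotientGroup.mk'_surjective T a'
    obtain ⟨b, rfl⟩ := QuotientGroup.mk'_surjective T b'
    have hn' : (T ⊔ zpowers a).Normal := by rw [← comap_zpowers_mk']; infer_instance
    have hab' : T ⊔ zpowers a ⊔ zpowers b = ⊤ := by
      have := congrArg (Subgroup.comap (QuotientGroup.mk' T)) hab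
      rw [← MonoidHom.map_zpowers, ← MonoidHom.map_zpowers, ← Subgroup.map_sup, comap_map_eq,
        QuotientGroup.ker_mk', comap_top] at this
      rw [← this, sup_comm _ T, sup_assoc]
    have h1 := commutator_le_zpowers hTZ hn' hab'
    have hcS : ⁅a, b⁆ ∈ T ⊔ zpowers a :=
      commutator_le_left _ ⊤ (commutator_mem_commutator (mem_sup_right (mem_zpowers a)) (mem_top b))
    obtain ⟨t, ht, i, hi⟩ := Grp.PChain.mem_sup_zpowers.mp hcS
    have h2 : ⁅a, b⁆ ^ 2 ∈ zpowers a := by
      have h3 : t ^ 2 = 1 := by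
        have := pow_card_eq_one' (x := (⟨t, ht⟩ : T))
        rw [hTc] at this
        exact congrArg Subtype.val this
      have h4 : Commute t (a ^ i) := (mem_center_iff.mp (hTZ ht) _).symm
      rw [hi, h4.mul_pow, h3, one_mul]
      exact pow_mem (zpow_mem (mem_zpowers a) i) 2
    have h5 : N ≤ zpowers a := by
      rw [hN, closure_le]
      rintro _ ⟨x, hx, rfl⟩
      obtain ⟨k, rfl⟩ := h1 hx
      simp only [SetLike.mem_coe]
      rw [← zpow_natCast, ← zpow_mul, mul_comm, zpow_mul, zpow_natCast]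
      exact zpow_mem h2 k
    have h6 : N ≠ ⊥ := by
      intro h
      apply hc
      refine card_le_of_isCyclic hp.out.pos (isCyclic_of_le h1) fun x hx => ?_
      rw [← mem_bot, ← h]
      exact subset_closure ⟨x, hx, rfl⟩
    have h7 : T ⊔ zpowers a = zpowers a := sup_eq_right.mpr ((hT h6).trans h5)
    rw [h7] at hn' hab'
    exact isMetacyclic_iff.mpr ⟨a, b, hn', hab'⟩

/-- A finite 2-group of sectional 2-rank at most 2 (every section has no elementary abelian subgroup of order 8) is metacyclic: it has a cyclic normal subgroup with cyclic quotient. -/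
theorem result {S : Type*} [Group S] [Finite S] (h2 : IsPGroup 2 S) (hr : Cfsg.SectionalPRankLE 2 2 S) : Cfsg.IsMetacyclic S := by
  exact main S h2 hr

end Cfsg.Agent.S4397
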