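import Mathlib
import Cfsg.Statements.S4144
import Cfsg.Agent.Fus.MaxCl
-- import your own Cfsg.Agent.* helpers here

set_option autoImplicit false
open Cfsg

namespace Cfsg.Agent.S4144

open Cfsg.Agent.Fus

/-- Let X be a finite p-group of order p^n, n ≥ 2, of nilpotency class n − 1 (maximal class), and H any subgroup of X. Then the index in H of the subgroup generated by the p-th powers of elements of H is at most p^p. -/
theorem result {X : Type*} [Group X] [Finite X] {p : ℕ} [Fact p.Prime] (n : ℕ) (hn : 2 ≤ n) (hX : Nat.card X = p ^ n)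
    (hmax : Group.nilpotencyClass X = n - 1) (H : Subgroup X) :
    (Subgroup.closure {y : X | ∃ h ∈ H, y = h ^ p}).relIndex H ≤ p ^ p := by
  have hp : p.Prime := Fact.out
  have hle : Subgroup.closure {y : X | ∃ h ∈ H, y = h ^ p} ≤ H := by
    rw [Subgroup.closure_le]; rintro _ ⟨h, hh, rfl⟩; exact pow_mem hh p
  refine Nat.le_of_mul_le_mul_left ?_
    (Nat.card_pos (α := Subgroup.closure {y : X | ∃ h ∈ H, y = h ^ p}))
  rw [Grp.card_mul_relIndex_of_le hle]
  rcases hn.eq_or_lt with rfl | h3
  · exact (H.card_le_card_group.trans_eq hX).trans ((Nat.pow_le_pow_right hp.pos hp.two_le).trans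
      (Nat.le_mul_of_pos_left _ Nat.card_pos))
  · exact MC.IsMC.card_le_pow ⟨hX, hmax, h3⟩ fun x hx => Subgroup.subset_closure ⟨x, hx, rfl⟩

end Cfsg.Agent.S4144
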