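import Cfsg.Statements.S4541
import Cfsg.Agent.Block.SubAvg

set_option autoImplicit false
open Cfsg

namespace Cfsg.Agent.S4541

open Cfsg.Agent.Block Subgroup

open Cfsg.Agent.Char

theorem key {G : Type*} [Group G] [Finite G] (M : Ideal Cfsg.AlgInt) (hM : Cfsg.IsPModular 2 M) (B : Set (Cfsg.IrrCharacter G)) (u : G) (hu : ∃ j : ℕ, orderOf u = 2 ^ j) (b : Set (Cfsg.IrrCharacter ↥(Subgroup.centralizer ({u} : Set G)))) (hb : Cfsg.IsInducedBlock M (Subgroup.centralizer ({u} : Set G)) b B) : ∃ a : ℕ, Odd a ∧ Nat.card {χ : Cfsg.IrrCharacter G // χ ∈ B ∧ Cfsg.blockHeight 2 B (χ : G → ℂ) = 0} ≤ a * 2 ^ blockDefect 2 b ∧ a * Nat.card {χ : Cfsg.IrrCharacter G // χ ∈ B ∧ Cfsg.blockHeight 2 B (χ : G → ℂ) = 0} ≤ blockRank 2 b * 2 ^ blockDefect 2 b := by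
  classical
  rw [natCard_height_eq]
  set K := (Finset.univ.filter (· ∈ B)).filter fun χ : IrrCharacter G =>
    blockHeight 2 B (χ : G → ℂ) = 0 with hK
  have hm : ∀ χ ∈ K, χ ∈ B ∧ blockHeight 2 B (χ : G → ℂ) = 0 := fun χ hχ => by simpa [hK] using hχ
  have hN : (0 : ℝ) < (gens u).card := Nat.cast_pos.2 (card_gens_pos u)
  obtain ⟨η, hη, hη0⟩ := exists_blockHeight_eq_zero (p := 2) (block_nonempty hM hb.2.1)
  obtain ⟨χ, hχ, hmin⟩ := K.exists_min_image (fun χ => dsum 2 b u (χ : G → ℂ))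
    ⟨η, by simp [hK, hη, hη0]⟩
  obtain ⟨a, ha, h1⟩ := exists_odd_dsum hM hu rfl hb (hm χ hχ).1 (hm χ hχ).2
  refine ⟨a, ha, ?_, ?_⟩
  · have h2 := (Finset.card_nsmul_le_sum K _ _ fun ψ hψ => card_le_osum2 hM hu rfl hb (hm χ hχ).1
      (hm χ hχ).2 (hm ψ hψ).1 (hm ψ hψ).2).trans ((Finset.sum_le_sum_of_subset_of_nonneg
      (Finset.filter_subset _ _) fun _ _ _ => osum2_nonneg _ _).trans_eq
      (sum_osum2 hM hu rfl hb _))
    rw [h1, nsmul_eq_mul] at h2
    have h3 : (K.card : ℝ) ≤ a * (2 : ℕ) ^ blockDefect 2 b :=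
      le_of_mul_le_mul_left (by linarith) hN
    exact_mod_cast h3
  · have h2 := (Finset.card_nsmul_le_sum K _ _ hmin).trans ((Finset.sum_le_sum_of_subset_of_nonneg
      (Finset.filter_subset _ _) fun _ _ _ => dsum_nonneg _).trans_eq (sum_dsum hM hu rfl hb))
    rw [h1, nsmul_eq_mul] at h2
    have h3 : (a * K.card : ℝ) ≤ blockRank 2 b * (2 : ℕ) ^ blockDefect 2 b :=
      le_of_mul_le_mul_left (by linarith) hN
    exact_mod_cast h3


/-- Let B be a 2-block of the finite group G (relative to a maximal ideal M of the algebraic integers containing 2), u a 2-element, and b a block of the centralizer of u inducing B (a subsection (u, b)), of defect q and 2-regular rank l; write s for the integer square root of l and k₀(B) for the number of members of B of height zero. If s is odd then k₀(B) ≤ s·2 ^ q, and otherwise (s + 1)·k₀(B) ≤ l·2 ^ q; in particular k₀(B) ≤ 2 ^ q when l ≤ 3. -/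
theorem result {G : Type*} [Group G] [Finite G] (M : Ideal Cfsg.AlgInt) (hM : Cfsg.IsPModular 2 M) (B : Set (Cfsg.IrrCharacter G)) (hB : Cfsg.IsPBlock M B) (u : G) (hu : ∃ j : ℕ, orderOf u = 2 ^ j) (b : Set (Cfsg.IrrCharacter ↥(Subgroup.centralizer ({u} : Set G)))) (hb : Cfsg.IsInducedBlock M (Subgroup.centralizer ({u} : Set G)) b B) : (Odd (Nat.sqrt (Cfsg.blockRank 2 b)) → Nat.card {χ : Cfsg.IrrCharacter G // χ ∈ B ∧ Cfsg.blockHeight 2 B (χ : G → ℂ) = 0} ≤ Nat.sqrt (Cfsg.blockRank 2 b) * 2 ^ Cfsg.blockDefect 2 b) ∧ (¬ Odd (Nat.sqrt (Cfsg.blockRank 2 b)) → (Nat.sqrt (Cfsg.blockRank 2 b) + 1) * Nat.card {χ : Cfsg.IrrCharacter G // χ ∈ B ∧ Cfsg.blockHeight 2 B (χ : G → ℂ) = 0} ≤ Cfsg.blockRank 2 b * 2 ^ Cfsg.blockDefect 2 b) ∧ (Cfsg.blockRank 2 b ≤ 3 → Nat.card {χ : Cfsg.IrrCharacter G // χ ∈ B ∧ Cfsg.blockHeight 2 B (χ : G → ℂ) = 0} ≤ 2 ^ Cfsg.blockDefect 2 b) := by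
  obtain ⟨a, ha, h1, h2⟩ := key M hM B u hu b hb
  have hl := blockRank_pos hM hb.1
  generalize Nat.card {χ : Cfsg.IrrCharacter G // χ ∈ B ∧ Cfsg.blockHeight 2 B (χ : G → ℂ) = 0} = k
    at *
  generalize blockRank 2 b = l at *
  generalize 2 ^ blockDefect 2 b = q at *
  have h3 := Nat.sqrt_le l
  have h4 := Nat.lt_succ_sqrt l
  have h5 : Odd l.sqrt → k ≤ l.sqrt * q := fun h => by
    rcases le_or_gt a l.sqrt with h6 | h6
    · exact h1.trans (Nat.mul_le_mul_right _ h6)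
    · have h7 : l.sqrt + 2 ≤ a := by
        obtain ⟨i, rfl⟩ := ha
        obtain ⟨j, hj⟩ := h
        omega
      have h8 : l ≤ (l.sqrt + 2) * l.sqrt := by nlinarith
      refine le_of_mul_le_mul_left (a := l.sqrt + 2) ?_ (by omega)
      calc (l.sqrt + 2) * k ≤ a * k := Nat.mul_le_mul_right _ h7
        _ ≤ l * q := h2
        _ ≤ (l.sqrt + 2) * l.sqrt * q := Nat.mul_le_mul_right _ h8
        _ = _ := mul_assoc _ _ _
  refine ⟨h5, fun h => ?_, fun h => ?_⟩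
  · rcases le_or_gt (l.sqrt + 1) a with h6 | h6
    · exact (Nat.mul_le_mul_right _ h6).trans h2
    · have h7 : a + 1 ≤ l.sqrt := by
        obtain ⟨i, rfl⟩ := ha
        obtain ⟨j, hj⟩ := Nat.not_odd_iff_even.1 h
        omega
      have h8 : (l.sqrt + 1) * a ≤ l := by nlinarith
      calc (l.sqrt + 1) * k ≤ (l.sqrt + 1) * (a * q) := Nat.mul_le_mul_left _ h1
        _ = (l.sqrt + 1) * a * q := (mul_assoc _ _ _).symm
        _ ≤ _ := Nat.mul_le_mul_right _ h8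
  · have h6 : l.sqrt = 1 := by interval_cases l <;> norm_num
    rw [h6] at h5
    simpa using h5 odd_one

end Cfsg.Agent.S4541
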