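import Cfsg.Statements.S4240
import Mathlib
import Cfsg.Agent.Solv.ExtAction
import Cfsg.Agent.Solv.Schmidt
import Cfsg.Agent.Solv.Coprime3
import Cfsg.Agent.PLocal.Thompson
import Cfsg.Agent.Grp.MinNormal
import Cfsg.Agent.S0108
import Cfsg.Agent.S0205

set_option autoImplicit false
open Cfsg

namespace Cfsg.Agent.S4240

open Solv.Ext Subgroup

universe u

theorem or_solvable {A G : Type*} [Group A] [Group G] [Finite A] [Finite G]
    (hcop : (Nat.card A).Coprime (Nat.card G)) : Group.IsSolvable A ∨ Group.IsSolvable G := by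
  rcases Nat.even_or_odd (Nat.card A) with h | h
  · refine Or.inr (S0205.result ?_)
    rw [← Nat.not_even_iff_odd]
    intro h'
    exact absurd (Nat.eq_one_of_dvd_coprimes hcop h.two_dvd h'.two_dvd) (by norm_num)
  · exact Or.inl (S0205.result h)

theorem solv {A : Type*} [Group A] [Finite A] (G : Type u) [Group G] [Finite G] :
    ∀ [MulDistribMulAction A G], (Nat.card A).Coprime (Nat.card G) →
      (∀ H : Subgroup G, H ≠ ⊤ → Inv A H → Group.IsNilpotent H) → Group.IsSolvable G := by
  refine Grp.card_induction (P := fun G _ _ => ∀ [MulDistribMulAction A G],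
    (Nat.card A).Coprime (Nat.card G) →
      (∀ H : Subgroup G, H ≠ ⊤ → Inv A H → Group.IsNilpotent H) → Group.IsSolvable G) ?_ G
  intro G _ _ ih _ hcop hsub
  by_cases hN : ∃ N : Subgroup G, N.Normal ∧ Inv A N ∧ N ≠ ⊥ ∧ N ≠ ⊤
  · obtain ⟨N, hNn, hNA, hb, ht⟩ := hN
    have := hsub N ht hNA
    obtain ⟨_, hq⟩ := exists_quotAction hNA
    have h2 : Group.IsSolvable (G ⧸ N) := by
      refine ih (G ⧸ N) (Grp.card_quotient_lt _ hb)
        (hcop.coprime_dvd_right (Subgroup.card_quotient_dvd_card N)) fun H hH hHA => ?_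
      have h3 := hsub (H.comap (QuotientGroup.mk' N)) (fun e => hH (by
        rw [← Subgroup.map_comap_eq_self_of_surjective (QuotientGroup.mk'_surjective N) H, e,
          Subgroup.map_top_of_surjective _ (QuotientGroup.mk'_surjective N)])) (hHA.comap hq)
      rw [← Subgroup.map_comap_eq_self_of_surjective (QuotientGroup.mk'_surjective N) H]
      exact Group.nilpotent_of_surjective _ ((QuotientGroup.mk' N).subgroupMap_surjective _)
    exact (Group.isSolvable_iff_subgroup_quotient N).2 ⟨inferInstance, h2⟩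
  push Not at hN
  by_contra hG
  have hpg : ∀ q : ℕ, q.Prime → ¬ IsPGroup q G := fun q hq h => by
    have : Fact q.Prime := ⟨hq⟩
    have := h.isNilpotent
    exact hG inferInstance
  obtain ⟨q, hq, hqd, hq2⟩ : ∃ q : ℕ, q.Prime ∧ q ∣ Nat.card G ∧ q ≠ 2 := by
    by_contra h
    push Not at h
    exact hpg 2 Nat.prime_two (IsPGroup.of_card
      (Nat.eq_prime_pow_of_unique_prime_dvd Nat.card_pos.ne' (fun hq hd => h _ hq hd)))
  have : Fact q.Prime := ⟨hq⟩
  obtain ⟨Q, hQ⟩ := exists_inv_sylow hcop (or_solvable hcop) q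
  have hQ1 : (Q : Subgroup G) ≠ ⊥ := Q.ne_bot_of_dvd_card hqd
  have hnorm : ∀ B : Subgroup G, B ≤ Q → B ≠ ⊥ → Inv A B →
      HasNormalPComplement q (normalizer (B : Set G)) := by
    intro B hB hB1 hinv
    refine Solv.hasNormalPComplement_of_isNilpotent (hsub _ (fun e => ?_) hinv.normalizer) q
    have h1 := hN B (Subgroup.normalizer_eq_top_iff.1 e) hinv hB1
    have h2 : IsPGroup q B := Q.2.to_le hB
    rw [h1] at h2
    exact hpg q hq (h2.of_equiv Subgroup.topEquiv)
  have hc : HasNormalPComplement q G := by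
    refine (S0108.result hq2 Q).2 ⟨hnorm _ (PLocal.thompsonSubgroupOf_le _)
      (PLocal.thompsonSubgroupOf_ne_bot_of_isPGroup Q.2 hQ1) (inv_of_map_eq fun a => ?_), ?_⟩
    · rw [PLocal.map_thompsonSubgroupOf _ (hom_injective a), hQ.map_eq]
    · refine Transfer.HasNormalPComplement.of_le (hnorm
        ((Q : Subgroup G) ⊓ centralizer ((Q : Subgroup G) : Set G)) inf_le_left ?_
        (hQ.inf hQ.centralizer)) (Subgroup.centralizer_le_normalizer _)
      have : Nontrivial Q := (Subgroup.nontrivial_iff_ne_bot (Q : Subgroup G)).2 hQ1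
      obtain ⟨⟨z, hz⟩, hz1⟩ := Subgroup.ne_bot_iff_exists_ne_one.1 Q.2.bot_lt_center.ne'
      refine Subgroup.ne_bot_iff_exists_ne_one.2 ⟨⟨z, z.2, fun w hw => ?_⟩, fun h => hz1 ?_⟩
      · exact congrArg Subtype.val (Subgroup.mem_center_iff.1 hz ⟨w, hw⟩)
      · exact Subtype.ext (Subtype.ext (Subtype.ext_iff.1 h :))
  rw [Transfer.hasNormalPComplement_iff_coprime] at hc
  have hne : pResidual q G ≠ ⊤ := fun e => by
    rw [e, Subgroup.card_top] at hc
    exact hq.one_lt.ne' (Nat.eq_one_of_dvd_coprimes hc hqd dvd_rfl)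
  by_cases h1 : pResidual q G = ⊥
  · exact hpg q hq (Transfer.pResidual_eq_bot_iff.1 h1)
  · exact hne (hN _ inferInstance (inv_of_characteristic _) h1)

theorem exists_pResidual_ne_top {G : Type*} [Group G] [Finite G] [Group.IsSolvable G]
    [Nontrivial G] : ∃ q : ℕ, q.Prime ∧ pResidual q G ≠ ⊤ := by
  have hlt := Group.IsSolvable.commutator_lt_top_of_nontrivial G
  have h1 : Nat.card (Abelianization G) ≠ 1 := fun h => hlt.ne (Subgroup.index_eq_one.1 h)
  have hq := Nat.minFac_prime h1
  have : Fact (Nat.card (Abelianization G)).minFac.Prime := ⟨hq⟩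
  refine ⟨_, hq, fun e => ?_⟩
  have hc := Solv.hasNormalPComplement_of_isNilpotent (G := Abelianization G) inferInstance
    (Nat.card (Abelianization G)).minFac
  have hs : Function.Surjective (Abelianization.of : G →* Abelianization G) :=
    QuotientGroup.mk'_surjective _
  rw [Transfer.hasNormalPComplement_iff_coprime, ← Transfer.map_pResidual_of_surjective _ hs, e,
    Subgroup.map_top_of_surjective _ hs, Subgroup.card_top] at hc
  exact hq.one_lt.ne' (Nat.eq_one_of_dvd_coprimes hc (Nat.minFac_dvd _) dvd_rfl)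

theorem normal_sylow_of_le {G : Type*} [Group G] [Finite G] {p : ℕ} [Fact p.Prime] (P : Sylow p G)
    (K : Subgroup G) [K.Normal] (hK : Group.IsNilpotent K) (h : (P : Subgroup G) ≤ K) :
    (P : Subgroup G).Normal := by
  have h1 : ((P.subtype h : Sylow p K) : Subgroup K).Normal := inferInstance
  have h2 := Sylow.characteristic_of_normal _ h1
  have h3 : (((P.subtype h : Sylow p K) : Subgroup K).map K.subtype).Normal := inferInstance
  rwa [Sylow.coe_subtype, Subgroup.subgroupOf_map_subtype, inf_of_le_left h] at h3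

theorem le_normalizer_of_nilpotent {G : Type*} [Group G] [Finite G] {p : ℕ} [Fact p.Prime]
    (P : Sylow p G) (K : Subgroup G) (hK : Group.IsNilpotent K) (h : (P : Subgroup G) ≤ K) :
    K ≤ normalizer ((P : Subgroup G) : Set G) := by
  have h1 : ((P.subtype h : Sylow p K) : Subgroup K).Normal := inferInstance
  rw [Sylow.coe_subtype] at h1
  exact (Subgroup.normal_subgroupOf_iff_le_normalizer h).1 h1


/-- Let a finite group A act by automorphisms on a finite group G of order coprime to that of A. Suppose every maximal A-invariant proper subgroup of G is nilpotent while G is not. Then G is solvable, the order of G has the form p^a·q^b for two distinct primes p and q, and G has a normal A-invariant Sylow subgroup for some prime dividing its order. -/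
theorem result {A G : Type*} [Group A] [Group G] [Finite A] [Finite G] [MulDistribMulAction A G]
    (hcop : (Nat.card A).Coprime (Nat.card G))
    (hmax : ∀ H : Subgroup G, H ≠ ⊤ → (∀ a : A, ∀ x ∈ H, a • x ∈ H) →
      (∀ K : Subgroup G, H < K → (∀ a : A, ∀ x ∈ K, a • x ∈ K) → K = ⊤) → Group.IsNilpotent H)
    (hG : ¬ Group.IsNilpotent G) :
    Group.IsSolvable G ∧
      (∃ p q a b : ℕ, p.Prime ∧ q.Prime ∧ p ≠ q ∧ Nat.card G = p ^ a * q ^ b) ∧
      ∃ (p : ℕ) (P : Sylow p G), p.Prime ∧ p ∣ Nat.card G ∧ (P : Subgroup G).Normal ∧ (∀ a : A, ∀ x ∈ (P : Subgroup G), a • x ∈ (P : Subgroup G)) := by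
  have hsub : ∀ H : Subgroup G, H ≠ ⊤ → Inv A H → Group.IsNilpotent H := by
    intro H hH hHA
    obtain ⟨M, hHM, hM, hMA, hm⟩ := exists_maximal_inv_ge hHA hH
    have := hmax M hM hMA hm
    exact Group.nilpotent_of_mulEquiv (Subgroup.subgroupOfEquivOfLe hHM)
  have hs := solv G hcop hsub
  refine ⟨hs, ?_⟩
  have hnt : Nontrivial G := by
    by_contra h
    rw [not_nontrivial_iff_subsingleton] at h
    exact hG inferInstance
  obtain ⟨q, hq, hK⟩ := exists_pResidual_ne_top (G := G)
  have : Fact q.Prime := ⟨hq⟩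
  have hKn := hsub _ hK (inv_of_characteristic _)
  have hnormal : ∀ (p : ℕ) [Fact p.Prime], p ≠ q → ∀ P : Sylow p G, (P : Subgroup G).Normal := by
    intro p _ hpq P
    refine normal_sylow_of_le P _ hKn fun x hx => Transfer.mem_pResidual_of_coprime ?_
    obtain ⟨k, hk⟩ := IsPGroup.iff_orderOf.1 P.2 ⟨x, hx⟩
    rw [Subgroup.orderOf_mk] at hk
    rw [hk]
    exact Nat.Coprime.pow_left _ ((Nat.coprime_primes Fact.out hq).2 hpq)
  obtain ⟨Q, hQ⟩ := exists_inv_sylow hcop (Or.inr hs) q
  have hinv : ∀ (p : ℕ) [Fact p.Prime], p ≠ q → ∀ P : Sylow p G, Inv A (P : Subgroup G) := by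
    intro p _ hpq P
    have := Sylow.characteristic_of_normal P (hnormal p hpq P)
    exact inv_of_characteristic _
  by_cases h : ∃ (p : ℕ) (_ : Fact p.Prime) (P : Sylow p G), p ≠ q ∧ (Q : Subgroup G) ⊔ P = ⊤
  · obtain ⟨p, hp, P, hpq, hPQ⟩ := h
    have := hnormal p hpq P
    obtain ⟨a, ha⟩ := P.2.exists_card_eq
    obtain ⟨b, hb⟩ := Q.2.exists_card_eq
    have h1 := Grp.card_sup_of_disjoint (Q : Subgroup G) P
      (disjoint_iff.1 (IsPGroup.disjoint_of_ne q p (Ne.symm hpq) _ _ Q.2 P.2))
    rw [hPQ, Subgroup.card_top, ha, hb, mul_comm] at h1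
    refine ⟨⟨p, q, a, b, hp.out, hq, hpq, h1⟩, p, P, hp.out, ?_, this, hinv p hpq P⟩
    by_contra hnd
    have h2 : (P : Subgroup G) = ⊥ := by
      rw [← Subgroup.card_eq_one, P.card_eq_multiplicity, Nat.factorization_eq_zero_of_not_dvd hnd,
        pow_zero]
    rw [h2, sup_bot_eq] at hPQ
    have h3 : IsPGroup q (⊤ : Subgroup G) := hPQ ▸ Q.2
    exact hG (h3.of_equiv Subgroup.topEquiv).isNilpotent
  exfalso
  push Not at h
  have hQn : (Q : Subgroup G).Normal := by
    rw [← Subgroup.normalizer_eq_top_iff]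
    refine Solv.eq_top_of_forall_sylow_le _ fun p hp => ?_
    by_cases hpq : p = q
    · subst hpq
      exact ⟨Q, Subgroup.le_normalizer⟩
    · obtain ⟨P⟩ : Nonempty (Sylow p G) := inferInstance
      exact ⟨P, le_sup_right.trans (le_normalizer_of_nilpotent Q _
        (hsub _ (h p hp P hpq) (hQ.sup (hinv p hpq P))) le_sup_left)⟩
  refine hG ((Group.isNilpotent_of_finite_tfae.out 3 0 rfl rfl).1 fun p hp P => ?_)
  by_cases hpq : p = q
  · subst hpq
    have := Sylow.unique_of_normal Q hQn
    rwa [Subsingleton.elim P Q]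
  · exact hnormal p hpq P

end Cfsg.Agent.S4240
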