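import Cfsg.Statements.S4544
import Cfsg.Agent.Block.Cyc4Grp
import Cfsg.Agent.Block.Cyc2
import Cfsg.Agent.Block.UDDih
import Cfsg.Agent.S4540
-- import your own Cfsg.Agent.* helpers here

set_option autoImplicit false
open Cfsg

namespace Cfsg.Agent.S4544

open Cfsg.Agent.Block Cfsg.Agent.Char
open scoped ComplexConjugate

open Subgroup Cfsg.Agent.Char Cfsg.Agent.Block

theorem rank_le {G : Type*} [Group G] [Finite G] {M : Ideal AlgInt} {B : Set (IrrCharacter G)}
    {P : Subgroup G} {e : MonoidAlgebra (resField M) G} (h : MP 2 B P e) (hP : CycFourQuot P) :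
    blockRank 2 B ≤ 3 := by
  rcases hP with h1 | ⟨y, hy, h1⟩ | ⟨h1, u, w, h2⟩ | ⟨A, x, u, g, n, d⟩
  exacts [h.rank_le_three h1, h.rank_le_three_of_cyclic hy h1, h.rank_le_three_of_comm h1 h2,
    d.rank_le_three h]

/-- Let B be a 2-block of the finite group G (relative to a maximal ideal M of the algebraic integers containing 2) whose defect group D contains a cyclic subgroup of index at most 4 in D. Then B contains at most as many irreducible characters as D has elements. -/
theorem result {G : Type*} [Group G] [Finite G] (M : Ideal Cfsg.AlgInt) (hM : Cfsg.IsPModular 2 M) (B : Set (Cfsg.IrrCharacter G)) (hB : Cfsg.IsPBlock M B) (D : Subgroup G) (hD : Cfsg.IsDefectGroup 2 M B D) (C : Subgroup G) (hCD : C ≤ D) (hcyc : IsCyclic C) (hidx : C.relIndex D ≤ 4) : Nat.card B ≤ Nat.card D := by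
  obtain ⟨e, h⟩ := exists_MP hM hB hD
  have hC : IsCyclic (C.subgroupOf D) := (subgroupOfEquivOfLe hCD).isCyclic.2 hcyc
  obtain ⟨x, hx⟩ := IsCyclic.exists_ofOrder_eq_natCard (α := C.subgroupOf D)
  obtain ⟨z, hz, h1⟩ := exists_cycFourQuot h.pgroup (x := x.1) (by
    rw [orderOf_coe, hx, ← card_mul_index (C.subgroupOf D), mul_comm]
    exact Nat.mul_le_mul_right _ hidx)
  have hP : D ≤ centralizer {(z : G)} := fun x hx =>
    mem_centralizer_singleton_iff.2 (congrArg Subtype.val (mem_center_iff.1 hz ⟨x, hx⟩))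
  obtain ⟨e', h', -⟩ := h.exists_sub z.2 hP
  obtain ⟨f, h'', -⟩ := h'.exists_quot_fm (zpowers_cself_le (z : G)) (zpowers_le.2 z.2)
  rw [← inclusion_range hP, ← MonoidHom.range_comp] at h''
  have h2 := rank_le h'' (h1 _ (by
    rw [← MonoidHom.comap_ker, QuotientGroup.ker_mk',
      ← comap_map_eq_self_of_injective (inclusion_injective hP) (zpowers z), MonoidHom.map_zpowers]
    rfl))
  rw [rank_domSet_cself hM (h.order z.2) (h.block z.2)] at h2
  obtain ⟨h3, h4⟩ := S4540.result M hM B hB D hD z z.2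
    (fun d hd => mem_centralizer_singleton_iff.1 (hP hd)) _ (h.ind z.2) h'.isDefectGroup h2
  rw [h.card]
  omega

end Cfsg.Agent.S4544
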