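import Cfsg.Statements.S3050
import Cfsg.Agent.PLocal.SL2Fpf3
import Cfsg.Agent.Recog.Fpf3

set_option autoImplicit false
open Cfsg

namespace Cfsg.Agent.S3050

open PLocal.SL2Nat Recog Subgroup Multiplicative in
theorem exists_hom {G : Type*} [Group G] [Finite G] (Q : Subgroup G) [Q.Normal] {K : Type*} [Field K]
    [Finite K] [CharP K 2] {s : K} (hs : s ≠ 0) (h1 : s ≠ 1)
    (π : G →* Matrix.SpecialLinearGroup (Fin 2) K) (hπ : Function.Surjective π) (hk : π.ker = Q)
    {x : G} (hx : Fpf3 Q x) (hx1 : π x ≠ 1) :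
    ∃ (k : ℕ) (P : Multiplicative (Fin k → Fin 2 → K) →* G), Function.Injective P ∧ P.range = Q ∧
      ∀ g c, P (ofAdd fun i => π g • c i) = g * P (ofAdd c) * g⁻¹ := by
  have hN : ∀ g : G, g ∈ normalizer (Q : Set G) := fun g => by rw [normalizer_eq_top]; trivial
  have := isSimpleGroup_of_ne hs h1
  have h2 : Tr1 (π x) := tr1_of_cube (by rw [← map_mul, ← map_mul, ← pow_three, hx.cube, map_one]) hx1
  have h3 : ∀ g, Tr1 (π g) → Fpf3 Q g := fun g hg => by
    obtain ⟨c, hc⟩ := isConj_iff.1 (h2.isConj.trans hg.isConj.symm)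
    obtain ⟨c, rfl⟩ := hπ c
    have := (hx.conj (hN c)).mul_right (m := (c * x * c⁻¹)⁻¹ * g) (by simp [← hk, ← hc, mul_assoc])
    rwa [mul_inv_cancel_left] at this
  have h4 : ∀ H : Subgroup G, Q ≤ H → H.map π = ⊤ → H = ⊤ := fun H h h' => by
    rw [← comap_map_eq_self (hk.trans_le h), h', comap_top]
  have h5 : closure {y | Fpf3 Q y} = ⊤ := by
    have hn : (closure {y | Fpf3 Q y}).Normal := ⟨fun y hy g => (closure_le ((closure {y | Fpf3 Q y}).comap
      (MulAut.conj g).toMonoidHom)).2 (fun y hy => subset_closure (Fpf3.conj hy (hN g))) hy⟩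
    refine h4 _ (fun q hq => ?_) (((hn.map π hπ).eq_bot_or_eq_top).resolve_left fun h => hx1 ?_)
    · exact (mul_mem_cancel_right (subset_closure hx)).1 (subset_closure (hx.mul_left hq))
    · exact mem_bot.1 (h ▸ mem_map_of_mem π (subset_closure hx))
  have h6 : commutator G ⊔ Q = ⊤ := by
    refine h4 _ le_sup_right (eq_top_iff.2 ((le_of_eq ?_).trans (map_mono le_sup_left)))
    rw [map_commutator_eq, MonoidHom.range_eq_top.2 hπ]
    exact (Matrix.SL2.commutator_eq_top hs fun h => h1 (by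
      have h2 : (2 : K) = 0 := CharTwo.two_eq_zero
      grind)).symm
  have h7 : ∀ u v : Q, u * v = v * u := fun u v => Subtype.ext (higman_comm h5 hx (h6 ▸ mem_top x) u.2 v.2)
  let : CommGroup Q := { (inferInstance : Group Q) with mul_comm := h7 }
  let φ : MulAut Q →* AddMonoid.End (Additive Q) :=
    { toFun := fun g => MonoidHom.toAdditive g.toMonoidHom
      map_one' := rfl
      map_mul' := fun _ _ => rfl }
  let ρ := π.liftOfSurjective hπ ⟨MulAut.conjNormal (H := Q), fun q hq => by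
    ext v
    exact mul_inv_eq_iff_eq_mul.2 (congrArg Subtype.val (h7 ⟨q, hk ▸ hq⟩ v))⟩
  have hρ : ∀ g (v : Additive Q), ((φ (ρ (π g)) v).toMul : G) = g * v.toMul * g⁻¹ := fun g v => by
    rw [show ρ (π g) = _ from π.liftOfRightInverse_comp_apply _ _ _ g]
    rfl
  obtain ⟨k, Ψ, hΨ⟩ := exists_equiv_of_fpf (φ.comp ρ) (fun g hg v hv => by
    obtain ⟨g, rfl⟩ := hπ g
    exact Subtype.ext ((h3 g hg).fpf _ v.toMul.2
      ((hρ g v).symm.trans (congrArg (fun v : Additive Q => (v.toMul : G)) hv)))) hs h1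
  refine ⟨k, Q.subtype.comp (AddEquiv.toMultiplicativeLeft Ψ).toMonoidHom,
    Q.subtype_injective.comp (MulEquiv.injective _), ?_, fun g c => ?_⟩
  · rw [MonoidHom.range_comp, MonoidHom.range_eq_top.2 (MulEquiv.surjective _), ← MonoidHom.range_eq_map,
      range_subtype]
  · exact (congrArg (fun v : Additive Q => (v.toMul : G)) (hΨ (π g) c)).trans (hρ g _)

/-- Let G be a finite group with a normal 2-subgroup Q such that G/Q is isomorphic to SL(2, 2ⁿ) with n ≥ 2, and suppose some element of G of order 3 fixes no nonidentity element of Q under conjugation. Then Q is elementary abelian and is the direct product of normal subgroups of G on each of which G acts as SL(2, 2ⁿ) acts on its natural two-dimensional module (a Galois twist of the natural action allowed). -/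
theorem result {G : Type*} [Group G] [Finite G]
    (Q : Subgroup G) [Q.Normal] (hQ : IsPGroup 2 ↥Q) (n : ℕ) (hn : 2 ≤ n)
    (K : Type*) [Field K] [Fintype K] (hK : Fintype.card K = 2 ^ n)
    (e : G ⧸ Q ≃* Matrix.SpecialLinearGroup (Fin 2) K)
    (x : G) (hx : orderOf x = 3) (hfpf : ∀ q ∈ Q, x * q * x⁻¹ = q → q = 1) :
    Cfsg.IsElementaryAbelian 2 Q ∧
      ∃ (k : ℕ) (V : Fin k → Subgroup G), (∀ i, V i ≤ Q ∧ (V i).Normal ∧
        Cfsg.ActsAsSL2OnSection K ⊤ ⊤ (V i) ⊥) ∧ iSupIndep V ∧ ⨆ i, V i = Q := by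
  have : Fact (Nat.Prime 2) := ⟨Nat.prime_two⟩
  have : CharP K 2 := charP_of_card_eq_prime_pow hK
  obtain ⟨s, hs, h1⟩ : ∃ s : K, s ≠ 0 ∧ s ≠ 1 := by
    classical
    by_contra! h
    have h1 : Fintype.card K ≤ ({0, 1} : Finset K).card :=
      Finset.card_le_card fun a _ => by simpa [or_iff_not_imp_left] using h a
    have h2 := Nat.pow_le_pow_right two_pos hn
    have := Finset.card_le_two (a := (0 : K)) (b := 1)
    omega
  let π := e.toMonoidHom.comp (QuotientGroup.mk' Q)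
  have hπ : Function.Surjective π := e.surjective.comp (QuotientGroup.mk'_surjective Q)
  have hk : π.ker = Q := by ext; simp [π]
  have hx1 : π x ≠ 1 := fun h => by
    obtain ⟨m, hm⟩ := IsPGroup.iff_orderOf.1 hQ ⟨x, hk ▸ h⟩
    rw [← Subgroup.orderOf_coe, hx] at hm
    exact absurd ((Nat.prime_dvd_prime_iff_eq Nat.prime_three Nat.prime_two).1
      (Nat.prime_three.dvd_of_dvd_pow hm.dvd)) (by norm_num)
  obtain ⟨k, P, hP, rfl, hc⟩ := exists_hom Q hs h1 π hπ hk (x := x)
    ⟨by rw [Subgroup.normalizer_eq_top]; trivial, hx ▸ pow_orderOf_eq_one x, hfpf⟩ hx1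
  let ι : Fin k → Multiplicative (Fin 2 → K) →* G := fun i =>
    P.comp (AddMonoidHom.toMultiplicative (AddMonoidHom.single (fun _ => Fin 2 → K) i))
  have hι : ∀ i v, ι i v = P (.ofAdd (Pi.single i v.toAdd)) := fun _ _ => rfl
  have hi : ∀ i, Function.Injective (ι i) := fun i => hP.comp (Pi.single_injective (M := fun _ => Fin 2 → K) i)
  have he : ∀ i g v, ι i (.ofAdd (π g • v.toAdd)) = g * ι i v * g⁻¹ := fun i g v => by
    rw [hι, hι, ← hc]
    congr 2
    ext1 j
    by_cases h : j = i <;> simp [h]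
  have hn : ∀ i, (ι i).range.Normal := fun i => ⟨by rintro _ ⟨v, rfl⟩ g; exact ⟨_, he i g v⟩⟩
  refine ⟨⟨inferInstance, ?_⟩, k, fun i => (ι i).range, fun i => ⟨?_, hn i, ?_, bot_le,
    π.comp (Subgroup.subtype ⊤), (MonoidHom.ofInjective (hi i)).symm, ?_, MulEquiv.surjective _, ?_, ?_⟩,
    fun i => ?_, le_antisymm (iSup_le fun i => ?_) ?_⟩
  · rintro _ ⟨v, rfl⟩
    rw [← map_pow, show v ^ 2 = 1 from ?_, map_one]
    exact (sq v).trans (funext fun i => funext fun j => CharTwo.add_self_eq_zero (v.toAdd i j))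
  · rintro _ ⟨v, rfl⟩
    exact ⟨_, rfl⟩
  · rw [Subgroup.normalizer_eq_top]
  · rw [MonoidHom.range_comp, Subgroup.range_subtype, ← MonoidHom.range_eq_map, MonoidHom.range_eq_top.2 hπ]
  · simp
  · intro g u
    obtain ⟨v, rfl⟩ := (MonoidHom.ofInjective (hi i)).surjective u
    exact ⟨MonoidHom.ofInjective (hi i) _, he i g v, by
      simp only [MonoidHom.coe_coe, MulEquiv.symm_apply_apply]; rfl⟩
  · refine Subgroup.disjoint_def.2 ?_
    rintro _ ⟨v, rfl⟩ h
    obtain ⟨w, h1, h2⟩ := (iSup₂_le (a := (MonoidHom.ker (Pi.evalAddMonoidHom (fun _ => Fin 2 → K)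
      i).toMultiplicative).map P) fun j hj => by
        rintro _ ⟨v, rfl⟩
        exact ⟨_, Pi.single_eq_of_ne' (M := fun _ => Fin 2 → K) hj v.toAdd, rfl⟩) h
    obtain rfl := hP h2
    rw [show v = 1 from (Pi.single_eq_same (M := fun _ => Fin 2 → K) i v.toAdd).symm.trans h1, map_one]
  · rintro _ ⟨v, rfl⟩
    exact ⟨_, rfl⟩
  · rintro _ ⟨v, rfl⟩
    have : v = ∏ i, .ofAdd (Pi.single i (v.toAdd i)) := by
      rw [← ofAdd_sum, Finset.univ_sum_single]; rfl
    rw [this]
    refine Subgroup.mem_comap.1 (Subgroup.prod_mem _ fun i _ => ?_)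
    exact Subgroup.mem_iSup_of_mem (S := fun i => (ι i).range) i ⟨.ofAdd (v.toAdd i), rfl⟩

end Cfsg.Agent.S3050
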