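import Cfsg.Statements.S0948
import Cfsg.Agent.Block.Klein

set_option autoImplicit false
open Cfsg

namespace Cfsg.Agent.S0948

/-- Let the finite group G have a Sylow 2-subgroup P that is a Klein four-group, suppose all involutions of G are conjugate, and fix a maximal ideal M of the algebraic integers containing 2. Then the principal block consists of exactly four irreducible characters, the principal character and ζ₂, ζ₃, ζ₄, and there is a sign ε such that for every involution z: ζ₂ z = 1, ζ₃ z = ε, ζ₄ z = -1; moreover ζ₂ 1 ≡ 1, ζ₃ 1 ≡ ε, ζ₄ 1 ≡ -1 (mod 4), and 1 + ζ₂ y + ε ζ₃ y - ζ₄ y = 0 for every y of odd order. -/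
theorem result {G : Type*} [Group G] [Finite G] (M : Ideal Cfsg.AlgInt) (hM : Cfsg.IsPModular 2 M) (P : Sylow 2 G) (hP : IsKleinFour (P : Subgroup G)) (hone : ∀ s t : G, orderOf s = 2 → orderOf t = 2 → IsConj s t) : ∃ ζ₂ ζ₃ ζ₄ : Cfsg.IrrCharacter G, ∃ ε : ℤ, (ε = 1 ∨ ε = -1) ∧ (ζ₂ : G → ℂ) ≠ (fun _ => 1) ∧ (ζ₃ : G → ℂ) ≠ (fun _ => 1) ∧ ζ₂ ≠ ζ₃ ∧ ζ₂ ≠ ζ₄ ∧ ζ₃ ≠ ζ₄ ∧ Cfsg.principalBlock M G = {χ : Cfsg.IrrCharacter G | (χ : G → ℂ) = (fun _ => 1) ∨ χ = ζ₂ ∨ χ = ζ₃ ∨ χ = ζ₄} ∧ (∀ z : G, orderOf z = 2 → (ζ₂ : G → ℂ) z = 1 ∧ (ζ₃ : G → ℂ) z = (ε : ℂ) ∧ (ζ₄ : G → ℂ) z = -1) ∧ (4 : ℤ) ∣ (Cfsg.charDegree (ζ₂ : G → ℂ) : ℤ) - 1 ∧ (4 : ℤ) ∣ (Cfsg.charDegree (ζ₃ : G → ℂ) : ℤ) - ε ∧ (4 : ℤ) ∣ (Cfsg.charDegree (ζ₄ : G → ℂ) : ℤ) + 1 ∧ ∀ y : G, Odd (orderOf y) → 1 + (ζ₂ : G → ℂ) y + (ε : ℂ) * (ζ₃ : G → ℂ) y - (ζ₄ : G → ℂ) y = 0 := by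
  obtain ⟨a, b, c, n, ha, hb, hc, hab, hac, hbc, hB, hn, hpm, hy⟩ :=
    Block.klein_principal hM P hP hone
  have hd : ∀ χ : IrrCharacter G, (4 : ℤ) ∣ (charDegree (χ : G → ℂ) : ℤ) - n χ := fun χ =>
    Block.four_dvd_degree_sub hP χ fun z hz hz1 => hn χ z (Inv.Klein.orderOf_eq hP hz hz1)
  have hne : ∀ χ : IrrCharacter G, χ ≠ Char.irrOne G → (χ : G → ℂ) ≠ fun _ => 1 :=
    fun χ h h' => h (Subtype.ext h')
  have h1 : ∀ χ : IrrCharacter G, ((χ : G → ℂ) = fun _ => 1) ↔ χ = Char.irrOne G :=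
    fun χ => ⟨fun h => Subtype.ext h, fun h => by rw [h]; rfl⟩
  have key : ∀ a b c : IrrCharacter G, a ≠ Char.irrOne G → b ≠ Char.irrOne G → a ≠ b → a ≠ c →
      b ≠ c → principalBlock M G = {Char.irrOne G, a, b, c} → n a = 1 → n c = -1 →
      (∀ y : G, Odd (orderOf y) →
        1 + n a * (a : G → ℂ) y + n b * (b : G → ℂ) y + n c * (c : G → ℂ) y = 0) →
      ∃ ζ₂ ζ₃ ζ₄ : Cfsg.IrrCharacter G, ∃ ε : ℤ, (ε = 1 ∨ ε = -1) ∧ (ζ₂ : G → ℂ) ≠ (fun _ => 1) ∧ (ζ₃ : G → ℂ) ≠ (fun _ => 1) ∧ ζ₂ ≠ ζ₃ ∧ ζ₂ ≠ ζ₄ ∧ ζ₃ ≠ ζ₄ ∧ Cfsg.principalBlock M G = {χ : Cfsg.IrrCharacter G | (χ : G → ℂ) = (fun _ => 1) ∨ χ = ζ₂ ∨ χ = ζ₃ ∨ χ = ζ₄} ∧ (∀ z : G, orderOf z = 2 → (ζ₂ : G → ℂ) z = 1 ∧ (ζ₃ : G → ℂ) z = (ε : ℂ) ∧ (ζ₄ : G → ℂ) z = -1) ∧ (4 : ℤ) ∣ (Cfsg.charDegree (ζ₂ : G → ℂ) : ℤ) - 1 ∧ (4 : ℤ) ∣ (Cfsg.charDegree (ζ₃ : G → ℂ) : ℤ) - ε ∧ (4 : ℤ) ∣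 (Cfsg.charDegree (ζ₄ : G → ℂ) : ℤ) + 1 ∧ ∀ y : G, Odd (orderOf y) → 1 + (ζ₂ : G → ℂ) y + (ε : ℂ) * (ζ₃ : G → ℂ) y - (ζ₄ : G → ℂ) y = 0 := by
    intro a b c ha hb hab hac hbc hB hna hnc hy
    refine ⟨a, b, c, n b, hpm b (by rw [hB]; simp), hne a ha, hne b hb, hab, hac, hbc, ?_,
      fun z hz => ?_, ?_, hd b, ?_, fun y h => ?_⟩
    · rw [hB]; ext χ; simp [h1]
    · simp [hn _ z hz, hna, hnc]
    · rw [← hna]; exact hd a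
    · have := hd c
      rwa [hnc, sub_neg_eq_add] at this
    · rw [← hy y h, hna, hnc]; push_cast; ring
  have h0 := hy 1 (by simp)
  simp only [← Char.coe_charDegree_irr] at h0
  have h2 : 1 + n a * (charDegree (a : G → ℂ) : ℤ) + n b * (charDegree (b : G → ℂ) : ℤ) +
      n c * (charDegree (c : G → ℂ) : ℤ) = 0 := by exact_mod_cast h0
  have pa := Char.charDegree_irr_pos a
  have pb := Char.charDegree_irr_pos b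
  have pc := Char.charDegree_irr_pos c
  rcases hpm a (by rw [hB]; simp) with h3 | h3 <;> rcases hpm b (by rw [hB]; simp) with h4 | h4 <;>
    rcases hpm c (by rw [hB]; simp) with h5 | h5
  · rw [h3, h4, h5] at h2; omega
  · exact key a b c ha hb hab hac hbc hB h3 h5 hy
  · exact key a c b ha hc hac hab hbc.symm (by rw [hB]; ext; simp; tauto) h3 h4
      fun y h => by rw [← hy y h]; ring
  · exact key a b c ha hb hab hac hbc hB h3 h5 hy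
  · exact key b c a hb hc hbc hab.symm hac.symm (by rw [hB]; ext; simp; tauto) h4 h3
      fun y h => by rw [← hy y h]; ring
  · exact key b a c hb ha hab.symm hbc hac (by rw [hB]; ext; simp; tauto) h4 h5
      fun y h => by rw [← hy y h]; ring
  · exact key c a b hc ha hac.symm hbc.symm hab (by rw [hB]; ext; simp; tauto) h5 h4
      fun y h => by rw [← hy y h]; ring
  · rw [h3, h4, h5] at h2; omega

end Cfsg.Agent.S0948
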