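import Cfsg.Statements.S3278
import Mathlib
import Cfsg.Agent.Inv.KleinCent
import Cfsg.Agent.Inv.BrauerFowler
import Cfsg.Agent.Char.ClassPair
import Cfsg.Agent.Block.ModExists
import Cfsg.Agent.Block.GA
import Cfsg.Agent.S0948
import Cfsg.Agent.S0494

set_option autoImplicit false
open Cfsg

namespace Cfsg.Agent.S3278

open Cfsg.Agent.Inv Cfsg.Agent.Inv.CoreSig Cfsg.Agent.Inv.KleinCent Cfsg.Agent.PLocal.Amb Subgroup
open Cfsg.Agent.Char

/-- the number of involutions is less than 21 -/
theorem index_lt {G : Type*} [Group G] [Finite G] (hperf : commutator G = ⊤) (P : Sylow 2 G)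
    (hP : IsKleinFour (P : Subgroup G))
    (hone : ∀ s t : G, orderOf s = 2 → orderOf t = 2 → IsConj s t) {x : G} (hx : orderOf x = 2)
    (hxP : x ∈ (P : Subgroup G))
    (hinv : ∀ w, w * x = x * w → orderOf w = 2 → w ∈ (P : Subgroup G)) :
    (centralizer ({x} : Set G)).index < 21 := by
  classical
  have := Fintype.ofFinite G
  obtain ⟨M, hM⟩ := Block.exists_isPModular Nat.prime_two
  obtain ⟨ζ₂, ζ₃, ζ₄, ε, hε, h2, h3, -, -, -, -, hval, c2, c3, c4, hodd⟩ :=
    Cfsg.Agent.S0948.result M hM P hP hone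
  set n := (centralizer ({x} : Set G)).index with hn
  have hx1 := ne_one_of_orderOf_two hx
  obtain ⟨y, hyP, hy1, hxy⟩ : ∃ y ∈ (P : Subgroup G), y ≠ 1 ∧ x ≠ y := by
    obtain ⟨a, ha, b, hb, ha1, hb1, hab⟩ := Klein.exists_pair hP
    by_cases h : x = a
    · exact ⟨b, hb, hb1, h ▸ hab⟩
    · exact ⟨a, ha, ha1, h⟩
  let Φ : G → ℂ := fun g => 1 + (ζ₂ : G → ℂ) g + (ε : ℂ) * (ζ₃ : G → ℂ) g - (ζ₄ : G → ℂ) g
  have hεε : (ε : ℂ) * ε = 1 := by rcases hε with rfl | rfl <;> simp
  have hΦ : ∀ t, orderOf t = 2 → Φ t = 4 := by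
    intro t ht
    obtain ⟨e1, e2, e3⟩ := hval t ht
    simp only [Φ, e1, e2, e3, hεε]; norm_num
  let K := Finset.univ.filter (IsConj x)
  have hK : ∀ a, a ∈ K ↔ orderOf a = 2 := fun a => by
    simp only [K, Finset.mem_filter, Finset.mem_univ, true_and]
    exact ⟨fun h => (orderOf_eq_of_isConj h).symm.trans hx, fun h => hone x a hx h⟩
  have hKc : K.card = n := by
    rw [hn, ← Count.card_isConj_eq_index, Nat.card_eq_fintype_card, Fintype.card_subtype]
  -- commuting involutions
  have hcomm : ∀ g a : G, orderOf a = 2 → a * (g * x * g⁻¹) = (g * x * g⁻¹) * a →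
      a = g * x * g⁻¹ ∨ a = g * y * g⁻¹ ∨ a = g * (x * y) * g⁻¹ := by
    intro g a ha h
    have h1 : g⁻¹ * a * g ∈ (P : Subgroup G) := by
      refine hinv _ ?_ (by rw [Inv.orderOf_conj', ha])
      calc g⁻¹ * a * g * x = g⁻¹ * (a * (g * x * g⁻¹)) * g := by group
        _ = _ := by rw [h]; group
    have h2 : a = g * (g⁻¹ * a * g) * g⁻¹ := by group
    rcases Klein.cases hP hxP hyP h1 hx1 hy1 hxy with h | h | h | h
    · exfalso; rw [h] at h2; apply ne_one_of_orderOf_two ha; rw [h2]; group
    · left; rw [h2, h]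
    · right; left; rw [h2, h]
    · right; right; rw [h2, h]
  have hinner : ∀ b ∈ K, ∑ a ∈ K, Φ (a * b⁻¹) = 8 := by
    intro b hb
    have hb2 := (hK b).1 hb
    obtain ⟨g, rfl⟩ := isConj_iff.1 (hone x b hx hb2)
    have hy2 := Klein.orderOf_eq hP hyP hy1
    have hxy2 := Klein.orderOf_eq hP (mul_mem hxP hyP) (Klein.mul_ne_one hP hyP hxy)
    have hne : g * y * g⁻¹ ≠ g * (x * y) * g⁻¹ := by
      intro h
      apply hx1
      have := mul_left_cancel (mul_right_cancel h)
      simpa using this
    have hsub : ({g * y * g⁻¹, g * (x * y) * g⁻¹} : Finset G) ⊆ K := by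
      intro a ha
      rw [Finset.mem_insert, Finset.mem_singleton] at ha
      rcases ha with rfl | rfl
      · rw [hK, orderOf_conj, hy2]
      · rw [hK, orderOf_conj, hxy2]
    rw [← Finset.sum_subset hsub, Finset.sum_pair hne]
    · have e1 : g * y * g⁻¹ * (g * x * g⁻¹)⁻¹ = g * (x * y) * g⁻¹ := by
        rw [Klein.comm hP hxP hyP]
        conv_rhs => rw [← inv_of_orderOf_two hx]
        group
      have e2 : g * (x * y) * g⁻¹ * (g * x * g⁻¹)⁻¹ = g * y * g⁻¹ := by
        rw [Klein.comm hP hxP hyP]; group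
      rw [e1, e2, hΦ _ (by rw [orderOf_conj, hxy2]), hΦ _ (by rw [orderOf_conj, hy2])]
      norm_num
    · intro a ha hna
      have ha2 := (hK a).1 ha
      rw [inv_of_orderOf_two hb2]
      refine hodd _ ?_
      by_contra hev
      rw [Nat.not_odd_iff_even] at hev
      obtain ⟨w, -, hw2, hwa, hwb⟩ := Count.exists_central_involution (mul_self_of_orderOf_two ha2)
        (mul_self_of_orderOf_two hb2) hev
      obtain ⟨k, rfl⟩ := isConj_iff.1 (hone x w hx hw2)
      have hab : a * (g * x * g⁻¹) = (g * x * g⁻¹) * a := by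
        have m : ∀ u, orderOf u = 2 → u * (k * x * k⁻¹) = (k * x * k⁻¹) * u →
            u ∈ cj(k, (P : Subgroup G)) := by
          intro u hu h
          rcases hcomm k u hu h with rfl | rfl | rfl
          · exact conj_mem_cj k hxP
          · exact conj_mem_cj k hyP
          · exact conj_mem_cj k (mul_mem hxP hyP)
        exact Klein.comm (klein_cj hP k) (m a ha2 hwa.symm.eq) (m _ hb2 hwb.symm.eq)
      rw [Finset.mem_insert, Finset.mem_singleton] at hna
      rcases hcomm g a ha2 hab with h | h | h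
      · rw [h, mul_self_of_orderOf_two hb2, orderOf_one] at hev
        exact absurd hev (by decide)
      · exact hna (Or.inl h)
      · exact hna (Or.inr h)
  have hsum : ∑ b ∈ K, ∑ a ∈ K, Φ (a * b⁻¹) = 8 * n := by
    rw [Finset.sum_congr rfl hinner, Finset.sum_const, hKc, nsmul_eq_mul, mul_comm]
  have hS : ∀ χ : IrrCharacter G, (χ : G → ℂ) x * (starRingEnd ℂ) ((χ : G → ℂ) x) = 1 →
      ∑ b ∈ K, ∑ a ∈ K, (χ : G → ℂ) (a * b⁻¹) = n * n / (charDegree (χ : G → ℂ) : ℂ) := by
    intro χ h
    have h1 := χ.2.sum_class_mul_inv x x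
    rw [h, mul_one] at h1
    rw [Block.cast_charDegree χ.2.isCharacter, eq_div_iff χ.2.one_ne_zero, mul_comm]
    exact h1
  obtain ⟨e1, e2, e3⟩ := hval x hx
  have s2 := hS ζ₂ (by rw [e1]; simp)
  have s3 := hS ζ₃ (by rw [e2]; simpa using hεε)
  have s4 := hS ζ₄ (by rw [e3]; simp)
  simp only [Φ, Finset.sum_add_distrib, Finset.sum_sub_distrib, ← Finset.mul_sum, s2, s3, s4,
    Finset.sum_const, hKc, nsmul_eq_mul, mul_one] at hsum
  have hdeg : ∀ χ : IrrCharacter G, (χ : G → ℂ) ≠ (fun _ => 1) → 2 ≤ charDegree (χ : G → ℂ) := by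
    intro χ hχ
    have h0 := Block.charDegree_ne_zero χ.2
    by_contra hlt
    have h1 : charDegree (χ : G → ℂ) = 1 := by omega
    have h1' : (χ : G → ℂ) 1 = 1 := by rw [← Block.cast_charDegree χ.2.isCharacter, h1]; simp
    obtain ⟨lam, hlam⟩ := χ.2.isCharacter.exists_linear h1'
    apply hχ
    rw [hlam]
    funext g
    have : g ∈ lam.ker := Abelianization.commutator_subset_ker lam (hperf ▸ mem_top g)
    rw [MonoidHom.mem_ker.1 this]; rfl
  have d2 := hdeg ζ₂ h2
  have d3 := hdeg ζ₃ h3
  have d4 : 0 < charDegree (ζ₄ : G → ℂ) := Nat.pos_of_ne_zero (Block.charDegree_ne_zero ζ₄.2)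
  have hdsum := hodd 1 (by simp)
  rw [← Block.cast_charDegree ζ₂.2.isCharacter, ← Block.cast_charDegree ζ₃.2.isCharacter,
    ← Block.cast_charDegree ζ₄.2.isCharacter] at hdsum
  generalize charDegree (ζ₂ : G → ℂ) = a at *
  generalize charDegree (ζ₃ : G → ℂ) = b at *
  generalize charDegree (ζ₄ : G → ℂ) = c at *
  have hn0 : 0 < n := Nat.pos_of_ne_zero index_ne_zero_of_finite
  have hd : (1 : ℤ) + a + ε * b - c = 0 := by exact_mod_cast hdsum
  have hq : (n : ℚ) * (1 + 1 / a + ε / b - 1 / c) = 8 := by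
    have h1 : (n : ℂ) * (1 + 1 / a + ε / b - 1 / c) = 8 := by
      have hn' : (n : ℂ) ≠ 0 := by exact_mod_cast hn0.ne'
      apply mul_left_cancel₀ hn'
      rw [mul_comm (n : ℂ) 8, ← hsum]; ring
    apply Rat.cast_injective (α := ℂ)
    push_cast
    exact h1
  have ha : (5 : ℚ) ≤ a := by exact_mod_cast (show 5 ≤ a by omega)
  have hb : (3 : ℚ) ≤ b := by exact_mod_cast (show 3 ≤ b by rcases hε with rfl | rfl <;> omega)
  have hc : (3 : ℚ) ≤ c := by exact_mod_cast (show 3 ≤ c by omega)
  have h1 : (0 : ℚ) < 1 / a := by positivity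
  have h2 : (0 : ℚ) < 1 / b := by positivity
  have h3 : (1 : ℚ) / b ≤ 1 / 3 := one_div_le_one_div_of_le (by norm_num) hb
  have h4 : (1 : ℚ) / c ≤ 1 / 3 := one_div_le_one_div_of_le (by norm_num) hc
  have key : (8 : ℚ) / 21 < 1 + 1 / a + ε / b - 1 / c := by
    rcases hε with rfl | rfl
    · push_cast; linarith
    · have e : ((-1 : ℤ) : ℚ) / b = - (1 / b) := by push_cast; ring
      rw [e]
      by_cases hb3 : b = 3
      · by_cases hc3 : c = 3
        · have ha5 : a = 5 := by omega
          subst hb3 hc3 ha5; norm_num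
        · have : (1 : ℚ) / c ≤ 1 / 7 :=
            one_div_le_one_div_of_le (by norm_num) (by exact_mod_cast (show 7 ≤ c by omega))
          linarith
      · have : (1 : ℚ) / b ≤ 1 / 7 :=
          one_div_le_one_div_of_le (by norm_num) (by exact_mod_cast (show 7 ≤ b by omega))
        linarith
  by_contra hge
  have : (21 : ℚ) ≤ n := by exact_mod_cast (show 21 ≤ n by omega)
  nlinarith

/-- Let G be a finite simple group with an involution x such that a Sylow 2-subgroup of C_G(x) is a Klein four-group which is normal in C_G(x). Then G is isomorphic to the alternating group of degree 5 (that is, to PSL(2, 5)). -/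
theorem result {G : Type*} [Group G] [Finite G] [IsSimpleGroup G] (x : G) (hx : orderOf x = 2)
    (S₀ : Subgroup G) (hle : S₀ ≤ Subgroup.centralizer ({x} : Set G)) (hK : IsKleinFour ↥S₀)
    (hodd : ¬ 2 ∣ S₀.relIndex (Subgroup.centralizer ({x} : Set G))) (hn : (S₀.subgroupOf (Subgroup.centralizer ({x} : Set G))).Normal) :
    Nonempty (G ≃* ↥(alternatingGroup (Fin 5))) := by
  have hVp : IsPGroup 2 S₀ := isPGroup_of_ea (ea_of_klein hK)
  have hsyl : IsSyl 2 S₀ (centralizer {x}) := isSyl_of_not_dvd_relIndex hVp hle hodd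
  have hN : centralizer {x} ≤ 𝐍[S₀] := le_normalizer_of_normal_subgroupOf hle
  have hinv : ∀ w, w * x = x * w → orderOf w = 2 → w ∈ S₀ := by
    intro w hw hw2
    have h1 : zpowers w ≤ centralizer {x} := by
      rw [zpowers_le]; exact mem_centralizer_singleton_iff.2 hw
    exact hsyl.le_of_normalizes (isPGroup_zpowers_of_orderOf_two hw2) h1 (h1.trans hN) (mem_zpowers w)
  have hxV := hinv x rfl hx
  have hx1 := ne_one_of_orderOf_two hx
  have hVC : S₀ ≤ 𝐂[S₀] := fun c hc => mem_centralizer_iff.2 fun v hv => Klein.comm hK hv hc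
  have hC : centralizer {x} ≤ 𝐂[S₀] := by
    intro c hc
    have h1 : c ^ S₀.relIndex (centralizer {x}) ∈ S₀ :=
      pow_index_mem (S₀.subgroupOf (centralizer {x})) ⟨c, hc⟩
    have hcx : c * x * c⁻¹ = x := by rw [mem_centralizer_singleton_iff.1 hc]; group
    have h2 : c ^ 2 ∈ 𝐂[S₀] := by
      rw [mem_centralizer_iff]
      intro v hv
      have h3 : c * (c * v * c⁻¹) * c⁻¹ = v := by
        by_cases hv1 : v = 1
        · rw [hv1]; group
        by_cases hvx : x = v
        · rw [← hvx, hcx, hcx]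
        have h4 := conj_mem_of_mem_normalizer (hN hc) hv
        rcases Klein.cases hK hxV hv h4 hx1 hv1 hvx with h | h | h | h
        · exfalso; apply hv1
          calc v = c⁻¹ * (c * v * c⁻¹) * c := by group
            _ = 1 := by rw [h]; group
        · exfalso; apply hvx
          rw [← hcx] at h
          exact (mul_left_cancel (mul_right_cancel h)).symm
        · rw [h, h]
        · rw [h]
          calc c * (x * v) * c⁻¹ = (c * x * c⁻¹) * (c * v * c⁻¹) := by group
            _ = v := by rw [hcx, h, ← mul_assoc, mul_self_of_orderOf_two hx, one_mul]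
      calc v * c ^ 2 = c * (c * v * c⁻¹) * c⁻¹ * c ^ 2 := by rw [h3]
        _ = c ^ 2 * v := by rw [sq]; group
    obtain ⟨k, hk⟩ : ∃ k, S₀.relIndex (centralizer {x}) = 2 * k + 1 :=
      ⟨S₀.relIndex (centralizer {x}) / 2, by omega⟩
    have h5 := hVC h1
    rw [hk, pow_succ, pow_mul] at h5
    have := mul_mem (inv_mem (pow_mem h2 k)) h5
    rwa [inv_mul_cancel_left] at this
  have h4G : 4 ∣ Nat.card G := hK.card_four ▸ card_subgroup_dvd_card S₀
  have hna : ¬ ∀ a b : G, a * b = b * a := by
    intro h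
    have hn : (zpowers x).Normal := ⟨fun u hu g => by rw [h g u, mul_inv_cancel_right]; exact hu⟩
    rcases hn.eq_bot_or_eq_top with h' | h'
    · exact hx1 (zpowers_eq_bot.1 h')
    · have := Nat.card_zpowers x
      rw [h', card_top, hx] at this
      omega
  have hS : IsSyl 2 S₀ ⊤ := by
    by_contra hns
    obtain ⟨z, hzV, hz2, hz⟩ := exists_commute_conj hx hK hsyl hC hns
    have hE := ea_normalClosure (mul_self_of_orderOf_two hz2) hz
    rcases (inferInstance : (normalClosure ({z} : Set G)).Normal).eq_bot_or_eq_top with h | h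
    · have : z ∈ normalClosure ({z} : Set G) := subset_normalClosure rfl
      rw [h, mem_bot] at this
      exact ne_one_of_orderOf_two hz2 this
    · exact hna fun a b => ea_comm hE (h ▸ mem_top a) (h ▸ mem_top b)
  obtain ⟨P, hP⟩ := hS.exists_sylow_top
  subst hP
  have hnc : ¬ HasNormalPComplement 2 G := by
    rw [Transfer.hasNormalPComplement_iff_sylow P]
    rintro ⟨N, hNn, hNc⟩
    rcases hNn.eq_bot_or_eq_top with h | h
    · rw [h, isComplement'_bot_left] at hNc
      exact hna fun a b => Klein.comm hK (hNc ▸ mem_top a) (hNc ▸ mem_top b)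
    · rw [h, isComplement'_top_left] at hNc
      rw [hNc, mem_bot] at hxV
      exact hx1 hxV
  have hone := one_class_of_not_complement P hK hnc
  have hperf : commutator G = ⊤ := by
    rcases (inferInstance : (commutator G).Normal).eq_bot_or_eq_top with h | h
    · exfalso
      apply hna
      intro a b
      rw [commutator_def, commutator_eq_bot_iff_le_centralizer] at h
      exact mem_centralizer_iff.1 (h (mem_top b)) a (mem_top a)
    · exact h
  have hlt := index_lt hperf P hK hone hx hxV hinv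
  have hCeq : centralizer {x} = 𝐂[(P : Subgroup G)] := le_antisymm hC fun c hc =>
    mem_centralizer_singleton_iff.2 (mem_centralizer_iff.1 hc x hxV).symm
  have h6 := relIndex_centralizer_kleinFour_dvd hK
  have hne1 : (𝐂[(P : Subgroup G)]).relIndex 𝐍[(P : Subgroup G)] ≠ 1 := by
    rw [Ne, relIndex_eq_one]
    intro h
    apply hnc
    have : (P : Subgroup G).FiniteIndex := inferInstance
    exact ⟨P, _, inferInstance, MonoidHom.ker_transferSylow_isComplement' P h⟩
  have hmul := relIndex_mul_index (centralizer_le_normalizer' (P : Subgroup G))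
  rw [← hCeq] at h6 hne1 hmul
  have hodd' : ¬ 2 ∣ (centralizer ({x} : Set G)).index :=
    fun h => P.not_dvd_index (h.trans (index_dvd_of_le hle))
  have hNtop : 𝐍[(P : Subgroup G)] ≠ ⊤ := by
    intro h
    rcases (normalizer_eq_top_iff.1 h).eq_bot_or_eq_top with h | h
    · rw [h, mem_bot] at hxV; exact hx1 hxV
    · exact hna fun a b => Klein.comm hK (h ▸ mem_top a) (h ▸ mem_top b)
  have hfac := BrauerFowler.card_dvd_factorial_index hNtop
  have hCi := (centralizer ({x} : Set G)).index_mul_card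
  have hC4 := Grp.card_inf_mul_relIndex' (P : Subgroup G) (centralizer ({x} : Set G))
  rw [inf_eq_left.2 hle, hK.card_four] at hC4
  generalize (centralizer ({x} : Set G)).relIndex 𝐍[(P : Subgroup G)] = r at *
  generalize (𝐍[(P : Subgroup G)]).index = m at *
  generalize (P : Subgroup G).relIndex (centralizer ({x} : Set G)) = u at *
  have hr : r = 3 := by
    have := Nat.le_of_dvd (by norm_num) h6
    have h2 : ¬ 2 ∣ r := fun h => hodd' (hmul ▸ h.mul_right m)
    interval_cases r <;> omega
  subst hr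
  have hm2 : ¬ 2 ∣ m := fun h => hodd' (hmul ▸ h.mul_left 3)
  have hm : m < 7 := by omega
  apply Cfsg.Agent.S0494.result
  rw [← hmul, ← hC4] at hCi
  interval_cases m
  · omega
  · simp only [Nat.factorial] at hfac; have := h4G.trans hfac; omega
  · omega
  · simp only [Nat.factorial] at hfac; have := h4G.trans hfac; omega
  · omega
  · rw [← hCi] at hfac ⊢
    have h1 : 60 * u ∣ 60 * 2 := by
      have : 3 * 5 * (4 * u) = 60 * u := by ring
      rw [this] at hfac; exact hfac
    have h2 := Nat.dvd_of_mul_dvd_mul_left (by norm_num) h1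
    have := Nat.le_of_dvd two_pos h2
    interval_cases u <;> omega
  · omega

end Cfsg.Agent.S3278
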