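import Cfsg.Statements.S5743
import Cfsg.Agent.St.RegUnip
import Cfsg.Agent.Chev.FoldInst
import Cfsg.Agent.Chev.TwAutE6
import Cfsg.Agent.Chev.TwistE6F

set_option autoImplicit false
open Cfsg

namespace Cfsg.Agent.S5743

open Cfsg.Lie Cfsg.Agent.Chev Cfsg.Agent.St Cfsg.Agent.Chev.E6

section

variable {K : Type*} [Field K]

theorem dg (c : Fin 6 → Kˣ) (i : Fin 6) (r s : ℕ) (h : chevE6.simple i = r ∧ chevE6.neg r = s) :
    (∀ t, diagAut chevE6 K c (xC chevE6 K r t) = xC chevE6 K r (c i * t)) ∧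
    ∀ t, diagAut chevE6 K c (xC chevE6 K s t) = xC chevE6 K s (((c i)⁻¹ : Kˣ) * t) := by
  obtain ⟨rfl, rfl⟩ := h
  exact ⟨diagAut_simple (D := chevE6) c i, diagAut_neg_simple (D := chevE6) c i⟩

theorem abs_cent {A E C : Type*} [Group A] [Group E] [Group C] (Dg : C →* MulAut E) (Ψ : A →* E)
    (α : MulAut A) (h : A) (hh : ∀ a, α (α a) = h * a * h⁻¹) (ci cj : C) (g₀ : E)
    (e1 : ∀ a, Dg cj (Ψ (α a)) = g₀ * Dg ci (Ψ a) * g₀⁻¹) :
    ∃ g, ∀ y ∈ Ψ.range, g * Dg (cj⁻¹ * ci * (cj⁻¹ * ci)) y * g⁻¹ = y := by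
  have hD : ∀ (d d' : C) y, Dg d (Dg d' y) = Dg (d * d') y := fun d d' y => by
    rw [← MulAut.mul_apply, ← map_mul]
  have e2 : ∀ a, Ψ (α a) = Dg cj⁻¹ g₀ * Dg (cj⁻¹ * ci) (Ψ a) * (Dg cj⁻¹ g₀)⁻¹ := fun a => by
    have := congrArg (Dg cj⁻¹) (e1 a)
    rwa [hD, inv_mul_cancel, map_mul (Dg cj⁻¹), map_mul (Dg cj⁻¹), map_inv (Dg cj⁻¹), hD, map_one,
      MulAut.one_apply] at this
  set g₁ := Dg cj⁻¹ g₀
  set d := cj⁻¹ * ci
  refine ⟨(Ψ h)⁻¹ * g₁ * Dg d g₁, ?_⟩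
  rintro _ ⟨a, rfl⟩
  have := e2 (α a)
  rw [hh, e2, map_mul Ψ, map_mul Ψ, map_mul (Dg d), map_mul (Dg d), map_inv Ψ, map_inv (Dg d),
    hD d d] at this
  conv_rhs => rw [show Ψ a = (Ψ h)⁻¹ * (Ψ h * Ψ a * (Ψ h)⁻¹) * Ψ h by group, this]
  group

theorem units_key {M : Type*} [CommGroup M] (h3 : ∀ u : M, u ^ 3 = 1) (a b d e f : M) :
    (a ^ (2 : ℤ) * b ^ (-1 : ℤ))⁻¹ * (d ^ (-1 : ℤ) * e ^ (2 : ℤ) * f ^ (-1 : ℤ))⁻¹ =
      (a ^ (-1 : ℤ) * b ^ (2 : ℤ) * d ^ (-1 : ℤ))⁻¹ * (e ^ (-1 : ℤ) * f ^ (2 : ℤ))⁻¹ := by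
  have : (a ^ (2 : ℤ) * b ^ (-1 : ℤ))⁻¹ * (d ^ (-1 : ℤ) * e ^ (2 : ℤ) * f ^ (-1 : ℤ))⁻¹ =
      (a ^ (-1 : ℤ) * b ^ (2 : ℤ) * d ^ (-1 : ℤ))⁻¹ * (e ^ (-1 : ℤ) * f ^ (2 : ℤ))⁻¹ *
        (a⁻¹ * b * e⁻¹ * f) ^ 3 := by
    apply Additive.ofMul.injective
    simp only [ofMul_mul, ofMul_inv, ofMul_zpow, ofMul_pow]
    module
  rw [this, h3, mul_one]

theorem key (S : ChevSys rootTableE6 (xC chevE6 K)) (h3 : ∀ u : Kˣ, u ^ 3 = 1)
    (g : chevE6.group K) (c : Fin 6 → Kˣ)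
    (H : ∀ u ∈ [xC chevE6 K 46 1, xC chevE6 K 39 1, xC chevE6 K 42 1 * xC chevE6 K 37 1,
      xC chevE6 K 56 1 * xC chevE6 K 36 1, xC chevE6 K 25 1, xC chevE6 K 32 1,
      xC chevE6 K 29 1 * xC chevE6 K 34 1, xC chevE6 K 15 1 * xC chevE6 K 35 1],
      g * diagAut chevE6 K c u * g⁻¹ = u) : c 0 * c 4 = c 2 * c 5 := by
  obtain ⟨p0, q0⟩ := dg c _ _ _ nd0
  obtain ⟨p1, q1⟩ := dg c _ _ _ nd1
  obtain ⟨p2, q2⟩ := dg c _ _ _ nd2
  obtain ⟨p3, q3⟩ := dg c _ _ _ nd3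
  obtain ⟨p4, q4⟩ := dg c _ _ _ nd4
  obtain ⟨p5, q5⟩ := dg c _ _ _ nd5
  simp only [List.forall_mem_cons, List.not_mem_nil, IsEmpty.forall_iff, implies_true, and_true,
    map_mul, p0, p1, p2, p3, p4, p5, q0, q1, q2, q3, q4, q5, mul_one] at H
  obtain ⟨a1, a3, a2, a0, b1, b3, b2, b0⟩ := H
  have hU : ∀ r, rootTableE6.N ≤ r ∧ r < 2 * rootTableE6.N → ∀ t,
      xC chevE6 K r t ∈ Bs chevE6 (xC chevE6 K) :=
    fun r hr t => Us_le_Bs (rootTableE6.mem_Us' hr.1 hr.2 t)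
  have hV : ∀ r, r < rootTableE6.N → ∀ t, xC chevE6 K r t ∈ Vs chevE6 (xC chevE6 K) :=
    fun r hr t => rootTableE6.mem_Vs' hr t
  have A : ∀ (i : Fin 6) r s, (chevE6.simple i = r ∧ chevE6.neg r = s) → (∃ c : K, c ≠ 0 ∧
      ∃ z ∈ XS (xC chevE6 K) {k | (rootTableE6.N ≤ k ∧ k < 2 * rootTableE6.N) ∧ k ≠ r},
        g * (xC chevE6 K r c * z) * g⁻¹ ∈ Bs chevE6 (xC chevE6 K)) → ∃ c : K, c ≠ 0 ∧
      ∃ z ∈ XS (xC chevE6 K)
        {k | (rootTableE6.N ≤ k ∧ k < 2 * rootTableE6.N) ∧ k ≠ chevE6.simple i},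
        g * (xC chevE6 K (chevE6.simple i) c * z) * g⁻¹ ∈ Bs chevE6 (xC chevE6 K) := by
    rintro i r s ⟨rfl, rfl⟩ h
    exact h
  have B : ∀ (i : Fin 6) r s, (chevE6.simple i = r ∧ chevE6.neg r = s) → (∃ c : K, c ≠ 0 ∧
      ∃ z ∈ XS (xC chevE6 K) {k | k < rootTableE6.N ∧ k ≠ s},
        g * (xC chevE6 K s c * z) * g⁻¹ ∈ Vs chevE6 (xC chevE6 K)) → ∃ c : K, c ≠ 0 ∧
      ∃ z ∈ XS (xC chevE6 K) {k | k < rootTableE6.N ∧ k ≠ chevE6.neg (chevE6.simple i)},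
        g * (xC chevE6 K (chevE6.neg (chevE6.simple i)) c * z) * g⁻¹ ∈
          Vs chevE6 (xC chevE6 K) := by
    rintro i r s ⟨rfl, rfl⟩ h
    exact h
  have m : ∀ {P : ℕ → Prop} (r : ℕ), P r → ∀ t, xC chevE6 K r t ∈ XS (xC chevE6 K) {k | P k} :=
    fun r hr t => mem_XS hr t
  have hg : g ∈ Hs chevE6 (xC chevE6 K) := by
    refine mem_Hs_of_conj S.nd S.st (Gs_xC (D := chevE6) (F := K) ▸ Subgroup.mem_top g)
      (fun (i : Fin 6) => ?_) fun (i : Fin 6) => ?_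
    · fin_cases i
      · refine A _ _ _ nd0 ⟨_, (c 0).ne_zero, _, m 36 (by decide +kernel) (c 5), ?_⟩
        rw [a0]
        exact mul_mem (hU 56 (by decide +kernel) 1) (hU 36 (by decide +kernel) 1)
      · refine A _ _ _ nd1 ⟨_, (c 1).ne_zero, 1, one_mem _, ?_⟩
        rw [mul_one, a1]
        exact hU 46 (by decide +kernel) 1
      · refine A _ _ _ nd2 ⟨_, (c 2).ne_zero, _, m 37 (by decide +kernel) (c 4), ?_⟩
        rw [a2]
        exact mul_mem (hU 42 (by decide +kernel) 1) (hU 37 (by decide +kernel) 1)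
      · refine A _ _ _ nd3 ⟨_, (c 3).ne_zero, 1, one_mem _, ?_⟩
        rw [mul_one, a3]
        exact hU 39 (by decide +kernel) 1
      · refine A _ _ _ nd4 ⟨_, (c 4).ne_zero, _, m 42 (by decide +kernel) (c 2), ?_⟩
        rw [← (E6.comm S 42 37 (by decide +kernel) _ _).eq, a2]
        exact mul_mem (hU 42 (by decide +kernel) 1) (hU 37 (by decide +kernel) 1)
      · refine A _ _ _ nd5 ⟨_, (c 5).ne_zero, _, m 56 (by decide +kernel) (c 0), ?_⟩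
        rw [← (E6.comm S 56 36 (by decide +kernel) _ _).eq, a0]
        exact mul_mem (hU 56 (by decide +kernel) 1) (hU 36 (by decide +kernel) 1)
    · fin_cases i
      · refine B _ _ _ nd0 ⟨_, (c 0)⁻¹.ne_zero, _, m 35 (by decide +kernel) ((c 5)⁻¹ : Kˣ), ?_⟩
        rw [b0]
        exact mul_mem (hV 15 (by decide +kernel) 1) (hV 35 (by decide +kernel) 1)
      · refine B _ _ _ nd1 ⟨_, (c 1)⁻¹.ne_zero, 1, one_mem _, ?_⟩
        rw [mul_one, b1]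
        exact hV 25 (by decide +kernel) 1
      · refine B _ _ _ nd2 ⟨_, (c 2)⁻¹.ne_zero, _, m 34 (by decide +kernel) ((c 4)⁻¹ : Kˣ), ?_⟩
        rw [b2]
        exact mul_mem (hV 29 (by decide +kernel) 1) (hV 34 (by decide +kernel) 1)
      · refine B _ _ _ nd3 ⟨_, (c 3)⁻¹.ne_zero, 1, one_mem _, ?_⟩
        rw [mul_one, b3]
        exact hV 32 (by decide +kernel) 1
      · refine B _ _ _ nd4 ⟨_, (c 4)⁻¹.ne_zero, _, m 29 (by decide +kernel) ((c 2)⁻¹ : Kˣ), ?_⟩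
        rw [← (E6.comm S 29 34 (by decide +kernel) _ _).eq, b2]
        exact mul_mem (hV 29 (by decide +kernel) 1) (hV 34 (by decide +kernel) 1)
      · refine B _ _ _ nd5 ⟨_, (c 5)⁻¹.ne_zero, _, m 15 (by decide +kernel) ((c 0)⁻¹ : Kˣ), ?_⟩
        rw [← (E6.comm S 15 35 (by decide +kernel) _ _).eq, b0]
        exact mul_mem (hV 15 (by decide +kernel) 1) (hV 35 (by decide +kernel) 1)
  obtain ⟨e, rfl⟩ := S.exists_tor (S.H_eq ▸ hg)
  have split : ∀ a y z : chevE6.group K, a * (y * z) * a⁻¹ = a * y * a⁻¹ * (a * z * a⁻¹) :=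
    fun a y z => by group
  rw [split, S.tor_conj e (by decide +kernel), S.tor_conj e (by decide +kernel)] at a0 a2
  obtain ⟨e0, e5⟩ := S.inj₂ rootTableE6.nil_pos (by decide +kernel) (by decide +kernel)
    (by decide) a0
  obtain ⟨e2, e4⟩ := S.inj₂ rootTableE6.nil_pos (by decide +kernel) (by decide +kernel)
    (by decide) a2
  rw [← Units.val_mul, Units.val_eq_one] at e0 e5 e2 e4
  rw [eq_inv_of_mul_eq_one_right e0, eq_inv_of_mul_eq_one_right e5,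
    eq_inv_of_mul_eq_one_right e2, eq_inv_of_mul_eq_one_right e4,
    E6.chi_eq 56 ![2, 0, -1, 0, 0, 0] (by decide +kernel) e,
    E6.chi_eq 36 ![0, 0, 0, 0, -1, 2] (by decide +kernel) e,
    E6.chi_eq 42 ![-1, 0, 2, -1, 0, 0] (by decide +kernel) e,
    E6.chi_eq 37 ![0, 0, 0, -1, 2, -1] (by decide +kernel) e]
  simpa using units_key h3 (e (0 : Fin 6)) (e (2 : Fin 6)) (e (3 : Fin 6)) (e (4 : Fin 6))
    (e (5 : Fin 6))

end

/-- The simple group ²E₆(2) (the twisted group of type E₆ over the field with 4 elements) contains at least three pairwise non-conjugate subgroups isomorphic to the Chevalley group F₄(2). -/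
theorem result {K : Type*} [Field K] [Fintype K] (hK : Fintype.card K = 4) :
    ∃ H : Fin 3 → Subgroup (Cfsg.Lie.twistedE6 K 2),
      (∀ i, Nonempty ((H i) ≃* Cfsg.Lie.chevF4.group (ZMod 2))) ∧
      (∀ i j, i ≠ j → ∀ g : (Cfsg.Lie.twistedE6 K 2), (H i).map (MulAut.conj g).toMonoidHom ≠ H j) := by
  classical
  obtain ⟨S, φ, hφ, hq, hT⟩ := E6.exists_data (K := K) (q := 2) Nat.prime_two.isPrimePow hK
  have hcU : Fintype.card Kˣ = 3 := by rw [Fintype.card_units, hK]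
  have h3 : ∀ u : Kˣ, u ^ 3 = 1 := fun u => hcU ▸ pow_card_eq_one
  obtain ⟨ω, hω⟩ : ∃ ω : Kˣ, ω ≠ 1 := by
    have : Nontrivial Kˣ := Fintype.one_lt_card_iff_nontrivial.mp (by omega)
    exact exists_ne 1
  have h2 : CharP K 2 := charP_of_card_eq_prime_pow (f := 2) (by rw [hK]; norm_num)
  let ι : ZMod 2 →+* K := ZMod.castHom (dvd_refl 2) K
  obtain ⟨Φ, hΦ, hx, -⟩ := exists_F4_E6 (F := K)
  let Ψ : chevF4.group (ZMod 2) →* chevE6.group K := Φ.comp (fieldHom chevF4 ι)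
  have hΨ : Function.Injective Ψ := hΦ.comp (fieldHom_injective ι)
  have hΨx : ∀ r < chevF4.nroots, ∀ t, Ψ (xC chevF4 (ZMod 2) r t) =
      foldX (xC chevE6 K) orbF4 r (ι t) := fun r hr t => by
    rw [← hx r hr, ← fieldHom_xC]; rfl
  have hι : ∀ t, φ (ι t) = ι t := fun t => by rw [hq, ← map_pow, ZMod.pow_card]
  have hΨT : Ψ.range ≤ (tw S φ hφ).data.T := by
    refine range_le_of_simple rootTableF4 Ψ (fun (i : Fin 4) t => ?_) fun (i : Fin 4) t => ?_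
    · fin_cases i
      · exact E6.par_pos_mem S _ hφ (a := 3)
          ⟨ι t, (hΨx 33 (by decide) t).trans (by simp [foldX, orbF4, hι])⟩
      · exact E6.par_pos_mem S _ hφ (a := 2)
          ⟨ι t, (hΨx 27 (by decide) t).trans (by simp [foldX, orbF4, hι])⟩
      · exact E6.par_pos_mem S _ hφ (a := 1)
          ⟨ι t, hι t, (hΨx 25 (by decide) t).trans (by simp [foldX, orbF4])⟩
      · exact E6.par_pos_mem S _ hφ (a := 0)
          ⟨ι t, hι t, (hΨx 24 (by decide) t).trans (by simp [foldX, orbF4])⟩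
    · fin_cases i
      · exact E6.par_neg_mem S _ hφ (a := 3)
          ⟨ι t, (hΨx 14 (by decide) t).trans (by simp [foldX, orbF4, hι])⟩
      · exact E6.par_neg_mem S _ hφ (a := 2)
          ⟨ι t, (hΨx 20 (by decide) t).trans (by simp [foldX, orbF4, hι])⟩
      · exact E6.par_neg_mem S _ hφ (a := 1)
          ⟨ι t, hι t, (hΨx 22 (by decide) t).trans (by simp [foldX, orbF4])⟩
      · exact E6.par_neg_mem S _ hφ (a := 0)
          ⟨ι t, hι t, (hΨx 23 (by decide) t).trans (by simp [foldX, orbF4])⟩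
  let c : Fin 3 → Fin 6 → Kˣ := fun k => ![ω ^ (k : ℕ), 1, 1, 1, 1, (ω ^ (k : ℕ)) ^ 2]
  have hc : ∀ k, c k ∈ (tw S φ hφ).fixT := fun k => (E6.mem_fixT S φ hφ).mpr (by simp [c, hq])
  have hmem : ∀ k a, ((diagAut chevE6 K (c k) (Ψ a) : chevE6.group K) : GL chevE6.Idx K) ∈
      twistedE6 K 2 := fun k a => by
    rw [← Subgroup.mem_subgroupOf, hT, E6.T_eq_Fix, TwistData.mem_Fix]
    have := hΨT ⟨a, rfl⟩
    rw [E6.T_eq_Fix, TwistData.mem_Fix] at this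
    exact ((tw S φ hφ).σ_diagAut (hc k) _).trans (congrArg _ this)
  let f : Fin 3 → chevF4.group (ZMod 2) →* twistedE6 K 2 := fun k =>
    ((chevE6.group K).subtype.comp ((diagAut chevE6 K (c k)).toMonoidHom.comp Ψ)).codRestrict _
      (hmem k)
  have hf : ∀ k, Function.Injective (f k) := fun k a b e =>
    hΨ ((diagAut chevE6 K (c k)).injective (Subtype.ext (congrArg Subtype.val e :)))
  refine ⟨fun k => (f k).range, fun k => ⟨(MonoidHom.ofInjective (hf k)).symm⟩,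
    fun i j hij g e => ?_⟩
  obtain ⟨α, hα⟩ := exists_aut_of_map_range (hf i) (hf j) _ e
  obtain ⟨h, hh⟩ := aut_sq_F4_two α
  let g₀ : chevE6.group K := ⟨g, E6.le_group g.2⟩
  have e1 : ∀ a, diagAut chevE6 K (c j) (Ψ (α a)) = g₀ * diagAut chevE6 K (c i) (Ψ a) * g₀⁻¹ :=
    fun a => Subtype.ext (congrArg Subtype.val (hα a) :)
  obtain ⟨g₂, e3⟩ := abs_cent (C := Fin 6 → Kˣ) (diagAut chevE6 K) Ψ α h hh (c i) (c j) g₀ e1
  have := key S h3 g₂ _ fun u hu => e3 u (by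
    simp only [List.mem_cons, List.not_mem_nil, or_false] at hu
    rcases hu with rfl | rfl | rfl | rfl | rfl | rfl | rfl | rfl
    exacts [⟨_, (hΨx 24 (by decide) 1).trans (by simp [foldX, orbF4])⟩,
      ⟨_, (hΨx 25 (by decide) 1).trans (by simp [foldX, orbF4])⟩,
      ⟨_, (hΨx 27 (by decide) 1).trans (by simp [foldX, orbF4])⟩,
      ⟨_, (hΨx 33 (by decide) 1).trans (by simp [foldX, orbF4])⟩,
      ⟨_, (hΨx 23 (by decide) 1).trans (by simp [foldX, orbF4])⟩,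
      ⟨_, (hΨx 22 (by decide) 1).trans (by simp [foldX, orbF4])⟩,
      ⟨_, (hΨx 20 (by decide) 1).trans (by simp [foldX, orbF4])⟩,
      ⟨_, (hΨx 14 (by decide) 1).trans (by simp [foldX, orbF4])⟩])
  have ho : orderOf ω = 3 := orderOf_eq_prime (h3 ω) hω
  simp only [c, Pi.mul_apply, Pi.inv_apply] at this
  simp at this
  rw [← inv_pow (ω ^ (j : ℕ)) 2, ← mul_pow] at this
  have h4 := h3 ((ω ^ (j : ℕ))⁻¹ * ω ^ (i : ℕ))
  generalize hu : (ω ^ (j : ℕ))⁻¹ * ω ^ (i : ℕ) = u at this h4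
  have h5 : u = 1 := by
    have h6 : u ^ 2 * u ^ 2 = u ^ 3 * u := by rw [← pow_add, ← pow_succ]
    rw [h6, h4, one_mul] at this
    simpa using this
  rw [h5, inv_mul_eq_one, pow_inj_mod, ho, Nat.mod_eq_of_lt j.2, Nat.mod_eq_of_lt i.2] at hu
  exact hij (Fin.ext hu.symm)

end Cfsg.Agent.S5743
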