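import Cfsg.Statements.S2112
import Cfsg.Agent.Spor.MultSz8
import Cfsg.Agent.Spor.CovSz8
import Cfsg.Agent.Chev.SzSubfield

set_option autoImplicit false
open Cfsg

namespace Cfsg.Agent.S2112

/-- Exceptional Schur multiplier: the Suzuki group Sz(8), built over the field with 8 elements using the map x ↦ x⁴, has Schur multiplier a four-group, the product of two cyclic groups of order 2 (here the Schur multiplier is described through stem extensions, as in the definitions). -/
theorem result {F : Type*} [Field F] [Fintype F] (hF : Fintype.card F = 8) : Cfsg.HasSchurMultiplier ↥(Cfsg.Lie.Sz F 4) (Multiplicative (ZMod 2 × ZMod 2)) := by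
  have : Chev.SzField F 1 := Chev.SzField.of_fintype le_rfl hF
  have e : F ≃+* Comp.GF8 := FiniteField.ringEquivOfCardEq (hF.trans Comp.GF8.card.symm)
  have hb := (Chev.Suz.mapSz_injective (e : F →+* Comp.GF8)).bijective_of_nat_card_le
    (by rw [Chev.Suz.card_Sz, Chev.Suz.card_Sz])
  exact FGS.HasSchurMultiplier.congr_left (Spor.MultSz8.mult_of (by simp) Spor.CovSz8.onto)
    (((Chev.Suz.lieEquiv F).symm.trans ((MulEquiv.ofBijective _ hb).trans
      (Chev.Suz.lieEquiv Comp.GF8))).trans Spor.ModelSz8.equiv).symm

end Cfsg.Agent.S2112
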