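import Cfsg.Statements.S2241
import Mathlib
import Cfsg.Agent.Chev.SzSimple

set_option autoImplicit false
open Cfsg

namespace Cfsg.Agent.S2241

open Chev Chev.Suz in
theorem aux {F : Type*} [Field F] {m : ℕ} [SzField F m] {a b : F} (ha : a ≠ 0) :
    ¬ IsConj (uu a b) (uu a b)⁻¹ := by
  intro h
  obtain ⟨k, hk⟩ := isConj_iff.1 h
  have h1 : uu a b ≠ 1 := by simp [uu_eq_one, ha]
  have h2 : k • inf F = inf F := by
    apply uu_fix h1
    have h3 := (conj_fix_iff' k (uu a b) (inf F)).2 (uu_smul_inf a b)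
    rw [hk, inv_smul_eq_iff] at h3
    exact h3.symm
  obtain ⟨c, d, l, rfl⟩ := (smul_inf_eq_iff k).1 h2
  rw [mul_inv_rev, mul_assoc (uu c d), mul_assoc (uu c d), ← mul_assoc (hh l * _), hh_conj_uu,
    uu_inv, uu_inv, uu_mul, uu_mul, uu_inj] at hk
  obtain ⟨h3, h4⟩ := hk
  have h5 : th F l = 1 := by
    apply mul_right_cancel₀ ha; grind
  obtain rfl := th_unit_eq_one h5
  simp only [Units.val_one, map_one, one_mul, one_pow] at h4
  have h6 : th F c * a + th F a * c = a * th F a := by grind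
  -- put `x = c / a`: `θ x + x = 1`, so `x² + θ x = 1`, `x² = x`
  have hta := th_ne_zero ha
  have h7 : th F (c / a) + c / a = 1 := by
    rw [map_div₀]; field_simp; linear_combination h6
  have h8 := congrArg (th F) h7
  rw [map_add, th_th, map_one] at h8
  have h9 : (c / a) * (c / a + 1) = 0 := by grind
  rcases mul_eq_zero.1 h9 with h | h
  · rw [h] at h7; simp at h7
  · have : c / a = 1 := by grind
    rw [this, map_one] at h7
    grind

/-- Real 2-elements of the Suzuki group: with q = 2^(2m+1), m ≥ 1, and the group realised as the stabiliser in SL₄ of the Suzuki–Tits ovoid, a non-identity element of a Sylow 2-subgroup is conjugate to its inverse if and only if it is an involution; in particular no element of order 4 is conjugate to its inverse. -/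
theorem result {F : Type*} [Field F] [Fintype F] {m : ℕ} (hm : 1 ≤ m) (hF : Fintype.card F = 2 ^ (2 * m + 1)) (P : Sylow 2 ↥(Cfsg.Sz F m)) (g : ↥(Cfsg.Sz F m)) (hg : g ∈ (P : Subgroup ↥(Cfsg.Sz F m))) (h1 : g ≠ 1) :
    IsConj g g⁻¹ ↔ orderOf g = 2 := by
  have := Chev.SzField.of_fintype hm hF
  constructor
  · intro h
    obtain ⟨p, hp⟩ := Chev.Suz.exists_sylow_eq P
    rw [hp] at hg
    obtain ⟨k, rfl⟩ := Chev.Suz.exists_smul_inf p
    obtain ⟨a, b, hab⟩ := Chev.Suz.mem_Qp_inf.1 ((Chev.Suz.conj_mem_Qp_iff k g _).2 hg)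
    have ha : a = 0 := by
      by_contra ha
      apply aux (b := b) ha
      rw [← hab]
      have h2 : IsConj g (k⁻¹ * g * k) := isConj_iff.2 ⟨k⁻¹, by group⟩
      have h3 : IsConj g⁻¹ (k⁻¹ * g * k)⁻¹ := isConj_iff.2 ⟨k⁻¹, by group⟩
      exact (h2.symm.trans h).trans h3
    refine orderOf_eq_prime ?_ h1
    rw [← Chev.Suz.conj_pow_eq_one_iff k, hab, Chev.Suz.uu_sq_eq_one, ha]
  · intro h
    have h2 : g⁻¹ = g := by
      rw [inv_eq_iff_mul_eq_one, ← sq, ← h, pow_orderOf_eq_one]
    rw [h2]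

end Cfsg.Agent.S2241
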