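import Cfsg.Statements.S2325
import Cfsg.Agent.KSG.SL2Unip

set_option autoImplicit false
open Cfsg

namespace Cfsg.Agent.S2325

open KSG KSG.M2 Matrix


/-- Over a finite field with q elements, q odd, the special linear group SL₂ has exactly q + 4 conjugacy classes. -/
theorem result {F : Type*} [Field F] [Fintype F] (hodd : Odd (Fintype.card F)) :
    Nat.card (ConjClasses (Matrix.SpecialLinearGroup (Fin 2) F)) = Fintype.card F + 4 := by
  classical
  have h2 : (2 : F) ≠ 0 := two_ne_zero_of_odd (by rwa [Nat.card_eq_fintype_card])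
  obtain ⟨ν, hν⟩ := FiniteField.exists_nonsquare (F := F) (ringChar_ne_two h2)
  have hν0 : ν ≠ 0 := by rintro rfl; exact hν ⟨0, by simp⟩
  have hnc : ∀ (ε : F) (hε : ε ^ 2 = 1), ¬ IsConj (upar ε hε 1) (upar ε hε ν) := by
    intro ε hε
    rw [upar_isConj_iff hε one_ne_zero hν0, one_mul]; exact hν
  -- invariant: scalar (sign), non-scalar conjugate to `cmp t` (trace), or the other two classes
  let P : Matrix.SpecialLinearGroup (Fin 2) F → Prop := fun g =>
    ∃ (ε : F) (hε : ε ^ 2 = 1), IsConj g (upar ε hε ν)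
  have hP : ∀ g h, IsConj g h → P g → P h := by
    rintro g h H ⟨ε, hε, H'⟩
    exact ⟨ε, hε, H.symm.trans H'⟩
  have hPs : ∀ g, P g → ¬ IsScal (g : Matrix (Fin 2) (Fin 2) F) := by
    rintro g ⟨ε, hε, H'⟩
    rw [SL_isScal_iff_of_isConj H']
    exact upar_not_isScal ε hε hν0
  rw [card_conjClasses_eq (X := ({x : F // x ^ 2 = 1} ⊕ {x : F // x ^ 2 = 1}) ⊕ F)
    (fun g : Matrix.SpecialLinearGroup (Fin 2) F =>
    if h : IsScal (g : Matrix (Fin 2) (Fin 2) F) then
      Sum.inl (Sum.inl ⟨(g : Matrix (Fin 2) (Fin 2) F) 0 0, by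
        rcases SL_isScal_iff.1 h with rfl | rfl <;> simp⟩)
    else if h' : P g then Sum.inl (Sum.inr ⟨(g : Matrix (Fin 2) (Fin 2) F).trace / 2, by
      obtain ⟨ε, hε, H⟩ := h'
      rw [SL_trace_eq_of_isConj H, trace_upar, mul_div_cancel_left₀ _ h2, hε]⟩)
    else Sum.inr (g : Matrix (Fin 2) (Fin 2) F).trace)]
  · rw [Nat.card_sum, Nat.card_sum, card_sq_eq_one_of_two_ne h2, Nat.card_eq_fintype_card]
    ring
  · intro g h
    by_cases hg : IsScal (g : Matrix (Fin 2) (Fin 2) F) <;>
      by_cases hh : IsScal (h : Matrix (Fin 2) (Fin 2) F)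
    · simp only [hg, hh, dif_pos, Sum.inl.injEq, Subtype.mk.injEq]
      constructor
      · intro H
        have : g = h := SL_ext_iff.2 (by rw [hg.eq_smul, hh.eq_smul, H])
        rw [this]
      · intro H
        rw [SL_eq_of_isConj_of_isScal H hg]
    · have : ¬ IsConj g h := fun H => hh ((SL_isScal_iff_of_isConj H).1 hg)
      simp only [hg, hh, dif_pos, dif_neg, not_false_eq_true, this, iff_false]
      split_ifs <;> simp
    · have : ¬ IsConj g h := fun H => hg ((SL_isScal_iff_of_isConj H).2 hh)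
      simp only [hg, hh, dif_pos, dif_neg, not_false_eq_true, this, iff_false]
      split_ifs <;> simp
    · simp only [hg, hh, dif_neg, not_false_eq_true]
      by_cases pg : P g <;> by_cases ph : P h
      · simp only [pg, ph, dif_pos, Sum.inl.injEq, Sum.inr.injEq, Subtype.mk.injEq,
          div_left_inj' h2]
        refine ⟨fun H => ?_, SL_trace_eq_of_isConj⟩
        obtain ⟨ε, hε, H1⟩ := pg
        obtain ⟨δ, hδ, H2⟩ := ph
        rw [SL_trace_eq_of_isConj H1, SL_trace_eq_of_isConj H2, trace_upar, trace_upar] at H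
        obtain rfl := mul_left_cancel₀ h2 H
        exact H1.trans H2.symm
      · simp only [pg, ph, dif_pos, dif_neg, not_false_eq_true, reduceCtorEq, false_iff]
        exact fun H => ph (hP _ _ H pg)
      · simp only [pg, ph, dif_pos, dif_neg, not_false_eq_true, reduceCtorEq, false_iff]
        exact fun H => pg (hP _ _ H.symm ph)
      · simp only [pg, ph, dif_neg, not_false_eq_true, Sum.inr.injEq]
        refine ⟨fun H => ?_, SL_trace_eq_of_isConj⟩
        by_cases h4 : (g : Matrix (Fin 2) (Fin 2) F).trace ^ 2 = 4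
        · obtain ⟨ε, hε, ht⟩ := exists_eps_of_trace_sq h4
          have H1 := (SL_isConj_upar_or hg hε ht hν).resolve_right fun H => pg ⟨ε, hε, H⟩
          have H2 := (SL_isConj_upar_or hh hε (H ▸ ht) hν).resolve_right fun H => ph ⟨ε, hε, H⟩
          exact H1.trans H2.symm
        · exact SL_isConj_of_trace' H h4
  · rintro ((⟨ε, hε⟩ | ⟨ε, hε⟩) | t)
    · exact ⟨upar ε hε 0, by simp [IsScal]⟩
    · refine ⟨upar ε hε ν, ?_⟩
      have : P (upar ε hε ν) := ⟨ε, hε, IsConj.refl _⟩
      simp only [upar_not_isScal ε hε hν0, this, dif_pos, dif_neg, not_false_eq_true, trace_upar,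
        mul_div_cancel_left₀ _ h2]
    · by_cases h4 : t ^ 2 = 4
      · obtain ⟨ε, hε, ht⟩ := exists_eps_of_trace_sq h4
        refine ⟨upar ε hε 1, ?_⟩
        have : ¬ P (upar ε hε 1) := by
          rintro ⟨δ, hδ, H⟩
          have H1 := SL_trace_eq_of_isConj H
          rw [trace_upar, trace_upar] at H1
          obtain rfl := mul_left_cancel₀ h2 H1
          exact hnc _ _ H
        simp only [upar_not_isScal ε hε one_ne_zero, this, dif_neg, not_false_eq_true, trace_upar,
          ht]
      · refine ⟨cmp t, ?_⟩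
        have : ¬ P (cmp t) := by
          rintro ⟨δ, hδ, H⟩
          have H1 := SL_trace_eq_of_isConj H
          rw [trace_upar, trace_cmp] at H1
          apply h4
          rw [H1]; linear_combination 4 * hδ
        simp only [cmp_not_isScal, this, dif_neg, not_false_eq_true, trace_cmp]

end Cfsg.Agent.S2325
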