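import Mathlib
import Cfsg.Statements.S2388
import Cfsg.Agent.KSG.SimCount
-- import your own Cfsg.Agent.* helpers here

set_option autoImplicit false
open Cfsg

namespace Cfsg.Agent.S2388

/-- In `SL_n(q)`, `q` a power of the prime `p`, two elements of order prime to `p` with the same characteristic polynomial are conjugate in `SL_n(q)` (not merely in `GL_n`). -/
theorem result {F : Type*} [Field F] [Fintype F] (p : ℕ) [Fact p.Prime] [CharP F p] (n : ℕ)
    (g h : Matrix.SpecialLinearGroup (Fin n) F) (hg : (orderOf g).Coprime p) (hh : (orderOf h).Coprime p)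
    (hc : (g : Matrix (Fin n) (Fin n) F).charpoly = (h : Matrix (Fin n) (Fin n) F).charpoly) : IsConj g h := by
  rcases Nat.eq_zero_or_pos n with rfl | hn
  · rw [Subsingleton.elim g h]
  haveI : Nonempty (Fin n) := ⟨⟨0, hn⟩⟩
  have hp : p.Prime := Fact.out
  obtain ⟨b, hb⟩ := KSG.exists_mem_mdiv (g : Matrix (Fin n) (Fin n) F)
  have hg' := (KSG.GL_coprime_orderOf_iff p (Matrix.SpecialLinearGroup.toGL g)).1
    (by rwa [KSG.orderOf_toGL])
  refine KSG.SL_isConj_of_irreducible_mem hb (hg' b hb) ?_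
  refine KSG.isConj_of_squarefree_of_charpoly (KSG.squarefree_X_pow_sub_one p hg hp)
    (KSG.squarefree_X_pow_sub_one p hh hp) ?_ ?_ hc
  · simp [sub_eq_zero, ← Matrix.SpecialLinearGroup.coe_pow, pow_orderOf_eq_one]
  · simp [sub_eq_zero, ← Matrix.SpecialLinearGroup.coe_pow, pow_orderOf_eq_one]

end Cfsg.Agent.S2388
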