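import Mathlib
import Cfsg.Statements.S2384
import Cfsg.Agent.KSG.SimCount
import Cfsg.Agent.S2388
-- import your own Cfsg.Agent.* helpers here

set_option autoImplicit false
open Cfsg

namespace Cfsg.Agent.S2384

/-- In `SL_n(q)`, `q` a power of the prime `p`, the number of conjugacy classes of elements of order prime to `p` (the semisimple classes) is `q^(n-1)`. -/
theorem result {F : Type*} [Field F] [Fintype F] {q : ℕ} (hq : Fintype.card F = q) (p : ℕ) [Fact p.Prime] [CharP F p] (n : ℕ) (hn : 1 ≤ n) :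
    Nat.card {c : ConjClasses (Matrix.SpecialLinearGroup (Fin n) F) //
      ∃ g : Matrix.SpecialLinearGroup (Fin n) F, ConjClasses.mk g = c ∧ (orderOf g).Coprime p} = q ^ (n - 1) := by
  classical
  have hcard := KSG.card_monic_coeff_zero (F := F) hn (fun c : F => c = (-1) ^ n)
  have h1 : Nat.card {c : F // c = (-1) ^ n} = 1 := by simp
  rw [h1, one_mul, Nat.card_eq_fintype_card (α := F), hq] at hcard
  rw [← hcard]
  have hdet : ∀ A : Matrix (Fin n) (Fin n) F, A.det = 1 ↔ A.charpoly.coeff 0 = (-1) ^ n := by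
    intro A
    rw [Matrix.det_eq_sign_charpoly_coeff, Fintype.card_fin]
    rcases neg_one_pow_eq_or F n with h | h <;> simp [h, neg_eq_iff_eq_neg]
  have hex : ∀ f : {f : Polynomial F // f.Monic ∧ f.natDegree = n ∧ f.coeff 0 = (-1) ^ n},
      ∃ g : Matrix.SpecialLinearGroup (Fin n) F, (orderOf g).Coprime p ∧
        (g : Matrix (Fin n) (Fin n) F).charpoly = f.1 := by
    rintro ⟨f, hf, hd, h0⟩
    have hirr : ∀ b ∈ UniqueFactorizationMonoid.normalizedFactors f, Irreducible b ∧ b.Monic :=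
      fun b hb => ⟨UniqueFactorizationMonoid.irreducible_of_normalized_factor b hb,
        ((Polynomial.mem_normalizedFactors_iff hf.ne_zero).1 hb).2.1⟩
    have hprod : (UniqueFactorizationMonoid.normalizedFactors f).prod = f := by
      rw [UniqueFactorizationMonoid.prod_normalizedFactors_eq hf.ne_zero, hf.normalize_eq_self]
    obtain ⟨A, hA⟩ := KSG.exists_mdiv_eq (n := Fin n)
      (s := UniqueFactorizationMonoid.normalizedFactors f)
      (fun b hb => KSG.IsPP.of_irreducible (hirr b hb).1 (hirr b hb).2)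
      (by rw [← Polynomial.natDegree_multiset_prod_of_monic _ fun b hb => (hirr b hb).2, hprod, hd,
        Fintype.card_fin])
    have hc : A.charpoly = f := by rw [← KSG.prod_mdiv, hA, hprod]
    let g : Matrix.SpecialLinearGroup (Fin n) F := ⟨A, (hdet A).2 (hc ▸ h0)⟩
    refine ⟨g, ?_, hc⟩
    rw [← KSG.orderOf_toGL, KSG.GL_coprime_orderOf_iff]
    intro b hb
    exact (hirr b (hA ▸ hb)).1
  choose φ hφ using hex
  symm
  refine Nat.card_congr (Equiv.ofBijective (fun f => ⟨ConjClasses.mk (φ f), φ f, rfl, (hφ f).1⟩)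
    ⟨fun f f' h => ?_, ?_⟩)
  · have h2 := ConjClasses.mk_eq_mk_iff_isConj.1 (congrArg Subtype.val h)
    have h3 := KSG.isConj_iff_mdiv.1 (KSG.isConj_GL_iff.1
      (Matrix.SpecialLinearGroup.toGL.map_isConj h2))
    have h4 := congrArg Multiset.prod h3
    rw [KSG.prod_mdiv, KSG.prod_mdiv] at h4
    exact Subtype.ext ((hφ f).2.symm.trans (h4.trans (hφ f').2))
  · rintro ⟨_, g, rfl, hg⟩
    refine ⟨⟨(g : Matrix (Fin n) (Fin n) F).charpoly, Matrix.charpoly_monic _, by simp,
      (hdet _).1 g.2⟩, Subtype.ext ?_⟩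
    exact ConjClasses.mk_eq_mk_iff_isConj.2 (S2388.result p n _ _ (hφ _).1 hg (hφ _).2)

end Cfsg.Agent.S2384
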