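import Cfsg.Statements.S2479
import Mathlib
import Cfsg.Agent.Class.FG.Linear
import Cfsg.Agent.S2384

set_option autoImplicit false
open Cfsg

namespace Cfsg.Agent.S2479

/-- The number of conjugacy classes of SL(n,q): for F a finite field with q elements, the number k of conjugacy classes of SL(n,F) satisfies q^(n−1) < k and k ≤ (5/2)·q^(n−1) for n ≥ 2, and k ≤ q^(n−1) + 3q^(n−2) for n ≥ 3. -/
theorem result {F : Type*} [Field F] [Fintype F] (n : ℕ) (hn : 2 ≤ n) :
    Fintype.card F ^ (n - 1) < Nat.card (ConjClasses (Matrix.SpecialLinearGroup (Fin n) F)) ∧ 2 * Nat.card (ConjClasses (Matrix.SpecialLinearGroup (Fin n) F)) ≤ 5 * Fintype.card F ^ (n - 1) ∧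
      (3 ≤ n → Nat.card (ConjClasses (Matrix.SpecialLinearGroup (Fin n) F)) ≤ Fintype.card F ^ (n - 1) + 3 * Fintype.card F ^ (n - 2)) := by
  classical
  obtain ⟨p, hp, -, hpp, -⟩ := FiniteField.card' F
  have := Fact.mk hpp
  have h1 : 1 < Fintype.card F := Fintype.one_lt_card
  have h2 := Class.FG.card_conjClasses_SL_mul_le (F := F) n
  rw [Nat.card_eq_fintype_card (α := F)] at h2
  have h3 := S2384.result (F := F) rfl p n (by omega)
  obtain ⟨α, hα⟩ : ∃ α, Fintype.card F = α + 1 := ⟨_, (Nat.sub_add_cancel h1.le).symm⟩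
  rw [hα, Nat.add_sub_cancel] at h2
  refine ⟨?_, ?_, fun h => ?_⟩
  · have hij : (⟨0, by omega⟩ : Fin n) ≠ ⟨1, by omega⟩ := by simp
    let t := Matrix.SpecialLinearGroup.transvection hij (1 : F)
    have ht : ∀ k : ℕ, t ^ k = Matrix.SpecialLinearGroup.transvection hij (k : F) := fun k => by
      induction k with
      | zero => simp
      | succ k ih => rw [pow_succ, ih, Nat.cast_succ, Matrix.SpecialLinearGroup.transvection_add]
    have h4 : orderOf t = p := orderOf_eq_prime (by rw [ht]; simp) fun e => one_ne_zero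
      ((Matrix.SpecialLinearGroup.transvection_mem_center_iff hij (1 : F)).1
        (show t ∈ _ from e ▸ one_mem _))
    rw [← h3]
    refine Finite.card_subtype_lt (x := ConjClasses.mk t) ?_
    rintro ⟨g, h5, h6⟩
    obtain ⟨c, hc⟩ := ConjClasses.mk_eq_mk_iff_isConj.1 h5
    rw [hc.orderOf_eq, h4] at h6
    exact hpp.one_lt.ne' ((Nat.coprime_self p).1 h6)
  · rw [hα]
    refine Nat.le_of_mul_le_mul_right (le_trans ?_ (Class.FG.S_SL_le' (α := α) (by omega) (by omega)))
      (by omega)
    rw [mul_assoc]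
    exact Nat.mul_le_mul_left _ h2
  · rw [hα]
    exact Nat.le_of_mul_le_mul_right (h2.trans (Class.FG.S_SL_le (by omega) h)) (by omega)

end Cfsg.Agent.S2479
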