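import Cfsg.Statements.S2480
import Mathlib
import Cfsg.Agent.S2479

set_option autoImplicit false
open Cfsg

namespace Cfsg.Agent.S2480

/-- The number of conjugacy classes of PSL(n,q): for F a finite field with q elements, n ≥ 2 and d = gcd(n, q − 1), the number k of conjugacy classes of PSL(n,F) satisfies q^(n−1) ≤ d·k ≤ q^(n−1) + 5q^(n−2). -/
theorem result {F : Type*} [Field F] [Fintype F] (n : ℕ) (hn : 2 ≤ n) :
    Fintype.card F ^ (n - 1) ≤ Nat.gcd n (Fintype.card F - 1) * Nat.card (ConjClasses (Matrix.ProjectiveSpecialLinearGroup (Fin n) F)) ∧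
      Nat.gcd n (Fintype.card F - 1) * Nat.card (ConjClasses (Matrix.ProjectiveSpecialLinearGroup (Fin n) F)) ≤ Fintype.card F ^ (n - 1) + 5 * Fintype.card F ^ (n - 2) := by
  classical
  have : Nonempty (Fin n) := ⟨⟨0, by omega⟩⟩
  have hZ := Class.card_center_SL (ι := Fin n) (F := F)
  rw [Fintype.card_fin, Nat.card_eq_fintype_card (α := F)] at hZ
  obtain ⟨k1, -, k3⟩ := S2479.result (F := F) n hn
  have k4 := Class.FG.card_conjClasses_SL_mul_le (F := F) n
  have h1 : 1 < Fintype.card F := Fintype.one_lt_card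
  obtain ⟨α, hα⟩ : ∃ α, Fintype.card F = α + 1 := ⟨_, (Nat.sub_add_cancel h1.le).symm⟩
  have hα1 : 1 ≤ α := by omega
  have := Fintype.ofFinite (Subgroup.center (Matrix.SpecialLinearGroup (Fin n) F))
  have := Fintype.ofFinite (ConjClasses (Matrix.SpecialLinearGroup (Fin n) F))
  have key : ∀ z : Subgroup.center (Matrix.SpecialLinearGroup (Fin n) F), z ≠ 1 → ∃ m, 1 ≤ m ∧
      m ≤ n / 2 ∧ Nat.card {C : ConjClasses (Matrix.SpecialLinearGroup (Fin n) F) //
        IsConj (z * Quotient.out C) (Quotient.out C)} * α ≤ Class.FG.S α (α + 1) m := fun z hz => by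
    obtain ⟨r, h2, h3⟩ := Matrix.SpecialLinearGroup.mem_center_iff.1 z.2
    rw [Fintype.card_fin] at h2
    let u : Fˣ := Units.mk0 r (by rintro rfl; simp [show n ≠ 0 by omega] at h2)
    have h4 : orderOf u ∣ n := orderOf_dvd_of_pow_eq_one (Units.ext (by simpa [u] using h2))
    have h5 : orderOf u ≠ 1 := fun e => hz (Subtype.ext (Subtype.ext (by
      rw [← h3, show r = 1 from congrArg Units.val (orderOf_eq_one_iff.1 e)]; simp)))
    have h6 := orderOf_pos u
    refine ⟨n / orderOf u, Nat.div_pos (Nat.le_of_dvd (by omega) h4) h6,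
      Nat.div_le_div_left (by omega) two_pos, ?_⟩
    have h7 := Class.FG.card_SL_mul_le u (Finset.univ.filter fun C : ConjClasses
      (Matrix.SpecialLinearGroup (Fin n) F) => IsConj (z * Quotient.out C) (Quotient.out C))
      fun C hC => by
        have := KSG.isConj_GL_iff.1
          (Matrix.SpecialLinearGroup.toGL.map_isConj (Finset.mem_filter.1 hC).2)
        change IsConj ((z.1 : Matrix (Fin n) (Fin n) F) * _) _ at this
        rw [← h3, Matrix.scalar_apply, ← Matrix.smul_eq_diagonal_mul] at this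
        exact this
    rw [Nat.card_eq_fintype_card (α := F), hα, Nat.add_sub_cancel] at h7
    rwa [Nat.card_eq_fintype_card, Fintype.card_subtype]
  have h8 := Class.FG.card_mul_card_conjClasses_quotient
    (Subgroup.center (Matrix.SpecialLinearGroup (Fin n) F)) le_rfl
  rw [hZ, ← Finset.add_sum_erase _ _ (Finset.mem_univ 1), Nat.card_congr (Equiv.subtypeUnivEquiv
    (p := fun C : ConjClasses (Matrix.SpecialLinearGroup (Fin n) F) => IsConj ((1 : Subgroup.center
      (Matrix.SpecialLinearGroup (Fin n) F)) * Quotient.out C) (Quotient.out C))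
    fun C => by rw [Subgroup.coe_one, one_mul])] at h8
  rw [h8]
  refine ⟨k1.le.trans (Nat.le_add_right _ _), ?_⟩
  have h9 : (Finset.univ.erase (1 : Subgroup.center (Matrix.SpecialLinearGroup (Fin n) F))).card =
      n.gcd α - 1 := by
    rw [Finset.card_erase_of_mem (Finset.mem_univ _), Finset.card_univ, ← Nat.card_eq_fintype_card,
      hZ, hα, Nat.add_sub_cancel]
  have d1 : n.gcd α ≤ n := Nat.gcd_le_left _ (by omega)
  have d2 : n.gcd α ≤ α := Nat.gcd_le_right _ hα1
  rw [Nat.card_eq_fintype_card (α := F), hα, Nat.add_sub_cancel] at k4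
  rw [hα] at k3 ⊢
  by_cases h3 : 3 ≤ n
  · have h10 := Finset.sum_le_card_nsmul (Finset.univ.erase 1) (fun z : Subgroup.center
        (Matrix.SpecialLinearGroup (Fin n) F) => 2 * Nat.card {C : ConjClasses
          (Matrix.SpecialLinearGroup (Fin n) F) // IsConj (z * Quotient.out C) (Quotient.out C)})
        (5 * (α + 1) ^ (n / 2 - 1)) fun z hz => by
      obtain ⟨m, m1, m2, m3⟩ := key z (Finset.mem_erase.1 hz).1
      refine le_trans (Nat.le_of_mul_le_mul_right (le_trans ?_ (Class.FG.S_SL_le' hα1 m1)) hα1)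
        (Nat.mul_le_mul_left _ (Nat.pow_le_pow_right (by omega) (by omega)))
      rw [mul_assoc]
      exact Nat.mul_le_mul_left _ m3
    rw [← Finset.mul_sum, h9, smul_eq_mul] at h10
    have h11 : (n.gcd α - 1) * (5 * (α + 1) ^ (n / 2 - 1)) ≤ 4 * (α + 1) ^ (n - 2) := by
      generalize n.gcd α = d at *
      by_cases h5 : 5 ≤ n
      · have := Nat.pow_le_pow_right (n := α + 1) (by omega) (show n / 2 - 1 + 2 ≤ n - 2 by omega)
        rw [pow_add] at this
        calc _ ≤ α * (5 * (α + 1) ^ (n / 2 - 1)) := Nat.mul_le_mul_right _ (by omega)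
          _ ≤ 4 * ((α + 1) ^ (n / 2 - 1) * (α + 1) ^ 2) := by
            nlinarith [Nat.zero_le ((α + 1) ^ (n / 2 - 1) * α ^ 2)]
          _ ≤ _ := Nat.mul_le_mul_left _ this
      · obtain rfl | rfl : n = 3 ∨ n = 4 := by omega
        · simp; omega
        · rw [show 4 / 2 - 1 = 1 from rfl, show 4 - 2 = 1 + 1 from rfl, pow_succ _ 1, pow_one,
            ← mul_assoc, ← mul_assoc]
          exact Nat.mul_le_mul_right _ (by omega)
    have := k3 h3
    omega
  · obtain rfl : n = 2 := by omega
    have h10 := Finset.sum_le_card_nsmul (Finset.univ.erase 1) (fun z : Subgroup.center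
        (Matrix.SpecialLinearGroup (Fin 2) F) => Nat.card {C : ConjClasses
          (Matrix.SpecialLinearGroup (Fin 2) F) // IsConj (z * Quotient.out C) (Quotient.out C)})
        1 fun z hz => by
      obtain ⟨m, m1, m2, m3⟩ := key z (Finset.mem_erase.1 hz).1
      obtain rfl : m = 1 := by omega
      rw [Class.FG.S_one] at m3
      exact Nat.le_of_mul_le_mul_right (by rwa [one_mul]) hα1
    rw [h9, smul_eq_mul] at h10
    have h11 : Nat.card (ConjClasses (Matrix.SpecialLinearGroup (Fin 2) F)) ≤ α + 5 := by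
      refine Nat.le_of_mul_le_mul_right (k4.trans ?_) hα1
      rw [Class.FG.S_two]
      split_ifs <;> nlinarith
    simp only [show 2 - 1 = 1 from rfl, pow_one, Nat.sub_self, pow_zero]
    omega

end Cfsg.Agent.S2480
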