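import Cfsg.Statements.S2390
import Mathlib
import Cfsg.Agent.Class.Wall.SU

set_option autoImplicit false
open Cfsg

namespace Cfsg.Agent.S2390

/-- In the special unitary group `SU_n(q)` (inside `SL_n` over the field with `q²` elements), `q` a power of the prime `p`, two elements of order prime to `p` with the same characteristic polynomial are conjugate in `SU_n(q)`. -/
theorem result {F : Type*} [Field F] [Fintype F] {q : ℕ} (hF : Fintype.card F = q ^ 2) (p : ℕ) [Fact p.Prime] [CharP F p] (n : ℕ)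
    (g h : ↥(Cfsg.SU n F q)) (hg : (orderOf g).Coprime p) (hh : (orderOf h).Coprime p)
    (hc : ((g : Matrix.SpecialLinearGroup (Fin n) F) : Matrix (Fin n) (Fin n) F).charpoly =
      ((h : Matrix.SpecialLinearGroup (Fin n) F) : Matrix (Fin n) (Fin n) F).charpoly) : IsConj g h := by
  have := Class.U.UF.of_card hF
  rcases Nat.eq_zero_or_pos n with rfl | hn
  · rw [Subsingleton.elim g h]
  haveI : Nonempty (Fin n) := ⟨⟨0, hn⟩⟩
  have hp : p.Prime := Fact.out
  rw [← Subgroup.orderOf_coe] at hg hh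
  obtain ⟨b, hb⟩ := KSG.exists_mem_mdiv (g.1 : Matrix (Fin n) (Fin n) F)
  have hg' := (KSG.GL_coprime_orderOf_iff p (Matrix.SpecialLinearGroup.toGL g.1)).1
    (by rwa [KSG.orderOf_toGL])
  refine Class.Wall.SU_isConj_of_det_surj
    (KSG.exists_commute_det_eq_of_irreducible_mem hb (hg' b hb)) ?_
  refine KSG.isConj_of_squarefree_of_charpoly (KSG.squarefree_X_pow_sub_one p hg hp)
    (KSG.squarefree_X_pow_sub_one p hh hp) ?_ ?_ hc
  · simp [sub_eq_zero, ← Matrix.SpecialLinearGroup.coe_pow, ← Subgroup.coe_pow]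
  · simp [sub_eq_zero, ← Matrix.SpecialLinearGroup.coe_pow, ← Subgroup.coe_pow]

end Cfsg.Agent.S2390
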