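import Cfsg.Statements.S2386
import Mathlib
import Cfsg.Agent.Class.FG.SelfDual
import Cfsg.Agent.S2390

set_option autoImplicit false
open Cfsg

namespace Cfsg.Agent.S2386

/-- In the special unitary group `SU_n(q)` (matrices of determinant one over the field with `q²` elements preserving the standard Hermitian form), `q` a power of the prime `p`, the number of conjugacy classes of elements of order prime to `p` is `q^(n-1)`. -/
theorem result {F : Type*} [Field F] [Fintype F] {q : ℕ} (hF : Fintype.card F = q ^ 2) (p : ℕ) [Fact p.Prime] [CharP F p] (n : ℕ) (hn : 1 ≤ n) :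
    Nat.card {c : ConjClasses ↥(Cfsg.SU n F q) // ∃ g : ↥(Cfsg.SU n F q), ConjClasses.mk g = c ∧ (orderOf g).Coprime p} = q ^ (n - 1) := by
  classical
  have := Class.U.UF.of_card hF
  have h1 : ∀ g : SU n F q, (orderOf g).Coprime p ↔ ∀ b ∈ KSG.mdiv g.1.1, Irreducible b := fun g => by
    rw [← Subgroup.orderOf_coe, ← KSG.orderOf_toGL]
    exact KSG.GL_coprime_orderOf_iff p _
  have hdet : ∀ A : Matrix (Fin n) (Fin n) F, A.det = 1 ↔ (KSG.mdiv A).prod.coeff 0 = (-1) ^ n := by
    intro A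
    rw [KSG.prod_mdiv, Matrix.det_eq_sign_charpoly_coeff, Fintype.card_fin]
    rcases neg_one_pow_eq_or F n with h | h <;> simp [h, neg_eq_iff_eq_neg]
  have h2 : ∀ g k : SU n F q, (orderOf g).Coprime p → (orderOf k).Coprime p →
      (IsConj g k ↔ KSG.mdiv g.1.1 = KSG.mdiv k.1.1) := fun g k hg hk =>
    ⟨fun h => KSG.isConj_iff_mdiv.1 (KSG.isConj_GL_iff.1
      (Matrix.SpecialLinearGroup.toGL.map_isConj ((SU n F q).subtype.map_isConj h))),
      fun h => S2390.result hF p n g k hg hk (by rw [← KSG.prod_mdiv, ← KSG.prod_mdiv, h])⟩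
  rw [Class.Wall.card_conjClasses_of_inv (fun g : SU n F q => KSG.mdiv g.1.1) _ (fun s => (∀ b ∈ s, KSG.IsPP b) ∧
    (∀ b ∈ s, ¬ Polynomial.X ∣ b) ∧ (s.map Polynomial.natDegree).sum = n ∧
    (∀ b ∈ s, Irreducible b) ∧ Class.Wall.dual (Class.U.conj F q) s.prod = s.prod ∧
      s.prod.coeff 0 = (-1) ^ n)
    h2 fun s => ?_,
    KSG.card_multiset_irreducible n fun f => Class.Wall.dual (Class.U.conj F q) f = f ∧
      f.coeff 0 = (-1) ^ n, ← Class.FG.card_selfDual_unitary (F := F) (c := (-1) ^ n) (by omega)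
      (by simp [← mul_pow])]
  · exact Nat.card_congr (Equiv.subtypeEquivRight fun f => and_congr_right fun _ =>
      and_congr_right fun _ => and_iff_right_of_imp fun h => h.2.trans_ne (by simp))
  constructor
  · rintro ⟨a, b, c, d, e, f⟩
    obtain ⟨A, rfl⟩ := Class.Wall.exists_GU_mdiv_eq a b c
      ((Class.FG.map_dual_eq_iff a d Class.U.conj_conj b).2 e)
    exact ⟨⟨⟨A.1, (hdet _).2 f⟩, A.2⟩, (h1 _).2 d, rfl⟩
  · rintro ⟨A, hA, rfl⟩
    have a := fun b => KSG.isPP_of_mem_mdiv (A := A.1.1) (b := b)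
    have b := (KSG.isUnit_iff_mdiv A.1.1).1 (Matrix.SpecialLinearGroup.toGL A.1).isUnit
    exact ⟨a, b, by simpa using KSG.sum_natDegree_mdiv A.1.1, (h1 A).1 hA,
      (Class.FG.map_dual_eq_iff a ((h1 A).1 hA) Class.U.conj_conj b).1
        (Class.Wall.GU_map_dual_mdiv (Class.U.toGU A)), (hdet _).1 A.1.2⟩

end Cfsg.Agent.S2386
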