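import Cfsg.Statements.S2481
import Mathlib
import Cfsg.Agent.Class.FG.Unitary
import Cfsg.Agent.Class.FG.RealBound
import Cfsg.Agent.S2386

set_option autoImplicit false
open Cfsg

namespace Cfsg.Agent.S2481

/-- The number of conjugacy classes of SU(n,q): for n ≥ 2, q a prime power and F the field with q² elements, the number k of conjugacy classes of SU(n,q) (the determinant-one isometries of the standard Hermitian form on F^n) satisfies q^(n−1) ≤ k ≤ 8.26·q^(n−1). -/
theorem result {F : Type*} [Field F] [Fintype F] (n q : ℕ) (hn : 2 ≤ n) (hF : Fintype.card F = q ^ 2) :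
    q ^ (n - 1) ≤ Nat.card (ConjClasses (Cfsg.SU n F q)) ∧ 100 * Nat.card (ConjClasses (Cfsg.SU n F q)) ≤ 826 * q ^ (n - 1) := by
  classical
  have := Class.U.UF.of_card hF
  obtain ⟨p, hp, -, hpp, -⟩ := FiniteField.card' F
  have := Fact.mk hpp
  refine ⟨S2386.result hF p n (by omega) ▸ Finite.card_subtype_le _, Nat.le_of_mul_le_mul_right
    (le_trans ?_ (Class.FG.S_SU_le (Class.U.two_le_q F q) hn)) q.succ_pos⟩
  rw [mul_assoc]
  exact Nat.mul_le_mul_left _ (Class.FG.card_conjClasses_SU_mul_le (by omega))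

end Cfsg.Agent.S2481
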