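import Cfsg.Statements.S4201
import Mathlib
import Cfsg.Agent.KSG.ConjSum
import Cfsg.Agent.Grp.Card

set_option autoImplicit false
open Cfsg

namespace Cfsg.Agent.S4201

open Subgroup

theorem card_fiber_le {X : Type*} [Group X] [Finite X] (N C : Subgroup X) [N.Normal] (s : X ⧸ N) :
    Nat.card {g : X // (g : X ⧸ N) = s ∧ g ∈ C} ≤ Nat.card (C ⊓ N : Subgroup X) := by
  rcases isEmpty_or_nonempty {g : X // (g : X ⧸ N) = s ∧ g ∈ C} with h | ⟨⟨g₀⟩⟩
  · simp
  · exact Nat.card_le_card_of_injective (fun g => ⟨g₀.1⁻¹ * g.1, C.mul_mem (C.inv_mem g₀.2.2) g.2.2,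
      QuotientGroup.eq.1 (g₀.2.1.trans g.2.1.symm)⟩)
      fun g h hgh => Subtype.ext (mul_left_cancel (congrArg Subtype.val hgh))

theorem fiber_sum_le {X : Type*} [Group X] [Fintype X] (N : Subgroup X) [N.Normal] [Fintype N]
    (s : X ⧸ N) [Fintype {g : X // (g : X ⧸ N) = s}] :
    ∑ g : {g : X // (g : X ⧸ N) = s}, Nat.card (centralizer ({(g : X)} : Set X) ⊓ N : Subgroup X) ≤
      Nat.card (ConjClasses N) * Nat.card N := by
  rw [KSG.card_conjClasses_mul_card_eq_sum]
  simp only [KSG.card_centralizer_subgroup]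
  refine le_trans (le_of_eq ?_) (Finset.sum_le_sum fun n _ => card_fiber_le N _ s)
  rw [← Nat.card_sigma, ← Nat.card_sigma]
  exact Nat.card_congr
    { toFun := fun a => ⟨⟨a.2, a.2.2.2⟩, ⟨a.1, a.1.2, mem_centralizer_singleton_iff.2
        (mem_centralizer_singleton_iff.1 a.2.2.1).symm⟩⟩
      invFun := fun a => ⟨⟨a.2, a.2.2.1⟩, ⟨a.1, mem_centralizer_singleton_iff.2
        (mem_centralizer_singleton_iff.1 a.2.2.2).symm, a.1.2⟩⟩
      left_inv := fun _ => rfl
      right_inv := fun _ => rfl }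

/-- If N is a normal subgroup of the finite group X then k(X) ≤ k(N)·k(X ⧸ N), where k denotes the number of conjugacy classes. -/
theorem result {X : Type*} [Group X] [Finite X] (N : Subgroup X) [N.Normal] : Nat.card (ConjClasses X) ≤ Nat.card (ConjClasses N) * Nat.card (ConjClasses (X ⧸ N)) := by
  classical
  have := Fintype.ofFinite X
  refine Nat.le_of_mul_le_mul_right ?_ (Nat.card_pos (α := X))
  rw [KSG.card_conjClasses_mul_card_eq_sum, ← Grp.card_quotient_mul_card N,
    show ∀ a b c d : ℕ, a * b * (c * d) = b * c * (a * d) by intros; ring,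
    KSG.card_conjClasses_mul_card_eq_sum (G := X ⧸ N), Finset.sum_mul,
    ← Fintype.sum_fiberwise (fun g : X => (g : X ⧸ N))]
  refine Finset.sum_le_sum fun s _ => le_trans ?_ (Nat.mul_le_mul_left _ (fiber_sum_le N s))
  rw [Finset.mul_sum]
  refine Finset.sum_le_sum fun g _ => ?_
  rw [← Grp.card_map_mk'_mul N, inf_comm]
  refine Nat.mul_le_mul_right _ (card_le_of_le ?_)
  rintro _ ⟨x, hx, rfl⟩
  rw [← g.2, mem_centralizer_singleton_iff, QuotientGroup.mk'_apply, ← QuotientGroup.mk_mul,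
    mem_centralizer_singleton_iff.1 hx, QuotientGroup.mk_mul]

end Cfsg.Agent.S4201
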