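import Cfsg.Statements.S0496
import Mathlib
import Cfsg.Agent.Small.Sieve

set_option autoImplicit false
open Cfsg

namespace Cfsg.Agent.S0496

open Cfsg.Agent.Small.Sieve in
def certs : List (ℕ × Cert) := [
  (12, .two 2 2 3 1), (16, .two 2 4 2 0), (24, .two 2 3 3 1), (32, .two 2 5 2 0),
  (36, .two 2 2 3 2), (48, .two 2 4 3 1), (56, .two 2 3 7 1), (64, .two 2 6 2 0),
  (72, .two 2 3 3 2), (80, .two 2 4 5 1), (84, .sq 7 1), (96, .two 2 5 3 1), (108, .two 2 2 3 3),
  (112, .two 2 4 7 1), (120, .sq 2 3), (128, .two 2 7 2 0), (132, .pr 11 []),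
  (144, .two 2 4 3 2), (156, .sq 13 1), (160, .two 2 5 5 1), (176, .two 2 4 11 1),
  (180, .pr 5 []), (192, .two 2 6 3 1), (204, .sq 17 1), (208, .two 2 4 13 1),
  (216, .two 2 3 3 3), (224, .two 2 5 7 1), (228, .sq 19 1), (240, .sq 2 4), (252, .pr 7 []),
  (256, .two 2 8 2 0), (264, .pr 11 []), (272, .two 2 4 17 1), (276, .sq 23 1), (280, .pr 5 []),
  (288, .two 2 5 3 2), (300, .sq 5 2), (304, .two 2 4 19 1), (312, .sq 13 1),
  (320, .two 2 6 5 1), (324, .two 2 2 3 4), (336, .pr 7 []), (348, .sq 29 1),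
  (352, .two 2 5 11 1), (368, .two 2 4 23 1), (372, .sq 31 1), (384, .two 2 7 3 1),
  (392, .two 2 3 7 2), (396, .pr 11 []), (400, .two 2 4 5 2), (408, .sq 17 1),
  (416, .two 2 5 13 1), (420, .pr 7 []), (432, .two 2 4 3 3), (444, .sq 37 1),
  (448, .two 2 6 7 1), (456, .sq 19 1), (464, .two 2 4 29 1), (468, .sq 13 1), (480, .sq 2 5),
  (492, .sq 41 1), (496, .two 2 4 31 1), (512, .two 2 9 2 0), (516, .sq 43 1), (528, .pr 11 []),
  (540, .pr 5 []), (544, .two 2 5 17 1), (552, .pr 23 []), (560, .sq 2 4), (564, .sq 47 1),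
  (576, .two 2 6 3 2), (588, .sq 7 2), (592, .two 2 4 37 1), (600, .sq 5 2),
  (608, .two 2 5 19 1), (612, .pr 17 []), (616, .pr 11 []), (624, .sq 13 1), (636, .sq 53 1),
  (640, .two 2 7 5 1), (648, .two 2 3 3 4), (656, .two 2 4 41 1), (672, .pr 7 []),
  (684, .sq 19 1), (688, .two 2 4 43 1), (696, .sq 29 1), (704, .two 2 6 11 1), (708, .sq 59 1),
  (720, .pr 5 []), (728, .sq 7 1), (732, .sq 61 1), (736, .two 2 5 23 1), (744, .sq 31 1),
  (752, .two 2 4 47 1), (756, .pr 7 []), (768, .two 2 8 3 1), (780, .sq 13 1),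
  (784, .two 2 4 7 2), (792, .pr 11 []), (800, .two 2 5 5 2), (804, .sq 67 1), (816, .sq 17 1),
  (828, .sq 23 1), (832, .two 2 6 13 1), (840, .pr 7 []), (848, .two 2 4 53 1), (852, .sq 71 1),
  (864, .two 2 5 3 3), (876, .sq 73 1), (880, .sq 11 1), (888, .sq 37 1), (896, .two 2 7 7 1),
  (900, .sq 5 2), (912, .sq 19 1), (924, .pr 11 []), (928, .two 2 5 29 1), (936, .sq 13 1),
  (944, .two 2 4 59 1), (948, .sq 79 1), (952, .sq 17 1), (960, .sq 2 6), (972, .two 2 2 3 5),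
  (976, .two 2 4 61 1), (984, .sq 41 1), (992, .two 2 5 31 1), (996, .sq 83 1), (1008, .pr 7 []),
  (1020, .sq 17 1), (1024, .two 2 10 2 0), (1032, .sq 43 1), (1040, .pr 13 []), (1044, .sq 29 1),
  (1056, .pr 11 []), (1064, .sq 19 1), (1068, .sq 89 1), (1072, .two 2 4 67 1), (1080, .pr 5 []),
  (1088, .two 2 6 17 1)]

open Cfsg.Agent.Small.Sieve in
theorem chk : rangeCheck 34 4 [60, 168, 360, 504, 660, 1092] certs 273 = true := by decide +kernel

/-- A non-abelian finite simple group of order at most 1092 has order 60, 168, 360, 504, 660 or 1092. -/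
theorem result {G : Type*} [Group G] [Finite G] [IsSimpleGroup G]
    (hG : ¬ IsMulCommutative G) (h : Nat.card G ≤ 1092) :
    Nat.card G = 60 ∨ Nat.card G = 168 ∨ Nat.card G = 360 ∨ Nat.card G = 504 ∨ Nat.card G = 660 ∨
      Nat.card G = 1092 := by
  open Cfsg.Agent.Small Cfsg.Agent.Small.Sieve in
  have h1 := pre_of_simple hG
  have h2 := Nat.card_pos (α := G)
  simpa using rangeCheck_sound hG (by norm_num) _ chk (by omega) (by omega)

end Cfsg.Agent.S0496
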