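import Cfsg.Statements.S0983
import Mathlib
import Cfsg.Agent.Small.Sieve
import Cfsg.Agent.Small.Order5400

set_option autoImplicit false
open Cfsg

namespace Cfsg.Agent.S0983

open Cfsg.Agent.Small.Sieve in
def certs : List (ℕ × Cert) := [
  (3640, .pr 7 []), (3648, .pr 19 []), (3660, .sq 61 1), (3664, .two 2 4 229 1),
  (3672, .pr 17 []), (3680, .sq 23 1), (3684, .sq 307 1), (3696, .pr 11 []), (3708, .sq 103 1),
  (3712, .two 2 7 29 1), (3720, .sq 31 1), (3728, .two 2 4 233 1), (3732, .sq 311 1),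
  (3744, .pr 13 []), (3752, .sq 67 1), (3756, .sq 313 1), (3760, .sq 47 1), (3768, .sq 157 1),
  (3776, .two 2 6 59 1), (3780, .pr 5 []), (3792, .sq 79 1), (3804, .sq 317 1), (3808, .sq 17 1),
  (3816, .sq 53 1), (3824, .two 2 4 239 1), (3828, .sq 29 1), (3840, .sq 2 8), (3852, .sq 107 1),
  (3856, .two 2 4 241 1), (3864, .pr 23 []), (3872, .two 2 5 11 2), (3876, .sq 19 1),
  (3888, .two 2 4 3 5), (3900, .pr 13 []), (3904, .two 2 6 61 1), (3912, .sq 163 1),
  (3920, .sq 7 2), (3924, .sq 109 1), (3936, .sq 41 1), (3948, .sq 47 1), (3952, .frob 2 4),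
  (3960, .pr 11 []), (3968, .two 2 7 31 1), (3972, .sq 331 1), (3976, .sq 71 1),
  (3984, .sq 83 1), (3996, .sq 37 1), (4000, .two 2 5 5 3), (4008, .sq 167 1),
  (4016, .two 2 4 251 1), (4020, .sq 67 1), (4032, .pr 7 [(2, 6)]), (4044, .sq 337 1),
  (4048, .frob 2 4), (4056, .sq 13 2), (4064, .two 2 5 127 1), (4068, .sq 113 1),
  (4088, .sq 73 1), (4092, .sq 31 1), (4096, .two 2 12 2 0), (4104, .sq 19 1),
  (4112, .two 2 4 257 1), (4116, .sq 7 3), (4128, .sq 43 1), (4140, .sq 23 1), (4144, .pr 37 []),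
  (4152, .sq 173 1), (4160, .pr 13 []), (4164, .sq 347 1), (4176, .sq 29 1), (4188, .sq 349 1),
  (4192, .two 2 5 131 1), (4200, .pr 7 []), (4208, .two 2 4 263 1), (4212, .pr 13 []),
  (4224, .pr 11 []), (4236, .sq 353 1), (4240, .sq 53 1), (4248, .sq 59 1), (4256, .sq 19 1),
  (4260, .sq 71 1), (4272, .sq 89 1), (4284, .pr 17 []), (4288, .two 2 6 67 1),
  (4296, .sq 179 1), (4304, .two 2 4 269 1), (4308, .sq 359 1), (4312, .sq 7 2),
  (4320, .pr 5 [(3, 3)]), (4332, .sq 19 2), (4336, .two 2 4 271 1), (4344, .sq 181 1),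
  (4352, .two 2 8 17 1), (4356, .sq 11 2), (4368, .pr 7 []), (4380, .sq 73 1),
  (4384, .two 2 5 137 1), (4392, .sq 61 1), (4400, .pr 11 []), (4404, .sq 367 1),
  (4416, .pr 23 []), (4424, .sq 79 1), (4428, .sq 41 1), (4432, .two 2 4 277 1),
  (4440, .sq 37 1), (4448, .two 2 5 139 1), (4452, .sq 53 1), (4464, .sq 31 1),
  (4476, .sq 373 1), (4480, .sq 2 7), (4488, .sq 17 1), (4496, .two 2 4 281 1), (4500, .sq 5 3),
  (4512, .pr 47 []), (4524, .sq 29 1), (4528, .two 2 4 283 1), (4536, .pr 7 []),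
  (4544, .two 2 6 71 1), (4548, .sq 379 1), (4560, .pr 19 []), (4572, .sq 127 1),
  (4576, .frob 2 5), (4584, .sq 191 1), (4592, .sq 41 1), (4596, .sq 383 1),
  (4608, .two 2 9 3 2), (4620, .pr 7 []), (4624, .two 2 4 17 2), (4632, .sq 193 1),
  (4640, .sq 29 1), (4644, .sq 43 1), (4648, .sq 83 1), (4656, .sq 97 1), (4668, .sq 389 1),
  (4672, .two 2 6 73 1), (4680, .pr 13 []), (4688, .two 2 4 293 1), (4692, .sq 23 1),
  (4704, .sq 7 2), (4716, .sq 131 1), (4720, .sq 59 1), (4728, .sq 197 1), (4736, .two 2 7 37 1),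
  (4740, .sq 79 1), (4752, .pr 11 []), (4760, .pr 7 []), (4764, .sq 397 1),
  (4768, .two 2 5 149 1), (4776, .sq 199 1), (4784, .frob 2 4), (4788, .sq 19 1),
  (4800, .pr 3 []), (4812, .sq 401 1), (4816, .sq 43 1), (4824, .sq 67 1),
  (4832, .two 2 5 151 1), (4836, .sq 13 1), (4848, .sq 101 1), (4860, .sq 3 5),
  (4864, .two 2 8 19 1), (4872, .sq 29 1), (4880, .sq 61 1), (4884, .sq 37 1), (4896, .pr 17 []),
  (4908, .sq 409 1), (4912, .two 2 4 307 1), (4920, .sq 41 1), (4928, .pr 11 []),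
  (4932, .sq 137 1), (4944, .sq 103 1), (4956, .sq 59 1), (4960, .pr 31 []), (4968, .pr 23 []),
  (4976, .two 2 4 311 1), (4980, .sq 83 1), (4984, .sq 89 1), (4992, .sq 13 1),
  (5004, .sq 139 1), (5008, .two 2 4 313 1), (5016, .sq 19 1), (5024, .two 2 5 157 1),
  (5028, .sq 419 1), (5040, .pr 5 []), (5052, .sq 421 1), (5056, .two 2 6 79 1),
  (5064, .sq 211 1), (5072, .two 2 4 317 1), (5076, .sq 47 1), (5088, .sq 53 1), (5096, .sq 7 2),
  (5100, .sq 17 1), (5104, .frob 2 4), (5112, .pr 71 []), (5120, .two 2 10 5 1),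
  (5124, .sq 61 1), (5136, .sq 107 1), (5148, .pr 11 []), (5152, .sq 23 1), (5160, .sq 43 1),
  (5168, .frob 2 4), (5172, .sq 431 1), (5184, .two 2 6 3 4), (5196, .sq 433 1),
  (5200, .pr 13 []), (5208, .sq 31 1), (5216, .two 2 5 163 1), (5220, .pr 29 []),
  (5232, .sq 109 1), (5244, .sq 23 1), (5248, .two 2 7 41 1), (5256, .sq 73 1), (5264, .sq 47 1),
  (5268, .sq 439 1), (5280, .pr 11 []), (5292, .sq 7 2), (5296, .two 2 4 331 1),
  (5304, .sq 13 1), (5312, .two 2 6 83 1), (5316, .sq 443 1), (5320, .pr 19 []),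
  (5328, .sq 37 1), (5340, .sq 89 1), (5344, .two 2 5 167 1), (5352, .sq 223 1),
  (5360, .sq 67 1), (5364, .sq 149 1), (5376, .pr 7 []), (5388, .sq 449 1),
  (5392, .two 2 4 337 1), (5408, .two 2 5 13 2), (5412, .sq 41 1), (5424, .sq 113 1),
  (5432, .sq 97 1), (5436, .sq 151 1), (5440, .sq 17 1), (5448, .sq 227 1), (5456, .frob 2 4),
  (5460, .pr 13 []), (5472, .pr 19 []), (5484, .sq 457 1), (5488, .two 2 4 7 3),
  (5496, .sq 229 1), (5504, .two 2 7 43 1), (5508, .pr 17 []), (5520, .pr 23 []),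
  (5532, .sq 461 1), (5536, .two 2 5 173 1), (5544, .pr 11 []), (5552, .two 2 4 347 1),
  (5556, .sq 463 1), (5568, .sq 29 1), (5580, .sq 31 1), (5584, .two 2 4 349 1),
  (5592, .sq 233 1), (5600, .pr 7 []), (5604, .sq 467 1), (5628, .sq 67 1),
  (5632, .two 2 9 11 1), (5640, .sq 47 1), (5648, .two 2 4 353 1), (5652, .sq 157 1),
  (5656, .sq 101 1), (5664, .sq 59 1), (5676, .sq 11 1), (5680, .sq 71 1), (5688, .sq 79 1),
  (5696, .two 2 6 89 1), (5700, .pr 19 []), (5712, .sq 17 1), (5724, .pr 53 []),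
  (5728, .two 2 5 179 1), (5736, .sq 239 1), (5744, .two 2 4 359 1), (5748, .sq 479 1),
  (5760, .pr 5 [(2, 7)]), (5768, .sq 103 1), (5772, .sq 37 1), (5776, .two 2 4 19 2),
  (5784, .sq 241 1), (5792, .two 2 5 181 1), (5796, .sq 23 1), (5808, .sq 11 2),
  (5820, .sq 97 1), (5824, .pr 7 []), (5832, .two 2 3 3 6), (5840, .sq 73 1), (5844, .sq 487 1),
  (5856, .sq 61 1), (5868, .sq 163 1), (5872, .two 2 4 367 1), (5880, .pr 5 []),
  (5888, .two 2 8 23 1), (5892, .sq 491 1), (5904, .sq 41 1), (5916, .sq 17 1), (5920, .sq 37 1),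
  (5928, .pr 13 []), (5936, .sq 53 1), (5940, .pr 11 []), (5952, .pr 31 []), (5964, .sq 71 1),
  (5968, .two 2 4 373 1), (5976, .sq 83 1), (5984, .frob 2 5), (5988, .sq 499 1),
  (5992, .sq 107 1), (6000, .sq 5 3), (6012, .sq 167 1), (6016, .two 2 7 47 1),
  (6024, .sq 251 1), (6032, .frob 2 4), (6036, .sq 503 1), (6060, .sq 101 1),
  (6064, .two 2 4 379 1), (6080, .pr 19 []), (6084, .sq 13 2), (6096, .sq 127 1),
  (6104, .sq 109 1), (6108, .sq 509 1), (6112, .two 2 5 191 1), (6120, .pr 17 []),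
  (6128, .two 2 4 383 1), (6132, .sq 73 1), (6144, .two 2 11 3 1), (6156, .pr 19 []),
  (6160, .pr 7 []), (6168, .sq 257 1), (6176, .two 2 5 193 1), (6180, .sq 103 1),
  (6192, .sq 43 1), (6204, .sq 47 1), (6208, .two 2 6 97 1), (6216, .sq 37 1),
  (6224, .two 2 4 389 1), (6228, .sq 173 1)]

open Cfsg.Agent.Small.Sieve in
theorem chk : rangeCheck 80 3640 [4080, 5400, 5616, 6048, 6072] certs 649 = true := by
  decide +kernel

/-- A non-abelian finite simple group of order greater than 3640 and at most 6232 has order 4080, 5616, 6048 or 6072. -/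
theorem result {G : Type*} [Group G] [Finite G] [IsSimpleGroup G] (hG : ¬ IsMulCommutative G) (h1 : 3640 < Nat.card G) (h2 : Nat.card G ≤ 6232) : Nat.card G = 4080 ∨ Nat.card G = 5616 ∨ Nat.card G = 6048 ∨ Nat.card G = 6072 := by
  open Cfsg.Agent.Small Cfsg.Agent.Small.Sieve in
  have h3 := card_ne_5400 (G := G)
  simpa [h3] using rangeCheck_sound hG (by norm_num) _ chk (by omega) (by omega)

end Cfsg.Agent.S0983
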