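import Cfsg.Statements.S3189
import Mathlib
import Cfsg.Agent.Inv.CoreSig2
import Cfsg.Agent.Inv.BrauerFowler
import Cfsg.Agent.S3110
import Cfsg.Agent.S0222
import Cfsg.Agent.S0243
import Cfsg.Agent.S0280

set_option autoImplicit false
open Cfsg

namespace Cfsg.Agent.S3189

open Cfsg.Agent.Inv Cfsg.Agent.Inv.CoreSig Cfsg.Agent.PLocal.Amb Subgroup

theorem exists_se_or_core_eq_bot {G : Type*} [Group G] [Finite G] [IsSimpleGroup G]
    (hc : ∀ t : G, orderOf t = 2 → IsPConstrained 2 (centralizer ({t} : Set G)))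
    {S E : Subgroup G} (hS : IsSyl 2 S ⊤) (hES : E ≤ S) (hn : S ≤ 𝐍[E])
    (hE : IsElementaryAbelian 2 E) (h8 : 8 ≤ Nat.card E) :
    (∃ H : Subgroup G, IsStronglyEmbedded H) ∨
      ∀ t ∈ S, orderOf t = 2 → Cfsg.centralizerPPrimeCore 2 t = ⊥ := by
  have hθ := eqFun_core_of_constrained hc
  have hconn := fourConnected_of_normal_ea hS.pgrp hES hn hE h8
  obtain ⟨V, hVE, hV⟩ := exists_klein_of_ea hE (by omega)
  have hodd := Cfsg.Agent.S3110.odd_closure hθ hE h8
  set W := signalizerClosure E (centralizerPPrimeCore 2 : G → Subgroup G) with hW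
  have hWV : W = signalizerClosure V (centralizerPPrimeCore 2) := hθ.closure_eq_of_le_ea hE hV hVE
  have hGev : ∀ H : Subgroup G, V ≤ H → 2 ∣ Nat.card H := fun H hH =>
    (show 2 ∣ Nat.card V by rw [hV.card_four]; norm_num).trans (card_dvd_of_le hH)
  by_cases htop : 𝐍[W] = ⊤
  · right
    have hW0 : W = ⊥ := by
      rcases (normalizer_eq_top_iff.1 htop).eq_bot_or_eq_top with h | h
      · exact h
      · exact absurd (hGev W (by rw [h]; exact le_top)) hodd
    intro t htS ht
    have h1 := hθ.le_closure_of_connected hS.pgrp hconn hV (hVE.trans hES) htS ht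
    rwa [← hWV, hW0, le_bot_iff] at h1
  · left
    have hVM : V ≤ 𝐍[W] := by
      rw [hWV]; exact le_normalizer.trans (normalizer_le_normalizer_closure hθ.conj V)
    exact ⟨_, isStronglyEmbedded_of_normalizers htop (even_iff_two_dvd.2 (hGev _ hVM))
        fun X hX hXp hX1 => normalizer_le_normalizer_W hc hS hES hn hE h8 hX hXp hX1⟩

theorem card_eq_of_se {G : Type*} [Group G] [Finite G] [IsSimpleGroup G] (hG : ¬ IsMulCommutative G)
    (H : Subgroup G) (hH : IsStronglyEmbedded H) (h8 : 8 ∣ Nat.card G) (h16 : ¬ 16 ∣ Nat.card G) :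
    Nat.card G = 504 := by
  have hna : ∃ a b : G, a * b ≠ b * a := by
    by_contra h
    push Not at h
    exact hG ⟨⟨h⟩⟩
  rcases Cfsg.Agent.S0222.result hna H hH with ⟨F, _, _, hchar, h4, ⟨e⟩⟩ | ⟨-, m, hm, hc⟩ |
    ⟨F, _, _, q, hq, hev, h4, ⟨e⟩⟩
  · obtain ⟨n, -, hn⟩ := FiniteField.card F 2
    have h1 := Cfsg.Agent.S0243.result (F := F) rfl 2 le_rfl
    rw [← Nat.card_congr e.toEquiv, Fin.prod_univ_two] at h1
    set q := Fintype.card F
    have hn1 : 1 ≤ (n : ℕ) := n.2
    have hqe : 2 ∣ q := by rw [hn]; exact dvd_pow_self 2 (by omega)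
    have hg : Nat.gcd 2 (q - 1) = 1 := by
      rw [← Nat.coprime_iff_gcd_eq_one, Nat.Prime.coprime_iff_not_dvd Nat.prime_two]; omega
    rw [hg, one_mul] at h1
    simp only [Fin.val_zero, pow_zero, Fin.val_one, pow_one] at h1
    have h2 : q ^ 2 - q = (q - 1) * q := by rw [Nat.sub_mul, sq, one_mul]
    rw [h2, mul_comm (q ^ 2 - 1), mul_assoc] at h1
    have h3 : Nat.card G = q * (q ^ 2 - 1) := Nat.eq_of_mul_eq_mul_left (by omega) h1
    have hodd : Nat.Coprime 8 (q ^ 2 - 1) := by
      rw [show 8 = 2 ^ 3 by rfl]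
      apply Nat.Coprime.pow_left
      rw [Nat.Prime.coprime_iff_not_dvd Nat.prime_two]
      have : 2 ∣ q ^ 2 := hqe.trans (dvd_pow_self q (by norm_num))
      have : 1 ≤ q ^ 2 := Nat.one_le_pow _ _ (by omega)
      omega
    rw [h3] at h8 h16
    have h5 : 8 ∣ q := hodd.dvd_of_dvd_mul_right h8
    have h6 : ¬ 16 ∣ q := fun h => h16 (h.mul_right _)
    rw [hn] at h5 h6
    have h7 : (n : ℕ) = 3 := by
      have a1 : 3 ≤ (n : ℕ) := (Nat.pow_dvd_pow_iff_le_right (by norm_num : 1 < 2)).1 h5
      have a2 : ¬ 4 ≤ (n : ℕ) := fun h => h6 (Nat.pow_dvd_pow 2 h)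
      omega
    rw [h3, hn, h7]; norm_num
  · exfalso
    apply h16
    rw [hc, mul_assoc]
    refine Dvd.dvd.mul_right ?_ _
    rw [← pow_mul]
    exact Nat.pow_dvd_pow 2 (show 4 ≤ _ by omega)
  · exfalso
    apply h16
    have h1 := Cfsg.Agent.S0280.result hq 3 (by norm_num)
    rw [← Nat.card_congr e.toEquiv] at h1
    obtain ⟨p, hp⟩ := CharP.exists F
    obtain ⟨n, hpp, hn⟩ := FiniteField.card F p
    have h2q : 2 ∣ q := even_iff_two_dvd.1 hev
    have hp2 : p = 2 := by
      have : 2 ∣ p ^ (n : ℕ) := by rw [← hn, hq]; exact h2q.trans (dvd_pow_self q (by norm_num))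
      exact ((Nat.prime_dvd_prime_iff_eq Nat.prime_two hpp).1 (Nat.prime_two.dvd_of_dvd_pow this)).symm
    subst hp2
    have hq2 : q ∣ 2 ^ (n : ℕ) := by rw [← hn, hq]; exact dvd_pow_self q (by norm_num)
    obtain ⟨j, -, hj⟩ := (Nat.dvd_prime_pow Nat.prime_two).1 hq2
    have hj2 : 2 ≤ j := by
      rw [hj] at h4
      exact (Nat.pow_le_pow_iff_right (by norm_num : 1 < 2)).1 (show 2 ^ 2 ≤ 2 ^ j from h4)
    have h16' : 16 ∣ q ^ (3 * (3 - 1) / 2) := by
      rw [hj, ← pow_mul]
      exact Nat.pow_dvd_pow 2 (show 4 ≤ _ by omega)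
    have h3 := h16'.mul_right (∏ i ∈ Finset.range 3, (if Even i then q ^ (i + 1) + 1 else q ^ (i + 1) - 1))
    rw [← h1, ← mul_assoc] at h3
    refine Nat.Coprime.dvd_of_dvd_mul_left ?_ h3
    rw [show 16 = 2 ^ 4 by rfl]
    apply Nat.Coprime.pow_left
    rw [Nat.Prime.coprime_iff_not_dvd Nat.prime_two]
    intro h
    rcases (Nat.Prime.dvd_mul Nat.prime_two).1 h with h | h
    · have := h.trans (Nat.gcd_dvd_left _ _); omega
    · omega

/-- Let G be a non-abelian finite simple group whose Sylow 2-subgroup S is elementary abelian of order 8, and suppose the centralizer of every involution of G is solvable. Then the normalizer of S modulo the centralizer of S has order 7. -/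
theorem result {G : Type*} [Group G] [Finite G]
    [IsSimpleGroup G] (hG : ¬ IsMulCommutative G) (S : Sylow 2 G)
    (hS : Cfsg.IsElementaryAbelian 2 (S : Subgroup G)) (hS8 : Nat.card ↥(S : Subgroup G) = 8)
    (hC : ∀ t : G, orderOf t = 2 → Group.IsSolvable ↥(Subgroup.centralizer ({t} : Set G))) :
    (Subgroup.centralizer ((S : Subgroup G) : Set G)).relIndex (Subgroup.normalizer ((S : Subgroup G) : Set G)) = 7 := by
  have hc : ∀ t : G, orderOf t = 2 → IsPConstrained 2 (centralizer ({t} : Set G)) :=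
    fun t ht => PLocal.PCA.isPConstrained_of_isSolvable (hC t ht)
  have hSC : ∀ t ∈ (S : Subgroup G), (S : Subgroup G) ≤ centralizer {t} := fun t ht s hs =>
    mem_centralizer_singleton_iff.2 (ea_comm hS hs ht)
  have hNtop : 𝐍[(S : Subgroup G)] ≠ ⊤ := by
    intro h
    rcases (normalizer_eq_top_iff.1 h).eq_bot_or_eq_top with h | h
    · rw [h, card_bot] at hS8; omega
    · exact hG ⟨⟨fun a b => ea_comm hS (h ▸ mem_top a) (h ▸ mem_top b)⟩⟩
  have hinvS : ∀ t ∈ 𝐍[(S : Subgroup G)], orderOf t = 2 → t ∈ (S : Subgroup G) := fun t ht ht2 =>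
    mem_sylow_of_mem_normalizer S (isPGroup_zpowers_of_orderOf_two ht2) ht
  have hse : ∃ H : Subgroup G, IsStronglyEmbedded H := by
    rcases exists_se_or_core_eq_bot hc (isSyl_top S) le_rfl le_normalizer hS hS8.ge with h | h
    · exact h
    refine ⟨𝐍[(S : Subgroup G)], isStronglyEmbedded_iff.2 ⟨hNtop, ?_, ?_⟩⟩
    · refine even_iff_two_dvd.2 (Dvd.dvd.trans ?_ (card_dvd_of_le le_normalizer))
      rw [hS8]; norm_num
    · have key : ∀ t ∈ (S : Subgroup G), orderOf t = 2 → pCoreOf 2 (centralizer {t}) = S := by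
        intro t ht ht2
        have h0 : pPrimeCore 2 (centralizer ({t} : Set G)) = ⊥ := by
          have := h t ht ht2
          rwa [centralizerPPrimeCore, map_eq_bot_iff_of_injective _ (subtype_injective _)] at this
        have h1 := charP_iff.1 (PLocal.PCA.charP_of_isPConstrained (hc t ht2) h0)
        have h2 : pCoreOf 2 (centralizer {t}) ≤ S := (isSyl_of_le S (hSC t ht)).pCoreOf_le
        refine le_antisymm h2 (le_trans (le_inf (hSC t ht) ?_) h1)
        intro s hs
        rw [mem_centralizer_iff]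
        intro x hx
        exact ea_comm hS (h2 hx) hs
      intro t ht ht2 g hg
      have h1 := key t (hinvS t ht ht2) ht2
      have h3 : orderOf (g * t * g⁻¹) = 2 := by rw [orderOf_conj, ht2]
      have h2 := key _ (hinvS _ hg h3) h3
      rw [centralizer_singleton_conj, pCoreOf_cj, h1] at h2
      exact cj_eq_iff.1 h2
  obtain ⟨H, hH⟩ := hse
  have hidx := (S : Subgroup G).index_mul_card
  have hodd := S.not_dvd_index
  rw [hS8] at hidx
  have hcard := card_eq_of_se hG H hH (by omega) (by omega)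
  -- all involutions of `S` are conjugate in `N(S)`
  obtain ⟨t, htS, ht⟩ := exists_involution_of_even (H := (S : Subgroup G)) (by rw [hS8]; decide)
  set N := 𝐍[(S : Subgroup G)] with hN
  have hSN : (S : Subgroup G) ≤ N := le_normalizer
  have h7 : (centralizer ({(⟨t, hSN htS⟩ : N)} : Set N)).index = 7 := by
    rw [← Count.card_isConj_eq_index]
    have e : {y : N // IsConj (⟨t, hSN htS⟩ : N) y} ≃ {s : (S : Subgroup G) // s ≠ 1} :=
      { toFun := fun y => ⟨⟨y.1.1, hinvS _ y.1.2 (by
            have := orderOf_eq_of_isConj y.2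
            rw [← Subgroup.orderOf_coe, ← Subgroup.orderOf_coe y.1] at this
            exact this.symm.trans ht)⟩, by
            intro h
            have h1 : y.1 = 1 := Subtype.ext (congrArg (fun z : (S : Subgroup G) => (z : G)) h)
            have h2 := y.2
            rw [h1, isConj_one_left] at h2
            exact ne_one_of_orderOf_two ht (congrArg Subtype.val h2)⟩
        invFun := fun s => ⟨⟨s.1.1, hSN s.1.2⟩, by
            have hs2 : orderOf (s.1 : G) = 2 :=
              orderOf_eq_prime (hS.2 _ s.1.2) (fun h => s.2 (Subtype.ext h))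
            obtain ⟨g, hg⟩ := isConj_iff.1 (SE.isConj hH ht hs2)
            have h1 : IsSyl 2 (S : Subgroup G) (centralizer {(s.1 : G)}) := isSyl_of_le S (hSC _ s.1.2)
            have h2 : IsSyl 2 cj(g, (S : Subgroup G)) (centralizer {(s.1 : G)}) := by
              rw [← hg, centralizer_singleton_conj]
              exact (isSyl_of_le S (hSC _ htS)).cj g
            obtain ⟨k, hk, hk'⟩ := h1.exists_cj_eq h2
            rw [← cj_mul, cj_eq_iff] at hk'
            rw [mem_centralizer_singleton_iff] at hk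
            refine isConj_iff.2 ⟨⟨k * g, hk'⟩, Subtype.ext ?_⟩
            show k * g * t * (k * g)⁻¹ = s.1
            calc k * g * t * (k * g)⁻¹ = k * (g * t * g⁻¹) * k⁻¹ := by group
              _ = s.1 := by rw [hg, hk]; group⟩
        left_inv := fun y => rfl
        right_inv := fun s => rfl }
    rw [Nat.card_congr e]
    classical
    have := Fintype.ofFinite (S : Subgroup G)
    rw [Nat.card_eq_fintype_card, Fintype.card_subtype_compl, Fintype.card_subtype_eq,
      ← Nat.card_eq_fintype_card, hS8]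
  have hk7 : 7 ∣ (centralizer ((S : Subgroup G) : Set G)).relIndex N := by
    rw [← h7]
    refine index_dvd_of_le ?_
    intro x hx
    rw [mem_centralizer_singleton_iff]
    exact Subtype.ext ((mem_centralizer_iff.1 (mem_subgroupOf.1 hx)) t htS).symm
  have hk := Grp.card_inf_mul_relIndex' (centralizer ((S : Subgroup G) : Set G)) N
  have h8 : 8 ∣ Nat.card ↥(centralizer ((S : Subgroup G) : Set G) ⊓ N) := by
    rw [← hS8]
    refine card_dvd_of_le (le_inf ?_ hSN)
    intro s hs
    rw [mem_centralizer_iff]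
    intro x hx
    exact ea_comm hS hx hs
  have hNi := N.index_mul_card
  have hfac := BrauerFowler.card_dvd_factorial_index hNtop
  rw [hcard] at hNi hfac
  obtain ⟨a, ha⟩ := hk7
  obtain ⟨b, hb⟩ := h8
  rw [ha, hb] at hk
  rw [← hk] at hNi
  have h9 : N.index * (a * b) = 9 := by nlinarith
  have hi : N.index ∣ 3 ^ 2 := ⟨_, h9.symm⟩
  obtain ⟨j, hj, hj'⟩ := (Nat.dvd_prime_pow Nat.prime_three).1 hi
  interval_cases j
  · rw [hj'] at hfac; norm_num at hfac
  · rw [hj'] at hfac; norm_num [Nat.factorial] at hfac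
  · rw [hj'] at h9
    have : a * b = 1 := by omega
    rw [ha, Nat.eq_one_of_mul_eq_one_right this]

end Cfsg.Agent.S3189
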