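import Cfsg.Statements.S3344
import Cfsg.Agent.X32.Main

set_option autoImplicit false
open Cfsg

namespace Cfsg.Agent.S3344

/-- Let G be a finite group with an involution s, L = C_G(s) and Q = O₂(L). Suppose Q is extraspecial of order 32, L/Q is isomorphic to Sym(3), C_Q(X) = ⟨s⟩ for a Sylow 3-subgroup X of L, and s is not weakly closed in Q with respect to G (some conjugate of s other than s lies in Q). Then either G has an elementary abelian normal subgroup of order 8 with quotient isomorphic to PSL(3,2), or G is isomorphic to the alternating group of degree 8 or 9, or to the Mathieu group M₁₂. -/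
theorem result {G : Type*} [Group G] [Finite G]
    (s : G) (hs : orderOf s = 2) (L : Subgroup G) (hL : L = Subgroup.centralizer ({s} : Set G))
    (Q : Subgroup G) (hQ : Q = (Cfsg.pCore 2 L).map L.subtype)
    (hQex : Cfsg.IsExtraspecial 2 Q) (hQcard : Nat.card Q = 32)
    (e : L ⧸ Cfsg.pCore 2 L ≃* Equiv.Perm (Fin 3))
    (X : Sylow 3 L) (hCQX : Q ⊓ Subgroup.centralizer (((X : Subgroup L).map L.subtype : Subgroup G) : Set G) = Subgroup.zpowers s)
    (hnwc : ∃ g : G, g * s * g⁻¹ ∈ Q ∧ g * s * g⁻¹ ≠ s) :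
    (∃ (N : Subgroup G) (hN : N.Normal), IsMulCommutative N ∧ (∀ n ∈ N, n ^ 2 = 1) ∧ Nat.card N = 8 ∧
        Nonempty (G ⧸ N ≃* Matrix.ProjectiveSpecialLinearGroup (Fin 3) (ZMod 2))) ∨
    Nonempty (G ≃* alternatingGroup (Fin 8)) ∨ Nonempty (G ≃* alternatingGroup (Fin 9)) ∨ Cfsg.Spor.IsoM12 G := by
  have := Fact.mk Nat.prime_two
  have s2 : s * s = 1 := by rw [← pow_two, ← hs, pow_orderOf_eq_one]
  have mL : ∀ c, c ∈ L ↔ Commute c s := fun c => by rw [hL, X32.mem_cent]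
  have mQ : ∀ c : L, (c : G) ∈ Q ↔ c ∈ pCore 2 L := fun c => by
    rw [hQ]; exact Subgroup.mem_map_iff_mem L.subtype_injective
  have QL : Q ≤ L := hQ ▸ Subgroup.map_subtype_le _
  have hn : ∀ c, Commute c s → ∀ q ∈ Q, c * q * c⁻¹ ∈ Q := fun c hc q hq =>
    (mQ (⟨c, (mL c).2 hc⟩ * ⟨q, QL hq⟩ * (⟨c, (mL c).2 hc⟩ : L)⁻¹)).2
      ((pCore_normal 2 L).conj_mem _ ((mQ ⟨q, QL hq⟩).1 hq) _)
  let π := e.toMonoidHom.comp (QuotientGroup.mk' (pCore 2 L))
  have hk : π.ker = pCore 2 L := by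
    ext c
    simp [π]
  obtain ⟨cL, x, y, eX, x3, hy, y2⟩ := X32.exists_inverter π
    (e.surjective.comp (QuotientGroup.mk'_surjective _)) (by
      rw [hk, ← hQcard, hQ]
      exact Nat.card_congr (Subgroup.equivMapOfInjective _ _ L.subtype_injective).toEquiv) X
  have fpf : ∀ q ∈ Q, Commute (x : G) q → q ∈ Subgroup.zpowers s := fun q hq hc => by
    rw [← hCQX, ← eX]
    refine ⟨hq, ?_⟩
    rintro _ ⟨_, ⟨i, rfl⟩, rfl⟩
    simpa using (hc.zpow_left i).eq
  obtain ⟨z, es, -, hz⟩ := Grp.ES.isES_of_isExtraspecial hQex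
  have sQ : s ∈ Q := (hCQX.ge (Subgroup.mem_zpowers s)).1
  have z2 : z * z = 1 := by rw [← pow_two, ← es.ord, pow_orderOf_eq_one]
  obtain rfl : s = z := ((X32.mem_zpowers_inv z2).1 (hz.le ⟨sQ, fun q hq => (mL q).1 (QL hq)⟩)).resolve_left
    fun h => by rw [h, orderOf_one] at hs; omega
  have hy' : (y : G) * x * (y : G)⁻¹ = (x : G)⁻¹ := congrArg Subtype.val hy
  obtain ⟨g, h1, h2⟩ := hnwc
  exact X32.XD.main ⟨es, congrArg Subtype.val x3, (mL _).1 x.2, hn _ ((mL _).1 x.2), fpf⟩ hQcard hy'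
    ((mL _).1 y.2) ((X32.mem_zpowers_inv s2).1 (fpf _ ((mQ (y * y)).2 (hk ▸ y2))
      (X32.comm_of_conj (by
        rw [show (y : G) * y * x * ((y : G) * y)⁻¹ = y * (y * x * (y : G)⁻¹) * (y : G)⁻¹ by group, hy',
          ← conj_inv, hy', inv_inv])).symm)) hn (hL ▸ cL) h1 h2

end Cfsg.Agent.S3344
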