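import Cfsg.Statements.S4035
import Mathlib
import Cfsg.Agent.FGS.ClassSize
import Cfsg.Agent.Transfer.PCompl
import Cfsg.Agent.Char.Elementary

set_option autoImplicit false
open Cfsg

namespace Cfsg.Agent.S4035

theorem sup_centralizer_eq_top {G : Type*} [Group G] [Finite G] {p : ℕ} [hp : Fact p.Prime]
    (h : ∀ x : G, (orderOf x).Coprime p → ¬ p ∣ (Subgroup.centralizer ({x} : Set G)).index)
    (P : Sylow p G) :
    (P : Subgroup G) ⊔ Subgroup.centralizer ((P : Subgroup G) : Set G) = ⊤ := by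
  apply FGS.eq_top_of_forall_exists_conj_mem
  intro g
  obtain ⟨x, y, -, -, rfl, hc, ⟨k, hk⟩, hy⟩ := Char.exists_pPart_mul_pPrimePart hp.out g
  have hxp : IsPGroup p (Subgroup.zpowers x) := by
    apply IsPGroup.of_card (n := k); rw [Nat.card_zpowers, hk]
  obtain ⟨Q, hQ1, hQ2⟩ := FGS.exists_sylow_le_of_not_dvd_index (h y hy) hxp (by
    rw [Subgroup.zpowers_le, Subgroup.mem_centralizer_singleton_iff]; exact hc)
  obtain ⟨a, ha⟩ := MulAction.exists_smul_eq G Q P
  have hmem : ∀ z : G, z ∈ (P : Subgroup G) ↔ a⁻¹ * z * a ∈ (Q : Subgroup G) := by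
    intro z; rw [← ha, Sylow.coe_subgroup_smul, Grp.mem_conj_smul_iff]
  refine ⟨a, ?_⟩
  have : a * (x * y) * a⁻¹ = (a * x * a⁻¹) * (a * y * a⁻¹) := by group
  rw [this]
  refine Subgroup.mul_mem_sup ?_ ?_
  · rw [hmem]
    have : a⁻¹ * (a * x * a⁻¹) * a = x := by group
    rw [this]; exact hQ1 (Subgroup.mem_zpowers x)
  · intro z hz
    have := hQ2 ((hmem z).1 hz)
    rw [Subgroup.mem_centralizer_singleton_iff] at this
    calc z * (a * y * a⁻¹) = a * (a⁻¹ * z * a * y) * a⁻¹ := by group
      _ = a * (y * (a⁻¹ * z * a)) * a⁻¹ := by rw [this]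
      _ = _ := by group

theorem aux {G : Type*} [Group G] [Finite G] {p : ℕ} [hp : Fact p.Prime] (P : Sylow p G)
    (htop : (P : Subgroup G) ⊔ Subgroup.centralizer ((P : Subgroup G) : Set G) = ⊤) :
    (P : Subgroup G).Normal ∧ ∃ H : Subgroup G, H.Normal ∧ ¬ p ∣ Nat.card H ∧
      (P : Subgroup G) ⊓ H = ⊥ ∧ (P : Subgroup G) ⊔ H = ⊤ := by
  have hN : (P : Subgroup G).Normal := by
    rw [← Subgroup.normalizer_eq_top_iff, eq_top_iff, ← htop]
    exact sup_le Subgroup.le_normalizer (Subgroup.centralizer_le_normalizer _)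
  refine ⟨hN, ?_⟩
  have hcop : (Nat.card (P : Subgroup G)).Coprime (P : Subgroup G).index := P.card_coprime_index
  obtain ⟨H, hH⟩ := Subgroup.exists_right_complement'_of_coprime hcop
  have hcard : Nat.card H = (P : Subgroup G).index := hH.symm.index_eq_card.symm
  have hHp : ¬ p ∣ Nat.card H := hcard ▸ P.not_dvd_index
  set C := Subgroup.centralizer ((P : Subgroup G) : Set G) with hC
  have hCn : C.Normal := inferInstance
  have hHC : H ≤ C := by
    apply Grp.le_normal_of_coprime_card_index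
    have h1 : C.index ∣ Nat.card (P : Subgroup G) := by
      have : C.index = C.relIndex (P : Subgroup G) := by
        rw [← Subgroup.relIndex_sup_right, htop, Subgroup.relIndex_top_right]
      rw [this]; exact Subgroup.relIndex_dvd_card _ _
    exact Nat.Coprime.coprime_dvd_right h1 (hcard ▸ hcop.symm)
  refine ⟨H, ?_, hHp, hH.disjoint.eq_bot, hH.sup_eq_top⟩
  rw [← Subgroup.normalizer_eq_top_iff, eq_top_iff, ← hH.sup_eq_top]
  refine sup_le ?_ Subgroup.le_normalizer
  exact (Subgroup.le_centralizer_iff.1 hHC).trans (Subgroup.centralizer_le_normalizer _)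

/-- Let G be a finite group and p a prime such that p divides the size of no conjugacy class of p-regular elements (elements of order prime to p). Then G is the internal direct product of a Sylow p-subgroup P and a normal subgroup H of order prime to p: P is normal, P ⊓ H = 1 and PH = G. -/
theorem result {G : Type*} [Group G] [Finite G] {p : ℕ} [Fact p.Prime]
    (h : ∀ x : G, (orderOf x).Coprime p → ¬ p ∣ (ConjClasses.mk x).carrier.ncard) (P : Sylow p G) :
    (P : Subgroup G).Normal ∧ ∃ H : Subgroup G, H.Normal ∧ ¬ p ∣ Nat.card H ∧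
      (P : Subgroup G) ⊓ H = ⊥ ∧ (P : Subgroup G) ⊔ H = ⊤ := by
  refine aux P (sup_centralizer_eq_top (fun x hx => ?_) P)
  rw [← FGS.ncard_carrier_mk]; exact h x hx

end Cfsg.Agent.S4035
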