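import Cfsg.Statements.S4068
import Mathlib
import Cfsg.Agent.CIT.Spec
import Cfsg.Agent.S1230
import Cfsg.Agent.S0144
import Cfsg.Agent.S0252
import Cfsg.Agent.S0205

set_option autoImplicit false
open Cfsg

namespace Cfsg.Agent.S4068

theorem isSolvable_of_primeFactors {G : Type*} [Group G] [Finite G]
    (h : (Nat.card G).primeFactors.card ≤ 2) : Group.IsSolvable G := by
  have h0 : Nat.card G ≠ 0 := Nat.card_pos.ne'
  obtain ⟨p, q, hp, hq, hs⟩ : ∃ p q : ℕ, p.Prime ∧ q.Prime ∧ (Nat.card G).primeFactors ⊆ {p, q} := by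
    obtain h | h | h : (Nat.card G).primeFactors.card = 0 ∨ (Nat.card G).primeFactors.card = 1 ∨
      (Nat.card G).primeFactors.card = 2 := by omega
    · exact ⟨2, 2, Nat.prime_two, Nat.prime_two, by simp [Finset.card_eq_zero.1 h]⟩
    · obtain ⟨p, hp⟩ := Finset.card_eq_one.1 h
      have := Nat.prime_of_mem_primeFactors (hp ▸ Finset.mem_singleton_self p : p ∈ (Nat.card G).primeFactors)
      exact ⟨p, p, this, this, by simp [hp]⟩
    · obtain ⟨p, q, -, hp⟩ := Finset.card_eq_two.1 h
      exact ⟨p, q, Nat.prime_of_mem_primeFactors (hp ▸ by simp : p ∈ (Nat.card G).primeFactors),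
        Nat.prime_of_mem_primeFactors (hp ▸ by simp : q ∈ (Nat.card G).primeFactors), hp.le⟩
  by_cases hpq : p = q
  · subst hpq
    obtain ⟨k, hk⟩ := CIT.eq_pow_of_forall_prime (p := p) h0 fun r hr hd => by
      simpa using hs (Nat.mem_primeFactors.2 ⟨hr, hd, h0⟩)
    exact S0144.result p p k 0 hp hp (by simpa using hk)
  · refine S0144.result p q ((Nat.card G).factorization p) ((Nat.card G).factorization q) hp hq ?_
    conv_lhs => rw [← Nat.prod_factorization_pow_eq_self h0]
    rw [Finsupp.prod_of_support_subset _ hs _ (by simp), Finset.prod_pair hpq]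

/-- A finite non-solvable group on which its automorphism group has exactly four orbits is isomorphic to the alternating group of degree 5. -/
theorem result {G : Type*} [Group G] [Finite G] (hns : ¬ Group.IsSolvable G)
    (h4 : Nat.card (MulAction.orbitRel.Quotient (MulAut G) G) = 4) : Nonempty (G ≃* alternatingGroup (Fin 5)) := by
  classical
  have h3 : 3 ≤ (Nat.card G).primeFactors.card := by
    by_contra h
    exact hns (isSolvable_of_primeFactors (by omega))
  let f : MulAction.orbitRel.Quotient (MulAut G) G → ℕ := Quotient.lift orderOf (by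
    rintro a b ⟨φ, rfl⟩
    exact φ.orderOf_eq b)
  have hf : ∀ g : G, f (Quotient.mk _ g) = orderOf g := fun g => rfl
  have hle : (Set.range (orderOf : G → ℕ)).ncard ≤ 4 := by
    have : Set.range (orderOf : G → ℕ) = f '' Set.univ := by
      ext n
      constructor
      · rintro ⟨g, rfl⟩
        exact ⟨_, trivial, hf g⟩
      · rintro ⟨⟨g⟩, -, rfl⟩
        exact ⟨g, rfl⟩
    rw [this, ← h4, ← Set.ncard_univ]
    exact Set.ncard_image_le (Set.toFinite _)
  have hsub : ((insert 1 (Nat.card G).primeFactors : Finset ℕ) : Set ℕ) ⊆ Set.range (orderOf : G → ℕ) := by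
    intro n hn
    rcases Finset.mem_insert.1 (Finset.mem_coe.1 hn) with rfl | hn
    · exact ⟨1, orderOf_one⟩
    · exact (CIT.prime_mem_Ω (Nat.prime_of_mem_primeFactors hn)).2 (Nat.dvd_of_mem_primeFactors hn)
  have hn1 : 1 ∉ (Nat.card G).primeFactors := fun h => Nat.not_prime_one (Nat.prime_of_mem_primeFactors h)
  have heq := Set.eq_of_subset_of_ncard_le hsub
    (by rw [Set.ncard_coe_finset, Finset.card_insert_of_notMem hn1]; omega) (Set.toFinite _)
  have hcard3 : (Nat.card G).primeFactors.card = 3 := by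
    have := Set.ncard_le_ncard hsub (Set.toFinite _)
    rw [Set.ncard_coe_finset, Finset.card_insert_of_notMem hn1] at this
    omega
  have hpr : ∀ n ∈ CIT.Ω G, n = 1 ∨ n.Prime := by
    intro n hn
    rw [CIT.Ω, ← heq] at hn
    exact (Finset.mem_insert.1 (Finset.mem_coe.1 hn)).imp id Nat.prime_of_mem_primeFactors
  have hexp : ∀ t : G, orderOf t = 2 → ∀ c ∈ Subgroup.centralizer ({t} : Set G), c ^ 2 = 1 := by
    intro t ht c hc
    rcases hpr _ ⟨c, rfl⟩ with h1 | h1
    · rw [orderOf_eq_one_iff.1 h1, one_pow]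
    · by_cases h2 : orderOf c = 2
      · rw [← h2, pow_orderOf_eq_one]
      · have := CIT.mul_mem_Ω (Subgroup.mem_centralizer_singleton_iff.1 hc)
          (by rw [ht]; exact (Nat.coprime_primes h1 Nat.prime_two).2 h2)
        rw [ht] at this
        rcases hpr _ this with h | h
        · omega
        · exact absurd h (Nat.not_prime_mul h1.one_lt.ne' (by norm_num))
  have h2G : 2 ∈ (Nat.card G).primeFactors := by
    by_contra h
    refine hns (S0205.result (Nat.not_even_iff_odd.1 fun he => h ?_))
    exact Nat.mem_primeFactors.2 ⟨Nat.prime_two, even_iff_two_dvd.1 he, Nat.card_pos.ne'⟩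
  have hsol : ∀ (H : Type _) [Group H] [Finite H], Nat.card H ∣ Nat.card G → ¬ 2 ∣ Nat.card H →
      Group.IsSolvable H := by
    intro H _ _ _ h2
    exact S0205.result (Nat.not_even_iff_odd.1 fun he => h2 (even_iff_two_dvd.1 he))
  obtain ⟨T⟩ : Nonempty (Sylow 2 G) := inferInstance
  have hnn : ¬ (T : Subgroup G).Normal := by
    intro hn
    haveI : Group.IsSolvable (T : Subgroup G) := by
      haveI := T.isPGroup'.isNilpotent
      infer_instance
    haveI := hsol (G ⧸ (T : Subgroup G)) (Subgroup.card_quotient_dvd_card _) T.not_dvd_index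
    exact hns (Group.isSolvable_of_ker_le_range (T : Subgroup G).subtype (QuotientGroup.mk' (T : Subgroup G)) (by simp))
  have hnc : ¬ IsCyclic (T : Subgroup G) := by
    intro hc
    have hmin : (Nat.card G).minFac = 2 := (Nat.minFac_eq_two_iff _).2 (Nat.dvd_of_mem_primeFactors h2G)
    have hK := hc.isComplement' (P := T) hmin
    set K := (MonoidHom.transferSylow T (hc.normalizer_le_centralizer hmin)).ker
    haveI := hsol K (Subgroup.card_subgroup_dvd_card _) (by
      rw [← hK.index_eq_card]; exact T.not_dvd_index)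
    haveI : Group.IsSolvable (T : Subgroup G) := by
      haveI := T.isPGroup'.isNilpotent
      infer_instance
    exact hns (Group.isSolvable_of_ker_le_range K.subtype (MonoidHom.transferSylow T
      (hc.normalizer_le_centralizer hmin)) (by simp [K]))
  obtain ⟨F, _, _, hF, ⟨e⟩⟩ := S1230.result T hnc hnn fun t ht => ⟨⟨⟨fun a b => Subtype.ext (by
    have h1 := hexp t ht _ a.2
    have h2 := hexp t ht _ b.2
    have h3 := hexp t ht _ (a * b).2
    exact (Commute.of_orderOf_dvd_two (G := Subgroup.centralizer ({t} : Set G))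
      (fun g => orderOf_dvd_of_pow_eq_one (Subtype.ext (hexp t ht _ g.2))) a b).eq ▸ rfl)⟩⟩, hexp t ht⟩
  obtain ⟨n, hn⟩ := IsPGroup.iff_card.1 T.isPGroup'
  rw [hn] at hF
  have hn2 : 2 ≤ n := by
    by_contra h
    apply hnc
    interval_cases n
    · haveI := (Nat.card_eq_one_iff_unique.1 hn).1
      infer_instance
    · exact isCyclic_of_prime_card (p := 2) hn
  have hm := fun k => CIT.mem_Ω_L2_even (by omega) hF k
  simp only [CIT.Ω, ← Misc.Spec.range_orderOf_congr e] at hm
  have h4 : 2 ^ 2 ≤ 2 ^ n := Nat.pow_le_pow_right (by norm_num) hn2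
  have hq : 2 ^ n = 4 := by
    rcases Nat.even_or_odd n with h2 | h2
    · have h1 := (hpr _ ((hm _).2 (Or.inr (Or.inl dvd_rfl)))).resolve_left (by omega)
      have := (Nat.prime_dvd_prime_iff_eq Nat.prime_three h1).1 (CIT.three_dvd_two_pow_sub_one h2)
      omega
    · have h1 := (hpr _ ((hm _).2 (Or.inr (Or.inr dvd_rfl)))).resolve_left (by omega)
      have := (Nat.prime_dvd_prime_iff_eq Nat.prime_three h1).1 (CIT.three_dvd_two_pow_add_one h2)
      omega
  obtain ⟨f⟩ := S0252.result (hF.trans hq)
  exact ⟨e.trans f⟩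

end Cfsg.Agent.S4068
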