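import Cfsg.Statements.S3921
import Mathlib
import Cfsg.Agent.CIT.SpecPG
import Cfsg.Agent.CIT.SpecM10
import Cfsg.Agent.CIT.Simple
import Cfsg.Agent.Inv.ZStarCor
import Cfsg.Agent.Inv.Dihedral
import Cfsg.Agent.Class.SmallGroupIso
import Cfsg.Agent.S0252
import Cfsg.Agent.S0253
import Cfsg.Agent.Class.FieldTransport
import Cfsg.Agent.Solv.FrobeniusAction
import Cfsg.Agent.Inv.Count

set_option autoImplicit false
open Cfsg

namespace Cfsg.Agent.S3921

open Subgroup

/-- Non-cyclic subgroups are self-centralizing. -/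
def SC (G : Type*) [Group G] : Prop := ∀ H : Subgroup G, ¬ IsCyclic ↥H → centralizer (H : Set G) ≤ H

section
variable {G : Type*} [Group G]

/-- The four-group on two commuting involutions. -/
def four (s t : G) (hs : s * s = 1) (ht : t * t = 1) (h : s * t = t * s) : Subgroup G where
  carrier := {1, s, t, s * t}
  one_mem' := by simp
  mul_mem' := by
    have e1 : s * (s * t) = t := by rw [← mul_assoc, hs, one_mul]
    have e2 : t * (s * t) = s := by rw [← mul_assoc, ← h, mul_assoc, ht, mul_one]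
    have e3 : s * t * s = t := by rw [mul_assoc, ← h, e1]
    have e4 : s * t * t = s := by rw [mul_assoc, ht, mul_one]
    have e5 : s * t * (s * t) = 1 := by rw [← mul_assoc, e3, ht]
    rintro a b (rfl | rfl | rfl | rfl) (rfl | rfl | rfl | rfl) <;> simp [hs, ht, ← h, e1, e2, e3, e4, e5]
  inv_mem' := by
    have e5 : s * t * (s * t) = 1 := by rw [← mul_assoc, mul_assoc s t s, ← h, ← mul_assoc, hs, one_mul, ht]
    rintro a (rfl | rfl | rfl | rfl)
    · simp
    · simp [inv_eq_of_mul_eq_one_right hs]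
    · simp [inv_eq_of_mul_eq_one_right ht]
    · simp [inv_eq_of_mul_eq_one_right e5]

theorem SC.mem_four (hG : SC G) {s t x : G} (hs : s * s = 1) (ht : t * t = 1) (h : s * t = t * s)
    (hs1 : s ≠ 1) (ht1 : t ≠ 1) (hst : s ≠ t) (h1 : s * x = x * s) (h2 : t * x = x * t) :
    x ∈ ({1, s, t, s * t} : Set G) := by
  refine hG (four s t hs ht h) ?_ ?_
  · rintro ⟨⟨w, hw⟩, hz⟩
    have hw2 : w * w = 1 := by
      rcases hw with rfl | rfl | rfl | rfl
      · simp
      · exact hs
      · exact ht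
      · rw [← mul_assoc, mul_assoc s t s, ← h, ← mul_assoc, hs, one_mul, ht]
    have key : ∀ y : G, y ∈ four s t hs ht h → y ≠ 1 → y = w := by
      intro y hy hy1
      obtain ⟨k, hk⟩ := hz ⟨y, hy⟩
      have hk' : w ^ k = y := congrArg Subtype.val hk
      rcases Int.even_or_odd' k with ⟨j, rfl | rfl⟩
      · rw [zpow_mul, zpow_two, hw2, one_zpow] at hk'
        exact absurd hk'.symm hy1
      · rw [zpow_add, zpow_mul, zpow_two, hw2, one_zpow, one_mul, zpow_one] at hk'
        exact hk'.symm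
    exact hst ((key s (by simp [four, ← SetLike.mem_coe]) hs1).trans
      (key t (by simp [four, ← SetLike.mem_coe]) ht1).symm)
  · rw [mem_centralizer_iff]
    rintro a (rfl | rfl | rfl | rfl)
    · simp
    · exact h1
    · exact h2
    · rw [mul_assoc, h2, ← mul_assoc, h1, mul_assoc]

theorem SC.no_eight [Finite G] (hG : SC G) (E : Subgroup G) (h2 : ∀ a ∈ E, a * a = 1)
    (hc : ∀ a ∈ E, ∀ b ∈ E, a * b = b * a) (h8 : 4 < Nat.card E) : False := by
  have key : ∀ S : Set G, S.ncard ≤ 4 → S.Finite → ∃ a ∈ E, a ∉ S := by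
    intro S hS hf
    by_contra! h
    have := Set.ncard_le_ncard (show (E : Set G) ⊆ S from h) hf
    rw [← Nat.card_coe_set_eq] at this
    exact absurd (this.trans hS) (not_le.2 h8)
  obtain ⟨a, ha, ha1⟩ := key {1} (by simp) (Set.toFinite _)
  obtain ⟨b, hb, hb1⟩ := key {1, a} ((Set.ncard_insert_le _ _).trans (by simp)) (Set.toFinite _)
  obtain ⟨c, hc', hc1⟩ := key {1, a, b, a * b} (by
    refine (Set.ncard_insert_le _ _).trans (Nat.succ_le_succ ?_)
    refine (Set.ncard_insert_le _ _).trans (Nat.succ_le_succ ?_)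
    exact (Set.ncard_insert_le _ _).trans (by simp)) (Set.toFinite _)
  simp only [Set.mem_insert_iff, Set.mem_singleton_iff, not_or] at ha1 hb1
  exact hc1 (hG.mem_four (h2 a ha) (h2 b hb) (hc a ha b hb) ha1 hb1.1 (Ne.symm hb1.2)
    (hc a ha c hc') (hc b hb c hc'))

theorem SC.not_inverts [Finite G] (hG : SC G) {s t x : G} (hs : s * s = 1) (ht : orderOf t = 2)
    (hst : s ≠ t) (h1 : t * s = s * t) (h2 : t * x = x * t) (hx1 : x ≠ 1) (hx : Odd (orderOf x))
    (hinv : s * x * s⁻¹ = x⁻¹) : False := by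
  have hns : s * x ≠ x * s := by
    intro h
    rw [h, mul_inv_cancel_right] at hinv
    have : orderOf x ∣ 2 := orderOf_dvd_of_pow_eq_one (by rw [pow_two]; nth_rw 1 [hinv]; simp)
    exact hx1 (orderOf_eq_one_iff.1 (hx.coprime_two_right.eq_one_of_dvd this))
  have hm : t ∈ closure ({x, s} : Set G) := by
    refine hG _ (fun hc => hns ?_) ?_
    · exact congrArg Subtype.val (hc.isMulCommutative.is_comm.comm
        (⟨s, subset_closure (by simp)⟩ : closure ({x, s} : Set G)) ⟨x, subset_closure (by simp)⟩)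
    · rw [centralizer_closure, mem_centralizer_iff]
      rintro a (rfl | rfl)
      · exact h2.symm
      · exact h1.symm
  have hodd : ∀ y ∈ zpowers x, y * y = 1 → y = 1 := fun y hy h =>
    orderOf_eq_one_iff.1 ((hx.of_dvd_nat (orderOf_dvd_of_mem_zpowers hy)).coprime_two_right.eq_one_of_dvd
      (orderOf_dvd_of_pow_eq_one (by rwa [pow_two])))
  have ht2 : t * t = 1 := by rw [← pow_two, ← ht, pow_orderOf_eq_one]
  rcases Inv.Dihedral.mem_closure_of_inverts (by rw [hs]; exact one_mem _) hinv hm with h | h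
  · rw [hodd t h ht2, orderOf_one] at ht
    omega
  · have := hodd _ h (by
      rw [inv_eq_of_mul_eq_one_right hs, mul_assoc, ← mul_assoc t, h1, mul_assoc, ht2, mul_one, hs])
    exact hst (inv_mul_eq_one.1 this)

theorem three_classes {Q : Type*} [Group Q] [Finite Q] (t : Q) (s : Fin 3 → Q) (ht : t * t = 1)
    (ht1 : t ≠ 1) (htc : ∀ g, g * t = t * g) (hs : ∀ i, s i * s i = 1) (hs1 : ∀ i, s i ≠ 1)
    (hst : ∀ i, s i ≠ t) (hc : ∀ i, Nat.card (centralizer ({s i} : Set Q)) ≤ 4)
    (hn : ∀ i j, i ≠ j → ¬ IsConj (s i) (s j)) : False := by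
  classical
  let C : Fin 3 → Set Q := fun i => {y | IsConj (s i) y}
  have h1 : ∀ i, Nat.card Q ≤ (C i).ncard * 4 := fun i => by
    rw [← Inv.Count.card_isConj_mul_card_centralizer (s i)]
    exact Nat.mul_le_mul (Nat.card_coe_set_eq (C i)).le (hc i)
  let A : Set Q := {y | y * y = 1}
  have hd : ∀ i j, i ≠ j → Disjoint (C i) (C j) := fun i j h =>
    Set.disjoint_left.2 fun y h1 h2 => hn i j h (h1.trans h2.symm)
  have hd2 : ∀ i, Disjoint (C i) {1, t} := fun i => Set.disjoint_left.2 fun y h1 h2 => by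
    rcases h2 with rfl | rfl
    · exact hs1 i (isConj_one_left.1 h1)
    · obtain ⟨g, hg⟩ := isConj_iff.1 h1.symm
      rw [htc, mul_inv_cancel_right] at hg
      exact hst i hg.symm
  have hCA : ∀ i, C i ⊆ A := fun i y hy => by
    obtain ⟨g, rfl⟩ := isConj_iff.1 hy
    show _ = _
    rw [show g * s i * g⁻¹ * (g * s i * g⁻¹) = g * (s i * s i) * g⁻¹ by group, hs]; simp
  have h2 : (C 0 ∪ C 1 ∪ C 2 ∪ {1, t}).ncard ≤ A.ncard := Set.ncard_le_ncard (by
    refine Set.union_subset (Set.union_subset (Set.union_subset (hCA 0) (hCA 1)) (hCA 2)) ?_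
    rintro y (rfl | rfl)
    · simp [A]
    · exact ht) (Set.toFinite _)
  rw [Set.ncard_union_eq (by simp only [Set.disjoint_union_left, hd2, and_self]), Set.ncard_union_eq (by simp [hd]),
    Set.ncard_union_eq (by simp [hd]), Set.ncard_pair ht1.symm] at h2
  have h3 := Set.ncard_union_add_ncard_inter A ((s 0 * ·) '' A)
  rw [Set.ncard_image_of_injective _ (mul_right_injective _)] at h3
  have h4 : (A ∪ (s 0 * ·) '' A).ncard ≤ Nat.card Q := Set.ncard_le_card _
  have h5 : (A ∩ (s 0 * ·) '' A).ncard ≤ 4 := by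
    refine le_trans (Set.ncard_le_ncard (t := (centralizer ({s 0} : Set Q) : Set Q)) ?_ (Set.toFinite _))
      ((Nat.card_coe_set_eq _).ge.trans (hc 0))
    rintro _ ⟨ha, b, hb, rfl⟩
    have e1 : (s 0 * b)⁻¹ = s 0 * b := inv_eq_of_mul_eq_one_right ha
    rw [mul_inv_rev, inv_eq_of_mul_eq_one_right hb, inv_eq_of_mul_eq_one_right (hs 0)] at e1
    refine mem_centralizer_singleton_iff.2 ?_
    show s 0 * b * s 0 = s 0 * (s 0 * b)
    rw [mul_assoc, e1]
  have := h1 0
  have := h1 1
  have := h1 2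
  have : 0 < Nat.card Q := Nat.card_pos
  omega

theorem SC.isCIT [Finite G] [IsSimpleGroup G] (hna : ¬ IsMulCommutative G) (hG : SC G) :
    CIT.IsCIT G := by
  intro t ht
  have ht2 : t * t = 1 := by rw [← pow_two, ← ht, pow_orderOf_eq_one]
  have ht1 : t ≠ 1 := by rintro rfl; simp at ht
  obtain ⟨g, hg, hgt⟩ : ∃ g : G, Commute t (g * t * g⁻¹) ∧ g * t * g⁻¹ ≠ t := by
    by_contra! h
    exact hna ⟨⟨Inv.ZStar.comm_of_simple_of_isolated ⟨ht, h⟩⟩⟩
  set C := centralizer ({t} : Set G) with hC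
  have hm : ∀ c : C, (c : G) * t = t * c := fun c => mem_centralizer_singleton_iff.1 c.2
  let t' : C := ⟨t, mem_centralizer_singleton_iff.2 rfl⟩
  let s : C := ⟨g * t * g⁻¹, mem_centralizer_singleton_iff.2 hg.symm⟩
  have hso : orderOf s = 2 := by
    rw [← Subgroup.orderOf_coe, ← ht]
    exact (MulAut.conj g).orderOf_eq t
  have hst : s ≠ t' := fun h => hgt (congrArg Subtype.val h)
  set Q := pCore 2 C with hQ
  have hsq : ∀ y : C, orderOf y = 2 → y * y = 1 := fun y hy => by
    rw [← pow_two, ← hy, pow_orderOf_eq_one]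
  have hinQ : ∀ y : C, orderOf y = 2 → y ∈ Q := by
    intro y hy
    by_contra hn
    obtain ⟨x, hx1, hx, hinv⟩ := Inv.exists_odd_inverted_of_not_mem_pCore hy hn
    by_cases hyt : y = t'
    · subst hyt
      have e : t' * x = x * t' := Subtype.ext (hm x).symm
      rw [e, mul_inv_cancel_right] at hinv
      have : orderOf x ∣ 2 := orderOf_dvd_of_pow_eq_one (by rw [pow_two]; nth_rw 1 [hinv]; simp)
      exact hx1 (orderOf_eq_one_iff.1 (hx.coprime_two_right.eq_one_of_dvd this))
    · exact hG.not_inverts (s := y) (x := x) (congrArg Subtype.val (hsq y hy)) ht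
        (fun h => hyt (Subtype.ext h)) (hm y).symm (hm x).symm (fun h => hx1 (Subtype.ext h))
        (by rwa [Subgroup.orderOf_coe]) (congrArg Subtype.val hinv)
  have ht'o : orderOf t' = 2 := by rw [← Subgroup.orderOf_coe, ht]
  have hcent : ∀ y x : C, orderOf y = 2 → y ≠ t' → y * x = x * y →
      x ∈ ({1, y, t', y * t'} : Set C) := by
    intro y x hy hyt h
    have := hG.mem_four (s := y) (t := t) (x := x) (congrArg Subtype.val (hsq y hy)) ht2 (hm y)
      (fun h => by rw [Subtype.ext (a2 := (1 : C)) h, orderOf_one] at hy; omega) ht1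
      (fun h => hyt (Subtype.ext h)) (congrArg Subtype.val h) (hm x).symm
    simp only [Set.mem_insert_iff, Set.mem_singleton_iff, Subtype.ext_iff]
    exact this
  intro c
  obtain ⟨k, hk⟩ := CIT.eq_pow_of_forall_prime (n := orderOf c) (p := 2) (orderOf_pos c).ne' (by
    intro r hr hd
    by_contra h2
    set x := c ^ (orderOf c / r) with hx
    have ho : orderOf x = r := orderOf_pow_orderOf_div (orderOf_pos c).ne' hd
    have hr3 : 3 ≤ r := by
      have := hr.two_le
      omega
    have hxQ : ∀ d : ℕ, 0 < d → d < 3 → x ^ d ∉ Q := by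
      intro d h0 h3 hq
      obtain ⟨k, hk⟩ := Grp.pCore_isPGroup 2 C ⟨_, hq⟩
      have h4 : orderOf x ∣ d * 2 ^ k := orderOf_dvd_of_pow_eq_one (by
        rw [pow_mul]; exact congrArg Subtype.val hk)
      rw [ho, Nat.Prime.dvd_mul hr] at h4
      rcases h4 with h4 | h4
      · exact absurd (Nat.le_of_dvd h0 h4) (by omega)
      · exact h2 ((Nat.prime_dvd_prime_iff_eq hr Nat.prime_two).1 (hr.dvd_of_dvd_pow h4))
    have hoi : ∀ i : ℕ, orderOf (x ^ i * s * (x ^ i)⁻¹) = 2 := fun i =>
      ((MulAut.conj (x ^ i)).orderOf_eq s).trans hso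
    have hti : ∀ i : ℕ, x ^ i * s * (x ^ i)⁻¹ ≠ t' := fun i h => by
      apply hst
      have e : t' * x ^ i = x ^ i * t' := Subtype.ext (hm _).symm
      rw [mul_inv_eq_iff_eq_mul, e] at h
      exact mul_left_cancel h
    have hlt : ∀ i j : ℕ, i < j → j < 3 → ∀ q ∈ Q,
        q * (x ^ i * s * (x ^ i)⁻¹) * q⁻¹ ≠ x ^ j * s * (x ^ j)⁻¹ := by
      intro i j hij hj q hq e
      obtain ⟨d, rfl⟩ := Nat.exists_eq_add_of_lt hij
      have h5 := hcent _ (q⁻¹ * x ^ (d + 1)) (hoi i) (hti i) (by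
        have : x ^ (i + d + 1) = x ^ (d + 1) * x ^ i := by rw [← pow_add]; congr 1; omega
        rw [this] at e
        calc _ = q⁻¹ * (q * (x ^ i * s * (x ^ i)⁻¹) * q⁻¹) * x ^ (d + 1) := by group
          _ = _ := by rw [e]; group)
      have h6 : q⁻¹ * x ^ (d + 1) ∈ Q := by
        rcases h5 with h | h | h | h <;> rw [h]
        exacts [Q.one_mem, hinQ _ (hoi i), hinQ _ ht'o, Q.mul_mem (hinQ _ (hoi i)) (hinQ _ ht'o)]
      exact hxQ (d + 1) (by omega) (by omega) ((Q.mul_mem_cancel_left (Q.inv_mem hq)).1 h6)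
    refine three_classes (Q := Q) ⟨t', hinQ _ ht'o⟩ (fun i => ⟨_, hinQ _ (hoi i)⟩)
      (Subtype.ext (hsq _ ht'o)) (fun h => ht1 (congrArg (fun z : Q => ((z : C) : G)) h))
      (fun g => Subtype.ext (Subtype.ext (hm _))) (fun i => Subtype.ext (hsq _ (hoi i)))
      (fun i h => ?_) (fun i h => hti i (congrArg Subtype.val h)) (fun i => ?_) (fun i j hij h => ?_)
    · have := hoi i
      rw [show x ^ (i : ℕ) * s * (x ^ (i : ℕ))⁻¹ = 1 from congrArg Subtype.val h, orderOf_one] at this
      omega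
    · rw [← SetLike.coe_sort_coe, Nat.card_coe_set_eq,
        ← Set.ncard_image_of_injective _ Q.subtype_injective]
      refine le_trans (Set.ncard_le_ncard (t := {1, x ^ (i : ℕ) * s * (x ^ (i : ℕ))⁻¹, t',
        x ^ (i : ℕ) * s * (x ^ (i : ℕ))⁻¹ * t'}) ?_ (Set.toFinite _)) ?_
      · rintro _ ⟨y, hy, rfl⟩
        exact hcent _ _ (hoi i) (hti i)
          (congrArg Subtype.val (mem_centralizer_singleton_iff.1 hy)).symm
      · refine (Set.ncard_insert_le _ _).trans (Nat.succ_le_succ ?_)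
        refine (Set.ncard_insert_le _ _).trans (Nat.succ_le_succ ?_)
        exact (Set.ncard_insert_le _ _).trans (by simp)
    · rcases lt_or_gt_of_ne hij with h1 | h1
      · obtain ⟨q, hq⟩ := isConj_iff.1 h
        exact hlt i j h1 j.2 q q.2 (congrArg Subtype.val hq)
      · obtain ⟨q, hq⟩ := isConj_iff.1 h.symm
        exact hlt j i h1 i.2 q q.2 (congrArg Subtype.val hq))
  exact ⟨k, by rw [← hk, pow_orderOf_eq_one]⟩

end


theorem SC.no_hom {G A : Type*} [Group G] [Finite G] [Group A] (hG : SC G) (f : A →* G)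
    (hf : Function.Injective f) (h2 : ∀ a : A, a * a = 1) (h8 : 4 < Nat.card A) : False := by
  refine hG.no_eight f.range ?_ ?_ (by rwa [← Nat.card_congr (MonoidHom.ofInjective hf).toEquiv])
  · rintro _ ⟨a, rfl⟩
    rw [← map_mul, h2, map_one]
  · rintro _ ⟨a, rfl⟩ _ ⟨b, rfl⟩
    rw [← map_mul, ← map_mul, (Commute.of_orderOf_dvd_two
      (fun g => orderOf_dvd_of_pow_eq_one (by rw [pow_two, h2])) a b).eq]

theorem SC.congr {G H : Type*} [Group G] [Group H] (hG : SC G) (e : H ≃* G) : SC H := by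
  intro K hK c hc
  have h1 : ¬ IsCyclic (K.map (e : H →* G)) := fun h =>
    hK ((e.subgroupMap K).isCyclic.2 h)
  obtain ⟨d, hd, h2⟩ := hG _ h1 (show e c ∈ _ from mem_centralizer_iff.2 (by
    rintro _ ⟨k, hk, rfl⟩
    simpa using congrArg e (mem_centralizer_iff.1 hc k hk)))
  rwa [← e.injective h2]

open KSG.M2 in
theorem sc_PSL2 {F : Type*} [Field F] [Fintype F] {p : ℕ} (hp : p.Prime)
    (hq : Nat.card F = p ∨ Nat.card F = p ^ 2)
    (hcit : CIT.IsCIT (Matrix.ProjectiveSpecialLinearGroup (Fin 2) F)) :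
    SC (Matrix.ProjectiveSpecialLinearGroup (Fin 2) F) := by
  intro H hH c hc
  haveI := Fact.mk hp
  by_cases hc1 : c = 1
  · exact hc1 ▸ H.one_mem
  obtain ⟨g, rfl⟩ := pr_surjective c
  have hle : H ≤ centralizer {pr g} := fun h hh =>
    mem_centralizer_singleton_iff.2 (mem_centralizer_iff.1 hc h hh)
  by_cases h : (g : Matrix (Fin 2) (Fin 2) F).trace ≠ 0 ∨ (2 : F) = 0
  · by_cases h4 : (g : Matrix (Fin 2) (Fin 2) F).trace ^ 2 = 4
    · have h1 := (centralizer {pr g}).card_mul_index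
      have hd : Nat.gcd 2 (Nat.card F - 1) ∣ Nat.card F ^ 2 - 1 := by
        rw [card_sq_sub_one]; exact (Nat.gcd_dvd_right _ _).mul_left _
      have hpos : (centralizer {pr g}).index ≠ 0 := Subgroup.index_ne_zero_of_finite
      rw [index_centralizer_pr h, index_cent_par (fun hs => hc1 (pr_eq_one_iff.2 hs)) h4] at h1 hpos
      rw [card_PSL2, Nat.mul_div_assoc _ hd] at h1
      have h2 := Nat.eq_of_mul_eq_mul_right (Nat.pos_of_ne_zero hpos) h1
      have h3 := card_dvd_of_le hle
      rw [h2] at h3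
      rcases hq with hq | hq
      · exact absurd (isCyclic_of_card_dvd_prime (hq ▸ h3)) hH
      · rw [hq] at h3
        obtain ⟨i, hi, e⟩ := (Nat.dvd_prime_pow hp).1 h3
        rcases (by omega : i ≤ 1 ∨ i = 2) with hi | rfl
        · exact absurd (isCyclic_of_card_dvd_prime (p := p)
            (e ▸ by simpa using pow_dvd_pow p hi)) hH
        · rw [eq_of_le_of_card_ge hle (by rw [h2, hq, e])]
          exact mem_centralizer_singleton_iff.2 rfl
    · haveI := isCyclic_map_cent h4
      rw [← map_comap_eq_self_of_surjective pr_surjective (centralizer {pr g}),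
        comap_centralizer_pr_eq_cent h] at hle
      exact absurd (isCyclic_of_le hle) hH
  · push Not at h
    have h4 : (g : Matrix (Fin 2) (Fin 2) F).trace ^ 2 ≠ 4 := by
      rw [h.1, show (4 : F) = 2 * 2 by norm_num]
      simpa using h.2
    haveI := isCyclic_map_cent h4
    have hc2 : orderOf (pr g) = 2 := orderOf_eq_prime (by
      rw [pow_two]; nth_rw 1 [← pr_neg]; rw [neg_eq_inv_of_trace_zero h.1, map_inv, inv_mul_cancel]) hc1
    obtain ⟨y, hy, hy1, hyT⟩ : ∃ y ∈ H, y ≠ 1 ∧ y ∈ (centralizer {g}).map pr := by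
      by_contra! hn
      have key : ∀ y ∈ H, y ≠ 1 → ∀ x, pr x = y → x * g * x⁻¹ = -g := by
        rintro _ hy hy1 x rfl
        refine (mem_comap_centralizer_pr.1 (hle hy)).resolve_left fun h => hn _ hy hy1 ⟨x, ?_, rfl⟩
        exact mem_centralizer_singleton_iff.2 (mul_inv_eq_iff_eq_mul.1 h)
      obtain ⟨a, ha, ha1⟩ := (bot_or_exists_ne_one H).resolve_left (by
        rintro rfl; exact hH inferInstance)
      apply hH
      refine ⟨⟨a, ha⟩, fun ⟨b, hb⟩ => ?_⟩
      by_cases hb1 : b = 1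
      · exact ⟨0, Subtype.ext (by simp [hb1])⟩
      refine ⟨1, Subtype.ext ?_⟩
      obtain ⟨x, rfl⟩ := pr_surjective a
      obtain ⟨z, rfl⟩ := pr_surjective b
      by_contra hne
      refine hn _ (H.mul_mem (H.inv_mem hb) ha) (fun h => hne (by simpa using (inv_mul_eq_one.1 h).symm))
        ⟨z⁻¹ * x, mem_centralizer_singleton_iff.2 ?_, by simp⟩
      have e := (key _ ha ha1 x rfl).trans (key _ hb hb1 z rfl).symm
      calc z⁻¹ * x * g = z⁻¹ * (x * g * x⁻¹) * x := by group
        _ = _ := by rw [e]; group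
    obtain ⟨k, hk⟩ := hcit _ hc2 ⟨y, hle hy⟩
    obtain ⟨j, -, hj⟩ := (Nat.dvd_prime_pow Nat.prime_two).1
      (orderOf_dvd_of_pow_eq_one (show y ^ 2 ^ k = 1 from congrArg Subtype.val hk))
    have hgT : pr g ∈ (centralizer {g}).map pr := ⟨g, mem_centralizer_singleton_iff.2 rfl, rfl⟩
    obtain ⟨i, hi⟩ := Solv.Frob.mem_zpowers_of_orderOf_dvd (x := (⟨y, hyT⟩ : (centralizer {g}).map pr))
      (y := ⟨_, hgT⟩) (by
        rw [← orderOf_coe, ← orderOf_coe]
        change orderOf (pr g) ∣ orderOf y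
        rw [hc2, hj]
        refine dvd_pow_self 2 ?_
        rintro rfl
        exact hy1 (orderOf_eq_one_iff.1 hj))
    rw [← show y ^ i = pr g from congrArg Subtype.val hi]
    exact H.zpow_mem hy i

theorem cit_PSL2 {F : Type*} [Field F] [Fintype F]
    (h : Fintype.card F = 4 ∨ Fintype.card F = 9 ∨ ((Fintype.card F).Prime ∧
      ∃ k : ℕ, Fintype.card F = 2 ^ k + 1 ∨ Fintype.card F = 2 ^ k - 1)) :
    CIT.IsCIT (Matrix.ProjectiveSpecialLinearGroup (Fin 2) F) := by
  refine CIT.isCIT_of_Ω fun r hr h2 hm => ?_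
  have h3 := hr.two_le
  have hpow : ∀ j, ¬ 2 * r ∣ 2 ^ j := fun j h =>
    h2 ((Nat.prime_dvd_prime_iff_eq hr Nat.prime_two).1 (hr.dvd_of_dvd_pow ((dvd_mul_left _ _).trans h)))
  have hodd : ∀ n, Odd n → ¬ 2 * r ∣ n := fun n hn h =>
    CIT.ne_two_of_dvd_odd ((dvd_mul_right _ _).trans h) hn rfl
  rcases h with h | h | ⟨hp, k, h⟩
  · rcases (CIT.mem_Ω_L2_even (n := 2) (by norm_num) h _).1 hm with h | h | h <;>
    · have := Nat.le_of_dvd (by norm_num) h
      omega
  · have := (CIT.mem_Ω_L2_nine h _).1 hm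
    simp only [List.mem_cons, List.not_mem_nil, or_false] at this
    omega
  by_cases hp2 : Fintype.card F = 2
  · rcases (CIT.mem_Ω_L2_even (n := 1) le_rfl hp2 _).1 hm with h | h | h <;>
    · have := Nat.le_of_dvd (by norm_num) h
      omega
  have hm' := (CIT.mem_Ω_L2_odd hp hp2 (pow_one _).symm _).1 hm
  simp only [pow_one] at hm'
  have hp3 := hp.two_le
  obtain ⟨j, rfl⟩ : ∃ j, k = j + 1 := by
    rcases k with _ | k
    · omega
    · exact ⟨k, rfl⟩
  have hpos : 0 < 2 ^ j := by positivity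
  rw [pow_succ] at h
  rcases hm' with h1 | h1 | h1
  · exact hodd _ (hp.odd_of_ne_two hp2) h1
  · rcases h with h | h
    · exact hpow j (by rwa [show (Fintype.card F - 1) / 2 = 2 ^ j by omega] at h1)
    · rw [show (Fintype.card F - 1) / 2 = 2 ^ j - 1 by omega] at h1
      refine hodd _ (CIT.odd_two_pow_sub_one (Nat.pos_of_ne_zero ?_)) h1
      rintro rfl
      omega
  · rcases h with h | h
    · rw [show (Fintype.card F + 1) / 2 = 2 ^ j + 1 by omega] at h1
      rcases Nat.eq_zero_or_pos j with rfl | hj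
      · exact hpow 1 h1
      · exact hodd _ (CIT.odd_two_pow_add_one hj) h1
    · exact hpow j (by rwa [show (Fintype.card F + 1) / 2 = 2 ^ j by omega] at h1)

/-- The root subgroup of `PSL₂`. -/
def root2 (F : Type*) [Field F] : Multiplicative F →* Matrix.ProjectiveSpecialLinearGroup (Fin 2) F :=
  (QuotientGroup.mk' _).comp (MonoidHom.mk' (fun a =>
    Matrix.SpecialLinearGroup.transvection (show (0 : Fin 2) ≠ 1 by decide) a.toAdd)
      fun a b => Matrix.SpecialLinearGroup.transvection_add _ _ _)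

theorem root2_inj (F : Type*) [Field F] : Function.Injective (root2 F) := by
  rw [injective_iff_map_eq_one]
  intro a ha
  have := (Matrix.SpecialLinearGroup.transvection_mem_center_iff (show (0 : Fin 2) ≠ 1 by decide) a.toAdd).1
    ((QuotientGroup.eq_one_iff _).1 ha)
  exact Multiplicative.toAdd.injective this

/-- The unipotent radical of a parabolic subgroup of `PSL₃`. -/
def root3 (F : Type*) [Field F] :
    Multiplicative (F × F) →* Matrix.ProjectiveSpecialLinearGroup (Fin 3) F :=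
  (QuotientGroup.mk' _).comp (MonoidHom.mk' (fun a => KSG.M2.mkSL
    !![1, 0, a.toAdd.1; 0, 1, a.toAdd.2; 0, 0, 1] (by simp [Matrix.det_fin_three]))
      fun a b => by
        ext i j
        rw [Matrix.SpecialLinearGroup.coe_mul]
        fin_cases i <;> fin_cases j <;> simp [Matrix.mul_apply, Fin.sum_univ_succ, add_comm])

theorem root3_inj (F : Type*) [Field F] : Function.Injective (root3 F) := by
  rw [injective_iff_map_eq_one]
  intro a ha
  obtain ⟨r, -, hr⟩ := Matrix.SpecialLinearGroup.mem_center_iff.1 ((QuotientGroup.eq_one_iff _).1 ha)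
  have h1 := congrFun (congrFun hr 0) 2
  have h2 := congrFun (congrFun hr 1) 2
  apply Multiplicative.toAdd.injective
  ext
  · simpa using h1.symm
  · simpa using h2.symm

/-- Say that a group has self-centralizing non-cyclic subgroups when every non-cyclic subgroup H satisfies C_G(H) ≤ H. A non-abelian finite simple group has self-centralizing non-cyclic subgroups if and only if it is isomorphic to PSL₂(q) with q = 4, q = 9, or q a prime of the form 2^k + 1 or 2^k − 1. -/
theorem result {G : Type*} [Group G] [Finite G] [IsSimpleGroup G] (hna : ¬ IsMulCommutative G) :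
    (∀ H : Subgroup G, ¬ IsCyclic ↥H → Subgroup.centralizer (H : Set G) ≤ H) ↔ ∃ (F : Type) (_ : Field F) (_ : Fintype F),
      (Fintype.card F = 4 ∨ Fintype.card F = 9 ∨ ((Fintype.card F).Prime ∧ ∃ k : ℕ, Fintype.card F = 2 ^ k + 1 ∨ Fintype.card F = 2 ^ k - 1)) ∧
      Nonempty (G ≃* Matrix.ProjectiveSpecialLinearGroup (Fin 2) F) := by
  constructor
  · intro h
    have hG : SC G := h
    rcases CIT.cit_simple hna (hG.isCIT hna) with h1 | h1 | h1 | h1 | h1
    · obtain ⟨F, _, _, n, hn, hF, ⟨e⟩⟩ := h1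
      rcases hn.eq_or_lt with rfl | hn
      · exact ⟨F, inferInstance, inferInstance, Or.inl hF, ⟨e⟩⟩
      haveI := CIT.charP_of_card Nat.prime_two hF
      refine ((hG.congr e.symm).no_hom (root2 F) (root2_inj F) (fun a => ?_) ?_).elim
      · exact Multiplicative.toAdd.injective (CharTwo.add_self_eq_zero _)
      · rw [Nat.card_congr Multiplicative.toAdd, Nat.card_eq_fintype_card, hF]
        exact lt_of_lt_of_le (by norm_num) (Nat.pow_le_pow_right two_pos hn)
    · obtain ⟨F, _, _, m, hm, hF, ⟨e⟩⟩ := h1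
      haveI := Chev.SzField.of_fintype hm hF
      refine ((hG.congr ((Chev.Suz.lieEquiv F).trans e.symm)).no_eight
        (Chev.Suz.Zp (Chev.Suz.inf F)) (fun a ha => by rw [← pow_two]; exact ha.2)
        (fun a ha b hb => Chev.Suz.Zp_comm ha ⟨hb.1, by rw [Chev.Suz.pow_four_eq, hb.2, one_pow]⟩) ?_).elim
      rw [Chev.Suz.card_Zp]
      exact lt_of_lt_of_le (by norm_num) (Chev.Suz.eight_le_q F)
    · obtain ⟨F, _, _, hp, -, ⟨k, hk⟩, e⟩ := h1
      exact ⟨F, inferInstance, inferInstance, Or.inr (Or.inr ⟨hp, k, hk.imp id fun h => by omega⟩), e⟩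
    · obtain ⟨F, _, _, hF, e⟩ := h1
      exact ⟨F, inferInstance, inferInstance, Or.inr (Or.inl hF), e⟩
    · obtain ⟨F, _, _, hF, ⟨e⟩⟩ := h1
      haveI := CIT.charP_of_card (n := 2) Nat.prime_two hF
      refine ((hG.congr e.symm).no_hom (root3 F) (root3_inj F) (fun a => ?_) ?_).elim
      · exact Multiplicative.toAdd.injective
          (Prod.ext (CharTwo.add_self_eq_zero _) (CharTwo.add_self_eq_zero _))
      · rw [Nat.card_congr Multiplicative.toAdd, Nat.card_prod, Nat.card_eq_fintype_card, hF]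
        norm_num
  · rintro ⟨F, _, _, hF, ⟨e⟩⟩
    have hc := cit_PSL2 hF
    rw [← Nat.card_eq_fintype_card] at hF
    rcases hF with h | h | ⟨h, -⟩
    · exact (sc_PSL2 Nat.prime_two (Or.inr h) hc).congr e
    · exact (sc_PSL2 Nat.prime_three (Or.inr h) hc).congr e
    · exact (sc_PSL2 h (Or.inl rfl) hc).congr e

end Cfsg.Agent.S3921
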