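import Cfsg.Statements.S2697
import Cfsg.Agent.KSG.AutPSL3

set_option autoImplicit false
open Cfsg

namespace Cfsg.Agent.S2697

/-- Let T = PSL_n(F) be simple over a finite field (n ≥ 2; |F| ≥ 4 when n = 2) and let x be a field automorphism or a graph-field automorphism of T of prime order r. Then an element y of the coset Inndiag(T)·x (that is, y = δ x with δ in the inner-diagonal group, the image of PGL_n(F)) has order r if and only if y is conjugate to x by an element of Inndiag(T). -/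
theorem result {F : Type*} [Field F] [Fintype F] {p f : ℕ} [Fact p.Prime] (hF : Fintype.card F = p ^ f) (hf : 1 ≤ f) {n : ℕ} (hn : 2 ≤ n) (hs : n = 2 → 4 ≤ Fintype.card F) (x δ : MulAut (Matrix.ProjectiveSpecialLinearGroup (Fin n) F)) (hx : Cfsg.IsFieldAutClassPSL x ∨ Cfsg.IsGraphFieldAutClassPSL x) {r : ℕ} (hr : r.Prime) (hxr : orderOf x = r) (hδ : δ ∈ Cfsg.inndiagPSL n F) :
    orderOf (δ * x) = r ↔ Cfsg.IsConjUnder (Cfsg.inndiagPSL n F) x (δ * x) := by
  have hn' : 2 ≤ Fintype.card (Fin n) := by simpa using hn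
  rw [KSG.inndiagPSL_eq'] at hδ ⊢
  have := KSG.range_iotaL_normal (F := F) hn'
  rcases hx with ⟨α, σ, -, h⟩ | ⟨h3, α, φ, γ, σ, hσ, hφ, hγ, h⟩
  · rw [KSG.isStdFieldPSL_iff] at h
    refine KSG.coset_iff_of_conj (α := α) hxr ?_ hδ
    rw [← hxr, ← KSG.orderOf_conj' α, h, KSG.orderOf_psiL_field hn]
    exact KSG.field_coset_L hn' σ
  · rw [KSG.isStdFieldPSL_iff.1 hφ, KSG.isInverseTransposePSL_iff.1 hγ, ← map_mul, ← map_mul,
      Prod.mk_mul_mk, mul_one, one_mul] at h
    obtain ⟨π, hπ, -, -⟩ := KSG.exists_projL3 (F := F) (ι := Fin n) (by simpa using h3)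
    have h1 : (σ, (Multiplicative.ofAdd 1 : Multiplicative (ZMod 2))) ^ r = 1 := by
      have := hπ (SemidirectProduct.inr (σ, Multiplicative.ofAdd 1))
      rw [SemidirectProduct.right_inr] at this
      rw [← this, ← map_pow, ← h, ← hxr, ← KSG.orderOf_conj' α, pow_orderOf_eq_one, map_one]
    have h2 : r = 2 := by
      have h4 : orderOf (Multiplicative.ofAdd 1 : Multiplicative (ZMod 2)) = 2 :=
        orderOf_eq_prime (by decide) KSG.c2_ne
      have h5 := orderOf_dvd_of_pow_eq_one (congrArg Prod.snd h1)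
      rw [h4] at h5
      exact ((Nat.prime_dvd_prime_iff_eq Nat.prime_two hr).1 h5).symm
    subst h2
    refine KSG.coset_iff_of_conj (α := α) hxr ?_ hδ
    rw [h]
    exact KSG.graphField_coset_L hn' hσ (by rw [← sq]; exact congrArg Prod.fst h1)

end Cfsg.Agent.S2697
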