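import Cfsg.Statements.S2176
import Cfsg.Agent.Chev.StFix

set_option autoImplicit false
open Cfsg

namespace Cfsg.Agent.S2176

open Cfsg.Lie Cfsg.Agent.Chev

theorem treeOK : TreeOK chevE8
    [[], [239], [239, 226], [239, 226, 159], [239, 226, 159, 152]]
    [[239, 226, 159, 121], [239, 226, 159, 152, 121], [239, 226, 159, 152, 126], [239, 226, 159,
    152, 135], [239, 226, 159, 152, 141]] := by
  decide +kernel

theorem red0 : RedOK chevE8 [239, 226, 159, 121] [159, 226, 239]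
    [(1, 12), (2, 1), (2, 0), (2, 3), (2, 2), (2, 4), (2, 3), (2, 5), (2, 4), (2, 3), (1, 79),
    (2, 2), (2, 4), (2, 3), (2, 2), (2, 1), (2, 0), (2, 5), (2, 6), (2, 5), (2, 4), (3, 3), (2,
    5), (2, 4), (2, 3), (2, 6), (3, 5), (3, 5), (1, 122), (2, 1), (2, 3), (2, 4), (2, 5), (2,
    4), (2, 3), (3, 2), (2, 4), (2, 3), (3, 2), (1, 119), (3, 3)]
    [(12, 2, [(239, -1), (226, -1), (159, 1), (121, 1)]), (79, 2, [(239, -1), (226, 1), (159,
    -1), (121, 1)]), (119, 2, [(239, -1), (226, 1), (159, 1), (121, 1)]), (122, 2, [(239, 1),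
    (226, -1), (159, -1), (121, 1)])] := by
  decide +kernel

theorem red1 : RedOK chevE8 [239, 226, 159, 152, 121] [152, 159, 226, 239]
    [(1, 12), (2, 1), (2, 0), (2, 3), (2, 2), (2, 4), (2, 3), (2, 5), (2, 4), (2, 3), (2, 2),
    (2, 1), (2, 0), (2, 6), (2, 5), (2, 4), (1, 79), (2, 3), (2, 5), (2, 4), (2, 3), (2, 2), (2,
    1), (2, 6), (2, 7), (2, 6), (2, 5), (3, 4), (2, 6), (2, 5), (2, 4), (2, 7), (3, 6), (3, 6),
    (1, 122), (2, 2), (2, 4), (2, 5), (2, 6), (2, 5), (2, 4), (3, 3), (2, 5), (2, 4), (3, 3),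
    (1, 119), (3, 4)]
    [(12, 2, [(239, -1), (226, -1), (159, 1), (121, 1)]), (79, 2, [(239, -1), (226, 1), (159,
    -1), (121, 1)]), (119, 2, [(239, -1), (226, 1), (159, 1), (121, 1)]), (122, 2, [(239, 1),
    (226, -1), (159, -1), (121, 1)])] := by
  decide +kernel

theorem red2 : RedOK chevE8 [239, 226, 159, 152, 126] [159, 152, 226, 239]
    [(1, 10), (2, 1), (2, 0), (2, 3), (2, 2), (2, 4), (2, 3), (2, 2), (2, 1), (2, 0), (2, 5),
    (2, 4), (2, 6), (2, 5), (2, 4), (1, 84), (2, 3), (2, 5), (2, 4), (2, 3), (2, 2), (2, 1), (2,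
    6), (2, 7), (2, 6), (2, 5), (3, 4), (2, 6), (2, 5), (2, 4), (2, 7), (3, 6), (3, 6), (1,
    129), (2, 0), (2, 2), (2, 4), (2, 5), (2, 6), (2, 5), (2, 4), (3, 3), (2, 5), (2, 4), (3,
    3), (1, 114), (2, 0), (3, 4)]
    [(10, 2, [(239, -1), (226, -1), (152, 1), (126, 1)]), (84, 2, [(239, -1), (226, 1), (152,
    -1), (126, 1)]), (114, 2, [(239, -1), (226, 1), (152, 1), (126, 1)]), (129, 2, [(239, 1),
    (226, -1), (152, -1), (126, 1)])] := by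
  decide +kernel

theorem red3 : RedOK chevE8 [239, 226, 159, 152, 135] [239, 152, 159, 226]
    [(1, 58), (2, 0), (2, 2), (2, 1), (2, 0), (2, 4), (2, 3), (2, 5), (2, 4), (2, 6), (2, 5),
    (2, 4), (1, 65), (2, 2), (2, 1), (2, 0), (2, 3), (2, 5), (2, 4), (2, 3), (2, 2), (2, 1), (2,
    6), (2, 7), (2, 6), (2, 5), (3, 4), (2, 6), (2, 5), (2, 4), (2, 7), (3, 6), (3, 6), (1,
    163), (2, 0), (2, 2), (2, 1), (2, 4), (2, 5), (2, 6), (2, 5), (2, 4), (3, 3), (2, 5), (2,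
    4), (3, 3), (1, 77), (2, 1), (2, 0), (3, 4)]
    [(58, 2, [(226, -1), (159, -1), (152, 1), (135, 1)]), (65, 2, [(226, -1), (159, 1), (152,
    -1), (135, 1)]), (77, 2, [(226, -1), (159, 1), (152, 1), (135, 1)]), (163, 2, [(226, 1),
    (159, -1), (152, -1), (135, 1)])] := by
  decide +kernel

theorem red4 : RedOK chevE8 [239, 226, 159, 152, 141] [226, 152, 159, 239]
    [(1, 36), (2, 1), (2, 0), (2, 2), (2, 1), (2, 0), (2, 4), (2, 3), (2, 5), (2, 4), (2, 6),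
    (2, 5), (2, 4), (1, 43), (2, 0), (2, 3), (2, 5), (2, 4), (2, 3), (2, 2), (2, 1), (2, 6), (2,
    7), (2, 6), (2, 5), (3, 4), (2, 6), (2, 5), (2, 4), (2, 7), (3, 6), (3, 6), (1, 173), (2,
    0), (2, 2), (2, 1), (2, 4), (2, 5), (2, 6), (2, 5), (2, 4), (3, 3), (2, 5), (2, 4), (3, 3),
    (1, 71), (2, 1), (2, 0), (3, 4)]
    [(36, 2, [(239, -1), (159, -1), (152, 1), (141, 1)]), (43, 2, [(239, -1), (159, 1), (152,
    -1), (141, 1)]), (71, 2, [(239, -1), (159, 1), (152, 1), (141, 1)]), (173, 2, [(239, 1),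
    (159, -1), (152, -1), (141, 1)])] := by
  decide +kernel

theorem classOK : ClassOK chevE8 [[239], [232, 233], [228, 222, 218], [226, 220, 213, 216]]
    [([], []), ([239], []), ([239, 226], [(0, 7), (0, 6), (0, 5), (0, 4), (0, 3), (0, 1)]),
    ([239, 226, 159], [(0, 0), (0, 2), (0, 3), (0, 4), (0, 7), (0, 6), (0, 5), (0, 4), (0, 3),
    (0, 2), (0, 1), (0, 3), (0, 4), (0, 5)]), ([239, 226, 159, 152], [(0, 5), (0, 4), (0, 0),
    (0, 2), (0, 3), (0, 4), (0, 5), (0, 6), (0, 7), (0, 6), (0, 5), (0, 4), (0, 3), (0, 2), (0,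
    1), (0, 3), (0, 4), (0, 5), (0, 6), (0, 7)])]
    [([239, 226, 159, 121], [159, 226, 239], [(1, 12), (2, 1), (2, 0), (2, 3), (2, 2), (2, 4),
    (2, 3), (2, 5), (2, 4), (2, 3), (1, 79), (2, 2), (2, 4), (2, 3), (2, 2), (2, 1), (2, 0), (2,
    5), (2, 6), (2, 5), (2, 4), (3, 3), (2, 5), (2, 4), (2, 3), (2, 6), (3, 5), (3, 5), (1,
    122), (2, 1), (2, 3), (2, 4), (2, 5), (2, 4), (2, 3), (3, 2), (2, 4), (2, 3), (3, 2), (1,
    119), (3, 3)], [(12, 2, [(239, -1), (226, -1), (159, 1), (121, 1)]), (79, 2, [(239, -1),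
    (226, 1), (159, -1), (121, 1)]), (119, 2, [(239, -1), (226, 1), (159, 1), (121, 1)]), (122,
    2, [(239, 1), (226, -1), (159, -1), (121, 1)])]), ([239, 226, 159, 152, 121], [152, 159,
    226, 239], [(1, 12), (2, 1), (2, 0), (2, 3), (2, 2), (2, 4), (2, 3), (2, 5), (2, 4), (2, 3),
    (2, 2), (2, 1), (2, 0), (2, 6), (2, 5), (2, 4), (1, 79), (2, 3), (2, 5), (2, 4), (2, 3), (2,
    2), (2, 1), (2, 6), (2, 7), (2, 6), (2, 5), (3, 4), (2, 6), (2, 5), (2, 4), (2, 7), (3, 6),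
    (3, 6), (1, 122), (2, 2), (2, 4), (2, 5), (2, 6), (2, 5), (2, 4), (3, 3), (2, 5), (2, 4),
    (3, 3), (1, 119), (3, 4)], [(12, 2, [(239, -1), (226, -1), (159, 1), (121, 1)]), (79, 2,
    [(239, -1), (226, 1), (159, -1), (121, 1)]), (119, 2, [(239, -1), (226, 1), (159, 1), (121,
    1)]), (122, 2, [(239, 1), (226, -1), (159, -1), (121, 1)])]), ([239, 226, 159, 152, 126],
    [159, 152, 226, 239], [(1, 10), (2, 1), (2, 0), (2, 3), (2, 2), (2, 4), (2, 3), (2, 2), (2,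
    1), (2, 0), (2, 5), (2, 4), (2, 6), (2, 5), (2, 4), (1, 84), (2, 3), (2, 5), (2, 4), (2, 3),
    (2, 2), (2, 1), (2, 6), (2, 7), (2, 6), (2, 5), (3, 4), (2, 6), (2, 5), (2, 4), (2, 7), (3,
    6), (3, 6), (1, 129), (2, 0), (2, 2), (2, 4), (2, 5), (2, 6), (2, 5), (2, 4), (3, 3), (2,
    5), (2, 4), (3, 3), (1, 114), (2, 0), (3, 4)], [(10, 2, [(239, -1), (226, -1), (152, 1),
    (126, 1)]), (84, 2, [(239, -1), (226, 1), (152, -1), (126, 1)]), (114, 2, [(239, -1), (226,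
    1), (152, 1), (126, 1)]), (129, 2, [(239, 1), (226, -1), (152, -1), (126, 1)])]), ([239,
    226, 159, 152, 135], [239, 152, 159, 226], [(1, 58), (2, 0), (2, 2), (2, 1), (2, 0), (2, 4),
    (2, 3), (2, 5), (2, 4), (2, 6), (2, 5), (2, 4), (1, 65), (2, 2), (2, 1), (2, 0), (2, 3), (2,
    5), (2, 4), (2, 3), (2, 2), (2, 1), (2, 6), (2, 7), (2, 6), (2, 5), (3, 4), (2, 6), (2, 5),
    (2, 4), (2, 7), (3, 6), (3, 6), (1, 163), (2, 0), (2, 2), (2, 1), (2, 4), (2, 5), (2, 6),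
    (2, 5), (2, 4), (3, 3), (2, 5), (2, 4), (3, 3), (1, 77), (2, 1), (2, 0), (3, 4)], [(58, 2,
    [(226, -1), (159, -1), (152, 1), (135, 1)]), (65, 2, [(226, -1), (159, 1), (152, -1), (135,
    1)]), (77, 2, [(226, -1), (159, 1), (152, 1), (135, 1)]), (163, 2, [(226, 1), (159, -1),
    (152, -1), (135, 1)])]), ([239, 226, 159, 152, 141], [226, 152, 159, 239], [(1, 36), (2, 1),
    (2, 0), (2, 2), (2, 1), (2, 0), (2, 4), (2, 3), (2, 5), (2, 4), (2, 6), (2, 5), (2, 4), (1,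
    43), (2, 0), (2, 3), (2, 5), (2, 4), (2, 3), (2, 2), (2, 1), (2, 6), (2, 7), (2, 6), (2, 5),
    (3, 4), (2, 6), (2, 5), (2, 4), (2, 7), (3, 6), (3, 6), (1, 173), (2, 0), (2, 2), (2, 1),
    (2, 4), (2, 5), (2, 6), (2, 5), (2, 4), (3, 3), (2, 5), (2, 4), (3, 3), (1, 71), (2, 1), (2,
    0), (3, 4)], [(36, 2, [(239, -1), (159, -1), (152, 1), (141, 1)]), (43, 2, [(239, -1), (159,
    1), (152, -1), (141, 1)]), (71, 2, [(239, -1), (159, 1), (152, 1), (141, 1)]), (173, 2,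
    [(239, 1), (159, -1), (152, -1), (141, 1)])])] := by
  refine ⟨treeOK, ?_, by decide +kernel⟩
  simp only [List.mem_cons, List.not_mem_nil, or_false, forall_eq_or_imp, forall_eq]
  exact ⟨red0, red1, red2, red3, red4⟩

theorem repsOK : ∀ R ∈ [[239], [232, 233], [228, 222, 218], [226, 220, 213, 216]],
    R ≠ [] ∧ R.Nodup ∧ (∀ r ∈ R, chevE8.nroots ≤ 2 * r ∧ r < chevE8.nroots) ∧
      ∃ ms, (∀ m ∈ ms, m.1 ≠ 0 ∧ m.1 ≠ 1) ∧ moves chevE8 ms (R ++ R) = some [] := by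
  simp only [List.mem_cons, List.not_mem_nil, or_false, forall_eq_or_imp, forall_eq]
  refine ⟨⟨by simp, by decide, by decide +kernel, [(3, 0)], by decide, by decide +kernel⟩,
    ⟨by simp, by decide, by decide +kernel, [(2, 1), (3, 0), (3, 0)], by decide, by decide +kernel⟩,
    ⟨by simp, by decide, by decide +kernel, [(2, 0), (2, 1), (2, 0), (3, 2), (3, 1), (3, 0)], by decide, by decide +kernel⟩,
    ⟨by simp, by decide, by decide +kernel, [(2, 0), (2, 1), (2, 0), (2, 2), (2, 1), (3, 3), (3, 2), (2, 1), (3, 0), (3, 0)], by decide, by decide +kernel⟩⟩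

theorem fixOK : ∀ q ∈ [([239], 126), ([232, 233], 60), ([228, 222, 218], 26), ([226, 220, 213, 216], 8)],
    Orth chevE8 q.1 ∧ fixN chevE8 q.1 = q.2 := by decide +kernel


/-- Conjugacy classes of involutions in the Chevalley group of type E₈ over a finite field F of characteristic two (the matrix group generated by the root elements x_r(t)). In this problem's root numbering for type E₈ (the Chevalley data module; fundamental roots numbered so that p₁–p₃–p₄–p₅–p₆–p₇–p₈ is the long chain of the diagram and p₂ is joined to p₄; roots indexed by their coefficient vectors in increasing order) let r = 239 be the highest root (2,3,4,6,5,4,3,2), α = 232 = (2,2,4,5,4,3,2,1), β = 233 = (2,3,3,5,4,3,2,1), γ = 228 = (2,2,3,4,3,2,2,1), δ = 222 = (1,2,3,4,3,3,2,1), ε = 218 = (1,2,2,4,4,3,2,1), φ = 226 = (2,2,3,4,3,2,1,0), ψ = 220 = (1,2,3,4,3,2,1,1), θ = 213 = (1,2,2,3,3,3,2,1), ω = 216 = (1,2,2,4,3,2,2,1)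 (the roots within each of {α, β}, {γ, δ, ε}, {φ, ψ, θ, ω} pairwise orthogonal); consider x_r(1), x_α(1)x_β(1), x_γ(1)x_δ(1)x_ε(1) and x_φ(1)x_ψ(1)x_θ(1)x_ω(1). Then: each invertible matrix equal to one of these four products lies in the group and has order 2; every element of order 2 of the group is conjugate in the group to one of them; and no two of them are conjugate in the group (so, the four matrices being distinct, the group has exactly four conjugacy classes of involutions). -/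
theorem result {F : Type*} [Field F] [Fintype F] [CharP F 2] :
    (∀ y : GL Cfsg.Lie.chevE8.Idx F, ((y : GL Cfsg.Lie.chevE8.Idx F) : Matrix Cfsg.Lie.chevE8.Idx Cfsg.Lie.chevE8.Idx F) ∈ [Cfsg.Lie.chevE8.x F 239 1, Cfsg.Lie.chevE8.x F 232 1 * Cfsg.Lie.chevE8.x F 233 1, Cfsg.Lie.chevE8.x F 228 1 * Cfsg.Lie.chevE8.x F 222 1 * Cfsg.Lie.chevE8.x F 218 1, Cfsg.Lie.chevE8.x F 226 1 * Cfsg.Lie.chevE8.x F 220 1 * Cfsg.Lie.chevE8.x F 213 1 * Cfsg.Lie.chevE8.x F 216 1] → y ∈ Cfsg.Lie.chevE8.group F ∧ orderOf y = 2) ∧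
    (∀ g ∈ Cfsg.Lie.chevE8.group F, orderOf g = 2 → ∃ y ∈ Cfsg.Lie.chevE8.group F, ((y : GL Cfsg.Lie.chevE8.Idx F) : Matrix Cfsg.Lie.chevE8.Idx Cfsg.Lie.chevE8.Idx F) ∈ [Cfsg.Lie.chevE8.x F 239 1, Cfsg.Lie.chevE8.x F 232 1 * Cfsg.Lie.chevE8.x F 233 1, Cfsg.Lie.chevE8.x F 228 1 * Cfsg.Lie.chevE8.x F 222 1 * Cfsg.Lie.chevE8.x F 218 1, Cfsg.Lie.chevE8.x F 226 1 * Cfsg.Lie.chevE8.x F 220 1 * Cfsg.Lie.chevE8.x F 213 1 * Cfsg.Lie.chevE8.x F 216 1] ∧ ∃ h ∈ Cfsg.Lie.chevE8.group F, h * g * h⁻¹ = y) ∧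
    (∀ y₁ ∈ Cfsg.Lie.chevE8.group F, ∀ y₂ ∈ Cfsg.Lie.chevE8.group F, ((y₁ : GL Cfsg.Lie.chevE8.Idx F) : Matrix Cfsg.Lie.chevE8.Idx Cfsg.Lie.chevE8.Idx F) ∈ [Cfsg.Lie.chevE8.x F 239 1, Cfsg.Lie.chevE8.x F 232 1 * Cfsg.Lie.chevE8.x F 233 1, Cfsg.Lie.chevE8.x F 228 1 * Cfsg.Lie.chevE8.x F 222 1 * Cfsg.Lie.chevE8.x F 218 1, Cfsg.Lie.chevE8.x F 226 1 * Cfsg.Lie.chevE8.x F 220 1 * Cfsg.Lie.chevE8.x F 213 1 * Cfsg.Lie.chevE8.x F 216 1] → ((y₂ : GL Cfsg.Lie.chevE8.Idx F) : Matrix Cfsg.Lie.chevE8.Idx Cfsg.Lie.chevE8.Idx F) ∈ [Cfsg.Lie.chevE8.x F 239 1, Cfsg.Lie.chevE8.x F 232 1 * Cfsg.Lie.chevE8.x F 233 1, Cfsg.Lie.chevE8.x F 228 1 * Cfsg.Lie.chevE8.x F 222 1 * Cfsg.Lie.chevE8.x F 218 1, Cfsg.Lie.chevE8.x F 226 1 * Cfsg.Lie.chevE8.x F 220 1 * Cfsg.Lie.chevE8.x F 213 1 * Cfsg.Lie.chevE8.x F 216 1] →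
      (∃ h ∈ Cfsg.Lie.chevE8.group F, h * y₁ * h⁻¹ = y₂) → ((y₁ : GL Cfsg.Lie.chevE8.Idx F) : Matrix Cfsg.Lie.chevE8.Idx Cfsg.Lie.chevE8.Idx F) = ((y₂ : GL Cfsg.Lie.chevE8.Idx F) : Matrix Cfsg.Lie.chevE8.Idx Cfsg.Lie.chevE8.Idx F)) := by
  refine classes_statement rootTableE8 classOK (by simp [Matrix.mul_assoc]) repsOK ?_
  intro R hR R' hR' g _ e
  have h := fixOK
  have hc := isConj_iff.mpr ⟨g, e⟩
  simp only [List.mem_cons, List.not_mem_nil, or_false, forall_eq_or_imp, forall_eq] at h hR hR'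
  obtain ⟨⟨o0, f0⟩, ⟨o1, f1⟩, ⟨o2, f2⟩, ⟨o3, f3⟩⟩ := h
  rcases hR with rfl | rfl | rfl | rfl <;> rcases hR' with rfl | rfl | rfl | rfl <;>
    first
    | rfl
    | (have h1 := fixN_le_of_isConj' rootTableE8 ‹_› ‹_› hc
       have h2 := fixN_le_of_isConj' rootTableE8 ‹_› ‹_› hc.symm
       simp only [f0, f1, f2, f3, List.length_cons, List.length_nil] at h1 h2
       omega)

end Cfsg.Agent.S2176
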