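import Cfsg.Statements.S2181
import Cfsg.Agent.Chev.StFix

set_option autoImplicit false
open Cfsg

namespace Cfsg.Agent.S2181

open Cfsg.Lie Cfsg.Agent.Chev

theorem treeOK : TreeOK chevE7
    [[], [125], [125, 92], [125, 92, 63], [125, 92, 87], [125, 92, 63, 87], [125, 92, 87, 63],
    [125, 92, 87, 66], [125, 92, 87, 78]]
    [[125, 92, 87, 73], [125, 92, 63, 87, 66], [125, 92, 63, 87, 73], [125, 92, 63, 87, 78],
    [125, 92, 87, 63, 66], [125, 92, 87, 63, 73], [125, 92, 87, 63, 78], [125, 92, 87, 66, 63],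
    [125, 92, 87, 66, 73], [125, 92, 87, 66, 78], [125, 92, 87, 78, 63], [125, 92, 87, 78, 66],
    [125, 92, 87, 78, 73]] := by
  decide +kernel

theorem red0 : RedOK chevE7 [125, 92, 87, 73] [87, 92, 125]
    [(1, 17), (2, 1), (2, 0), (2, 3), (2, 2), (2, 4), (2, 3), (2, 5), (2, 4), (2, 3), (1, 22),
    (2, 2), (2, 4), (2, 3), (2, 2), (2, 1), (2, 0), (2, 5), (2, 6), (2, 5), (2, 4), (3, 3), (2,
    5), (2, 4), (2, 3), (2, 6), (3, 5), (3, 5), (1, 94), (2, 1), (2, 3), (2, 4), (2, 5), (2, 4),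
    (2, 3), (3, 2), (2, 4), (2, 3), (3, 2), (1, 32), (3, 3)]
    [(17, 2, [(125, -1), (92, -1), (87, 1), (73, 1)]), (22, 2, [(125, -1), (92, 1), (87, -1),
    (73, 1)]), (32, 2, [(125, -1), (92, 1), (87, 1), (73, 1)]), (94, 2, [(125, 1), (92, -1),
    (87, -1), (73, 1)])] := by
  decide +kernel

theorem red1 : RedOK chevE7 [125, 92, 63, 87, 66] [125, 66, 87, 92]
    [(1, 37), (2, 0), (2, 2), (2, 3), (2, 2), (2, 1), (2, 0), (2, 5), (2, 4), (2, 3), (2, 6),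
    (2, 5), (1, 58), (2, 2), (2, 1), (2, 0), (2, 3), (2, 5), (2, 4), (2, 3), (2, 2), (2, 1), (2,
    6), (2, 7), (2, 6), (2, 5), (3, 4), (2, 6), (2, 5), (2, 4), (2, 7), (3, 6), (3, 6), (1, 65),
    (2, 0), (2, 2), (2, 1), (2, 4), (2, 5), (2, 6), (2, 5), (2, 4), (3, 3), (2, 5), (2, 4), (3,
    3), (1, 61), (2, 1), (2, 0), (3, 4)]
    [(37, 2, [(92, -1), (63, 1), (87, -1), (66, 1)]), (58, 2, [(92, -1), (63, 1), (87, 1), (66,
    -1)]), (61, 2, [(92, -1), (63, 1), (87, 1), (66, 1)]), (65, 2, [(92, 1), (63, 1), (87, -1),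
    (66, -1)])] := by
  decide +kernel

theorem red2 : RedOK chevE7 [125, 92, 63, 87, 73] [63, 87, 92, 125]
    [(1, 17), (2, 1), (2, 0), (2, 3), (2, 2), (2, 4), (2, 3), (2, 2), (2, 1), (2, 0), (2, 5),
    (2, 4), (2, 6), (2, 5), (2, 4), (1, 22), (2, 3), (2, 5), (2, 4), (2, 3), (2, 2), (2, 1), (2,
    6), (2, 7), (2, 6), (2, 5), (3, 4), (2, 6), (2, 5), (2, 4), (2, 7), (3, 6), (3, 6), (1, 94),
    (2, 2), (2, 4), (2, 5), (2, 6), (2, 5), (2, 4), (3, 3), (2, 5), (2, 4), (3, 3), (1, 32), (3,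
    4)]
    [(17, 2, [(125, -1), (92, -1), (87, 1), (73, 1)]), (22, 2, [(125, -1), (92, 1), (87, -1),
    (73, 1)]), (32, 2, [(125, -1), (92, 1), (87, 1), (73, 1)]), (94, 2, [(125, 1), (92, -1),
    (87, -1), (73, 1)])] := by
  decide +kernel

theorem red3 : RedOK chevE7 [125, 92, 63, 87, 78] [92, 78, 87, 125]
    [(1, 10), (2, 1), (2, 0), (2, 2), (2, 3), (2, 2), (2, 1), (2, 0), (2, 5), (2, 4), (2, 3),
    (2, 6), (2, 5), (1, 24), (2, 0), (2, 3), (2, 5), (2, 4), (2, 3), (2, 2), (2, 1), (2, 6), (2,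
    7), (2, 6), (2, 5), (3, 4), (2, 6), (2, 5), (2, 4), (2, 7), (3, 6), (3, 6), (1, 98), (2, 0),
    (2, 2), (2, 1), (2, 4), (2, 5), (2, 6), (2, 5), (2, 4), (3, 3), (2, 5), (2, 4), (3, 3), (1,
    28), (2, 1), (2, 0), (3, 4)]
    [(10, 2, [(125, -1), (63, 1), (87, -1), (78, 1)]), (24, 2, [(125, -1), (63, 1), (87, 1),
    (78, -1)]), (28, 2, [(125, -1), (63, 1), (87, 1), (78, 1)]), (98, 2, [(125, 1), (63, 1),
    (87, -1), (78, -1)])] := by
  decide +kernel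

theorem red4 : RedOK chevE7 [125, 92, 87, 63, 66] [125, 66, 87, 92]
    [(1, 37), (2, 0), (2, 2), (2, 1), (2, 0), (2, 4), (2, 3), (2, 5), (2, 4), (2, 6), (2, 5),
    (1, 58), (2, 2), (2, 1), (2, 0), (2, 3), (2, 5), (2, 4), (2, 3), (2, 2), (2, 1), (2, 6), (2,
    7), (2, 6), (2, 5), (3, 4), (2, 6), (2, 5), (2, 4), (2, 7), (3, 6), (3, 6), (1, 65), (2, 0),
    (2, 2), (2, 1), (2, 4), (2, 5), (2, 6), (2, 5), (2, 4), (3, 3), (2, 5), (2, 4), (3, 3), (1,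
    61), (2, 1), (2, 0), (3, 4)]
    [(37, 2, [(92, -1), (87, -1), (63, 1), (66, 1)]), (58, 2, [(92, -1), (87, 1), (63, 1), (66,
    -1)]), (61, 2, [(92, -1), (87, 1), (63, 1), (66, 1)]), (65, 2, [(92, 1), (87, -1), (63, 1),
    (66, -1)])] := by
  decide +kernel

theorem red5 : RedOK chevE7 [125, 92, 87, 63, 73] [63, 87, 92, 125]
    [(1, 17), (2, 1), (2, 0), (2, 3), (2, 2), (2, 4), (2, 3), (2, 5), (2, 4), (2, 3), (2, 2),
    (2, 1), (2, 0), (2, 6), (2, 5), (2, 4), (1, 22), (2, 3), (2, 5), (2, 4), (2, 3), (2, 2), (2,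
    1), (2, 6), (2, 7), (2, 6), (2, 5), (3, 4), (2, 6), (2, 5), (2, 4), (2, 7), (3, 6), (3, 6),
    (1, 94), (2, 2), (2, 4), (2, 5), (2, 6), (2, 5), (2, 4), (3, 3), (2, 5), (2, 4), (3, 3), (1,
    32), (3, 4)]
    [(17, 2, [(125, -1), (92, -1), (87, 1), (73, 1)]), (22, 2, [(125, -1), (92, 1), (87, -1),
    (73, 1)]), (32, 2, [(125, -1), (92, 1), (87, 1), (73, 1)]), (94, 2, [(125, 1), (92, -1),
    (87, -1), (73, 1)])] := by
  decide +kernel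

theorem red6 : RedOK chevE7 [125, 92, 87, 63, 78] [92, 78, 87, 125]
    [(1, 10), (2, 1), (2, 0), (2, 2), (2, 1), (2, 0), (2, 4), (2, 3), (2, 5), (2, 4), (2, 6),
    (2, 5), (1, 24), (2, 0), (2, 3), (2, 5), (2, 4), (2, 3), (2, 2), (2, 1), (2, 6), (2, 7), (2,
    6), (2, 5), (3, 4), (2, 6), (2, 5), (2, 4), (2, 7), (3, 6), (3, 6), (1, 98), (2, 0), (2, 2),
    (2, 1), (2, 4), (2, 5), (2, 6), (2, 5), (2, 4), (3, 3), (2, 5), (2, 4), (3, 3), (1, 28), (2,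
    1), (2, 0), (3, 4)]
    [(10, 2, [(125, -1), (87, -1), (63, 1), (78, 1)]), (24, 2, [(125, -1), (87, 1), (63, 1),
    (78, -1)]), (28, 2, [(125, -1), (87, 1), (63, 1), (78, 1)]), (98, 2, [(125, 1), (87, -1),
    (63, 1), (78, -1)])] := by
  decide +kernel

theorem red7 : RedOK chevE7 [125, 92, 87, 66, 63] [125, 66, 87, 92]
    [(1, 37), (2, 0), (2, 2), (2, 1), (2, 0), (2, 4), (2, 3), (2, 5), (2, 4), (2, 6), (2, 5),
    (2, 4), (1, 58), (2, 2), (2, 1), (2, 0), (2, 3), (2, 5), (2, 4), (2, 3), (2, 2), (2, 1), (2,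
    6), (2, 7), (2, 6), (2, 5), (3, 4), (2, 6), (2, 5), (2, 4), (2, 7), (3, 6), (3, 6), (1, 65),
    (2, 0), (2, 2), (2, 1), (2, 4), (2, 5), (2, 6), (2, 5), (2, 4), (3, 3), (2, 5), (2, 4), (3,
    3), (1, 61), (2, 1), (2, 0), (3, 4)]
    [(37, 2, [(92, -1), (87, -1), (66, 1), (63, 1)]), (58, 2, [(92, -1), (87, 1), (66, -1), (63,
    1)]), (61, 2, [(92, -1), (87, 1), (66, 1), (63, 1)]), (65, 2, [(92, 1), (87, -1), (66, -1),
    (63, 1)])] := by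
  decide +kernel

theorem red8 : RedOK chevE7 [125, 92, 87, 66, 73] [66, 87, 92, 125]
    [(1, 17), (2, 1), (2, 0), (2, 3), (2, 2), (2, 4), (2, 3), (2, 5), (2, 4), (2, 3), (2, 2),
    (2, 1), (2, 0), (2, 6), (2, 5), (2, 4), (1, 22), (2, 3), (2, 5), (2, 4), (2, 3), (2, 2), (2,
    1), (2, 6), (2, 7), (2, 6), (2, 5), (3, 4), (2, 6), (2, 5), (2, 4), (2, 7), (3, 6), (3, 6),
    (1, 94), (2, 2), (2, 4), (2, 5), (2, 6), (2, 5), (2, 4), (3, 3), (2, 5), (2, 4), (3, 3), (1,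
    32), (3, 4)]
    [(17, 2, [(125, -1), (92, -1), (87, 1), (73, 1)]), (22, 2, [(125, -1), (92, 1), (87, -1),
    (73, 1)]), (32, 2, [(125, -1), (92, 1), (87, 1), (73, 1)]), (94, 2, [(125, 1), (92, -1),
    (87, -1), (73, 1)])] := by
  decide +kernel

theorem red9 : RedOK chevE7 [125, 92, 87, 66, 78] [87, 78, 92, 125]
    [(1, 8), (2, 1), (2, 0), (2, 3), (2, 2), (2, 4), (2, 3), (2, 2), (2, 1), (2, 0), (2, 5), (2,
    4), (2, 6), (2, 5), (1, 26), (2, 3), (2, 5), (2, 4), (2, 3), (2, 2), (2, 1), (2, 6), (2, 7),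
    (2, 6), (2, 5), (3, 4), (2, 6), (2, 5), (2, 4), (2, 7), (3, 6), (3, 6), (1, 96), (2, 0), (2,
    2), (2, 4), (2, 5), (2, 6), (2, 5), (2, 4), (3, 3), (2, 5), (2, 4), (3, 3), (1, 30), (2, 0),
    (3, 4)]
    [(8, 2, [(125, -1), (92, -1), (66, 1), (78, 1)]), (26, 2, [(125, -1), (92, 1), (66, 1), (78,
    -1)]), (30, 2, [(125, -1), (92, 1), (66, 1), (78, 1)]), (96, 2, [(125, 1), (92, -1), (66,
    1), (78, -1)])] := by
  decide +kernel

theorem red10 : RedOK chevE7 [125, 92, 87, 78, 63] [92, 78, 87, 125]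
    [(1, 10), (2, 1), (2, 0), (2, 2), (2, 1), (2, 0), (2, 4), (2, 3), (2, 5), (2, 4), (2, 6),
    (2, 5), (2, 4), (1, 24), (2, 0), (2, 3), (2, 5), (2, 4), (2, 3), (2, 2), (2, 1), (2, 6), (2,
    7), (2, 6), (2, 5), (3, 4), (2, 6), (2, 5), (2, 4), (2, 7), (3, 6), (3, 6), (1, 98), (2, 0),
    (2, 2), (2, 1), (2, 4), (2, 5), (2, 6), (2, 5), (2, 4), (3, 3), (2, 5), (2, 4), (3, 3), (1,
    28), (2, 1), (2, 0), (3, 4)]
    [(10, 2, [(125, -1), (87, -1), (78, 1), (63, 1)]), (24, 2, [(125, -1), (87, 1), (78, -1),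
    (63, 1)]), (28, 2, [(125, -1), (87, 1), (78, 1), (63, 1)]), (98, 2, [(125, 1), (87, -1),
    (78, -1), (63, 1)])] := by
  decide +kernel

theorem red11 : RedOK chevE7 [125, 92, 87, 78, 66] [87, 78, 92, 125]
    [(1, 8), (2, 1), (2, 0), (2, 3), (2, 2), (2, 4), (2, 3), (2, 2), (2, 1), (2, 0), (2, 5), (2,
    4), (2, 6), (2, 5), (2, 4), (1, 26), (2, 3), (2, 5), (2, 4), (2, 3), (2, 2), (2, 1), (2, 6),
    (2, 7), (2, 6), (2, 5), (3, 4), (2, 6), (2, 5), (2, 4), (2, 7), (3, 6), (3, 6), (1, 96), (2,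
    0), (2, 2), (2, 4), (2, 5), (2, 6), (2, 5), (2, 4), (3, 3), (2, 5), (2, 4), (3, 3), (1, 30),
    (2, 0), (3, 4)]
    [(8, 2, [(125, -1), (92, -1), (78, 1), (66, 1)]), (26, 2, [(125, -1), (92, 1), (78, -1),
    (66, 1)]), (30, 2, [(125, -1), (92, 1), (78, 1), (66, 1)]), (96, 2, [(125, 1), (92, -1),
    (78, -1), (66, 1)])] := by
  decide +kernel

theorem red12 : RedOK chevE7 [125, 92, 87, 78, 73] [78, 87, 92, 125]
    [(1, 17), (2, 1), (2, 0), (2, 3), (2, 2), (2, 4), (2, 3), (2, 5), (2, 4), (2, 3), (2, 2),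
    (2, 1), (2, 0), (2, 6), (2, 5), (2, 4), (1, 22), (2, 3), (2, 5), (2, 4), (2, 3), (2, 2), (2,
    1), (2, 6), (2, 7), (2, 6), (2, 5), (3, 4), (2, 6), (2, 5), (2, 4), (2, 7), (3, 6), (3, 6),
    (1, 94), (2, 2), (2, 4), (2, 5), (2, 6), (2, 5), (2, 4), (3, 3), (2, 5), (2, 4), (3, 3), (1,
    32), (3, 4)]
    [(17, 2, [(125, -1), (92, -1), (87, 1), (73, 1)]), (22, 2, [(125, -1), (92, 1), (87, -1),
    (73, 1)]), (32, 2, [(125, -1), (92, 1), (87, 1), (73, 1)]), (94, 2, [(125, 1), (92, -1),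
    (87, -1), (73, 1)])] := by
  decide +kernel

theorem classOK : ClassOK chevE7 [[125], [125, 92], [125, 92, 63], [125, 92, 87], [125, 92, 63, 87]]
    [([], []), ([125], []), ([125, 92], []), ([125, 92, 63], []), ([125, 92, 87], []), ([125,
    92, 63, 87], []), ([125, 92, 87, 63], [(2, 2)]), ([125, 92, 87, 66], [(0, 5), (0, 6), (0,
    4), (0, 5), (2, 1), (2, 2)]), ([125, 92, 87, 78], [(0, 0), (0, 2), (0, 3), (0, 4), (0, 5),
    (0, 6), (0, 1), (0, 3), (0, 4), (0, 5), (0, 2), (0, 0), (2, 0), (2, 1), (2, 2)])]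
    [([125, 92, 87, 73], [87, 92, 125], [(1, 17), (2, 1), (2, 0), (2, 3), (2, 2), (2, 4), (2,
    3), (2, 5), (2, 4), (2, 3), (1, 22), (2, 2), (2, 4), (2, 3), (2, 2), (2, 1), (2, 0), (2, 5),
    (2, 6), (2, 5), (2, 4), (3, 3), (2, 5), (2, 4), (2, 3), (2, 6), (3, 5), (3, 5), (1, 94), (2,
    1), (2, 3), (2, 4), (2, 5), (2, 4), (2, 3), (3, 2), (2, 4), (2, 3), (3, 2), (1, 32), (3,
    3)], [(17, 2, [(125, -1), (92, -1), (87, 1), (73, 1)]), (22, 2, [(125, -1), (92, 1), (87,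
    -1), (73, 1)]), (32, 2, [(125, -1), (92, 1), (87, 1), (73, 1)]), (94, 2, [(125, 1), (92,
    -1), (87, -1), (73, 1)])]), ([125, 92, 63, 87, 66], [125, 66, 87, 92], [(1, 37), (2, 0), (2,
    2), (2, 3), (2, 2), (2, 1), (2, 0), (2, 5), (2, 4), (2, 3), (2, 6), (2, 5), (1, 58), (2, 2),
    (2, 1), (2, 0), (2, 3), (2, 5), (2, 4), (2, 3), (2, 2), (2, 1), (2, 6), (2, 7), (2, 6), (2,
    5), (3, 4), (2, 6), (2, 5), (2, 4), (2, 7), (3, 6), (3, 6), (1, 65), (2, 0), (2, 2), (2, 1),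
    (2, 4), (2, 5), (2, 6), (2, 5), (2, 4), (3, 3), (2, 5), (2, 4), (3, 3), (1, 61), (2, 1), (2,
    0), (3, 4)], [(37, 2, [(92, -1), (63, 1), (87, -1), (66, 1)]), (58, 2, [(92, -1), (63, 1),
    (87, 1), (66, -1)]), (61, 2, [(92, -1), (63, 1), (87, 1), (66, 1)]), (65, 2, [(92, 1), (63,
    1), (87, -1), (66, -1)])]), ([125, 92, 63, 87, 73], [63, 87, 92, 125], [(1, 17), (2, 1), (2,
    0), (2, 3), (2, 2), (2, 4), (2, 3), (2, 2), (2, 1), (2, 0), (2, 5), (2, 4), (2, 6), (2, 5),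
    (2, 4), (1, 22), (2, 3), (2, 5), (2, 4), (2, 3), (2, 2), (2, 1), (2, 6), (2, 7), (2, 6), (2,
    5), (3, 4), (2, 6), (2, 5), (2, 4), (2, 7), (3, 6), (3, 6), (1, 94), (2, 2), (2, 4), (2, 5),
    (2, 6), (2, 5), (2, 4), (3, 3), (2, 5), (2, 4), (3, 3), (1, 32), (3, 4)], [(17, 2, [(125,
    -1), (92, -1), (87, 1), (73, 1)]), (22, 2, [(125, -1), (92, 1), (87, -1), (73, 1)]), (32, 2,
    [(125, -1), (92, 1), (87, 1), (73, 1)]), (94, 2, [(125, 1), (92, -1), (87, -1), (73, 1)])]),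
    ([125, 92, 63, 87, 78], [92, 78, 87, 125], [(1, 10), (2, 1), (2, 0), (2, 2), (2, 3), (2, 2),
    (2, 1), (2, 0), (2, 5), (2, 4), (2, 3), (2, 6), (2, 5), (1, 24), (2, 0), (2, 3), (2, 5), (2,
    4), (2, 3), (2, 2), (2, 1), (2, 6), (2, 7), (2, 6), (2, 5), (3, 4), (2, 6), (2, 5), (2, 4),
    (2, 7), (3, 6), (3, 6), (1, 98), (2, 0), (2, 2), (2, 1), (2, 4), (2, 5), (2, 6), (2, 5), (2,
    4), (3, 3), (2, 5), (2, 4), (3, 3), (1, 28), (2, 1), (2, 0), (3, 4)], [(10, 2, [(125, -1),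
    (63, 1), (87, -1), (78, 1)]), (24, 2, [(125, -1), (63, 1), (87, 1), (78, -1)]), (28, 2,
    [(125, -1), (63, 1), (87, 1), (78, 1)]), (98, 2, [(125, 1), (63, 1), (87, -1), (78, -1)])]),
    ([125, 92, 87, 63, 66], [125, 66, 87, 92], [(1, 37), (2, 0), (2, 2), (2, 1), (2, 0), (2, 4),
    (2, 3), (2, 5), (2, 4), (2, 6), (2, 5), (1, 58), (2, 2), (2, 1), (2, 0), (2, 3), (2, 5), (2,
    4), (2, 3), (2, 2), (2, 1), (2, 6), (2, 7), (2, 6), (2, 5), (3, 4), (2, 6), (2, 5), (2, 4),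
    (2, 7), (3, 6), (3, 6), (1, 65), (2, 0), (2, 2), (2, 1), (2, 4), (2, 5), (2, 6), (2, 5), (2,
    4), (3, 3), (2, 5), (2, 4), (3, 3), (1, 61), (2, 1), (2, 0), (3, 4)], [(37, 2, [(92, -1),
    (87, -1), (63, 1), (66, 1)]), (58, 2, [(92, -1), (87, 1), (63, 1), (66, -1)]), (61, 2, [(92,
    -1), (87, 1), (63, 1), (66, 1)]), (65, 2, [(92, 1), (87, -1), (63, 1), (66, -1)])]), ([125,
    92, 87, 63, 73], [63, 87, 92, 125], [(1, 17), (2, 1), (2, 0), (2, 3), (2, 2), (2, 4), (2,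
    3), (2, 5), (2, 4), (2, 3), (2, 2), (2, 1), (2, 0), (2, 6), (2, 5), (2, 4), (1, 22), (2, 3),
    (2, 5), (2, 4), (2, 3), (2, 2), (2, 1), (2, 6), (2, 7), (2, 6), (2, 5), (3, 4), (2, 6), (2,
    5), (2, 4), (2, 7), (3, 6), (3, 6), (1, 94), (2, 2), (2, 4), (2, 5), (2, 6), (2, 5), (2, 4),
    (3, 3), (2, 5), (2, 4), (3, 3), (1, 32), (3, 4)], [(17, 2, [(125, -1), (92, -1), (87, 1),
    (73, 1)]), (22, 2, [(125, -1), (92, 1), (87, -1), (73, 1)]), (32, 2, [(125, -1), (92, 1),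
    (87, 1), (73, 1)]), (94, 2, [(125, 1), (92, -1), (87, -1), (73, 1)])]), ([125, 92, 87, 63,
    78], [92, 78, 87, 125], [(1, 10), (2, 1), (2, 0), (2, 2), (2, 1), (2, 0), (2, 4), (2, 3),
    (2, 5), (2, 4), (2, 6), (2, 5), (1, 24), (2, 0), (2, 3), (2, 5), (2, 4), (2, 3), (2, 2), (2,
    1), (2, 6), (2, 7), (2, 6), (2, 5), (3, 4), (2, 6), (2, 5), (2, 4), (2, 7), (3, 6), (3, 6),
    (1, 98), (2, 0), (2, 2), (2, 1), (2, 4), (2, 5), (2, 6), (2, 5), (2, 4), (3, 3), (2, 5), (2,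
    4), (3, 3), (1, 28), (2, 1), (2, 0), (3, 4)], [(10, 2, [(125, -1), (87, -1), (63, 1), (78,
    1)]), (24, 2, [(125, -1), (87, 1), (63, 1), (78, -1)]), (28, 2, [(125, -1), (87, 1), (63,
    1), (78, 1)]), (98, 2, [(125, 1), (87, -1), (63, 1), (78, -1)])]), ([125, 92, 87, 66, 63],
    [125, 66, 87, 92], [(1, 37), (2, 0), (2, 2), (2, 1), (2, 0), (2, 4), (2, 3), (2, 5), (2, 4),
    (2, 6), (2, 5), (2, 4), (1, 58), (2, 2), (2, 1), (2, 0), (2, 3), (2, 5), (2, 4), (2, 3), (2,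
    2), (2, 1), (2, 6), (2, 7), (2, 6), (2, 5), (3, 4), (2, 6), (2, 5), (2, 4), (2, 7), (3, 6),
    (3, 6), (1, 65), (2, 0), (2, 2), (2, 1), (2, 4), (2, 5), (2, 6), (2, 5), (2, 4), (3, 3), (2,
    5), (2, 4), (3, 3), (1, 61), (2, 1), (2, 0), (3, 4)], [(37, 2, [(92, -1), (87, -1), (66, 1),
    (63, 1)]), (58, 2, [(92, -1), (87, 1), (66, -1), (63, 1)]), (61, 2, [(92, -1), (87, 1), (66,
    1), (63, 1)]), (65, 2, [(92, 1), (87, -1), (66, -1), (63, 1)])]), ([125, 92, 87, 66, 73],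
    [66, 87, 92, 125], [(1, 17), (2, 1), (2, 0), (2, 3), (2, 2), (2, 4), (2, 3), (2, 5), (2, 4),
    (2, 3), (2, 2), (2, 1), (2, 0), (2, 6), (2, 5), (2, 4), (1, 22), (2, 3), (2, 5), (2, 4), (2,
    3), (2, 2), (2, 1), (2, 6), (2, 7), (2, 6), (2, 5), (3, 4), (2, 6), (2, 5), (2, 4), (2, 7),
    (3, 6), (3, 6), (1, 94), (2, 2), (2, 4), (2, 5), (2, 6), (2, 5), (2, 4), (3, 3), (2, 5), (2,
    4), (3, 3), (1, 32), (3, 4)], [(17, 2, [(125, -1), (92, -1), (87, 1), (73, 1)]), (22, 2,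
    [(125, -1), (92, 1), (87, -1), (73, 1)]), (32, 2, [(125, -1), (92, 1), (87, 1), (73, 1)]),
    (94, 2, [(125, 1), (92, -1), (87, -1), (73, 1)])]), ([125, 92, 87, 66, 78], [87, 78, 92,
    125], [(1, 8), (2, 1), (2, 0), (2, 3), (2, 2), (2, 4), (2, 3), (2, 2), (2, 1), (2, 0), (2,
    5), (2, 4), (2, 6), (2, 5), (1, 26), (2, 3), (2, 5), (2, 4), (2, 3), (2, 2), (2, 1), (2, 6),
    (2, 7), (2, 6), (2, 5), (3, 4), (2, 6), (2, 5), (2, 4), (2, 7), (3, 6), (3, 6), (1, 96), (2,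
    0), (2, 2), (2, 4), (2, 5), (2, 6), (2, 5), (2, 4), (3, 3), (2, 5), (2, 4), (3, 3), (1, 30),
    (2, 0), (3, 4)], [(8, 2, [(125, -1), (92, -1), (66, 1), (78, 1)]), (26, 2, [(125, -1), (92,
    1), (66, 1), (78, -1)]), (30, 2, [(125, -1), (92, 1), (66, 1), (78, 1)]), (96, 2, [(125, 1),
    (92, -1), (66, 1), (78, -1)])]), ([125, 92, 87, 78, 63], [92, 78, 87, 125], [(1, 10), (2,
    1), (2, 0), (2, 2), (2, 1), (2, 0), (2, 4), (2, 3), (2, 5), (2, 4), (2, 6), (2, 5), (2, 4),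
    (1, 24), (2, 0), (2, 3), (2, 5), (2, 4), (2, 3), (2, 2), (2, 1), (2, 6), (2, 7), (2, 6), (2,
    5), (3, 4), (2, 6), (2, 5), (2, 4), (2, 7), (3, 6), (3, 6), (1, 98), (2, 0), (2, 2), (2, 1),
    (2, 4), (2, 5), (2, 6), (2, 5), (2, 4), (3, 3), (2, 5), (2, 4), (3, 3), (1, 28), (2, 1), (2,
    0), (3, 4)], [(10, 2, [(125, -1), (87, -1), (78, 1), (63, 1)]), (24, 2, [(125, -1), (87, 1),
    (78, -1), (63, 1)]), (28, 2, [(125, -1), (87, 1), (78, 1), (63, 1)]), (98, 2, [(125, 1),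
    (87, -1), (78, -1), (63, 1)])]), ([125, 92, 87, 78, 66], [87, 78, 92, 125], [(1, 8), (2, 1),
    (2, 0), (2, 3), (2, 2), (2, 4), (2, 3), (2, 2), (2, 1), (2, 0), (2, 5), (2, 4), (2, 6), (2,
    5), (2, 4), (1, 26), (2, 3), (2, 5), (2, 4), (2, 3), (2, 2), (2, 1), (2, 6), (2, 7), (2, 6),
    (2, 5), (3, 4), (2, 6), (2, 5), (2, 4), (2, 7), (3, 6), (3, 6), (1, 96), (2, 0), (2, 2), (2,
    4), (2, 5), (2, 6), (2, 5), (2, 4), (3, 3), (2, 5), (2, 4), (3, 3), (1, 30), (2, 0), (3,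
    4)], [(8, 2, [(125, -1), (92, -1), (78, 1), (66, 1)]), (26, 2, [(125, -1), (92, 1), (78,
    -1), (66, 1)]), (30, 2, [(125, -1), (92, 1), (78, 1), (66, 1)]), (96, 2, [(125, 1), (92,
    -1), (78, -1), (66, 1)])]), ([125, 92, 87, 78, 73], [78, 87, 92, 125], [(1, 17), (2, 1), (2,
    0), (2, 3), (2, 2), (2, 4), (2, 3), (2, 5), (2, 4), (2, 3), (2, 2), (2, 1), (2, 0), (2, 6),
    (2, 5), (2, 4), (1, 22), (2, 3), (2, 5), (2, 4), (2, 3), (2, 2), (2, 1), (2, 6), (2, 7), (2,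
    6), (2, 5), (3, 4), (2, 6), (2, 5), (2, 4), (2, 7), (3, 6), (3, 6), (1, 94), (2, 2), (2, 4),
    (2, 5), (2, 6), (2, 5), (2, 4), (3, 3), (2, 5), (2, 4), (3, 3), (1, 32), (3, 4)], [(17, 2,
    [(125, -1), (92, -1), (87, 1), (73, 1)]), (22, 2, [(125, -1), (92, 1), (87, -1), (73, 1)]),
    (32, 2, [(125, -1), (92, 1), (87, 1), (73, 1)]), (94, 2, [(125, 1), (92, -1), (87, -1), (73,
    1)])])] := by
  refine ⟨treeOK, ?_, by decide +kernel⟩
  simp only [List.mem_cons, List.not_mem_nil, or_false, forall_eq_or_imp, forall_eq]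
  exact ⟨red0, red1, red2, red3, red4, red5, red6, red7, red8, red9, red10, red11, red12⟩

theorem repsOK : ∀ R ∈ [[125], [125, 92], [125, 92, 63], [125, 92, 87], [125, 92, 63, 87]],
    R ≠ [] ∧ R.Nodup ∧ (∀ r ∈ R, chevE7.nroots ≤ 2 * r ∧ r < chevE7.nroots) ∧
      ∃ ms, (∀ m ∈ ms, m.1 ≠ 0 ∧ m.1 ≠ 1) ∧ moves chevE7 ms (R ++ R) = some [] := by
  simp only [List.mem_cons, List.not_mem_nil, or_false, forall_eq_or_imp, forall_eq]
  refine ⟨⟨by simp, by decide, by decide +kernel, [(3, 0)], by decide, by decide +kernel⟩,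
    ⟨by simp, by decide, by decide +kernel, [(2, 0), (3, 1), (3, 0)], by decide, by decide +kernel⟩,
    ⟨by simp, by decide, by decide +kernel, [(2, 0), (2, 1), (2, 0), (3, 2), (3, 1), (3, 0)], by decide, by decide +kernel⟩,
    ⟨by simp, by decide, by decide +kernel, [(2, 0), (2, 1), (2, 0), (3, 2), (3, 1), (3, 0)], by decide, by decide +kernel⟩,
    ⟨by simp, by decide, by decide +kernel, [(2, 0), (2, 1), (2, 0), (2, 2), (2, 1), (3, 3), (3, 2), (2, 1), (3, 0), (3, 0)], by decide, by decide +kernel⟩⟩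

theorem fixOK : ∀ q ∈ [([125], 60), ([125, 92], 26), ([125, 92, 63], 24), ([125, 92, 87], 8), ([125, 92, 63, 87], 6)],
    Orth chevE7 q.1 ∧ fixN chevE7 q.1 = q.2 := by decide +kernel

theorem rankA : ∀ p q : Fin 2, (2 : ℤ) ∣ ∑ j, (∑ i, lmat 2 7 [[0, 0, 0, 0, 1, 0, 0], [0, 0, 1, 0, 0, 0, 0]] p i *
    tm chevE7 [125, 92, 63] i j) *
    lmat 7 2 [[1, 0], [0, 0], [0, 0], [0, 0], [0, 0], [0, 1], [0, 0]] j q - if p = q then 1 else 0 := by
  decide +kernel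

theorem rankB : ∀ p q : Fin 3, (2 : ℤ) ∣ ∑ j, (∑ i, lmat 3 7 [[0, 1, 1, 0, 0, 0, 0], [0, 1, 0, 0, 0, 0, 0], [0, 1, 0, 0, 1, 0, 0]] p i *
    tm chevE7 [125, 92, 63, 87] i j) *
    lmat 7 3 [[1, 0, 0], [0, 0, 0], [0, 0, 0], [0, 1, 0], [0, 0, 0], [0, 0, 1], [0, 0, 0]] j q - if p = q then 1 else 0 := by
  decide +kernel

theorem inj {F : Type*} [Field F] [Finite F] [CharP F 2] : ∀ R ∈ [[125], [125, 92], [125, 92, 63], [125, 92, 87], [125, 92, 63, 87]],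
    ∀ R' ∈ [[125], [125, 92], [125, 92, 63], [125, 92, 87], [125, 92, 63, 87]],
    IsConj (oprod (xG chevE7 F) R 1) (oprod (xG chevE7 F) R' 1) → R = R' := by
  intro R hR R' hR' hc
  have h := fixOK
  simp only [List.mem_cons, List.not_mem_nil, or_false, forall_eq_or_imp, forall_eq] at h hR hR'
  obtain ⟨⟨o0, f0⟩, ⟨o1, f1⟩, ⟨o2, f2⟩, ⟨o3, f3⟩, ⟨o4, f4⟩⟩ := h
  have k1 := fun hc => fixN_le_of_isConj (F := F) rootTableE7 o1 o2 hc _ _ rankA
  have k2 := fun hc => fixN_le_of_isConj (F := F) rootTableE7 o3 o4 hc _ _ rankB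
  simp only [f1, f2, f3, f4, List.length_cons, List.length_nil] at k1 k2
  have k := fun {R R' : List ℕ} (o : Orth chevE7 R) (o' : Orth chevE7 R') hc =>
    fixN_le_of_isConj' (F := F) rootTableE7 o o' hc
  rcases hR with rfl | rfl | rfl | rfl | rfl <;> rcases hR' with rfl | rfl | rfl | rfl | rfl
  · rfl
  · exact absurd (k o0 o1 hc) (by rw [f0, f1]; decide)
  · exact absurd (k o0 o2 hc) (by rw [f0, f2]; decide)
  · exact absurd (k o0 o3 hc) (by rw [f0, f3]; decide)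
  · exact absurd (k o0 o4 hc) (by rw [f0, f4]; decide)
  · exact absurd (k o0 o1 hc.symm) (by rw [f0, f1]; decide)
  · rfl
  · exact absurd (k1 hc) (by omega)
  · exact absurd (k o1 o3 hc) (by rw [f1, f3]; decide)
  · exact absurd (k o1 o4 hc) (by rw [f1, f4]; decide)
  · exact absurd (k o0 o2 hc.symm) (by rw [f0, f2]; decide)
  · exact absurd (k1 hc.symm) (by omega)
  · rfl
  · exact absurd (k o2 o3 hc) (by rw [f2, f3]; decide)
  · exact absurd (k o2 o4 hc) (by rw [f2, f4]; decide)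
  · exact absurd (k o0 o3 hc.symm) (by rw [f0, f3]; decide)
  · exact absurd (k o1 o3 hc.symm) (by rw [f1, f3]; decide)
  · exact absurd (k o2 o3 hc.symm) (by rw [f2, f3]; decide)
  · rfl
  · exact absurd (k2 hc) (by omega)
  · exact absurd (k o0 o4 hc.symm) (by rw [f0, f4]; decide)
  · exact absurd (k o1 o4 hc.symm) (by rw [f1, f4]; decide)
  · exact absurd (k o2 o4 hc.symm) (by rw [f2, f4]; decide)
  · exact absurd (k2 hc.symm) (by omega)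
  · rfl


/-- The Chevalley group of type E₇ over a finite field of characteristic two (the matrix group generated by the root elements) has exactly five conjugacy classes of elements of order 2. -/
theorem result {F : Type*} [Field F] [Fintype F] [CharP F 2] :
    (ConjClasses.mk '' {g : ↥(Cfsg.Lie.chevE7.group F) | orderOf g = 2}).ncard = 5 := by
  have e : ConjClasses.mk '' {g : ↥(chevE7.group F) | orderOf g = 2} =
      (fun R => ConjClasses.mk (oprod (xC chevE7 F) R 1)) '' {R | R ∈ [[125], [125, 92], [125, 92, 63], [125, 92, 87], [125, 92, 63, 87]]} := by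
    ext c
    constructor
    · rintro ⟨g, hg, rfl⟩
      obtain ⟨Q, h1, h2⟩ := classOK.exists_conj rootTableE7 hg
      exact ⟨Q, h1, ConjClasses.mk_eq_mk_iff_isConj.mpr h2.symm⟩
    · rintro ⟨R, hR, rfl⟩
      refine ⟨_, ?_, rfl⟩
      obtain ⟨h3, h4, h5, ms, h6, h7⟩ := repsOK R hR
      obtain ⟨g, -, e⟩ := (isSt_xG (F := F)).moves_sound rootTableE7 (K := ⊥)
        (fun m hm e => absurd e (h6 m hm).1) (fun m hm e => absurd e (h6 m hm).2)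
        (fun r hr => (h5 r (by simpa only [List.mem_append, or_self] using hr)).2) h7
      rw [oprod_nil, conj_eq_one_iff, oprod_append] at e
      rw [Set.mem_ofPred_eq, ← Subgroup.orderOf_coe, coe_oprod_xC]
      exact orderOf_oprod rootTableE7 h3 h4 h5 e
  rw [e, Set.InjOn.ncard_image, ← List.coe_toFinset, Set.ncard_coe_finset,
    List.toFinset_card_of_nodup (by decide)]
  · rfl
  · intro R hR R' hR' e
    refine inj (F := F) R hR R' hR' ?_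
    have := (chevE7.group F).subtype.map_isConj (ConjClasses.mk_eq_mk_iff_isConj.mp e)
    simpa only [Subgroup.coe_subtype, coe_oprod_xC] using this

end Cfsg.Agent.S2181
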