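import Mathlib
import Cfsg.Statements.S2182
import Cfsg.Agent.Chev.TwistInv3
import Cfsg.Agent.Chev.TwistE6F
-- import your own Cfsg.Agent.* helpers here

set_option autoImplicit false
open Cfsg

namespace Cfsg.Agent.S2182

open Cfsg.Lie Cfsg.Agent.Chev

/-- The orthogonal roots attached to a set of orbits of nodes. -/
def tb : Bool → Bool → Bool → Bool → List ℕ
  | false, false, false, false => [71, 60, 44, 39]
  | false, false, false, true => [71, 59, 45, 39]
  | false, false, true, false => [71, 60, 43, 40]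
  | false, false, true, true => [71, 58, 44, 41]
  | false, true, false, false => [71, 60, 44]
  | false, true, false, true => [71, 59, 45]
  | false, true, true, false => [71, 60]
  | false, true, true, true => [71]
  | true, false, false, false => [69, 65, 53]
  | true, false, false, true => [69, 64, 54]
  | true, false, true, false => [68, 66, 53]
  | true, false, true, true => [67, 65, 55]
  | true, true, false, false => [70, 63, 51]
  | true, true, false, true => [70, 62, 52]
  | true, true, true, false => [68, 66]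
  | true, true, true, true => []

theorem tb_ok : ∀ a b c d : Bool, MaxCheck rootTableE6 (fun j => ![a, b, c, d] (oE6 j)) (tb a b c d) := by
  decide +kernel

/-- Two simple roots are exchanged. -/
abbrev Sw (R : List ℕ) (j k : Fin chevE6.rank) : Prop := wv rootTableE6 R j = sroot k ∧ wv rootTableE6 R k = sroot j

theorem key {K : Type*} [Field K] [Fintype K] [CharP K 2] (S : ChevSys rootTableE6 (xC chevE6 K)) (φ : K →+* K)
    (hφ : ∀ t, φ (φ t) = t) (hne : ¬ ∀ t, φ t = t) (t : chevE6.group K) (ht : t ∈ (E6.tw S φ hφ).data.T)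
    (h2 : orderOf t = 2) : ∃ g ∈ (E6.tw S φ hφ).data.T, g * t * g⁻¹ ∈
      [oprod (xC chevE6 K) [71] 1, oprod (xC chevE6 K) [71, 60] 1, oprod (xC chevE6 K) [71, 60, 44] 1] := by
  obtain ⟨I, h3, n, h4, h5⟩ := (E6.tw S φ hφ).exists_conj_nprod (fun I => tb (I 0) (I 1) (I 2) (I 3)) (fun I => by
    convert tb_ok (I 0) (I 1) (I 2) (I 3) using 2 with j
    have : ∀ a, I a = ![I 0, I 1, I 2, I 3] a := fun a => by fin_cases a <;> rfl
    exact this _) ht (by rw [← sq, ← h2, pow_orderOf_eq_one])
  have m := fun (L : List ℕ) (h : (∀ r ∈ L, r < chevE6.nroots) ∧ L.map rhoE6 = L) =>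
    (E6.tw S φ hφ).oprod_mem (E6.T_eq_Fix S φ hφ) h
  have s2 : I 2 = true → Sw (tb (I 0) (I 1) (I 2) (I 3)) (2 : Fin 6) (4 : Fin 6) → False := fun e ⟨e1, e2⟩ =>
    hne (S.eq_of_swap n (by decide) ((h4 _).trans e1) ((h4 _).trans e2) (E6.comm S 42 37 (by decide +kernel)) φ
      fun t => ((E6.fix_pos S φ hφ 2 _).2 ⟨t, rfl⟩).elim ((h5 2 e).2 _))
  have s3 : I 3 = true → Sw (tb (I 0) (I 1) (I 2) (I 3)) (0 : Fin 6) (5 : Fin 6) → False := fun e ⟨e1, e2⟩ =>
    hne (S.eq_of_swap n (by decide) ((h4 _).trans e1) ((h4 _).trans e2) (E6.comm S 56 36 (by decide +kernel)) φ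
      fun t => ((E6.fix_pos S φ hφ 3 _).2 ⟨t, rfl⟩).elim ((h5 3 e).2 _))
  have s4 := fun e => (h5 3 e).1 (0 : Fin 6) (4 : Fin 6) rfl (show oE6 (4 : Fin 6) ≠ 3 by decide)
  have s5 := fun e => (h5 0 e).1 (1 : Fin 6) (3 : Fin 6) rfl (show oE6 (3 : Fin 6) ≠ 0 by decide)
  clear h4 h5
  generalize I 0 = a at *
  generalize I 1 = b at *
  generalize I 2 = c at *
  generalize I 3 = d at *
  have k := fun g L hg hL => conj_of_nprod (g := g) (L := L) h3 (m g hg) (m L hL)
  simp only [List.mem_cons, List.not_mem_nil, or_false]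
  cases a <;> cases b <;> cases c <;> cases d
  · exact (k [25, 47, 20, 8, 0, 11, 27, 32] [71, 60, 44] (by decide +kernel) (by decide +kernel)
      (by decide +kernel)).imp fun _ h => ⟨h.1, .inr (.inr h.2)⟩
  · exact (s3 rfl (by decide +kernel)).elim
  · exact (s2 rfl (by decide +kernel)).elim
  · exact absurd (s4 rfl) (by decide +kernel)
  · exact (k [0, 11, 27] [71, 60, 44] (by decide +kernel) (by decide +kernel)
      (by decide +kernel)).imp fun _ h => ⟨h.1, .inr (.inr h.2)⟩
  · exact (s3 rfl (by decide +kernel)).elim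
  · exact (k [0, 11] [71, 60] (by decide +kernel) (by decide +kernel)
      (by decide +kernel)).imp fun _ h => ⟨h.1, .inr (.inl h.2)⟩
  · exact (k [0] [71] (by decide +kernel) (by decide +kernel)
      (by decide +kernel)).imp fun _ h => ⟨h.1, .inl h.2⟩
  · exact (k [47, 24, 47, 2, 6, 18] [71, 60, 44] (by decide +kernel) (by decide +kernel)
      (by decide +kernel)).imp fun _ h => ⟨h.1, .inr (.inr h.2)⟩
  · exact (s3 rfl (by decide +kernel)).elim
  · exact (s2 rfl (by decide +kernel)).elim
  · exact absurd (s4 rfl) (by decide +kernel)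
  · exact absurd (s5 rfl) (by decide +kernel)
  · exact absurd (s5 rfl) (by decide +kernel)
  · exact (s2 rfl (by decide +kernel)).elim
  · obtain ⟨g, -, e⟩ := h3 (one_mem _)
    rw [show t = 1 from conj_eq_one_iff.1 e, orderOf_one] at h2
    omega


/-- The twisted group ²E₆(q), q even, realised inside the Chevalley group of type E₆ over the field K with q² elements, has exactly three conjugacy classes of elements of order 2. -/
theorem result {K : Type*} [Field K] [Fintype K] [CharP K 2] (q : ℕ) (hK : Fintype.card K = q ^ 2) :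
    (ConjClasses.mk '' {g : ↥(Cfsg.Lie.twistedE6 K q) | orderOf g = 2}).ncard = 3 := by
  have hq := isPrimePow_of_card two_ne_zero hK
  obtain ⟨S, φ, hφ, h, hT⟩ := E6.exists_data hq hK
  have m := fun (L : List ℕ) (h : (∀ r ∈ L, r < chevE6.nroots) ∧ L.map rhoE6 = L) =>
    (E6.tw S φ hφ).oprod_mem (E6.T_eq_Fix S φ hφ) h
  refine ncard_classes (Subgroup.inclusion E6.le_group) (Subgroup.inclusion_injective _)
    ((E6.tw S φ hφ).data.range_inclusion _ hT) ?_ (key S φ hφ (by simpa only [h] using exists_pow_ne hq le_rfl hK)) ?_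
  · simp only [List.mem_cons, List.not_mem_nil, or_false, forall_eq_or_imp, forall_eq]
    exact ⟨⟨m _ (by decide +kernel), orderOf_oprod_xC rootTableE6 (by decide +kernel)⟩,
      ⟨m _ (by decide +kernel), orderOf_oprod_xC rootTableE6 (by decide +kernel)⟩,
      m _ (by decide +kernel), orderOf_oprod_xC rootTableE6 (by decide +kernel)⟩
  · simp only [List.pairwise_cons, List.mem_cons, List.not_mem_nil, or_false, forall_eq_or_imp, forall_eq,
      List.Pairwise.nil, and_true, IsEmpty.forall_iff, implies_true]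
    exact ⟨⟨not_isConj_of_fixN rootTableE6 (by decide +kernel), not_isConj_of_fixN rootTableE6 (by decide +kernel)⟩,
      not_isConj_of_fixN rootTableE6 (by decide +kernel)⟩

end Cfsg.Agent.S2182
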