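import Cfsg.Statements.S2341
import Cfsg.Agent.Chev.MinDegTw3
import Cfsg.Agent.Chev.TwistE6F

set_option autoImplicit false
open Cfsg

namespace Cfsg.Agent.S2341

open Cfsg.Agent.Chev Cfsg.Agent.Chev.MD Cfsg.Lie

/-- Weights of the nodes. -/
def wt (i : ℕ) : ℤ := [1, 512, 8, 64, 8, 1].getD i 0

/-- The fixed roots. -/
def fx : List ℕ :=
  [0, 1, 2, 6, 8, 11, 18, 20, 24, 25, 27, 32, 39, 44, 46, 47, 51, 53, 60, 63, 65, 69, 70, 71]

theorem rho_lt : ∀ r < chevE6.nroots, rhoE6 r < chevE6.nroots := by decide +kernel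

/-- The graph automorphism on roots. -/
def rho (r : Rt chevE6) : Rt chevE6 := ⟨rhoE6 r, rho_lt r r.2⟩

theorem comb : TwComb chevE6 rho (fw chevE6 wt) :=
  twComb_of_check encE6_agree encE6_A rfl rho_lt (fun _ _ => rfl) (fx := fx) (by decide +kernel)

theorem rho_spec : ∀ r < 72, rhoE6 (rhoE6 r) = r ∧ epsE6 (rhoE6 r) * epsE6 r = 1 ∧
    (rhoE6 r = r → epsE6 r = 1 ∧ r ∈ fx) := by decide +kernel

theorem mem_fx {r : Rt chevE6} (h : rho r = r) : (r : ℕ) ∈ fx :=
  ((rho_spec r r.2).2.2 (congrArg Fin.val h)).2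

theorem fx_spec : ∀ r ∈ fx, r < 72 ∧ rhoE6 r = r := by decide +kernel

theorem chkA : (allL fx fun C => allL fx fun a => !isZ (encE6.pair C a - 1) || allL fx fun g =>
    !isZ (encE6.pair C g - 1) || decide (0 < encE6.pair a g) || !allN 72 fun b =>
      !(isZ (encE6.pair g b - 1) && isZ (encE6.pair C b - 1) && isZ (encE6.pair a b) &&
        (!isZ (encE6.pair a g + 1) || Nat.beq (rhoE6 b) b))) = true := by decide +kernel

theorem exA (C a g : Rt chevE6) (hC : rho C = C) (ha : rho a = a) (hg : rho g = g) (h1 : A C a = 1)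
    (h2 : A C g = 1) (h3 : A a g ≤ 0) :
    ∃ b, A g b = 1 ∧ A C b = 1 ∧ A a b = 0 ∧ (A a g = -1 → rho b = b) := by
  have h := chkA
  simp only [Bool.and_eq_true, allN_iff, allL_iff, Bool.or_eq_true, decide_eq_true_eq,
    Nat.beq_eq, isZ_iff, Bool.not_eq_true', ← Bool.not_eq_true, not_forall, sub_eq_zero,
    not_not] at h
  simp only [A_enc encE6_agree] at *
  obtain ⟨b, hb, e⟩ := ((h C (mem_fx hC) a (mem_fx ha)).resolve_left (not_not.mpr h1) g
    (mem_fx hg)).resolve_left (by simp [h2, h3])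
  exact ⟨⟨b, hb⟩, e.1.1.1, e.1.1.2, e.1.2, fun h => Fin.ext (e.2.resolve_left (by simp [h]))⟩

theorem exB (a g : Rt chevE6) (ha : rho a = a) (hg : rho g = g) (h : A a g = 0) :
    ∃ c, rho c = c ∧ A a c = 1 ∧ A c g = 1 := by
  simp only [A_enc encE6_agree] at *
  obtain ⟨c, hc, e⟩ := (by decide +kernel : ∀ a ∈ fx, ∀ g ∈ fx, encE6.pair a g = 0 →
    ∃ c ∈ fx, encE6.pair a c = 1 ∧ encE6.pair c g = 1) a (mem_fx ha) g (mem_fx hg) h
  exact ⟨⟨c, (fx_spec c hc).1⟩, Fin.ext (fx_spec c hc).2, e⟩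

theorem dom (a : Rt chevE6) (ha : rho a = a) (h : a ≠ top chevE6) :
    ∃ r, rho r = r ∧ Pos r ∧ A r a = -1 := by
  simp only [A_enc encE6_agree, pos_iff_le]
  obtain ⟨c, hc, e⟩ := (by decide +kernel : ∀ a ∈ fx, a ≠ 71 →
    ∃ c ∈ fx, 72 ≤ 2 * c ∧ encE6.pair c a = -1) a (mem_fx ha) fun e => h (Fin.ext e)
  exact ⟨⟨c, (fx_spec c hc).1⟩, Fin.ext (fx_spec c hc).2, e⟩

theorem fw_eq (r : Rt chevE6) : fw chevE6 wt (v r) = fE encE6 wt r := fw_v encE6_agree encE6_A rfl wt r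

theorem card_fib (r : Rt chevE6) (h : rho r ≠ r) :
    (Finset.univ.filter fun s => fw chevE6 wt (v s) = fw chevE6 wt (v r)).card = 2 := by
  rw [card_filter_enc (fun s => isZ (fE encE6 wt s - fE encE6 wt r)) _
    fun s => by rw [isZ_iff, sub_eq_zero, fw_eq, fw_eq]]
  exact (by decide +kernel : ∀ r < 72, rhoE6 r ≠ r →
    cntN 72 (fun s => isZ (fE encE6 wt s - fE encE6 wt r)) = 2) r r.2 fun e => h (Fin.ext e)

theorem card_nbr (a : Rt chevE6) (h : rho a = a) :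
    (Finset.univ.filter fun s => A a s = 1).card = 2 * 10 := by
  rw [card_filter_enc (fun s => isZ (encE6.pair a s - 1)) _
    fun s => by rw [isZ_iff, sub_eq_zero, A_enc encE6_agree]]
  exact (by decide +kernel : ∀ a ∈ fx, cntN 72 (fun s => isZ (encE6.pair a s - 1)) = 20) a (mem_fx h)

/-- The exponents. -/
def ex : List (ℕ × ℕ) := [(39, 0), (44, 2), (46, 0), (47, 1), (51, 3), (53, 4), (60, 4), (63, 5),
  (65, 6), (69, 8), (70, 9), (71, 10)]

theorem sum_eq (q : ℕ) :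
    ∑ a ∈ Finset.univ.filter (fun a => rho a = a ∧ 0 < fw chevE6 wt (v a)),
      q ^ (Finset.univ.filter fun β => A a β = 1 ∧ fw chevE6 wt (v a) < 2 * fw chevE6 wt (v β) ∧
        fw chevE6 wt (v β) < fw chevE6 wt (v a)).card = (ex.map fun p => q ^ p.2).sum := by
  refine sum_filter_enc _ _ ex (by decide) (fun r hr => ?_) fun p hp => ?_
  · exact (by decide +kernel : ∀ a ∈ fx, 0 < fE encE6 wt a → a ∈ ex.map Prod.fst) r (mem_fx hr.1)
      (fw_eq r ▸ hr.2)
  · obtain ⟨h1, h2, h3⟩ := (by decide +kernel : ∀ p ∈ ex, p.1 ∈ fx ∧ 0 < fE encE6 wt p.1 ∧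
      cntN 72 (fun s => isZ (encE6.pair p.1 s - 1) && decide (fE encE6 wt p.1 < 2 * fE encE6 wt s) &&
        decide (fE encE6 wt s < fE encE6 wt p.1)) = p.2) p hp
    refine ⟨⟨p.1, (fx_spec _ h1).1⟩, rfl, ⟨Fin.ext (fx_spec _ h1).2, by rw [fw_eq]; exact h2⟩, ?_⟩
    rw [← h3]
    refine card_filter_enc _ _ fun s => ?_
    simp only [Bool.and_eq_true, isZ_iff, sub_eq_zero, decide_eq_true_eq, fw_eq, A_enc encE6_agree,
      and_assoc]

theorem perp (i : Nd chevE6) (hi : (oE6 i : ℕ) ≠ 0) : A (sr i) (top chevE6) = 0 := by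
  rw [A_sr_left]
  exact (by decide +kernel : ∀ i : Fin 6, (oE6 i : ℕ) ≠ 0 → chevE6.cartan i 71 = 0) i hi

/-- The orbit of the highest root. -/
def orb : List (List ℤ × ℕ) :=
  [([1, 0, 0, 0], 0), ([-1, 1, 0, 0], 1), ([0, -1, 2, 0], 2), ([0, 1, -2, 2], 4), ([1, -1, 0, 2], 5),
  ([0, 1, 0, -2], 6), ([-1, 0, 0, 2], 6), ([1, -1, 2, -2], 7), ([-1, 0, 2, -2], 8),
  ([1, 1, -2, 0], 9), ([-1, 2, -2, 0], 10), ([2, -1, 0, 0], 10), ([1, -2, 2, 0], 11),
  ([-2, 1, 0, 0], 11), ([-1, -1, 2, 0], 12), ([1, 0, -2, 2], 13), ([-1, 1, -2, 2], 14),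
  ([1, 0, 0, -2], 15), ([0, -1, 0, 2], 15), ([-1, 1, 0, -2], 16), ([0, -1, 2, -2], 17),
  ([0, 1, -2, 0], 19), ([1, -1, 0, 0], 20), ([-1, 0, 0, 0], 21)]

theorem orb_chk : checkFull 4 cartanF4 [1, 1, 2, 2] 0 orb = true := by decide +kernel

theorem arith {q d n m : ℕ} (hq : IsPrimePow q) (hm : m + q ^ 7 + q ^ 3 = q ^ 10 + q ^ 6 + q ^ 4 + 1)
    (h1 : q * m ≤ d + 2) (h2 : d ∣ n * (q * q ^ 10)) (h3 : n ∣ (q ^ 12 - 1) * m) : q * m ≤ d := by
  by_contra h
  obtain ⟨i, hi⟩ := Nat.exists_eq_add_of_le (not_le.mp h).le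
  have h4 := dvd_gap hi.symm h2 h3
  have h0 : 0 < i := by omega
  have h8 : i ≤ 2 := by omega
  by_cases h9 : q ≤ 2
  · obtain rfl : q = 2 := le_antisymm h9 hq.two_le
    obtain rfl : m = 969 := by omega
    obtain rfl : d = 2 * 969 - i := by omega
    revert h4
    interval_cases i <;> decide +kernel
  · obtain ⟨p, f, hp, -, e⟩ := (isPrimePow_nat_iff q).mp hq
    have h5 : ∀ k, 3 * q ^ k ≤ q ^ (k + 1) := fun k => by
      rw [pow_succ, mul_comm]; exact Nat.mul_le_mul_left _ (by omega)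
    have h6 : q * (q * m) + q ^ 9 + q ^ 5 = q ^ 12 + q ^ 8 + q ^ 6 + q ^ 2 := by
      linear_combination q ^ 2 * hm
    have h7 : q * m + q ^ 8 + q ^ 4 = q ^ 11 + q ^ 7 + q ^ 5 + q := by linear_combination q * hm
    have h10 : d ∣ i * (i * (q ^ 12 - 1)) :=
      dvd_of_prime_pow hp (m := m) (e := 10) (by rw [e, hi]) h0 (by omega) (by rwa [e])
    have h11 : q * (q * m) = q * d + q * i := by rw [hi, mul_add]
    have h12 : q * i ≤ 2 * q := by nlinarith
    have h13 := h5 1; have := h5 2; have := h5 3; have := h5 4; have := h5 5; have := h5 6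
    have := h5 7; have := h5 8; have := h5 9; have := h5 10; have := h5 11
    norm_num at *
    obtain ⟨R, hR⟩ : ∃ R, q ^ 12 - 1 = q * d + R := ⟨q ^ 12 - 1 - q * d, by omega⟩
    rw [hR, mul_add, mul_add] at h10
    have h14 := (Nat.dvd_add_right (Dvd.intro_left (i * (i * q)) (by ring))).mp h10
    have h15 : i * (i * R) ≤ 2 * (2 * R) := Nat.mul_le_mul h8 (Nat.mul_le_mul_right _ h8)
    clear h10 h4 h3 h2 e hp hm
    generalize q * (q * m) = A at *
    generalize q * m = B at *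
    generalize q * d = C at *
    generalize q * i = D at *
    have h16 : 0 < R := by omega
    have := Nat.le_of_dvd (by positivity) h14
    omega

/-- For the twisted group ²E₆(q), realised over the field with q² elements (q a prime power), every irreducible complex representation of degree at least 2 has degree at least q(q⁶ − q³ + 1)(q⁴ + 1). -/
theorem result {K : Type*} [Field K] [Fintype K] (q : ℕ) (hq : IsPrimePow q) (hK : Fintype.card K = q ^ 2) :
    (∀ (k : ℕ) (ρ : Representation ℂ (Cfsg.Lie.twistedE6 K q) (Fin k → ℂ)), ρ.IsIrreducible → 2 ≤ k → q * (q ^ 6 - q ^ 3 + 1) * (q ^ 4 + 1) ≤ k) := by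
  intro k ρ hρ hk
  obtain ⟨S, φ, hφ, h, hT⟩ := E6.exists_data hq hK
  have h2 := hq.two_le
  let j := Subgroup.inclusion (E6.le_group (K := K) (q := q))
  have hj : Function.Injective j := Subgroup.inclusion_injective _
  have hr₀ : j.range = _ := (E6.tw S φ hφ).data.range_inclusion _ hT
  have hs := (E6.isSimpleGroup S φ hφ (E6.two_lt hq hK) j hj hr₀).1
  have hσ : ∀ r < chevE6.nroots, ∀ t, (E6.tw S φ hφ).σ (xC chevE6 K r t) =
      xC chevE6 K (rhoE6 r) (epsE6 r * φ t) := (E6.tw S φ hφ).hσ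
  let Y : TwSys chevE6 (xC chevE6 K) := twSys2 S (σ := (E6.tw S φ hφ).σ) (φ := φ) comb
    (fun r => ⟨epsE6 r, fun e => by rw [((rho_spec r r.2).2.2 (congrArg Fin.val e)).1]; simp,
      hσ r r.2⟩) (fun r t ht => (E6.tw S φ hφ).σ_hh r.2 ht) (fun r => Fin.ext (rho_spec r r.2).1) hφ
    (fun r t => by
      rw [hσ r r.2, hσ _ (rho_lt r r.2), (rho_spec r r.2).1, map_mul, map_intCast, hφ, ← mul_assoc, ← Int.cast_mul,
        (rho_spec r r.2).2.1, Int.cast_one, one_mul])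
    (by
      obtain ⟨t, ht⟩ := exists_trace_ne_zero (d := 2) h2 (by omega) hK
      rw [Finset.sum_range_succ, Finset.sum_range_one, pow_zero, pow_one, pow_one, ← h] at ht
      exact ⟨t, ht⟩)
    (by
      obtain ⟨t, ht, e⟩ := exists_pow_ne_one (K := K) (n := 2 * (q - 1)) (by omega) (by
        obtain ⟨r, rfl⟩ : ∃ r, q = r + 2 := ⟨q - 2, by omega⟩
        rw [hK, Nat.lt_sub_iff_add_lt, show r + 2 - 1 = r + 1 from rfl]; nlinarith)
      have h3 : φ t ≠ 0 := by simpa using ht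
      refine ⟨φ t / t, by rw [map_div₀, hφ]; field_simp, fun e' => e ?_⟩
      rw [← e', h, mul_comm, pow_mul, pow_sub₀ _ ht (by omega), pow_one, div_eq_mul_inv])
  have hr : ∀ g, g ∈ j.range ↔ Y.σ g = g := fun g => by
    rw [hr₀, E6.T_eq_Fix]; rfl
  have : Fintype Y.F := Fintype.ofFinite _
  have hF : Fintype.card Y.F = q := by
    rw [← Nat.card_eq_fintype_card, ← card_fixed (by omega) hK]
    exact Nat.card_congr (Equiv.subtypeEquivRight fun t => by rw [Y.mem_F, ← h]; rfl)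
  have hK' : Nat.card K = Fintype.card Y.F ^ 2 := by rw [hF, Nat.card_eq_fintype_card, hK]
  have htop : Y.ρ (top chevE6) = top chevE6 := Fin.ext (fx_spec 71 (by decide)).2
  have hi := tw_index_dvd (E6.tw S φ hφ) Y hj hr₀ hr htop _ (E6.orderOf_wJ S φ hφ) (q := q)
    (c := [1, 1, 2, 2]) (fun a => by
      rw [E6.card_UJ S φ hφ h hK (by omega)]; fin_cases a <;> rfl) isCartanForF4 orb_chk perp
  have e1 : 1 ≤ q := by omega
  have e2 : 1 ≤ q ^ 12 := Nat.one_le_pow _ _ e1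
  have e3 : q ^ 3 ≤ q ^ 6 := Nat.pow_le_pow_right e1 (by omega)
  have hm : (q ^ 6 - q ^ 3 + 1) * (q ^ 4 + 1) + q ^ 7 + q ^ 3 = q ^ 10 + q ^ 6 + q ^ 4 + 1 := by
    zify [e3]; ring
  rw [mul_assoc]
  rcases tw_dichotomy Y hj hr S.st S.nd hK' card_fib card_nbr htop dom (b := ⟨70, by decide⟩)
    (Fin.ext (fx_spec 70 (by decide)).2) (by rw [A_enc encE6_agree]; decide +kernel) ρ hk with
    h3 | ⟨h3, h4⟩
  · rw [hF] at h3
    refine Nat.le_of_mul_le_mul_left (le_trans ?_ h3) (by omega : 0 < q)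
    have h5 : ∀ k, 2 * q ^ k ≤ q ^ (k + 1) := fun k => by
      rw [pow_succ, mul_comm]; exact Nat.mul_le_mul_left _ h2
    have h7 : 2 * (q ^ 2 - 1) * q ^ 10 + 2 * q ^ 10 = 2 * q ^ 12 := by
      have : 1 ≤ q ^ 2 := Nat.one_le_pow _ _ (by omega)
      zify [this]; ring
    generalize (q ^ 6 - q ^ 3 + 1) * (q ^ 4 + 1) = m at hm ⊢
    have h6 : q * (q * m) + q ^ 9 + q ^ 5 = q ^ 12 + q ^ 8 + q ^ 6 + q ^ 2 := by
      linear_combination q ^ 2 * hm
    have := h5 2; have := h5 3; have := h5 4; have := h5 5; have := h5 6; have := h5 7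
    have := h5 8; have := h5 9; have := h5 10; have := h5 11
    norm_num at *
    omega
  · have h5 := tw_sum_le Y hj hr S.st S.nd hK' card_fib card_nbr
      (Y.heis_big hj hr S.nd S.st exA exB) ρ h4
    rw [hF] at h3 h5 hi
    replace h5 := (Nat.mul_le_mul_left (q - 1) (sum_eq q).ge).trans h5
    refine arith hq hm (le_trans (le_of_eq ?_) (Nat.add_le_add_right h5 2)) h3
      (hi.trans (dvd_of_eq ?_))
    · simp only [ex, List.map_cons, List.map_nil, List.sum_cons, List.sum_nil]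
      zify [e1, e3]
      ring
    · simp only [orb, List.map_cons, List.map_nil, List.sum_cons, List.sum_nil]
      zify [e1, e2, e3]
      ring

end Cfsg.Agent.S2341
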