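import Cfsg.Statements.S5740
import Mathlib
import Cfsg.Agent.Lang.TwE62Loc

set_option autoImplicit false
open Cfsg

namespace Cfsg.Agent.S5740

/-- the word for the torus `13 × 3` -/
def l39 : TE6.Wd := ([2, 3, 0, 2, 1, 0] : List (Fin 6))
/-- the word for the torus `17 × 3` -/
def l51 : TE6.Wd := ([3, 2, 1] : List (Fin 6))
/-- the word for the torus `19 × 3` -/
def l57 : TE6.Wd := ([3, 2, 1, 0] : List (Fin 6))

/-- In the simple group ²E₆(2) (the twisted group of type E₆ over the field with 4 elements), for every prime p > 5 no p-local subgroup is maximal: the normaliser of a non-trivial p-subgroup is never a maximal subgroup. -/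
theorem result {K : Type*} [Field K] [Fintype K] (hK : Fintype.card K = 4) (p : ℕ) (hp : p.Prime) (h5 : 5 < p)
    (P : Subgroup (Cfsg.Lie.twistedE6 K 2)) (hP : IsPGroup p P) (hP1 : P ≠ ⊥) :
    ¬ IsCoatom (Subgroup.normalizer (P : Set (Cfsg.Lie.twistedE6 K 2))) := by
  have := TE6.charP_closure hK
  have := TE6.simple_G hK
  have hG := TE6.card_G hK
  have : Finite (Cfsg.Lie.twistedE6 K 2) := Nat.finite_of_card_ne_zero (by rw [hG]; norm_num)
  have key := TE6.exists_model hK (algebraMap K (AlgebraicClosure K))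
  obtain ⟨σ, j, h, ha⟩ := key l39
  have h13 := h.reg ha.w (p := 13) (N := 39) (r := 7) (s := 371) (y := [7, 12, 4, 5, 8, 1])
    (y' := [4, 0, 6, 0, 5, 1]) (U := [[-16, 3, 4, 9, 2, -8], [6, -6, 18, 21, 9, 3],
      [-4, -9, -38, -27, -19, -2], [-14, -12, -16, -36, -8, -7], [10, 3, 17, 9, -11, 5],
      [7, 6, 8, 18, 4, -16]]) (w := ([([3], 2)] : List (List (Fin 6) × Fin 6))) (by decide +kernel)
    (by rw [hG]; norm_num)
  have := Fact.mk hp
  obtain ⟨n, hn⟩ := IsPGroup.iff_card.1 hP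
  have h1 : p ∣ Nat.card (Cfsg.Lie.twistedE6 K 2) := (dvd_pow_self p fun h0 => hP1
    (Subgroup.card_eq_one.1 (by rw [hn, h0, pow_zero]))).trans (hn ▸ P.card_subgroup_dvd_card)
  have h2 : p ≤ 19 := by
    simp only [hG, hp.dvd_mul] at h1
    rcases h1 with ((((((h1 | h1) | h1) | h1) | h1) | h1) | h1) | h1 <;>
      first
        | exact (Nat.le_of_dvd (by norm_num) (hp.dvd_of_dvd_pow h1)).trans (by norm_num)
        | exact (Nat.le_of_dvd (by norm_num) h1).trans (by norm_num)
  interval_cases p <;> try norm_num at hp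
  · obtain ⟨σ, j, h, ha⟩ := key TE6.l147
    exact h.seven ha (by rw [hG]; norm_num) h13.1 hP hP1
  · obtain ⟨σ, j, h, ha⟩ := key TE6.l33
    exact h.eleven ha.w (by rw [hG]; norm_num) hP hP1
  · exact h13.2 P hP hP1
  · obtain ⟨σ, j, h, ha⟩ := key l51
    exact (h.reg ha.w (p := 17) (N := 51) (r := 5) (s := 245) (y := [0, 15, 9, 14, 1, 0])
      (y' := [0, 0, 3, 0, 1, 0]) (U := [[-34, -6, -14, -18, -7, -17], [0, -12, 6, 15, 3, 0],
        [0, -3, -24, -9, -12, 0], [0, -15, -18, -45, -9, 0], [0, 9, 21, 27, -15, 0],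
        [-17, -12, -28, -36, -14, -34]]) (w := ([([], 3)] : List (List (Fin 6) × Fin 6)))
      (by decide +kernel) (by rw [hG]; norm_num)).2 P hP hP1
  · obtain ⟨σ, j, h, ha⟩ := key l57
    exact (h.reg ha.w (p := 19) (N := 57) (r := 7) (s := 347) (y := [10, 8, 3, 12, 6, 1])
      (y' := [4, 0, 5, 0, 3, 1]) (U := [[-20, 6, 14, 18, 7, -10], [2, -12, 10, 21, 5, 1],
        [-8, -9, -40, -27, -20, -4], [-6, -21, -30, -63, -15, -3], [-10, 3, 7, 9, -25, -5],
        [17, 12, 28, 36, 14, -20]]) (w := ([([], 3)] : List (List (Fin 6) × Fin 6)))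
      (by decide +kernel) (by rw [hG]; norm_num)).2 P hP hP1

end Cfsg.Agent.S5740
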