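import Cfsg.Statements.S3104
import Mathlib
import Cfsg.Agent.GHE.A8
import Cfsg.Agent.GHE.S6
import Cfsg.Agent.GHE.Five
import Cfsg.Agent.KSG.SymEmbed
import Cfsg.Agent.S3103

set_option autoImplicit false
open Cfsg

namespace Cfsg.Agent.S3104

open Subgroup Cfsg.Agent.PLocal.Amb GHE in
theorem no_sub {X : Type*} [Group X] [Finite X] (hC : 𝐂[pCore 2 X] ≤ pCore 2 X)
    (hr : SectionalPRankLE 2 4 X) (ι : Equiv.Perm (Fin 6) →* X ⧸ pCore 2 X)
    (hi : Function.Injective ι) : False := by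
  have : Fact (Nat.Prime 2) := ⟨Nat.prime_two⟩
  have h2 := Grp.pCore_isPGroup 2 X
  have hK : actKer (pCore 2 X) (Sq (pCore 2 X)) ≤ pCore 2 X := Grp.le_pCore inferInstance fun x => by
    obtain ⟨j, hj⟩ := PLocal.exists_pow_mem_centralizer_of_frattini h2 (x := x)
      (by rw [normalizer_eq_top]; trivial) fun k hk => Sq_le_frattini h2 (x.2 k hk)
    obtain ⟨i, hi⟩ := h2 ⟨_, hC hj⟩
    exact ⟨j + i, Subtype.ext (by
      rw [pow_add, pow_mul]; exact congrArg (Subtype.val : pCore 2 X → X) hi)⟩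
  obtain ⟨Y, π, hs, hle, hk⟩ := exists_restrict _ ι.range (MonoidHom.ofInjective hi).symm
  refine no_s6 (FGS.SecRank.subgroup hr Y) hs (hk ▸ isPGroup_subgroupOf h2 Y) fun g hg => ?_
  rw [hk] at hg ⊢
  refine hK fun r hr => ?_
  have := mem_map_of_mem Y.subtype (hg ⟨r, hle hr⟩ hr)
  rwa [← Sq_map, map_subgroupOf_of_le hle] at this

/-- Let X be a finite nonsolvable 2-constrained group with no nontrivial normal subgroup of odd order such that O₂(X) has sectional 2-rank at most 4, and write Q for X/O₂(X). Then Q is isomorphic to the projective special linear group of dimension 3 over the field with 2 elements, to an alternating group of degree n with 5 ≤ n ≤ 8, to a symmetric group of degree n with 5 ≤ n ≤ 7, or else O₃(Q) has order 3 and Q/O₃(Q) is isomorphic to the alternating or the symmetric group of degree 5 (so Q is the direct product of a group of order 3 with the alternating group of degree 5, or an extension of that direct product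 by a group of order 2). If moreover X itself has sectional 2-rank at most 4, then Q is not isomorphic to the symmetric group of degree 6 or 7 nor to the alternating group of degree 8. -/
theorem result {X : Type*} [Group X] [Finite X] (hns : ¬ Group.IsSolvable X) (hc : Cfsg.IsPConstrained 2 X) (hO : Cfsg.oddCore X = ⊥)
    (h4 : Cfsg.SectionalPRankLE 2 4 ↥(Cfsg.pCore 2 X)) :
    ((∃ (F : Type) (_ : Field F) (_ : Fintype F), Fintype.card F = 2 ∧
          Nonempty (X ⧸ Cfsg.pCore 2 X ≃* Matrix.ProjectiveSpecialLinearGroup (Fin 3) F)) ∨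
        (∃ n : ℕ, 5 ≤ n ∧ n ≤ 8 ∧ Nonempty (X ⧸ Cfsg.pCore 2 X ≃* ↥(alternatingGroup (Fin n)))) ∨
        (∃ n : ℕ, 5 ≤ n ∧ n ≤ 7 ∧ Nonempty (X ⧸ Cfsg.pCore 2 X ≃* Equiv.Perm (Fin n))) ∨
        (Nat.card ↥(Cfsg.pCore 3 (X ⧸ Cfsg.pCore 2 X)) = 3 ∧
          (Nonempty ((X ⧸ Cfsg.pCore 2 X) ⧸ Cfsg.pCore 3 (X ⧸ Cfsg.pCore 2 X) ≃* ↥(alternatingGroup (Fin 5))) ∨
            Nonempty ((X ⧸ Cfsg.pCore 2 X) ⧸ Cfsg.pCore 3 (X ⧸ Cfsg.pCore 2 X) ≃* Equiv.Perm (Fin 5))))) ∧
      (Cfsg.SectionalPRankLE 2 4 X →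
        ¬ (Nonempty (X ⧸ Cfsg.pCore 2 X ≃* Equiv.Perm (Fin 6)) ∨ Nonempty (X ⧸ Cfsg.pCore 2 X ≃* Equiv.Perm (Fin 7)) ∨
            Nonempty (X ⧸ Cfsg.pCore 2 X ≃* ↥(alternatingGroup (Fin 8))))) := by
  have : Fact (Nat.Prime 2) := ⟨Nat.prime_two⟩
  refine ⟨?_, fun hr h => ?_⟩
  · obtain ⟨f, hf⟩ := S3103.result hc hO h4
    have E : GHE.Emb ((alternatingGroup (Fin 8)).subtype.comp f) :=
      ⟨Subtype.val_injective.comp hf, fun q => (f q).2⟩
    have := (Grp.pCore_isPGroup 2 X).isNilpotent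
    exact (E.main (fun a => hns ((Group.isSolvable_iff_subgroup_quotient _).2 ⟨inferInstance, a⟩))
      (Grp.pCore_quotient_pCore 2 X)).imp_left fun a => ⟨ZMod 2, _, _, ZMod.card 2, a⟩
  · have hC := PLocal.PCA.charP_of_isPConstrained hc hO
    rcases h with ⟨⟨e⟩⟩ | ⟨⟨e⟩⟩ | ⟨⟨e⟩⟩
    · exact no_sub hC hr e.symm.toMonoidHom e.symm.injective
    · exact no_sub hC hr (e.symm.toMonoidHom.comp (Equiv.Perm.viaEmbeddingHom Fin.castSuccEmb))
        (e.symm.injective.comp (Equiv.Perm.viaEmbeddingHom_injective _))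
    · obtain ⟨φ, hφ⟩ := KSG.exists_perm_alt_hom_injective (α := Fin 6) (β := Fin 8) (by simp)
      exact no_sub hC hr (e.symm.toMonoidHom.comp φ) (e.symm.injective.comp hφ)

end Cfsg.Agent.S3104
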