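import Cfsg.Statements.S3307
import Mathlib
import Cfsg.Agent.S3099
import Cfsg.Agent.GW.BTools
import Cfsg.Agent.FGS.RankOneStruct2
import Cfsg.Agent.Inv.FocalTools
import Cfsg.Agent.Inv.DihFusion
import Cfsg.Agent.Inv.RankOne
import Cfsg.Agent.Class.SL2Sylow

set_option autoImplicit false
open Cfsg

namespace Cfsg.Agent.S3307

open Subgroup Cfsg.Agent.PLocal.Amb

theorem solvable_of_npc' {G : Type*} [Group G] [Finite G] (h : HasNormalPComplement 2 G) :
    Group.IsSolvable G := by
  have := GW.BT.solvable_of_npc (Transfer.hasNormalPComplement_top_iff.2 h)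
  exact Group.isSolvable_of_surjective (f := (topEquiv (G := G)).toMonoidHom) topEquiv.surjective

theorem q8_unique : ∀ x y : QuaternionGroup 2, x * x = 1 → y * y = 1 → x ≠ 1 → y ≠ 1 → x = y := by
  decide



/-- Let G be a finite nonsolvable group whose Sylow 2-subgroups are generalized quaternion and in which any two distinct Sylow 2-subgroups intersect in a cyclic group. Then the Sylow 2-subgroups are quaternion of order 8, and G has a normal subgroup G₁ of odd index containing O(G) (the largest normal subgroup of odd order) with G₁/O(G) isomorphic to SL(2,q) for some prime power q > 3 with q ≡ 3 or 5 mod 8. -/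
theorem result {G : Type*} [Group G] [Finite G] (hns : ¬ Group.IsSolvable G)
    (hQ : ∀ S : Sylow 2 G, ∃ n : ℕ, Nonempty (↥(S : Subgroup G) ≃* QuaternionGroup (2 ^ (n + 1))))
    (hC : ∀ S T : Sylow 2 G, S ≠ T → IsCyclic ↥((S : Subgroup G) ⊓ (T : Subgroup G))) :
    (∀ S : Sylow 2 G, Nonempty (↥(S : Subgroup G) ≃* QuaternionGroup 2)) ∧
    ∃ (G₁ : Subgroup G) (_ : G₁.Normal) (_ : ((Cfsg.oddCore G).subgroupOf G₁).Normal),
      Odd G₁.index ∧ Cfsg.oddCore G ≤ G₁ ∧
      ∃ (F : Type) (_ : Field F) (_ : Fintype F), (Fintype.card F % 8 = 3 ∨ Fintype.card F % 8 = 5) ∧ 3 < Fintype.card F ∧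
        Nonempty (↥G₁ ⧸ (Cfsg.oddCore G).subgroupOf G₁ ≃* Matrix.SpecialLinearGroup (Fin 2) F) := by
  have h8 : ∀ S : Sylow 2 G, Nonempty (↥(S : Subgroup G) ≃* QuaternionGroup 2) := by
    intro S
    obtain ⟨n, ⟨e⟩⟩ := hQ S
    rcases n with _ | n
    · exact ⟨e⟩
    refine absurd (solvable_of_npc' (Transfer.hasNormalPComplement_of_local S
      fun B hB _ g hg hc => ?_)) hns
    by_cases hcyc : IsCyclic B
    · exact Inv.mem_centralizer_of_isPGroup_mulAut
        (FGS.FrobCompl.isPGroup_mulAut_of_isCyclic (S.isPGroup'.to_le hB)) hg hc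
    · have h1 : g • S = S := by
        by_contra hne
        have := hC _ _ hne
        refine hcyc (isCyclic_of_le (H' := ((g • S : Sylow 2 G) : Subgroup G) ⊓ S) (le_inf ?_ hB))
        rw [coe_smul_sylow, ← cj_of_mem_normalizer hg]
        exact cj_mono g hB
      refine centralizer_anti hB (Inv.mem_centralizer_of_isPGroup_mulAut
        (Inv.AutCyc.isPGroup_mulAut_congr e (Inv.AutCyc.isPGroup_mulAut_quaternion (by omega)))
        (Sylow.smul_eq_iff_mem_normalizer.1 h1) hc)
  refine ⟨h8, ?_⟩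
  obtain ⟨S⟩ : Nonempty (Sylow 2 G) := inferInstance
  obtain ⟨e⟩ := h8 S
  have hS8 : Nat.card S = 8 := by
    rw [Nat.card_congr e.toEquiv, Nat.card_eq_fintype_card, QuaternionGroup.card]
  have h16 : ¬ 16 ∣ Nat.card G := by
    intro h
    have := (isSyl_top S).not_dvd_relIndex
    rw [relIndex_top_right] at this
    rw [← (S : Subgroup G).card_mul_index, hS8] at h
    omega
  have huniq : ∀ T : Subgroup G, IsPGroup 2 T → ∀ x ∈ T, ∀ y ∈ T, orderOf x = 2 → orderOf y = 2 →
      x = y := by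
    intro T hT x hx y hy hx2 hy2
    obtain ⟨P, hP⟩ := hT.exists_le_sylow
    obtain ⟨f⟩ := h8 P
    have := q8_unique (f ⟨x, hP hx⟩) (f ⟨y, hP hy⟩)
      (by rw [← map_mul, EmbeddingLike.map_eq_one_iff]; exact Subtype.ext (Inv.mul_self_of_orderOf_two hx2))
      (by rw [← map_mul, EmbeddingLike.map_eq_one_iff]; exact Subtype.ext (Inv.mul_self_of_orderOf_two hy2))
      (by rw [Ne, EmbeddingLike.map_eq_one_iff]
          exact fun h => Inv.ne_one_of_orderOf_two hx2 (congrArg Subtype.val h))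
      (by rw [Ne, EmbeddingLike.map_eq_one_iff]
          exact fun h => Inv.ne_one_of_orderOf_two hy2 (congrArg Subtype.val h))
    exact congrArg Subtype.val (f.injective this)
  obtain ⟨X, hXn, hX1, hXp⟩ := FGS.FrobCompl.exists_perfect_normal hns
  have hperf : Group.IsPerfect X := Subgroup.isPerfect_iff.2 hXp
  have hXns : ¬ Group.IsSolvable X := by
    have := (Subgroup.nontrivial_iff_ne_bot X).2 hX1
    exact Group.IsPerfect.not_isSolvable X
  have hSX : (S : Subgroup G) ≤ X := by
    by_contra hle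
    have h1 : IsSyl 2 ((S : Subgroup G) ⊓ X) X :=
      (isSyl_top S).inf_of_le le_top (by rw [normalizer_eq_top])
    obtain ⟨P, hP⟩ := h1.exists_sylow
    have h2 : IsCyclic ((S : Subgroup G) ⊓ X : Subgroup G) := by
      refine (Inv.cyclic_or_quaternion_of_unique_involution' h1.pgrp (huniq _ h1.pgrp)).resolve_right ?_
      rintro ⟨n, ⟨f⟩⟩
      have h3 := Grp.card_lt_of_lt (inf_lt_left.2 hle)
      rw [hS8, Nat.card_congr f.toEquiv, Nat.card_eq_fintype_card, QuaternionGroup.card] at h3
      have := Nat.one_le_two_pow (n := n)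
      omega
    have h3 : IsCyclic P := by
      rw [hP]; exact (subgroupOfEquivOfLe inf_le_right).isCyclic.2 h2
    exact hXns (solvable_of_npc' (Inv.hasNormalPComplement_of_cyclic_inf P
      (isCyclic_of_le inf_le_right)))
  have hrank : PRankLE 2 1 X := by
    by_contra hr
    obtain ⟨U, -, hU⟩ := Misc.not_pRankLE_two_one_iff.1 hr
    obtain ⟨x, hx, y, hy, hx1, hy1, hxy⟩ := Inv.Klein.exists_pair hU
    exact hxy (huniq U (IsPGroup.of_card (n := 2) hU.card_four) x hx y hy
      (Inv.Klein.orderOf_eq hU hx hx1) (Inv.Klein.orderOf_eq hU hy hy1))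
  have hdvd : Nat.card (X ⧸ oddCore X) ∣ Nat.card G :=
    (card_quotient_dvd_card _).trans (card_subgroup_dvd_card X)
  refine ⟨X ⊔ oddCore G, inferInstance, inferInstance, ?_, le_sup_right, ?_⟩
  · have h1 := (isSyl_top S).not_dvd_relIndex
    rw [relIndex_top_right] at h1
    rw [← Nat.not_even_iff_odd, even_iff_two_dvd]
    exact fun h2 => h1 (h2.trans (index_dvd_of_le (hSX.trans le_sup_left)))
  rcases S3099.result hperf hrank (by
      rw [even_iff_two_dvd]
      exact Dvd.dvd.trans (by rw [hS8]; norm_num) (card_dvd_of_le hSX)) with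
    ⟨F, _, _, hodd, h3, ⟨f⟩⟩ | ⟨hc, ⟨f⟩, -⟩
  · refine ⟨F, inferInstance, inferInstance, ?_, h3, ⟨?_⟩⟩
    · rw [Nat.card_congr f.toEquiv, Class.card_SL2] at hdvd
      by_contra hq
      refine h16 (Dvd.dvd.trans (Dvd.dvd.mul_left ?_ _) hdvd)
      obtain ⟨k, hk⟩ : ∃ k, Fintype.card F = 8 * k + 1 ∨ Fintype.card F = 8 * k + 7 :=
        ⟨Fintype.card F / 8, by have := Nat.odd_iff.1 hodd; omega⟩
      rcases hk with hk | hk <;> rw [hk]
      · exact ⟨4 * k * k + k, by rw [Nat.sub_eq_iff_eq_add (Nat.one_le_iff_ne_zero.2 (by positivity))]; ring⟩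
      · exact ⟨4 * k * k + 7 * k + 3, by
          rw [Nat.sub_eq_iff_eq_add (Nat.one_le_iff_ne_zero.2 (by positivity))]; ring⟩
    · exact (QuotientGroup.quotientInfEquivProdNormalQuotient X (oddCore G)).symm.trans
        ((QuotientGroup.quotientMulEquivOfEq
          (Grp.pPrimeCore_eq_subgroupOf_of_normal 2 X).symm).trans f)
  · exfalso
    refine h16 (Dvd.dvd.trans ?_ hdvd)
    rw [card_eq_card_quotient_mul_card_subgroup (center _), hc, Nat.card_congr f.toEquiv,
      nat_card_alternatingGroup, Nat.card_fin]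
    decide

end Cfsg.Agent.S3307
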