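import Cfsg.Statements.S3021
import Mathlib

set_option autoImplicit false
open Cfsg

namespace Cfsg.Agent.S3021

theorem eq_of_normalizer_inf_eq {G : Type*} [Group G] [Finite G] {p : ℕ} [Fact p.Prime]
    (H T : Subgroup G) (hT : IsPGroup p T) (hHT : H ≤ T)
    (h : T ⊓ Subgroup.normalizer (H : Set G) = H) : H = T := by
  haveI : Group.IsNilpotent T := hT.isNilpotent
  by_contra hne
  have hlt : H.subgroupOf T < ⊤ := by
    rw [lt_top_iff_ne_top]
    intro htop
    exact hne (le_antisymm hHT (Subgroup.subgroupOf_eq_top.mp htop))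
  have hnc := normalizerCondition_of_isNilpotent (G := T) _ hlt
  obtain ⟨x, hx, hxH⟩ := SetLike.exists_of_lt hnc
  apply hxH
  rw [Subgroup.mem_subgroupOf, ← h]
  refine ⟨x.2, ?_⟩
  rw [← Subgroup.subgroupOf_normalizer_eq hHT] at hx
  exact Subgroup.mem_subgroupOf.mp hx

/-- Let G be a finite group, p a prime and H a p-subgroup of G that is extremely closed (for every g, the subgroup generated by H and g H g⁻¹ meets N_G(H) exactly in H). Then every p-subgroup Q of G containing H has N_G(Q) ≤ N_G(H); in particular every Sylow p-subgroup P of G containing H normalizes H, and H is strongly closed in P with respect to G. -/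
theorem result {G : Type*} [Group G] [Finite G] {p : ℕ} [Fact p.Prime] (H : Subgroup G) (hHp : IsPGroup p H) (hcl : Cfsg.IsExtremelyClosed H) : (∀ Q : Subgroup G, IsPGroup p Q → H ≤ Q → Subgroup.normalizer (Q : Set G) ≤ Subgroup.normalizer (H : Set G)) ∧ ∀ P : Sylow p G, H ≤ (P : Subgroup G) → (P : Subgroup G) ≤ Subgroup.normalizer (H : Set G) ∧ Cfsg.IsStronglyClosed H (P : Subgroup G) := by
  have key : ∀ Q : Subgroup G, IsPGroup p Q → H ≤ Q →
      Subgroup.normalizer (Q : Set G) ≤ Subgroup.normalizer (H : Set G) := by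
    intro Q hQ hHQ g hg
    have hle : H.map (MulAut.conj g).toMonoidHom ≤ Q := by
      rintro _ ⟨x, hx, rfl⟩
      exact (Subgroup.mem_normalizer_iff.mp hg x).mp (hHQ hx)
    have hT : IsPGroup p ↥(H ⊔ H.map (MulAut.conj g).toMonoidHom) :=
      hQ.to_le (sup_le hHQ hle)
    have heq := eq_of_normalizer_inf_eq H _ hT le_sup_left (hcl g)
    apply Subgroup.mem_normalizer_fintype
    intro x hx
    have : g * x * g⁻¹ ∈ H ⊔ H.map (MulAut.conj g).toMonoidHom :=
      Subgroup.mem_sup_right ⟨x, hx, rfl⟩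
    rw [← heq] at this
    exact this
  refine ⟨key, fun P hP => ?_⟩
  have hPN : (P : Subgroup G) ≤ Subgroup.normalizer (H : Set G) :=
    Subgroup.le_normalizer.trans (key P P.isPGroup' hP)
  refine ⟨hPN, hP, fun x hx g hg => ?_⟩
  rw [← hcl g]
  exact ⟨Subgroup.mem_sup_right ⟨x, hx, rfl⟩, hPN hg⟩


end Cfsg.Agent.S3021
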