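import Cfsg.Statements.S1552
import Cfsg.Agent.Spor.M24OrbS

set_option autoImplicit false
open scoped Pointwise
open Cfsg

namespace Cfsg.Agent.S1552

open Cfsg.Agent.Spor Cfsg.Agent.Spor.M24C Cfsg.Agent.Comp
open scoped Pointwise

/-- A sextet stabiliser has four orbits on the 1771 sextets, of sizes 1, 90, 240, 1440; and the stabiliser is a maximal proper subgroup. -/
theorem result (S : Finset (Finset Cfsg.GolayPt)) (hS : S ∈ Cfsg.sextets) : ∃ X₁ ∈ Cfsg.sextets, ∃ X₂ ∈ Cfsg.sextets, ∃ X₃ ∈ Cfsg.sextets, (MulAction.orbit ↥(MulAction.stabilizer Cfsg.M24 S) X₁).ncard = 90 ∧ (MulAction.orbit ↥(MulAction.stabilizer Cfsg.M24 S) X₂).ncard = 240 ∧ (MulAction.orbit ↥(MulAction.stabilizer Cfsg.M24 S) X₃).ncard = 1440 ∧ Cfsg.sextets = {S} ∪ MulAction.orbit ↥(MulAction.stabilizer Cfsg.M24 S) X₁ ∪ MulAction.orbit ↥(MulAction.stabilizer Cfsg.M24 S) X₂ ∪ MulAction.orbit ↥(MulAction.stabilizer Cfsg.M24 S) X₃ ∧ IsCoatom (MulAction.stabilizer Cfsg.M24 S) := by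
  obtain ⟨x, -, y, hy, z, hz, w, hw, h1, h2, h3, h4, h5⟩ := (orbS_sextets hS).four
  refine ⟨y, hy, z, hz, w, hw, h2, h3, h4, ?_, ?_⟩
  · rw [← orbit_eq_singleton_of_cover h1 (S := MulAction.orbit (MulAction.stabilizer M24 S) y ∪
      MulAction.orbit (MulAction.stabilizer M24 S) z ∪
      MulAction.orbit (MulAction.stabilizer M24 S) w) (by
        rw [← Set.union_assoc, ← Set.union_assoc, ← h5]; exact hS) (by
        rintro ((h | h) | h)
        · exact not_mem_orbit_of_ncard (by rw [h2]; norm_num) h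
        · exact not_mem_orbit_of_ncard (by rw [h3]; norm_num) h
        · exact not_mem_orbit_of_ncard (by rw [h4]; norm_num) h)]
    exact h5
  · exact OrbDec.isCoatom (N := 1771) (by rw [orbit_sextet hS]; exact orbS_sextets hS)
      (by rw [orbit_sextet hS, ncard_sextets]) (by norm_num) (by decide +kernel)

end Cfsg.Agent.S1552
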