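import Cfsg.Statements.S1563
import Cfsg.Agent.Spor.M24Six

set_option autoImplicit false
open scoped Pointwise
open Cfsg

namespace Cfsg.Agent.S1563

open Cfsg.Agent.Comp Cfsg.Agent.Comp.Idx Cfsg.Agent.Spor Cfsg.Agent.Spor.M24C



/-- The stabiliser of a pair of points (setwise) is a maximal proper subgroup of the group of the length-24 code. -/
theorem result (s : Finset Cfsg.GolayPt) (hs : s.card = 2) : IsCoatom (MulAction.stabilizer Cfsg.M24 s) := by
  have h0 : (setOf' 3).card = 2 := by rw [card_setOf']; decide +kernel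
  obtain ⟨g, rfl⟩ := exists_smul_finset (s := setOf' 3) (by omega) (h0.trans hs.symm)
  refine isCoatom_stabilizer_smul g (isCoatom_stabilizer_of_rel (setOf' 3) (fun t => t.card = 2)
    (fun t => ⟨fun ht => exists_smul_finset (by omega) (h0.trans ht.symm), ?_⟩)
    (fun s t => (s ∩ t).card) card_smul_inter_smul ?_ ⟨setOf' 5, ?_, ?_⟩ ?_)
  · rintro ⟨k, rfl⟩; rw [Finset.card_smul_finset, h0]
  · intro t t' ht ht' h
    have hu : ∀ t : Finset GolayPt, t.card = 2 → (setOf' 3 ∪ t).card ≤ 5 := fun t ht =>
      (Finset.card_union_le _ _).trans (by omega)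
    exact exists_smul_two rfl (ht.trans ht'.symm) h ((hu t ht).trans (by norm_num))
      (iff_of_true (exists_octad_of_card_le (hu t ht)) (exists_octad_of_card_le (hu t' ht')))
  · rw [card_setOf']; decide +kernel
  · exact fun h => absurd (setOf'_inj (by norm_num) (by norm_num) h) (by norm_num)
  · intro S h2 hS y hy hne hy'
    have step : ∀ a b i j k, and' (Nat.beq (pop 24 a) 2) (and' (Nat.beq (pop 24 b) 2)
        (and' (Nat.beq (pop 24 (Nat.land 3 a)) i) (and' (Nat.beq (pop 24 (Nat.land a b)) j)
        (Nat.beq (pop 24 (Nat.land 3 b)) k)))) = true → S i → S j → S k := by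
      intro a b i j k h hi hj
      simp only [and'_eq_true, beq_iff, ← card_inter_setOf'] at h
      obtain ⟨h1, h2, rfl, rfl, rfl⟩ := h
      rw [← card_setOf'] at h1 h2
      exact hS _ _ h1 h2 hi hj
    have cls : ∀ z : Finset GolayPt, z.card = 2 → (setOf' 3 ∩ z).card = 0 ∨
        (setOf' 3 ∩ z).card = 1 ∨ z = setOf' 3 := by
      intro z hz
      have h1 : (setOf' 3 ∩ z).card ≤ 2 := h0 ▸ Finset.card_le_card Finset.inter_subset_left
      by_cases h : (setOf' 3 ∩ z).card = 2
      · right; right
        have e1 := Finset.eq_of_subset_of_card_le (Finset.inter_subset_left (s₁ := setOf' 3)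
          (s₂ := z)) (by omega)
        have e2 := Finset.eq_of_subset_of_card_le (Finset.inter_subset_right (s₁ := setOf' 3)
          (s₂ := z)) (by omega)
        rw [← e2, e1]
      · omega
    have a01 : S 0 → S 1 := fun h => step 12 17 0 0 1 (by decide +kernel) h h
    have a10 : S 1 → S 0 := fun h => step 5 12 1 1 0 (by decide +kernel) h h
    have : S 0 ∧ S 1 := by
      rcases cls y hy with h | h | h
      · rw [h] at hy'; exact ⟨hy', a01 hy'⟩
      · rw [h] at hy'; exact ⟨a10 hy', hy'⟩
      · exact absurd h hne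
    intro z hz
    rcases cls z hz with h | h | h
    · rw [h]; exact this.1
    · rw [h]; exact this.2
    · rw [h]; exact h2

end Cfsg.Agent.S1563
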