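import Cfsg.Statements.S0076
import Mathlib
import Cfsg.Agent.Transfer.Focal


set_option autoImplicit false
open Cfsg

namespace Cfsg.Agent.S0076

/-- Two P-invariant subsets of a Sylow p-subgroup P that are conjugate in G are conjugate under the normalizer of P. -/
theorem result {G : Type*} [Group G] [Finite G] {p : ℕ} [Fact p.Prime] (P : Sylow p G) (X Y : Set G) (hXP : X ⊆ P) (hYP : Y ⊆ P) (hX : ∀ x ∈ P, (fun y => x * y * x⁻¹) '' X = X) (hY : ∀ x ∈ P, (fun y => x * y * x⁻¹) '' Y = Y) (g : G) (hg : (fun y => g * y * g⁻¹) '' X = Y) : ∃ n ∈ Subgroup.normalizer (P : Set G), (fun y => n * y * n⁻¹) '' X = Y := by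
  have key : ∀ (Z : Set G) (x : G), (fun y => x * y * x⁻¹) '' Z = Z →
      x ∈ Subgroup.normalizer Z := by
    intro Z x h y
    constructor
    · intro hy; rw [← h]; exact ⟨y, hy, rfl⟩
    · intro hy
      rw [← h] at hy
      obtain ⟨z, hz, e⟩ := hy
      have : z = y := by simpa using e
      exact this ▸ hz
  have h1 : (P : Subgroup G) ≤ Subgroup.normalizer Y := fun x hx => key Y x (hY x hx)
  have h2 : (P : Subgroup G).map (MulAut.conj g).toMonoidHom ≤ Subgroup.normalizer Y := by
    rintro _ ⟨x, hx, rfl⟩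
    apply key
    rw [← hg, Set.image_image]
    conv_rhs => rw [← hX x hx, Set.image_image]
    congr 1
    ext y
    simp [mul_assoc]
  obtain ⟨m, hm, hn⟩ := Transfer.exists_mul_mem_normalizer P h1 h2
  refine ⟨m * g, hn, ?_⟩
  have h3 : (fun y => m * y * m⁻¹) '' Y = Y := by
    ext y
    constructor
    · rintro ⟨z, hz, rfl⟩; exact (hm z).mp hz
    · intro hy
      refine ⟨m⁻¹ * y * m, (hm _).mpr ?_, by simp [mul_assoc]⟩
      simpa [mul_assoc] using hy
  rw [← h3, ← hg, Set.image_image]
  congr 1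
  ext y
  simp [mul_assoc]

end Cfsg.Agent.S0076
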