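import Cfsg.Statements.S5089
import Mathlib
import Cfsg.Agent.Fus.Normal

set_option autoImplicit false
open Cfsg

namespace Cfsg.Agent.S5089

/-- A saturated fusion system over a finite p-group has a nontrivial subgroup that is normal in the system (O_p(F) ≠ 1) if and only if some nontrivial abelian subgroup is strongly closed in the system. -/
theorem result {Ω : Type*} [Group Ω] {S : Subgroup Ω} [Finite S] (p : ℕ) [Fact p.Prime] (hS : IsPGroup p S) (F : Cfsg.FusionSystem S) (hF : F.IsSaturated p) : F.core ≠ ⊥ ↔ ∃ Q : Subgroup Ω, Q ≠ ⊥ ∧ IsMulCommutative Q ∧ F.StronglyClosed Q := by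
  constructor
  · intro h
    have hn := Fus.isNormal_core F
    have := Fus.finite_of_le hn.1
    have hnt : Nontrivial F.core := (Subgroup.nontrivial_iff_ne_bot _).2 h
    refine ⟨(Subgroup.center F.core).map F.core.subtype, fun hb => ?_, ?_,
      Fus.stronglyClosed_of_isNormal (Fus.isNormal_map_of_characteristic hn _)⟩
    · rw [Subgroup.map_eq_bot_iff_of_injective _ F.core.subtype_injective] at hb
      exact (Subgroup.nontrivial_iff_ne_bot _).1 (hS.to_le hn.1).center_nontrivial hb
    · infer_instance
  · rintro ⟨Q, h1, h2, h3⟩ hb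
    refine h1 (le_bot_iff.1 (hb ▸ Fus.le_core (Fus.isNormal_of_abelian hS hF h3 fun x hx y hy => ?_)))
    exact congrArg Subtype.val (h2.is_comm.comm ⟨x, hx⟩ ⟨y, hy⟩)

end Cfsg.Agent.S5089
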