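import Mathlib
import Cfsg.Statements.S5265
import Cfsg.Agent.Fus.TypeH
import Cfsg.Agent.Fus.Hyper
import Cfsg.Agent.Fus.AutTools
-- import your own Cfsg.Agent.* helpers here

set_option autoImplicit false
open Cfsg

namespace Cfsg.Agent.S5265

open Cfsg.Agent.Fus Cfsg.FusionSystem

open Subgroup
open scoped commutatorElement

theorem two_case {Ω : Type*} [Group Ω] {S : Subgroup Ω} [Finite S] (hS : IsPGroup 2 S)
    {F : FusionSystem S} (hF : F.IsSaturated 2) (hcore : F.core = ⊥)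
    (hfoc : S ≤ F.focalSubgroup) {z : Ω} (hz : z ^ 2 = 1) (hzZ : z ∈ centralizerIn S S)
    (hcomm : ∀ a ∈ S, ∀ b ∈ S, ⁅a, b⁆ ∈ zpowers z) (hzS : z ∈ ⁅S, S⁆)
    (hsq : ∀ a ∈ S, a ^ 2 ∈ centralizerIn S S)
    (hgen : ∀ x ∈ S, ∀ y ∈ S, ⁅x, y⁆ ≠ 1 → ∀ g ∈ S, ∃ a b : ℤ, ∃ u ∈ centralizerIn S S,
      g = x ^ a * y ^ b * u)
    (hi : ∀ R, F.IsEssential 2 R → (centralizerIn S S).relIndex R = 2 ∧ R.relIndex S = 2)
    (hex : ∃ R, F.IsEssential 2 R) :
    ∃ x ∈ S, ∃ y ∈ S, x ^ 2 = 1 ∧ y ^ 2 = 1 ∧ ⁅x, y⁆ ≠ 1 ∧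
      S ≤ zpowers z ⊔ zpowers x ⊔ zpowers y := by
  set Z := centralizerIn S S
  have hZS : Z ≤ S := centralizerIn_le S S
  have hz' : ∀ u ∈ ⁅S, S⁆, u ∈ zpowers z := fun u hu => commutator_le.2 hcomm hu
  have hE : ∀ u ∈ zpowers z, u = 1 ∨ u = z := by
    rintro _ ⟨i, rfl⟩
    obtain ⟨j, rfl | rfl⟩ := Int.even_or_odd' i
    · left; simp only; rw [zpow_mul]; norm_cast; simp [hz]
    · right; simp only; rw [zpow_add_one, zpow_mul]; norm_cast; simp [hz]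
  have hcZ : ∀ u ∈ Z, ∀ s ∈ S, Commute s u := fun u hu s hs => comm_of_mem_center hu hs
  have hst := fun R (hR : F.IsEssential 2 R) =>
    typeH_structure hS hF hR (hi R hR).1 hz hzZ fun u _ hu => hz' u hu
  have hN : ∀ R, F.IsEssential 2 R → normalizerIn S R = S := fun R hR =>
    le_antisymm (normalizerIn_le _ _) (le_inf le_rfl (le_normalizer_of_normal_subgroupOf
      (hK := normal_of_index_eq_two (hi R hR).2) hR.1.1))
  have hmem : ∀ R, F.IsEssential 2 R → ∀ w ∈ R, w ∉ Z → ∀ a ∈ S, (a ∈ R ↔ Commute a w) := by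
    intro R hR w hw hw' a ha
    refine ⟨fun h => comm_of_relIndex_center hR.1.1 (hi R hR).1 a h w hw, fun h => ?_⟩
    have := normal_center_subgroupOf hR.1.1
    have : Finite R := finite_of_le hR.1.1
    refine isCentric_self hR.1 (mem_centralizerIn.2 ⟨ha, fun y hy => ?_⟩)
    obtain ⟨u, -, hu, i, rfl⟩ := exists_of_relIndex_prime (hi R hR).1 hw hw' hy
    exact ((hcZ u hu a ha).mul_right (h.zpow_right i)).symm
  obtain ⟨R₁, hR₁⟩ := hex
  obtain ⟨D₁, w₁, a1, a2, a3, a4, a5, a6, a7, -, a8⟩ := hst R₁ hR₁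
  have hns : ∀ u ∈ Z, u ^ 2 ≠ z := fun u hu e => by
    obtain ⟨d, hd, v, hv, rfl⟩ := a6 u hu
    rw [(hcZ v (zpowers_le.2 hzZ hv) d (hZS (a1 hd))).mul_pow] at e
    have : v ^ 2 = 1 := by rcases hE v hv with rfl | rfl <;> simp [hz]
    rw [this, mul_one] at e
    exact a2 (e ▸ pow_mem hd 2)
  have hcos : ∀ a ∈ S, ∀ b ∈ S, a ^ 2 = 1 → b ^ 2 = 1 → ⁅a, b⁆ ≠ 1 → ∀ c ∈ S, c ^ 2 = 1 →
      Commute c a ∨ Commute c b := by
    intro a ha b hb h1 h2 hab c hc h3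
    obtain ⟨i, j, u, hu, rfl⟩ := hgen a ha b hb hab c hc
    have k1 : ∀ x : Ω, x ^ 2 = 1 → ∀ i : ℤ, x ^ (2 * i) = 1 := fun x hx i => by
      rw [zpow_mul]; norm_cast; simp [hx]
    obtain ⟨j, rfl | rfl⟩ := Int.even_or_odd' j
    · left
      rw [k1 b h2, mul_one]
      exact ((Commute.refl a).zpow_left i).mul_left (hcZ u hu a ha).symm
    obtain ⟨i, rfl | rfl⟩ := Int.even_or_odd' i
    · right
      rw [k1 a h1, one_mul]
      exact ((Commute.refl b).zpow_left _).mul_left (hcZ u hu b hb).symm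
    exfalso
    have hba := (hE _ (hcomm b hb a ha)).resolve_left
      (by rwa [← commutatorElement_inv, inv_eq_one])
    rw [zpow_add_one, zpow_add_one, k1 a h1, k1 b h2, one_mul, one_mul,
      (hcZ u hu _ (mul_mem ha hb)).mul_pow, Grp.CommPow.mul_pow_of_commute
        (hba ▸ (hcZ z hzZ a ha).symm) (hba ▸ (hcZ z hzZ b hb).symm), h1, h2, hba] at h3
    refine hns u hu ?_
    rw [← mul_right_inj z, ← pow_two z, hz]
    simpa using h3
  have hinv : ∀ R, F.IsEssential 2 R → ∀ γ ∈ F.autGroup S, ∀ x ∈ R, afn γ x ∈ R := by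
    intro R hR γ hγ
    obtain ⟨D, w, -, -, b3, b4, b5, -⟩ := hst R hR
    have hRS := hR.1.1
    have : Finite R := finite_of_le hRS
    have := finite_mulAut (le_refl S)
    suffices γ ∈ stab S R from fun x hx => (mem_stab.1 this x (hRS hx)).2 hx
    have hZγ : ∀ γ : MulAut S, ∀ u ∈ Z, afn γ u ∈ Z := fun γ u hu =>
      ((isMap_autSys (hI := le_top)).2 ⟨le_rfl, γ, trivial, fun _ _ => rfl⟩).center_of_type
        (img_afn γ) hZS le_rfl u hu
    have hw : ∀ γ : MulAut S, afn γ w ∈ R → γ ∈ stab S R := fun γ h =>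
      mem_stab_of_maps hRS fun x hx => by
        have := normal_center_subgroupOf hRS
        obtain ⟨u, -, hu, i, rfl⟩ := exists_of_relIndex_prime (hi R hR).1 b3 b5 hx
        rw [afn_map_mul _ (hZS hu) (zpow_mem (hRS b3) i), (homOn_afn γ).map_zpow (hRS b3)]
        exact mul_mem (center_le_of_centric hR.1 (hZγ γ u hu)) (zpow_mem h i)
    obtain ⟨o, ho, b, ⟨s, rfl⟩, -, rfl⟩ := (sat_sylIn_inn hS hF).exists_opSub_mul hγ
    refine mul_mem (opSub_le_iff.2 (fun γ hγ hc => ?_) ho) (hw _ (by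
      rw [afn_apply _ (hRS b3)]
      exact conj_mem_of_mem_normalizerIn ((hN R hR).ge s.2) b3))
    by_contra hne
    have h1 : afn γ w ∉ R := fun h => hne (hw γ h)
    have hp2 : ∀ x ∈ S, x ^ 2 = 1 → afn γ x ^ 2 = 1 := fun x hx h => by
      rw [← (homOn_afn γ).map_pow hx, h, (homOn_afn γ).map_one]
    have hS1 := afn_mem γ (hRS b3)
    have h2 := hcos w (hRS b3) _ hS1 b4 (hp2 w (hRS b3) b4) (fun h => h1 ((hmem R hR w b3 b5 _ hS1).2
      (commutatorElement_eq_one_iff_commute.1 h).symm)) _ (afn_mem γ hS1) (hp2 _ hS1 (hp2 w (hRS b3) b4))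
    rcases h2 with h2 | h2
    · have h3 := hw (γ * γ) (by
        rw [afn_mul _ _ (hRS b3)]; exact (hmem R hR w b3 b5 _ (afn_mem γ hS1)).2 h2)
      obtain ⟨k, hk⟩ := Nat.coprime_two_right.1 hc
      have h4 : γ = (γ * γ) ^ (k + 1) := by
        rw [← pow_two, ← pow_mul, show 2 * (k + 1) = 2 * k + 1 + 1 by ring, ← hk, pow_succ,
          pow_orderOf_eq_one, one_mul]
      exact hne (h4 ▸ pow_mem h3 _)
    · refine h1 ((hmem R hR w b3 b5 _ hS1).2 (afn_injOn γ (mul_mem hS1 (hRS b3))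
        (mul_mem (hRS b3) hS1) ?_))
      rw [afn_map_mul _ hS1 (hRS b3), afn_map_mul _ (hRS b3) hS1]
      exact h2
  have hγz : ∀ γ ∈ F.autGroup S, ∀ v ∈ zpowers z, afn γ v = v := fun γ hγ v hv => by
    have hm := isMap_afn le_rfl hγ
    rcases hE v hv with rfl | rfl
    · exact hm.map_one
    · exact (hE _ (hz' _ (hm.homOn.mem_commutator (fun x hx => hm.mem hx) _ hzS))).resolve_left
        fun h => a2 ((hm.eq_one_iff (hZS hzZ)).1 h ▸ one_mem _)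
  let W := closure {y | ∃ γ ∈ F.autGroup S, ∃ u ∈ Z, y = u⁻¹ * afn γ u}
  have hWZ : W ≤ Z := (closure_le _).2 (by
    rintro _ ⟨γ, hγ, u, hu, rfl⟩
    exact mul_mem (inv_mem hu) ((isMap_afn le_rfl hγ).center_of_type (img_afn γ) hZS le_rfl u hu))
  have hWS : ∀ g, IsMap F S g → ∀ x ∈ W, g x ∈ W := fun g hg x hx => by
    obtain ⟨γ, hγ, e⟩ := hg.exists_aut' fun x hx => hg.mem hx
    have := mul_mem hx (Subgroup.subset_closure ⟨γ, hγ, x, hWZ hx, rfl⟩ : _ ∈ W)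
    rwa [mul_inv_cancel_left, e x (hZS (hWZ hx))] at this
  have hW : W = ⊥ := le_bot_iff.1 (hcore ▸ le_core (isNormal_of_essential hS hF (by
    rintro R (rfl | hR)
    · exact ⟨hWZ.trans hZS, fun g hg _ => hWS g hg⟩
    refine ⟨hWZ.trans (center_le_of_centric hR.1), fun g hg hgi x hx => ?_⟩
    obtain ⟨D, w, b1, -, -, -, -, b6, -, -, b8⟩ := hst R hR
    obtain ⟨-, -, g', hg', e⟩ := b8 g hg hgi
    rw [hN R hR] at hg'
    have hWD : W ≤ D := (closure_le _).2 (by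
      rintro _ ⟨γ, hγ, u, hu, rfl⟩
      obtain ⟨d, hd, v, hv, rfl⟩ := b6 u hu
      have : Finite R := finite_of_le hR.1.1
      have h1 := (isMap_afn le_rfl hγ).mono hR.1.1
      have h2 := (b8 _ h1 (h1.img_eq_self (hinv R hR γ hγ))).1 d hd
      rw [afn_map_mul _ (hZS (b1 hd)) (hZS (zpowers_le.2 hzZ hv)), hγz γ hγ v hv, mul_inv_rev,
        (hcZ v (zpowers_le.2 hzZ hv) _ (hZS (b1 h2))).eq,
        ← (hcZ _ (inv_mem (zpowers_le.2 hzZ hv)) _ (hZS (b1 (inv_mem hd)))).eq, mul_assoc,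
        inv_mul_cancel_left]
      exact mul_mem (inv_mem hd) h2)
    rw [e x (hWD hx)]
    exact hWS g' hg' x hx)))
  have hfixZ : ∀ g, IsMap F S g → ∀ u ∈ Z, g u = u := fun g hg u hu => by
    obtain ⟨γ, hγ, e⟩ := hg.exists_aut' fun x hx => hg.mem hx
    have : u⁻¹ * afn γ u ∈ W := Subgroup.subset_closure ⟨γ, hγ, u, hu, rfl⟩
    rw [hW, mem_bot, inv_mul_eq_one] at this
    rw [← e u (hZS hu), ← this]
  have hinn : F.autGroup S ≤ Inn S := autGroup_top_le_inn hS hF fun γ hγ ho => by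
    have hst : ∀ U V : Subgroup S, (∀ x ∈ U, γ x ∈ U) → (∀ x ∈ V, γ x ∈ V) → U.relIndex V ∣ 2 →
        ∀ y ∈ V, y⁻¹ * γ y ∈ U := fun U V h1 h2 h3 y hy => by
      simpa using AC.step_pow_sub_one hS h1 h2 h3 hy
    have h1 : ∀ x ∈ Z.subgroupOf S, γ x = x := fun x hx =>
      Subtype.ext (by rw [← afn_coe]; exact hfixZ _ (isMap_afn le_rfl hγ) _ hx)
    have h2 : ∀ x ∈ R₁.subgroupOf S, γ x ∈ R₁.subgroupOf S := fun x hx => by
      rw [mem_subgroupOf, ← afn_coe]; exact hinv R₁ hR₁ γ hγ _ hx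
    exact AC.eq_one_of_mem_stab3 hS (L := Z.subgroupOf S) (M := R₁.subgroupOf S)
      (h := comap_mono (center_le_of_centric hR₁.1)) ⟨h1, hst _ _ (fun x hx => (h1 x hx).symm ▸ hx) h2
        (by rw [relIndex_subgroupOf hR₁.1.1, (hi R₁ hR₁).1]), fun y => hst _ ⊤ h2 (by simp)
        (by rw [relIndex_top_right]; exact (hi R₁ hR₁).2.dvd) y trivial⟩ ho
  have hK : ∀ K : Subgroup Ω, z ∈ K → (∀ R, F.IsEssential 2 R → ∀ g, IsMap F R g → img R g = R →
      ∀ x ∈ R, x⁻¹ * g x ∈ K) → S ≤ K := by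
    intro K h1 h2
    refine hfoc.trans (focal_le_iff.2 fun P f hf => alperin_induction' hS hF
      (M := fun P f => ∀ x ∈ P, x⁻¹ * f x ∈ K) (fun P f g h e x hx => e x hx ▸ h x hx)
      (fun P Q f _ h hQ x hx => h x (hQ hx)) (fun P Q f g _ _ h h' hm x hx => by
        have := mul_mem (h x hx) (h' _ (hm x hx))
        rwa [mul_assoc, mul_inv_cancel_left] at this) ?_ hf)
    rintro R g (rfl | hR) hg hgi x hx
    · obtain ⟨γ, hγ, e⟩ := hg.exists_aut hgi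
      obtain ⟨s, hs, e'⟩ := mem_Inn.1 (hinn hγ)
      rw [← e x hx, e' x hx]
      simpa [commutatorElement_def, mul_assoc] using zpowers_le.2 h1 (hcomm _ (inv_mem hx) s hs)
    · exact h2 R hR g hg hgi x hx
  have hV : ∀ R, F.IsEssential 2 R → ∀ (D : Subgroup Ω) (V : Subgroup Ω), D ≤ Z → V ≤ R →
      (∀ u ∈ R, ∃ d ∈ D, ∃ v ∈ V, u = d * v) → ∀ g, IsMap F R g → (∀ v ∈ V, g v ∈ V) →
      (∃ g', IsMap F (normalizerIn S R) g' ∧ ∀ d ∈ D, g d = g' d) → ∀ x ∈ R, x⁻¹ * g x ∈ V := by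
    rintro R hR D V h1 h2 h3 g hg h4 ⟨g', hg', e⟩ x hx
    rw [hN R hR] at hg'
    obtain ⟨d, hd, v, hv, rfl⟩ := h3 x hx
    rw [hg.map_mul (center_le_of_centric hR.1 (h1 hd)) (h2 hv), e d hd, hfixZ g' hg' d (h1 hd),
      mul_inv_rev, mul_assoc, inv_mul_cancel_left]
    exact mul_mem (inv_mem hv) (h4 v hv)
  have hVR : ∀ R, F.IsEssential 2 R → ∀ w ∈ R, zpowers z ⊔ zpowers w ≤ R := fun R hR w hw =>
    sup_le (zpowers_le.2 (center_le_of_centric hR.1 hzZ)) (zpowers_le.2 hw)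
  have heq : ∀ R R', F.IsEssential 2 R → F.IsEssential 2 R' → ∀ w ∈ R, w ∈ R' → w ∉ Z → R = R' :=
    fun R R' hR hR' w h1 h2 h3 => le_antisymm
      (fun a ha => (hmem R' hR' w h2 h3 a (hR.1.1 ha)).2 ((hmem R hR w h1 h3 a (hR.1.1 ha)).1 ha))
      (fun a ha => (hmem R hR w h1 h3 a (hR'.1.1 ha)).2 ((hmem R' hR' w h2 h3 a (hR'.1.1 ha)).1 ha))
  by_cases h2 : ∀ R, F.IsEssential 2 R → R = R₁
  · refine absurd (hK R₁ (center_le_of_centric hR₁.1 hzZ) fun R hR g hg hgi x hx => ?_)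
      (essential_lt hS hF hR₁).not_ge
    obtain rfl := h2 R hR
    exact mul_mem (inv_mem hx) (hgi ▸ mem_img_of_mem g hx)
  push Not at h2
  obtain ⟨R₂, hR₂, hne⟩ := h2
  obtain ⟨D₂, w₂, b1, b2, b3, b4, b5, b6, b7, -, b8⟩ := hst R₂ hR₂
  have h12 : ⁅w₁, w₂⁆ ≠ 1 := fun h => hne (heq R₂ R₁ hR₂ hR₁ w₁ ((hmem R₂ hR₂ w₂ b3 b5 _
    (hR₁.1.1 a3)).2 (commutatorElement_eq_one_iff_commute.1 h)) a3 a5)
  refine ⟨w₁, hR₁.1.1 a3, w₂, hR₂.1.1 b3, a4, b4, h12, hK _ (mem_sup_left (mem_sup_left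
    (mem_zpowers z))) fun R hR g hg hgi x hx => ?_⟩
  obtain ⟨D, w, -, -, c3, c4, c5, -⟩ := hst R hR
  rcases hcos w₁ (hR₁.1.1 a3) w₂ (hR₂.1.1 b3) a4 b4 h12 w (hR.1.1 c3) c4 with h | h
  · obtain rfl := heq R R₁ hR hR₁ w c3 ((hmem R₁ hR₁ w₁ a3 a5 _ (hR.1.1 c3)).2 h) c5
    obtain ⟨-, k1, k2⟩ := a8 g hg hgi
    exact mem_sup_left (hV R hR D₁ _ a1 (hVR R hR _ a3) a7 g hg k1 k2 x hx)
  · obtain rfl := heq R R₂ hR hR₂ w c3 ((hmem R₂ hR₂ w₂ b3 b5 _ (hR.1.1 c3)).2 h) c5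
    obtain ⟨-, k1, k2⟩ := b8 g hg hgi
    exact (sup_le_sup_right le_sup_left _ : zpowers z ⊔ zpowers w₂ ≤ _)
      (hV R hR D₂ _ b1 (hVR R hR _ b3) b7 g hg k1 k2 x hx)

/-- Let p be a prime, S a nontrivial finite p-group whose centre has index at most p², and F a saturated fusion system over S with no nontrivial normal subgroup and with hyperfocal subgroup equal to S. Then S is extraspecial of order p³; for odd p it has exponent p, and for p = 2 it is dihedral of order 8. -/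
theorem result {Ω : Type*} [Group Ω] {S : Subgroup Ω} [Finite S] (p : ℕ) [Fact p.Prime] (hS : IsPGroup p ↥S) (F : Cfsg.FusionSystem S) (hF : F.IsSaturated p) (hS1 : S ≠ ⊥) (hcore : F.core = ⊥) (hhyp : F.hyperfocalSubgroup p = S) (hZ : (Subgroup.center ↥S).index ≤ p ^ 2) : Cfsg.IsExtraspecial p ↥S ∧ Nat.card S = p ^ 3 ∧ (p ≠ 2 → Monoid.exponent ↥S = p) ∧ (p = 2 → Nonempty (↥S ≃* DihedralGroup 4)) := by
  have hp : p.Prime := Fact.out
  have hnn : ¬ F.IsNormal S := fun h => hS1 (le_bot_iff.1 (hcore ▸ le_core h))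
  have hna : ∃ x y : S, ⁅x, y⁆ ≠ 1 := (AC.comm_or S).resolve_left fun h => hnn
    (isNormal_top_of_comm hS hF fun x hx y hy => congrArg Subtype.val (h ⟨x, hx⟩ ⟨y, hy⟩))
  replace hZ : (Subgroup.center S).index = p ^ 2 := le_antisymm hZ
    (Nat.le_of_dvd (Nat.pos_of_ne_zero index_ne_zero_of_finite) (AC.sq_dvd_index_center hS hna))
  obtain ⟨z, hz, hzc, hcomm, hsq, ⟨x₀, y₀, e₀⟩, hgen⟩ := AC.exists_z hZ
  have hZ' : ∀ u : S, u ∈ Subgroup.center S ↔ (u : Ω) ∈ centralizerIn S S := fun u =>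
    ⟨fun h => mem_centralizerIn.2 ⟨u.2, fun y hy => congrArg Subtype.val
      (Subgroup.mem_center_iff.1 h ⟨y, hy⟩)⟩, fun h => Subgroup.mem_center_iff.2 fun g =>
      Subtype.ext (comm_of_mem_center h g.2)⟩
  have hZ2 : (centralizerIn S S).subgroupOf S = Subgroup.center S := Subgroup.ext fun u => (hZ' u).symm
  have hzp : (z : Ω) ^ p = 1 := congrArg Subtype.val (hz ▸ pow_orderOf_eq_one z : z ^ p = 1)
  have hcomm' : ∀ a ∈ S, ∀ b ∈ S, ⁅a, b⁆ ∈ zpowers (z : Ω) := fun a ha b hb => by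
    obtain ⟨i, hi⟩ := hcomm ⟨a, ha⟩ ⟨b, hb⟩
    exact ⟨i, congrArg Subtype.val hi⟩
  have hzS : (z : Ω) ∈ ⁅S, S⁆ := e₀ ▸ commutator_mem_commutator x₀.2 y₀.2
  have hi : ∀ R, F.IsEssential p R → (centralizerIn S S).relIndex R = p ∧ R.relIndex S = p := by
    intro R hR
    refine AC.eq_of_mul_eq_sq ((relIndex_mul_relIndex _ _ _ (center_le_of_centric hR.1) hR.1.1).trans
      (by rw [relIndex, hZ2, hZ])) (fun h => (essential_lt hS hF hR).not_ge fun s hs => ?_)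
      (fun h => (essential_lt hS hF hR).not_ge (relIndex_eq_one.1 h))
    exact isCentric_self hR.1 (mem_centralizerIn.2 ⟨hs, fun y hy =>
      (comm_of_mem_center (relIndex_eq_one.1 h hy) hs).symm⟩)
  have hex : ∃ R, F.IsEssential p R := by
    by_contra h
    exact hnn (isNormal_top_of_no_essential hS hF fun R hR => h ⟨R, hR⟩)
  have hcard : Subgroup.center S ≤ zpowers z → Nat.card S = p ^ 3 := fun h => by
    rw [← (Subgroup.center S).card_mul_index, hZ, le_antisymm h (zpowers_le.2 hzc),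
      Nat.card_zpowers, hz]
    ring
  by_cases hp2 : p = 2
  · subst hp2
    obtain ⟨x, hx, y, hy, h1, h2, h3, h4⟩ := two_case hS hF hcore (hhyp.ge.trans (hyp_le_focal F 2))
      hzp ((hZ' z).1 hzc) hcomm' hzS (fun a ha => (hZ' _).1 (hsq ⟨a, ha⟩)) (fun x hx y hy h g hg => by
        obtain ⟨a, b, u, hu, e⟩ := hgen ⟨x, hx⟩ ⟨y, hy⟩ (fun e => h (congrArg Subtype.val e)) ⟨g, hg⟩
        exact ⟨a, b, u, (hZ' u).1 hu, congrArg Subtype.val e⟩) hi hex
    have h5 := Grp.ES.card_closure_le two_pos ![(⟨x, hx⟩ : S), ⟨y, hy⟩] z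
      (fun i => Subgroup.mem_center_iff.1 hzc _) (fun i j => hcomm _ _) (fun i => by
        fin_cases i
        · exact (show (⟨x, hx⟩ : S) ^ 2 = 1 from Subtype.ext h1) ▸ one_mem _
        · exact (show (⟨y, hy⟩ : S) ^ 2 = 1 from Subtype.ext h2) ▸ one_mem _)
    set K := closure (Set.range ![(⟨x, hx⟩ : S), ⟨y, hy⟩] ∪ {z})
    have hK : K = ⊤ := eq_top_iff.2 fun g _ => by
      obtain ⟨g', hg', e⟩ := (sup_le (sup_le (zpowers_le.2 ⟨z, Subgroup.subset_closure (Or.inr rfl), rfl⟩)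
        (zpowers_le.2 ⟨_, Subgroup.subset_closure (Or.inl ⟨0, rfl⟩), rfl⟩))
        (zpowers_le.2 ⟨_, Subgroup.subset_closure (Or.inl ⟨1, rfl⟩), rfl⟩) :
          _ ≤ K.map S.subtype) (h4 g.2)
      exact (Subtype.ext e : g' = g) ▸ hg'
    have h6 : Nat.card S = 2 ^ 3 := by
      rw [hK, card_top, hz] at h5
      refine Nat.dvd_antisymm (by simpa using h5) ?_
      rw [← (Subgroup.center S).card_mul_index, hZ, pow_succ']
      exact Nat.mul_dvd_mul_right (hz ▸ Nat.card_zpowers z ▸ card_dvd_of_le (zpowers_le.2 hzc)) _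
    exact ⟨AC.isExtraspecial_of_cube h6 hna, h6, fun h => absurd rfl h, fun _ =>
      AC.nonempty_equiv_D8 h6 (x := ⟨x, hx⟩) (y := ⟨y, hy⟩) (Subtype.ext h1) (Subtype.ext h2)
        fun e => h3 (congrArg Subtype.val e)⟩
  have hz' : ∀ u ∈ centralizerIn S S, u ∈ ⁅S, S⁆ → u ∈ zpowers (z : Ω) := fun u _ hu =>
    commutator_le.2 hcomm' hu
  obtain ⟨⟨R, hR, -⟩, h1⟩ := center_le_zpowers hS hF hp2 hcore hS1 hzp ((hZ' z).1 hzc) hz' hzS
    fun R hR => Or.inl (hi R hR).1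
  replace h1 : Subgroup.center S ≤ zpowers z := fun u hu => by
    obtain ⟨i, hi⟩ := h1 ((hZ' u).1 hu)
    exact ⟨i, Subtype.ext hi⟩
  have h2 := hcard h1
  refine ⟨AC.isExtraspecial_of_cube h2 hna, h2, fun _ => ?_, fun h => absurd h hp2⟩
  obtain ⟨D, w, -, -, a3, a4, a5, -⟩ := typeH_structure hS hF hR (hi R hR).1 hzp ((hZ' z).1 hzc) hz'
  have hcc : ∀ a b c : S, Commute ⁅a, b⁆ c := fun a b c =>
    (Subgroup.mem_center_iff.1 (zpowers_le.2 hzc (hcomm a b)) c).symm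
  have hexp : ∀ u ∈ zpowers z, u ^ p = 1 := fun u hu => by
    rw [← hz, ← Nat.card_zpowers]
    exact congrArg Subtype.val (pow_card_eq_one' (x := (⟨u, hu⟩ : zpowers z)))
  let π : S →* S := MonoidHom.mk' (fun g => g ^ p) fun a b =>
    Grp.CommPow.mul_pow_eq_of_odd (hcc _ _ _) (hcc _ _ _) (hp.odd_of_ne_two hp2)
      (hexp _ (hcomm b a))
  have : Nontrivial S := (nontrivial_iff_ne_bot S).2 hS1
  refine (Monoid.exponent_eq_prime_iff hp).2 fun g hg => orderOf_eq_prime ?_ hg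
  by_contra hne
  refine hnn (isNormal_of_omega_sq hS hF hp2 (stronglyClosed_top F) (C := π.ker.map S.subtype)
    (fun x => ⟨?_, fun h => ⟨⟨x, h.1⟩, Subtype.ext h.2, rfl⟩⟩) ?_)
  · rintro ⟨y, hy, rfl⟩
    exact ⟨y.2, congrArg Subtype.val hy⟩
  have h3 : π.ker.index = p := by
    rw [index_ker]
    refine ((Nat.dvd_prime hp).1 (hz ▸ Nat.card_zpowers z ▸ card_dvd_of_le (by
      rintro _ ⟨g, rfl⟩; exact h1 (hsq g)))).resolve_left fun h => hne ?_
    exact mem_bot.1 (card_eq_one.1 h ▸ (⟨g, rfl⟩ : g ^ p ∈ π.range))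
  have := π.ker.card_mul_index
  rw [h3, h2, pow_succ] at this
  rw [card_subtype]
  exact Nat.eq_of_mul_eq_mul_right hp.pos this

end Cfsg.Agent.S5265
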