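import Cfsg.Statements.S3343
import Mathlib
import Cfsg.Agent.Loc3.PrO

set_option autoImplicit false
open Cfsg

namespace Cfsg.Agent.S3343

open Subgroup Cfsg.Agent.Loc3 Cfsg.Agent.Loc3.Pr Cfsg.Agent.PLocal.Amb

/-- Let G be a finite group with an element x of order 3 whose centralizer is isomorphic to the centralizer in the symmetric group of degree 9 of a product of three disjoint 3-cycles, and let J ≤ C_G(x) be elementary abelian of order 27 normalizing no non-trivial subgroup of G of order prime to 3. Then either J is normal in G or G is isomorphic to the symmetric group of degree 9. -/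
theorem result {G : Type*} [Group G] [Finite G]
    (x : G) (hx : orderOf x = 3)
    (eC : Subgroup.centralizer ({x} : Set G) ≃*
      Subgroup.centralizer ({Equiv.swap (0 : Fin 9) 1 * Equiv.swap 1 2 * Equiv.swap 3 4 * Equiv.swap 4 5 * Equiv.swap 6 7 * Equiv.swap 7 8} : Set (Equiv.Perm (Fin 9))))
    (J : Subgroup G) (hJC : J ≤ Subgroup.centralizer ({x} : Set G)) (hJcomm : IsMulCommutative J)
    (hJexp : ∀ j ∈ J, j ^ 3 = 1) (hJcard : Nat.card J = 27)
    (hJsig : ∀ K : Subgroup G, (Nat.card K).Coprime 3 → (∀ j ∈ J, K.map (MulAut.conj j).toMonoidHom = K) → K = ⊥) :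
    J.Normal ∨ Nonempty (G ≃* Equiv.Perm (Fin 9)) := by
  obtain ⟨k, hk⟩ := eC.symm.surjective ⟨x, mem_cent.2 (Commute.refl x)⟩
  have c : ∀ l, Commute k l := fun l => Commute.of_map eC.symm.injective
    (hk ▸ Subtype.ext (mem_cent.1 (eC.symm l).2).eq.symm)
  have r : ((centralizer {x}).subtype.comp eC.symm.toMonoidHom).range = centralizer {x} := by
    rw [MonoidHom.range_comp, MonoidHom.range_eq_top.2 eC.symm.surjective,
      ← MonoidHom.range_eq_map, range_subtype]
  have cu : ∀ g, Commute g (eC.symm (kz1 * kz2 * kz3) : G) → Commute g x := fun g a => by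
    replace hk : (eC.symm k : G) = x := congrArg Subtype.val hk
    rcases (pd! : ∀ σ, Commute σ d9 → Commute σ kρ.1 → Commute σ ks.1 → Commute σ kz1.1 → σ = 1 ∨
      σ = (kz1 * kz2 * kz3).1 ∨ σ = ((kz1 * kz2 * kz3)⁻¹).1) k (mem_cent.1 k.2)
      ((c kρ).map K9.subtype) ((c ks).map K9.subtype) ((c kz1).map K9.subtype) with b | b | b
    · rw [show k = 1 from Subtype.ext b, map_one] at hk
      rw [← hk] at hx; simp at hx
    · exact hk ▸ Subtype.ext b ▸ a
    · rw [← hk, Subtype.ext b, map_inv]; exact a.inv_right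
  obtain ⟨y, ρ, s, h, rfl⟩ := exists_NF (φ := (centralizer {x}).subtype.comp eC.symm.toMonoidHom)
    (Subtype.val_injective.comp eC.symm.injective) (fun g a => r.ge (mem_cent.2 (cu g a)))
    (hJC.trans r.ge) hJexp (fun g a k b => setLike_mul_comm (s := J) a b) hJcard
    fun K a b => hJsig K a fun j hj => cj_eq_iff.2 (b hj)
  exact h.main.imp_left fun a => normalizer_eq_top_iff.1 (top_le_iff.1 fun g _ => a g)

end Cfsg.Agent.S3343
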