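import Cfsg.Statements.S1233
import Mathlib
import Cfsg.Agent.MacW.QQ

set_option autoImplicit false
open Cfsg

namespace Cfsg.Agent.S1233

/-- Let S be a finite 2-group and Q a subgroup of order 32 generated by two elementwise-commuting subgroups Q₁, Q₂ each isomorphic to the quaternion group of order 8 (so Q = Q₁ ∗ Q₂). If C_S(Q) ≤ Q, then every section of S has 2-rank at most 4. -/
theorem result {S : Type*} [Group S] [Finite S] (hS : IsPGroup 2 S) (Q Q₁ Q₂ : Subgroup S) (e₁ : Q₁ ≃* QuaternionGroup 2) (e₂ : Q₂ ≃* QuaternionGroup 2) (hcomm : ∀ a ∈ Q₁, ∀ b ∈ Q₂, a * b = b * a) (hQ : Q₁ ⊔ Q₂ = Q) (hQ32 : Nat.card Q = 32) (hC : Subgroup.centralizer (Q : Set S) ≤ Q) : Cfsg.SectionalPRankLE 2 4 S := by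
  let f₁ := Q₁.subtype.comp e₁.symm.toMonoidHom
  let f₂ := Q₂.subtype.comp e₂.symm.toMonoidHom
  let f : MacW.QQ.M →* S := f₁.noncommCoprod f₂ fun x y => hcomm _ (e₁.symm x).2 _ (e₂.symm y).2
  have h1 : f₁.range = Q₁ := by
    rw [MonoidHom.range_comp, MonoidHom.range_eq_top.2 e₁.symm.surjective, ← MonoidHom.range_eq_map,
      Subgroup.range_subtype]
  have h2 : f₂.range = Q₂ := by
    rw [MonoidHom.range_comp, MonoidHom.range_eq_top.2 e₂.symm.surjective, ← MonoidHom.range_eq_map,
      Subgroup.range_subtype]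
  have hr : f.range = Q := (MonoidHom.noncommCoprod_range _ _ _).trans (by rw [h1, h2, hQ])
  have hk : Nat.card f.ker = 2 := by
    have e := Grp.card_map_mul_card_ker_inf f ⊤
    rw [← MonoidHom.range_eq_map, hr, hQ32, inf_top_eq, Subgroup.card_top, Nat.card_prod,
      Nat.card_eq_fintype_card (α := QuaternionGroup 2), QuaternionGroup.card] at e
    omega
  have i1 : Function.Injective f₁ := Q₁.subtype_injective.comp e₁.symm.injective
  have i2 : Function.Injective f₂ := Q₂.subtype_injective.comp e₂.symm.injective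
  have hp : ∀ p, f p = 1 → p ≠ 1 → p = MacW.QQ.kk := fun p hp hp1 => by
    have hc := Grp.PChain.le_center_of_card_eq_prime (p := 2)
      (IsPGroup.of_card (n := 6) (by
        rw [Nat.card_prod, Nat.card_eq_fintype_card (α := QuaternionGroup 2), QuaternionGroup.card]; rfl))
      f.ker hk hp
    rcases MacW.QQ.cen p hp1 (fun g => by rw [Subgroup.mem_center_iff.1 hc g, mul_inv_cancel_right])
      with e | rfl | rfl
    · exact e
    · change f₁ _ * f₂ 1 = 1 at hp
      rw [map_one, mul_one, map_eq_one_iff _ i1] at hp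
      exact absurd hp (by decide)
    · change f₁ 1 * f₂ _ = 1 at hp
      rw [map_one, one_mul, map_eq_one_iff _ i2] at hp
      exact absurd hp (by decide)
  refine MacW.QQ.main (f := f) (fun p => ⟨fun h => (eq_or_ne p 1).imp_right (hp p h), ?_⟩) hS
    (by rw [hr]; exact hC)
  rintro (rfl | rfl)
  · exact map_one _
  · obtain ⟨p, hp0, hp1⟩ := (Subgroup.nontrivial_iff_exists_ne_one _).1
      (Finite.one_lt_card_iff_nontrivial.1 (by rw [hk]; norm_num) : Nontrivial f.ker)
    exact hp p hp0 hp1 ▸ hp0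

end Cfsg.Agent.S1233
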