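import Cfsg.Statements.S3773
import Mathlib
import Cfsg.Agent.FGS.QuadZero
import Cfsg.Agent.FGS.ActTools
import Cfsg.Agent.Grp.PFrattini
import Cfsg.Agent.Grp.PChain

set_option autoImplicit false
open Cfsg

namespace Cfsg.Agent.S3773

open scoped commutatorElement

/-- Let G be a finite 2-group of nilpotency class at most 2 and exponent dividing 4 in which the elements x with x² = 1 form a subgroup N. Then |G| ≤ |N|³, and |G| < |N|³ unless G is special. -/
theorem result {G : Type*} [Group G] [Finite G] (hG : IsPGroup 2 G) (hcl : (⊤ : Subgroup G).lowerCentralSeries 2 = ⊥) (hexp : ∀ x : G, x ^ 4 = 1) (hN : ∀ x y : G, x ^ 2 = 1 → y ^ 2 = 1 → (x * y) ^ 2 = 1) : Nat.card G ≤ Nat.card {x : G // x ^ 2 = 1} ^ 3 ∧ (¬ Cfsg.IsSpecial 2 G → Nat.card G < Nat.card {x : G // x ^ 2 = 1} ^ 3) := by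
  have hc : ∀ x y z : G, Commute ⁅x, y⁆ z := Grp.CommPow.commute_of_class_two hcl
  have hsq : ∀ x y : G, (y * x) ^ 2 = y ^ 2 * x ^ 2 * ⁅x, y⁆ := fun x y => by
    simpa using Grp.CommPow.mul_pow_of_commute (hc x y y) (hc x y x) 2
  let N : Subgroup G :=
    { carrier := {x | x ^ 2 = 1}
      one_mem' := one_pow 2
      mul_mem' := fun {x y} hx hy => hN x y hx hy
      inv_mem' := fun {x} hx => by
        change x⁻¹ ^ 2 = 1
        rw [inv_pow, show x ^ 2 = 1 from hx, inv_one] }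
  have hNc : Nat.card {x : G // x ^ 2 = 1} = Nat.card N := rfl
  have hNn : N.Normal := ⟨fun x hx g => by
    change (g * x * g⁻¹) ^ 2 = 1
    rw [conj_pow, show x ^ 2 = 1 from hx, mul_one, mul_inv_cancel]⟩
  have hsqN : ∀ x : G, x ^ 2 ∈ N := fun x => by
    change (x ^ 2) ^ 2 = 1
    rw [← pow_mul, hexp]
  have hcN : ∀ x y : G, ⁅x, y⁆ ∈ N := fun x y => by
    have h1 := hsqN (y * x)
    rw [hsq] at h1
    exact (N.mul_mem_cancel_left (N.mul_mem (hsqN y) (hsqN x))).1 h1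
  set Φ := frattini G with hΦ
  have hΦN : Φ ≤ N := Grp.PFrattini.frattini_le
    (Subgroup.commutator_le.2 fun x _ y _ => hcN x y) hsqN
  have hG'Z : commutator G ≤ Subgroup.center G := Subgroup.commutator_le.2 fun x _ y _ =>
    Subgroup.mem_center_iff.2 fun z => (hc x y z).eq.symm
  have hΦZ : Φ ≤ Subgroup.center G := Grp.PFrattini.frattini_le hG'Z fun x =>
    Subgroup.mem_center_iff.2 fun y => by
      have h1 : ⁅x ^ 2, y⁆ = 1 := by
        rw [Grp.CommPow.commutator_pow_left (hc _ _ _)]; exact hcN x y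
      exact (commutatorElement_eq_one_iff_mul_comm.1 h1).symm
  have hsqΦ : ∀ x : G, x ^ 2 ∈ Φ := Grp.PFrattini.pow_mem_frattini hG
  have hG'Φ : commutator G ≤ Φ := Grp.PFrattini.commutator_le_frattini hG
  have hΦ2 : ∀ m ∈ Φ, m ^ 2 = 1 := fun m hm => hΦN hm
  have hΦc : ∀ k ∈ Φ, ∀ x : G, ⁅k, x⁆ = 1 := fun k hk x =>
    commutatorElement_eq_one_iff_mul_comm.2 (Subgroup.mem_center_iff.1 (hΦZ hk) x).symm
  -- a supplement `H` with `N ∩ H = Φ`
  obtain ⟨H, hH1, hH2⟩ : ∃ H : Subgroup G, N ⊓ H = Φ ∧ N ⊔ H = ⊤ := by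
    have hcomm : IsMulCommutative (G ⧸ Φ) :=
      Subgroup.Normal.quotient_commutative_iff_commutator_le.2 hG'Φ
    letI : CommGroup (G ⧸ Φ) := { (inferInstance : Group (G ⧸ Φ)) with mul_comm := hcomm.is_comm.comm }
    obtain ⟨L, -, h1, h2⟩ := FGS.exists_compl_of_pow_mem (A := G ⧸ Φ) Nat.prime_two (D := ⊥)
      (K := N.map (QuotientGroup.mk' Φ)) (H := ⊤) bot_le le_top (fun v _ => by
        induction v using QuotientGroup.induction_on with
        | H x =>
          rw [Subgroup.mem_bot, ← QuotientGroup.mk_pow, QuotientGroup.eq_one_iff]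
          exact hsqΦ x)
    have h3 : (N.map (QuotientGroup.mk' Φ)).comap (QuotientGroup.mk' Φ) = N := by
      rw [Subgroup.comap_map_eq, QuotientGroup.ker_mk', sup_eq_left.2 hΦN]
    refine ⟨L.comap (QuotientGroup.mk' Φ), ?_, ?_⟩
    · rw [← h3, ← Subgroup.comap_inf, le_bot_iff.1 h1, MonoidHom.comap_bot, QuotientGroup.ker_mk']
    · rw [← h3, Subgroup.comap_sup_eq _ _ _ (QuotientGroup.mk'_surjective Φ), h2, Subgroup.comap_top]
  have h1 : Φ.relIndex H ≤ Nat.card Φ ^ 2 := by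
    by_contra hlt
    obtain ⟨x, hx, hx1, hx2⟩ := FGS.exists_sq_mem hG hc (H := H) (K := Φ) (D := ⊥) (M := Φ) hΦZ hΦ2
      (fun x _ => hsqΦ x) inferInstance hΦ2 (fun k hk x _ => hΦc k hk x)
      (by rw [Subgroup.relIndex_bot_left]; omega)
    exact hx1 (hH1 ▸ ⟨hx2, hx⟩)
  have h2 : Nat.card G = Nat.card N * Φ.relIndex H := by
    rw [← hH1, Subgroup.inf_relIndex_right, ← Subgroup.relIndex_sup_left H N, hH2,
      Subgroup.relIndex_top_right, Subgroup.card_mul_index]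
  have h3 : Nat.card Φ ≤ Nat.card N := Subgroup.card_le_of_le hΦN
  have hpos : 0 < Nat.card N := Nat.card_pos
  rw [hNc]
  refine ⟨by rw [h2, pow_succ']; exact Nat.mul_le_mul_left _ (h1.trans (Nat.pow_le_pow_left h3 2)),
    fun hns => ?_⟩
  by_contra hle
  have h4 : Nat.card N ^ 2 ≤ Φ.relIndex H := by
    rw [h2, pow_succ', not_lt] at hle
    exact Nat.le_of_mul_le_mul_left hle hpos
  have h5 : Φ = N := Subgroup.eq_of_le_of_card_ge hΦN
    (Nat.pow_le_pow_iff_left two_ne_zero |>.1 (h4.trans h1))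
  have h6 : H = ⊤ := by
    rw [← hH2, eq_comm, sup_eq_right, ← inf_eq_left, hH1, h5]
  rw [h6, Subgroup.relIndex_top_right, ← h5] at h4
  have hpos' : 0 < Nat.card Φ := Nat.card_pos
  apply hns
  have h7 : Φ = Subgroup.center G := by
    refine le_antisymm hΦZ fun z hz => ?_
    by_contra hzΦ
    have hz2 : z ^ 2 ≠ 1 := fun h => hzΦ (h5 ▸ h)
    have hzc : ∀ x : G, Commute z x := fun x => (Subgroup.mem_center_iff.1 hz x).symm
    have hKZ : Φ ⊔ Subgroup.zpowers z ≤ Subgroup.center G := sup_le hΦZ (Subgroup.zpowers_le.2 hz)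
    have hKn : (Φ ⊔ Subgroup.zpowers z).Normal := ⟨fun k hk g => by
      rw [Subgroup.mem_center_iff.1 (hKZ hk) g, mul_inv_cancel_right]; exact hk⟩
    have hD : (Subgroup.zpowers (z ^ 2)).relIndex Φ * 2 = Nat.card Φ := by
      have := Subgroup.relIndex_mul_relIndex ⊥ (Subgroup.zpowers (z ^ 2)) Φ bot_le
        (Subgroup.zpowers_le.2 (hsqΦ z))
      rw [Subgroup.relIndex_bot_left, Subgroup.relIndex_bot_left, Nat.card_zpowers,
        orderOf_eq_prime (hsqN z) hz2] at this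
      omega
    have hK : (Φ ⊔ Subgroup.zpowers z).index * 2 = Φ.index := by
      have := Subgroup.relIndex_mul_index (le_sup_left : Φ ≤ Φ ⊔ Subgroup.zpowers z)
      rw [Subgroup.relIndex_sup_left, Grp.PChain.relIndex_zpowers_eq Nat.prime_two hzΦ (hsqΦ z)]
        at this
      omega
    obtain ⟨x, -, hx1, hx2⟩ := FGS.exists_sq_mem hG hc (H := ⊤) (K := Φ ⊔ Subgroup.zpowers z)
      (D := Subgroup.zpowers (z ^ 2)) (M := Φ) hΦZ hΦ2 (fun x _ => hsqΦ x) inferInstance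
      (fun k hk => by
        obtain ⟨a, ha, i, rfl⟩ := Grp.PChain.mem_sup_zpowers.1 hk
        rw [((hzc a).symm.zpow_right i).mul_pow, hΦ2 a ha, one_mul]
        exact ⟨i, by simp only [← zpow_natCast, ← zpow_mul, mul_comm]⟩)
      (fun k hk x _ => by
        rw [commutatorElement_eq_one_iff_mul_comm.2 (Subgroup.mem_center_iff.1 (hKZ hk) x).symm]
        exact one_mem _)
      (by rw [Subgroup.relIndex_top_right]; nlinarith)
    obtain ⟨i, hi⟩ := hx2
    apply hx1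
    have h8 : (z ^ i)⁻¹ * x ∈ Φ := by
      rw [h5]
      change ((z ^ i)⁻¹ * x) ^ 2 = 1
      rw [((hzc x).zpow_left i).inv_left.mul_pow, ← hi, inv_pow, ← zpow_natCast, ← zpow_mul,
        mul_comm i, zpow_mul, zpow_natCast, inv_mul_cancel]
    have : x = z ^ i * ((z ^ i)⁻¹ * x) := by group
    rw [this]
    exact mul_mem (Subgroup.mem_sup_right ⟨i, rfl⟩) (Subgroup.mem_sup_left h8)
  refine ⟨hG, h7, le_antisymm hG'Z ?_⟩
  rw [← h7]
  intro u hu
  by_contra huG
  -- a hyperplane of `Φ` containing `G'`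
  obtain ⟨M, hM1, hM2, hM3⟩ : ∃ M : Subgroup G, commutator G ≤ M ∧ M ≤ Φ ∧ M.relIndex Φ = 2 := by
    letI : CommGroup Φ := { (inferInstance : Group Φ) with
      mul_comm := fun a b => Subtype.ext (Subgroup.mem_center_iff.1 (hΦZ b.2) a) }
    obtain ⟨M, hM, hM', -⟩ := Grp.PFrattini.exists_isCoatom_of_not_mem (p := 2) (G := Φ)
      (N := (commutator G).subgroupOf Φ) (by
        rw [commutator_eq_bot]; exact bot_le) (fun g => by
        rw [show g ^ 2 = 1 from Subtype.ext (hΦ2 g g.2)]; exact one_mem _) (x := ⟨u, hu⟩) huG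
    refine ⟨M.map Φ.subtype, fun g hg => ⟨⟨g, hG'Φ hg⟩, hM' hg, rfl⟩, Subgroup.map_subtype_le _, ?_⟩
    rw [Subgroup.relIndex, Subgroup.subgroupOf, Subgroup.comap_map_eq_self_of_injective Φ.subtype_injective]
    exact Grp.PFrattini.index_of_isCoatom (hG.to_subgroup Φ) hM
  have hMn : M.Normal := ⟨fun k hk g => by
    rw [Subgroup.mem_center_iff.1 (hΦZ (hM2 hk)) g, mul_inv_cancel_right]; exact hk⟩
  let ψ : G →* G ⧸ M := MonoidHom.mk' (fun x => ((x ^ 2 : G) : G ⧸ M)) fun x y => by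
    rw [hsq, QuotientGroup.mk_mul, QuotientGroup.mk_mul, (QuotientGroup.eq_one_iff ⁅y, x⁆).2
      (hM1 (Subgroup.commutator_mem_commutator (Subgroup.mem_top _) (Subgroup.mem_top _))), mul_one]
  have h9 : ψ.ker.index ≤ 2 := by
    rw [Subgroup.index_ker]
    have : ψ.range ≤ Φ.map (QuotientGroup.mk' M) := by
      rintro _ ⟨x, rfl⟩
      exact ⟨x ^ 2, hsqΦ x, rfl⟩
    refine (Subgroup.card_le_of_le this).trans ?_
    rw [← Subgroup.relIndex_ker, QuotientGroup.ker_mk', hM3]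
  have h10 : Φ ≤ ψ.ker := fun k hk => by
    change ((k ^ 2 : G) : G ⧸ M) = 1
    rw [hΦ2 k hk, QuotientGroup.mk_one]
  have h11 := Subgroup.relIndex_mul_index h10
  have h12 : Nat.card M * 2 = Nat.card Φ := by
    have := Subgroup.relIndex_mul_relIndex ⊥ M Φ bot_le hM2
    rwa [Subgroup.relIndex_bot_left, Subgroup.relIndex_bot_left, hM3] at this
  obtain ⟨x, -, hx1, hx2⟩ := FGS.exists_sq_mem hG hc (H := ψ.ker) (K := Φ) (D := ⊥) (M := M)
    (hM2.trans hΦZ) (fun m hm => hΦ2 m (hM2 hm)) (fun x hx => (QuotientGroup.eq_one_iff _).1 hx)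
    inferInstance hΦ2 (fun k hk x _ => hΦc k hk x) (by
      rw [Subgroup.relIndex_bot_left]
      have : Φ.index ≤ Φ.relIndex ψ.ker * 2 := h11 ▸ Nat.mul_le_mul_left _ h9
      nlinarith)
  exact hx1 (h5 ▸ hx2)

end Cfsg.Agent.S3773
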