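import Cfsg.Statements.S1138
import Mathlib
import Cfsg.Agent.Suz.HigSetup
-- import your own Cfsg.Agent.* helpers here

set_option autoImplicit false
open Cfsg

namespace Cfsg.Agent.S1138
open Cfsg.Agent.Suz.Hig
open scoped commutatorElement

/-- Let `P` be a Suzuki 2-group with `|Z(P)| = q`. Then every square lies in `Z(P)` and `P/Z(P)` is abelian (so elementary abelian), `|P| = q²` or `|P| = q³`, and `P` has exponent 4. -/
theorem result {P : Type*} [Group P] (hP : Cfsg.IsSuzukiTwoGroup P) :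
    (∀ x : P, x * x ∈ Subgroup.center P) ∧ (∀ x y : P, x⁻¹ * y⁻¹ * x * y ∈ Subgroup.center P) ∧
      (Nat.card P = Nat.card (Subgroup.center P) ^ 2 ∨ Nat.card P = Nat.card (Subgroup.center P) ^ 3) ∧
      Monoid.exponent P = 4 := by
  obtain ⟨_, hna, F, _, _, _, ξ, hS⟩ := exists_setup_of_isSuzuki hP
  obtain ⟨h1, h2, h3⟩ := hS.center_eq_and hna
  have : Nontrivial P := by
    by_contra h
    rw [not_nontrivial_iff_subsingleton] at h
    exact hna fun _ _ _ _ => Subsingleton.elim _ _
  rw [h1, hS.card_Z0]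
  refine ⟨h3, fun x y => by simpa [commutatorElement_def] using h2 x⁻¹ y⁻¹, hS.card_eq hna, ?_⟩
  have h4 : Monoid.exponent P ∣ 2 ^ 2 := Monoid.exponent_dvd_of_forall_pow_eq_one fun x => by
    rw [← hS.mem_Z0.1 (h3 x), ← pow_two, ← pow_two, ← pow_mul]; rfl
  obtain ⟨k, hk, e⟩ := (Nat.dvd_prime_pow Nat.prime_two).1 h4
  by_contra h5
  have h6 : Monoid.exponent P ∣ 2 := by
    interval_cases k
    · rw [e]; norm_num
    · rw [e]; norm_num
    · exact absurd e h5
  exact hna fun x _ y _ => hS.central x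
    (by rw [← pow_two]; exact Monoid.exponent_dvd_iff_forall_pow_eq_one.1 h6 x) y

end Cfsg.Agent.S1138
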