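import Cfsg.Statements.S3634
import Cfsg.Agent.FT.Cj
import Cfsg.Agent.PLocal.AmbSyl
import Cfsg.Agent.Solv.FrobeniusAction
-- import your own Cfsg.Agent.* helpers here

set_option autoImplicit false
open Cfsg

namespace Cfsg.Agent.S3634

open Cfsg.Agent.FT Cfsg.Agent.PLocal.Amb

variable {G : Type*} [Group G] [Finite G]

theorem exists_orderOf_mul {a b : G} (h : Commute a b) {s t : ℕ} (hs : s.Prime) (ht : t.Prime)
    (hst : s ≠ t) (ha : s ∣ orderOf a) (hb : t ∣ orderOf b) : ∃ x : G, orderOf x = s * t := by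
  have h1 := orderOf_pow_orderOf_div (orderOf_pos a).ne' ha
  have h2 := orderOf_pow_orderOf_div (orderOf_pos b).ne' hb
  refine ⟨a ^ (orderOf a / s) * b ^ (orderOf b / t), ?_⟩
  rw [(h.pow_pow _ _).orderOf_mul_eq_mul_orderOf_of_coprime, h1, h2]
  rw [h1, h2]
  exact (Nat.coprime_primes hs ht).mpr hst

theorem dvd_card_of_sup {H N : Subgroup G} (h : H ≤ 𝒩(N)) {r : ℕ}
    (hr : r ∣ Nat.card ↥(N ⊔ H) / Nat.card N) : r ∣ Nat.card H := by
  have h1 := Grp.card_sup_mul_card_inf_of_le_normalizer h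
  rw [sup_comm] at h1
  obtain ⟨c, hc⟩ := Subgroup.card_dvd_of_le (le_sup_left : N ≤ N ⊔ H)
  rw [hc, Nat.mul_div_cancel_left _ Nat.card_pos] at hr
  rw [hc, mul_assoc, mul_comm (Nat.card H)] at h1
  rw [← Nat.eq_of_mul_eq_mul_left Nat.card_pos h1]
  exact hr.mul_right _

theorem prime_dvd_orderOf {P : Subgroup G} {p : ℕ} [Fact p.Prime] (hP : IsPGroup p P) {v : G}
    (hv : v ∈ P) (h1 : v ≠ 1) : p ∣ orderOf v := by
  obtain ⟨k, hk⟩ := (IsPGroup.iff_orderOf.mp hP) ⟨v, hv⟩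
  rw [Subgroup.orderOf_mk] at hk
  rcases k with _ | k
  · exact absurd (orderOf_eq_one_iff.mp hk) h1
  · rw [hk]; exact dvd_pow_self p k.succ_ne_zero

/-- Three pairwise non-adjacent primes cannot form a tower `P`, `Q`, `x`. -/
theorem tower {P Q : Subgroup G} {p q r : ℕ} (hp : p.Prime) (hq : q.Prime) (hr : r.Prime)
    (hpq : p ≠ q) (hpr : p ≠ r) (hqr : q ≠ r) (hP : IsPGroup p P) (hQ : IsPGroup q Q)
    (hP1 : P ≠ ⊥) (hQ1 : Q ≠ ⊥) (hQP : Q ≤ 𝒩(P)) {x : G} (hx : orderOf x = r) (hxP : x ∈ 𝒩(P))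
    (hxQ : x ∈ 𝒩(Q)) : (∃ x : G, orderOf x = p * q) ∨ (∃ x : G, orderOf x = p * r) ∨
      (∃ x : G, orderOf x = q * r) := by
  haveI := Fact.mk hp
  haveI := Fact.mk hq
  by_contra hno
  simp only [not_or] at hno
  obtain ⟨n1, n2, n3⟩ := hno
  have hxQ' : Subgroup.zpowers x ≤ 𝒩(Q) := Subgroup.zpowers_le.mpr hxQ
  have hAP : Subgroup.zpowers x ⊔ Q ≤ 𝒩(P) := sup_le (Subgroup.zpowers_le.mpr hxP) hQP
  have hfpf : ∀ a ∈ Subgroup.zpowers x ⊔ Q, a ≠ 1 → P ⊓ Subgroup.centralizer {a} = ⊥ := by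
    intro a ha ha1
    rw [eq_bot_iff]
    rintro v ⟨hv, hva⟩
    by_contra hv1
    have hc : Commute v a := mem_cent1_iff.mp hva
    obtain ⟨s, hs, hsa⟩ := Nat.exists_prime_and_dvd (mt orderOf_eq_one_iff.mp ha1)
    have h1 := (hsa.trans (Subgroup.orderOf_dvd_natCard _ ha)).trans
      (Grp.card_sup_dvd_of_le_normalizer hxQ')
    obtain ⟨k, hk⟩ := hQ.exists_card_eq
    rw [Nat.card_zpowers, hx, hk] at h1
    rcases (Nat.Prime.dvd_mul hs).mp h1 with h2 | h2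
    · rw [Nat.prime_dvd_prime_iff_eq hs hr] at h2
      exact n2 (exists_orderOf_mul hc hp hr hpr (prime_dvd_orderOf hP hv hv1) (h2 ▸ hsa))
    · replace h2 := (Nat.prime_dvd_prime_iff_eq hs hq).mp (hs.dvd_of_dvd_pow h2)
      exact n1 (exists_orderOf_mul hc hp hq hpq (prime_dvd_orderOf hP hv hv1) (h2 ▸ hsa))
  haveI := abelian_center Q
  have hZ : 𝒵(Q) ≠ ⊥ := inf_centralizer_ne_bot hQ hQ Subgroup.le_normalizer hQ1
  have hcyc : IsCyclic ↥(𝒵(Q)) := Solv.Frob.isCyclic_of_fpf_of_comm hP1 (inf_le_left.trans hQP)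
    fun a ha => hfpf a (Subgroup.mem_sup_right ha.1)
  obtain ⟨⟨z, hz⟩, hz1⟩ := Subgroup.ne_bot_iff_exists_ne_one.mp hZ
  have hqz := prime_dvd_orderOf hQ hz.1 fun h => hz1 (Subtype.ext h)
  have hy := orderOf_pow_orderOf_div (orderOf_pos z).ne' hqz
  have hyZ : z ^ (orderOf z / q) ∈ 𝒵(Q) := pow_mem hz _
  generalize z ^ (orderOf z / q) = y at hy hyZ
  have hxy : x ∈ 𝒩(Subgroup.zpowers y) := by
    apply FT.mem_normalizer_of_cj_le
    rw [cj_zpowers, Subgroup.zpowers_le]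
    have hm : x * y * x⁻¹ ∈ 𝒵(Q) :=
      (Subgroup.mem_normalizer_iff.mp (norm_center hxQ' (Subgroup.mem_zpowers x)) y).mp hyZ
    have := Solv.Frob.mem_zpowers_of_orderOf_dvd (x := (⟨y, hyZ⟩ : ↥(𝒵(Q)))) (y := ⟨_, hm⟩)
      (by rw [Subgroup.orderOf_mk, Subgroup.orderOf_mk, orderOf_conj'])
    obtain ⟨k, hk⟩ := this
    exact ⟨k, by simpa using congrArg Subtype.val hk⟩
  have hc := Solv.Frob.commute_of_fpf_of_prime hP1 hAP hfpf
    (Subgroup.mem_sup_left (Subgroup.mem_zpowers x)) (Subgroup.mem_sup_right hyZ.1)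
    (hx ▸ hr) (hy ▸ hq) hxy
  exact n3 (exists_orderOf_mul hc.symm hq hr hqr hy.symm.dvd hx.symm.dvd)


/-- Let G be a finite group with normal subgroups K ≤ M, and let p, q, r be distinct primes with p dividing the order of K, q dividing the order of M/K and r dividing the order of G/M. Then p, q, r are not pairwise non-adjacent in the prime graph of G: G has an element of order pq, pr or qr. -/
theorem result {G : Type*} [Group G] [Finite G] (K M : Subgroup G) [K.Normal] [M.Normal] (hKM : K ≤ M)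
    (p q r : ℕ) (hp : p.Prime) (hq : q.Prime) (hr : r.Prime) (hpq : p ≠ q) (hpr : p ≠ r) (hqr : q ≠ r)
    (hpK : p ∣ Nat.card ↥K) (hqM : q ∣ Nat.card ↥M / Nat.card ↥K) (hrG : r ∣ Nat.card G / Nat.card ↥M) :
    (∃ x : G, orderOf x = p * q) ∨ (∃ x : G, orderOf x = p * r) ∨ (∃ x : G, orderOf x = q * r) := by
  haveI := Fact.mk hp
  haveI := Fact.mk hq
  haveI := Fact.mk hr
  have hK : ∀ L : Subgroup G, L ≤ 𝒩(K) := fun L => by
    rw [Subgroup.normalizer_eq_top]; exact le_top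
  have hM : ∀ L : Subgroup G, L ≤ 𝒩(M) := fun L => by
    rw [Subgroup.normalizer_eq_top]; exact le_top
  obtain ⟨P, hP⟩ := exists_isSyl p K
  obtain ⟨Q, hQ⟩ := exists_isSyl q (M ⊓ 𝒩(P))
  have e1 := hP.frattini_sup hKM (hK M)
  have e2 := hP.frattini_sup le_top (hK ⊤)
  have e3 := hQ.frattini_sup (L := 𝒩(P)) inf_le_right (norm_inf (hM _) Subgroup.le_normalizer)
  have e4 : M ⊔ (𝒩(P) ⊓ 𝒩(Q)) = ⊤ := by
    rw [eq_top_iff, ← e2, top_inf_eq, ← e3]
    refine sup_le (hKM.trans le_sup_left) (sup_le (inf_le_left.trans le_sup_left) ?_)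
    rw [e3]; exact le_sup_right
  have h1 : q ∣ Nat.card ↥(M ⊓ 𝒩(P)) := dvd_card_of_sup (hK _) (by rwa [e1])
  have h2 : r ∣ Nat.card ↥(𝒩(P) ⊓ 𝒩(Q)) :=
    dvd_card_of_sup (hM _) (by rwa [e4, Subgroup.card_top])
  obtain ⟨x, hx⟩ := exists_prime_orderOf_dvd_card' r h2
  exact tower hp hq hr hpq hpr hqr hP.pgrp hQ.pgrp (fun h => hP.eq_bot_iff.mp h hpK)
    (fun h => hQ.eq_bot_iff.mp h h1) (hQ.le.trans inf_le_right) (x := x)
    (by rw [Subgroup.orderOf_coe, hx]) x.2.1 x.2.2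

end Cfsg.Agent.S3634
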