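import Cfsg.Statements.S3633
import Cfsg.Agent.S3634
import Cfsg.Agent.Grp.MinNormal
-- import your own Cfsg.Agent.* helpers here

set_option autoImplicit false
open Cfsg

namespace Cfsg.Agent.S3633

theorem aux {G : Type*} [Group G] [Finite G] (ρ : Finset ℕ) (hρ : 3 ≤ ρ.card)
    (hc : ((∀ r ∈ ρ, r.Prime ∧ r ∣ Nat.card G) ∧
      (∀ r ∈ ρ, ∀ s ∈ ρ, r ≠ s → ¬ ∃ x : G, orderOf x = r * s)))
    (K : Subgroup G) [hKn : K.Normal] (hK : Group.IsSolvable ↥K) :
    ∀ r ∈ ρ, ∀ s ∈ ρ, r ∣ Nat.card ↥K → s ∣ Nat.card ↥K → r = s := by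
  classical
  obtain ⟨N, ⟨hNn, hNK, hN⟩, hmax⟩ := exists_maximal_of_wellFoundedGT
    (fun N : Subgroup G => N.Normal ∧ N ≤ K ∧
      ∀ r ∈ ρ, ∀ s ∈ ρ, r ∣ Nat.card ↥N → s ∣ Nat.card ↥N → r = s)
    ⟨⊥, inferInstance, bot_le, fun r hr s _ h _ => by
      rw [Subgroup.card_bot, Nat.dvd_one] at h
      exact absurd h (hc.1 r hr).1.ne_one⟩
  by_contra hcon
  have hne : K.map (QuotientGroup.mk' N) ≠ ⊥ := by
    intro h
    rw [Subgroup.map_eq_bot_iff, QuotientGroup.ker_mk'] at h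
    exact hcon (le_antisymm hNK h ▸ hN)
  haveI : (K.map (QuotientGroup.mk' N)).Normal := hKn.map _ (QuotientGroup.mk'_surjective N)
  haveI : Group.IsSolvable (K.map (QuotientGroup.mk' N)) :=
    Group.isSolvable_of_surjective ((QuotientGroup.mk' N).subgroupMap_surjective K)
  obtain ⟨q, M, hq, hMn, hM1, hMK, -, -, hMq, -⟩ :=
    Grp.exists_minNormal_elementaryAbelian_le (K.map (QuotientGroup.mk' N)) hne
  haveI := Fact.mk hq
  obtain ⟨k, hk⟩ := hMq.exists_card_eq
  have hk0 : k ≠ 0 := by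
    rintro rfl
    exact hM1 (Subgroup.card_eq_one.mp hk)
  have hcard := Grp.card_comap_mk' N M
  have hle : N ≤ M.comap (QuotientGroup.mk' N) := QuotientGroup.le_comap_mk' N M
  have hLK : M.comap (QuotientGroup.mk' N) ≤ K := by
    refine (Subgroup.comap_mono hMK).trans ?_
    rw [Subgroup.comap_map_eq, QuotientGroup.ker_mk', sup_eq_left.mpr hNK]
  haveI hLn : (M.comap (QuotientGroup.mk' N)).Normal := inferInstance
  generalize M.comap (QuotientGroup.mk' N) = L at *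
  rw [hk] at hcard
  have hdvd : ∀ r ∈ ρ, r ∣ Nat.card L → r = q ∨ r ∣ Nat.card N := by
    intro r hr h
    rw [hcard] at h
    exact ((hc.1 r hr).1.dvd_mul.mp h).imp_left fun h =>
      (Nat.prime_dvd_prime_iff_eq (hc.1 r hr).1 hq).mp ((hc.1 r hr).1.dvd_of_dvd_pow h)
  have hL : ¬ ∀ r ∈ ρ, ∀ s ∈ ρ, r ∣ Nat.card ↥L → s ∣ Nat.card ↥L → r = s := by
    intro h
    have h1 := Subgroup.card_le_of_le (hmax ⟨hLn, hLK, h⟩ hle)
    rw [hcard] at h1
    have h2 : 1 < q ^ k := Nat.one_lt_pow hk0 hq.one_lt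
    have h3 : 0 < Nat.card N := Nat.card_pos
    nlinarith
  have key : ∀ p ∈ ρ, q ∈ ρ → p ≠ q → ¬ p ∣ Nat.card N := by
    intro p hp hqρ hpq hpN
    obtain ⟨u, hu, hu'⟩ := Finset.exists_mem_notMem_of_card_lt_card (s := {p, q}) (t := ρ)
      (lt_of_le_of_lt Finset.card_le_two hρ)
    simp only [Finset.mem_insert, Finset.mem_singleton, not_or] at hu'
    have huL : ¬ u ∣ Nat.card L := fun h =>
      (hdvd u hu h).elim hu'.2 fun h => hu'.1 (hN u hu p hp h hpN)
    have h1 : u ∣ Nat.card G / Nat.card L := by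
      have := (hc.1 u hu).2
      rw [← L.card_mul_index] at this ⊢
      rw [Nat.mul_div_cancel_left _ Nat.card_pos]
      exact ((hc.1 u hu).1.dvd_mul.mp this).resolve_left huL
    have h2 : q ∣ Nat.card L / Nat.card N := by
      rw [hcard, Nat.mul_div_cancel _ Nat.card_pos]
      exact dvd_pow_self q hk0
    rcases S3634.result N L hle p q u (hc.1 p hp).1 hq (hc.1 u hu).1 hpq (Ne.symm hu'.1)
      (Ne.symm hu'.2) hpN h2 h1 with h | h | h
    · exact hc.2 p hp q hqρ hpq h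
    · exact hc.2 p hp u hu (Ne.symm hu'.1) h
    · exact hc.2 q hqρ u hu (Ne.symm hu'.2) h
  refine hL fun r hr s hs h1 h2 => ?_
  by_contra hrs
  rcases hdvd r hr h1 with rfl | h3
  · rcases hdvd s hs h2 with rfl | h4
    · exact hrs rfl
    · exact key s hs hr (Ne.symm hrs) h4
  · rcases hdvd s hs h2 with rfl | h4
    · exact key r hr hs hrs h3
    · exact hrs (hN r hr s hs h3 h4)


/-- Let G be a finite group and ρ a set of at least three prime divisors of the order of G that are pairwise non-adjacent in the prime graph (no element of order rs for distinct r, s ∈ ρ). Then at most one prime of ρ divides the order of any given solvable normal subgroup of G; in particular G is not solvable. -/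
theorem result {G : Type*} [Group G] [Finite G] (ρ : Finset ℕ) (hρ : 3 ≤ ρ.card) (hc : ((∀ r ∈ ρ, r.Prime ∧ r ∣ Nat.card G) ∧ (∀ r ∈ ρ, ∀ s ∈ ρ, r ≠ s → ¬ ∃ x : G, orderOf x = r * s)))
    (K : Subgroup G) [K.Normal] (hK : Group.IsSolvable ↥K) :
    (∀ r ∈ ρ, ∀ s ∈ ρ, r ∣ Nat.card ↥K → s ∣ Nat.card ↥K → r = s) ∧ ¬ Group.IsSolvable G := by
  refine ⟨aux ρ hρ hc K hK, fun hG => ?_⟩
  have h := aux ρ hρ hc ⊤ inferInstance
  rw [Subgroup.card_top] at h
  have : ρ.card ≤ 1 := Finset.card_le_one.mpr fun a ha b hb => h a ha b hb (hc.1 a ha).2 (hc.1 b hb).2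
  omega

end Cfsg.Agent.S3633
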