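import Cfsg.Statements.S3927
import Mathlib
import Cfsg.Agent.PLocal.FlavellZipper
import Cfsg.Agent.Grp.CardProduct

set_option autoImplicit false
open Cfsg

namespace Cfsg.Agent.S3927

open Subgroup PLocal PLocal.Amb

universe u

theorem gen1 {K : Type*} [Group K] (x a : K) : x * (a * x * a⁻¹)⁻¹ = x * a * x⁻¹ * a⁻¹ := by group

theorem gen2 {K : Type*} [Group K] (x a : K) (i : ℤ) :
    x * a * x⁻¹ * a⁻¹ = x * a ^ i * a * (x * a ^ i)⁻¹ * a⁻¹ := by group

theorem inner (k : ℕ) (H : Type u) [Group H] [Finite H] : ∀ a : H,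
    (∀ K : Subgroup H, K.Normal → zpowers a ≤ K → K = ⊤) →
    closure (Set.range ((fun c : H => c * a * c⁻¹ * a⁻¹)^[k])) ⊔ zpowers a = ⊤ := by
  refine Grp.card_induction (P := fun (H : Type u) [Group H] [Finite H] => ∀ a : H,
    (∀ K : Subgroup H, K.Normal → zpowers a ≤ K → K = ⊤) →
    closure (Set.range ((fun c : H => c * a * c⁻¹ * a⁻¹)^[k])) ⊔ zpowers a = ⊤)
    (fun H _ _ ih a ha => ?_) H
  by_contra hY
  obtain ⟨M, hM, hle⟩ := (eq_top_or_exists_le_coatom _).resolve_left hY
  have haM : a ∈ M := hle (mem_sup_right (mem_zpowers a))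
  have huniq : ∀ N : Subgroup H, IsCoatom N → a ∈ N → N = M := fun N hN haN => by
    refine FZ.eq_of_forall_ncl_le ha hM (fun K h1 h2 h3 => le_trans ?_ hle) hN (zpowers_le.2 haN)
    let a' : K := ⟨a, h1 (mem_zpowers a)⟩
    have h4 := ih K (by
      rw [← Nat.card_congr (topEquiv (G := H)).toEquiv]
      exact Grp.card_lt_card_of_lt (lt_top_iff_ne_top.2 h2)) a' fun L hL h5 => by
        refine map_injective K.subtype_injective ?_
        rw [← MonoidHom.range_eq_map, range_subtype]
        refine le_antisymm (map_subtype_le _) ?_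
        conv_lhs => rw [← h3]
        refine CP.ncl_le ?_ (le_normalizer_map_subtype L)
        exact zpowers_le.2 ⟨a', h5 (mem_zpowers _), rfl⟩
    have h5 := congrArg (Subgroup.map K.subtype) h4
    rw [← MonoidHom.range_eq_map, range_subtype, Subgroup.map_sup, MonoidHom.map_zpowers,
      MonoidHom.map_closure] at h5
    conv_lhs => rw [← h5]
    refine sup_le_sup (closure_mono ?_) le_rfl
    rintro _ ⟨_, ⟨c, rfl⟩, rfl⟩
    refine ⟨c, ?_⟩
    have : Function.Semiconj K.subtype (fun c : K => c * a' * c⁻¹ * a'⁻¹)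
      (fun c : H => c * a * c⁻¹ * a⁻¹) := fun _ => rfl
    exact ((this.iterate_right k) c).symm
  have hN : 𝐍[M] ≤ M := by
    rcases (le_normalizer (H := M)).eq_or_lt with h | h
    · exact h.ge
    · exact absurd (ha M (normalizer_eq_top_iff.1 (hM.2 _ h)) (zpowers_le.2 haM)) hM.1
  have key : ∀ j : ℕ, (∀ c : H, (fun c : H => c * a * c⁻¹ * a⁻¹)^[j] c ∈ M) → False := by
    intro j
    induction j with
    | zero => exact fun h => hM.1 (eq_top_iff.2 fun c _ => h c)
    | succ j ihj =>
      refine fun h => ihj fun c => ?_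
      have h1 := h c
      rw [Function.iterate_succ_apply'] at h1
      generalize (fun c : H => c * a * c⁻¹ * a⁻¹)^[j] c = d at h1
      have h2 := M.mul_mem h1 haM
      rw [inv_mul_cancel_right] at h2
      have h3 := huniq _ (FZ.coatom_cj hM d⁻¹) (mem_cj.2 (by rwa [inv_inv]))
      exact M.inv_mem_iff.1 (hN (cj_eq_iff.1 h3))
  exact key k fun c => hle (mem_sup_left (subset_closure ⟨c, rfl⟩))

/-- Let G be a finite group and α an automorphism of G with [G, α] = G, that is, the elements g·α(g)⁻¹ generate G. Then for every k ≥ 1 the iterated commutators [g, α, …, α] with k entries α — the values of the k-th iterate of the map c ↦ c·α(c)⁻¹ — also generate G. -/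
theorem result {G : Type*} [Group G] [Finite G] (α : MulAut G) (hG : Subgroup.closure (Set.range (fun c : G => c * (α c)⁻¹)) = ⊤) (k : ℕ) (hk : 1 ≤ k) :
    Subgroup.closure (Set.range ((fun c : G => c * (α c)⁻¹)^[k])) = ⊤ := by
  let H := G ⋊[(zpowers α).subtype] zpowers α
  have : Finite H := Finite.of_equiv _ SemidirectProduct.equivProd.symm
  let α' : zpowers α := ⟨α, mem_zpowers α⟩
  let a : H := SemidirectProduct.inr α'
  let ι : G →* H := SemidirectProduct.inl
  have h1 : ∀ c : G, a * ι c * a⁻¹ = ι (α c) := fun c => by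
    rw [← map_inv]; exact (SemidirectProduct.inl_aut α' c).symm
  have h2 : Function.Semiconj ι (fun c : G => c * (α c)⁻¹) (fun c : H => c * a * c⁻¹ * a⁻¹) :=
    fun c => by simp only [map_mul, map_inv, ← h1]; exact gen1 _ _
  have h3 : ∀ β : zpowers α, (SemidirectProduct.inr β : H) ∈ zpowers a := by
    rintro ⟨_, i, rfl⟩
    exact ⟨i, (map_zpow SemidirectProduct.inr α' i).symm⟩
  have h4 := inner k H a fun K hK h => by
    have h5 : ∀ g : G, ι g ∈ K := fun g => by
      have : (⊤ : Subgroup G) ≤ K.comap ι := by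
        rw [← hG, closure_le]
        rintro _ ⟨c, rfl⟩
        change ι _ ∈ K
        rw [h2 c]
        exact K.mul_mem (hK.conj_mem _ (h (mem_zpowers a)) _) (K.inv_mem (h (mem_zpowers a)))
      exact this (mem_top g)
    refine eq_top_iff.2 fun x _ => ?_
    rw [← SemidirectProduct.inl_left_mul_inr_right x]
    exact K.mul_mem (h5 _) (h (h3 _))
  let E := closure (Set.range ((fun c : G => c * (α c)⁻¹)^[k]))
  have h5 : closure (Set.range ((fun c : H => c * a * c⁻¹ * a⁻¹)^[k])) ≤ E.map ι := by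
    rw [closure_le]
    rintro _ ⟨x, rfl⟩
    obtain ⟨j, rfl⟩ := Nat.exists_eq_add_of_le' hk
    refine ⟨_, subset_closure ⟨x.left, rfl⟩, ?_⟩
    rw [h2.iterate_right, Function.iterate_succ_apply, Function.iterate_succ_apply]
    congr 1
    obtain ⟨i, hi⟩ := h3 x.right
    conv_rhs => rw [← SemidirectProduct.inl_left_mul_inr_right x, ← hi]
    exact gen2 _ _ _
  have h6 : zpowers a ≤ 𝐍[E.map ι] := by
    refine zpowers_le.2 (mem_normalizer_of_cj_le (cj_le_iff_forall.2 ?_))
    rintro _ ⟨e, he, rfl⟩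
    rw [h1]
    refine mem_map_of_mem ι ?_
    have : E ≤ E.comap α.toMonoidHom := by
      rw [closure_le]
      rintro _ ⟨c, rfl⟩
      have h7 : Function.Semiconj α (fun c : G => c * (α c)⁻¹) (fun c : G => c * (α c)⁻¹) :=
        fun c => by simp
      exact subset_closure ⟨α c, (h7.iterate_right k c).symm⟩
    exact this he
  refine eq_top_iff.2 fun g _ => ?_
  have h7 : ι g ∈ E.map ι ⊔ zpowers a := sup_le_sup_right h5 _ (h4 ▸ mem_top _)
  obtain ⟨_, ⟨e, he, rfl⟩, _, ⟨i, rfl⟩, h8⟩ := (mem_sup_of_le_normalizer_left h6).1 h7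
  have h9 := congrArg SemidirectProduct.left h8
  simp only [a, ← map_zpow, ι] at h9
  have h10 : g = e := by
    refine h9.trans ?_
    change e * _ = e
    rw [SemidirectProduct.left_inr, map_one, mul_one]
  exact h10 ▸ he

end Cfsg.Agent.S3927
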