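import Cfsg.Statements.S4126
import Mathlib
import Cfsg.Agent.PLocal.AmbSyl
import Cfsg.Agent.Grp.CritExp
import Cfsg.Agent.FGS.ClassSize
import Cfsg.Agent.Transfer.Frobenius
import Cfsg.Agent.Grp.CardProduct

set_option autoImplicit false
open Cfsg

namespace Cfsg.Agent.S4126

open Subgroup Cfsg.Agent.PLocal Cfsg.Agent.PLocal.Amb Cfsg.Agent.Grp
open scoped commutatorElement

theorem le_of_cover {P : Type*} [Group P] [Group.IsNilpotent P] (D C : Subgroup P) [hD : D.Normal]
    (h : ∀ d ∈ D, ∃ u : P, u * d * u⁻¹ ∈ C) : D ≤ C := by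
  have key : ∀ n : ℕ, ∀ d ∈ D, d ∈ Subgroup.upperCentralSeries P n → d ∈ C := by
    intro n
    induction n with
    | zero => intro d _ hd; rw [Subgroup.upperCentralSeries_zero, mem_bot] at hd; rw [hd]; exact C.one_mem
    | succ n ih =>
      intro d hdD hd
      obtain ⟨u, hu⟩ := h d hdD
      have h1 : d * u * d⁻¹ * u⁻¹ ∈ _ := Subgroup.mem_upperCentralSeries_succ_iff.1 hd u
      have h2 : d * u * d⁻¹ * u⁻¹ ∈ D := by
        have := D.mul_mem hdD (hD.conj_mem _ (D.inv_mem hdD) u)
        simpa [mul_assoc] using this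
      have h3 := C.mul_mem (ih _ h2 h1) hu
      simpa [mul_assoc] using h3
  obtain ⟨n, hn⟩ := Group.IsNilpotent.nilpotent (G := P)
  exact fun d hd => key n d hd (hn ▸ mem_top d)

/-- Let G be a finite group and p a prime. Suppose every element of order p, and when p = 2 also every element of order 4, has a conjugacy class of p-power size. Then G has a normal p-complement. -/
theorem result {G : Type*} [Group G] [Finite G] (p : ℕ) [Fact p.Prime]
    (h : ∀ x : G, (orderOf x = p ∨ (p = 2 ∧ orderOf x = 4)) → ∃ a : ℕ, (Subgroup.centralizer ({x} : Set G)).index = p ^ a) :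
    Cfsg.HasNormalPComplement p G := by
  classical
  have hp : p.Prime := Fact.out
  have hidx : ∀ x : G, x ^ CritExp.expQ p = 1 →
      ∃ a : ℕ, (Subgroup.centralizer ({x} : Set G)).index = p ^ a := by
    intro x hx
    by_cases h1 : x = 1
    · subst h1
      refine ⟨0, ?_⟩
      rw [pow_zero, index_eq_one, eq_top_iff]
      intro g _
      rw [mem_centralizer_singleton_iff]; simp
    have hpp : x ^ p = 1 → orderOf x = p := fun h => orderOf_eq_prime h h1
    rcases CritExp.pow_expQ_eq_one_iff.1 hx with h2 | ⟨h2, h3⟩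
    · exact h x (Or.inl (hpp h2))
    · by_cases h4 : x ^ p = 1
      · exact h x (Or.inl (hpp h4))
      · refine h x (Or.inr ⟨h2, ?_⟩)
        subst h2
        have := orderOf_eq_prime_pow (p := 2) (n := 1) (x := x) (by simpa using h4) (by simpa using h3)
        simpa using this
  have hO : ∀ x : G, x ^ CritExp.expQ p = 1 → x ∈ pCore p G := by
    intro x hx
    obtain ⟨a, ha⟩ := hidx x hx
    refine FGS.mem_pCore_of_index_centralizer_eq_pow ?_ ha
    rcases CritExp.pow_expQ_eq_one_iff.1 hx with h2 | ⟨h2, h3⟩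
    · exact ⟨1, by simpa using h2⟩
    · exact ⟨2, by subst h2; simpa using h3⟩
  obtain ⟨D, hDO, hND, hexp, -, hdet⟩ := CritExp.exists_char_amb (isPGroup_pCore' p G)
  have hNO : 𝐍[pCore p G] = ⊤ := normalizer_eq_top _
  have hDn : D.Normal := normalizer_eq_top_iff.1 (eq_top_iff.2 (hNO ▸ hND))
  obtain ⟨P⟩ : Nonempty (Sylow p G) := inferInstance
  have hDP : D ≤ P := hDO.trans ((isSyl_top P).le_of_le_normalizer (isPGroup_pCore' p G) le_top
    (hNO ▸ le_top))
  have hQ : ∀ q : ℕ, q.Prime → q ≠ p → ¬ q ∣ (𝐂[D]).index := by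
    intro q hq hqp
    haveI := Fact.mk hq
    obtain ⟨Q⟩ : Nonempty (Sylow q G) := inferInstance
    have hQD : D ≤ 𝐂[(Q : Subgroup G)] := by
      haveI := P.isPGroup'.isNilpotent
      have := le_of_cover (D.subgroupOf P) ((𝐂[(Q : Subgroup G)]).subgroupOf P) ?_
      · intro d hd
        exact this (x := ⟨d, hDP hd⟩) hd
      rintro ⟨d, hdP⟩ hd
      have hd' : d ∈ D := hd
      obtain ⟨a, ha⟩ := hidx d (hexp d hd')
      obtain ⟨T, hT⟩ := exists_isSyl q (centralizer ({d} : Set G))
      have hT' : IsSyl q T ⊤ := by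
        refine isSyl_of_not_dvd_relIndex hT.pgrp le_top ?_
        rw [relIndex_top_right, ← relIndex_mul_index hT.le, ha]
        intro hh
        rcases (Nat.Prime.dvd_mul hq).1 hh with h1 | h1
        · exact hT.not_dvd_relIndex h1
        · exact hqp ((Nat.prime_dvd_prime_iff_eq hq hp).1 (hq.dvd_of_dvd_pow h1))
      obtain ⟨y, -, hy⟩ := (isSyl_top Q).exists_cj_eq hT'
      obtain ⟨u, hu, c, hc, rfl⟩ := FGS.exists_sylow_mul_of_index_eq_pow ha P y
      refine ⟨⟨u, hu⟩, ?_⟩
      change u * d * u⁻¹ ∈ 𝐂[(Q : Subgroup G)]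
      rw [← hy, cj_mul, centralizer_cj, conj_mem_cj_iff]
      refine mem_centralizer_iff.2 fun t ht => ?_
      exact (mem_centralizer_singleton_iff.1 (cj_le_of_mem hT.le hc ht))
    have h2 : (Q : Subgroup G) ≤ 𝐂[D] := le_centralizer_iff.1 hQD
    exact fun hh => Q.not_dvd_index (hh.trans (index_dvd_of_le h2))
  have hCD : ∀ g : G, (orderOf g).Coprime p → g ∈ 𝐂[D] := by
    intro g hg
    refine mem_of_pow_mem_of_coprime (pow_index_mem _ g) ?_
    refine Nat.Coprime.symm (Nat.coprime_of_dvd fun q hq h1 h2 => ?_)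
    by_cases hqp : q = p
    · subst hqp
      exact (Nat.Prime.coprime_iff_not_dvd hq).1 hg.symm h2
    · exact hQ q hq hqp h1
  refine Transfer.hasNormalPComplement_iff_local.2 fun B hB _ g hg hc => ?_
  obtain ⟨E, -, -, hE, -, hdetE⟩ := CritExp.exists_char_amb hB
  refine hdetE g hg hc (mem_centralizer_iff.2 fun e he => ?_)
  exact mem_centralizer_iff.1 (hdet g (hNO ▸ mem_top g) hc (hCD g hc)) e (hO e (hE e he))

end Cfsg.Agent.S4126
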