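import Cfsg.Statements.S2507
import Cfsg.Agent.KSG.PSL2

set_option autoImplicit false
open Cfsg

namespace Cfsg.Agent.S2507

open KSG KSG.M2 Matrix


/-- Let F be a finite field with q = 2^f ≥ 4 elements. The conjugacy class sizes of PSL(2,F) are exactly 1, q(q − 1), q² − 1 and q(q + 1). -/
theorem result {F : Type*} [Field F] [Fintype F]
    (h2 : 2 ∣ Fintype.card F) (h4 : 4 ≤ Fintype.card F) :
    Set.range (fun g : (Matrix.ProjectiveSpecialLinearGroup (Fin 2) F) => (Subgroup.centralizer ({g} : Set (Matrix.ProjectiveSpecialLinearGroup (Fin 2) F))).index) =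
      {1, Fintype.card F * (Fintype.card F - 1), Fintype.card F ^ 2 - 1, Fintype.card F * (Fintype.card F + 1)} := by
  rw [← Nat.card_eq_fintype_card] at h2 h4 ⊢
  have h20 : (2 : F) = 0 := (two_eq_zero_or_odd (F := F)).resolve_right (by
    rintro ⟨k, hk⟩; omega)
  have key : ∀ g : Matrix.SpecialLinearGroup (Fin 2) F, _ :=
    fun g => index_centralizer_pr (g := g) (Or.inr h20)
  ext m
  simp only [Set.mem_range, Set.mem_insert_iff, Set.mem_singleton_iff]
  constructor
  · rintro ⟨g, rfl⟩
    obtain ⟨g, rfl⟩ := pr_surjective g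
    by_cases hs : IsScal (g : Matrix (Fin 2) (Fin 2) F)
    · left
      rw [pr_eq_one_iff.2 hs]
      simp
    · right
      rw [key]
      by_cases hg : (g : Matrix (Fin 2) (Fin 2) F).trace ^ 2 = 4
      · rw [index_cent_par hs hg, gcd_two_of_two_eq h20]; simp
      · by_cases hn : NoEig (g : Matrix (Fin 2) (Fin 2) F)
        · exact Or.inl (index_cent_noEig hn)
        · exact Or.inr (Or.inr (index_cent_split hg hn))
  · rintro (rfl | rfl | rfl | rfl)
    · exact ⟨1, by simp⟩
    · obtain ⟨g, hg⟩ := exists_noEig (F := F)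
      exact ⟨pr g, by rw [key, index_cent_noEig hg]⟩
    · refine ⟨pr (upar (1 : F) (by simp) 1), ?_⟩
      rw [key, index_cent_par (upar_not_isScal _ _ one_ne_zero) (by rw [trace_upar]; norm_num),
        gcd_two_of_two_eq h20, Nat.div_one]
    · obtain ⟨a, ha⟩ := exists_units_sq_ne_one h4
      have hg : ((dg a : Matrix.SpecialLinearGroup (Fin 2) F) : Matrix (Fin 2) (Fin 2) F).trace ^ 2
        ≠ 4 := by rw [trace_dg]; exact add_inv_sq_ne_four a.ne_zero ha
      refine ⟨pr (dg a), ?_⟩
      rw [key, index_cent_split hg]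
      intro hn
      have h5 := SL_card_centralizer_noEig hn
      rw [SL_card_centralizer_split ha (trace_dg a)] at h5
      omega

end Cfsg.Agent.S2507
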