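import Cfsg.Statements.S3240
import Cfsg.Agent.SCS.Grp
import Cfsg.Agent.CIT.Simple
import Cfsg.Agent.KSG.PSL2
import Cfsg.Agent.Class.SmallIso

set_option autoImplicit false
open Cfsg

namespace Cfsg.Agent.S3240

open Subgroup Cfsg.Agent.SCS Cfsg.Agent.KSG.M2
open scoped MatrixGroups

theorem arith {c p m n x s δ : ℤ} (hc : 8 ≤ c) (h1 : c ≤ p + 1) (h2 : 2 * m ≤ c + 2) (hm : 0 < m)
    (hn : 9 ≤ n) (hδ : δ = 1 ∨ δ = -1) (hx : 64 ≤ x) (hs : n * |s| ≤ x + (n - 1) * δ)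
    (e : p * m * (x - s) ^ 2 = n * c * x * (x + δ)) : n < p ∧ m < 2 * n := by
  have a1 : 9 * |s| ≤ x + 8 := by
    rcases le_or_gt |s| 0 with h | h
    · omega
    · rcases hδ with rfl | rfl <;> nlinarith
  have a2 := le_abs_self s
  have a3 := neg_abs_le s
  have b1 : 49 * x ^ 2 ≤ 64 * (x - s) ^ 2 := by nlinarith
  have b2 : 64 * (x - s) ^ 2 ≤ 81 * x ^ 2 := by nlinarith
  have b3 : 63 * x ^ 2 ≤ 64 * (x * (x + δ)) := by rcases hδ with rfl | rfl <;> nlinarith
  have b4 : 64 * (x * (x + δ)) ≤ 65 * x ^ 2 := by rcases hδ with rfl | rfl <;> nlinarith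
  have x0 : 0 < x ^ 2 := by positivity
  have pm : 0 < p * m := mul_pos (by omega) hm
  have nc : 0 < n * c := mul_pos (by omega) (by omega)
  have c1 : 63 * (n * c) ≤ 81 * (p * m) := le_of_mul_le_mul_right (by nlinarith) x0
  have c2 : 49 * (p * m) ≤ 65 * (n * c) := le_of_mul_le_mul_right (by nlinarith) x0
  constructor <;> by_contra h <;> nlinarith

theorem arith2 {p k N : ℕ} (h7 : 7 ≤ p) (hk : p = 2 ^ k + 1 ∨ p + 1 = 2 ^ k)
    (cG : Nat.gcd 2 (p - 1) * N = p * (p ^ 2 - 1)) :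
    ∃ m, 2 * m ≤ 2 ^ k + 2 ∧ ¬ 2 ∣ p * m ∧ N = 2 ^ k * (p * m) ∧ 8 ≤ 2 ^ k := by
  have k3 : 2 < k := (Nat.pow_lt_pow_iff_right one_lt_two).1 (by omega)
  obtain ⟨i, rfl⟩ := Nat.exists_eq_add_of_lt k3
  have h0 : 0 < 2 ^ i := by positivity
  rw [show 2 ^ (2 + i + 1) = 8 * 2 ^ i by ring] at hk ⊢
  generalize 2 ^ i = h at *
  rw [Nat.gcd_eq_left (by omega)] at cG
  rcases hk with rfl | hk
  · refine ⟨4 * h + 1, by omega, by rw [Nat.prime_two.dvd_mul]; omega, ?_, by omega⟩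
    rw [show (8 * h + 1) ^ 2 = 2 * (8 * h * (4 * h + 1)) + 1 by ring, Nat.add_sub_cancel] at cG
    nlinarith
  · obtain ⟨h, rfl⟩ : ∃ r, h = r + 1 := ⟨h - 1, by omega⟩
    obtain rfl : p = 8 * h + 7 := by omega
    refine ⟨4 * h + 3, by omega, by rw [Nat.prime_two.dvd_mul]; omega, ?_, by omega⟩
    rw [show (8 * h + 7) ^ 2 = 2 * (8 * (h + 1) * (4 * h + 3)) + 1 by ring,
      Nat.add_sub_cancel] at cG
    nlinarith

theorem arith3 {p m a b c : ℕ} (pp : p.Prime) (m0 : 0 < m) (ha : 0 < a) (hb : 1 < b) (hc : 1 < c)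
    (l1 : a < p) (l2 : m < 2 * a) (dv : a * b * c ∣ p * m) : False := by
  have d1 : a ∣ m := Nat.Coprime.dvd_of_dvd_mul_left ((pp.coprime_iff_not_dvd.2
    (Nat.not_dvd_of_pos_of_lt ha l1)).symm) (((dvd_mul_right _ _).mul_right _).trans dv)
  obtain ⟨r, rfl⟩ := d1
  obtain rfl : r = 1 := by
    rcases r with _ | _ | r
    · omega
    · rfl
    · nlinarith
  rw [mul_one, mul_assoc, mul_comm p, Nat.mul_dvd_mul_iff_left ha] at dv
  have e2 := (Nat.dvd_prime pp).1 ((dvd_mul_right _ _).trans dv)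
  have := Nat.le_of_dvd pp.pos dv
  nlinarith [e2.resolve_left (by omega)]

theorem no_four {F : Type*} [Field F] [Finite F] [CharP F 2] (g : PSL(2, F)) : orderOf g ≠ 4 := by
  obtain ⟨g, rfl⟩ := pr_surjective g
  have h2 : (2 : F) = 0 := two_eq_zero_of_charP
  obtain ⟨k, hk⟩ := even_card_of_two_eq h2
  have : 0 < Nat.card F := Nat.card_pos
  intro e
  have := orderOf_pr_cases 2 g
  rw [gcd_two_of_two_eq h2, Nat.div_one, Nat.div_one, e] at this
  omega

theorem card_L34 {F : Type*} [Field F] [Fintype F] (h : Fintype.card F = 4) :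
    Nat.card PSL(3, F) = 20160 := by
  have h0 := Class.gcd_mul_card_PSL (ι := Fin 3) (F := F)
  have h1 := Class.card_units_mul_card_SL (ι := Fin 3) (R := F)
  rw [Matrix.card_GL_field, Nat.card_units, Nat.card_eq_fintype_card, h, ← h0,
    Nat.card_eq_fintype_card (α := F), h] at h1
  simp [Fin.prod_univ_succ] at h1
  omega

theorem odd_index {G : Type*} [Group G] [Finite G] {t : G} (ht : orderOf t = 2)
    (h : ∀ z, orderOf z = 2 → IsConj t z) : ¬ 2 ∣ (centralizer ({t} : Set G)).index := by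
  have : Fact (Nat.Prime 2) := ⟨Nat.prime_two⟩
  obtain ⟨U, hU⟩ := exists_sylow_mem (p := 2) (k := 1) ht
  have : Nontrivial (U : Subgroup G) := ⟨⟨⟨t, hU⟩, 1, fun e => by
    rw [show t = 1 from congrArg Subtype.val e, orderOf_one] at ht; omega⟩⟩
  obtain ⟨z, hz, z2⟩ := exists_two_of_ne_bot (U.isPGroup'.to_subgroup (center _))
    U.isPGroup'.bot_lt_center.ne'
  have e := card_cent_isConj' (h z (by rw [orderOf_coe, z2]))
  have e1 := (centralizer ({t} : Set G)).card_mul_index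
  rw [e, ← (centralizer ({(z : G)} : Set G)).card_mul_index] at e1
  rw [Nat.eq_of_mul_eq_mul_left Nat.card_pos e1]
  exact fun d => U.not_dvd_index (d.trans (index_dvd_of_le fun g hg =>
    mem_centralizer_singleton_iff.2 (congrArg Subtype.val (mem_center_iff.1 hz ⟨g, hg⟩))))


/-- Call a subgroup A of a finite group G strongly self-centralizing if C_G(a) = A for every non-identity a ∈ A. Let G be a finite non-abelian simple group with three pairwise non-conjugate strongly self-centralizing subgroups A₁, A₂, A₃ with [N_G(A₁) : A₁] = 2, [N_G(A₂) : A₂] = [N_G(A₃) : A₃] = 4, |A₁| = n₁ ≥ 5, |A₂| = n₂ > 5, |A₃| = n₃ > 5, such that |G| ≤ 3 n₁² n₂² n₃² and the Sylow r-subgroups of G are abelian for every odd prime r not dividing n₁n₂n₃. Then G is isomorphic to a Suzuki group. -/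
theorem result {G : Type*} [Group G] [Finite G] [IsSimpleGroup G] (hG : ¬ IsMulCommutative G)
    (A₁ A₂ A₃ : Subgroup G)
    (hsc : ∀ A ∈ ({A₁, A₂, A₃} : Set (Subgroup G)), ∀ a ∈ A, a ≠ 1 → Subgroup.centralizer ({a} : Set G) = A)
    (hnc : ∀ g : G, A₁.map (MulAut.conj g).toMonoidHom ≠ A₂ ∧ A₁.map (MulAut.conj g).toMonoidHom ≠ A₃ ∧ A₂.map (MulAut.conj g).toMonoidHom ≠ A₃)
    (h₁ : A₁.relIndex (Subgroup.normalizer (A₁ : Set G)) = 2) (h₂ : A₂.relIndex (Subgroup.normalizer (A₂ : Set G)) = 4)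
    (h₃ : A₃.relIndex (Subgroup.normalizer (A₃ : Set G)) = 4)
    (hn₁ : 5 ≤ Nat.card ↥A₁) (hn₂ : 5 < Nat.card ↥A₂) (hn₃ : 5 < Nat.card ↥A₃)
    (hord : Nat.card G ≤ 3 * Nat.card ↥A₁ ^ 2 * Nat.card ↥A₂ ^ 2 * Nat.card ↥A₃ ^ 2)
    (hab : ∀ r : ℕ, r.Prime → r ≠ 2 → ¬ r ∣ Nat.card ↥A₁ * Nat.card ↥A₂ * Nat.card ↥A₃ →
      ∀ P : Sylow r G, IsMulCommutative ↥(P : Subgroup G)) :
    Cfsg.Lie.IsoSuzuki G := by
  classical
  have := Fintype.ofFinite G
  have c1 : CC A₁ := hsc A₁ (by simp)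
  have c2 : CC A₂ := hsc A₂ (by simp)
  have c3 : CC A₃ := hsc A₃ (by simp)
  have S : Sys A₁ A₂ A₃ := ⟨c1, c2, c3, h₁, h₂, h₃, hn₁, hn₂, hn₃, c1.disj c2 fun g => (hnc g).1,
    c1.disj c3 fun g => (hnc g).2.1, c2.disj c3 fun g => (hnc g).2.2⟩
  obtain ⟨E, χ, δ, t, x, s, T, n1, hd, hT⟩ := S.main hG hord
  have n2 := S.thirteen
  have n3 := S.symm.thirteen
  have od : ∀ {A : Subgroup G}, CC A → 2 ∣ A.relIndex (normalizer (A : Set G)) → Odd (Nat.card A) :=
    fun h d => by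
      obtain ⟨u, -, uA, -, ui⟩ := h.exists_inv d
      exact h.odd uA ui
  have o1 := od c1 h₁.symm.dvd
  have o2 := od c2 (by rw [h₂]; norm_num)
  have o3 := od c3 (by rw [h₃]; norm_num)
  obtain ⟨f, -, hf, -⟩ := c2.exists_four (by omega) h₂
  have hD : Dat (Far A₁ A₂ A₃) := by
    refine ⟨fun g h hh h1 c => ⟨fun n => hh.1 (c1.near_of_comm n h1 c.symm),
      fun n => hh.2.1 (c2.near_of_comm n h1 c.symm), fun n => hh.2.2 (c3.near_of_comm n h1 c.symm)⟩,
      fun u hu => ⟨fun n => o1.not_two_dvd_nat (hu ▸ n.orderOf_dvd),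
        fun n => o2.not_two_dvd_nat (hu ▸ n.orderOf_dvd),
        fun n => o3.not_two_dvd_nat (hu ▸ n.orderOf_dvd)⟩,
      fun u v hu hv => (T.one u hu).symm.trans (T.one v hv), ⟨f, hf⟩, fun l h1 h2 => ?_,
      fun p y pp p2 hy hD => hab p pp p2 fun d => ?_⟩
    · have nd : l.Nodup := h2.imp fun {a b} h (e : a = b) => h (e ▸ IsConj.refl _)
      have := hT l.toFinset (by simpa using h1) (by
        rw [List.coe_toFinset]
        have : Std.Symm fun a b : G => ¬ IsConj a b := ⟨fun a b h e => h e.symm⟩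
        exact h2.set_pairwise)
      rwa [List.toFinset_card_of_nodup nd, List.sum_toFinset _ nd] at this
    · rcases pp.dvd_mul.1 d with d | d
      · rcases pp.dvd_mul.1 d with d | d
        · exact hD.1 (c1.near_of_order pp d hy)
        · exact hD.2.1 (c2.near_of_order pp d hy)
      · exact hD.2.2 (c3.near_of_order pp d hy)
  have oi := odd_index T.ht T.one
  have : Fact (Nat.Prime 2) := ⟨Nat.prime_two⟩
  obtain ⟨j, hj⟩ := (hD.cit t T.ht).exists_card_eq
  have hc := (centralizer ({t} : Set G)).card_mul_index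
  rw [hj] at hc
  have key : ∀ k m, ¬ 2 ∣ m → Nat.card G = 2 ^ k * m → (centralizer ({t} : Set G)).index = m :=
    fun k m hm e => Nat.dvd_antisymm
      (Nat.Coprime.dvd_of_dvd_mul_left (Nat.Coprime.pow_right k
        ((Nat.prime_two.coprime_iff_not_dvd).2 oi).symm) (e ▸ index_dvd_card _))
      (Nat.Coprime.dvd_of_dvd_mul_left (Nat.Coprime.pow_right j
        ((Nat.prime_two.coprime_iff_not_dvd).2 hm).symm) (hc ▸ e ▸ dvd_mul_left _ _))
  have dv := Nat.Coprime.dvd_of_dvd_mul_left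
    (Nat.Coprime.pow_right j (Nat.coprime_two_right.2 ((o1.mul o2).mul o3))) (hc ▸ S.dvd)
  have lv := (Nat.mul_le_mul (Nat.mul_le_mul n1 n2) n3).trans
    (Nat.le_of_dvd (Nat.pos_of_ne_zero index_ne_zero_of_finite) dv)
  rcases CIT.cit_simple hG hD.cit with ⟨F, _, _, n, -, hF, ⟨e⟩⟩ | h |
    ⟨F, _, _, pp, h7, ⟨k, hk⟩, ⟨e⟩⟩ | ⟨F, _, _, hF, ⟨e⟩⟩ | ⟨F, _, _, hF, ⟨e⟩⟩
  · have := charP_of_card_eq_prime_pow hF
    exact absurd ((e.orderOf_eq f).trans hf) (no_four _)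
  · exact h
  · exfalso
    have cG := Class.gcd_mul_card_PSL2 (F := F)
    rw [← Nat.card_congr e.toEquiv] at cG
    generalize Fintype.card F = p at *
    obtain ⟨m, m1, m2, m3, m4⟩ := arith2 h7 hk cG
    have hi := key k _ m2 m3
    have fm := T.formula
    have m0 : 0 < m := Nat.pos_of_ne_zero fun e => m2 (by simp [e])
    rw [hi, m3] at fm
    have x0 := Int.le_of_dvd (by have := T.x2; have := T.hδ; omega) hd
    obtain ⟨l1, l2⟩ := arith (c := (2 ^ k : ℕ)) (p := p) (m := m) (n := Nat.card A₁) (x := x) (s := s)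
      (by omega) (by omega) (by omega) (by omega) (by omega) T.hδ
      (by have := T.hδ; have := Nat.mul_le_mul n2 n3; omega) (T.abs_le c1 h₁.symm.dvd T.val)
      (mul_left_cancel₀ (a := (p * m : ℤ)) (by positivity)
        (by push_cast at fm ⊢; linear_combination fm))
    rw [hi] at dv
    exact arith3 pp m0 (by omega) (by omega) (by omega) (by omega) (by omega) dv
  · have cG := Class.gcd_mul_card_PSL2 (F := F)
    rw [← Nat.card_congr e.toEquiv, hF] at cG
    have := key 3 45 (by norm_num) (by norm_num at cG ⊢; omega)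
    omega
  · have := key 6 315 (by norm_num) (by rw [Nat.card_congr e.toEquiv, card_L34 hF]; norm_num)
    omega

end Cfsg.Agent.S3240
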