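import Cfsg.Statements.S1001
import Mathlib
import Cfsg.Agent.S0904
import Cfsg.Agent.S0144

set_option autoImplicit false
open Cfsg

namespace Cfsg.Agent.S1001



/-- In a finite simple group whose order has the form p * 3^a * 2^b with p prime, the centralizer of any element of order p is the cyclic group it generates. -/
theorem result {G : Type*} [Group G] [Finite G] [IsSimpleGroup G] (p a b : ℕ) (hp : p.Prime) (hG : Nat.card G = p * 3 ^ a * 2 ^ b) (x : G) (hx : orderOf x = p) : Subgroup.centralizer ({x} : Set G) = Subgroup.zpowers x := by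
  have hxne : x ≠ 1 := by
    rintro rfl
    rw [orderOf_one] at hx
    exact hp.one_lt.ne hx
  by_cases h23 : p = 2 ∨ p = 3
  · have hsolv : Group.IsSolvable G := by
      rcases h23 with rfl | rfl
      · exact S0144.result 3 2 a (b + 1) Nat.prime_three Nat.prime_two (by rw [hG]; ring)
      · exact S0144.result 3 2 (a + 1) b Nat.prime_three Nat.prime_two (by rw [hG]; ring)
    have hcomm : ∀ a b : G, a * b = b * a := IsSimpleGroup.comm_iff_isSolvable.mpr hsolv
    have hn : (Subgroup.zpowers x).Normal := ⟨fun n hn g => by
      rw [hcomm g n, mul_inv_cancel_right]; exact hn⟩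
    have htop : Subgroup.zpowers x = ⊤ := by
      rcases hn.eq_bot_or_eq_top with h | h
      · exact absurd (Subgroup.zpowers_eq_bot.mp h) hxne
      · exact h
    rw [htop, eq_top_iff]
    intro g _
    rw [Subgroup.mem_centralizer_iff]
    intro h _
    exact hcomm h g
  · push Not at h23
    haveI : Fact p.Prime := ⟨hp⟩
    have hcop : Nat.Coprime p (3 ^ a * 2 ^ b) := by
      apply Nat.Coprime.mul_right
      · exact Nat.Coprime.pow_right _ ((Nat.coprime_primes hp Nat.prime_three).mpr h23.2)
      · exact Nat.Coprime.pow_right _ ((Nat.coprime_primes hp Nat.prime_two).mpr h23.1)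
    have hc : Nat.card (Subgroup.zpowers x) = p := by rw [Nat.card_zpowers, hx]
    have hidx : (Subgroup.zpowers x).index = 3 ^ a * 2 ^ b := by
      have := (Subgroup.zpowers x).card_mul_index
      rw [hc, hG, mul_assoc] at this
      exact Nat.eq_of_mul_eq_mul_left hp.pos this
    have hpg : IsPGroup p (Subgroup.zpowers x) := IsPGroup.of_card (n := 1) (by rw [hc, pow_one])
    let S : Sylow p G := hpg.toSylow (by
      rw [hidx]; exact (Nat.Prime.coprime_iff_not_dvd hp).mp hcop)
    have hS : (S : Subgroup G) = Subgroup.zpowers x := rfl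
    have := S0904.result 3 2 p a b Nat.prime_three Nat.prime_two (by norm_num) (Ne.symm h23.2)
      (Ne.symm h23.1) (by rw [hG]; ring) S
    rw [← hS, ← this]
    apply le_antisymm
    · intro g hg
      rw [Subgroup.mem_centralizer_iff] at hg ⊢
      intro h hh
      have hh' : h ∈ Subgroup.zpowers x := hh
      obtain ⟨k, rfl⟩ := Subgroup.mem_zpowers_iff.mp hh'
      exact (Commute.zpow_left (hg x rfl) k)
    · apply Subgroup.centralizer_le
      intro y hy
      rw [Set.mem_singleton_iff.mp hy]
      exact Subgroup.mem_zpowers x

end Cfsg.Agent.S1001
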