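import Cfsg.Statements.S2029
import Mathlib
import Cfsg.Agent.KM.Main

set_option autoImplicit false
open Cfsg

namespace Cfsg.Agent.S2029

/-- Let p be an odd prime and G a finite group that is both of local characteristic p (p divides its order and every p-local subgroup N satisfies C_N(O_p(N)) ≤ O_p(N)) and of characteristic 2 type (even order and every 2-local subgroup M satisfies C_M(O_2(M)) ≤ O_2(M)). Then every 2-local subgroup of G has p-rank at most 2. -/
theorem result {G : Type*} [Group G] [Finite G] (p : ℕ) [Fact p.Prime] (hp : p ≠ 2) (hGp : Cfsg.IsOfLocalCharacteristic p G) (hG2 : Cfsg.IsCharacteristicTwoType G) : Cfsg.TwoLocalPRankLE p 2 G := by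
  haveI : Fact (Nat.Prime 2) := ⟨Nat.prime_two⟩
  rintro _ ⟨Q, hQ, Q1, rfl⟩ A h1 h2
  rw [← Subgroup.card_map_of_injective (Subgroup.subtype_injective _)]
  refine KM.rank_le_two hp (fun B hB B1 => ?_) (fun t t1 tt => ?_) hQ Q1 ⟨inferInstance, ?_⟩
    (Subgroup.map_subtype_le _)
  · exact (PLocal.CP.isCharP_normalizer_iff hB).1 (PLocal.CP.isCharP_iff.2 (hGp.2 B hB B1))
  · have hB : IsPGroup 2 (Subgroup.zpowers t) :=
      PLocal.Amb.isPGroup_zpowers ⟨1, by rw [pow_one, pow_two, tt]⟩
    rw [← PLocal.Amb.centralizer_zpowers]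
    exact (PLocal.CP.isCharP_normalizer_iff hB).1
      (PLocal.CP.isCharP_iff.2 (hG2.2 _ hB (by simpa using t1)))
  · rintro _ ⟨a, ha, rfl⟩
    rw [← map_pow, h2 a ha, map_one]

end Cfsg.Agent.S2029
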