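import Cfsg.Statements.S0999
import Cfsg.Agent.Char.BrauerReynoldsCor

set_option autoImplicit false
open Cfsg

namespace Cfsg.Agent.S0999

open Subgroup Cfsg.Agent.Grp Cfsg.Agent.Grp.SelfCent Cfsg.Agent.Char Cfsg.Agent.Char.SelfC Cfsg.Agent.Small


/-- Let G be a non-cyclic finite simple group and p a prime divisor of its order with p^3 > |G|. Then p > 3 and G is isomorphic to the projective special linear group of dimension 2 over the field with p elements, or p - 1 is a power of 2 and G is isomorphic to that group over the field with p - 1 elements. -/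
theorem result {G : Type*} [Group G] [Finite G] [IsSimpleGroup G] (hG : ¬ IsCyclic G) (p : ℕ) (hp : p.Prime) (hdvd : p ∣ Nat.card G) (hbig : Nat.card G < p ^ 3) : (∃ (F : Type) (_ : Field F) (_ : Fintype F), Fintype.card F = p ∧ 3 < p ∧ Nonempty (G ≃* Matrix.ProjectiveSpecialLinearGroup (Fin 2) F)) ∨ (∃ (m : ℕ) (F : Type) (_ : Field F) (_ : Fintype F), Fintype.card F = 2 ^ m ∧ p = 2 ^ m + 1 ∧ 3 < p ∧ Nonempty (G ≃* Matrix.ProjectiveSpecialLinearGroup (Fin 2) F)) := by
  haveI := Fact.mk hp
  have hc : ¬ IsMulCommutative G := fun h => hG (by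
    letI : CommGroup G := { (inferInstance : Group G) with mul_comm := h.is_comm.comm }
    exact IsSimpleGroup.isCyclic)
  have hperf := Small.commutator_eq_top hc
  obtain ⟨P⟩ : Nonempty (Sylow p G) := inferInstance
  have hnn : ¬ (P : Subgroup G).Normal := fun h =>
    sylow_normalizer_ne_top hc P hdvd (normalizer_eq_top_iff.2 h)
  obtain ⟨x, hx, hxP⟩ := exists_zpowers_eq_sylow P (card_sylow_eq_of_lt_cube hdvd hbig P hnn)
  obtain ⟨n, h1, -⟩ := exists_index_normalizer P hxP.symm
  refine brauerReynolds_of_bot hperf ?_ P hxP.symm hx h1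
    (not_third_of_lt_cube hperf P hxP.symm hx h1 hbig)
  refine (IsSimpleGroup.eq_bot_or_eq_top_of_normal _ inferInstance).resolve_right fun h => ?_
  have := not_dvd_card_pPrimeCore p G
  rw [h, card_top] at this
  exact this hdvd

end Cfsg.Agent.S0999
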