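import Cfsg.Statements.S0997
import Mathlib
import Cfsg.Agent.Small.BTuan
import Cfsg.Agent.Class.SmallIso
import Cfsg.Agent.S0999

set_option autoImplicit false
open Cfsg

namespace Cfsg.Agent.S0997

theorem psl {G : Type*} [Group G] [Finite G] {p q b g : ℕ} (hp : p.Prime) (hq : q.Prime)
    (hp3 : 3 ≤ p) (hG' : Nat.card G = p * (q ^ b * g)) (hg : g < p - 1) {F : Type} [Field F]
    [Fintype F] (hF : Fintype.card F = p)
    (e : G ≃* Matrix.ProjectiveSpecialLinearGroup (Fin 2) F) :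
    ∃ m, p = 2 ^ m + 1 ∨ p = 2 ^ m - 1 := by
  have h := Class.gcd_mul_card_PSL2 (F := F)
  have hg2 : Nat.gcd 2 (p - 1) = 2 := by
    obtain ⟨k, hk⟩ := hp.odd_of_ne_two (by omega)
    exact Nat.gcd_eq_left ⟨k, by omega⟩
  rw [hF, hg2, ← Nat.card_congr e.toEquiv, hG'] at h
  refine Small.BTuan.psl_arith (b := b) hp hp3 hq hg (Nat.eq_of_mul_eq_mul_left hp.pos ?_)
  rw [← h]; ring

/-- Let G be a non-cyclic finite simple group of order p * q^b * g₀, where p and q are distinct primes and g₀ < p - 1. Then either p has the form 2^m + 1 or 2^m - 1 and G is isomorphic to the projective special linear group of dimension 2 over the field with p elements, or p = 2^m + 1 > 3 and G is isomorphic to that group over the field with 2^m elements. -/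
theorem result {G : Type*} [Group G] [Finite G] [IsSimpleGroup G] (hG : ¬ IsCyclic G) (p q b g₀ : ℕ) (hp : p.Prime) (hq : q.Prime) (hpq : p ≠ q) (hG' : Nat.card G = p * q ^ b * g₀) (hg : g₀ < p - 1) : (∃ (m : ℕ) (F : Type) (_ : Field F) (_ : Fintype F), Fintype.card F = p ∧ (p = 2 ^ m + 1 ∨ p = 2 ^ m - 1) ∧ Nonempty (G ≃* Matrix.ProjectiveSpecialLinearGroup (Fin 2) F)) ∨ (∃ (m : ℕ) (F : Type) (_ : Field F) (_ : Fintype F), Fintype.card F = 2 ^ m ∧ p = 2 ^ m + 1 ∧ 3 < p ∧ Nonempty (G ≃* Matrix.ProjectiveSpecialLinearGroup (Fin 2) F)) := by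
  have hna : ¬ IsMulCommutative G := fun h => by
    letI : CommGroup G := { (inferInstance : Group G) with mul_comm := h.is_comm.comm }
    exact hG inferInstance
  have hg0 : g₀ ≠ 0 := by
    rintro rfl
    have := Nat.card_pos (α := G)
    simp [hG'] at this
  obtain ⟨c, g, hqg, rfl⟩ := Nat.exists_eq_pow_mul_and_not_dvd hg0 q hq.ne_one
  have hcard : Nat.card G = p * (q ^ (b + c) * g) := by rw [hG']; ring
  have hg' : g < p - 1 := lt_of_le_of_lt (Nat.le_mul_of_pos_left _ (pow_pos hq.pos c)) hg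
  have hp3 : 3 ≤ p := by
    have : 0 < q ^ c * g := Nat.pos_of_ne_zero hg0
    omega
  haveI : Fact p.Prime := ⟨hp⟩
  rcases Small.BTuan.main hna hq hpq hqg hcard hg' with h | ⟨⟨e⟩⟩
  · rcases S0999.result hG p hp ⟨_, hcard⟩ h with ⟨F, _, _, hF, -, ⟨e⟩⟩ | h
    · obtain ⟨m, hm⟩ := psl hp hq hp3 hcard hg' hF e
      exact Or.inl ⟨m, F, inferInstance, inferInstance, hF, hm, ⟨e⟩⟩
    · exact Or.inr h
  · obtain ⟨m, hm⟩ := psl hp hq hp3 hcard hg' (ZMod.card p) e
    exact Or.inl ⟨m, ZMod p, inferInstance, inferInstance, ZMod.card p, hm, ⟨e⟩⟩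

end Cfsg.Agent.S0997
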