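import Cfsg.Statements.S0998
import Mathlib
import Cfsg.Agent.S0997
import Cfsg.Agent.Small.SieveBase
import Cfsg.Agent.Class.SmallIso
import Cfsg.Agent.Perm.ZassPrime

set_option autoImplicit false
open Cfsg

namespace Cfsg.Agent.S0998

theorem arith {r q b m u : ℕ} (hr : r.Prime) (hq : q.Prime) (hqr : q ≠ r) (hm : 2 ≤ m)
    (hu : u % 2 = 1) (h : 2 ^ m * u = r * q ^ b) : r = u := by
  have h4 : 2 * 2 ∣ r * q ^ b := h ▸ (pow_dvd_pow 2 hm).mul_right u
  have hq2 : q = 2 := by
    by_contra h2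
    have h5 : Nat.Coprime (2 * 2) (q ^ b) :=
      Nat.Coprime.pow (2 : ℕ) b ((Nat.coprime_primes Nat.prime_two hq).2 (Ne.symm h2))
    rcases (Nat.dvd_prime hr).1 (h5.dvd_of_dvd_mul_right h4) with h | h
    · omega
    · rw [← h] at hr; norm_num at hr
  subst hq2
  refine Nat.dvd_antisymm ?_ ?_
  · exact (Nat.Coprime.pow_right m ((Nat.coprime_primes hr hq).2 hqr.symm)).dvd_of_dvd_mul_left
      (h ▸ dvd_mul_right _ _)
  · exact (Nat.Coprime.pow_right b (Nat.coprime_two_right.2 (Nat.odd_iff.2 hu))).dvd_of_dvd_mul_right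
      (h ▸ dvd_mul_left _ _)

theorem three_eq {r : ℕ} (hr : r.Prime) (h : 3 ∣ r) : r = 3 :=
  ((Nat.prime_dvd_prime_iff_eq Nat.prime_three hr).1 h).symm

open Cfsg.Agent.Small in
theorem aux {G : Type*} [Group G] [Finite G] [IsSimpleGroup G] (hG : ¬ IsCyclic G)
    (hc : ¬ IsMulCommutative G) (p q r b : ℕ)
    (hp : p.Prime) (hq : q.Prime) (hr : r.Prime) (hpq : p ≠ q) (hpr : r < p) (hqr : q ≠ r)
    (hG' : Nat.card G = p * r * q ^ b) : Nat.card G = 60 ∨ Nat.card G = 168 := by
  have hr2 := hr.two_le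
  have hp2 : p % 2 = 1 := hp.eq_two_or_odd.resolve_left (by omega)
  have h1 : r < p - 1 := by
    by_contra h1
    obtain rfl : r = 2 := hr.eq_two_or_odd.resolve_right (by omega)
    have := twelve_sixteen_fiftysix hc (by rw [hG']; exact (dvd_mul_left 2 p).mul_right _)
    have h2 : p * q ^ b % 2 = 1 :=
      Nat.odd_iff.1 ((Nat.odd_iff.2 hp2).mul (hq.odd_of_ne_two hqr).pow)
    rw [mul_right_comm] at hG'
    omega
  rcases S0997.result hG p q b r hp hq hpq (by rw [hG']; ring) h1 with
    ⟨m, K, _, _, h2, h3, ⟨e⟩⟩ | ⟨m, K, _, _, h2, h3, h4, ⟨e⟩⟩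
  · have h4 := Class.gcd_mul_card_PSL2 (F := K)
    rw [← Nat.card_congr e.toEquiv, h2, Nat.gcd_eq_left (by omega)] at h4
    have h5 : 2 * (r * q ^ b) + 1 = p ^ 2 := by
      rw [hG', mul_assoc, mul_left_comm] at h4
      have := Nat.eq_of_mul_eq_mul_left hp.pos h4
      have := pow_pos hp.pos 2
      omega
    have hm : 2 ≤ m := by
      by_contra h6
      interval_cases m <;> omega
    obtain ⟨k, rfl⟩ := Nat.exists_eq_add_of_le' hm
    have h6 : 2 ^ (k + 2) = 4 * 2 ^ k := by ring
    have h7 := Nat.one_le_two_pow (n := k)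
    have h8 : ¬ 3 ∣ 2 ^ k := fun h => by
      have := Nat.prime_three.dvd_of_dvd_pow h
      omega
    rcases h3 with h3 | h3
    · have h9 := arith hr hq hqr hm (u := 2 * 2 ^ k + 1) (b := b) (by omega) (by
        rw [h3] at h5; rw [h6] at h5 ⊢; nlinarith)
      have h10 : p = 5 := by
        by_cases h : 3 ∣ r
        · have := three_eq hr h; omega
        · have h11 : 2 ^ k % 3 = 1 ∨ 2 ^ k % 3 = 2 := by omega
          have := three_eq hp (by rcases h11 with h11 | h11 <;> omega); omega
      rw [h10] at h4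
      omega
    · have h9 := arith hr hq hqr hm (u := 2 * 2 ^ k - 1) (b := b) (by omega) (by
        obtain ⟨j, hj⟩ := Nat.exists_eq_add_of_le' h7
        rw [h6, hj] at h3 ⊢
        rw [show 2 * (j + 1) - 1 = 2 * j + 1 by omega]
        rw [show p = 4 * j + 3 by omega] at h5
        nlinarith)
      have h10 : p = 7 := by
        by_cases h : 3 ∣ r
        · have := three_eq hr h; omega
        · have h11 : 2 ^ k % 3 = 1 ∨ 2 ^ k % 3 = 2 := by omega
          have := three_eq hp (by rcases h11 with h11 | h11 <;> omega); omega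
      rw [h10] at h4
      omega
  · have hm : 2 ≤ m := by
      by_contra h6
      interval_cases m <;> omega
    have h5 := Class.gcd_mul_card_PSL2 (F := K)
    have h6 : 2 ^ m % 2 = 0 := by omega
    have h7 : Nat.gcd 2 (2 ^ m - 1) = 1 := Nat.coprime_two_left.2 (Nat.odd_iff.2 (by omega))
    rw [← Nat.card_congr e.toEquiv, h2, h7, one_mul] at h5
    have h8 : ¬ 3 ∣ 2 ^ m := fun h => by
      have := Nat.prime_three.dvd_of_dvd_pow h
      omega
    have h9 := arith hr hq hqr hm (u := 2 ^ m - 1) (b := b) (by omega) (by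
      apply Nat.eq_of_mul_eq_mul_left hp.pos
      rw [← mul_assoc p r, ← hG', h5, h3]
      obtain ⟨j, hj⟩ := Nat.exists_eq_add_of_le' (Nat.one_le_two_pow (n := m))
      rw [hj, show (j + 1) ^ 2 - 1 = j * (j + 2) by
        rw [Nat.sub_eq_iff_eq_add (Nat.one_le_pow _ _ (by omega))]; ring]
      simp only [Nat.add_sub_cancel]; ring)
    have h10 : 2 ^ m = 4 := by
      by_cases h : 3 ∣ r
      · have := three_eq hr h; omega
      · have h11 : 2 ^ m % 3 = 1 ∨ 2 ^ m % 3 = 2 := by omega
        have := three_eq hp (by rcases h11 with h11 | h11 <;> omega); omega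
    rw [h10] at h5
    omega

/-- A non-cyclic finite simple group whose order has the form p * r * q^b for distinct primes p, q, r is isomorphic to the projective special linear group of dimension 2 over the field with 5 or with 7 elements. -/
theorem result {G : Type*} [Group G] [Finite G] [IsSimpleGroup G] (hG : ¬ IsCyclic G) (p q r b : ℕ) (hp : p.Prime) (hq : q.Prime) (hr : r.Prime) (hpq : p ≠ q) (hpr : p ≠ r) (hqr : q ≠ r) (hG' : Nat.card G = p * r * q ^ b) : (∃ (F : Type) (_ : Field F) (_ : Fintype F), Fintype.card F = 5 ∧ Nonempty (G ≃* Matrix.ProjectiveSpecialLinearGroup (Fin 2) F)) ∨ (∃ (F : Type) (_ : Field F) (_ : Fintype F), Fintype.card F = 7 ∧ Nonempty (G ≃* Matrix.ProjectiveSpecialLinearGroup (Fin 2) F)) := by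
  have hc : ¬ IsMulCommutative G := fun h => hG (by
    let : CommGroup G := { (inferInstance : Group G) with mul_comm := h.is_comm.comm }
    exact IsSimpleGroup.isCyclic)
  have h1 : Nat.card G = 60 ∨ Nat.card G = 168 := by
    rcases Nat.lt_or_gt_of_ne hpr with h | h
    · exact aux hG hc r q p b hr hq hp hqr.symm h hpq.symm (by rw [hG']; ring)
    · exact aux hG hc p q r b hp hq hr hpq h hqr hG'
  have : Fact (Nat.Prime 5) := ⟨by norm_num⟩
  have : Fact (Nat.Prime 7) := ⟨by norm_num⟩
  rcases h1 with h1 | h1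
  · exact Or.inl ⟨ZMod 5, inferInstance, inferInstance, ZMod.card 5,
      Perm.ZassPSL.psl_of_card (p := 5) (by norm_num) le_rfl (by rw [h1]; norm_num) (Nat.card_zmod 5)⟩
  · exact Or.inr ⟨ZMod 7, inferInstance, inferInstance, ZMod.card 7,
      Perm.ZassPSL.psl_of_card (p := 7) (by norm_num) (by norm_num) (by rw [h1]; norm_num)
        (Nat.card_zmod 7)⟩

end Cfsg.Agent.S0998
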