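import Cfsg.Statements.S3377
import Mathlib
import Cfsg.Agent.KSG.AltPres
import Cfsg.Agent.KSG.WordCert

set_option autoImplicit false
open Cfsg

namespace Cfsg.Agent.S3377

open Cfsg.Agent.KSG Cfsg.Agent.KSG.Word Equiv

def cert : List (List ℕ × List (List ℕ × ℕ × Bool)) :=
[
([0,0,0],[([],0,true)]),
([1,1,1],[([1,1],3,false)]),
([0,2,0,2],[([],2,true)]),
([1,3,1,3],[([1,3,1],5,false)]),
([3,1,3,1],[([],5,false)]),
([2,0,2,0],[([1],5,true)]),
([2,2,2,2,2],[([],1,true)]),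
([0,2,1,1,2],[([0,2],3,false),([],5,true)]),
([1,3,0,0,3],[([1,3],4,false),([],6,true)]),
([3,3,3,3,3],[([3,3,3],9,false)]),
([1,2,1,1,2,1],[([],3,false),([0],10,true)]),
([2,2,1,3,1,2,2],[([2,2],8,false),([],9,true)]),
([3,3,0,2,0,3,3],[([3,3],7,false),([],12,true)]),
([3,0,3,0,0,3,3,1],[([],10,false),([0,2],11,true)]),
([3,3,0,3,3,3,3,0,3,3],[([],14,false),([2,2,1],12,true)]),
([2,2,1,2,2,1,2,2,2,1,2,2,1,2],[([2,2,1],17,false),([],14,true),([3],16,true),([3,0],14,true)]),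
([0,3,0,2,2,0,3,0,2,2,0,3,0,2,2],[([0,3,0,2],8,true),([0,3],10,true),([0],17,true),([0,2,2,1,2],8,true),([0,2,2],13,true),([0,2],8,true),([],10,true),([3,0],15,true),([3,0],8,true)]),
([3,0,2,2,3,0,2,2],[([3,0],8,true)]),
([1,3,1,3],[([1],7,true)]),
([0,3,0,2,2,3,0,2,2,0,3,0,2,2,3,0,2,2,0,3,0,2,2,3,0,2,2],[([0,3,0],8,true),([],3,true),([],11,true),([2,1],8,true),([2],4,true),([],8,true),([3,0],8,true)]),
([3,0,2,2,1,3,3,0,2,2,1,3,3,0,2,2,1,3],[([3,0],14,true),([3,0,3],16,true),([],16,true),([0],18,true),([0,3,0,3,3,0],7,true),([0,3,0,3,3],3,true),([0,3,0,3],7,true),([0],16,true),([],3,true),([1],9,true),([1],7,true)]),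
([0,3,0,2,2,1,3,0,3,0,2,2,1,3],[([0,3,0],14,true),([0,3,0,3,3],3,true),([0,3,0,3],7,true),([0],16,true),([],3,true),([1],9,true),([1],7,true)]),
([0,3,0,2,2,3,0,2,2,1],[([0,3,0],8,true)]),
([1,3,3,0,2,2,3,3,1,2,1,3],[([1],15,true),([1],14,true),([1],7,true)])]

theorem cert_ok : checkAll [[0,0,0],[2,2,2,2,2],[0,2,0,2]] cert = true := by decide +kernel

def X : alternatingGroup (Fin 5) := mooreGen 3 0 * mooreGen 3 1
def Y : alternatingGroup (Fin 5) := mooreGen 3 2 * mooreGen 3 1 * (mooreGen 3 0)⁻¹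

theorem main {G : Type*} [Group G] (x y : G) (hx : x ^ 3 = 1) (hy : y ^ 5 = 1)
    (hxy : (x * y) ^ 2 = 1) : ∃ ψ : alternatingGroup (Fin 5) →* G, ψ X = x ∧ ψ Y = y := by
  let g : ℕ → G := fun i => if i = 0 then x else y
  have H := ev_eq_one_of_checkAll g cert _ (by
    intro r hr
    simp only [List.mem_cons, List.not_mem_nil, or_false] at hr
    rcases hr with rfl | rfl | rfl
    · simpa [ev, lv, g, pow_succ, mul_assoc] using hx
    · simpa [ev, lv, g, pow_succ, mul_assoc] using hy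
    · simpa [ev, lv, g, pow_succ, mul_assoc] using hxy) cert_ok
  let w : Fin 3 → G := ![ev g [0,3,0,2,2], ev g [3,0,2,2], ev g [1,3]]
  have hw : MooreRel w := by
    refine ⟨fun i hi => ?_, fun i hi => ?_, fun i j hi => ?_, fun i j hi => ?_⟩
    · fin_cases i <;> simp at hi
      simpa [w, pow_succ, ← ev_append] using H [0,3,0,2,2,0,3,0,2,2,0,3,0,2,2] (by decide +kernel)
    · fin_cases i <;> simp at hi
      · simpa [w, pow_succ, ← ev_append] using H [3,0,2,2,3,0,2,2] (by decide +kernel)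
      · simpa [w, pow_succ, ← ev_append] using H [1,3,1,3] (by decide +kernel)
    · fin_cases i <;> fin_cases j <;> simp at hi
      · simpa [w, pow_succ, ← ev_append] using
          H [0,3,0,2,2,3,0,2,2,0,3,0,2,2,3,0,2,2,0,3,0,2,2,3,0,2,2] (by decide +kernel)
      · simpa [w, pow_succ, ← ev_append] using
          H [3,0,2,2,1,3,3,0,2,2,1,3,3,0,2,2,1,3] (by decide +kernel)
    · fin_cases i <;> fin_cases j <;> simp at hi
      simpa [w, pow_succ, ← ev_append] using H [0,3,0,2,2,1,3,0,3,0,2,2,1,3] (by decide +kernel)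
  obtain ⟨ψ, hψ⟩ := exists_hom_alt_of_mooreRel hw
  refine ⟨ψ, ?_, ?_⟩
  · have := H [0,3,0,2,2,3,0,2,2,1] (by decide +kernel)
    rw [X, map_mul, hψ, hψ, ← mul_inv_eq_one, ← this]
    simp [w, ev, lv, g, mul_assoc]
  · have := H [1,3,3,0,2,2,3,3,1,2,1,3] (by decide +kernel)
    rw [Y, map_mul, map_mul, map_inv, hψ, hψ, hψ, ← mul_inv_eq_one, ← this]
    simp [w, ev, lv, g, mul_assoc]


/-- The alternating group of degree 5 has the presentation ⟨x, y | x³ = 1, y⁵ = 1, (xy)² = 1⟩: the group so presented is isomorphic to Alt(5). -/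
theorem result :
    Nonempty (PresentedGroup ({FreeGroup.of (0 : Fin 2) ^ 3, FreeGroup.of (1 : Fin 2) ^ 5,
        (FreeGroup.of (0 : Fin 2) * FreeGroup.of 1) ^ 2} : Set (FreeGroup (Fin 2))) ≃* alternatingGroup (Fin 5)) := by
  set R : Set (FreeGroup (Fin 2)) := {FreeGroup.of (0 : Fin 2) ^ 3, FreeGroup.of (1 : Fin 2) ^ 5,
        (FreeGroup.of (0 : Fin 2) * FreeGroup.of 1) ^ 2} with hR
  have h1 : ∀ r ∈ R, PresentedGroup.mk R r = 1 := fun r hr => PresentedGroup.one_of_mem hr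
  obtain ⟨ψ, hx, hy⟩ := main (PresentedGroup.of (rels := R) 0) (PresentedGroup.of 1)
    (h1 _ (by simp [hR] : FreeGroup.of (0 : Fin 2) ^ 3 ∈ R))
    (h1 _ (by simp [hR] : FreeGroup.of (1 : Fin 2) ^ 5 ∈ R))
    (h1 _ (by simp [hR] : (FreeGroup.of (0 : Fin 2) * FreeGroup.of 1) ^ 2 ∈ R))
  let π : PresentedGroup R →* alternatingGroup (Fin 5) :=
    PresentedGroup.toGroup (f := ![X, Y]) (by
      intro r hr
      simp only [hR, Set.mem_insert_iff, Set.mem_singleton_iff] at hr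
      rcases hr with rfl | rfl | rfl <;> simp <;> decide +kernel)
  have p0 : π (PresentedGroup.of 0) = X := PresentedGroup.toGroup.of _
  have p1 : π (PresentedGroup.of 1) = Y := PresentedGroup.toGroup.of _
  refine ⟨MonoidHom.toMulEquiv π ψ ?_ ?_⟩
  · ext i
    fin_cases i <;> simp [p0, p1, hx, hy]
  · apply MonoidHom.eq_of_eqOn_dense (closure_mooreGen 3)
    rintro _ ⟨i, rfl⟩
    have e0 : mooreGen 3 0 = X * Y⁻¹ * X * Y * Y := by decide +kernel
    have e1 : mooreGen 3 1 = Y⁻¹ * X * Y * Y := by decide +kernel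
    have e2 : mooreGen 3 2 = X⁻¹ * Y⁻¹ := by decide +kernel
    fin_cases i <;> simp [e0, e1, e2, hx, hy, p0, p1]

end Cfsg.Agent.S3377
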