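import Cfsg.Statements.S4200
import Mathlib
import Cfsg.Agent.KSG.ConjSum
import Cfsg.Agent.Grp.CardProduct

set_option autoImplicit false
open Cfsg

namespace Cfsg.Agent.S4200

open Subgroup

theorem card_le {X : Type*} [Group X] [Finite X] (C Y : Subgroup X) :
    Nat.card C ≤ Y.index * Nat.card (C ⊓ Y : Subgroup X) := by
  have h1 := Grp.card_mul_card_le_of_le (H := C) (K := Y) (L := ⊤) le_top le_top
  rw [card_top, ← Y.index_mul_card, ← mul_assoc] at h1
  rw [mul_comm]
  exact Nat.le_of_mul_le_mul_right h1 Nat.card_pos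

theorem swap {X : Type*} [Group X] [Fintype X] (Y : Subgroup X) [Fintype Y] :
    ∑ x : X, Nat.card (centralizer ({x} : Set X) ⊓ Y : Subgroup X) =
      ∑ y : Y, Nat.card (centralizer ({(y : X)} : Set X)) := by
  rw [← Nat.card_sigma, ← Nat.card_sigma]
  exact Nat.card_congr
    { toFun := fun a => ⟨⟨a.2, a.2.2.2⟩, ⟨a.1, mem_centralizer_singleton_iff.2
        (mem_centralizer_singleton_iff.1 a.2.2.1).symm⟩⟩
      invFun := fun a => ⟨a.2, ⟨a.1, mem_centralizer_singleton_iff.2
        (mem_centralizer_singleton_iff.1 a.2.2).symm, a.1.2⟩⟩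
      left_inv := fun _ => rfl
      right_inv := fun _ => rfl }

theorem lt_of_not_normal {X : Type*} [Group X] [Finite X] (Y : Subgroup X) (h : ¬ Y.Normal) :
    ∃ y : Y, Nat.card (centralizer ({(y : X)} : Set X)) <
      Y.index * Nat.card (centralizer ({(y : X)} : Set X) ⊓ Y : Subgroup X) := by
  by_contra hc
  push Not at hc
  refine h ⟨fun y hy g => ?_⟩
  have h1 := Grp.coe_eq_mul_of_card_le (H := Y) (K := centralizer ({y} : Set X)) (L := ⊤)
    le_top le_top (by
      rw [card_top, ← Y.index_mul_card, ← mul_assoc, mul_comm (Nat.card Y), inf_comm,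
        mul_comm _ Y.index]
      exact Nat.mul_le_mul_right _ (hc ⟨y, hy⟩))
  have h2 : g ∈ ((⊤ : Subgroup X) : Set X) := mem_top g
  rw [h1] at h2
  obtain ⟨a, ha, c, hc', rfl⟩ := h2
  have h3 : a * c * y * (a * c)⁻¹ = a * y * a⁻¹ := by
    rw [mul_assoc a c y, mem_centralizer_singleton_iff.1 hc']; group
  simp only
  rw [h3]
  exact mul_mem (mul_mem ha hy) (inv_mem ha)

/-- Let Y be a subgroup of the finite group X, of index m. Then the numbers of conjugacy classes satisfy k(Y) ≤ m·k(X) and k(X) ≤ m·k(Y), and the second inequality is strict unless Y is normal in X. -/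
theorem result {X : Type*} [Group X] [Finite X] (Y : Subgroup X) : Nat.card (ConjClasses Y) ≤ Y.index * Nat.card (ConjClasses X) ∧ Nat.card (ConjClasses X) ≤ Y.index * Nat.card (ConjClasses Y) ∧ (¬ Y.Normal → Nat.card (ConjClasses X) < Y.index * Nat.card (ConjClasses Y)) := by
  classical
  have := Fintype.ofFinite X
  have hX := KSG.card_conjClasses_mul_card_eq_sum (G := X)
  have hY := KSG.card_conjClasses_mul_card_eq_sum (G := Y)
  simp only [KSG.card_centralizer_subgroup] at hY
  have hm : 0 < Y.index := Nat.pos_of_ne_zero index_ne_zero_of_finite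
  have hp : 0 < Y.index * Nat.card Y := Nat.mul_pos hm Nat.card_pos
  have h1 : Nat.card (ConjClasses X) * Nat.card X ≤
      Y.index * ∑ y : Y, Nat.card (centralizer ({(y : X)} : Set X)) := by
    rw [hX, ← swap, Finset.mul_sum]
    exact Finset.sum_le_sum fun x _ => card_le _ _
  rw [← Y.index_mul_card] at h1 hX
  refine ⟨?_, ?_, fun hn => ?_⟩
  · refine Nat.le_of_mul_le_mul_right ?_ (Nat.card_pos (α := Y))
    rw [hY, mul_comm Y.index, mul_assoc, hX]
    calc _ ≤ ∑ y : Y, Nat.card (centralizer ({(y : X)} : Set X)) :=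
          Finset.sum_le_sum fun y _ => card_le_of_le inf_le_left
      _ = ∑ x ∈ Finset.univ.map (Function.Embedding.subtype (· ∈ Y)),
            Nat.card (centralizer ({x} : Set X)) := by rw [Finset.sum_map]; rfl
      _ ≤ _ := Finset.sum_le_sum_of_subset (Finset.subset_univ _)
  · refine Nat.le_of_mul_le_mul_right (h1.trans ?_) hp
    rw [mul_assoc, mul_left_comm (Nat.card (ConjClasses Y)), hY]
    refine Nat.mul_le_mul_left _ ?_
    rw [Finset.mul_sum]
    exact Finset.sum_le_sum fun y _ => card_le _ _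
  · refine Nat.lt_of_mul_lt_mul_right (h1.trans_lt ?_) (a := Y.index * Nat.card Y)
    rw [mul_assoc, mul_left_comm (Nat.card (ConjClasses Y)), hY]
    refine (Nat.mul_lt_mul_left hm).2 ?_
    rw [Finset.mul_sum]
    obtain ⟨y, hy⟩ := lt_of_not_normal Y hn
    exact Finset.sum_lt_sum (fun y _ => card_le _ _) ⟨y, Finset.mem_univ _, hy⟩

end Cfsg.Agent.S4200
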