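import Cfsg.Statements.S1329
import Mathlib
import Cfsg.Agent.PLocal.GoldCocyclic
import Cfsg.Agent.Solv.Coprime2
import Cfsg.Agent.S0205

set_option autoImplicit false
open Cfsg

namespace Cfsg.Agent.S1329

/-- Let A be an abelian 2-subgroup of the finite group G, B ≤ A, and Y a subgroup of odd order normalized by A with ⁅Y, A⁆ = Y. Then Y ∩ C_G(B) is generated by the subgroups Y ∩ C_G(B) ∩ ⁅Y ∩ C_G(B₀), A⁆, B₀ ranging over the subgroups of B with B / B₀ cyclic. -/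
theorem result {G : Type*} [Group G] [Finite G] (A B Y : Subgroup G) (hA2 : IsPGroup 2 ↥A) (hAc : IsMulCommutative ↥A) (hB : B ≤ A) (hYodd : Odd (Nat.card ↥Y)) (hAY : A ≤ Subgroup.normalizer (Y : Set G)) (hYA : ⁅Y, A⁆ = Y) : Y ⊓ Subgroup.centralizer (B : Set G) = ⨆ B₀ : {B₀ : Subgroup G // B₀ ≤ B ∧ ∀ [(B₀.subgroupOf B).Normal], IsCyclic (↥B ⧸ B₀.subgroupOf B)}, Y ⊓ Subgroup.centralizer (B : Set G) ⊓ ⁅Y ⊓ Subgroup.centralizer ((B₀ : Subgroup G) : Set G), A⁆ := by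
  refine le_antisymm ?_ (iSup_le fun _ => inf_le_left)
  refine PLocal.Gold.cent_le_of_cocyclic hAc hB (S0205.result hYodd)
    (Solv.coprime_card_of_isPGroup hA2 (Nat.coprime_two_right.mpr hYodd)).symm hAY hYA ?_
  rintro B₀ hB₀ ⟨b, hb, h⟩
  refine le_iSup_of_le ⟨B₀, hB₀, PLocal.Gold.isCyclic_quotient_of_sup_zpowers hb h⟩ ?_
  refine le_inf (le_inf (inf_le_left.trans ?_) inf_le_right) inf_le_left
  exact (FT.comm_le_left (FT.norm_inf hAY
    (FT.norm_cent (FT.le_norm_of_abelian (hB₀.trans hB) hAc)))).trans inf_le_left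

end Cfsg.Agent.S1329
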