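import Cfsg.Statements.S2551
import Mathlib
import Cfsg.Agent.KSG.AutSym
import Cfsg.Agent.KSG.AltPres
import Cfsg.Agent.KSG.SymEmbed
import Cfsg.Agent.Class.FieldTransport

set_option autoImplicit false
open Cfsg

namespace Cfsg.Agent.S2551

open Matrix Cfsg.Agent.KSG

def M : Fin 6 → Matrix (Fin 4) (Fin 4) (ZMod 2) := ![!![1, 0, 0, 1; 0, 1, 1, 0; 0, 1, 0, 0; 1, 0, 0, 0], !![0, 0, 1, 1; 0, 0, 0, 1; 1, 1, 0, 0; 0, 1, 0, 0], !![0, 0, 0, 1; 0, 0, 1, 0; 0, 1, 0, 0; 1, 0, 0, 0], !![1, 0, 0, 1; 0, 1, 0, 0; 0, 1, 1, 0; 0, 0, 0, 1], !![0, 0, 0, 1; 0, 0, 1, 1; 1, 1, 0, 0; 1, 0, 0, 0], !![0, 0, 1, 0; 0, 0, 0, 1; 1, 0, 0, 0; 0, 1, 0, 0]]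

def tbl : List (List (Fin 6)) := [[],[],[],[],[],[],[],[],[],[],[],[],[],[],[],[],[],[],[],[4,1,0,1],[2,3,0],[1,2,0,3,1],[3],[3,4,1,0,1],[4,2,3,1,0],[4,3,0,1,0],[0,4,1,2,3],[4,1,2,3,1],[2,3,4,0,1,2,3],[2,3,0,4,1,2,3,1],[3,4,1,2,3,1],[3,0,4,1,2,3],[],[4,1],[],[0,1],[1,2,3,0,4,1,2,3,2],[3,4,2,3,0,1],[0,1,2,3,4,0,1,2,3],[2,3,4,2,3,1],[3,0,4,1],[0,1,2,3,0],[0,3,1],[2,3,1],[4,1,2,3,0],[4,3,1],[4,2,0,3,1],[3,4,3,0,1],[],[1,2],[4,2],[],[4,3,0],[2,3,4,3,1,0,1],[4,2,3],[3,4,3,0,1,2],[3,0,4,1,2,3,2],[1,2,3,4,1,2,3,1],[2,3,4,1,2,3,0,1],[3,4,0,1,2,3,0,1],[3,1,0],[1,2,3],[0,1,2,3,1],[2,3,0,1,0],[],[1,2,3,0],[1,2,3,4,0,1,2,3],[3,4,0,3,1],[],[2,0,3,1],[1,2,3,0,4,1,2,3,1],[4,0,3,1],[4,0,1],[3,4,0,1],[3,4,0,1,2,3,0],[4,2,3,1],[1],[3,1],[3,4,2,3,1],[4,0,1,2,3,0],[],[1,2,3,4,0],[2,3,4,2,3,2],[4,2,3,1,2],[2,3,4,0],[],[2,3,4,3,2],[3,4,2,3,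1,2],[4,1,2,3,1,2],[3,4,1,2,3,1,2],[0,1,2,3,4,2],[4,2,1,0],[1,2,3,4,2,3,2],[1,2,3,4,3,2],[0,2,1,0],[0,1,2,3,1,2],[],[3,4,1],[0,1,2,3,0,4,1,2,3,2],[2,3,4,3,1],[1,0,1,2,3,4,1,2,3],[4,2,3,0,1],[],[3,0,1],[2,3,4,1],[0,4,1],[4,3,0,1],[3,4,2,0,3,1],[3,4,3,1],[3,4,1,2,3,0],[2,3,0,1],[0,0,1],[],[3,1,2],[3,4,2,3],[4,3,0,1,2],[3,4,3,0],[2,3,4,2,3,1,0,1],[3,4,2],[],[1,2,3,4,1,2,3],[0,4,1,2,3,2],[0,4,1,0],[3,0,1,2,3,1],[1,2,3,2],[1,0],[4,0,1,2,3,0,1],[2,3,4,1,2,3,1,0,1],[],[4,3,1,0],[3,0],[3,4,0,1,2,3],[2],[4,0,1,2,3,1],[2,3],[2,3,4,1,2,3,1],[],[4,2,3,0,1,0],[3,4,0,1,2],[3,0,4,1,2,3,1],[4,1,2],[4,1,2,3],[2,3,4,1,0,1],[2,3,0,4,1,2,3],[],[3,4,3,1,0],[2,3,2],[2,3,4,1,2,3],[3,2],[3,4,0,1,2,3,1],[0],[4,0,1,2,3],[4,0,3,1,0],[],[2,3,4,0,1,2,3,1],[2,3,4,1,2],[3,4,1,2,3],[3,4,1,2],[0,4,1,2,3,1],[4,0,1,2],[],[4,1,2,3,2],[3,4,0],[1,2,3,4,1,2,3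,2],[3,4,2,3,2],[0,1,2,3,0,1],[3,4,3,2],[0,0,1,0],[3,0,1,2],[2,3,4,1,2,3,1,2],[],[0,4,1,2,3,0,1],[4,3,1,2],[4,1,0],[2,3,4,2,3,1,2],[1,0,1,2,3],[],[1,2,3,4,3],[2,3,4],[0,1,2,3,4,2,3,2],[2,3,4,3],[2,0,1,0],[2,3,4,2,3,0],[1,2,3,1,0,1],[3,0,1,2,3,4,3],[2,3,1,0,1],[4,1,2,3,1,0,1],[],[1,2,3,4],[1,2,3,4,2,3,0],[3,2,1,0],[4,2,3,1,0,1],[],[2,3,0,4,1,2,3,2],[4,2,3,0],[2,3,1,0],[4],[3,4,1,2,3,0,1],[4,3],[0,0,1,2,3],[1,0,1],[1,2,3,4,2,3,1],[3,4,3,1,0,1],[1,2,3,1],[],[2,3,4,0,1,2,3,0,1],[4,1,2,0,3,1],[3,0,1,0],[],[0,1,2,3,4,1,2,3],[3,4,3],[1,2,3,4,1],[3,4],[4,1,2,3,0,1],[3,4,2,3,0],[4,0,1,0],[1,2,3,4,3,1],[3,1,0,1],[0,1,0],[3,4,1,2,0,3,1],[2,0,1,2,3,4,2,3,2],[],[1,2,3,0,1],[4,3,1,0,1],[],[1,2,3,4,2,3],[2,3,4,3,0],[1,2,3,1,2],[2,3,4,2,3],[3,2,0,1,0],[2,3,4,2],[4,0,1,2,3,4,2],[2,3,1,2],[0,1,2,3,4,3],[3,4,2,3,1,0,1],[2,1,0],[1,2,3,4,3,0],[1,2,3,4,2],[],[3,4,1,2,3,1,0,1],[],[3,4,1,2,3,2],[4,3,2],[0,3,1,0],[4,2,3,2],[2,0,1,2,3],[4,0],[2,3,0,4,1,2,3,0,1],[2,3,4,1,2,3,2],[0,1,2],[0,1,2,3],[2,3,4,3,1,2],[3,4,1,0],[3,4,3,1,2],[3,0,4,1,2,3,0,1],[]]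

def act : Fin 6 → Fin 16 → Fin 16 := ![![0, 9, 6, 15, 2, 11, 4, 13, 1, 8, 7, 14, 3, 10, 5, 12], ![0, 4, 12, 8, 1, 5, 13, 9, 3, 7, 15, 11, 2, 6, 14, 10], ![0, 8, 4, 12, 2, 10, 6, 14, 1, 9, 5, 13, 3, 11, 7, 15], ![0, 1, 6, 7, 4, 5, 2, 3, 9, 8, 15, 14, 13, 12, 11, 10], ![0, 12, 4, 8, 2, 14, 6, 10, 3, 15, 7, 11, 1, 13, 5, 9], ![0, 4, 8, 12, 1, 5, 9, 13, 2, 6, 10, 14, 3, 7, 11, 15]]

def dec (c : Fin 16) : Fin 4 → ZMod 2 := fun i => if c.val.testBit i.val then 1 else 0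

theorem dec_surj : ∀ v, ∃ c, dec c = v := by decide +kernel

theorem dec_zero : dec 0 = 0 := by decide +kernel

theorem M_dec : ∀ i c, M i *ᵥ dec c = dec (act i c) := by decide +kernel

theorem tbl_ok : ∀ a b : Fin 16, a ≠ 0 → b ≠ 0 → a ≠ b →
    (∀ i ∈ tbl.getD (16 * a.val + b.val) [], i ≠ 5) ∧
    (tbl.getD (16 * a.val + b.val) []).foldr act 1 = a ∧
    (tbl.getD (16 * a.val + b.val) []).foldr act 2 = b := by decide +kernel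

theorem M_pow : ∀ i, M i * M i ^ 5 = 1 ∧ M i ^ 5 * M i = 1 := by decide +kernel

def X (i : Fin 6) : GL (Fin 4) (ZMod 2) := ⟨M i, M i ^ 5, (M_pow i).1, (M_pow i).2⟩

theorem rel : MooreRel X := by
  refine ⟨fun i hi => Units.ext ?_, fun i hi => Units.ext ?_, fun i j hi => Units.ext ?_,
    fun i j hi => Units.ext ?_⟩
  · exact (by decide +kernel : ∀ i : Fin 6, i.val = 0 → M i ^ 3 = 1) i hi
  · exact (by decide +kernel : ∀ i : Fin 6, 1 ≤ i.val → M i ^ 2 = 1) i hi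
  · exact (by decide +kernel : ∀ i j : Fin 6, j.val = i.val + 1 → (M i * M j) ^ 3 = 1) i j hi
  · exact (by decide +kernel : ∀ i j : Fin 6, i.val + 1 < j.val → (M i * M j) ^ 2 = 1) i j hi

theorem card_alt (n : ℕ) : 2 * Nat.card (alternatingGroup (Fin (n + 2))) = (n + 2).factorial := by
  rw [two_mul_nat_card_alternatingGroup, Nat.card_perm]; simp

theorem card_GL : Nat.card (GL (Fin 4) (ZMod 2)) = 20160 := by
  rw [Matrix.card_GL_field]; simp [Fin.prod_univ_succ]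

theorem exists_equiv : ∃ Φ : alternatingGroup (Fin 8) ≃* GL (Fin 4) (ZMod 2),
    ∀ i, Φ (mooreGen 6 i) = X i := by
  obtain ⟨ψ, hψ⟩ := exists_hom_alt_of_mooreRel rel
  have hinj : Function.Injective ψ := by
    rw [← MonoidHom.ker_eq_bot_iff]
    rcases alternatingGroup.normal_subgroup_eq_bot_or_eq_top (by simp) (N := ψ.ker) with h | h
    · exact h
    · have : ψ (mooreGen 6 0) = 1 := by rw [← MonoidHom.mem_ker, h]; trivial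
      rw [hψ] at this
      exact absurd (congrArg Units.val this) (by decide +kernel)
  have := card_alt 6
  exact ⟨MulEquiv.ofBijective ψ ((Nat.bijective_iff_injective_and_card ψ).2 ⟨hinj, by
    rw [card_GL]; simp only [Nat.factorial] at this; omega⟩), hψ⟩

theorem fix7 : ∀ i : Fin 6, i ≠ 5 → (mooreGen 6 i).1 7 = 7 := by decide +kernel

theorem word (Φ : alternatingGroup (Fin 8) ≃* GL (Fin 4) (ZMod 2)) (h : ∀ i, Φ (mooreGen 6 i) = X i)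
    (l : List (Fin 6)) (hl : ∀ i ∈ l, i ≠ 5) : ∃ u : alternatingGroup (Fin 8), u.1 7 = 7 ∧
      ∀ c, (Φ u : Matrix (Fin 4) (Fin 4) (ZMod 2)) *ᵥ dec c = dec (l.foldr act c) := by
  induction l with
  | nil => exact ⟨1, rfl, by simp⟩
  | cons i l ih =>
    obtain ⟨u, h1, h2⟩ := ih fun j hj => hl j (List.mem_cons_of_mem _ hj)
    refine ⟨mooreGen 6 i * u, ?_, fun c => ?_⟩
    · rw [Subgroup.coe_mul, Equiv.Perm.mul_apply, h1, fix7 i (hl i List.mem_cons_self)]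
    · rw [map_mul, h, Units.val_mul, ← mulVec_mulVec, h2, List.foldr_cons, ← M_dec]; rfl

theorem pair (Φ : alternatingGroup (Fin 8) ≃* GL (Fin 4) (ZMod 2)) (h : ∀ i, Φ (mooreGen 6 i) = X i)
    (v w : Fin 4 → ZMod 2) (hv : v ≠ 0) (hw : w ≠ 0) (hvw : v ≠ w) :
    ∃ u : alternatingGroup (Fin 8), u.1 7 = 7 ∧ Φ u • dec 1 = v ∧ Φ u • dec 2 = w := by
  obtain ⟨a, rfl⟩ := dec_surj v
  obtain ⟨b, rfl⟩ := dec_surj w
  obtain ⟨h1, h2, h3⟩ := tbl_ok a b (by rintro rfl; exact hv dec_zero)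
    (by rintro rfl; exact hw dec_zero) (by rintro rfl; exact hvw rfl)
  obtain ⟨u, hu, e⟩ := word Φ h _ h1
  exact ⟨u, hu, (e 1).trans (by rw [h2]), (e 2).trans (by rw [h3])⟩

theorem model (H : Subgroup (GL (Fin 4) (ZMod 2))) (hH : Nonempty (H ≃* alternatingGroup (Fin 7)))
    (v w v' w' : Fin 4 → ZMod 2) (hv : v ≠ 0) (hw : w ≠ 0) (hvw : v ≠ w) (hv' : v' ≠ 0)
    (hw' : w' ≠ 0) (hvw' : v' ≠ w') : ∃ g ∈ H, g • v = v' ∧ g • w = w' := by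
  obtain ⟨Φ, hΦ⟩ := exists_equiv
  obtain ⟨e⟩ := hH
  have h1 : H.index = 8 := by
    have := H.card_mul_index
    have h7 : 2 * Nat.card (alternatingGroup (Fin 7)) = _ := card_alt 5
    rw [Nat.card_congr e.toEquiv, card_GL] at this
    simp only [Nat.factorial] at h7
    have h7' : Nat.card (alternatingGroup (Fin 7)) = 2520 := by omega
    rw [h7'] at this
    omega
  obtain ⟨i, hi⟩ := eq_stabilizer_alt_of_index (by simp) (by simp) (H.comap Φ.toMonoidHom)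
    (by rw [Subgroup.index_comap_of_surjective _ Φ.surjective, h1]; simp)
  have := alternatingGroup.isPretransitive_of_three_le_card (Fin 8) (by simp)
  obtain ⟨g, hg⟩ := MulAction.exists_smul_eq (alternatingGroup (Fin 8)) i 7
  have nz : ∀ (a : GL (Fin 4) (ZMod 2)) (x : Fin 4 → ZMod 2), x ≠ 0 → a • x ≠ 0 := by
    intro a x hx h
    apply hx
    rw [← inv_smul_smul a x, h]
    exact mulVec_zero _
  obtain ⟨u, u1, u2, u3⟩ := pair Φ hΦ (Φ g • v) (Φ g • w) (nz _ _ hv) (nz _ _ hw) (by simpa)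
  obtain ⟨t, t1, t2, t3⟩ := pair Φ hΦ (Φ g • v') (Φ g • w') (nz _ _ hv') (nz _ _ hw') (by simpa)
  refine ⟨Φ (g⁻¹ * t * u⁻¹ * g), ?_, ?_, ?_⟩
  · have : g⁻¹ * t * u⁻¹ * g ∈ H.comap Φ.toMonoidHom := by
      rw [hi, MulAction.mem_stabilizer_iff, mul_smul, mul_smul, mul_smul, hg, inv_smul_eq_iff, hg,
        inv_smul_eq_iff.2 (show (7 : Fin 8) = u • 7 from u1.symm)]
      exact t1
    exact this
  · simp only [map_mul, map_inv, mul_smul]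
    rw [← u2, inv_smul_smul, t2, inv_smul_smul]
  · simp only [map_mul, map_inv, mul_smul]
    rw [← u3, inv_smul_smul, t3, inv_smul_smul]


/-- Let F be the field with 2 elements. GL_4(F) (≅ A_8) has a subgroup isomorphic to the alternating group A_7, and every such subgroup acts 2-transitively on the 15 non-zero vectors of F⁴: any ordered pair of distinct non-zero vectors is carried to any other by some element of the subgroup. -/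
theorem result {F : Type*} [Field F] [Fintype F] (hF : Fintype.card F = 2) : (∃ H : Subgroup (Matrix.GeneralLinearGroup (Fin 4) F), Nonempty (H ≃* alternatingGroup (Fin 7))) ∧ ∀ H : Subgroup (Matrix.GeneralLinearGroup (Fin 4) F), Nonempty (H ≃* alternatingGroup (Fin 7)) → ∀ v w v' w' : Fin 4 → F, v ≠ 0 → w ≠ 0 → v ≠ w → v' ≠ 0 → w' ≠ 0 → v' ≠ w' → ∃ g ∈ H, (g : Matrix (Fin 4) (Fin 4) F).mulVec v = v' ∧ (g : Matrix (Fin 4) (Fin 4) F).mulVec w = w' := by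
  have := Fact.mk Nat.prime_two
  let e := Class.ringEquivZMod hF
  let E := Class.glCongr (Fin 4) e
  constructor
  · obtain ⟨Φ, -⟩ := exists_equiv
    obtain ⟨φ, hφ, -⟩ := exists_alt_hom_injective (α := Fin 7) (β := Fin 8) (by simp)
    let ψ := (Φ.trans E.symm).toMonoidHom.comp φ
    exact ⟨ψ.range, ⟨(MonoidHom.ofInjective ((Φ.trans E.symm).injective.comp hφ)).symm⟩⟩
  · rintro H ⟨f⟩ v w v' w' hv hw hvw hv' hw' hvw'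
    have inj : Function.Injective fun v : Fin 4 → F => e ∘ v := e.injective.comp_left
    have nz : ∀ v : Fin 4 → F, v ≠ 0 → e ∘ v ≠ 0 := by
      intro v hv h
      apply hv
      apply inj
      simp only [h]; ext i; simp
    obtain ⟨_, ⟨g, hg, rfl⟩, h1, h2⟩ := model (H.map E.toMonoidHom) ⟨(E.subgroupMap H).symm.trans f⟩
      (e ∘ v) (e ∘ w) (e ∘ v') (e ∘ w') (nz v hv) (nz w hw) (inj.ne hvw) (nz v' hv') (nz w' hw')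
      (inj.ne hvw')
    have key : ∀ x : Fin 4 → F, E g • (e ∘ x) = e ∘ ((g : Matrix (Fin 4) (Fin 4) F) *ᵥ x) := by
      intro x
      ext i
      exact ((e : F →+* ZMod 2).map_mulVec _ x i).symm
    exact ⟨g, hg, inj ((key v).symm.trans h1), inj ((key w).symm.trans h2)⟩

end Cfsg.Agent.S2551
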