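import Cfsg.Statements.S2232
import Cfsg.Agent.Class.U.Frame3
import Cfsg.Agent.Class.U.Count
import Cfsg.Agent.S2763

set_option autoImplicit false
open Cfsg

namespace Cfsg.Agent.S2232

open Subgroup Class.U PLocal

theorem exists_normal_sylow {K H : Type*} [Group K] [Finite K] [Group H] [Finite H] {p : ℕ}
    [hp : Fact p.Prime] (hTI : ∀ S T : Sylow p K, (S : Subgroup K) ⊓ T ≠ ⊥ → S = T) (φ : K →* H)
    (hφ : Function.Surjective φ) (V : Subgroup H) [V.Normal] (hV : IsPGroup p V) (h1 : V ≠ ⊥) :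
    ∃ S : Sylow p H, normalizer ((S : Subgroup H) : Set H) = ⊤ := by
  let P : Sylow p (V.comap φ) := default
  obtain ⟨T, hT⟩ := P.exists_comap_subtype_eq
  have hP : (P : Subgroup (V.comap φ)) ≠ ⊥ := P.ne_bot_of_dvd_card (by
    obtain ⟨n, hn, e⟩ := hV.nontrivial_iff_card.1 ((nontrivial_iff_ne_bot V).2 h1)
    refine (dvd_pow_self p hn.ne').trans ?_
    rw [← e, ← map_comap_eq_self_of_surjective hφ V]
    simpa [map_comap_eq_self_of_surjective hφ V] using card_map_dvd (V.comap φ) φ)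
  have hle : (P : Subgroup (V.comap φ)).map (V.comap φ).subtype ≤ T := by
    rw [← hT]
    exact map_comap_le _ _
  have h2 : normalizer ((P : Subgroup (V.comap φ)).map (V.comap φ).subtype : Set K) ≤
      normalizer (T : Set K) := fun g hg => by
    refine Sylow.smul_eq_iff_mem_normalizer.1 (hTI _ _ fun e => hP ?_)
    rw [← map_eq_bot_iff_of_injective _ (V.comap φ).subtype_injective, eq_bot_iff, ← e]
    refine le_inf (fun x hx => ⟨g⁻¹ * x * g, hle ?_, by simp [mul_assoc]⟩) hle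
    simpa using (mem_normalizer_iff.1 (inv_mem hg) x).1 hx
  refine ⟨T.mapSurjective hφ, eq_top_iff.2 fun y _ => ?_⟩
  obtain ⟨g, rfl⟩ := hφ y
  have h3 : normalizer (T : Set K) ⊔ V.comap φ ≤
      (normalizer (((T.mapSurjective hφ : Sylow p H) : Subgroup H) : Set H)).comap φ :=
    sup_le (map_le_iff_le_comap.1 (le_normalizer_map φ))
      (comap_mono ((hV.le_sylow_of_normal _).trans le_normalizer))
  exact h3 ((sup_le_sup_right h2 _) (P.normalizer_sup_eq_top.ge (mem_top g)))

section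

variable {F : Type*} [Field F] {q : ℕ} [hU : UF F q] {p : ℕ} [hp : Fact p.Prime] [CharP F p]

theorem isPGroup_stab {e : Fin 3 → F} (e0 : e ≠ 0) (ee : hermForm 3 F q e e = 0) :
    IsPGroup p (MulAction.stabilizer (SU 3 F q) e) := fun g => by
  obtain ⟨n, f, h⟩ := exists_fr e0 ee
  have key : ∀ {w a} {g : SU 3 F q}, hermForm 3 F q w e = 0 → IsSiegel e w a g → ∀ k : ℕ,
      ∃ b, IsSiegel e ((k : F) • w) b (g ^ k) ∧ (w = 0 → b = k * a) := fun {w a g} hw hg k => by
    induction k with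
    | zero => exact ⟨0, by simpa using isSiegel_one e, fun _ => by simp⟩
    | succ k ih =>
      obtain ⟨b, h1, h2⟩ := ih
      have := h1.mul hg ee (by rw [herm_smul_left, hw, mul_zero]) hw
      refine ⟨_, by simpa only [pow_succ, Nat.cast_succ, add_smul, one_smul] using this, ?_⟩
      rintro rfl
      rw [h2 rfl, herm_zero_left]
      push_cast
      ring
  obtain ⟨c, a, h1⟩ := h.isSiegel_of_fix g.2
  obtain ⟨b, h2, -⟩ := key (by rw [herm_smul_left, h.ne, mul_zero]) h1 p
  rw [CharP.cast_eq_zero, zero_smul] at h2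
  obtain ⟨d, h3, h4⟩ := key (herm_zero_left _) h2 p
  rw [h4 rfl, CharP.cast_eq_zero, zero_smul, zero_mul, ← pow_mul, ← sq] at h3
  exact ⟨2, Subtype.ext (h3.unique (isSiegel_one e))⟩

theorem exists_fixed (hq : p ∣ q) {P : Subgroup (SU 3 F q)} (hP : IsPGroup p P) :
    ∃ e : Fin 3 → F, e ≠ 0 ∧ hermForm 3 F q e e = 0 ∧ P ≤ MulAction.stabilizer (SU 3 F q) e := by
  have := hU.finite
  let X : SubMulAction P (Fin 3 → F) :=
    ⟨{v | hermForm 3 F q v v = 0}, fun g v hv => (SU_herm g.1 v v).trans hv⟩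
  have hq1 : 1 ≤ q ^ 2 := by rw [← hU.card_eq]; exact Nat.card_pos
  obtain ⟨e, he, h0⟩ := hP.exists_fixed_point_of_prime_dvd_card_of_fixed_point X (by
    rw [show Nat.card X = _ from card_isotropic, if_neg (by decide)]
    obtain ⟨m, hm⟩ := Nat.exists_eq_add_of_le hq1
    rw [show q ^ (3 - 1) - 1 = m by simp [hm], show (q ^ 3 + 1) * m + 1 = q * (q ^ 2 * m + q) by
      linarith]
    exact hq.mul_right _) (a := ⟨0, herm_zero_left _⟩) fun g => Subtype.ext (smul_zero g)
  exact ⟨e, fun h => h0 (Subtype.ext h.symm), e.2, fun g hg => congrArg Subtype.val (he ⟨g, hg⟩)⟩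

theorem isPGroup_sup (hq : p ∣ q) {S T : Subgroup (SU 3 F q)} (hS : IsPGroup p S)
    (hT : IsPGroup p T) (h : S ⊓ T ≠ ⊥) : IsPGroup p ↥(S ⊔ T) := by
  obtain ⟨e, e0, ee, h1⟩ := exists_fixed hq hS
  obtain ⟨v, v0, vv, h2⟩ := exists_fixed hq hT
  obtain ⟨⟨g, hg⟩, g1⟩ := (ne_bot_iff_exists_ne_one).1 h
  obtain ⟨n, f, fr⟩ := exists_fr e0 ee
  obtain ⟨c, a, h3⟩ := fr.isSiegel_of_fix (h1 hg.1)
  have h4 : hermForm 3 F q v e = 0 := by
    by_contra h4
    obtain ⟨rfl, rfl⟩ := fr.unip_fix h3 h4 (m := 1) (by rw [one_smul]; exact h2 hg.2)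
    rw [zero_smul] at h3
    exact g1 (Subtype.ext (h3.unique (isSiegel_one e)))
  obtain ⟨l, rfl⟩ := iso_par e0 ee vv h4
  refine (isPGroup_stab e0 ee).to_le (sup_le h1 fun x hx => ?_)
  have := h2 hx
  rw [MulAction.mem_stabilizer_iff, SU_smul_comm] at this
  exact smul_right_injective _ (left_ne_zero_of_smul v0) this

end

/-- Let p be an odd prime, q a power of p and K a finite field with q² elements. Then Qd(p) (the natural semidirect product of an elementary abelian group of order p² by SL₂(p)) is not involved in the projective special unitary group PSU₃(q) realised over K. -/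
theorem result {p : ℕ} [Fact p.Prime] (hp : p ≠ 2) {K : Type*} [Field K] [Fintype K] [CharP K p] (n : ℕ) (hn : 1 ≤ n) (hK : Fintype.card K = (p ^ n) ^ 2) : ¬ Cfsg.Involves ↥(Cfsg.qd p) (Cfsg.PSU 3 K (p ^ n)) := by
  rintro ⟨L, R, hR, ⟨e⟩⟩
  have := UF.of_card hK
  let π : SU 3 K (p ^ n) →* PSU 3 K (p ^ n) := QuotientGroup.mk' _
  let φ : L.comap π →* qdOver (ZMod p) :=
    (e.toMonoidHom.comp (QuotientGroup.mk' _)).comp (π.subgroupComap L)
  obtain ⟨S, hS⟩ := exists_normal_sylow (p := p) (fun S T h => by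
      have h1 := isPGroup_sup (dvd_pow_self p (by omega : n ≠ 0))
        (S.isPGroup'.map (L.comap π).subtype) (T.isPGroup'.map (L.comap π).subtype) (by
          rwa [← map_inf _ _ _ (L.comap π).subtype_injective, Ne,
            map_eq_bot_iff_of_injective _ (L.comap π).subtype_injective])
      rw [← Subgroup.map_sup] at h1
      have h2 := h1.of_equiv (equivMapOfInjective _ _ (L.comap π).subtype_injective).symm
      exact Sylow.ext ((S.3 h2 le_sup_left).symm.trans (T.3 h2 le_sup_right))) φ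
    ((e.surjective.comp (QuotientGroup.mk'_surjective _)).comp
      (π.subgroupComap_surjective_of_surjective L (QuotientGroup.mk'_surjective _)))
    (Qd.V (ZMod p)) (Qd.isPGroup_V p) Qd.V_ne_bot
  have : Nontrivial S := (nontrivial_iff_ne_bot _).2 fun h =>
    Qd.V_ne_bot (eq_bot_iff.2 (h ▸ (Qd.isPGroup_V p).le_sylow_of_normal S))
  exact (S2763.result S ⊤ (top_ne_bot (α := Subgroup S)) inferInstance).2 hS

end Cfsg.Agent.S2232
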