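import Cfsg.Statements.S3345
import Cfsg.Agent.O8C.Surj
import Cfsg.Agent.Transfer.FSChi

set_option autoImplicit false
open Cfsg

namespace Cfsg.Agent.S3345

open Subgroup

/-- triples of permutations as functions -/
def toT : Equiv.Perm (Fin 3) × Equiv.Perm (Fin 3) × Equiv.Perm (Fin 3) ≃* O8C.T3 where
  toFun a := ![a.1, a.2.1, a.2.2]
  invFun σ := (σ 0, σ 1, σ 2)
  left_inv _ := rfl
  right_inv σ := by ext1 i; fin_cases i <;> rfl
  map_mul' a b := by ext1 i; fin_cases i <;> rfl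


/-- Let G be a finite group with O^2(G) = G and an involution t with centralizer C such that F*(C) is extraspecial of order 2^9, C/O₂(C) is isomorphic to Sym(3) × Sym(3) × Sym(3), and C_G(O₂(C)) ≤ O₂(C). Then either the image of t is central in G/O_{2'}(G), or G is isomorphic to Ω⁺(8,2), the commutator subgroup of the isometry group of the hyperbolic quadratic form in dimension 8 over the field with 2 elements. -/
theorem result {G : Type*} [Group G] [Finite G]
    (hG : Cfsg.pResidual 2 G = ⊤) (t : G) (ht : orderOf t = 2)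
    (C : Subgroup G) (hC : C = Subgroup.centralizer ({t} : Set G))
    (hF : Cfsg.IsExtraspecial 2 (Cfsg.generalizedFittingSubgroup C))
    (hFcard : Nat.card (Cfsg.generalizedFittingSubgroup C) = 2 ^ 9)
    (e : C ⧸ Cfsg.pCore 2 C ≃* Equiv.Perm (Fin 3) × Equiv.Perm (Fin 3) × Equiv.Perm (Fin 3))
    (hcc : Subgroup.centralizer (((Cfsg.pCore 2 C).map C.subtype : Subgroup G) : Set G) ≤ (Cfsg.pCore 2 C).map C.subtype) :
    (∀ g : G, g * t * g⁻¹ * t⁻¹ ∈ Cfsg.oddCore G) ∨
      Nonempty (G ≃* Cfsg.Omega (ZMod 2) (Cfsg.quadFormPlus 4 (ZMod 2))) := by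
  classical
  subst hC
  have := Fact.mk Nat.prime_two
  have e1 := (PLocal.isPGroup_fstar_iff 2).1 (IsPGroup.of_card hFcard)
  have hL : TT.LX (TT.O2C t) t := LES.LX_of_fstar_eq ht _ e1 (e1 ▸ hF)
  have hQ : Nat.card (TT.O2C t) = 2 ^ 9 := (LES.card_map_subtype _).trans (e1 ▸ hFcard)
  let φ : centralizer ({t} : Set G) →* O8C.T3 :=
    (e.trans toT).toMonoidHom.comp (QuotientGroup.mk' (pCore 2 _))
  have hφ : Function.Surjective φ := (e.trans toT).surjective.comp (QuotientGroup.mk'_surjective _)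
  let π : G → O8C.T3 := fun g => if h : g ∈ centralizer ({t} : Set G) then φ ⟨g, h⟩ else 1
  have hπ : ∀ g (h : g * t = t * g), π g = φ ⟨g, mem_centralizer_singleton_iff.2 h⟩ := fun g h =>
    dif_pos _
  have h : O8C.Hyp (TT.O2C t) t π := by
    refine ⟨hL, hQ, fun a b ha hb => ?_, fun a ha => ?_, fun σ => ?_⟩
    · rw [hπ a ha, hπ b hb, hπ _ (TT.comm_mul_left ha hb), ← map_mul]; rfl
    · rw [hπ a ha]
      exact ((e.trans toT).map_eq_one_iff.trans (QuotientGroup.eq_one_iff _)).trans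
        LES.coe_mem_map_subtype.symm
    · obtain ⟨a, rfl⟩ := hφ σ
      exact ⟨a, mem_centralizer_singleton_iff.1 a.2, dif_pos a.2⟩
  let ψ : centralizer ({t} : Set G) →* ℤˣ :=
    (Equiv.Perm.sign.comp (Pi.evalMonoidHom (fun _ : Fin 3 => O8C.S3) 0)).comp φ
  have hψ : Function.Surjective ψ := fun u => by
    obtain ⟨σ, rfl⟩ := Equiv.Perm.sign_surjective (Fin 3) u
    obtain ⟨a, ha⟩ := hφ fun _ => σ
    exact ⟨a, congrArg (fun s : O8C.T3 => Equiv.Perm.sign (s 0)) ha⟩
  obtain ⟨g, hg, hne⟩ := Transfer.FS.main hG hL (by rw [hQ]; norm_num)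
    (K := ψ.ker.map (Subgroup.subtype _)) (map_subtype_le _) (by
      rw [relIndex, subgroupOf, comap_map_eq_self_of_injective (subtype_injective _), index_ker,
        MonoidHom.range_eq_top.2 hψ]
      simp)
  obtain ⟨θ, h1, h2, h3, h4, h5⟩ := O8C.exists_theta h
    (hL.pair hg hne (hL.mem_map_conj_of_card (by rw [hQ]; norm_num) hg))
    ((LES.card_map_conj _ g).trans hQ)
  exact Or.inr ⟨(Spor.ModelO8p.equiv.trans (MulEquiv.ofBijective θ
    ⟨h1, MonoidHom.range_eq_top.1 (h.surj' h1 h2 h3 h4 h5)⟩)).symm⟩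

end Cfsg.Agent.S3345
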