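import Cfsg.Statements.S4365
import Mathlib
import Cfsg.Agent.Grp.Card
import Cfsg.Agent.Grp.PChain

set_option autoImplicit false
open Cfsg

namespace Cfsg.Agent.S4365

open scoped commutatorElement

theorem comm_pow_swap {P : Type*} [Group P] {y x : P} (h : ⁅y, x⁆ ∈ Subgroup.center P) (n : ℕ) :
    ⁅y, x ^ n⁆ = ⁅y ^ n, x⁆ := by
  have hz : ∀ g, g * ⁅y, x⁆ = ⁅y, x⁆ * g := Subgroup.mem_center_iff.1 h
  have h1 : ∀ n : ℕ, ⁅y, x ^ n⁆ = ⁅y, x⁆ ^ n := by
    intro n
    induction n with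
    | zero => simp
    | succ n ih =>
      have : ⁅y, x ^ (n + 1)⁆ = ⁅y, x ^ n⁆ * (x ^ n * ⁅y, x⁆ * (x ^ n)⁻¹) := by
        simp only [commutatorElement_def, pow_succ]; group
      rw [this, ih, hz, mul_inv_cancel_right, pow_succ]
  have h2 : ∀ n : ℕ, ⁅y ^ n, x⁆ = ⁅y, x⁆ ^ n := by
    intro n
    induction n with
    | zero => simp
    | succ n ih =>
      have : ⁅y ^ (n + 1), x⁆ = (y ^ n * ⁅y, x⁆ * (y ^ n)⁻¹) * ⁅y ^ n, x⁆ := by
        simp only [commutatorElement_def, pow_succ]; group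
      rw [this, ih, hz, mul_inv_cancel_right, pow_succ']
  rw [h1, h2]


/-- Let P be a finite p-group whose conjugacy class sizes are exactly 1 and pᵃ for some a ≥ 1. Then every element of P has its p-th power in the center of P (P/Z(P) has exponent p). -/
theorem result {P : Type*} [Group P] [Finite P] (p : ℕ) [Fact p.Prime]
    (hP : IsPGroup p P) (a : ℕ) (ha : 1 ≤ a)
    (hcs : {k : ℕ | ∃ x : P, (Subgroup.centralizer ({x} : Set P)).index = k} = {1, p ^ a}) (x : P) :
    x ^ p ∈ Subgroup.center P := by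
  by_contra hx
  set Z := Subgroup.center P with hZ
  have hidx : ∀ u : P, u ∉ Z → (Subgroup.centralizer ({u} : Set P)).index = p ^ a := by
    intro u hu
    have : (Subgroup.centralizer ({u} : Set P)).index ∈ ({1, p ^ a} : Set ℕ) := hcs ▸ ⟨u, rfl⟩
    rcases this with h | h
    · exfalso; apply hu
      rw [Subgroup.index_eq_one] at h
      refine Subgroup.mem_center_iff.2 fun g => ?_
      have : g ∈ Subgroup.centralizer ({u} : Set P) := h ▸ Subgroup.mem_top g
      exact (Subgroup.mem_centralizer_singleton_iff.1 this)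
    · exact h
  have heq : ∀ u v : P, u ∉ Z → v ∉ Z → (∀ g, g * u = u * g → g * v = v * g) →
      ∀ g, g * v = v * g → g * u = u * g := by
    intro u v hu hv h g hg
    have hle : Subgroup.centralizer ({u} : Set P) ≤ Subgroup.centralizer ({v} : Set P) := fun g hg =>
      Subgroup.mem_centralizer_singleton_iff.2 (h g (Subgroup.mem_centralizer_singleton_iff.1 hg))
    have h2 := Subgroup.relIndex_mul_index hle
    rw [hidx u hu, hidx v hv, mul_eq_right₀ (pow_ne_zero _ (Fact.out : p.Prime).ne_zero),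
      Subgroup.relIndex_eq_one] at h2
    exact Subgroup.mem_centralizer_singleton_iff.1 (h2 (Subgroup.mem_centralizer_singleton_iff.2 hg))
  have hnz : ∀ u : P, u ^ p ∉ Z → u ∉ Z := fun u hu h => hu (Z.pow_mem h p)
  have L1 : ∀ u : P, u ^ p ∉ Z → ∀ g, g * u ^ p = u ^ p * g → g * u = u * g := fun u hu =>
    heq u (u ^ p) (hnz u hu) hu fun g hg => (Commute.pow_right (show Commute g u from hg) p)
  have L2 : ∀ v u : P, v ^ p ∉ Z → u * v = v * u → u ^ p ∈ Z →
      ∀ g, g * v = v * g → g * u = u * g := by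
    intro v u hv huv hu g hg
    have h1 : (v * u) ^ p = v ^ p * u ^ p := Commute.mul_pow (show Commute v u from huv.symm) p
    have h2 : (v * u) ^ p ∉ Z := by
      intro h; apply hv
      rw [h1] at h
      simpa using Z.mul_mem h (Z.inv_mem hu)
    have h3 := L1 (v * u) h2 g (by
      rw [h1, ← mul_assoc, (Commute.pow_right (show Commute g v from hg) p).eq, mul_assoc, mul_assoc,
        Subgroup.mem_center_iff.1 hu g])
    rw [← mul_assoc, hg, mul_assoc, mul_assoc] at h3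
    exact mul_left_cancel h3
  obtain ⟨y, -, hyZ, hyp, hyc⟩ := Grp.PChain.exists_central_mod_pow hP ⊤ Z
    (fun h => hnz x hx (h (Subgroup.mem_top x)))
  have L3 : ∀ v : P, v ^ p ∉ Z → ∀ g, g * v = v * g ↔ g * y = y * g := by
    intro v hv g
    have h1 : y * v = v * y := by
      apply L1 v hv
      rw [← commutatorElement_eq_one_iff_mul_comm, comm_pow_swap (hyc v),
        commutatorElement_eq_one_iff_mul_comm]
      exact (Subgroup.mem_center_iff.1 hyp v).symm
    exact ⟨L2 v y hv h1 hyp g, heq v y (hnz v hv) hyZ (L2 v y hv h1 hyp) g⟩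
  set C := Subgroup.centralizer ({y} : Set P) with hC
  have hmem : ∀ g, g ∈ C ↔ g * y = y * g := fun g => Subgroup.mem_centralizer_singleton_iff
  have hyconj : ∀ g : P, g * y * g⁻¹ = (⁅y, g⁆)⁻¹ * y := fun g => by
    simp only [commutatorElement_def]; group
  have hcommC : ∀ g h : P, ⁅g, h⁆ ∈ C := by
    intro g h
    rw [hmem]
    have h1 : ∀ g h : P, (g * h) * y * (g * h)⁻¹ = (⁅y, h⁆)⁻¹ * ((⁅y, g⁆)⁻¹ * y) := by
      intro g h
      have : (g * h) * y * (g * h)⁻¹ = g * (h * y * h⁻¹) * g⁻¹ := by group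
      rw [this, hyconj h, ← mul_assoc g, Subgroup.mem_center_iff.1 (Z.inv_mem (hyc h)) g, mul_assoc,
        mul_assoc, ← mul_assoc g, hyconj g]
    have h2 : (g * h) * y * (g * h)⁻¹ = (h * g) * y * (h * g)⁻¹ := by
      rw [h1, h1, ← mul_assoc, ← mul_assoc, Subgroup.mem_center_iff.1 (Z.inv_mem (hyc h))]
    have h3 : (h * g) * y * (h * g)⁻¹ = y * ((⁅y, h * g⁆)⁻¹) := by
      rw [hyconj, Subgroup.mem_center_iff.1 (Z.inv_mem (hyc _))]
    have h4 : ⁅g, h⁆ * ((h * g) * y * (h * g)⁻¹) * (⁅g, h⁆)⁻¹ = (g * h) * y * (g * h)⁻¹ := by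
      simp only [commutatorElement_def]; group
    rw [h2, h3, ← mul_assoc, mul_assoc (⁅g, h⁆ * y),
      ← Subgroup.mem_center_iff.1 (Z.inv_mem (hyc (h * g))), ← mul_assoc, mul_left_inj] at h4
    exact mul_inv_eq_iff_eq_mul.1 h4
  have hCn : C.Normal := Grp.PChain.normal_of_commutator_mem fun b _ g => hcommC b g
  have L4 : ∀ u ∈ C, u ∉ Z → ∀ g, g * u = u * g ↔ g ∈ C := by
    intro u hu huZ g
    rw [hmem]
    by_cases hup : u ^ p ∈ Z
    · have h1 : u * x = x * u := (L3 x hx u).2 ((hmem u).1 hu)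
      rw [← L3 x hx g]
      exact ⟨heq x u (hnz x hx) huZ (L2 x u hx h1 hup) g, L2 x u hx h1 hup g⟩
    · exact L3 u hup g
  have hab : ∀ u ∈ C, ∀ v ∈ C, v * u = u * v := by
    intro u hu v hv
    by_cases huZ : u ∈ Z
    · exact Subgroup.mem_center_iff.1 huZ v
    · exact (L4 u hu huZ v).2 hv
  have hZC : Z ≤ C := fun z hz => (hmem z).2 (Subgroup.mem_center_iff.1 hz y).symm
  obtain ⟨w₀, hw₀⟩ : ∃ w, w ∉ C := by
    by_contra hc
    push Not at hc
    exact hyZ (Subgroup.mem_center_iff.2 fun g => (hmem g).1 (hc g))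
  have hxC : x ∈ C := (hmem x).2 ((L3 x hx x).1 rfl)
  have hw₀p : w₀ ^ p ∈ Z := by
    by_contra h
    exact hw₀ ((hmem _).2 ((L3 _ h _).1 rfl))
  have hw₀Z : w₀ ∉ Z := fun h => hw₀ (hZC h)
  -- counting
  have hcount : Z.relIndex C ≤ C.index := by
    set W := Subgroup.centralizer ({w₀} : Set P) with hW
    have h1 : C ⊓ W = Z := by
      apply le_antisymm
      · rintro u ⟨hu1, hu2⟩
        by_contra huZ
        exact hw₀ ((L4 u hu1 huZ w₀).1 (Subgroup.mem_centralizer_singleton_iff.1 hu2).symm)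
      · exact le_inf hZC (Subgroup.center_le_centralizer _)
    have h2 : C.relIndex W ≤ C.index := Nat.le_of_dvd (Nat.pos_of_ne_zero C.index_ne_zero_of_finite)
      (Subgroup.relIndex_dvd_index_of_normal C W)
    rw [← Subgroup.inf_relIndex_right, h1] at h2
    have h3 := Subgroup.relIndex_mul_index hZC
    have h4 := Subgroup.relIndex_mul_index (Subgroup.center_le_centralizer ({w₀} : Set P))
    rw [hidx y hyZ] at h3
    rw [hidx w₀ hw₀Z, ← hZ, ← h3] at h4
    rw [← Nat.eq_of_mul_eq_mul_right (pow_pos (Fact.out : p.Prime).pos a) h4]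
    exact h2
  let Z2 : Subgroup P := (Subgroup.center (P ⧸ Z)).comap (QuotientGroup.mk' Z)
  have hZ2 : ∀ u, u ∈ Z2 ↔ ∀ g, ⁅u, g⁆ ∈ Z := by
    intro u
    simp only [Z2, Subgroup.mem_comap, Subgroup.mem_center_iff]
    constructor
    · intro h g
      rw [← QuotientGroup.eq_one_iff, ← QuotientGroup.mk'_apply, map_commutatorElement,
        commutatorElement_eq_one_iff_mul_comm]
      exact (h _).symm
    · intro h g
      obtain ⟨g, rfl⟩ := QuotientGroup.mk'_surjective Z g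
      have := h g
      rw [← QuotientGroup.eq_one_iff, ← QuotientGroup.mk'_apply, map_commutatorElement,
        commutatorElement_eq_one_iff_mul_comm] at this
      exact this.symm
  have hxZ2 : x ∉ Z2 := by
    intro h
    rw [hZ2] at h
    have h1 := comm_pow_swap (h w₀) p
    rw [commutatorElement_eq_one_iff_mul_comm.2 (Subgroup.mem_center_iff.1 hw₀p x), eq_comm,
      commutatorElement_eq_one_iff_mul_comm] at h1
    exact hw₀ ((L4 _ (C.pow_mem hxC p) hx w₀).1 h1.symm)
  have := hP.isNilpotent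
  obtain ⟨t, htC, htZ2, ht⟩ := Grp.PChain.exists_central_mod C Z2 (fun h => hxZ2 (h hxC))
  have hZZ2 : Z ≤ Z2 := fun z hz => (hZ2 z).2 fun g => by
    rw [commutatorElement_eq_one_iff_mul_comm.2 (Subgroup.mem_center_iff.1 hz g).symm]
    exact Z.one_mem
  obtain ⟨w, hwC, hw⟩ : ∃ w, w ∉ C ∧ ⁅t, w⁆ ∈ Z := by
    by_contra hc
    push Not at hc
    have h1 := Grp.PChain.relIndex_centralizer_le (⊤ : Subgroup (P ⧸ Z))
      ((C ⊓ Z2).map (QuotientGroup.mk' Z)) (u := QuotientGroup.mk' Z t) (by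
        intro g _
        obtain ⟨g, rfl⟩ := QuotientGroup.mk'_surjective Z g
        rw [← map_commutatorElement]
        exact Subgroup.mem_map_of_mem _ ⟨hcommC _ _, ht g⟩)
    rw [Subgroup.relIndex_top_right] at h1
    have h2 : (Subgroup.centralizer {QuotientGroup.mk' Z t}).comap (QuotientGroup.mk' Z) ≤ C := by
      intro g hg
      by_contra hgC
      apply hc g hgC
      rw [Subgroup.mem_comap, Subgroup.mem_centralizer_singleton_iff] at hg
      rw [← QuotientGroup.eq_one_iff, ← QuotientGroup.mk'_apply, map_commutatorElement,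
        commutatorElement_eq_one_iff_mul_comm]
      exact hg.symm
    have h3 := Nat.le_of_dvd (Nat.pos_of_ne_zero Subgroup.index_ne_zero_of_finite)
      (Subgroup.index_dvd_of_le h2)
    rw [Subgroup.index_comap_of_surjective _ (QuotientGroup.mk'_surjective Z)] at h3
    have h4 := Grp.card_map_mk'_mul_of_le Z (le_inf hZC hZZ2)
    have h5 := Grp.card_mul_relIndex hZC
    have h6 : Nat.card (C ⊓ Z2 : Subgroup P) < Nat.card C := by
      have h7 := Grp.card_mul_relIndex (inf_le_left : C ⊓ Z2 ≤ C)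
      have h8 : (C ⊓ Z2).relIndex C ≠ 1 := fun h => htZ2 (Subgroup.relIndex_eq_one.1 h htC).2
      have h9 : (C ⊓ Z2).relIndex C ≠ 0 := Subgroup.index_ne_zero_of_finite
      have h10 : 0 < Nat.card (C ⊓ Z2 : Subgroup P) := Nat.card_pos
      rw [← h7]
      exact lt_mul_of_one_lt_right h10 (by omega)
    rw [← h4, ← h5, mul_comm] at h6
    have h11 := lt_of_mul_lt_mul_left h6 (Nat.zero_le _)
    omega
  apply htZ2
  rw [hZ2]
  intro g
  by_contra hg
  apply hwC
  rw [← L4 _ (hcommC t g) hg]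
  have e1 : w * t * w⁻¹ = (⁅t, w⁆)⁻¹ * t := by simp only [commutatorElement_def]; group
  have hz : ∀ g, g * (⁅t, w⁆)⁻¹ = (⁅t, w⁆)⁻¹ * g := Subgroup.mem_center_iff.1 (Z.inv_mem hw)
  have e2 : (w * g) * t * (w * g)⁻¹ = (g * w) * t * (g * w)⁻¹ := by
    have h1 : (g * w) * t * (g * w)⁻¹ ∈ C := hCn.conj_mem _ htC _
    have h2 := hab _ h1 _ (hcommC w g)
    have h4 : ⁅w, g⁆ * ((g * w) * t * (g * w)⁻¹) * (⁅w, g⁆)⁻¹ = (w * g) * t * (w * g)⁻¹ := by
      simp only [commutatorElement_def]; group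
    rw [← h4, h2, mul_inv_cancel_right]
  have e3 : w * ⁅t, g⁆ * w⁻¹ = (w * t * w⁻¹) * ((w * g) * t * (w * g)⁻¹)⁻¹ := by
    simp only [commutatorElement_def]; group
  have e4 : (g * w) * t * (g * w)⁻¹ = (⁅t, w⁆)⁻¹ * (g * t * g⁻¹) := by
    have : (g * w) * t * (g * w)⁻¹ = g * (w * t * w⁻¹) * g⁻¹ := by group
    rw [this, e1, ← mul_assoc g, hz g]; group
  rw [e2, e4, e1, mul_inv_rev, inv_inv, ← hz t] at e3
  have e5 : (g * t * g⁻¹)⁻¹ * ⁅t, w⁆ = ⁅t, w⁆ * (g * t * g⁻¹)⁻¹ := Subgroup.mem_center_iff.1 hw _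
  rw [e5, ← mul_assoc, inv_mul_cancel_right] at e3
  have e6 : t * (g * t * g⁻¹)⁻¹ = ⁅t, g⁆ := by simp only [commutatorElement_def]; group
  rw [e6] at e3
  exact mul_inv_eq_iff_eq_mul.1 e3

end Cfsg.Agent.S4365
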