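import Cfsg.Statements.S4134
import Mathlib
import Cfsg.Agent.FGS.BHM
import Cfsg.Agent.FGS.FrobeniusCount
import Cfsg.Agent.Solv.NilpAmb
import Cfsg.Agent.Grp.Fitting
import Cfsg.Agent.Transfer.PCompl
import Cfsg.Agent.S4365
import Cfsg.Agent.Solv.CN
import Cfsg.Agent.Char.Restrict

set_option autoImplicit false
open Cfsg

namespace Cfsg.Agent.S4134

open FGS.BHM Subgroup PLocal.Amb

theorem dvd_card_of_orbits {G : Type*} [Group G] [Finite G] (R : Subgroup G) (S : Set G) (d : ℕ)
    (hS : ∀ g ∈ R, ∀ s ∈ S, g * s * g⁻¹ ∈ S)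
    (hd : ∀ s ∈ S, d ∣ (centralizer ({s} : Set G)).relIndex R) : d ∣ Nat.card S := by
  let _ : MulAction R S :=
    { smul := fun a s => ⟨a * s * (a : G)⁻¹, hS _ a.2 _ s.2⟩
      one_smul := fun s => Subtype.ext (by
        show ((1 : R) : G) * s * ((1 : R) : G)⁻¹ = s
        simp)
      mul_smul := fun a b s => Subtype.ext (by
        show ((a * b : R) : G) * s * ((a * b : R) : G)⁻¹ = a * (b * s * (b : G)⁻¹) * (a : G)⁻¹
        simp [mul_assoc]) }
  refine FGS.FrobCount.dvd_card_of_fibers (Quotient.mk (MulAction.orbitRel R S)) fun s => ?_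
  have h1 : Nat.card {x // Quotient.mk (MulAction.orbitRel R S) x = Quotient.mk _ s} =
      (MulAction.orbit R s).ncard := by
    rw [← Nat.card_coe_set_eq]
    exact Nat.card_congr (Equiv.subtypeEquivRight fun x => Quotient.eq)
  rw [h1, ← MulAction.index_stabilizer]
  have h2 : MulAction.stabilizer R s = (centralizer ({(s : G)} : Set G)).subgroupOf R := by
    ext a
    rw [MulAction.mem_stabilizer_iff, mem_subgroupOf, mem_c, Subtype.ext_iff]
    exact mul_inv_eq_iff_eq_mul
  rw [h2]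
  exact hd s s.2

theorem center_of_ne {G : Type*} [Group G] [Finite G] {n : ℕ} (h : ∀ x : G, ix x = 1 ∨ ix x = n)
    {p q : ℕ} (hp : p.Prime) (hq : q.Prime) (hpq : p ≠ q) {x y : G} (hx : ∃ k, x ^ p ^ k = 1)
    (hy : ∃ k, y ^ q ^ k = 1) (hxZ : x ∉ center G) : y ∈ center G := by
  by_contra hyZ
  have hn : ∀ x : G, x ∉ center G → ix x = n := fun x hx =>
    (h x).resolve_left fun h => hx (ix_eq_one_iff.1 h)
  have hcard : ∀ x y : G, x ∉ center G → y ∉ center G →
      Nat.card (centralizer ({x} : Set G)) = Nat.card (centralizer ({y} : Set G)) := by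
    intro x y hx hy
    have h1 := (centralizer ({x} : Set G)).card_mul_index
    have h2 := (centralizer ({y} : Set G)).card_mul_index
    rw [show (centralizer ({x} : Set G)).index = n from hn x hx] at h1
    rw [show (centralizer ({y} : Set G)).index = n from hn y hy, ← h1] at h2
    exact (Nat.eq_of_mul_eq_mul_right (hn x hx ▸ ix_pos x) h2).symm
  have heq : ∀ x y : G, x ∉ center G → y ∉ center G → centralizer ({x} : Set G) ≤ centralizer {y} →
      centralizer ({x} : Set G) = centralizer {y} := fun x y hx hy hle =>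
    eq_of_le_of_card_ge hle (hcard y x hy hx).le
  have hcop : ∀ {r s : ℕ} {a b : G}, r.Prime → s.Prime → r ≠ s → (∃ k, a ^ r ^ k = 1) →
      (∃ k, b ^ s ^ k = 1) → (orderOf a).Coprime (orderOf b) := by
    rintro r s a b hr hs hrs ⟨i, hi⟩ ⟨j, hj⟩
    exact Nat.Coprime.coprime_dvd_left (orderOf_dvd_of_pow_eq_one hi) (Nat.Coprime.coprime_dvd_right
      (orderOf_dvd_of_pow_eq_one hj) (Nat.coprime_pow_primes i j hr hs hrs))
  have h1 : ∀ a b : G, a ∉ center G → b ∈ centralizer ({a} : Set G) →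
      (orderOf a).Coprime (orderOf b) → centralizer ({a} : Set G) ≤ centralizer {b} := by
    intro a b ha hb hc
    have h2 := FGS.centralizer_mul_of_coprime (x := a) (y := b) (mem_c.1 hb).symm hc
    have h3 : centralizer ({a * b} : Set G) ≤ centralizer {a} := h2 ▸ inf_le_left
    have h4 : a * b ∉ center G := fun h => ha (ix_eq_one_iff.1 (Nat.dvd_one.1
      (ix_eq_one_iff.2 h ▸ index_dvd_of_le h3)))
    rw [← heq _ _ h4 ha h3, h2]
    exact inf_le_right
  obtain ⟨m, hm⟩ := card_dvd_of_le (center_le_centralizer ({x} : Set G))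
  have hm' : ∀ a : G, a ∉ center G → (center G).relIndex (centralizer {a}) = m := by
    intro a ha
    have := Grp.card_mul_relIndex (center_le_centralizer ({a} : Set G))
    rw [hcard a x ha hxZ, hm] at this
    exact Nat.eq_of_mul_eq_mul_left Nat.card_pos this
  have hdm : ∀ {r : ℕ} {a : G}, r.Prime → (∃ k, a ^ r ^ k = 1) → a ∉ center G → r ∣ m := by
    rintro r a hr ⟨k, hk⟩ ha
    by_contra hc
    refine ha (FGS.mem_of_pow_mem_of_coprime (m := m) (Nat.Coprime.coprime_dvd_left
      (orderOf_dvd_of_pow_eq_one hk) ((hr.coprime_iff_not_dvd.2 hc).pow_left k)) ?_)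
    have := ((center G).subgroupOf (centralizer {a})).pow_index_mem ⟨a, mem_c.2 rfl⟩
    rw [← relIndex, hm' a ha] at this
    exact this
  have hab : ∀ a : G, a ∉ center G → ∀ u ∈ centralizer ({a} : Set G),
      centralizer ({a} : Set G) ≤ centralizer {u} := by
    intro a ha
    obtain ⟨r, hr, a', h2, h3, h4⟩ : ∃ r : ℕ, r.Prime ∧ ∃ a' ∈ zpowers a, (∃ k, a' ^ r ^ k = 1) ∧
        a' ∉ center G := by
      by_contra hc
      push Not at hc
      exact ha (FGS.mem_of_forall_primePow_part fun r hr a' h2 ⟨k, hk⟩ => hc r hr a' h2 ⟨k, hk⟩)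
    rw [heq _ _ ha h4 (centralizer_le_of_mem_zpowers h2)]
    obtain ⟨s, hs, hsr, hsm⟩ : ∃ s : ℕ, s.Prime ∧ s ≠ r ∧ s ∣ m := by
      by_cases hpr : p = r
      · exact ⟨q, hq, fun e => hpq (hpr.trans e.symm), hdm hq hy hyZ⟩
      · exact ⟨p, hp, hpr, hdm hp hx hxZ⟩
    obtain ⟨b, hb, h5, h6⟩ : ∃ b ∈ centralizer ({a'} : Set G), (∃ k, b ^ s ^ k = 1) ∧
        b ∉ center G := by
      by_contra hc
      push Not at hc
      exact not_dvd_relIndex hs (fun g hg hk => hc g hg hk) (hm' a' h4 ▸ hsm)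
    have h7 := heq _ _ h4 h6 (h1 a' b h4 hb (hcop hr hs hsr.symm h3 h5))
    intro u hu g hg
    refine mem_c.2 (mem_c.1 (FGS.mem_of_forall_primePow_part (H := centralizer {g})
      fun t ht v hv hk => mem_c.2 (mem_c.1 ?_).symm)).symm
    have hv' : v ∈ centralizer ({a'} : Set G) := zpowers_le.2 hu hv
    by_cases htr : t = r
    · subst htr
      exact h1 b v h6 (h7 ▸ hv') (hcop hs hr hsr h5 hk) (h7 ▸ hg)
    · exact h1 a' v h4 hv' (hcop hr ht (Ne.symm htr) h3 hk) hg
  have hmn : m ≤ n := by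
    obtain ⟨w, hw⟩ : ∃ w, w ∉ centralizer ({x} : Set G) := by
      by_contra hc
      push Not at hc
      exact hxZ (mem_center_iff.2 fun g => mem_c.1 (hc g))
    have hwZ : w ∉ center G := fun h => hw (center_le_centralizer _ h)
    have h2 : centralizer ({x} : Set G) ⊓ centralizer {w} ≤ center G := by
      intro u hu
      by_contra hc
      apply hw
      rw [heq _ _ hxZ hc (hab x hxZ u hu.1), ← heq _ _ hwZ hc (hab w hwZ u hu.2)]
      exact mem_c.2 rfl
    have h3 := Grp.card_mul_card_le_of_le (H := centralizer ({x} : Set G)) (K := centralizer {w})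
      le_top le_top
    have h4 := (centralizer ({x} : Set G)).card_mul_index
    rw [show (centralizer ({x} : Set G)).index = n from hn x hxZ] at h4
    rw [card_top, ← h4, hcard w x hwZ hxZ] at h3
    have h5 := h3.trans (Nat.mul_le_mul_right _ (card_le_of_le h2))
    rw [mul_left_comm] at h5
    have h6 := Nat.le_of_mul_le_mul_left h5 Nat.card_pos
    rw [hm] at h6
    exact Nat.le_of_mul_le_mul_left h6 Nat.card_pos
  have hm0 : m ≠ 0 := by
    rintro rfl
    exact Nat.card_pos.ne' hm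
  have key : ∀ r s k : ℕ, r.Prime → s.Prime → r ≠ s → r ^ k ∣ n →
      r ^ k ∣ s ^ m.factorization s - 1 := by
    intro r s k hr hs hrs hk
    haveI := Fact.mk hr
    haveI := Fact.mk hs
    obtain ⟨R⟩ : Nonempty (Sylow r G) := inferInstance
    have h2 : ∀ a : G, a ∉ center G → r ^ k ∣ (centralizer ({a} : Set G)).relIndex R := by
      intro a ha
      have h3 : r ^ k ∣ (centralizer ({a} : Set G) ⊓ R).index :=
        (hn a ha ▸ hk).trans (index_dvd_of_le inf_le_left)
      rw [← relIndex_mul_index (inf_le_right : centralizer ({a} : Set G) ⊓ R ≤ _),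
        inf_relIndex_right] at h3
      exact ((hr.coprime_iff_not_dvd.2 R.not_dvd_index).pow_left k).dvd_of_dvd_mul_right h3
    by_cases hR : (R : Subgroup G) ≤ center G
    · have := h2 x hxZ
      rw [relIndex_eq_one.2 (hR.trans (center_le_centralizer _))] at this
      exact this.trans (one_dvd _)
    obtain ⟨z, hzR, hzZ, hz⟩ : ∃ z ∈ (R : Subgroup G), z ∉ center G ∧
        ∀ g ∈ (R : Subgroup G), z⁻¹ * (g * z * g⁻¹) ∈ center G := by
      have h3 : (R : Subgroup G).map (QuotientGroup.mk' (center G)) ≠ ⊥ := by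
        rwa [Ne, Subgroup.map_eq_bot_iff, QuotientGroup.ker_mk']
      obtain ⟨_, ⟨z, hz, rfl⟩, h4, h5⟩ := Solv.CN.exists_central_of_ne_bot
        (R.isPGroup'.map (QuotientGroup.mk' (center G))).isNilpotent h3
      refine ⟨z, hz, fun h => h4 ((QuotientGroup.eq_one_iff z).2 h), fun g hg => ?_⟩
      have := mem_c.1 (h5 (mem_map_of_mem _ hg))
      rw [← QuotientGroup.eq_one_iff]
      simp only [QuotientGroup.mk'_apply] at this
      simp [this]
    set H := centralizer ({z} : Set G) with hH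
    have hRH : (R : Subgroup G) ≤ 𝐍[H] := by
      refine le_normalizer_iff.2 fun g hg u hu => mem_c.2 ?_
      have h3 := mem_center_iff.1 (hz g⁻¹ (inv_mem hg)) u
      have h4 := mem_c.1 hu
      calc g * u * g⁻¹ * z = g * (z * z⁻¹) * u * (g⁻¹ * z * g⁻¹⁻¹) * g⁻¹ := by group
        _ = g * z * (u * (z⁻¹ * (g⁻¹ * z * g⁻¹⁻¹))) * g⁻¹ := by
          rw [mul_assoc g, mul_assoc z, (Commute.inv_right h4).eq.symm]; group
        _ = _ := by rw [h3]; group
    have hHn : Group.IsNilpotent H := by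
      haveI : IsMulCommutative H :=
        ⟨⟨fun a b => Subtype.ext (mem_c.1 (hab z hzZ b b.2 a.2))⟩⟩
      exact Grp.isNilpotent_of_isMulCommutative _
    obtain ⟨T, hT, hRT⟩ : ∃ T : Subgroup G, IsSyl s T H ∧ (R : Subgroup G) ≤ 𝐍[T] :=
      ⟨_, Solv.NA.isSyl_pCoreOf (p := s) hHn, hRH.trans (normalizer_le_normalizer_pCoreOf s H)⟩
    have hT' := hT.inf_of_le (center_le_centralizer _) (by rw [normalizer_eq_top]; exact le_top)
    have h3 : r ^ k ∣ Nat.card ↥((T : Set G) \ ((T ⊓ center G : Subgroup G) : Set G)) := by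
      refine dvd_card_of_orbits (R : Subgroup G) _ _ (fun g hg u hu => ?_) (fun u hu => ?_)
      · refine ⟨(mem_normalizer_iff.1 (hRT hg) u).1 hu.1, fun h => hu.2 ⟨hu.1, ?_⟩⟩
        have h4 : g * u * g⁻¹ ∈ center G := h.2
        have h5 : u ∈ center G := by
          simpa [mul_assoc] using (inferInstance : (center G).Normal).conj_mem' _ h4 g
        exact h5
      · refine h2 u fun h => hu.2 ?_
        exact Subgroup.mem_inf.2 ⟨hu.1, h⟩
    have h3' : ((T ⊓ center G : Subgroup G) : Set G) ⊆ (T : Set G) := fun u hu => hu.1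
    rw [Nat.card_coe_set_eq, Set.ncard_sdiff h3' (Set.toFinite _),
      ← Nat.card_coe_set_eq, ← Nat.card_coe_set_eq] at h3
    have h4 : r ^ k ∣ Nat.card T - Nat.card ↥(T ⊓ center G) := h3
    rw [hT.card_eq_pow, hT'.card_eq_pow, hH, hcard z x hzZ hxZ, hm,
      Nat.factorization_mul Nat.card_pos.ne' hm0, Finsupp.add_apply, pow_add, ← Nat.mul_sub_one] at h4
    exact (Nat.coprime_pow_primes _ _ hr hs hrs).dvd_of_dvd_mul_left h4
  have hn0 : n ≠ 0 := hn x hxZ ▸ (ix_pos x).ne'
  obtain ⟨j, t, ht, e⟩ := Nat.exists_eq_pow_mul_and_not_dvd hn0 q hq.ne_one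
  have h2 : q ^ j ∣ p ^ m.factorization p - 1 := key q p j hq hp hpq.symm ⟨t, e⟩
  have h3 : t ∣ q ^ m.factorization q - 1 := by
    refine (Nat.dvd_iff_prime_pow_dvd_dvd _ _).2 fun r k hr hk => ?_
    rcases k with _ | k
    · simp
    refine key r q _ hr hq ?_ (hk.trans ⟨q ^ j, by rw [e, mul_comm]⟩)
    rintro rfl
    exact ht ((dvd_pow_self _ (Nat.succ_ne_zero k)).trans hk)
  have h4 : ∀ r : ℕ, r.Prime → r ∣ m → 1 < r ^ m.factorization r := fun r hr hd =>
    Nat.one_lt_pow (hr.factorization_pos_of_dvd hm0 hd).ne' hr.one_lt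
  have h5 := h4 p hp (hdm hp hx hxZ)
  have h6 := h4 q hq (hdm hq hy hyZ)
  have h7 := Nat.le_of_dvd (by omega) h2
  have h8 := Nat.le_of_dvd (by omega) h3
  have h9 : p ^ m.factorization p * q ^ m.factorization q ≤ m := Nat.le_of_dvd (by omega)
    ((Nat.coprime_pow_primes _ _ hp hq hpq).mul_dvd_of_dvd_of_dvd (Nat.ordProj_dvd _ _)
      (Nat.ordProj_dvd _ _))
  have h10 : q ^ j * t < p ^ m.factorization p * q ^ m.factorization q :=
    Nat.mul_lt_mul'' (by omega) (by omega)
  omega

/-- Let G be a finite group whose conjugacy classes have exactly two sizes, 1 and n > 1. Then n is a power of a prime p and G is the direct product of a p-group and an abelian group of order prime to p: its Sylow p-subgroup P is normal with an abelian normal complement centralizing it; moreover P has an abelian normal subgroup A with P/A of exponent dividing p. -/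
theorem result {G : Type*} [Group G] [Finite G] (n : ℕ) (hn : 1 < n)
    (h : ∀ x : G, (Subgroup.centralizer ({x} : Set G)).index = 1 ∨ (Subgroup.centralizer ({x} : Set G)).index = n) (hex : ∃ x : G, (Subgroup.centralizer ({x} : Set G)).index = n) :
    ∃ (p : ℕ) (_ : Fact p.Prime) (a : ℕ), n = p ^ a ∧ ∀ P : Sylow p G, (P : Subgroup G).Normal ∧
      (∃ N : Subgroup G, N.Normal ∧ N.IsComplement' (P : Subgroup G) ∧ IsMulCommutative N ∧
        ∀ x ∈ N, ∀ y ∈ (P : Subgroup G), x * y = y * x) ∧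
      ∃ A : Subgroup (P : Subgroup G), A.Normal ∧ IsMulCommutative A ∧ ∀ y : (P : Subgroup G), y ^ p ∈ A := by
  obtain ⟨x, hx⟩ := hex
  have hxZ : x ∉ center G := fun h => by
    have : ix x = n := hx
    rw [ix_eq_one_iff.2 h] at this; omega
  obtain ⟨p, hp, x', -, h3, h4⟩ : ∃ r : ℕ, r.Prime ∧ ∃ a' ∈ zpowers x, (∃ k, a' ^ r ^ k = 1) ∧
      a' ∉ center G := by
    by_contra hc
    push Not at hc
    exact hxZ (FGS.mem_of_forall_primePow_part fun r hr a' h2 ⟨k, hk⟩ => hc r hr a' h2 ⟨k, hk⟩)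
  haveI := Fact.mk hp
  have hO : pResidual p G ≤ center G := by
    refine Transfer.pResidual_le_iff.2 fun y hy => FGS.mem_of_forall_primePow_part ?_
    rintro q hq y' h1 ⟨k, hk⟩
    by_cases hpq : p = q
    · subst hpq
      have := Nat.eq_one_of_dvd_coprimes (hy.pow_right k) (orderOf_dvd_of_mem_zpowers h1)
        (orderOf_dvd_of_pow_eq_one hk)
      rw [orderOf_eq_one_iff.1 this]
      exact one_mem _
    · exact center_of_ne h hp hq hpq h3 ⟨k, hk⟩ h4
  obtain ⟨e, he⟩ := Transfer.index_pResidual (p := p) (G := G)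
  obtain ⟨a, -, ha⟩ := (Nat.dvd_prime_pow hp).1
    ((index_dvd_of_le (hO.trans (center_le_centralizer {x}))).trans he.dvd)
  rw [hx] at ha
  refine ⟨p, inferInstance, a, ha, fun P => ?_⟩
  have hsup := Transfer.pResidual_sup_sylow P
  have hcop : (Nat.card (pResidual p G)).Coprime p := by
    haveI : IsMulCommutative (pResidual p G) :=
      ⟨⟨fun a b => Subtype.ext (mem_center_iff.1 (hO b.2) a)⟩⟩
    have h1 := Solv.NA.coprime_card_pRes (p := p) (A := pResidual p G)
      (Grp.isNilpotent_of_isMulCommutative _)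
    rwa [← pRes_top, pRes_pRes, pRes_top] at h1
  refine ⟨?_, ⟨pResidual p G, inferInstance,
    Transfer.isComplement'_sylow_of_index hcop he P,
    ⟨⟨fun a b => Subtype.ext (mem_center_iff.1 (hO b.2) a)⟩⟩,
    fun x hx y _ => (mem_center_iff.1 (hO hx) y).symm⟩, center _, inferInstance, inferInstance, ?_⟩
  · rw [← normalizer_eq_top_iff, eq_top_iff, ← hsup]
    exact sup_le (hO.trans (center_le_normalizer _)) le_normalizer
  have h5 : ∀ y : (P : Subgroup G), (centralizer ({y} : Set (P : Subgroup G))).index = ix (y : G) := by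
    intro y
    rw [FGS.centralizer_singleton_subgroupOf]
    refine Char.relIndex_eq_index_of_mul fun g => ?_
    obtain ⟨u, hu, v, hv, rfl⟩ := Transfer.exists_pResidual_mul_sylow P g
    exact ⟨v, hv, u, center_le_centralizer _ (hO hu), (mem_center_iff.1 (hO hu) v).symm⟩
  refine S4365.result p P.isPGroup' a ?_ ?_
  · rcases a with _ | a
    · rw [ha, pow_zero] at hn; omega
    · omega
  · ext k
    simp only [Set.mem_setOf_eq, h5, Set.mem_insert_iff, Set.mem_singleton_iff, ← ha]
    refine ⟨fun ⟨y, hy⟩ => hy ▸ h y, ?_⟩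
    rintro (rfl | rfl)
    · exact ⟨1, ix_eq_one_iff.2 (one_mem _)⟩
    · obtain ⟨u, hu, v, hv, rfl⟩ := Transfer.exists_pResidual_mul_sylow P x
      refine ⟨⟨v, hv⟩, (h v).resolve_left fun h => hxZ (mul_mem (hO hu) (ix_eq_one_iff.1 h))⟩

end Cfsg.Agent.S4134
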