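import Cfsg.Statements.S4127
import Mathlib
import Cfsg.Agent.PLocal.AmbSyl
import Cfsg.Agent.FGS.ClassSize
import Cfsg.Agent.FGS.PrimePart
import Cfsg.Agent.S4035
import Cfsg.Agent.S0028
import Cfsg.Agent.Transfer.PCompl

set_option autoImplicit false
open Cfsg

namespace Cfsg.Agent.S4127

open PLocal.Amb

/-- Let G be a finite group, p a prime and p^a the largest power of p dividing the size of any conjugacy class of G. If some element of p-power order has a conjugacy class of size exactly p^a, then G has a normal p-complement. -/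
theorem result {G : Type*} [Group G] [Finite G] (p : ℕ) [Fact p.Prime]
    (a : ℕ) (hmax : ∀ y : G, ¬ p ^ (a + 1) ∣ (Subgroup.centralizer ({y} : Set G)).index)
    (hx : ∃ x : G, (∃ k : ℕ, orderOf x = p ^ k) ∧ (Subgroup.centralizer ({x} : Set G)).index = p ^ a) :
    Cfsg.HasNormalPComplement p G := by
  have hp : p.Prime := Fact.out
  obtain ⟨x, ⟨k, hk⟩, hxa⟩ := hx
  have hxp : x ^ p ^ k = 1 := by rw [← hk, pow_orderOf_eq_one]
  have hxO : x ∈ pCore p G := FGS.mem_pCore_of_index_centralizer_eq_pow ⟨k, hxp⟩ hxa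
  set C := Subgroup.centralizer ({x} : Set G) with hC
  have hxC : x ∈ C := Subgroup.mem_centralizer_singleton_iff.2 rfl
  obtain ⟨P⟩ : Nonempty (Sylow p C) := inferInstance
  have hyp : ∀ y : C, (orderOf y).Coprime p →
      ¬ p ∣ (Subgroup.centralizer ({y} : Set C)).index := by
    intro y hy hdvd
    have hcomm : Commute x y := (Subgroup.mem_centralizer_singleton_iff.1 y.2).symm
    have hcop : (orderOf x).Coprime (orderOf (y : G)) := by
      rw [hk, Subgroup.orderOf_coe]; exact Nat.Coprime.pow_left _ hy.symm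
    apply hmax (x * y)
    rw [FGS.centralizer_mul_of_coprime hcomm hcop, ← hC,
      ← Subgroup.relIndex_mul_index (inf_le_left : C ⊓ _ ≤ C), hxa, pow_succ',
      Subgroup.inf_relIndex_left]
    rw [FGS.centralizer_singleton_subgroupOf] at hdvd
    exact Nat.mul_dvd_mul_right hdvd _
  obtain ⟨hPn, H, hHn, hHp, hPH, hsup⟩ := S4035.aux P (S4035.sup_centralizer_eq_top hyp P)
  set K : Subgroup G := H.map C.subtype with hK
  have hKcard : Nat.card K = Nat.card H := Subgroup.card_map_of_injective C.subtype_injective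
  have hKp : (Nat.card K).Coprime p :=
    hKcard ▸ ((Nat.Prime.coprime_iff_not_dvd hp).2 hHp).symm
  have hKC : K ≤ C := Subgroup.map_subtype_le _
  -- `K` centralizes every `p`-element of `C`
  have hcent : ∀ u ∈ C, (∃ j, u ^ p ^ j = 1) → u ∈ 𝐂[K] := by
    rintro u hu ⟨j, hj⟩ _ ⟨h, hh, rfl⟩
    have huP : (⟨u, hu⟩ : C) ∈ (P : Subgroup C) := by
      have h1 : IsPGroup p (Subgroup.zpowers (⟨u, hu⟩ : C)) :=
        isPGroup_zpowers ⟨j, Subtype.ext hj⟩
      have h2 := (isSyl_top P).le_of_normalizes h1 le_top Subgroup.le_normalizer_of_normal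
      exact h2 (Subgroup.mem_zpowers _)
    have := Grp.le_centralizer_of_normal_of_inf_eq_bot (P : Subgroup C) H hPH huP h hh
    exact congrArg Subtype.val this
  have hKO : K ≤ 𝐂[pCore p G] := by
    refine S0028.result p (Subgroup.zpowers x) K (pCore p G) (isPGroup_zpowers ⟨k, hxp⟩) hKp
      (Grp.pCore_isPGroup p G) ?_ Subgroup.le_normalizer_of_normal Subgroup.le_normalizer_of_normal ?_
    · rw [Subgroup.zpowers_le]; exact hcent x hxC ⟨k, hxp⟩
    · rintro u ⟨hu1, hu2⟩
      rw [centralizer_zpowers] at hu2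
      exact hcent u hu2 (isPGroup_iff.1 (Grp.pCore_isPGroup p G) u hu1)
  have hOC : 𝐂[pCore p G] ≤ C := by
    intro g hg
    exact Subgroup.mem_centralizer_singleton_iff.2 (hg x hxO).symm
  -- the `p'`-elements of `C` lie in `K`
  have hHidx : ∃ j, H.index = p ^ j := by
    obtain ⟨j, hj⟩ := P.isPGroup'.exists_card_eq
    have : H.index ∣ p ^ j := by
      rw [← hj, ← Subgroup.relIndex_top_right, ← hsup, Subgroup.relIndex_sup_right]
      exact Subgroup.relIndex_dvd_card _ _
    obtain ⟨i, -, hi⟩ := (Nat.dvd_prime_pow hp).1 this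
    exact ⟨i, hi⟩
  obtain ⟨j, hj⟩ := hHidx
  have hmemK : ∀ g ∈ C, (orderOf g).Coprime p → g ∈ K := by
    intro g hg hc
    refine ⟨⟨g, hg⟩, ?_, rfl⟩
    exact Transfer.mem_of_coprime_of_isPGroup_quotient
      (Transfer.isPGroup_quotient_iff_index.2 ⟨j, hj⟩) (by rw [← Subgroup.orderOf_coe]; exact hc)
  have hKn : K.Normal := by
    constructor
    intro y hy g
    have hCn : (𝐂[pCore p G]).Normal := inferInstance
    refine hmemK _ (hOC (hCn.conj_mem _ (hKO hy) g)) ?_
    rw [orderOf_conj']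
    exact Nat.Coprime.coprime_dvd_left (Subgroup.orderOf_dvd_natCard K hy) hKp
  rw [Transfer.hasNormalPComplement_iff_exists_normal]
  refine ⟨K, hKn, hKp, j + a, ?_⟩
  rw [hK, Subgroup.index_map_subtype, hj, hxa, pow_add]

end Cfsg.Agent.S4127
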