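import Cfsg.Statements.S3815
import Mathlib
import Cfsg.Agent.Grp.Cores

set_option autoImplicit false
open Cfsg

namespace Cfsg.Agent.S3815


/-- Let G be a finite group, p a prime and d ∈ G an element of order prime to p. If dg has order prime to p for every element g ∈ G of order prime to p, then d ∈ O_{p'}(G). -/
theorem result {G : Type*} [Group G] [Finite G] {p : ℕ} [Fact p.Prime]
    (d : G) (hd : (orderOf d).Coprime p)
    (h : ∀ g : G, (orderOf g).Coprime p → (orderOf (d * g)).Coprime p) :
    d ∈ Cfsg.pPrimeCore p G := by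
  have hp : p.Prime := Fact.out
  let S : Submonoid G :=
    { carrier := {d | ∀ g : G, (orderOf g).Coprime p → (orderOf (d * g)).Coprime p}
      mul_mem' := fun {a b} ha hb g hg => by rw [mul_assoc]; exact ha _ (hb g hg)
      one_mem' := fun g hg => by rwa [one_mul] }
  let D : Subgroup G :=
    { S with
      inv_mem' := fun {a} ha => by
        have : a⁻¹ = a ^ (orderOf a - 1) := by
          rw [inv_eq_iff_mul_eq_one, ← pow_succ', Nat.sub_add_cancel (orderOf_pos a),
            pow_orderOf_eq_one]
        rw [this]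
        exact S.pow_mem ha _ }
  have hoc : ∀ x g : G, orderOf (x * g * x⁻¹) = orderOf g := fun x g =>
    (MulAut.conj x).orderOf_eq g
  have hD : D.Normal := ⟨fun a ha x g hg => by
    have := ha (x⁻¹ * g * x⁻¹⁻¹) (by rwa [hoc])
    rw [← hoc x] at this
    convert this using 2
    group⟩
  refine Grp.le_pPrimeCore hD ?_ (show d ∈ D from h)
  rw [Nat.coprime_comm, hp.coprime_iff_not_dvd]
  intro hdvd
  obtain ⟨⟨x, hx⟩, hxo⟩ := exists_prime_orderOf_dvd_card' p hdvd
  rw [Subgroup.orderOf_mk] at hxo
  have := hx 1 (by simp)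
  rw [mul_one, hxo, Nat.coprime_self] at this
  exact hp.ne_one this

end Cfsg.Agent.S3815
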