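import Cfsg.Statements.S3346
import Cfsg.Agent.HSR.Main
import Cfsg.Agent.HSR.Surj

set_option autoImplicit false
open Cfsg

namespace Cfsg.Agent.S3346

/-- A characterization of the Higman–Sims group. Let G be a finite group with an involution t, H = C_G(t) and R = O₂(H). Suppose R is the central product of a cyclic group of order 4 with an extraspecial group of order 32 (R = CE with C cyclic of order 4 central in R, E extraspecial of order 32, and C ∩ E = Z(E)), and H/R is isomorphic to Sym(5). Suppose further that V ≤ R is elementary abelian of order 8 with M = N_G(V) satisfying O₂(M) ≅ C₄ × C₄ × C₄ and M/O₂(M) ≅ GL(3,2). Then G is isomorphic to the Higman–Sims group. -/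
theorem result {G : Type*} [Group G] [Finite G]
    (t : G) (ht : orderOf t = 2) (H : Subgroup G) (hH : H = Subgroup.centralizer ({t} : Set G))
    (R : Subgroup G) (hR : R = (Cfsg.pCore 2 H).map H.subtype)
    (Cy E : Subgroup G) (hCy : IsCyclic Cy) (hCycard : Nat.card Cy = 4)
    (hCyle : Cy ≤ R ⊓ Subgroup.centralizer (R : Set G))
    (hEle : E ≤ R) (hEex : Cfsg.IsExtraspecial 2 E) (hEcard : Nat.card E = 32)
    (hprod : Cy ⊔ E = R) (hmeet : Cy ⊓ E = E ⊓ Subgroup.centralizer (E : Set G))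
    (eH : H ⧸ Cfsg.pCore 2 H ≃* Equiv.Perm (Fin 5))
    (V : Subgroup G) (hVcomm : IsMulCommutative V) (hVexp : ∀ v ∈ V, v ^ 2 = 1) (hVcard : Nat.card V = 8)
    (hVR : V ≤ R) (M : Subgroup G) (hM : M = Subgroup.normalizer (V : Set G))
    (eOM : Cfsg.pCore 2 M ≃* Multiplicative (ZMod 4 × ZMod 4 × ZMod 4))
    (eM : M ⧸ Cfsg.pCore 2 M ≃* GL (Fin 3) (ZMod 2)) :
    Cfsg.Spor.IsoHS G := by
  subst hH hM
  have n : ∀ g, g * t = t * g → ∀ r ∈ R, g * r * g⁻¹ ∈ R := fun g e r hr => by
    obtain ⟨r, m, rfl⟩ := hR.le hr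
    exact hR.ge ⟨_, (Cfsg.pCore_normal 2 (Subgroup.centralizer ({t} : Set G))).conj_mem r m
      ⟨g, Subgroup.mem_centralizer_singleton_iff.2 e⟩, rfl⟩
  obtain ⟨i, h⟩ := HSR.exists_RS ht (hR.ge (Grp.le_map_pCore (K := Subgroup.zpowers t)
    (Subgroup.zpowers_le_of_mem (Subgroup.mem_centralizer_singleton_iff.2 rfl))
    (by rw [Subgroup.zpowers_eq_closure, ← Subgroup.centralizer_closure]
        exact Subgroup.centralizer_le_normalizer (G := G) _)
    (IsPGroup.of_card (n := 1) (by rw [Nat.card_zpowers, ht, pow_one])) (Subgroup.mem_zpowers t)))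
    (fun r hr => Subgroup.mem_centralizer_singleton_iff.1 (Subgroup.map_subtype_le _ (hR.le hr)))
    hCy hCycard hCyle hEle hEex hEcard hprod hmeet
  obtain ⟨u, s, hu⟩ := HSR.exists_MS h n
    (fun u hu v hv => congrArg Subtype.val (hVcomm.is_comm.comm (⟨u, hu⟩ : V) ⟨v, hv⟩))
    (fun v hv => (pow_two v).symm.trans (hVexp v hv)) hVcard hVR eOM eM
  subst hR
  obtain ⟨η, u, p, h, a⟩ := HSR.exists_AM h s hu eH
  exact a.iso ht

end Cfsg.Agent.S3346
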