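import Cfsg.Statements.S5542
import Cfsg.Agent.Mon.Iso
import Cfsg.Agent.Mon.MType
import Cfsg.Agent.Mon.TypeMap

set_option autoImplicit false
open Cfsg

namespace Cfsg.Agent.S5542

/-- The Monster (realised inside the presented Bimonster, as in the definitions) is a group of Monster type: it has an involution z and a normal subgroup Q of C(z) such that Q is the generalized Fitting subgroup of C(z) and is extraspecial of order 2^25, C(z)/Q is identified with the first Conway group in such a way that Q modulo its centre is the Leech lattice modulo 2 as a module, and some conjugate of z other than z lies in Q. -/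
theorem result : Cfsg.IsGroupOfMonsterType Cfsg.Spor.Monster := by
  obtain ⟨e⟩ := Mon.monster_iso
  have : Finite Mon.MG := Nat.finite_of_card_ne_zero (by rw [Mon.isM_MG.2]; norm_num)
  obtain ⟨_, h⟩ := Mon.isOfMonsterType
  exact LES.isGroupOfMonsterType_map ⟨_, _, _, h⟩ e.symm

end Cfsg.Agent.S5542
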