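import Cfsg.Statements.S1480
import Mathlib
import Cfsg.Agent.PLocal.ThompsonBender
import Cfsg.Agent.PLocal.SigCoprime
import Cfsg.Agent.FT.BG7Base

set_option autoImplicit false
open Cfsg

namespace Cfsg.Agent.S1480

open Subgroup Cfsg.Agent.FT.B7

/-- Let G be a finite group and p a prime such that the normalizer of every nontrivial p-subgroup of G is p-constrained; if p = 2 assume also that the Sylow 2-subgroups of G have nilpotency class at most 2. Let E be an abelian p-subgroup containing an elementary abelian subgroup of order p ^ 3 and containing every element of p-power order of C_G(E). Then for every prime q ≠ p, any two maximal E-invariant q-subgroups of G are conjugate by an element of O_{p'}(C_G(E)). -/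
theorem result {G : Type*} [Group G] [Finite G] (p : ℕ) [Fact p.Prime]
    (hloc : ∀ T : Subgroup G, IsPGroup p T → T ≠ ⊥ → Cfsg.IsPConstrained p ↥(Subgroup.normalizer (T : Set G)))
    (h2 : p = 2 → ∀ S : Sylow p G, Group.IsNilpotent (S : Subgroup G) ∧ Group.nilpotencyClass (S : Subgroup G) ≤ 2)
    (E : Subgroup G) (hEp : IsPGroup p E) (hEc : IsMulCommutative E) (hE3 : ¬ Cfsg.PRankLE p 2 E)
    (hEfull : ∀ x ∈ Subgroup.centralizer (E : Set G), IsPGroup p (Subgroup.zpowers x) → x ∈ E)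
    (q : ℕ) [Fact q.Prime] (hqp : q ≠ p) :
    ∀ Q₁ ∈ Cfsg.maxInvSubgroups ⊤ E {q}, ∀ Q₂ ∈ Cfsg.maxInvSubgroups ⊤ E {q},
        ∃ k ∈ Cfsg.piCoreOf (Cfsg.primesNotDvd p) (Subgroup.centralizer (E : Set G)), Q₂ = Q₁.map (MulAut.conj k).toMonoidHom := by
  have hp : p.Prime := Fact.out
  have hq : q.Prime := Fact.out
  have hEC : E ≤ centralizer (E : Set G) := le_centralizer E
  have hfull : ∀ x ∈ centralizer (E : Set G), (∃ k, x ^ p ^ k = 1) → x ∈ E :=
    fun x hx ⟨_, hk⟩ => hEfull x hx (PLocal.isPGroup_zpowers_of_pow_eq_one hk)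
  obtain ⟨A, hAE, hA, hA3⟩ : ∃ A : Subgroup G, A ≤ E ∧ IsElementaryAbelian p A ∧
      p ^ 3 ≤ Nat.card A := by
    rw [FT.R2.pRankLE_iff] at hE3
    push Not at hE3
    obtain ⟨A, h1, h2, h3⟩ := hE3
    exact ⟨A, h1, h2, FT.R2.pow_succ_le_card (hEp.to_le h1) h3⟩
  -- the signalizer property
  have hsig : ∀ a ∈ E, a ≠ 1 → ∀ K : Subgroup G, K ≤ normalizer (zpowers a : Set G) →
      (Nat.card K).Coprime p → E ≤ normalizer (K : Set G) →
      K ≤ (pPrimeCore p (normalizer (zpowers a : Set G))).map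
        (normalizer (zpowers a : Set G)).subtype := by
    intro a ha ha1 K hKX hK hEK
    have hX := hloc (zpowers a) (hEp.to_le (zpowers_le.mpr ha)) (by simpa using ha1)
    have hEX : E ≤ normalizer (zpowers a : Set G) :=
      (hEC.trans (centralizer_le (zpowers_le.mpr ha))).trans (centralizer_le_normalizer _)
    by_cases hp2 : p = 2
    · obtain ⟨S, hS⟩ := (hEp.comap_subtype (K := normalizer (zpowers a : Set G))).exists_le_sylow
      refine PLocal.TB.le_map_pPrimeCore_of_sylow hX hEX hKX hEp hK hEK S ?_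
        fun x _ hx hxp => hEK (hfull x hx hxp)
      obtain ⟨T, hT⟩ := (S.isPGroup'.map (normalizer (zpowers a : Set G)).subtype).exists_le_sylow
      have hET : E ≤ T := (PLocal.TB.le_map_of_subgroupOf_le hEX hS).trans hT
      obtain ⟨hn, hcl⟩ := h2 hp2 T
      rw [← Subgroup.upperCentralSeries_eq_top_iff_nilpotencyClass_le] at hcl
      refine hT.trans (le_normalizer_iff.mpr fun s hs e he => ?_)
      have h1 : (⟨s, hs⟩ : T) ∈ Subgroup.upperCentralSeries T (1 + 1) := by rw [hcl]; trivial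
      have h3 := Subgroup.mem_upperCentralSeries_succ_iff.mp h1 ⟨e, hET he⟩
      rw [Subgroup.upperCentralSeries_one] at h3
      have h4 : s * e * s⁻¹ * e⁻¹ ∈ E := by
        refine hfull _ (fun g hg => congrArg Subtype.val (mem_center_iff.mp h3 ⟨g, hET hg⟩)) ?_
        obtain ⟨k, hk⟩ := T.isPGroup' ⟨s * e * s⁻¹ * e⁻¹,
          mul_mem (mul_mem (mul_mem hs (hET he)) (inv_mem hs)) (inv_mem (hET he))⟩
        exact ⟨k, congrArg Subtype.val hk⟩
      simpa using E.mul_mem h4 he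
    · exact PLocal.TB.le_map_pPrimeCore_of_odd hp2 hX hEX hKX hEp hK hEK
        fun x _ hx hxp => hEK (hfull x hx ⟨1, by rwa [pow_one]⟩)
  -- `p'`-subgroups of `C(E)` lie in `O_{p'}(C(E))`
  set K := piCoreOf (primesNotDvd p) (centralizer (E : Set G)) with hK
  have hcent : ∀ Y : Subgroup G, Y ≤ centralizer (E : Set G) → (Nat.card Y).Coprime p → Y ≤ K := by
    intro Y hY hYp
    set C := centralizer (E : Set G) with hC
    have hcen : E.subgroupOf C ≤ center C := fun e he => mem_center_iff.mpr fun c =>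
      Subtype.ext (c.2 e he).symm
    have : (E.subgroupOf C).Normal := ⟨fun e he c => by
      rw [mem_center_iff.mp (hcen he) c, mul_inv_cancel_right]; exact he⟩
    obtain ⟨S, hS⟩ := (hEp.comap_subtype (K := C)).exists_le_sylow
    have hSE : (S : Subgroup C) = E.subgroupOf C := le_antisymm (fun s hs => by
      obtain ⟨k, hk⟩ := S.isPGroup' ⟨s, hs⟩
      exact hfull s s.2 ⟨k, congrArg Subtype.val (congrArg Subtype.val hk)⟩) hS
    obtain ⟨L, hL⟩ := exists_right_complement'_of_coprime (N := E.subgroupOf C)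
      (hSE ▸ S.card_coprime_index)
    have hLn : L.Normal := by
      rw [← normalizer_eq_top_iff, eq_top_iff, ← hL.sup_eq_top]
      exact sup_le (hcen.trans (center_le_normalizer _)) le_normalizer
    have h1 : Y.subgroupOf C ≤ L := by
      refine Grp.le_normal_of_coprime_card_index ?_
      rw [Grp.card_subgroupOf_of_le hY, hL.index_eq_card]
      exact Solv.coprime_card_of_isPGroup (hEp.comap_subtype (K := C)) hYp
    refine PLocal.TB.le_map_of_subgroupOf_le hY (h1.trans (le_sSup ⟨hLn, fun r hr hd => ⟨hr, ?_⟩⟩))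
    rw [Nat.prime_dvd_prime_iff_eq hr hp]
    rintro rfl
    rw [← hL.symm.index_eq_card, ← hSE] at hd
    exact S.not_dvd_index hd
  intro Q₁ h₁ Q₂ h₂
  induction' hn : Nat.card G - Nat.card ↥(Q₁ ⊓ Q₂) using Nat.strong_induction_on with n ih
    generalizing Q₁ Q₂
  by_cases heq : Q₁ = Q₂
  · exact ⟨1, one_mem _, by rw [heq]; exact (conj_one _).symm⟩
  have hp₁ : IsPGroup q Q₁ := (isPGroup_iff_primes hq).mpr h₁.1.2.1
  have hp₂ : IsPGroup q Q₂ := (isPGroup_iff_primes hq).mpr h₂.1.2.1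
  set D := Q₁ ⊓ Q₂ with hD
  have hlt₁ : D < Q₁ := lt_of_le_of_ne inf_le_left fun h =>
    heq (h₁.2 Q₂ h₂.1 (inf_eq_left.mp h)).symm
  have hlt₂ : D < Q₂ := lt_of_le_of_ne inf_le_right fun h =>
    heq (h₂.2 Q₁ h₁.1 (inf_eq_right.mp h))
  have hED : E ≤ normalizer (D : Set G) := Solv.le_normalizer_inf h₁.1.2.2 h₂.1.2.2
  have hEND : E ≤ normalizer (normalizer (D : Set G) : Set G) := hED.trans le_normalizer
  have hA1 : A ≠ ⊥ := PLocal.Sig.ne_bot_of_pow_le hA3
  have hyp : ∀ Q ∈ maxInvSubgroups ⊤ E {q}, D < Q → ∃ B, PLocal.Sig.Hyp p B A ∧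
      ¬ (Q ⊓ normalizer (D : Set G)) ⊓ centralizer (B : Set G) ≤ D := by
    intro Q hQ hlt
    have hQp : IsPGroup q Q := (isPGroup_iff_primes hq).mpr hQ.1.2.1
    exact PLocal.Sig.exists_hyp_not_le hA hA1
      (hAE.trans (Solv.le_normalizer_inf hQ.1.2.2 hEND))
      (PLocal.Sig.not_dvd_of_isPGroup hqp hQp.to_inf_left)
      (Solv.lt_inf_normalizer_of_isNilpotent hQp.isNilpotent hlt).not_ge
  obtain ⟨B₁, hB₁, hn₁⟩ := hyp Q₁ h₁ hlt₁
  obtain ⟨B₂, hB₂, hn₂⟩ := hyp Q₂ h₂ hlt₂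
  obtain ⟨a, ha₁, ha₂, ha1⟩ := hB₁.exists_mem_inf hB₂ hA3
  have haE : a ∈ E := hAE (hB₁.1 ha₁)
  set X := normalizer (zpowers a : Set G) with hX
  have hEX : E ≤ X :=
    (hEC.trans (centralizer_le (zpowers_le.mpr haE))).trans (centralizer_le_normalizer _)
  set L := (pPrimeCore p X).map X.subtype with hL
  have hEL : E ≤ normalizer (L : Set G) :=
    hEX.trans (le_normalizer.trans (Grp.normalizer_le_normalizer_map_of_characteristic X _))
  set Y := D ⊔ (L ⊓ normalizer (D : Set G)) with hY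
  have hEY : E ≤ normalizer (Y : Set G) :=
    Solv.le_normalizer_sup hED (Solv.le_normalizer_inf hEL hEND)
  have hYp : (Nat.card Y).Coprime p := by
    refine ((Nat.Prime.coprime_iff_not_dvd hp).mpr (PLocal.Sig.not_dvd_sup' inf_le_right
      (PLocal.Sig.not_dvd_of_isPGroup hqp hp₁.to_inf_left) ?_)).symm
    exact PLocal.Sig.not_dvd_of_le inf_le_left
      ((Nat.Prime.coprime_iff_not_dvd hp).mp (Grp.map_pPrimeCore_coprime p _).symm)
  have hcop : (Nat.card E).Coprime (Nat.card Y) := (Solv.coprime_card_of_isPGroup hEp hYp).symm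
  have key : ∀ Q ∈ maxInvSubgroups ⊤ E {q}, D < Q → ∀ B : Subgroup G, a ∈ B →
      ¬ (Q ⊓ normalizer (D : Set G)) ⊓ centralizer (B : Set G) ≤ D →
      ∃ R ∈ maxInvSubgroups Y E {q}, D < Q ⊓ R := by
    intro Q hQ hlt B haB hB
    have hQp : IsPGroup q Q := (isPGroup_iff_primes hq).mpr hQ.1.2.1
    set U := (Q ⊓ normalizer (D : Set G)) ⊓ X with hU
    have hEU : E ≤ normalizer (U : Set G) :=
      Solv.le_normalizer_inf (Solv.le_normalizer_inf hQ.1.2.2 hEND) (hEX.trans le_normalizer)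
    have hUL : U ≤ L := hsig a haE ha1 U inf_le_right
      (Grp.coprime_card_of_isPGroup_of_ne hqp hQp.to_inf_left.to_inf_left) hEU
    have hle : D ⊔ U ≤ Q := sup_le hlt.le (inf_le_left.trans inf_le_left)
    obtain ⟨R, hR, hUR⟩ := exists_maxInv_ge (H := Y) (A := E) (Y := D ⊔ U) (π := {q})
      ⟨sup_le_sup_left (le_inf hUL (inf_le_left.trans inf_le_right)) _,
        (isPGroup_iff_primes hq).mp (hQp.to_le hle), Solv.le_normalizer_sup hED hEU⟩
    refine ⟨R, hR, lt_of_lt_of_le (left_lt_sup.mpr fun h => hB (le_trans ?_ h)) (le_inf hle hUR)⟩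
    exact inf_le_inf_left _
      ((centralizer_le (zpowers_le.mpr haB)).trans (centralizer_le_normalizer _))
  obtain ⟨R₁, hR₁, hl₁⟩ := key Q₁ h₁ hlt₁ B₁ ha₁ hn₁
  obtain ⟨R₂, hR₂, hl₂⟩ := key Q₂ h₂ hlt₂ B₂ ha₂ hn₂
  obtain ⟨h, hh, hR⟩ := maxInv_conj_of_coprime hEY hcop
    (Or.inl (Solv.isSolvable_of_isPGroup hEp)) hR₁ hR₂
  have hhK : h ∈ K := hcent _ inf_le_right (hYp.coprime_dvd_left (card_dvd_of_le inf_le_left)) hh
  obtain ⟨Q₃, h₃, hle₃⟩ := exists_maxInv_ge (H := ⊤) ⟨le_top, hR₂.1.2.1, hR₂.1.2.2⟩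
  have h₁' := conj_mem_maxInv_top h₁ (centralizer_le_normalizer _ hh.2)
  have e1 : (Q₁ ⊓ R₁).map (MulAut.conj h).toMonoidHom ≤ Q₁.map (MulAut.conj h).toMonoidHom ⊓ Q₃ :=
    le_inf (map_mono inf_le_left) ((map_mono inf_le_right).trans (hR.ge.trans hle₃))
  have e2 : Q₂ ⊓ R₂ ≤ Q₃ ⊓ Q₂ := le_inf (inf_le_right.trans hle₃) inf_le_left
  have c1 : Nat.card D < Nat.card ↥((Q₁ ⊓ R₁).map (MulAut.conj h).toMonoidHom) := by
    rw [Grp.card_map_conj]; exact Grp.card_lt_of_lt hl₁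
  have c2 : Nat.card D < Nat.card ↥(Q₂ ⊓ R₂) := Grp.card_lt_of_lt hl₂
  have hle : ∀ X : Subgroup G, Nat.card X ≤ Nat.card G := fun X => card_le_card_group X
  obtain ⟨k, hk, hk'⟩ := ih _ (by
      have := card_le_of_le e1
      have := hle (Q₁.map (MulAut.conj h).toMonoidHom ⊓ Q₃)
      omega) _ h₁' _ h₃ rfl
  obtain ⟨f, hf, hf'⟩ := ih _ (by
      have := card_le_of_le e2
      have := hle (Q₃ ⊓ Q₂)
      omega) _ h₃ _ h₂ rfl
  refine ⟨f * (k * h), mul_mem hf (mul_mem hk hhK), ?_⟩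
  rw [hf', hk']
  simp only [FT.B7.conj_mul]

end Cfsg.Agent.S1480
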