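import Cfsg.Statements.S3109
import Mathlib
import Cfsg.Agent.Inv.CoreSig2
import Cfsg.Agent.S3110
import Cfsg.Agent.S1221

set_option autoImplicit false
open Cfsg

namespace Cfsg.Agent.S3109

open Cfsg.Agent.Inv Cfsg.Agent.Inv.CoreSig Cfsg.Agent.PLocal.Amb Subgroup

theorem core_eq_bot {G : Type*} [Group G] [Finite G] [IsSimpleGroup G]
    (hc : ∀ t : G, orderOf t = 2 → IsPConstrained 2 (centralizer ({t} : Set G)))
    {S E : Subgroup G} (hS : IsSyl 2 S ⊤) (hES : E ≤ S) (hn : S ≤ 𝐍[E])
    (hE : IsElementaryAbelian 2 E) (h8 : 8 ≤ Nat.card E) :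
    ∀ t : G, orderOf t = 2 → Cfsg.centralizerPPrimeCore 2 t = ⊥ := by
  have hθ := eqFun_core_of_constrained hc
  have hconn := fourConnected_of_normal_ea hS.pgrp hES hn hE h8
  obtain ⟨V, hVE, hV⟩ := exists_klein_of_ea hE (by omega)
  have hodd := Cfsg.Agent.S3110.odd_closure hθ hE h8
  set W := signalizerClosure E (centralizerPPrimeCore 2 : G → Subgroup G) with hW
  have hWV : W = signalizerClosure V (centralizerPPrimeCore 2) := hθ.closure_eq_of_le_ea hE hV hVE
  have hGev : ∀ H : Subgroup G, V ≤ H → 2 ∣ Nat.card H := fun H hH =>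
    (show 2 ∣ Nat.card V by rw [hV.card_four]; norm_num).trans (card_dvd_of_le hH)
  have hcop : (Nat.card W).Coprime 2 :=
    ((Nat.Prime.coprime_iff_not_dvd Nat.prime_two).2 hodd).symm
  have hO : oddCore G = ⊥ := by
    rcases (inferInstance : (oddCore G).Normal).eq_bot_or_eq_top with h | h
    · exact h
    · exact absurd (hGev (oddCore G) (by rw [h]; exact le_top)) (Grp.not_dvd_card_pPrimeCore 2 G)
  have hW0 : W = ⊥ := by
    by_cases htop : 𝐍[W] = ⊤
    · have := Grp.le_pPrimeCore (normalizer_eq_top_iff.1 htop) hcop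
      exact le_bot_iff.1 (hO ▸ this)
    · have hVM : V ≤ 𝐍[W] := by
        rw [hWV]; exact le_normalizer.trans (normalizer_le_normalizer_closure hθ.conj V)
      have hse : IsStronglyEmbedded 𝐍[W] :=
        isStronglyEmbedded_of_normalizers htop (even_iff_two_dvd.2 (hGev _ hVM))
          fun X hX hXp hX1 => normalizer_le_normalizer_W hc hS hES hn hE h8 hX hXp hX1
      have h1 := Cfsg.Agent.S1221.result _ hse
      rw [hO] at h1
      have h2 : W.subgroupOf 𝐍[W] ≤ oddCore 𝐍[W] :=
        Grp.le_pPrimeCore (normal_subgroupOf' le_rfl)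
          (by rwa [Nat.card_congr (subgroupOfEquivOfLe le_normalizer).toEquiv])
      have h3 := map_mono (f := (𝐍[W]).subtype) h2
      rw [map_subgroupOf_of_le le_normalizer] at h3
      exact le_bot_iff.1 (h3.trans h1)
  intro t ht
  obtain ⟨g, -, hg⟩ := hS.exists_cj_le (isPGroup_zpowers_of_orderOf_two ht) le_top
  have h1 := hθ.le_closure_of_connected hS.pgrp hconn hV (hVE.trans hES)
    (hg (conj_mem_cj g (mem_zpowers t))) (by rw [orderOf_conj, ht])
  rw [← hWV, hW0, le_bot_iff, hθ.conj, cj_eq_bot] at h1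
  exact h1

/-- Let G be a non-abelian finite simple group in which every 2-local subgroup is 2-constrained, and suppose some Sylow 2-subgroup S of G has a self-centralizing abelian normal subgroup A (C_S(A) = A) of 2-rank at least 3. Then the centralizer of every involution of G has no nontrivial normal subgroup of odd order. -/
theorem result {G : Type*} [Group G] [Finite G] [IsSimpleGroup G] (hG : ¬ IsMulCommutative G)
    (h2c : ∀ T : Subgroup G, IsPGroup 2 T → T ≠ ⊥ → Cfsg.IsPConstrained 2 ↥(Subgroup.normalizer (T : Set G)))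
    (S : Sylow 2 G) (A : Subgroup ↥(S : Subgroup G)) (hAn : A.Normal) (hAab : IsMulCommutative ↥A)
    (hAC : Subgroup.centralizer (A : Set ↥(S : Subgroup G)) = A) (hA3 : ¬ Cfsg.PRankLE 2 2 ↥A) :
    ∀ t : G, orderOf t = 2 → Cfsg.centralizerPPrimeCore 2 t = ⊥ := by
  obtain ⟨E, hES, hn, hE, h8⟩ := exists_normal_ea_amb A hAn hAab hA3
  exact core_eq_bot (fun t ht => constrained_centralizer h2c ht) (isSyl_top S) hES hn hE h8

end Cfsg.Agent.S3109
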