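import Cfsg.Statements.S2378
import Cfsg.Agent.Lang.HomoDataA
import Cfsg.Agent.Lang.HomoDataB
import Cfsg.Agent.Lang.HomoDataC
import Cfsg.Agent.S1059
import Cfsg.Agent.S1060
import Cfsg.Agent.S1061
import Cfsg.Agent.S1062
import Cfsg.Agent.S1063
import Cfsg.Agent.S1064
import Cfsg.Agent.S1065

set_option autoImplicit false
open Cfsg Cfsg.Lie Cfsg.Agent.Chev Cfsg.Agent.Lang

namespace Cfsg.Agent.S2378

/-- Sylow subgroups for primes away from the characteristic and the Weyl group. Let `G` be the Chevalley group of type G₂, B₂, D₄, F₄, E₆, E₇ or E₈ over a field with `q` elements, with the degrees of its Weyl group listed beside the type (their product is the order of the Weyl group), and let `r` be a prime dividing the order of `G`, not dividing `q` and not dividing the order of the Weyl group. Let `d` be the multiplicative order of `q` modulo `r`, `a` the number of degrees divisible by `d`, and `m` the `r`-part of the value at `q` of the `d`-th cyclotomic polynomial. Then every Sylow `r`-subgroup of `G` is homocyclic: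 a direct product of `a` cyclic groups of order `m` (in particular abelian). -/
theorem result {F : Type*} [Field F] [Fintype F] {q : ℕ} (hq : Fintype.card F = q)
    (c : Cfsg.Lie.ChevalleyDatum × List ℕ)
    (hc : c ∈ [(Cfsg.Lie.chevG2, [2, 6]), (Cfsg.Lie.chevB2, [2, 4]), (Cfsg.Lie.chevD4, [2, 4, 4, 6]), (Cfsg.Lie.chevF4, [2, 6, 8, 12]),
      (Cfsg.Lie.chevE6, [2, 5, 6, 8, 9, 12]), (Cfsg.Lie.chevE7, [2, 6, 8, 10, 12, 14, 18]), (Cfsg.Lie.chevE8, [2, 8, 12, 14, 18, 20, 24, 30])])
    (r : ℕ) [Fact r.Prime] (hrq : ¬ r ∣ q) (hrW : ¬ r ∣ c.2.prod) (hrG : r ∣ Nat.card ↥(c.1.group F)) (P : Sylow r ↥(c.1.group F)) :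
    Nonempty (↥(P : Subgroup ↥(c.1.group F)) ≃*
      (Fin (c.2.filter (fun e => orderOf (q : ZMod r) ∣ e)).length →
        Multiplicative (ZMod (r ^ padicValNat r ((Polynomial.cyclotomic (orderOf (q : ZMod r)) ℤ).eval (q : ℤ)).natAbs)))) := by
  simp only [List.mem_cons, List.not_mem_nil, or_false] at hc
  rcases hc with rfl | rfl | rfl | rfl | rfl | rfl | rfl
  · exact sylow_homocyclic (by simp) hq _ (N := 6)
      (card_ker_tor hq (p := (chevG2, 1)) (by simp))
      (by rw [one_mul, S1059.result hq]; simp [mul_assoc]) (one_dvd _) (by decide) hcG2 hcG2_ok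
      (by decide +kernel) r hrq hrW P
  · exact sylow_homocyclic (by simp) hq _ (N := 4)
      (card_ker_tor hq (p := (chevB2, Nat.gcd 2 (q - 1))) (by simp))
      (by rw [S1060.result hq]; simp [mul_assoc]) ((Nat.gcd_dvd_left _ _).trans (by decide)) (by decide) hcB2 hcB2_ok
      (by decide +kernel) r hrq hrW P
  · exact sylow_homocyclic (by simp) hq _ (N := 12)
      (card_ker_tor hq (p := (chevD4, Nat.gcd 2 (q - 1) ^ 2)) (by simp))
      (by rw [S1061.result hq]; simp [mul_assoc]) ((pow_dvd_pow_of_dvd (Nat.gcd_dvd_left _ _) 2).trans (by decide)) (by decide) hcD4 hcD4_ok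
      (by decide +kernel) r hrq hrW P
  · exact sylow_homocyclic (by simp) hq _ (N := 24)
      (card_ker_tor hq (p := (chevF4, 1)) (by simp))
      (by rw [one_mul, S1062.result hq]; simp [mul_assoc]) (one_dvd _) (by decide) hcF4 hcF4_ok
      (by decide +kernel) r hrq hrW P
  · exact sylow_homocyclic (by simp) hq _ (N := 36)
      (card_ker_tor hq (p := (chevE6, Nat.gcd 3 (q - 1))) (by simp))
      (by rw [S1063.result hq]; simp [mul_assoc]) ((Nat.gcd_dvd_left _ _).trans (by decide)) (by decide) hcE6 hcE6_ok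
      (by decide +kernel) r hrq hrW P
  · exact sylow_homocyclic (by simp) hq _ (N := 63)
      (card_ker_tor hq (p := (chevE7, Nat.gcd 2 (q - 1))) (by simp))
      (by rw [S1064.result hq]; simp [mul_assoc]) ((Nat.gcd_dvd_left _ _).trans (by decide)) (by decide) hcE7 hcE7_ok
      (by decide +kernel) r hrq hrW P
  · exact sylow_homocyclic (by simp) hq _ (N := 120)
      (card_ker_tor hq (p := (chevE8, 1)) (by simp))
      (by rw [one_mul, S1065.result hq]; simp [mul_assoc]) (one_dvd _) (by decide) hcE8 hcE8_ok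
      (by decide +kernel) r hrq hrW P

end Cfsg.Agent.S2378
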