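import Cfsg.Statements.S3332
import Mathlib
import Cfsg.Agent.Core2.SigCon

set_option autoImplicit false
open Cfsg

namespace Cfsg.Agent.S3332

open Subgroup Cfsg.Agent.PLocal.Amb Cfsg.Agent.Inv.CoreSig


/-- Let G be a finite group of 2-rank at least 4 with O_{2'}(G) = 1 whose Sylow 2-subgroup S has a normal abelian subgroup of rank at least 3 that is its own centralizer in S. If the centralizer of every involution of G is solvable, then O_{2'}(C_G(t)) = 1 for every involution t of G. -/
theorem result {G : Type*} [Group G] [Finite G]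
    (hrank : ¬ Cfsg.PRankLE 2 3 G) (hO : Cfsg.oddCore G = ⊥) (S : Sylow 2 G)
    (A : Subgroup G) (hAS : A ≤ S) (hAn : (A.subgroupOf S).Normal) (hAc : IsMulCommutative A)
    (hAself : (S : Subgroup G) ⊓ Subgroup.centralizer (A : Set G) = A) (hA3 : ¬ Cfsg.PRankLE 2 2 A)
    (hsol : ∀ t : G, orderOf t = 2 → Group.IsSolvable (Subgroup.centralizer ({t} : Set G))) :
    ∀ t : G, orderOf t = 2 → Cfsg.oddCore (Subgroup.centralizer ({t} : Set G)) = ⊥ := by
  intro t ht
  have hcon : ∀ t : G, orderOf t = 2 → IsPConstrained 2 (centralizer ({t} : Set G)) :=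
    fun t ht => PLocal.PCA.isPConstrained_of_isSolvable (hsol t ht)
  obtain ⟨E, hES, hn, hE, h8⟩ := exists_normal_ea_amb (A.subgroupOf S) hAn inferInstance
    (by rwa [FT.R2.pRankLE_subgroupOf_iff hAS])
  have h0 := Core2.core_eq_bot_of_constrained hO hcon (isSyl_top S)
    (fourConnected_of_normal_ea S.isPGroup' hES hn hE h8)
    (fun h => hrank (FT.R2.pRankLE_mono two_pos (by norm_num) h)) ht
  rwa [centralizerPPrimeCore, map_eq_bot_iff_of_injective _ (subtype_injective _)] at h0

end Cfsg.Agent.S3332
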