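import Cfsg.Statements.S2475
import Cfsg.Agent.KSG.PSL2

set_option autoImplicit false
open Cfsg

namespace Cfsg.Agent.S2475

open KSG KSG.M2 Matrix


/-- The set of element orders of PSL(2,q): let F be a finite field of characteristic p with q ≥ 4 elements and d = gcd(2, q − 1). The orders of elements of PSL(2,F) are exactly the divisors of p, of (q − 1)/d and of (q + 1)/d. -/
theorem result {F : Type*} [Field F] [Fintype F] (p : ℕ) [Fact p.Prime] [CharP F p] (h4 : 4 ≤ Fintype.card F) :
    Set.range (orderOf : Matrix.ProjectiveSpecialLinearGroup (Fin 2) F → ℕ) =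
      {m : ℕ | m ∣ p ∨ m ∣ (Fintype.card F - 1) / Nat.gcd 2 (Fintype.card F - 1) ∨ m ∣ (Fintype.card F + 1) / Nat.gcd 2 (Fintype.card F - 1)} := by
  rw [← Nat.card_eq_fintype_card] at h4 ⊢
  have hpp : p.Prime := Fact.out
  ext m
  simp only [Set.mem_range, Set.mem_ofPred_eq]
  constructor
  · rintro ⟨g, rfl⟩
    obtain ⟨g, rfl⟩ := pr_surjective g
    rcases orderOf_pr_cases p g with ⟨-, H⟩ | ⟨-, -, H⟩ | ⟨-, H⟩
    · exact Or.inl H
    · exact Or.inr (Or.inl H)
    · exact Or.inr (Or.inr H)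
  · rintro (H | H | H)
    · rcases (Nat.dvd_prime hpp).1 H with rfl | rfl
      · exact ⟨1, orderOf_one⟩
      · refine ⟨pr (upar (1 : F) (by simp) 1), orderOf_eq_prime (pr_pow_char_eq_one m ?_) ?_⟩
        · rw [trace_upar]; norm_num
        · rw [Ne, pr_eq_one_iff]; exact upar_not_isScal _ _ one_ne_zero
    · obtain ⟨a, ha⟩ := exists_units_sq_ne_one h4
      obtain ⟨x, -, hx⟩ := exists_mem_cent_orderOf_pr (g := dg a) (m := m)
        (by rw [trace_dg]; exact add_inv_sq_ne_four a.ne_zero ha)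
        (by rwa [SL_card_centralizer_split ha (trace_dg a)])
      exact ⟨_, hx⟩
    · obtain ⟨g, hg⟩ := exists_noEig (F := F)
      obtain ⟨x, -, hx⟩ := exists_mem_cent_orderOf_pr (m := m) hg.trace_sq_ne_four
        (by rwa [SL_card_centralizer_noEig hg])
      exact ⟨_, hx⟩

end Cfsg.Agent.S2475
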