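import Cfsg.Statements.S2553
import Mathlib
import Cfsg.Agent.KSG.QsAlt
import Cfsg.Agent.KSG.PresPrime
import Cfsg.Agent.Small.SymNorm
import Cfsg.Agent.Small.PrimeSylow
import Cfsg.Agent.S0494
import Cfsg.Agent.S0495
import Cfsg.Agent.S0255
import Cfsg.Agent.S2551
import Cfsg.Agent.S2119

set_option autoImplicit false
open Cfsg

namespace Cfsg.Agent.S2553

open Equiv Equiv.Perm Subgroup KSG PLocal.Amb

section
variable {Ω : Type*} [DecidableEq Ω] [Fintype Ω]

omit [DecidableEq Ω] [Fintype Ω] in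
theorem fix_of_commute_cycle [Finite Ω] {K : Subgroup (Perm Ω)} (hK : ⁅K, K⁆ = K) {c : Perm Ω}
    (h3 : IsCycle c) (h : ∀ k ∈ K, k * c = c * k) {x : Ω} (hx : c x ≠ x) : ∀ k ∈ K, k x = x := by
  have h1 : ∀ k ∈ K, ∃ i : ℤ, (c ^ i) x = k x := fun k hk => h3.exists_zpow_eq hx (by
    rw [← Perm.mul_apply, ← h k hk, Perm.mul_apply]
    exact k.injective.ne hx)
  have h2 : ∀ k ∈ K, ∀ l ∈ K, k (l x) = l (k x) := by
    intro k hk l hl
    obtain ⟨i, hi⟩ := h1 k hk
    obtain ⟨j, hj⟩ := h1 l hl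
    have e : ∀ k ∈ K, ∀ i : ℤ, k ((c ^ i) x) = (c ^ i) (k x) := fun k hk i => by
      rw [← Perm.mul_apply, ((show Commute k c from h k hk).zpow_right i).eq, Perm.mul_apply]
    rw [← hj, e k hk, ← hi, e l hl, ← hj, ← Perm.mul_apply, ← Perm.mul_apply, zpow_mul_comm]
  have h4 : ⁅K, K⁆ ≤ MulAction.stabilizer (Perm Ω) x := commutator_le.2 fun k hk l hl => by
    change (k * l * k⁻¹ * l⁻¹) x = x
    simp only [Perm.mul_apply]
    rw [h2 _ (inv_mem hk) _ (inv_mem hl)]
    simp
  exact fun k hk => h4 (hK.ge hk)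

omit [DecidableEq Ω] in
theorem fix_of_commute_coprime {x y : Perm Ω} (hx : IsCycle x) (h : y * x = x * y) {q : ℕ}
    (hy : y ^ q = 1) (hq : (orderOf x).Coprime q) {a : Ω} (ha : x a ≠ a) : y a = a := by
  obtain ⟨i, hi⟩ := hx.exists_pow_eq ha (show x (y a) ≠ y a by
    rw [← Perm.mul_apply, ← h, Perm.mul_apply]
    exact y.injective.ne ha)
  have h1 : ∀ k : ℕ, (y ^ k) a = (x ^ (i * k)) a := by
    intro k
    induction k with
    | zero => simp
    | succ k ih =>
      rw [pow_succ', Perm.mul_apply, ih, ← Perm.mul_apply, ((show Commute y x from h).pow_right _).eq,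
        Perm.mul_apply, ← hi, ← Perm.mul_apply, ← pow_add, mul_add, mul_one]
  have h2 := h1 q
  rw [hy, Perm.one_apply, eq_comm, ← hx.pow_eq_one_iff' ha, ← orderOf_dvd_iff_pow_eq_one] at h2
  rw [← hi, orderOf_dvd_iff_pow_eq_one.1 (hq.dvd_of_dvd_mul_right h2), Perm.one_apply]

theorem alt_or_perm {X : Type*} [Group X] (φ : X →* Perm Ω) (hφ : Function.Injective φ)
    (h : alternatingGroup Ω ≤ φ.range) :
    Nonempty (X ≃* alternatingGroup Ω) ∨ Nonempty (X ≃* Perm Ω) := by
  by_cases e : φ.range ≤ alternatingGroup Ω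
  · exact Or.inl ⟨(MonoidHom.ofInjective hφ).trans (MulEquiv.subgroupCongr (le_antisymm e h))⟩
  · obtain ⟨t, h1, h2⟩ := SetLike.not_le_iff_exists.1 e
    exact Or.inr ⟨(MonoidHom.ofInjective hφ).trans ((MulEquiv.subgroupCongr
      (eq_top_of_alt_le_of_odd h h1 ((Int.units_eq_one_or _).resolve_left h2))).trans topEquiv)⟩

end

theorem card_A8 : Nat.card (alternatingGroup (Fin 8)) = 20160 := by
  rw [nat_card_alternatingGroup]; simp [Nat.factorial]

theorem card_S8 : Nat.card (Perm (Fin 8)) = 40320 := by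
  rw [Nat.card_perm]; simp [Nat.factorial]

theorem five_or_seven {Y : Type*} [Group Y] [Finite Y] (h : Nat.card Y ∣ 20160)
    (hs : ¬ Group.IsSolvable Y) : 5 ∣ Nat.card Y ∨ 7 ∣ Nat.card Y := by
  by_contra! e
  refine hs (Char.isSolvable_of_card_dvd_pow_mul_pow (a := 6) (b := 2) Nat.prime_two
    Nat.prime_three _ ?_)
  exact (by decide +kernel : ∀ d ∈ Nat.divisors 20160, ¬ 5 ∣ d → ¬ 7 ∣ d → d ∣ 2 ^ 6 * 3 ^ 2) _
    (Nat.mem_divisors.2 ⟨h, by norm_num⟩) e.1 e.2

theorem card_norm7 (T : Subgroup (Perm (Fin 8))) (hT : Nat.card T = 7) :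
    Nat.card ↥(alternatingGroup (Fin 8) ⊓ normalizer (T : Set (Perm (Fin 8)))) = 21 := by
  have : Fact (Nat.Prime 7) := ⟨by norm_num⟩
  have h1 := T.card_mul_index
  rw [hT, card_S8] at h1
  let P := (IsPGroup.of_card (hT.trans (pow_one 7).symm)).toSylow (by omega)
  have h2 := Small.two_mul_card_inf_normalizer_alt (by norm_num) P
  obtain ⟨z, hz, h3⟩ := Small.exists_zpowers_eq_sylow P hT
  have h4 := Small.card_normalizer_perm_prime (by simp) hz
  rw [h3] at h4
  rw [h4] at h2
  change 2 * Nat.card ↥(alternatingGroup (Fin 8) ⊓ normalizer (T : Set (Perm (Fin 8)))) = _ at h2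
  simp only [Fintype.card_fin, Nat.factorial] at h2
  omega

theorem gl3 : Nonempty (Matrix.SpecialLinearGroup (Fin 3) (ZMod 2) ≃* GL (Fin 3) (ZMod 2)) := by
  refine ⟨MulEquiv.ofBijective Matrix.SpecialLinearGroup.toGL
    ((Nat.bijective_iff_injective_and_card _).2 ⟨Matrix.SpecialLinearGroup.toGL_injective, ?_⟩)⟩
  rw [S0255.card_SL32, Matrix.card_GL_field]
  simp [Fin.prod_univ_succ]

theorem main {X : Type*} [Group X] [Finite X] [Nontrivial X] (hF : fittingSubgroup X = ⊥)
    (ρ : X →* Perm (Fin 8)) (hρ : Function.Injective ρ) (hA : ρ.range ≤ alternatingGroup _) :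
    (∃ n : ℕ, 5 ≤ n ∧ n ≤ 8 ∧ Nonempty (X ≃* alternatingGroup (Fin n))) ∨
    Nonempty (X ≃* Perm (Fin 5)) ∨ Nonempty (X ≃* Perm (Fin 6)) ∨
      Nonempty (X ≃* GL (Fin 3) (ZMod 2)) := by
  have : Fact (Nat.Prime 3) := ⟨by norm_num⟩
  have : Fact (Nat.Prime 5) := ⟨by norm_num⟩
  have : Fact (Nat.Prime 7) := ⟨by norm_num⟩
  obtain ⟨L, hL, -⟩ := (PLocal.exists_comp_or_fitting_inf_ne_bot (N := (⊤ : Subgroup X))
    (Normal.isSubnormal inferInstance) top_ne_bot).resolve_right (by simp [hF])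
  have eJ := MonoidHom.ofInjective hρ
  have hX : Nat.card X ∣ 20160 := by
    rw [Nat.card_congr eJ.toEquiv, ← card_A8]; exact card_dvd_of_le hA
  have hL57 := five_or_seven ((card_subgroup_dvd_card L).trans hX) (PLocal.qs_not_solvable hL.2)
  have qs : ∀ L : Subgroup X, IsComponent L → IsQuasisimple (L.map ρ) := fun L hL =>
    PLocal.qs_congr hL.2 (equivMapOfInjective L ρ hρ)
  have cyc : ∀ p, p = 5 ∨ p = 7 → ∀ x : X, orderOf x = p →
      IsCycle (ρ x) ∧ orderOf (ρ x) = p ∧ (ρ x).support.card = p := by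
    intro p hp x hx
    rw [← orderOf_injective ρ hρ] at hx
    have := isCycle_of_prime_order' (σ := ρ x) (by rcases hp with rfl | rfl <;> rw [hx] <;> norm_num)
      (by rw [hx]; simp; omega)
    exact ⟨this, hx, this.orderOf ▸ hx⟩
  have uniq : ∀ L' : Subgroup X, IsComponent L' → L' ≤ L := by
    intro L' hL'
    by_contra e
    have h1 := PLocal.comp_commute_of_ne hL' hL fun e' => e e'.le
    obtain ⟨p, hp, x, hx⟩ : ∃ p, (p = 5 ∨ p = 7) ∧ ∃ x : L, orderOf x = p := by
      rcases hL57 with h | h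
      · exact ⟨5, Or.inl rfl, exists_prime_orderOf_dvd_card' 5 h⟩
      · exact ⟨7, Or.inr rfl, exists_prime_orderOf_dvd_card' 7 h⟩
    obtain ⟨h2, -, h3⟩ := cyc p hp x.1 (by rw [orderOf_coe, hx])
    refine PLocal.qsS_not_le_solvable (qs L' hL') (isSolvable_altOn (D := (ρ x).supportᶜ) ?_) ?_
    · rw [Finset.card_compl, h3]; simp; omega
    · intro k hk
      refine mem_altOn.2 ⟨hA (map_le_range _ _ hk), fun a ha => fix_of_commute_cycle
        (PLocal.qsS_commutator (qs L' hL')) h2 ?_ (by simpa using ha) k hk⟩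
      rintro _ ⟨y, hy, rfl⟩
      rw [← map_mul, ← map_mul, PLocal.commute_of_commutator_eq_bot h1 hy x.2]
  have hfs : generalizedFittingSubgroup X = L := by
    rw [PLocal.fstar_def, hF, sup_bot_eq]
    exact le_antisymm (PLocal.layer_le_iff.2 uniq) (PLocal.comp_le_layer hL)
  have hLn : L.Normal := hfs ▸ PLocal.fstar_normal X
  have hC : centralizer (L : Set X) = ⊥ := by
    rw [eq_bot_iff, ← hF, ← hfs]; exact PLocal.centralizer_fstar_le_fitting X
  have hC' : ρ.range ⊓ centralizer (L.map ρ : Set (Perm (Fin 8))) = ⊥ := by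
    rw [eq_bot_iff]
    rintro _ ⟨⟨g, rfl⟩, h⟩
    have : g ∈ centralizer (L : Set X) := fun l hl => hρ (by
      rw [map_mul, map_mul]; exact h _ (mem_map_of_mem ρ hl))
    rw [hC, mem_bot] at this
    rw [this, map_one]; exact one_mem _
  have hN : ρ.range ≤ normalizer (L.map ρ : Set (Perm (Fin 8))) := by
    rw [MonoidHom.range_eq_map, ← normalizer_eq_top L]; exact le_normalizer_map ρ
  by_cases h3 : ∃ t ∈ ρ.range, IsThreeCycle t
  · obtain ⟨t, ht, h3⟩ := h3
    obtain ⟨D, h5, h6, h7⟩ := exists_eq_altOn_of_threeCycle (qs L hL) (map_le_range _ _) hN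
      (hC'.le.trans bot_le) ht h3
    have h8 := Finset.card_add_card_compl D
    rw [Fintype.card_fin] at h8
    by_cases h9 : 7 ≤ D.card
    · obtain ⟨e⟩ := nonempty_altOn_equiv D
      refine Or.inl ⟨D.card, h5, by omega, ⟨eJ.trans ((MulEquiv.subgroupCongr ?_).trans e)⟩⟩
      refine le_antisymm (fun g hg => mem_altOn.2 ⟨hA hg, fun x hx => ?_⟩) (h6 ▸ map_le_range _ _)
      exact Finset.card_le_one.1 (by omega : Dᶜ.card ≤ 1) _
        (Finset.mem_compl.2 fun h => hx ((h7 hg x).1 h)) _ (Finset.mem_compl.2 hx)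
    let φ : X →* Perm D :=
      { toFun := fun g => (ρ g).subtypePerm (h7 ⟨g, rfl⟩)
        map_one' := by ext; simp
        map_mul' := fun _ _ => Equiv.ext fun x => Subtype.ext (congrArg (· x.1) (map_mul ρ _ _)) }
    have hφ : Function.Injective φ := by
      rw [injective_iff_map_eq_one]
      intro g hg
      have : ρ g ∈ ρ.range ⊓ centralizer (L.map ρ : Set (Perm (Fin 8))) :=
        ⟨⟨g, rfl⟩, fun k hk => commute_of_mem_altOn (h6 ▸ hk) fun x hx =>
          congrArg (fun s : Perm D => (s ⟨x, hx⟩).1) hg⟩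
      rw [hC', mem_bot] at this
      exact hρ (this.trans (map_one ρ).symm)
    have h10 : alternatingGroup D ≤ φ.range := by
      intro s hs
      obtain ⟨g, -, hg⟩ := h6.ge (mem_map_of_mem _ hs)
      refine ⟨g, Equiv.ext fun x => Subtype.ext ?_⟩
      change ρ g x = _
      rw [hg, ofSubtype_apply_coe]
    rcases alt_or_perm φ hφ h10 with ⟨⟨e⟩⟩ | ⟨⟨e⟩⟩
    · exact Or.inl ⟨D.card, h5, by omega, ⟨e.trans (Equiv.altCongrHom D.equivFin)⟩⟩
    · rcases (by omega : D.card = 5 ∨ D.card = 6) with h | h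
      · exact Or.inr (Or.inl ⟨e.trans (D.equivFinOfCardEq h).permCongrHom⟩)
      · exact Or.inr (Or.inr (Or.inl ⟨e.trans (D.equivFinOfCardEq h).permCongrHom⟩))
  have syl : ∀ p, [Fact p.Prime] → ∀ G : Subgroup (Perm (Fin 8)), ρ.range ≤ G →
      p ^ (Nat.card G).factorization p ∣ Nat.card X → ∃ T ≤ ρ.range, IsSyl p T G := by
    intro p _ G h1 h2
    obtain ⟨T, hT⟩ := exists_isSyl p ρ.range
    obtain ⟨T', hT'⟩ := exists_isSyl p G
    refine ⟨T, hT.le, hT'.of_card_ge hT.pgrp (hT.le.trans h1) ?_⟩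
    rw [hT.card_eq_pow, hT'.card_eq_pow, ← Nat.card_congr eJ.toEquiv]
    exact Nat.pow_le_pow_right (Fact.out : p.Prime).pos
      (((Fact.out : p.Prime).pow_dvd_iff_le_factorization Nat.card_pos.ne').1 h2)
  have h9 : ¬ 9 ∣ Nat.card X := by
    intro h
    obtain ⟨T, h1, h2⟩ := syl 3 ⊤ le_top (by
      rwa [card_top, card_S8, show (40320 : ℕ).factorization 3 = 2 by decide +kernel])
    have h5 : IsThreeCycle (c3 (0 : Fin 8) 1 2) :=
      isThreeCycle_c3 (by simp) (by simp) (by simp)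
    obtain ⟨g, -, hg⟩ := isSyl_exists_conj_mem h2 (mem_top _)
      (show c3 (0 : Fin 8) 1 2 ^ 3 = 1 by rw [← h5.orderOf, pow_orderOf_eq_one])
    exact h3 ⟨_, h1 hg, by rwa [IsThreeCycle, cycleType_conj]⟩
  have h64 : ¬ 64 ∣ Nat.card X := by
    intro h
    obtain ⟨T, h1, h2⟩ := syl 2 _ hA (by
      rwa [card_A8, show (20160 : ℕ).factorization 2 = 6 by decide +kernel])
    exact h3 (exists_threeCycle_of_sylow_two (by simp) (qs L hL) (map_le_range _ _) hN h2 h1)
  have hL3360 : Nat.card L ∣ 3360 := (card_subgroup_dvd_card L).trans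
    ((by decide +kernel : ∀ d ∈ Nat.divisors 20160, ¬ 9 ∣ d → ¬ 64 ∣ d → d ∣ 3360) _
      (Nat.mem_divisors.2 ⟨hX, by norm_num⟩) h9 h64)
  have := PLocal.qs_nontrivial hL.2
  have hsimple : IsSimpleGroup L := ⟨fun N hN => (PLocal.qs_normal hL.2 N hN).symm.imp_left
    fun h => by
      rw [eq_bot_iff, ← map_subtype_le_map_subtype, Subgroup.map_bot, ← hC]
      exact (map_mono h).trans ((PLocal.map_center_subtype L).le.trans inf_le_right)⟩
  have hna := PLocal.qs_not_comm hL.2
  let f : L →* Perm (Fin 8) := ρ.comp L.subtype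
  have hf : Function.Injective f := hρ.comp L.subtype_injective
  have hfr : (⊤ : Subgroup L).map f = L.map ρ := by
    rw [← Subgroup.map_map, ← MonoidHom.range_eq_map, range_subtype]
  by_cases h7 : 7 ∣ Nat.card L
  · obtain ⟨m, hm⟩ := h7
    obtain ⟨P⟩ : Nonempty (Sylow 7 L) := inferInstance
    have hm' : m ∣ 480 := Nat.dvd_of_mul_dvd_mul_left (by norm_num : 0 < 7) (hm ▸ hL3360)
    obtain ⟨n, e, c, h1, h2, h4, h5, -, -, h6, h8, -⟩ := Small.prime_sylow_data hna hm
      (fun h => absurd (h.trans hm') (by norm_num)) P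
    have h10 := card_norm7 ((P : Subgroup L).map f) (by rw [card_map_of_injective hf, h6])
    have h11 : (normalizer ((P : Subgroup L) : Set L)).map f ≤ alternatingGroup (Fin 8) ⊓
        normalizer ((P : Subgroup L).map f : Set (Perm (Fin 8))) :=
      le_inf ((map_mono le_top).trans (hfr.le.trans ((map_le_range _ _).trans hA)))
        (le_normalizer_map f)
    have h12 := card_dvd_of_le h11
    rw [h10, card_map_of_injective hf, h8, mul_assoc] at h12
    have h13 : e * c = 3 := ((Nat.dvd_prime Nat.prime_three).1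
      (Nat.dvd_of_mul_dvd_mul_left (by norm_num : 0 < 7) h12)).resolve_left fun h => by
        have := Nat.eq_one_of_mul_eq_one_right h; omega
    rw [mul_assoc, h13] at h1 h8
    have h14 : n = 8 := (by decide +kernel : ∀ d ∈ Nat.divisors 160, d % 7 = 1 → 1 < d → d = 8) _
      (Nat.mem_divisors.2 ⟨Nat.dvd_of_mul_dvd_mul_right (by norm_num : 0 < 3) (h1 ▸ hm'),
        by norm_num⟩) h2 h4
    have h15 := eq_of_le_of_card_ge h11 (by rw [h10, card_map_of_injective hf, h8]; rfl)
    have h16 : L = ⊤ := by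
      rw [eq_top_iff, ← map_le_map_iff_of_injective hρ, ← MonoidHom.range_eq_map]
      intro g hg
      obtain ⟨k, hk, x, hx, rfl⟩ := (hfr ▸ (isSyl_top P).map f).frattini (hN hg)
      refine mul_mem hk (hfr.le (map_mono le_top (h15.ge ⟨hA ?_, hx⟩)))
      exact (mul_mem_cancel_left (map_le_range _ _ hk)).1 hg
    obtain ⟨e1⟩ := S0495.result (G := L) (by omega) (F := ZMod 7) (by simp)
    obtain ⟨e2⟩ := S0255.model
    obtain ⟨e3⟩ := gl3
    exact Or.inr (Or.inr (Or.inr ⟨(topEquiv.symm.trans (MulEquiv.subgroupCongr h16.symm)).trans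
      (e1.trans (e2.trans e3))⟩))
  obtain ⟨m, hm⟩ := hL57.resolve_right h7
  obtain ⟨P⟩ : Nonempty (Sylow 5 L) := inferInstance
  have hm' : m ∣ 96 := by
    have : m ∣ 96 * 7 := Nat.dvd_of_mul_dvd_mul_left (by norm_num : 0 < 5) (hm ▸ hL3360)
    refine (Nat.Coprime.symm ((Nat.Prime.coprime_iff_not_dvd (by norm_num)).2 fun h => h7 ?_)
      ).dvd_of_dvd_mul_right this
    exact hm ▸ h.mul_left 5
  obtain ⟨n, e, c, h1, h2, h4, h5, h6, -, h8, -, h10, h11, -⟩ := Small.prime_sylow_data hna hm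
    (fun h => absurd (h.trans hm') (by norm_num)) P
  have hc : c = 1 := by
    by_contra hc
    obtain ⟨q, hq, h12⟩ := Nat.exists_prime_and_dvd hc
    have := Fact.mk hq
    obtain ⟨y, hy⟩ := exists_prime_orderOf_dvd_card' (G := centralizer ((P : Subgroup L) : Set L)) q
      (h10 ▸ h12.mul_left 5)
    obtain ⟨x, hx, h13⟩ := Small.exists_zpowers_eq_sylow P h8
    obtain ⟨h14, h15, h16⟩ := cyc 5 (Or.inl rfl) x.1 (by rw [orderOf_coe, hx])
    have h17 : (f y).support ⊆ (ρ x).supportᶜ := by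
      intro a ha
      rw [Finset.mem_compl, mem_support]
      intro h
      refine mem_support.1 ha (fix_of_commute_coprime h14 (q := q) ?_ ?_ ?_ h)
      · change f y * f x = f x * f y
        rw [← map_mul, ← map_mul, y.2 x (h13.le (mem_zpowers x))]
      · rw [← map_pow, ← hy, ← SubmonoidClass.coe_pow, pow_orderOf_eq_one]; simp
      · rw [h15]
        refine (Nat.coprime_primes (by norm_num) hq).2 ?_
        rintro rfl
        exact absurd ((h12.mul_left (n * e)).trans (h1 ▸ hm')) (by norm_num)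
    have h18 := Finset.card_le_card h17
    rw [Finset.card_compl, h16, Fintype.card_fin] at h18
    have h19 : f y ≠ 1 := fun h => by
      rw [← map_one f, hf.eq_iff, OneMemClass.coe_eq_one, ← orderOf_eq_one_iff, hy] at h
      exact hq.ne_one h
    have h20 := two_le_card_support_of_ne_one h19
    rcases (by omega : (f y).support.card = 2 ∨ (f y).support.card = 3) with h | h
    · have h21 : sign (f y) = 1 := hA ⟨_, rfl⟩
      rw [(card_support_eq_two.1 h).sign_eq] at h21
      exact absurd h21 (by decide)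
    · exact h3 ⟨_, ⟨_, rfl⟩, card_support_eq_three_iff.1 h⟩
  rw [hc, mul_one] at h1
  have h12 : 3 ∣ m := by
    by_contra h
    refine PLocal.qs_not_solvable hL.2 (Char.isSolvable_of_card_dvd_pow_mul_pow (a := 1) (b := 5)
      Nat.prime_five Nat.prime_two _ ?_)
    rw [hm]
    exact Nat.mul_dvd_mul_left 5 ((by decide +kernel : ∀ d ∈ Nat.divisors 96, ¬ 3 ∣ d → d ∣ 32) _
      (Nat.mem_divisors.2 ⟨hm', by norm_num⟩) h)
  have h13 : n = 6 ∧ (e = 2 ∨ e = 4) := (by decide +kernel : ∀ n ∈ Nat.divisors 96,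
      ∀ e ∈ Nat.divisors 4, n % 5 = 1 → 1 < e → n * e ∣ 96 → 3 ∣ n * e → n = 6 ∧ (e = 2 ∨ e = 4)) _
    (Nat.mem_divisors.2 ⟨(Dvd.intro _ h1).trans hm', by norm_num⟩) _
    (Nat.mem_divisors.2 ⟨h6, by norm_num⟩) h2 h5 (h1 ▸ hm') (h1 ▸ h12)
  obtain ⟨rfl, rfl | rfl⟩ := h13
  · obtain ⟨e1⟩ := S0494.result (G := L) (by omega)
    let ψ : X →* Perm (Fin 5) := (MulEquiv.ofBijective _
      (S2119.result 5 (by norm_num) (by norm_num))).symm.toMonoidHom.comp
        ((MulAut.congr e1).toMonoidHom.comp MulAut.conjNormal)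
    have hψ : Function.Injective ψ := by
      rw [injective_iff_map_eq_one]
      intro g hg
      replace hg : (MulAut.conjNormal g : MulAut L) = 1 := by
        simpa only [ψ, MonoidHom.comp_apply, MulEquiv.coe_toMonoidHom, MulEquiv.map_eq_one_iff]
          using hg
      rw [← mem_bot, ← hC]
      intro l hl
      have := congrArg (fun s : MulAut L => (s ⟨l, hl⟩).1) hg
      simp only [MulAut.conjNormal_apply, MulAut.one_apply, mul_inv_eq_iff_eq_mul] at this
      exact this.symm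
    have h14 := ψ.range.card_mul_index
    have h15 := L.card_le_card_group
    rw [← Nat.card_congr (MonoidHom.ofInjective hψ).toEquiv, Nat.card_perm] at h14
    simp only [Nat.card_eq_fintype_card, Fintype.card_fin, Nat.factorial] at h14
    rcases alt_or_perm ψ hψ (alternatingGroup_le_of_index_le_two (by nlinarith)) with h | h
    · exact Or.inl ⟨5, le_rfl, by norm_num, h⟩
    · exact Or.inr (Or.inl h)
  · have h13 := Small.exists_embed_alt hna (normalizer ((P : Subgroup L) : Set L))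
      (fun h => by rw [h, index_top] at h11; omega)
    rw [h11] at h13
    obtain ⟨g, hg⟩ := h13
    have h14 := g.range.card_mul_index
    rw [← Nat.card_congr (MonoidHom.ofInjective hg).toEquiv, nat_card_alternatingGroup] at h14
    simp only [Nat.card_eq_fintype_card, Fintype.card_fin, Nat.factorial] at h14
    have := le_index_alt (by simp) g.range (fun h => by rw [h, index_top] at h14; omega)
    rw [Fintype.card_fin] at this
    rw [hm, ← h1] at h14
    omega

/-- Let H be a nontrivial subgroup of GL(4,2) (a group isomorphic to the alternating group of degree 8) whose largest normal 2-subgroup and largest normal subgroup of odd order are both trivial. Then H is isomorphic to an alternating group of degree n for some 5 ≤ n ≤ 8, to the symmetric group of degree 5 or 6, or to GL(3,2). -/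
theorem result (H : Subgroup (GL (Fin 4) (ZMod 2))) (hH : H ≠ ⊥) (hO : Cfsg.pPrimeCore 2 ↥H = ⊥) (hO2 : Cfsg.pCore 2 ↥H = ⊥) :
    (∃ n : ℕ, 5 ≤ n ∧ n ≤ 8 ∧ Nonempty (↥H ≃* alternatingGroup (Fin n))) ∨
    Nonempty (↥H ≃* Equiv.Perm (Fin 5)) ∨ Nonempty (↥H ≃* Equiv.Perm (Fin 6)) ∨ Nonempty (↥H ≃* GL (Fin 3) (ZMod 2)) := by
  obtain ⟨Φ, -⟩ := S2551.exists_equiv
  have := (nontrivial_iff_ne_bot H).2 hH
  exact main (by rw [Grp.fitting_eq_pCore_of_pPrimeCore_eq_bot hO, hO2])
    ((alternatingGroup _).subtype.comp (Φ.symm.toMonoidHom.comp H.subtype))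
    ((subtype_injective _).comp (Φ.symm.injective.comp H.subtype_injective))
    (by rintro _ ⟨g, rfl⟩; exact Subtype.property _)

end Cfsg.Agent.S2553
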