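import Cfsg.Statements.S4179
import Cfsg.Agent.Proj.CKPerin
import Cfsg.Agent.S0675

set_option autoImplicit false
open Cfsg

namespace Cfsg.Agent.S4179

open Cfsg.Agent.Proj.CK MulAction Polynomial

variable {V : Type*} [AddCommGroup V] [Module (ZMod 2) V] [Finite V]

open scoped IsMulCommutative in
theorem conj_pow_two {n : ℕ} (hn : Module.finrank (ZMod 2) V = n) (h2 : 2 ≤ n)
    (c g : V ≃ₗ[ZMod 2] V) (hc : ∀ v w : V, v ≠ 0 → w ≠ 0 → ∃ k : ℕ, (c ^ k) v = w)
    (ho : orderOf c = 2 ^ n - 1) {a : ℕ} (hg : g * c * g⁻¹ = c ^ a) : ∃ j, c ^ a = c ^ 2 ^ j := by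
  classical
  haveI : Nontrivial V := Module.nontrivial_of_finrank_pos (R := ZMod 2) (by omega)
  let f : (V ≃ₗ[ZMod 2] V) →* Module.End (ZMod 2) V :=
    LinearEquiv.automorphismGroup.toLinearMapMonoidHom
  have fa : ∀ u v, f u v = u v := fun _ _ => rfl
  have finj : Function.Injective f := fun u w h => LinearEquiv.ext fun v => by
    rw [← fa, h, fa]
  let R := Algebra.adjoin (ZMod 2) {f c}
  let x : R := ⟨f c, Algebra.self_mem_adjoin_singleton _ _⟩
  have xp : ∀ k : ℕ, ((x ^ k : R) : Module.End (ZMod 2) V) = f (c ^ k) := fun k => by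
    rw [map_pow]; rfl
  haveI : NoZeroDivisors R := ⟨fun {r s} h => by
    by_contra! hne
    obtain ⟨v, hv⟩ : ∃ v, s.1 v ≠ 0 := by
      by_contra! h0
      exact hne.2 (Subtype.ext (LinearMap.ext h0))
    have h1 : r.1 (s.1 v) = 0 := congrArg (fun t : R => t.1 v) h
    refine hne.1 (Subtype.ext (LinearMap.ext fun w => ?_))
    by_cases hw : w = 0
    · simp [hw]
    obtain ⟨k, rfl⟩ := hc _ w hv hw
    have := congrArg (fun t : R => t.1 (s.1 v)) (mul_comm r (x ^ k))
    simp only [MulMemClass.coe_mul, xp, Module.End.mul_apply, h1, map_zero, fa] at this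
    exact this⟩
  haveI : IsDomain R := NoZeroDivisors.to_isDomain R
  set p := (f c).charpoly with hp
  have root : ∀ k : ℕ, aeval (f (c ^ k)) p = 0 → x ^ k ∈ (p.map (algebraMap (ZMod 2) R)).roots := by
    intro k hk
    rw [mem_roots ((LinearMap.charpoly_monic _).map _).ne_zero, IsRoot, eval_map_algebraMap]
    apply Subtype.ext
    rw [← xp] at hk
    exact (aeval_algHom_apply R.val (x ^ k) p).symm.trans hk
  have r1 : ∀ j : ℕ, aeval (f (c ^ 2 ^ j)) p = 0 := by
    intro j
    induction j with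
    | zero => simpa using LinearMap.aeval_self_charpoly (f c)
    | succ j ih => rw [pow_succ, pow_mul, map_pow, ← expand_aeval, ZMod.expand_card, map_pow, ih]; simp
  have r2 : aeval (f (c ^ a)) p = 0 := by
    rw [← hg, show f (g * c * g⁻¹) = g.conj (f c) from LinearMap.ext fun _ => rfl, hp,
      ← LinearEquiv.charpoly_conj g (f c)]
    exact LinearMap.aeval_self_charpoly _
  by_contra! hne
  have xinj : ∀ i j : ℕ, x ^ i = x ^ j → c ^ i = c ^ j := fun i j h =>
    finj (by rw [← xp, ← xp, h])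
  have := card_le_degree_of_subset_roots (p := p.map (algebraMap (ZMod 2) R))
    (Z := insert (x ^ a) ((Finset.range n).image fun j => x ^ 2 ^ j)) (by
      intro z hz
      rcases Finset.mem_insert.1 (Finset.mem_def.2 hz) with rfl | hz
      · exact root _ r2
      · obtain ⟨j, -, rfl⟩ := Finset.mem_image.1 hz
        exact root _ (r1 j))
  have lt : ∀ j < n, 2 ^ j < orderOf c := fun j hj => by
    obtain ⟨m, rfl⟩ := Nat.exists_eq_add_of_le' h2
    have := Nat.pow_le_pow_right two_pos (show j ≤ m + 1 by omega)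
    have := Nat.one_le_two_pow (n := m)
    rw [ho]; simp only [pow_succ] at *; omega
  rw [Finset.card_insert_of_notMem (by
      intro h
      obtain ⟨j, -, hj⟩ := Finset.mem_image.1 h
      exact hne j (xinj _ _ hj).symm),
    Finset.card_image_of_injOn (fun i hi j hj h => Nat.pow_right_injective le_rfl
      (pow_injOn_Iio_orderOf (lt i (Finset.mem_range.1 hi)) (lt j (Finset.mem_range.1 hj))
        (xinj _ _ h))), Finset.card_range, (LinearMap.charpoly_monic _).natDegree_map,
    LinearMap.charpoly_natDegree, hn] at this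
  omega

/-- contragredient action -/
@[reducible] def dualAct (H : Subgroup (V ≃ₗ[ZMod 2] V)) :
    DistribMulAction H (Module.Dual (ZMod 2) V) where
  smul g φ := φ ∘ₗ (g⁻¹ : H).1.toLinearMap
  one_smul _ := rfl
  mul_smul g h φ := LinearMap.ext fun v => by
    show φ (((g * h)⁻¹ : H).1 v) = φ ((h⁻¹ : H).1 ((g⁻¹ : H).1 v))
    rw [mul_inv_rev]; rfl
  smul_zero _ := rfl
  smul_add _ _ _ := rfl

theorem eq_top_of_t2 {n : ℕ} (hn : Module.finrank (ZMod 2) V = n) (hp : n.Prime)
    (H : Subgroup (V ≃ₗ[ZMod 2] V)) (h : T2 H V) : H = ⊤ := by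
  letI := dualAct H
  haveI : Finite (Module.Dual (ZMod 2) V) :=
    Finite.of_injective (fun φ => (φ : V → ZMod 2)) DFunLike.coe_injective
  haveI : Finite (V ≃ₗ[ZMod 2] V) :=
    Finite.of_injective (fun φ => (φ : V → V)) DFunLike.coe_injective
  have cV : Nat.card V = 2 ^ n := by
    rw [Module.natCard_eq_pow_finrank (K := ZMod 2), hn, Nat.card_zmod]
  have h4 : 4 ≤ Nat.card V := cV ▸ Nat.pow_le_pow_right two_pos hp.two_le
  let P : Pr H V (Module.Dual (ZMod 2) V) :=
    { b := AddMonoidHom.mk' (fun v => AddMonoidHom.mk' (fun φ => φ v) (by simp))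
        (by intros; ext; simp)
      inv := fun g v φ => congrArg φ (inv_smul_smul g v)
      sepL := fun v hv => (Module.forall_dual_apply_eq_zero_iff (ZMod 2) v).1 hv
      sepR := fun φ hφ => LinearMap.ext hφ }
  have hf : ∀ g : H, (∀ v : V, g • v = v) → g = 1 := fun g hg => Subtype.ext (LinearEquiv.ext hg)
  obtain ⟨t, t1, t2⟩ : ∃ t : H, t ≠ 1 ∧ Nat.card V ≤ 2 * Nat.card (rel t (⊥ : AddSubgroup V)) := by
    by_cases h3 : n ≤ 3
    · exact exists_transvection_small h h4 (cV ▸ pow_dvd_pow 2 h3)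
    obtain ⟨s, rfl⟩ : ∃ s, n = s + 3 := ⟨n - 3, by omega⟩
    refine St.exists_transvection ⟨P, s, cV, P.card_eq.trans cV, h, P.t2_dual h h4⟩ ?_
      (show s ≠ 0 by omega) hf
    obtain ⟨k, hk⟩ := hp.odd_of_ne_two (by omega)
    exact ⟨k - 1, show s = _ by omega⟩
  have tr : LinearEquiv.dilatransvections (ZMod 2) V ⊆ H := by
    rintro e ⟨φ, a, he⟩
    have he' : ∀ v, e v = v + φ v • a := fun v => congrArg (fun u : V →ₗ[ZMod 2] V => u v) he
    have : φ a = 0 := by
      by_contra hc
      have h1 := he' a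
      rw [z2_ne.1 hc, one_smul, c2, e.map_eq_zero_iff] at h1
      exact hc (by rw [h1, map_zero])
    obtain ⟨g, hg⟩ := P.all_transvections h h4 hf t1 t2 a φ this
    rw [show e = g.1 from LinearEquiv.ext fun v => (he' v).trans (hg v).symm]
    exact g.2
  refine eq_top_iff.2 fun e _ => ?_
  obtain ⟨u, hu, w, hw, e1⟩ :=
    LinearEquiv.mem_transvections_pow_mul_dilatransvections_of_not_isExceptional (e := e) (by
      rintro ⟨h1, h2, a, ha⟩
      rcases z2 a with rfl | rfl
      · haveI := Module.nontrivial_of_finrank_pos (lt_trans one_pos h1)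
        obtain ⟨x, hx⟩ := exists_ne (0 : V ⧸ e.fixedSubmodule)
        exact hx (by simpa using ha x)
      · exact h2 (LinearEquiv.ext fun x => by simpa using ha x))
  rw [← e1]
  refine H.mul_mem ?_ (tr hw)
  have := Set.pow_subset_pow_left (LinearEquiv.transvections_subset_dilatransvections.trans tr) hu
  exact H.toSubmonoid.pow_subset subset_rfl this

/-- the non-zero vectors -/
def Om (H : Subgroup (V ≃ₗ[ZMod 2] V)) : SubMulAction H V where
  carrier := {v | v ≠ 0}
  smul_mem' _ _ h := smul_ne0 h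

theorem result {V : Type*} [AddCommGroup V] [Module (ZMod 2) V] [Finite V] (n : ℕ) (hn : Module.finrank (ZMod 2) V = n)
    (hprime : (2 ^ n - 1).Prime) (H : Subgroup (V ≃ₗ[ZMod 2] V)) :
    (∀ v w : V, v ≠ 0 → w ≠ 0 → ∃ h ∈ H, h v = w) ↔
      ((IsCyclic ↥H ∧ Nat.card ↥H = 2 ^ n - 1) ∨
       (Nat.card ↥H = n * (2 ^ n - 1) ∧ ∃ C : Subgroup (V ≃ₗ[ZMod 2] V), C ≤ H ∧ (C.subgroupOf H).Normal ∧
          IsCyclic ↥C ∧ Nat.card ↥C = 2 ^ n - 1) ∨
       H = ⊤) := by
  classical
  have hp : n.Prime := (Nat.prime_of_pow_sub_one_prime (by rintro rfl; simp at hprime; exact Nat.not_prime_one hprime) hprime).2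
  haveI : Finite (V ≃ₗ[ZMod 2] V) :=
    Finite.of_injective (fun φ => (φ : V → V)) DFunLike.coe_injective
  have cV : Nat.card V = 2 ^ n := by
    rw [Module.natCard_eq_pow_finrank (K := ZMod 2), hn, Nat.card_zmod]
  have cO : {v : V | v ≠ 0}.ncard = 2 ^ n - 1 := by
    rw [show {v : V | v ≠ 0} = Set.univ \ {0} by ext; simp, Set.ncard_diff (Set.subset_univ _),
      Set.ncard_univ, cV, Set.ncard_singleton]
  constructor
  · intro htr
    set l := 2 ^ n - 1 with hl
    haveI : Fact l.Prime := ⟨hprime⟩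
    haveI : FaithfulSMul H (Om H) := ⟨fun {g h} e => Subtype.ext (LinearEquiv.ext fun v => by
      by_cases hv : v = 0
      · simp [hv]
      · exact congrArg Subtype.val (e ⟨v, hv⟩))⟩
    haveI : IsPretransitive H (Om H) := ⟨fun v w => by
      obtain ⟨h, h1, h2⟩ := htr v w v.2 w.2
      exact ⟨⟨h, h1⟩, Subtype.ext h2⟩⟩
    haveI := Fintype.ofFinite (Om H)
    obtain ⟨P⟩ : Nonempty (Sylow l H) := inferInstance
    obtain ⟨c, e, -, c1, hc⟩ := Perm.exists_coord_of_prime_degree (Ω := Om H) cO P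
    by_cases haf : ∀ g : H, ∃ a b : ZMod l, ∀ i, g • e i = e (a * i + b)
    swap
    · refine Or.inr (Or.inr (eq_top_of_t2 hn hp H fun x y x' y' hx hy hyx hx' hy' hyx' => ?_))
      obtain ⟨g, g1, g2⟩ : ∃ g : H, g • (⟨x, hx⟩ : Om H) = ⟨x', hx'⟩ ∧ g • (⟨y, hy⟩ : Om H) = ⟨y', hy'⟩ :=
        is_two_pretransitive_iff.1 (S0675.two_trans_of_not_affine hc haf) (fun h => hyx (congrArg Subtype.val h).symm) (fun h => hyx' (congrArg Subtype.val h).symm)
      exact ⟨g, congrArg Subtype.val g1, congrArg Subtype.val g2⟩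
    have cj : ∀ (g : H) (a b : ZMod l), (∀ i, g • e i = e (a * i + b)) → g * c * g⁻¹ = c ^ a.val := by
      intro g a b hg
      rw [mul_inv_eq_iff_eq_mul]
      refine eq_of_smul_eq_smul (α := Om H) fun w => ?_
      obtain ⟨i, rfl⟩ := e.surjective w
      rw [mul_smul, mul_smul, hc, hg, hg, Perm.pow_smul_coord hc, ZMod.natCast_zmod_val]
      congr 1; ring
    have cn : (Subgroup.zpowers c).Normal := ⟨by
      rintro _ ⟨k, rfl⟩ g
      obtain ⟨a, b, hg⟩ := haf g
      rw [← conj_zpow, cj g a b hg]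
      exact Subgroup.zpow_mem _ (Subgroup.npow_mem_zpowers _ _) _⟩
    have two : (2 : ZMod l) ^ n = 1 := by
      have : ((2 ^ n - 1 : ℕ) : ZMod l) = 0 := ZMod.natCast_self l
      rw [Nat.cast_sub Nat.one_le_two_pow] at this
      simpa [sub_eq_zero] using this
    have two0 : (2 : ZMod l) ≠ 0 := fun h => by
      rw [h, zero_pow hp.ne_zero] at two; exact zero_ne_one two
    have mul : ∀ g ∈ stabilizer H (e 0), ∃ j : ℕ, ∀ i, g • e i = e (2 ^ j * i) := by
      intro g hg
      obtain ⟨a, b, h⟩ := haf g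
      have hb : b = 0 := by simpa using e.injective ((h 0).symm.trans hg)
      obtain ⟨j, hj⟩ := conj_pow_two hn hp.two_le c.1 g.1 (fun v w hv hw => by
          obtain ⟨i, hi⟩ := e.surjective ⟨v, hv⟩
          obtain ⟨k, hk⟩ := e.surjective ⟨w, hw⟩
          refine ⟨(k - i).val, ?_⟩
          have := Perm.pow_smul_coord hc (k - i).val i
          rw [ZMod.natCast_zmod_val, add_sub_cancel, hi, hk] at this
          exact congrArg Subtype.val this)
        ((Subgroup.orderOf_coe c).trans c1) (congrArg Subtype.val (cj g a b h))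
      have h1 : c ^ a.val = c ^ 2 ^ j := Subtype.ext hj
      have h2 := Perm.pow_smul_coord hc a.val 0
      rw [h1, Perm.pow_smul_coord hc, ZMod.natCast_zmod_val, e.apply_eq_iff_eq] at h2
      refine ⟨j, fun i => ?_⟩
      rw [h, hb, add_zero]
      congr 2
      simpa using h2.symm
    have dv : Nat.card (stabilizer H (e 0)) ∣ n := by
      refine dvd_ncard_of_forall_orb (A := stabilizer H (e 0)) _
        ((fun j : ℕ => e (2 ^ j)) '' Set.Iio n) (Set.toFinite _) ?_ ?_ ?_
      · have ho : orderOf (2 : ZMod l) = n := by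
          haveI : Fact n.Prime := ⟨hp⟩
          refine orderOf_eq_prime two fun h => ?_
          have : ((1 : ℕ) : ZMod l) = 0 := by
            rw [Nat.cast_one]; linear_combination h
          exact hprime.not_dvd_one ((ZMod.natCast_eq_zero_iff 1 l).1 this)
        rw [Set.ncard_image_of_injOn (fun i hi j hj h =>
          pow_injOn_Iio_orderOf (ho ▸ hi) (ho ▸ hj) (e.injective h))]
        simp
      · rintro g hg _ ⟨i, -, rfl⟩
        obtain ⟨j, hj⟩ := mul g hg
        exact ⟨(j + i) % n, Nat.mod_lt _ hp.pos, by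
          simp only; rw [hj, ← pow_add, ← pow_eq_pow_mod _ two]⟩
      · rintro _ ⟨i, -, rfl⟩
        rw [← ncard_orb_mul (stabilizer H (e 0)) (e (2 ^ i)),
          show stabilizer H (e 0) ⊓ stabilizer H (e (2 ^ i)) = ⊥ from ?_, Subgroup.card_bot, mul_one]
        refine eq_bot_iff.2 fun g hg => eq_of_smul_eq_smul (α := Om H) fun w => ?_
        obtain ⟨j, hj⟩ := mul g hg.1
        have := e.injective ((hj _).symm.trans hg.2)
        rw [mul_eq_right₀ (pow_ne_zero _ two0)] at this
        obtain ⟨k, rfl⟩ := e.surjective w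
        rw [hj, this, one_mul, one_smul]
    have cH : Nat.card H = Nat.card (stabilizer H (e 0)) * l := by
      rw [← (stabilizer H (e 0)).card_mul_index, index_stabilizer_of_transitive]
      congr 1
    rcases (Nat.dvd_prime hp).1 dv with h | h
    · rw [h, one_mul] at cH
      exact Or.inl ⟨isCyclic_of_prime_card cH, cH⟩
    · refine Or.inr (Or.inl ⟨by rw [cH, h], Subgroup.zpowers c.1, by simp, ?_, inferInstance, ?_⟩)
      · convert cn
        rw [← H.coe_subtype, ← MonoidHom.map_zpowers, Subgroup.subgroupOf,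
          Subgroup.comap_map_eq_self_of_injective H.subtype_injective]
      · rw [Nat.card_zpowers, Subgroup.orderOf_coe, c1]
  · have key : ∀ C : Subgroup (V ≃ₗ[ZMod 2] V), Nat.card C = 2 ^ n - 1 →
        ∀ v w : V, v ≠ 0 → w ≠ 0 → ∃ h ∈ C, h v = w := by
      intro C hC
      obtain ⟨v, hv⟩ : ∃ v : V, ¬ C ≤ stabilizer _ v := by
        by_contra! h
        have : C = ⊥ := eq_bot_iff.2 fun g hg => LinearEquiv.ext fun v => h v hg
        rw [this, Subgroup.card_bot] at hC
        exact hprime.one_lt.ne hC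
      have h0 : v ≠ 0 := by rintro rfl; exact hv fun g _ => smul_zero g
      have h1 := ncard_orb_mul C v
      have h2 : orb C v = {v : V | v ≠ 0} := by
        refine Set.eq_of_subset_of_ncard_le (by rintro _ ⟨g, -, rfl⟩; exact smul_ne0 h0) ?_
        rcases (Nat.dvd_prime hprime).1 (hC ▸ Dvd.intro _ h1) with h | h
        · rw [h, one_mul] at h1
          exact absurd (inf_eq_left.1 (Subgroup.eq_of_le_of_card_ge inf_le_left h1.ge)) hv
        · rw [h, cO]
      intro x y hx hy
      exact tr_orb C v x (h2 ▸ hx) y (h2 ▸ hy)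
    rintro (⟨-, h⟩ | ⟨-, C, h1, -, -, h⟩ | rfl)
    · exact key H h
    · intro v w hv hw
      obtain ⟨g, g1, g2⟩ := key C h v w hv hw
      exact ⟨g, h1 g1, g2⟩
    · intro v w hv hw
      obtain ⟨φ, h1, h2⟩ : ∃ φ : Module.Dual (ZMod 2) V, φ v = 1 ∧ φ w = 1 := by
        obtain ⟨φ, h1⟩ := Module.Projective.exists_dual_eq_one (ZMod 2) hv
        obtain ⟨ψ, h2⟩ := Module.Projective.exists_dual_eq_one (ZMod 2) hw
        rcases z2 (φ w) with h3 | h3
        · rcases z2 (ψ v) with h4 | h4
          · exact ⟨φ + ψ, by simp [h1, h4], by simp [h2, h3]⟩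
          · exact ⟨ψ, h4, h2⟩
        · exact ⟨φ, h1, h3⟩
      exact ⟨LinearEquiv.transvection (f := φ) (v := w - v) (by simp [h1, h2]), trivial, by
        simp [LinearMap.transvection.apply, h1]⟩

end Cfsg.Agent.S4179
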