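import Cfsg.Statements.S3370
import Mathlib
import Cfsg.Agent.Inv.GL2Sylow
import Cfsg.Agent.Inv.QGroup
import Cfsg.Agent.Grp.UniqueOrderP

set_option autoImplicit false
open Cfsg

namespace Cfsg.Agent.S3370

open Module

theorem num_two {n a p : ℕ} (hp : p.Prime) (hn : 2 ≤ n) (h : p ^ a + 1 = 2 ^ n) : a = 1 := by
  obtain ⟨n, rfl⟩ : ∃ m, n = m + 2 := ⟨n - 2, by omega⟩
  have h4 : p ^ a % 4 = 3 := by rw [pow_add] at h; omega
  have hodd : Odd p := by
    refine hp.odd_of_ne_two ?_
    rintro rfl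
    rcases a with _ | _ | a
    · simp at h4
    · simp at h4
    · rw [pow_succ, pow_succ] at h4; omega
  have ha : Odd a := by
    by_contra ha
    obtain ⟨k, rfl⟩ := Nat.not_odd_iff_even.1 ha
    obtain ⟨c, hc⟩ := (hodd.pow : Odd (p ^ k))
    rw [pow_add, hc] at h4
    have : (2 * c + 1) * (2 * c + 1) = 4 * (c * c + c) + 1 := by ring
    omega
  have h1 : ((p : ℤ) + 1) * ∑ i ∈ Finset.range a, (-(p : ℤ)) ^ i = 2 ^ (n + 2) := by
    have := mul_neg_geom_sum (-(p : ℤ)) a
    rw [sub_neg_eq_add, ha.neg_pow, sub_neg_eq_add, add_comm (1 : ℤ)] at this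
    rw [this]
    have : ((p ^ a + 1 : ℕ) : ℤ) = ((2 ^ (n + 2) : ℕ) : ℤ) := by rw [h]
    push_cast at this
    linarith
  have h2 : Odd (∑ i ∈ Finset.range a, (-(p : ℤ)) ^ i) := by
    rw [← Int.natAbs_odd, ← ZMod.natCast_ne_zero_iff_odd, Ne, ZMod.natCast_eq_zero_iff,
      ← Int.natCast_dvd_natCast, Int.dvd_natAbs, ← ZMod.intCast_zmod_eq_zero_iff_dvd]
    push_cast
    have hp1 : (-(p : ZMod 2)) = 1 := by rw [ZMod.natCast_eq_one_iff_odd.2 hodd]; rfl
    simp [hp1, ZMod.natCast_eq_one_iff_odd.2 ha]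
  set S := ∑ i ∈ Finset.range a, (-(p : ℤ)) ^ i
  have h3 : S.natAbs ∣ 2 ^ (n + 2) := by
    have := congrArg Int.natAbs h1
    rw [Int.natAbs_mul, Int.natAbs_pow] at this
    exact ⟨_, by rw [mul_comm]; exact this.symm⟩
  have h5 : S.natAbs = 1 :=
    Nat.eq_one_of_dvd_coprimes ((Nat.coprime_two_right.2 (Int.natAbs_odd.2 h2)).pow_right _)
      dvd_rfl h3
  have h6 : p + 1 = 2 ^ (n + 2) := by
    have := congrArg Int.natAbs h1
    rw [Int.natAbs_mul, Int.natAbs_pow, h5, mul_one] at this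
    exact_mod_cast this
  have h7 : p ^ a = p ^ 1 := by rw [pow_one]; omega
  exact Nat.pow_right_injective hp.two_le h7

theorem num_odd {n a q : ℕ} (hq : q.Prime) (hq2 : q ≠ 2) (hn : 2 ≤ n) (h : 2 ^ a + 1 = q ^ n) :
    q = 3 ∧ n = 2 := by
  have hodd := hq.odd_of_ne_two hq2
  have hq3 : 3 ≤ q := by have := hq.two_le; omega
  rcases Nat.even_or_odd n with ⟨k, rfl⟩ | hn'
  · obtain ⟨Q, hQ⟩ : ∃ Q, q ^ k = Q + 1 := ⟨q ^ k - 1, by have := Nat.one_le_pow k q hq.pos; omega⟩
    have hk : k ≠ 0 := by omega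
    have hQ3 : 3 ≤ q ^ k := hq3.trans (Nat.le_self_pow hk q)
    rw [pow_add, hQ] at h
    have h1 : Q * (Q + 2) = 2 ^ a := by nlinarith
    obtain ⟨b, -, hb⟩ := (Nat.dvd_prime_pow Nat.prime_two).1 (Dvd.intro _ h1)
    obtain ⟨c, -, hc⟩ := (Nat.dvd_prime_pow Nat.prime_two).1 (Dvd.intro_left _ h1)
    have hQ2 : Q = 2 := by
      rcases b with _ | _ | b
      · omega
      · omega
      · rcases c with _ | _ | c
        · omega
        · omega
        · rw [pow_succ, pow_succ] at hb hc; omega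
    have h3 : q ^ k = 3 := by omega
    have := (Nat.prime_three.pow_eq_iff).1 h3
    omega
  · exfalso
    have h1 : (q - 1) * ∑ i ∈ Finset.range n, q ^ i = 2 ^ a := by
      have := Nat.geomSum_eq hq.two_le n
      rw [this, Nat.mul_div_cancel' (Nat.sub_one_dvd_pow_sub_one q n), ← h, Nat.add_sub_cancel]
    have h2 : Odd (∑ i ∈ Finset.range n, q ^ i) := by
      rw [Finset.odd_sum_iff_odd_card_odd, Finset.filter_true_of_mem, Finset.card_range]
      · exact hn'
      · intro i _
        exact hodd.pow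
    have h5 : ∑ i ∈ Finset.range n, q ^ i = 1 :=
      Nat.eq_one_of_dvd_coprimes ((Nat.coprime_two_right.2 h2).pow_right _) dvd_rfl
        (Dvd.intro_left _ h1)
    obtain ⟨m, rfl⟩ : ∃ m, n = m + 2 := ⟨n - 2, by omega⟩
    rw [Finset.sum_range_succ', Finset.sum_range_succ'] at h5
    simp only [zero_add, pow_one, pow_zero] at h5
    omega

/-- Let q be a prime, V a non-trivial finite vector space over the field with q elements, and G a non-trivial finite p-group (p prime) acting faithfully and linearly on V and transitively on the non-zero vectors. Then either q = 2 and G has prime order p = |V| − 1; or p = 2, V has q elements with q = 2^m + 1 and G is cyclic of order 2^m; or p = 2, q = 3, V has 9 elements and G is cyclic of order 8, quaternion of order 8, or semidihedral of order 16. -/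
theorem result (q : ℕ) [Fact q.Prime] {V : Type*} [AddCommGroup V] [Module (ZMod q) V] [Finite V] [Nontrivial V]
    {G : Type*} [Group G] [Finite G] [Nontrivial G] (p : ℕ) [Fact p.Prime] (hG : IsPGroup p G)
    (ρ : G →* (V ≃ₗ[ZMod q] V)) (hρ : Function.Injective ρ)
    (htrans : ∀ v w : V, v ≠ 0 → w ≠ 0 → ∃ g : G, ρ g v = w) :
    (q = 2 ∧ p = Nat.card V - 1 ∧ Nat.card G = p) ∨
    (p = 2 ∧ Nat.card V = q ∧ (∃ m : ℕ, q = 2 ^ m + 1 ∧ Nat.card G = 2 ^ m) ∧ IsCyclic G) ∨
    (p = 2 ∧ q = 3 ∧ Nat.card V = 9 ∧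
      ((IsCyclic G ∧ Nat.card G = 8) ∨ Nonempty (G ≃* QuaternionGroup 2) ∨ (Cfsg.IsQuasiDihedral G ∧ Nat.card G = 16))) := by
  classical
  have hp : p.Prime := Fact.out
  have hq : q.Prime := Fact.out
  let act : MulAction G {v : V // v ≠ 0} :=
    { smul := fun g v => ⟨ρ g v, fun h => v.2 ((ρ g).map_eq_zero_iff.1 h)⟩
      one_smul := fun v => Subtype.ext (by change ρ 1 v = v; simp)
      mul_smul := fun a b v => Subtype.ext (by change ρ (a * b) v = ρ a (ρ b v); simp) }
  have hsm : ∀ (g : G) (v : {v : V // v ≠ 0}), ((g • v : {v : V // v ≠ 0}) : V) = ρ g v :=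
    fun _ _ => rfl
  have : MulAction.IsPretransitive G {v : V // v ≠ 0} := ⟨fun v w => by
    obtain ⟨g, hg⟩ := htrans v w v.2 w.2
    exact ⟨g, Subtype.ext hg⟩⟩
  have : FaithfulSMul G {v : V // v ≠ 0} := ⟨fun {a b} h => hρ (LinearEquiv.ext fun v => by
    by_cases hv : v = 0
    · simp [hv]
    · exact congrArg Subtype.val (h ⟨v, hv⟩))⟩
  obtain ⟨v₀, hv₀⟩ := exists_ne (0 : V)
  have hidx := fun v : {v : V // v ≠ 0} => MulAction.index_stabilizer_of_transitive G v
  obtain ⟨a, ha⟩ := hG.index (MulAction.stabilizer G (⟨v₀, hv₀⟩ : {v : V // v ≠ 0}))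
  rw [hidx] at ha
  have hΩ : Nat.card {v : V // v ≠ 0} + 1 = Nat.card V := by
    have := Fintype.ofFinite V
    have h1 : 0 < Fintype.card V := Fintype.card_pos
    simp only [Nat.card_eq_fintype_card, Fintype.card_subtype_compl, Fintype.card_unique]
    omega
  have hdvd : p ^ a ∣ Nat.card G := by
    rw [← ha, ← hidx ⟨v₀, hv₀⟩]; exact Subgroup.index_dvd_card _
  set n := finrank (ZMod q) V with hn
  have hV : Nat.card V = q ^ n := by
    rw [Module.natCard_eq_pow_finrank (K := ZMod q), Nat.card_zmod]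
  have hn0 : n ≠ 0 := finrank_pos.ne'
  have hmain : p ^ a + 1 = q ^ n := by rw [← ha, hΩ, hV]
  let ψ : G →* GL (Fin n) (ZMod q) :=
    ((Matrix.GeneralLinearGroup.toLin' (finBasis (ZMod q) V)).trans
      (LinearMap.GeneralLinearGroup.generalLinearEquiv (ZMod q) V)).symm.toMonoidHom.comp ρ
  have hψ : Function.Injective ψ := fun x y h => hρ
    (((Matrix.GeneralLinearGroup.toLin' (finBasis (ZMod q) V)).trans
      (LinearMap.GeneralLinearGroup.generalLinearEquiv (ZMod q) V)).symm.injective h)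
  have hGd : Nat.card G ∣ ∏ i : Fin n, (q ^ n - q ^ (i : ℕ)) := by
    have := Subgroup.card_dvd_of_injective ψ hψ
    rwa [Matrix.card_GL_field, ZMod.card] at this
  obtain ⟨b, hb⟩ := hG.exists_card_eq
  have hG1 : 1 < Nat.card G := Finite.one_lt_card
  clear_value n ψ
  by_cases hn1 : n = 1
  · subst hn1
    simp only [Finset.univ_unique, pow_one, Fin.default_eq_zero, Fin.val_zero, pow_zero,
      Finset.prod_singleton] at hGd hmain hV
    have h1 : Nat.card G = p ^ a := Nat.dvd_antisymm (by rwa [show q - 1 = p ^ a by omega] at hGd) hdvd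
    have hq2 : q ≠ 2 := by rintro rfl; omega
    have hp2 : p = 2 := by
      have : Even (p ^ a) := by
        obtain ⟨c, hc⟩ := hq.odd_of_ne_two hq2
        exact ⟨c, by omega⟩
      exact (hp.even_iff).1 (Nat.even_pow.1 this).1
    subst hp2
    refine Or.inr (Or.inl ⟨rfl, hV, ⟨a, hmain.symm, h1⟩, ?_⟩)
    refine isCyclic_of_injective_ringHom
      ((Units.coeHom (ZMod q)).comp (Matrix.GeneralLinearGroup.det.comp ψ)) fun x y h => hψ ?_
    ext i j
    rw [Subsingleton.elim i 0, Subsingleton.elim j 0]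
    simpa [Matrix.det_fin_one] using h
  have hn2 : 2 ≤ n := by omega
  by_cases hq2 : q = 2
  · subst hq2
    have ha1 := num_two hp hn2 hmain
    subst ha1
    rw [pow_one] at ha hdvd
    refine Or.inl ⟨rfl, by omega, ?_⟩
    have h1 := Subgroup.card_dvd_of_injective (MulAction.toPermHom G {v : V // v ≠ 0})
      MulAction.toPerm_injective
    rw [Nat.card_perm, ha, hb] at h1
    have h2 : b ≤ 1 := by
      have h3 := (hp.pow_dvd_iff_le_factorization (Nat.factorial_ne_zero p)).1 h1
      have h4 : p.factorial = p * (p - 1).factorial := (Nat.mul_factorial_pred hp.ne_zero).symm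
      rw [h4, Nat.factorization_mul hp.ne_zero (Nat.factorial_ne_zero _), Finsupp.add_apply,
        hp.factorization_self, Nat.factorization_eq_zero_of_not_dvd
          (fun h => by have := hp.dvd_factorial.1 h; have := hp.pos; omega)] at h3
      exact h3
    rw [hb] at hG1 ⊢
    rcases b with _ | _ | b
    · simp at hG1
    · simp
    · omega
  have hp2 : p = 2 := by
    have : Even (p ^ a) := by
      obtain ⟨c, hc⟩ := ((hq.odd_of_ne_two hq2).pow : Odd (q ^ n))
      exact ⟨c, by omega⟩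
    exact (hp.even_iff).1 (Nat.even_pow.1 this).1
  subst hp2
  obtain ⟨rfl, rfl⟩ := num_odd hq hq2 hn2 hmain
  refine Or.inr (Or.inr ⟨rfl, rfl, hV, ?_⟩)
  have ha8 : 2 ^ a = 8 := by omega
  rw [ha8] at hdvd ha
  have h48 : Nat.card G ∣ 48 := by simpa [Fin.prod_univ_two] using hGd
  have hb4 : Nat.card G = 8 ∨ Nat.card G = 16 := by
    rw [hb] at h48 hdvd ⊢
    have : b ≤ 4 := by
      by_contra h
      have := (pow_dvd_pow 2 (show 5 ≤ b by omega)).trans h48
      norm_num at this
    interval_cases b <;> revert hdvd <;> decide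
  rcases hb4 with h8 | h16
  · have hreg : ∀ (g : G) (v : V), v ≠ 0 → ρ g v = v → g = 1 := by
      intro g v hv h
      have h1 := (MulAction.stabilizer G (⟨v, hv⟩ : {v : V // v ≠ 0})).card_mul_index
      rw [hidx, ha, h8] at h1
      have h2 : MulAction.stabilizer G (⟨v, hv⟩ : {v : V // v ≠ 0}) = ⊥ :=
        Subgroup.card_eq_one.1 (by omega)
      rw [← Subgroup.mem_bot, ← h2]
      exact Subtype.ext h
    have hneg : ∀ x : G, orderOf x = 2 → ∀ v, ρ x v = -v := by
      intro x hx v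
      by_contra h
      have h1 : x * x = 1 := by rw [← pow_two, ← hx, pow_orderOf_eq_one]
      have h2 := hreg x (v + ρ x v) (fun h2 => h (eq_neg_of_add_eq_zero_right h2)) (by
        rw [map_add, add_comm]
        congr 1
        change (ρ x * ρ x) v = v
        rw [← map_mul, h1]; simp)
      simp [h2] at hx
    rcases Grp.isCyclic_or_quaternion hG (fun x y hx hy => by
      rw [hρ (LinearEquiv.ext fun v => by rw [hneg y hy, hneg x hx] : ρ y = ρ x)]
      exact Subgroup.mem_zpowers x) with h | ⟨-, m, hm, ⟨e⟩⟩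
    · exact Or.inl ⟨h, h8⟩
    · have h1 := Nat.card_congr e.toEquiv
      rw [h8, Nat.card_eq_fintype_card, QuaternionGroup.card] at h1
      have h2 : 2 ^ m = 2 := by omega
      rw [h2] at e
      exact Or.inr (Or.inl ⟨e⟩)
  · refine Or.inr (Or.inr ⟨?_, h16⟩)
    obtain ⟨P, hP⟩ := (hG.of_equiv (MonoidHom.ofInjective hψ)).exists_le_sylow
    have h1 : Nat.card ψ.range = 16 := by
      rw [← Nat.card_congr (MonoidHom.ofInjective hψ).toEquiv, h16]
    have h2 : Nat.card P = 16 := by
      rw [P.card_eq_multiplicity, Matrix.card_GL_field]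
      simp only [ZMod.card, Fin.prod_univ_two]
      rw [show (3 ^ 2 - 3 ^ ((0 : Fin 2) : ℕ)) * (3 ^ 2 - 3 ^ ((1 : Fin 2) : ℕ)) = 2 ^ 4 * 3 by decide,
        Nat.factorization_mul (by norm_num) (by norm_num), Nat.prime_two.factorization_pow,
        Nat.prime_three.factorization]
      simp
    have h3 : ψ.range = P := Subgroup.eq_of_le_of_card_ge hP (by rw [h1]; exact h2.le)
    have h4 := Inv.isQuasiDihedral_sylow_GL2 P (by simp)
    rw [← h3] at h4
    exact Inv.isQuasiDihedral_of_equiv (MonoidHom.ofInjective hψ).symm h4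

end Cfsg.Agent.S3370
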