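import Cfsg.Statements.S3149
import Mathlib
import Cfsg.Agent.Std.RuS
import Cfsg.Agent.Std.RedK2
import Cfsg.Agent.X32.Frame
import Cfsg.Agent.TT.TildeCover
import Cfsg.Agent.Spor.MultRu
import Cfsg.Agent.Spor.ModelRu
import Cfsg.Agent.S2077

set_option autoImplicit false
open Cfsg

namespace Cfsg.Agent.S3149

open Subgroup Agent.Std Std.RuS X32 X32.TG Agent.Comp KSG.Pc Spor

theorem conj_inj {Y : Type*} [Group Y] {a u v : Y} : a * u * a⁻¹ = a * v * a⁻¹ ↔ u = v := by simp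


section
variable {Y : Type*} [Group Y] [Finite Y] {f : S →* Y} (hf : Function.Injective f)
  (hY : Nat.card Y = 291852288000)
include hf hY

theorem conj_in {w : Y} {j : ℕ} (h : w ^ 2 ^ j = 1) : ∃ m k, w = m * f k * m⁻¹ := by
  have h1 : Nat.card (⊤ : Subgroup S) = 2 ^ 15 := by rw [card_top, TG.card]; rfl
  obtain ⟨m, -, k, -, e⟩ := Setup.conj_inv (φ := f) (M := ⊤) (IsPGroup.of_card h1) (by
    rw [relIndex_of_card (b := 8906625) le_top ((card_map_of_injective hf).trans h1)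
      (by rw [card_top, hY]; norm_num)]; norm_num) (mem_top w) h
  exact ⟨m⁻¹, k, by rw [← e]; group⟩

variable (hc : f (e 1) ∈ center Y)
include hc

omit hY hf [Finite Y] in
theorem conj_tau (m : Y) : m * f (e 1) * m⁻¹ = f (e 1) := by
  rw [mem_center_iff.1 hc m, mul_inv_cancel_right]

theorem four_ne (h2 : f (e 1) * f (e 1) = 1) (b : Y) : b * b * (b * b) ≠ f (e 1) := fun h => by
  obtain ⟨m, k, rfl⟩ := conj_in hf hY (w := b) (j := 3) (by
    rw [← h2, ← h]; simp only [pow_succ, pow_zero, one_mul, mul_assoc, Nat.reduceMul])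
  rw [conj_mul, conj_mul, ← conj_tau hc m, conj_inj, ← map_mul, ← map_mul] at h
  exact (fA k).1 (hf h)

theorem rootFact (h2 : f (e 1) * f (e 1) = 1) (hZ : ∀ y ∈ center Y, y = 1 ∨ y = f (e 1)) :
    RootFact (f (e 1)) := fun a h4 hn => by
  have e4 : a ^ 4 = a * a * (a * a) := by simp only [pow_succ, pow_zero, one_mul, mul_assoc]
  have h1 := (hZ _ h4).resolve_right (e4 ▸ four_ne hf hY hc h2 a)
  obtain ⟨m, k, rfl⟩ := conj_in hf hY (w := a) (j := 2) h1
  rw [e4, conj_mul, conj_mul, conj_eq_one_iff, ← map_mul, ← map_mul, map_eq_one_iff f hf] at h1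
  rw [conj_mul, ← map_mul] at hn ⊢
  obtain ⟨c, -, c1, c2, c3, c4, c5⟩ := (((fA k).2.2 h1).resolve_left fun c => hn (by
    simp [c])).resolve_left fun c => hn (by rwa [c, conj_tau hc])
  refine ⟨m * f c * m⁻¹, (c1.map f).map (MulAut.conj m), m * f (c * k * c⁻¹ * k⁻¹) * m⁻¹,
    by simp [mul_assoc], by rw [conj_mul, ← map_mul, c2]; simp,
    fun d => c3 (hf ((conj_eq_one_iff.1 d).trans (map_one f).symm)), fun d => c4 (hf (conj_inj.1 d)),
    fun d => c5 (hf ((conj_inj (a := m)).1 ?_))⟩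
  rw [d, ← conj_tau hc m, conj_mul, map_mul f (k * k)]

theorem noCent (h2 : f (e 1) * f (e 1) = 1)
    (hfu : ∀ p ∈ fw, ∃ g, f (e p.1) = g * f (e p.2.1) * g⁻¹) (T : Set Y) :
    ¬ CentSys (f (e 1)) T := fun h => by
  have key : ∀ k : S, k * k = 1 → k = 1 ∨ k = e 1 ∨ ∃ b, b * b * (b * b) = f k := fun k => by
    induction hn : k.v using Nat.strong_induction_on generalizing k with
    | _ n ih =>
      intro hk
      rcases (fA k).2.1 hk with c | c | ⟨p, hp, rfl⟩ | ⟨g, -, c⟩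
      · exact .inl c
      · exact .inr (.inl c)
      · obtain ⟨g, e1⟩ := hfu p hp
        obtain ⟨b, -, e2⟩ := fB p hp
        exact .inr (.inr ⟨g * f b * g⁻¹, by rw [e1, ← e2, conj_mul, conj_mul]; simp⟩)
      · rcases ih _ (hn ▸ c) _ rfl (by rw [conj_mul, hk]; simp) with d | d | ⟨b, d⟩
        · exact .inl (conj_eq_one_iff.1 d)
        · exact .inr (.inl (hf ((conj_inj (a := f g)).1 (by rw [conj_tau hc, ← d]; simp))))
        · refine .inr (.inr ⟨(f g)⁻¹ * b * (f g)⁻¹⁻¹, ?_⟩)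
          rw [conj_mul, conj_mul, d]; simp [mul_assoc]
  obtain ⟨s, hs, ne⟩ := h.ex
  obtain ⟨m, k, rfl⟩ := conj_in hf hY (w := s) (j := 1) (by rw [pow_one, pow_two, h.sq hs])
  have h3 := h.sq (h.conj_iff.1 hs)
  rcases key k (hf (by rw [map_mul, h3, map_one])) with rfl | rfl | ⟨b, hb⟩
  · exact h.ne_one hs (by simp)
  · exact ne (conj_tau hc m)
  · have hb2 : b ∈ zpowers b := mem_zpowers b
    obtain ⟨ψ, -, c, -⟩ := h.emb _ (h.conj_iff.1 hs) (zpowers b) (PLocal.Amb.isPGroup_zpowers ⟨3, by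
      rw [← h3, ← hb]; simp only [pow_succ, pow_zero, one_mul, mul_assoc, Nat.reduceMul]⟩)
      (by
        rintro _ ⟨n, rfl⟩
        have := Commute.refl b
        exact hb ▸ ((this.mul_right this).mul_right (this.mul_right this)).zpow_left n)
    exact four_ne hf hY hc h2 (ψ ⟨b, hb2⟩) (by rw [← map_mul, ← map_mul]; exact c _ hb)

end

theorem cover : ∃ ξ : X →* gen ModelRu.ns ModelRu.G_ss0, Function.Surjective ξ ∧
    ξ.ker ≤ center _ ∧ (gen CovRu.ns [[32]]).subgroupOf X ≤ ξ.ker ⊓ commutator X := by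
  have := exists_cover CovRu.ctx ModelRu.ctx (ps := CovRu.ps) CovRu.chk
    (((CovRu.X_ver0.nested CovRu.X_l8 (by simp [CovRu.X_C0, CovRu.X_C1, CovRu.X_C2, CovRu.X_C3,
      CovRu.X_C4, CovRu.X_C5, CovRu.X_C6, CovRu.X_C7, CovRu.X_C8])).trans CovRu.X_eq.ge :))
    (CovRu.X_eq ▸ CovRu.hb :) (CovRu.X_eq ▸ CovRu.hb' :)
  have e1 : KSG.Pc.mapR Prod.fst CovRu.ps = CovRu.X_ss0 := rfl
  have e2 : KSG.Pc.mapR Prod.snd CovRu.ps = ModelRu.G_ss0 := rfl
  rwa [e1, e2] at this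

theorem model : ∃ ξ : X →* gen ModelRu.ns ModelRu.G_ss0, TT.DCov ξ (φ (e 1)) := by
  obtain ⟨ξ, h1, h2, h3⟩ := cover
  have e1 : φ (e 1) = x 0 := PcT.el_pow (i := 0) (by norm_num)
  have h4 : φ (e 1) ∈ ξ.ker ⊓ commutator X := h3 (e1 ▸ wp_mem_gen _ List.mem_cons_self)
  have h5 : φ (e 1) ≠ 1 := fun c => (BD.of (by decide +kernel) : (e 1 : S) ≠ 1)
    (φ_inj (c.trans (map_one φ).symm))
  have h6 : Nat.card ξ.ker = 2 := by
    have := ξ.ker.card_mul_index
    rw [index_ker, MonoidHom.range_eq_top.2 h1, card_top] at this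
    rw [ModelRu.G_card, CovRu.X_card] at this
    omega
  obtain ⟨y, -, h7⟩ := (Nat.card_eq_two_iff' (1 : ξ.ker)).1 h6
  have h8 : ∀ a, ξ a = 1 ↔ a = 1 ∨ a = φ (e 1) := fun a => ⟨fun c => or_iff_not_imp_left.2 fun d =>
    congrArg Subtype.val ((h7 ⟨a, c⟩ fun c => d (congrArg Subtype.val c)).trans
      (h7 ⟨_, h4.1⟩ fun c => h5 (congrArg Subtype.val c)).symm), by
    rintro (rfl | rfl)
    exacts [map_one ξ, h4.1]⟩
  refine ⟨ξ, Group.isPerfect_def.2 ?_, h1, h2 h4.1, h5, by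
    rw [← map_mul, show (e 1 * e 1 : S) = 1 from BD.of (by decide +kernel), map_one], h8⟩
  have := ModelRu.isSimple
  have c : ((commutator X).map ξ).comap ξ = ⊤ := by
    rw [map_commutator_eq, MonoidHom.range_eq_top.2 h1, ← commutator_def]
    exact (congrArg (comap ξ) (commutator_eq_top_of_simple (K := gen ModelRu.ns ModelRu.G_ss0)
      (by rw [ModelRu.G_card]; norm_num))).trans (comap_top ξ)
  rwa [comap_map_eq, sup_eq_left.2 fun a ha => by
    rcases (h8 a).1 ha with rfl | rfl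
    exacts [one_mem _, h4.2]] at c

theorem fusX : ∀ p ∈ fw, ∃ g, φ (e p.1) = g * φ (e p.2.1) * g⁻¹ := fun p hp => by
  have h := (allL_iff _ _).1 fus p hp
  simp only [and'_eq_true, blt_iff] at h
  have := hQ _ _ h.2.2
  rw [appendR_eq, evL_cons, evL_append, ← s15.hom_e (h := 32768) rfl h.1,
    ← s15.hom_e (h := 32768) rfl h.2.1, evL_cons, evL_nil, mul_one] at this
  exact ⟨(x p.2.2)⁻¹, by rw [inv_inv, mul_assoc, eq_inv_mul_iff_mul_eq]; exact this⟩


/-- Let G be a finite group with no nontrivial normal subgroup of odd order and A a standard subgroup of G which is a double cover of the Rudvalis group (the centre of A has order 2 and A modulo its centre is isomorphic to the Rudvalis group). If the centralizer of A in G has cyclic Sylow 2-subgroups, then A is normal in G. -/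
theorem result {G : Type*} [Group G] [Finite G] (hO : Cfsg.oddCore G = ⊥) (A : Subgroup G) (hA : Cfsg.IsStandardSubgroup A)
    (hZ : Nat.card ↥(Subgroup.center ↥A) = 2) (hAX : Cfsg.Spor.IsoRu (↥A ⧸ Subgroup.center ↥A))
    (hR : ∀ R : Sylow 2 ↥(Subgroup.centralizer (A : Set G)), IsCyclic ↥(R : Subgroup ↥(Subgroup.centralizer (A : Set G)))) : A.Normal := by
  obtain ⟨ε⟩ := hAX
  obtain ⟨ξ, D⟩ := model
  obtain ⟨t, ht, h0, h1, h2⟩ := Std.exists_center_inv hZ
  have cen : ∀ a : A, a ∈ center A ↔ (a : G) ∈ centralizer (A : Set G) := fun a =>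
    ⟨fun h b hb => congrArg Subtype.val (mem_center_iff.1 h ⟨b, hb⟩),
      fun h => mem_center_iff.2 fun b => Subtype.ext (h b b.2)⟩
  have h3 : ∀ a ∈ center A, a = 1 ∨ a = ⟨t, h0⟩ := fun a ha =>
    (h2 a a.2 ((cen a).1 ha)).imp Subtype.ext Subtype.ext
  have o : orderOf (⟨t, h0⟩ : A) = 2 := by rw [← ht, ← orderOf_coe]
  have tt : (⟨t, h0⟩ : A) * ⟨t, h0⟩ = 1 := by rw [← pow_two, ← o, pow_orderOf_eq_one]
  obtain ⟨ψ, hψ⟩ := TT.DCov.exists_equiv (MulEquiv.refl _) (e := 1)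
    (MultRu.geq ▸ MultRu.bounds (2, 1) (by simp)) (n := 1) le_rfl (σ := fun _ => ξ) (fun _ => D)
    (fun i j c => absurd (Subsingleton.elim i j) c) (w := (⟨t, h0⟩ : A))
    (π := (ε.trans ModelRu.equiv).toMonoidHom.comp (QuotientGroup.mk' _))
    ⟨hA.1.1, (ε.trans ModelRu.equiv).surjective.comp (QuotientGroup.mk'_surjective _),
      (cen _).2 h1, fun c => by simp [c] at o, tt, fun a => by
        simpa using ⟨h3 a, by rintro (rfl | rfl); exacts [one_mem _, (cen _).2 h1]⟩⟩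
  have hf : Function.Injective (ψ.toMonoidHom.comp φ) := ψ.injective.comp φ_inj
  have hY : Nat.card A = 291852288000 := (Nat.card_congr ψ.toEquiv).symm.trans CovRu.X_card
  have e1 : (ψ.toMonoidHom.comp φ) (e 1) = ⟨t, h0⟩ := hψ
  refine Std.normal_of_centSys hO hA hR (MulEquiv.refl _) o ((cen _).2 h1) h3
    (Std.inner_of_out hA.1.1.1 ?_)
    (e1 ▸ rootFact hf hY (e1 ▸ (cen _).2 h1) (e1 ▸ tt) (e1 ▸ h3))
    (e1 ▸ noCent hf hY (e1 ▸ (cen _).2 h1) (e1 ▸ tt) fun p hp =>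
      (fusX p hp).elim fun g c => ⟨ψ g, by simp [c]⟩)
  rw [← S2077.result]
  refine Nat.card_congr (QuotientGroup.congr _ _ (MulAut.congr ε) ?_).toEquiv
  ext α
  constructor
  · rintro ⟨_, ⟨g, rfl⟩, rfl⟩
    exact ⟨ε g, by ext x; simp⟩
  · rintro ⟨g, rfl⟩
    exact ⟨_, ⟨ε.symm g, rfl⟩, by ext x; simp⟩

end Cfsg.Agent.S3149
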