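import Cfsg.Statements.S2862
import Mathlib
import Cfsg.Agent.PLocal.FrakM
import Cfsg.Agent.PLocal.PIrred
import Cfsg.Agent.Grp.Zipper

set_option autoImplicit false
set_option linter.unusedVariables false
open Cfsg

namespace Cfsg.Agent.S2862

open Subgroup Cfsg.Agent.PLocal Cfsg.Agent.PLocal.Amb Cfsg.Agent.Grp
open Cfsg.Agent.PLocal.CP (ncl IsCharP secCent)
open scoped commutatorElement

open scoped Cfsg.Agent.PLocal.CP

section aux
variable {G : Type*} [Group G] [Finite G] {p : ℕ} [Fact p.Prime]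

theorem le_normalizer_of_forall {Y R X : Subgroup G} (hR : IsPGroup p R) (hYR : Y ≤ R)
    (hRX : R ≤ X) (hX : X ≤ 𝐍[R])
    (h : ∀ x ∈ X, cj(x, Y) ≤ 𝐍[Y] → Y ≤ 𝐍[cj(x, Y)] → x ∈ 𝐍[Y]) : X ≤ 𝐍[Y] := by
  have key : ∀ R' : Subgroup G, Y ≤ R' → R' ≤ 𝐍[Y] → ∀ x ∈ X, x ∈ 𝐍[R'] → x ∈ 𝐍[Y] := by
    intro R' h1 h2 x hx hx'
    refine h x hx ((cj_le_of_mem_normalizer h1 hx').trans h2) ?_
    rw [normalizer_cj]
    refine le_trans ?_ (cj_mono x h2)
    rwa [cj_of_mem_normalizer hx']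
  have h0 : R ⊓ 𝐍[Y] = R :=
    eq_of_inf_normalizer_le hR inf_le_left fun x hx =>
      ⟨hx.1, key _ (le_inf hYR le_normalizer) inf_le_right x (hRX hx.1) hx.2⟩
  exact fun x hx => key R hYR (inf_eq_left.1 h0) x hx (hX hx)

theorem pRes_ncl_le_centralizer {H O B : Subgroup G} (hO : IsPGroup p O) (hB : B ≤ H)
    (h : ∀ V W : Subgroup G, V ≤ O → H ≤ 𝐍[V] → H ≤ 𝐍[W] → W < V →
      (∀ Z : Subgroup G, H ≤ 𝐍[Z] → W ≤ Z → Z ≤ V → Z = W ∨ Z = V) → ⁅V, B⁆ ≤ W)
    (V : Subgroup G) (hV : V ≤ O) (hn : H ≤ 𝐍[V]) : 𝐎[p, ncl B H] ≤ 𝐂[V] := by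
  induction V using WellFoundedLT.induction with
  | _ V ih =>
    by_cases h0 : V = ⊥
    · subst h0
      intro x _ y hy
      rw [SetLike.mem_coe, mem_bot] at hy
      rw [hy, one_mul, mul_one]
    obtain ⟨W, hW, hmax⟩ := (Set.toFinite {W : Subgroup G | H ≤ 𝐍[W] ∧ W < V}).exists_maximal
      ⟨⊥, le_normalizer_of_normal, bot_lt_iff_ne_bot.2 h0⟩
    have h1 := h V W hV hn hW.1 hW.2 fun Z a1 a2 a3 => by
      rcases a3.lt_or_eq with a4 | a4
      · exact Or.inl (le_antisymm (hmax ⟨a1, a4⟩ a2) a2)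
      · exact Or.inr a4
    refine CP.pRes_le_centralizer_of_commutator_le (hO.to_le (hW.2.le.trans hV))
      (ih W hW.2 (hW.2.le.trans hV) hW.1) ?_
    rw [commutator_comm]
    exact CP.commutator_ncl_le hn hW.1 (hB.trans hW.1) h1

theorem star {S M H L : Subgroup G} (h : WC.FM p S M) (ha : ¬ IsSymmetricIn 𝐘[p, M])
    (hH : IsInFrakH p M H) (hLH : L ≤ H) (hYO : ¬ 𝐘[p, M] ≤ pCoreOf p L) {g : G} (hg : g ∈ L)
    (hL : 𝐘[p, M] ⊔ cj(g, 𝐘[p, M]) = L) {x : G} (hx : x ∈ L) (hc : cj(x, 𝐘[p, M]) ≤ 𝐂[𝐘[p, M]]) :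
    x ∈ 𝐍[𝐘[p, M]] := by
  have hw := h.isWC_core ha
  set Y := 𝐘[p, M] with hY
  set P := pCoreOf p M with hP
  set O := pCoreOf p H with hO
  have hHc : IsCharP p H := CP.isCharP_iff.2 hH.1
  have hPH : P ≤ H := hH.2.1
  have hYP : Y ≤ P := CP.Y_le_pCoreOf p M
  have hPC : P ≤ 𝐂[Y] := CP.pCoreOf_le_centralizer_Y p M
  have hYL : Y ≤ L := le_sup_left.trans hL.le
  have hYC : Y ≤ 𝐂[Y] := hYP.trans hPC
  have hHO : H ≤ 𝐍[O] := le_normalizer_pCoreOf p H
  have hOH : O ≤ H := pCoreOf_le p H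
  have hOP : O ≤ 𝐍[P] := hw.pCoreOf_le_normalizer (hPH.trans le_normalizer)
  have hOY : O ≤ 𝐍[Y] := hOP.trans h.normalizer_core_le
  have hcjO : ∀ l ∈ H, cj(l, O) = O := fun l hl => cj_of_mem_normalizer (hHO hl)
  set E := ⁅O, Y⁆ with hE
  have hEOY : E ≤ O ⊓ Y := WC.commutator_le_inf_of hOY ((hYL.trans hLH).trans hHO)
  have hEcj : ∀ l ∈ H, cj(l, E) = ⁅O, cj(l, Y)⁆ := fun l hl => by
    rw [hE, ← commutator_cj, hcjO l hl]
  have hEO : ∀ l ∈ H, cj(l, E) ≤ O := fun l hl =>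
    cj_le_of_mem_normalizer (hEOY.trans inf_le_left) (hHO hl)
  have hOE : O ≤ 𝐍[E] := normalizer_commutator_ge_left _ _
  have hOEg : O ≤ 𝐍[cj(g, E)] := by
    rw [hEcj g (hLH hg)]; exact normalizer_commutator_ge_left _ _
  set D := E ⊔ cj(g, E) with hD
  have hDO : D ≤ O := sup_le (hEOY.trans inf_le_left) (hEO g (hLH hg))
  have hLD0 : L ≤ 𝐍[D] := by
    rw [← hL]
    refine sup_le ?_ ?_
    · exact WC.le_normalizer_of_commutator_le_of_le (A := O) le_sup_left hDO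
    · exact WC.le_normalizer_of_commutator_le_of_le (A := O)
        ((hEcj g (hLH hg)).ge.trans le_sup_right) hDO
  have hOL : ⁅O, L⁆ ≤ D := by
    rw [← hL]
    exact CommMod.commutator_sup_le' (hYL.trans hLD0)
      ((le_sup_right.trans hL.le).trans hLD0) le_sup_left
      ((hEcj g (hLH hg)).ge.trans le_sup_right)
  have hCL : 𝐂[Y] ⊓ 𝐂[cj(g, Y)] = 𝐂[L] := by rw [← Amb.centralizer_sup, hL]
  have hEgC : cj(g, E) ≤ 𝐂[cj(g, Y)] := by
    rw [centralizer_cj]; exact cj_mono g ((hEOY.trans inf_le_right).trans hYC)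
  set B₁ := O ⊓ 𝐂[Y] with hB₁
  have hEB₁ : E ≤ B₁ := hEOY.trans (inf_le_inf_left _ hYC)
  have hdec : ∀ c ∈ B₁, ∃ e ∈ E, e * c ∈ 𝐂[L] := by
    intro c hc
    have a1 : ⁅c, g⁆ ∈ D := hOL (commutator_mem_commutator hc.1 hg)
    obtain ⟨e, he, e', he', hee⟩ := (mem_sup_of_le_normalizer_right
      ((hEOY.trans inf_le_left).trans hOEg)).1 a1
    refine ⟨e⁻¹, inv_mem he, ?_⟩
    rw [← hCL]
    refine ⟨(𝐂[Y]).mul_mem ((𝐂[Y]).inv_mem (hEB₁ he).2) hc.2, ?_⟩
    have a2 : e⁻¹ * c = e' * (g * c * g⁻¹) := by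
      have : e' = e⁻¹ * ⁅c, g⁆ := by rw [hee]; group
      rw [this, commutatorElement_def]; group
    rw [a2]
    refine (𝐂[cj(g, Y)]).mul_mem (hEgC he') ?_
    rw [centralizer_cj]
    exact conj_mem_cj g hc.2
  have hExB₁ : cj(x, E) ≤ B₁ :=
    le_inf (hEO x (hLH hx)) ((cj_mono x (hEOY.trans inf_le_right)).trans hc)
  have hxB₁ : x ∈ 𝐍[B₁] := by
    refine mem_normalizer_of_cj_le (cj_le_iff_forall.2 fun c hc => ?_)
    obtain ⟨e, he, hec⟩ := hdec c hc
    have a1 : x * (e * c) = (e * c) * x := hec x hx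
    have a2 : x * c * x⁻¹ = (x * e * x⁻¹)⁻¹ * (e * c) := by
      calc x * c * x⁻¹ = (x * e * x⁻¹)⁻¹ * (x * (e * c)) * x⁻¹ := by group
        _ = _ := by rw [a1]; group
    rw [a2]
    exact B₁.mul_mem (B₁.inv_mem (hExB₁ (conj_mem_cj x he))) (B₁.mul_mem (hEB₁ he) hc)
  set B := D ⊓ B₁ with hB
  have hEB : E ≤ B := le_inf le_sup_left hEB₁
  have hxB : x ∈ 𝐍[B] := by
    have := le_normalizer_inf (L := zpowers x) (zpowers_le.2 (hLD0 hx)) (zpowers_le.2 hxB₁)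
    exact this (mem_zpowers x)
  have hBY : B ≤ Y := by
    intro b hb
    obtain ⟨e, he, e', he', rfl⟩ := (mem_sup_of_le_normalizer_right
      ((hEOY.trans inf_le_left).trans hOEg)).1 hb.1
    refine Y.mul_mem (hEOY he).2 ?_
    have a1 : e' ∈ 𝐂[L] := by
      rw [← hCL]
      refine ⟨?_, hEgC he'⟩
      have := (𝐂[Y]).mul_mem ((𝐂[Y]).inv_mem (hEB₁ he).2) hb.2.2
      simpa using this
    have a2 := cj_mono g (hEOY.trans inf_le_right) he'
    rw [mem_cj] at a2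
    have a3 : g * e' = e' * g := a1 g hg
    have a4 : g⁻¹ * e' * g = e' := by rw [mul_assoc, ← a3]; group
    rwa [a4] at a2
  set K := P ⊔ zpowers x with hK
  have hPK : P ≤ K := le_sup_left
  have hKH : K ≤ H := sup_le hPH (zpowers_le.2 (hLH hx))
  have hPB : P ≤ 𝐂[B] := hPC.trans (centralizer_anti hBY)
  have hKB : K ≤ 𝐍[B] := sup_le (hPB.trans (centralizer_le_normalizer' _)) (zpowers_le.2 hxB)
  have hKB₁ : K ≤ 𝐍[B₁] := sup_le (le_normalizer_inf (hPH.trans hHO)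
    (le_normalizer_centralizer (hPC.trans (centralizer_le_normalizer' _)))) (zpowers_le.2 hxB₁)
  have hKlt : K < H := by
    refine lt_of_le_of_ne hKH fun h0 => hYO ?_
    have a1 : cj(g, E) ≤ 𝐂[L] := by
      rw [← hCL]
      exact le_inf ((cj_le_of_mem_normalizer hEB₁ (hKB₁ (h0.ge (hLH hg)))).trans inf_le_right) hEgC
    have a2 : E ≤ 𝐂[L] := by
      rw [cj_le_iff, ← centralizer_cj, cj_of_mem (L.inv_mem hg)] at a1
      exact a1
    have a3 : 𝐎[p, L] ≤ 𝐂[O] := CP.pRes_le_centralizer_of_commutator_le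
      ((isPGroup_pCoreOf p H).to_le hDO)
      ((pRes_le p L).trans (WC.le_centralizer_comm.1 (sup_le a2 a1)))
      (by rw [commutator_comm]; exact hOL)
    have a4 : IsPGroup p L := isPGroup_of_pRes_le (isPGroup_pCoreOf p H)
      ((le_inf ((pRes_le p L).trans hLH) a3).trans hHc)
    rw [pCoreOf_eq_self a4]
    exact hYL
  have hYK := hH.2.2.2 K hPK hKlt
  set U := ncl Y K with hU
  have hKU : K ≤ 𝐍[U] := CP.le_normalizer_ncl Y K
  have hUK : U ≤ K := CP.ncl_le_of_le (hYP.trans hPK)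
  have hUea : IsElementaryAbelian p U := isEA_mono
    (WC.isEA_ncl_of_asym (CP.Y_isEA p M) ha hYK
      ((hw.pCoreOf_le_normalizer (hPK.trans le_normalizer)).trans h.normalizer_core_le))
    (CP.ncl_mono le_rfl (le_normalizer_pCoreOf p K))
  have hUC : U ≤ 𝐂[Y] := (isEA_le_centralizer hUea).trans (centralizer_anti (CP.le_ncl Y K))
  set F := ncl P K with hF
  have hFK : F ≤ K := CP.ncl_le_of_le hPK
  have hFB : F ≤ 𝐂[B] := CP.ncl_le hPB (le_normalizer_centralizer hKB)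
  have hB₁U : B₁ ≤ 𝐂[U] := CP.le_centralizer_ncl inf_le_right hKB₁
  have hKO : K ≤ 𝐍[O] := hKH.trans hHO
  have c1 : ⁅O, U⁆ ≤ B := CP.commutator_ncl_le hKO hKB ((hYP.trans hPK).trans hKB) hEB
  have c2 : ⁅O, F⁆ ≤ B₁ := CP.commutator_ncl_le hKO hKB₁ (hPK.trans hKB₁)
    ((WC.commutator_le_inf_of hOP (hPK.trans hKO)).trans (inf_le_inf_left _ hPC))
  have c3 : ⁅⁅U, F⁆, O⁆ = ⊥ := by
    refine commutator_commutator_eq_bot_of_rotate ?_ ?_
    · rw [commutator_eq_bot_iff_le_centralizer, commutator_comm]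
      exact c2.trans hB₁U
    · rw [commutator_eq_bot_iff_le_centralizer]
      exact c1.trans (WC.le_centralizer_comm.1 hFB)
  have c4 : ⁅U, F⁆ ≤ B₁ := by
    have a1 : ⁅U, F⁆ ≤ U := WC.commutator_le_left_of (hFK.trans hKU)
    refine le_inf (le_trans (le_inf (a1.trans (hUK.trans hKH)) ?_) hHc) (a1.trans hUC)
    rwa [← commutator_eq_bot_iff_le_centralizer]
  have c5 : 𝐎[p, K] ≤ secCent B₁ B := by
    have a1 : K ≤ secCent B₁ B ⊔ P := by
      refine sup_le le_sup_right (le_sup_left.trans' (zpowers_le.2 ?_))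
      refine CP.mem_secCent.2 ⟨hxB, fun c hc => ?_⟩
      obtain ⟨e, he, hec⟩ := hdec c hc
      have b1 : x * (e * c) = (e * c) * x := hec x hx
      have b2 : ⁅x, c⁆ = (x * e * x⁻¹)⁻¹ * e := by
        rw [commutatorElement_def]
        calc x * c * x⁻¹ * c⁻¹ = (x * e * x⁻¹)⁻¹ * (x * (e * c)) * x⁻¹ * c⁻¹ := by group
          _ = _ := by rw [b1]; group
      rw [b2]
      exact B.mul_mem (B.inv_mem (conj_mem_of_mem_normalizer hxB (hEB he))) (hEB he)
    exact (pRes_mono a1).trans (pRes_sup_le hw.pgrp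
      (hPK.trans (CP.le_normalizer_secCent hKB₁ hKB)))
  have hOp := isPGroup_pCoreOf p H
  have c6 : 𝐎[p, F] ≤ 𝐂[B₁] := by
    have := CP.pRes_le_centralizer_of_commutator_le (D := 𝐎[p, F]) (U := B) (V := B₁)
      (hOp.to_le (inf_le_left.trans hDO)) (((pRes_le _ _).trans (pRes_le _ _)).trans hFB)
      (CP.le_secCent_iff.1 ((pRes_mono hFK).trans c5)).2
    rwa [pRes_pRes] at this
  have c7 : 𝐎[p, F] ≤ 𝐂[U] := CP.pRes_le_centralizer_of_commutator_le (hOp.to_le inf_le_left) c6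
    (by rw [commutator_comm]; exact c4)
  have c8 : F ≤ 𝐍[Y] := by
    have := hw.pRes_wcl_sup hPK
    rw [hw.wcl_eq_ncl hPK] at this
    rw [hF, ← this]
    exact sup_le ((c7.trans (centralizer_anti (CP.le_ncl Y K))).trans
      (centralizer_le_normalizer' _)) (hPC.trans (centralizer_le_normalizer' _))
  obtain ⟨k, hk, n, hn, he⟩ := hw.frattini (CP.le_ncl P K)
    (CP.le_normalizer_ncl P K (le_sup_right (a := P) (mem_zpowers x)))
  rw [he]
  exact (𝐍[Y]).mul_mem (c8 hk) (h.normalizer_core_le hn)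

end aux

/-- Standing hypotheses: G a finite group, S a Sylow p-subgroup, Q a nontrivial large p-subgroup of G contained in S, M a subgroup containing S with the basic property (M ∈ 𝔐_G(S)); Y_M the largest p-reduced normal subgroup of M and M† = M·C_G(Y_M). Suppose Y_M is char-p-tall and asymmetric in G, H ∈ ℌ_G(O_p(M)), and L is minimal among the subgroups of H containing Y_M with Y_M ≰ O_p(L). Then H = ⟨L, O_p(M)⟩ = ⟨hY_Mh⁻¹, O_p(M)⟩ for every h ∈ L outside N_L(Y_M); L is Y_M-minimal and of characteristic p, with N_L(Y_M) the unique maximal subgroup of L containing Y_M; [V, O^p(L)] ≠ 1 for every noncentral chief factor V/W of H inside O_p(H) (that is, O^p(L) does not act trivially on V/W); and the normal closure of O_p(L) ∩ Y_M in L lies in O_p(H). -/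
theorem result {G : Type*} [Group G] [Finite G] {p : ℕ} [Fact p.Prime] (S : Sylow p G) (Q : Subgroup G) (hQp : IsPGroup p ↥Q) (hQ1 : Q ≠ ⊥) (hQS : Q ≤ (S : Subgroup G)) (hQ : Cfsg.IsLarge Q) (M : Subgroup G) (hSM : (S : Subgroup G) ≤ M) (hM : Cfsg.IsInFrakM p M) (htall : Cfsg.IsCharPTall p (Cfsg.largestPReducedOf p M)) (hasym : ¬ Cfsg.IsSymmetricIn (Cfsg.largestPReducedOf p M)) (H : Subgroup G) (hH : Cfsg.IsInFrakH p M H) (L : Subgroup G) (hLH : L ≤ H) (hYL : (Cfsg.largestPReducedOf p M) ≤ L) (hYO : ¬ (Cfsg.largestPReducedOf p M) ≤ (Cfsg.pCoreOf p L)) (hmin : ∀ L' : Subgroup G, L' ≤ L → (Cfsg.largestPReducedOf p M) ≤ L' → ¬ (Cfsg.largestPReducedOf p M) ≤ (Cfsg.pCoreOf p L') → L' = L) : (L ⊔ (Cfsg.pCoreOf p M) = H ∧ ∀ h ∈ L, h ∉ Subgroup.normalizer (((Cfsg.largestPReducedOf p M) : Subgroup G) : Set G) → (((Cfsg.largestPReducedOf p M) : Subgroup G).map (MulAut.conj (h : G)).toMonoidHom) ⊔ (Cfsg.pCoreOf p M)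 = H) ∧ (Cfsg.IsMinimalOver (((Cfsg.largestPReducedOf p M)).subgroupOf L) ∧ Subgroup.centralizer (Cfsg.pCore p ↥L : Set ↥L) ≤ Cfsg.pCore p ↥L ∧ L ⊓ Subgroup.normalizer (((Cfsg.largestPReducedOf p M) : Subgroup G) : Set G) < L ∧ ∀ X : Subgroup G, (Cfsg.largestPReducedOf p M) ≤ X → X < L → X ≤ L ⊓ Subgroup.normalizer (((Cfsg.largestPReducedOf p M) : Subgroup G) : Set G)) ∧ (∀ V W' : Subgroup G, V ≤ (Cfsg.pCoreOf p H) → H ≤ Subgroup.normalizer ((V : Subgroup G) : Set G) → H ≤ Subgroup.normalizer ((W' : Subgroup G) : Set G) → W' < V → (∀ Z' : Subgroup G, H ≤ Subgroup.normalizer ((Z' : Subgroup G) : Set G) → W' ≤ Z' → Z' ≤ V → Z' = W' ∨ Z' = V) → ¬ ⁅V, H⁆ ≤ W' → ¬ ⁅V, ((Cfsg.pResidual p ↥L).map (L).subtype)⁆ ≤ W') ∧ (Subgroup.normalClosure (((((Cfsg.pCoreOf p L) ⊓ (Cfsg.largestPReducedOf p M)).subgroupOf L : Subgroup ↥L)) : Set ↥L)).map L.subtype ≤ (Cfsg.pCoreOf p H) := by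
  have h := WC.FM.of_large S hQp hQ1 hQ hSM hM
  have hw := h.isWC_core hasym
  have hYp := CP.isPGroup_Y p M
  have hstar := fun g hg hL x hx => star h hasym hH hLH hYO (g := g) hg hL (x := x) hx
  set Y := 𝐘[p, M] with hY
  set P := pCoreOf p M with hP
  set O := pCoreOf p H with hO
  have hHc : IsCharP p H := CP.isCharP_iff.2 hH.1
  have hPH : P ≤ H := hH.2.1
  have hYP : Y ≤ P := CP.Y_le_pCoreOf p M
  have hPC : P ≤ 𝐂[Y] := CP.pCoreOf_le_centralizer_Y p M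
  have hOY : O ≤ 𝐍[Y] :=
    (hw.pCoreOf_le_normalizer (hPH.trans le_normalizer)).trans h.normalizer_core_le
  have hHO : H ≤ 𝐍[O] := le_normalizer_pCoreOf p H
  have hOH : O ≤ H := pCoreOf_le p H
  have hOp : IsPGroup p O := isPGroup_pCoreOf p H
  have hmin' : ∀ X, Y ≤ X → X < L → Y ≤ pCoreOf p X := fun X h1 h2 => by
    by_contra h0
    exact h2.ne (hmin X h2.le h1 h0)
  have hLP : L ⊔ P = H := by
    by_contra h0
    exact hYO ((le_inf hYL (hH.2.2.2 _ le_sup_right (lt_of_le_of_ne (sup_le hLH hPH) h0))).trans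
      (inf_pCoreOf_le le_sup_left))
  obtain ⟨M₀, hM₀, hM₀max⟩ := zipper hYL (fun h0 => hYO (CP.le_pCoreOf_of_snIn h0 hYp))
    fun W h1 h2 => (SnIn.of_isPGroup (isPGroup_pCoreOf p W) (hmin' W h1 h2)).trans
      (SnIn.of_le_normalizer (pCoreOf_le p W) (le_normalizer_pCoreOf p W))
  have hYlt : Y < L := lt_of_le_of_ne hYL fun h0 => hYO (by
    rw [← h0, pCoreOf_eq_self hYp])
  have hMO : CP.MinOver Y M₀ L := by
    refine ⟨hM₀max Y le_rfl hYlt, hM₀, ?_, hM₀max⟩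
    by_contra h0
    exact hYO ((hmin' _ (CP.le_ncl Y L) (lt_of_le_of_ne (CP.ncl_le_of_le hYL) h0)).trans
      (pCoreOf_mono_of_normal (CP.ncl_le_of_le hYL) (CP.le_normalizer_ncl Y L)))
  obtain ⟨g, hg, hgM⟩ := SetLike.exists_of_lt hM₀
  have hLg := hMO.sup_cj hg hgM
  have hM₀N : M₀ ≤ 𝐍[Y] :=
    le_normalizer_of_forall (isPGroup_pCoreOf p M₀) (hmin' M₀ hMO.le hM₀) (pCoreOf_le p M₀)
      (le_normalizer_pCoreOf p M₀) fun x hx h1 h2 =>
        hstar g hg hLg x (hM₀.le hx) (WC.le_centralizer_of_asym hasym h1 h2)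
  have hM₀eq : M₀ = L ⊓ 𝐍[Y] :=
    le_antisymm (le_inf hM₀.le hM₀N) (hMO.inf_normalizer_le le_rfl hMO.le)
  have hgen : ∀ k ∈ L, k ∉ 𝐍[Y] → cj(k, Y) ⊔ P = H := by
    intro k hk hkN
    refine le_antisymm (sup_le ((cj_le_of_mem hYL hk).trans hLH) hPH) ?_
    rw [← hLP, ← hMO.sup_cj hk fun h0 => hkN (hM₀N h0)]
    exact sup_le (sup_le (hYP.trans le_sup_right) le_sup_left) le_sup_right
  have hgN : g ∉ 𝐍[Y] := fun h0 => hgM (hM₀eq ▸ ⟨hg, h0⟩)
  have hcj : ∀ A : Subgroup G, A ≤ 𝐍[Y] → g ∈ 𝐍[A] → A ≤ 𝐍[cj(g, Y)] := fun A h1 h2 => by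
    rw [normalizer_cj]
    exact (cj_of_mem_normalizer h2).ge.trans (cj_mono g h1)
  refine ⟨⟨hLP, hgen⟩, ⟨(CP.isMinimalOver_subgroupOf_iff hYL).2 ⟨M₀, hMO⟩,
    CP.isCharP_iff.1 (hHc.of_le_normalizer hLH ?_), hM₀eq ▸ hM₀, hM₀eq ▸ hM₀max⟩, ?_, ?_⟩
  · rw [← hLg]
    exact le_normalizer_sup hOY (hcj O hOY (hHO (hLH hg)))
  · intro V W hVO hHV hHW hWV hchief hnc hc
    apply hnc
    have a1 : 𝐎[p, L] ⊔ Y = L := by
      have b1 : 𝐎[p, L] ⊔ Y ≤ L := sup_le (pRes_le p L) hYL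
      by_contra h0
      exact hYO ((hmin' _ le_sup_right (lt_of_le_of_ne b1 h0)).trans
        (WC.pCoreOf_le_of_pRes_le le_sup_left b1))
    obtain ⟨u, hu, huW, hur⟩ := CP.exists_notMem_commutator_mem (hOp.to_le hVO) hw.pgrp
      (hPH.trans hHV) (U₁ := W) hWV.not_ge
    have a2 : u ∈ V ⊓ CommMod.centMod H W := by
      refine ⟨hu, CommMod.mem_centMod.2 ⟨hHW (hOH (hVO hu)), fun y hy => ?_⟩⟩
      have b1 : ⁅zpowers u, H⁆ ≤ W := by
        rw [← hLP, ← a1, sup_assoc, sup_eq_right.2 hYP]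
        refine CommMod.commutator_sup_le' (((pRes_le p L).trans hLH).trans hHW) (hPH.trans hHW)
          ((commutator_mono (zpowers_le.2 hu) le_rfl).trans hc) ?_
        exact CommMod.commutator_zpowers_le (hHW (hOH (hVO hu)))
          fun r hr => (hur r (mem_sup_right hr)).2
      exact b1 (commutator_mem_commutator (mem_zpowers u) hy)
    rcases hchief (V ⊓ CommMod.centMod H W) (le_normalizer_inf hHV
      ((le_inf le_normalizer hHW).trans (CommMod.inf_normalizer_le_normalizer_centMod H W)))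
      (le_inf hWV.le (CommMod.le_centMod.2 ⟨le_normalizer, WC.commutator_le_left_of hHW⟩))
      inf_le_left with h0 | h0
    · exact absurd (h0 ▸ a2) huW
    · exact (CommMod.le_centMod.1 (h0.ge.trans inf_le_right)).2
  · rw [CP.map_normalClosure_subgroupOf (inf_le_right.trans hYL)]
    refine CP.ncl_le ?_ (hLH.trans hHO)
    set B := pCoreOf p L ⊓ Y with hB
    have hBH : B ≤ H := inf_le_right.trans (hYP.trans hPH)
    have hBg : B ≤ 𝐍[cj(g, Y)] := inf_le_left.trans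
      (hcj _ ((hMO.pCoreOf_le hYp).trans hM₀N) (le_normalizer_pCoreOf p L hg))
    have hgH : cj(g, Y) ≤ H := (cj_le_of_mem hYL hg).trans hLH
    have a1 := pRes_ncl_le_centralizer hOp hBH ?_ O le_rfl hHO
    · have a2 : ncl B H ≤ H := CP.ncl_le_of_le hBH
      exact (CP.le_ncl B H).trans (le_pCoreOf (isPGroup_of_pRes_le hOp
        ((le_inf ((pRes_le p _).trans a2) a1).trans hHc)) a2 (CP.le_normalizer_ncl B H))
    intro V W hVO hHV hHW hWV hchief
    set J := ⁅V, Y⁆ ⊓ ⁅V, cj(g, Y)⁆ with hJ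
    have hVH : V ≤ H := hVO.trans hOH
    have b1 : ⁅V, cj(g, Y)⁆ ≤ V ⊓ cj(g, Y) := WC.commutator_le_inf_of
      (hVO.trans (hcj O hOY (hHO (hLH hg)))) (hgH.trans hHV)
    have b2 : J ≤ 𝐂[H] := by
      rw [← hgen g hg hgN, Amb.centralizer_sup]
      refine le_inf (inf_le_right.trans (b1.trans (inf_le_right.trans ?_))) (inf_le_left.trans ?_)
      · rw [centralizer_cj]
        exact cj_mono g (hYP.trans hPC)
      · exact (WC.commutator_le_right_of (hVO.trans hOY)).trans (WC.le_centralizer_comm.1 hPC)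
    have b3 : H ≤ 𝐍[J] := (WC.le_centralizer_comm.1 b2).trans (centralizer_le_normalizer' _)
    have b4 : J ≤ V := inf_le_right.trans (b1.trans inf_le_left)
    rcases hchief (J ⊔ W) (le_normalizer_sup b3 hHW) le_sup_right (sup_le b4 hWV.le) with h0 | h0
    swap
    · rw [← h0]
      refine CommMod.commutator_sup_le ((b4.trans hVH).trans hHW) le_normalizer ?_
        (WC.commutator_le_left_of (hBH.trans hHW))
      rw [commutator_eq_bot_iff_le_centralizer.2 (b2.trans (centralizer_anti hBH))]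
      exact bot_le
    have b5 : J ≤ W := le_sup_left.trans h0.le
    have b6 : ⁅V, cj(g, Y)⁆ ≤ V ⊓ CommMod.centMod B W := by
      refine le_inf (b1.trans inf_le_left) (CommMod.le_centMod.2
        ⟨((b1.trans inf_le_left).trans hVH).trans hHW, le_trans ?_ b5⟩)
      exact le_inf (commutator_mono (b1.trans inf_le_left) inf_le_right)
        (WC.commutator_le_left_of (le_normalizer_commutator (hBH.trans hHV) hBg))
    have b7 : H ≤ 𝐍[(V ⊓ CommMod.centMod B W : Subgroup G)] := by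
      conv_lhs => rw [← hgen g hg hgN]
      refine sup_le (WC.le_normalizer_of_commutator_le_of_le b6 inf_le_left)
        (le_normalizer_inf (hPH.trans hHV) ?_)
      refine le_trans (le_inf ?_ (hPH.trans hHW))
        (CommMod.inf_normalizer_le_normalizer_centMod B W)
      exact (hPC.trans (centralizer_anti inf_le_right)).trans (centralizer_le_normalizer' _)
    obtain ⟨u, hu, huW, hur⟩ := CP.exists_notMem_commutator_mem (hOp.to_le hVO)
      (hYp.to_le (inf_le_right : B ≤ Y)) (hBH.trans hHV) (U₁ := W) hWV.not_ge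
    have b8 : u ∈ V ⊓ CommMod.centMod B W :=
      ⟨hu, CommMod.mem_centMod.2 ⟨hHW (hVH hu), fun r hr => (hur r (mem_sup_right hr)).2⟩⟩
    rcases hchief _ b7 (le_inf hWV.le (CommMod.le_centMod.2
      ⟨le_normalizer, WC.commutator_le_left_of (hBH.trans hHW)⟩)) inf_le_left with h1 | h1
    · exact absurd (h1 ▸ b8) huW
    · exact (CommMod.le_centMod.1 (h1.ge.trans inf_le_right)).2

end Cfsg.Agent.S2862
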