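import Cfsg.Statements.S1821
import Cfsg.Agent.QT.Setup

set_option autoImplicit false
open Cfsg

namespace Cfsg.Agent.S1821

open Subgroup Cfsg.Agent.PLocal Cfsg.Agent.PLocal.Amb Cfsg.Agent.Grp Cfsg.Agent.QT
open scoped commutatorElement

/-- Nonsolvable uniqueness groups in a simple QTKE-group. Let G be a non-abelian finite simple QTKE-group, T a Sylow 2-subgroup of G, and L a maximal member of ℒ(G, T) (so L is a 𝒞-component of ⟨L, T⟩, T is Sylow in ⟨L, T⟩ and O₂(⟨L, T⟩) ≠ 1, and L is maximal among such subgroups). Then (1) L is a 𝒞-component of every subgroup H of G with O₂(H) ≠ 1 containing ⟨L, T⟩; (2) F*(L) = O₂(L); and (3) N_G(⟨L^T⟩) is the unique maximal 2-local subgroup of G containing ⟨L, T⟩, so that ⟨L, T⟩ is a uniqueness subgroup. -/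
theorem result {G : Type*} [Group G] [Finite G] [IsSimpleGroup G]
    (hG : ¬ IsMulCommutative G) (hQ : Cfsg.IsQTKE G) (T : Sylow 2 G) (L : Subgroup G)
    (hL : L ∈ Cfsg.calLMax (T : Subgroup G)) :
    (∀ H ∈ Cfsg.calHOver (L ⊔ (T : Subgroup G)), L.subgroupOf H ∈ Cfsg.calC ↥H) ∧
    Cfsg.generalizedFittingSubgroup ↥L = Cfsg.pCore 2 ↥L ∧
    Cfsg.maxTwoLocalsContaining (L ⊔ (T : Subgroup G)) =
      {Subgroup.normalizer (Cfsg.conjClosure L (T : Subgroup G) : Set G)} := by
  obtain ⟨cL, hL2⟩ := mem_calL_iff.1 hL.1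
  have h1 : ∀ H : Subgroup G, pCoreOf 2 H ≠ ⊥ → L ⊔ (T : Subgroup G) ≤ H → IsCC L H := by
    intro H hH hle
    have hT : (T : Subgroup G) ≤ H := le_sup_right.trans hle
    obtain ⟨K, k1, k2⟩ := (cL.subgroupOf hle).exists_le (sqt_of_qt hQ.1 hH)
      (tameComp_of_qtke hG hQ hH) (isSyl_subgroupOf_top T hT) (comap_mono le_sup_right)
    have k3 : L ≤ K.map H.subtype := by
      rw [← map_subgroupOf_eq_of_le (le_sup_left.trans hle)]
      exact map_mono k2
    rw [← hL.2 _ (k1.map_subtype.mem_calL T hT hH) k3]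
    exact k1.map_subtype
  have hch : CP.IsCharP 2 L := (isCharP_of_even hQ.2.2 T le_sup_right hL2).of_snIn cL.sn
  refine ⟨fun H hH => (subgroupOf_mem_calC_iff (le_sup_left.trans hH.2)).2
    (h1 H (fun e => hH.1 (Amb.pCoreOf_eq_bot_iff.1 e)) hH.2), mem_calHe_iff.2 hch, ?_⟩
  have e : conjClosure L (T : Subgroup G) = CP.ncl L T := by
    apply le_antisymm
    · exact iSup_le fun t => CP.cj_le_ncl L t.2
    · exact CP.ncl_le_iff.2 fun g hg =>
        le_iSup (fun t : ↥(T : Subgroup G) => L.map (MulAut.conj (t : G)).toMonoidHom) ⟨g, hg⟩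
  rw [e]
  refine maxTwoLocals_eq hL2 (fun e' => pCoreOf_ne_bot_of_isCharP hch cL.ne (le_bot_iff.1 ?_))
    fun M hM hle => ?_
  · rw [← e']
    exact CP.pCoreOf_le_of_snIn (cL.sn.mono (CP.le_ncl _ _)
      (CP.ncl_le le_sup_left (le_sup_right.trans le_normalizer)))
  · have hH := pCoreOf_ne_bot_of_twoLocal hM.1
    have hT : (T : Subgroup G) ≤ M := le_sup_right.trans hle
    have h2 := (h1 M hH hle).subgroupOf_top.ncl_eq (sqt_of_qt hQ.1 hH) (isSyl_subgroupOf_top T hT)
    have h3 := congrArg (Subgroup.map M.subtype) h2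
    rw [CP.map_ncl, CP.map_ncl, map_subgroupOf_eq_of_le (le_sup_left.trans hle),
      map_subgroupOf_eq_of_le hT, ← MonoidHom.range_eq_map, range_subtype] at h3
    rw [h3]
    exact CP.le_normalizer_ncl L M

end Cfsg.Agent.S1821
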