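import Cfsg.Statements.S3863
import Mathlib


set_option autoImplicit false
open Cfsg

namespace Cfsg.Agent.S3863

theorem odd_inv {G : Type*} [Group G] {x t : G} (h : t * x * t⁻¹ = x⁻¹) {m : ℕ} (hm : Odd m) :
    t ^ m * x * (t ^ m)⁻¹ = x⁻¹ := by
  obtain ⟨k, rfl⟩ := hm
  have h2 : t * x⁻¹ * t⁻¹ = x := by rw [← conj_inv, h, inv_inv]
  induction k with
  | zero => simpa using h
  | succ k ih =>
    calc t ^ (2 * (k + 1) + 1) * x * (t ^ (2 * (k + 1) + 1))⁻¹
        = t * (t * (t ^ (2 * k + 1) * x * (t ^ (2 * k + 1))⁻¹) * t⁻¹) * t⁻¹ := by group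
      _ = _ := by rw [ih, h2, h]

/-- Let x be an element of the finite group G that is conjugate to its inverse. Then some 2-element conjugates x to its inverse; if the conjugacy class of x has odd size then x ^ 2 = 1; and x lies in, and is conjugate to its inverse inside, every normal subgroup of odd index. -/
theorem result {G : Type*} [Group G] [Finite G] (x : G) (hx : IsConj x x⁻¹) : (∃ t : G, (∃ j : ℕ, orderOf t = 2 ^ j) ∧ t * x * t⁻¹ = x⁻¹) ∧ (Odd (Subgroup.centralizer ({x} : Set G)).index → x ^ 2 = 1) ∧ ∀ (N : Subgroup G) [N.Normal], Odd N.index → ∃ hxN : x ∈ N, IsConj (⟨x, hxN⟩ : N) (⟨x, hxN⟩ : N)⁻¹ := by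
  obtain ⟨t, ht⟩ := isConj_iff.1 hx
  refine ⟨?_, fun h => ?_, fun N _ h => ?_⟩
  · obtain ⟨j, m, hm, e⟩ := Nat.exists_eq_two_pow_mul_odd (orderOf_pos t).ne'
    refine ⟨t ^ m, ⟨j, ?_⟩, odd_inv ht hm⟩
    rw [orderOf_pow_of_dvd hm.pos.ne' (e ▸ dvd_mul_left _ _), e, Nat.mul_div_cancel _ hm.pos]
  · set C := Subgroup.centralizer ({x} : Set G)
    have hN : t ∈ Subgroup.normalizer (C : Set G) := by
      rw [Subgroup.mem_normalizer_iff]
      intro y
      simp only [C, SetLike.mem_coe, Subgroup.mem_centralizer_singleton_iff]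
      have e : x = t * x⁻¹ * t⁻¹ := by rw [← conj_inv, ht, inv_inv]
      nth_rewrite 3 [e]
      nth_rewrite 4 [e]
      rw [conj_mul, conj_mul, mul_left_inj, mul_right_inj]
      exact ⟨fun h => (show Commute y x from h).inv_right, fun h => by
        simpa using (show Commute y x⁻¹ from h).inv_right.eq⟩
    have h1 := (C.subgroupOf (Subgroup.normalizer (C : Set G))).pow_index_mem ⟨t, hN⟩
    have h2 : Odd (C.subgroupOf (Subgroup.normalizer (C : Set G))).index :=
      h.of_dvd_nat (Subgroup.relIndex_dvd_index_of_le Subgroup.le_normalizer)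
    have h3 := odd_inv ht h2
    rw [Subgroup.mem_subgroupOf, Subgroup.mem_centralizer_singleton_iff] at h1
    simp only [SubmonoidClass.mk_pow] at h1
    rw [h1, mul_inv_cancel_right] at h3
    rw [sq]
    nth_rewrite 1 [h3]
    simp
  · have h1 := N.pow_index_mem t
    have h3 := odd_inv ht h
    have h4 : x ^ 2 ∈ N := by
      have : x ^ 2 = (x * t ^ N.index * x⁻¹) * (t ^ N.index)⁻¹ := by
        rw [mul_assoc x, mul_assoc x, ← conj_inv, h3, inv_inv, sq]
      rw [this]
      exact mul_mem (Subgroup.Normal.conj_mem inferInstance _ h1 x) (inv_mem h1)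
    have h5 := N.pow_index_mem x
    obtain ⟨k, hk⟩ := h
    rw [hk, pow_succ, pow_mul] at h5
    refine ⟨(N.mul_mem_cancel_left (pow_mem h4 k)).1 h5, isConj_iff.2 ⟨⟨_, h1⟩, Subtype.ext h3⟩⟩

end Cfsg.Agent.S3863
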