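import Cfsg.Statements.S3861
import Mathlib
import Cfsg.Agent.S0200
import Cfsg.Agent.S3863
import Cfsg.Agent.Transfer.PCompl
import Cfsg.Agent.Grp.Cores
import Cfsg.Agent.Grp.Card
import Cfsg.Agent.PLocal.RelSylow

set_option autoImplicit false
open Cfsg

namespace Cfsg.Agent.S3861

/-- A finite group G has no non-identity element of odd order that is conjugate to its inverse if and only if the Sylow 2-subgroups of G are normal. -/
theorem result {G : Type*} [Group G] [Finite G] (P : Sylow 2 G) : (∀ x : G, x ≠ 1 → Odd (orderOf x) → ¬ IsConj x x⁻¹) ↔ (P : Subgroup G).Normal := by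
  constructor
  · intro h
    set O := pCore 2 G with hO
    have hO2 : IsPGroup 2 O := Grp.pCore_isPGroup 2 G
    by_contra hn
    have hne : ¬ (P : Subgroup G) ≤ O := fun e =>
      hn (le_antisymm e (Grp.pCore_le_sylow P) ▸ inferInstance)
    obtain ⟨y, hy, hyO⟩ := SetLike.not_le_iff_exists.1 hne
    obtain ⟨τ, hτ⟩ := exists_prime_orderOf_dvd_card' (G := G ⧸ O) 2 (by
      obtain ⟨k, hk⟩ := P.2 ⟨y, hy⟩
      have h1 : orderOf (y : G ⧸ O) ∣ 2 ^ k := orderOf_dvd_of_pow_eq_one (by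
        rw [← QuotientGroup.mk_pow, show y ^ 2 ^ k = 1 from congrArg Subtype.val hk]; rfl)
      obtain ⟨j, -, hj⟩ := (Nat.dvd_prime_pow Nat.prime_two).1 h1
      refine (dvd_pow_self 2 ?_).trans (hj ▸ orderOf_dvd_natCard _)
      rintro rfl
      exact hyO ((QuotientGroup.eq_one_iff y).1 (orderOf_eq_one_iff.1 hj)))
    obtain ⟨η, h1, h2, h3⟩ := S0200.result τ hτ (fun N hN hp ht => by
      rw [Grp.pCore_eq_bot_iff.1 (Grp.pCore_quotient_pCore 2 G) N hN hp, Subgroup.mem_bot] at ht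
      rw [ht, orderOf_one] at hτ
      omega)
    obtain ⟨q, hq, hqd⟩ := Nat.exists_prime_and_dvd (fun e => h1 (orderOf_eq_one_iff.1 e))
    haveI := Fact.mk hq
    have hq2 : q.Coprime 2 := Nat.coprime_two_right.2 (h2.of_dvd_nat hqd)
    have h4 := orderOf_pow_orderOf_div (orderOf_pos η).ne' hqd
    obtain ⟨x', hx'⟩ := QuotientGroup.mk_surjective (η ^ (orderOf η / q))
    obtain ⟨t, rfl⟩ := QuotientGroup.mk_surjective τ
    obtain ⟨k, hk⟩ := Transfer.exists_pow_coprime_orderOf (p := 2) x'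
    set x := x' ^ 2 ^ k with hx
    have hxb : orderOf (x : G ⧸ O) = q := by
      rw [hx, QuotientGroup.mk_pow, hx', Nat.Coprime.orderOf_pow, h4]
      rw [h4]; exact hq2.pow_right _
    have hinv : (t : G ⧸ O) * x * (t : G ⧸ O)⁻¹ = (x : G ⧸ O)⁻¹ := by
      rw [hx, QuotientGroup.mk_pow, hx', ← conj_pow, ← conj_pow, h3, inv_pow, inv_pow]
    have key : ∀ i : ℤ, x ^ i ∈ O → x ^ i = 1 := fun i hi =>
      Transfer.eq_one_of_mem_isPGroup_of_coprime hO2 hi (Nat.Coprime.coprime_dvd_left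
        (orderOf_dvd_of_mem_zpowers ⟨i, rfl⟩) hk)
    have hxq : x ^ q = 1 := by
      have := key q (by
        rw [← QuotientGroup.eq_one_iff, zpow_natCast, QuotientGroup.mk_pow, ← hxb,
          pow_orderOf_eq_one])
      rwa [zpow_natCast] at this
    have hx1 : x ≠ 1 := fun e => hq.one_lt.ne' (by rw [← hxb, e]; simp)
    have hpx : ∀ z : G, z ^ q = 1 → IsPGroup q (Subgroup.zpowers z) := fun z hz => by
      rintro ⟨_, i, rfl⟩
      refine ⟨1, Subtype.ext ?_⟩
      show (z ^ i) ^ q ^ 1 = 1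
      rw [pow_one, ← zpow_natCast, ← zpow_mul, mul_comm, zpow_mul, zpow_natCast, hz, one_zpow]
    obtain ⟨g, hg, e⟩ := PLocal.RelSylow.exists_conj_mem (p := q) (hpx x hxq)
      (H := Subgroup.zpowers x ⊔ O) (P := Subgroup.zpowers (t * x * t⁻¹)) (fun hd => by
        have a1 := Grp.card_sup_dvd (Subgroup.zpowers x) O
        rw [← Grp.card_mul_relIndex (le_sup_left : Subgroup.zpowers x ≤ _),
          Nat.mul_dvd_mul_iff_left Nat.card_pos] at a1
        obtain ⟨j, hj⟩ := hO2.exists_card_eq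
        exact hq.one_lt.ne' (Nat.eq_one_of_dvd_coprimes (hq2.pow_right j) dvd_rfl
          (hj ▸ hd.trans a1)))
      (by
        rw [Subgroup.zpowers_le, show t * x * t⁻¹ = x⁻¹ * (x * (t * x * t⁻¹)) by group]
        refine mul_mem (Subgroup.mem_sup_left (inv_mem (Subgroup.mem_zpowers x)))
          (Subgroup.mem_sup_right ?_)
        rw [← QuotientGroup.eq_one_iff]
        simp [hinv]) (hpx _ (by rw [conj_pow, hxq]; simp))
    obtain ⟨i, hi⟩ := e _ (Subgroup.mem_zpowers _)
    obtain ⟨_, ⟨j, rfl⟩, o, ho, rfl⟩ := Subgroup.mem_sup_of_normal_right.1 hg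
    simp only at hi
    have h5 := key (i + 1) (by
      rw [← QuotientGroup.eq_one_iff, zpow_add_one, hi]
      simp only [QuotientGroup.mk_mul, QuotientGroup.mk_inv, (QuotientGroup.eq_one_iff o).2 ho,
        hinv, QuotientGroup.mk_zpow]
      group)
    refine h x hx1 (Nat.coprime_two_right.1 hk) (isConj_iff.2 ⟨x ^ j * o * t, ?_⟩)
    rw [zpow_add_one, hi, mul_eq_one_iff_eq_inv] at h5
    rw [← h5]; group
  · intro hn x hx1 hx hc
    obtain ⟨t, ⟨j, hj⟩, ht⟩ := (S3863.result x hc).1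
    have htP : t ∈ (P : Subgroup G) := by
      obtain ⟨Q, hQ⟩ := (IsPGroup.of_card (G := Subgroup.zpowers t)
        (by rw [Nat.card_zpowers, hj])).exists_le_sylow
      haveI := P.unique_of_normal hn
      exact Subsingleton.elim Q P ▸ hQ (Subgroup.mem_zpowers t)
    have h2 : x ^ 2 ∈ (P : Subgroup G) := by
      have : x ^ 2 = (x * t * x⁻¹) * t⁻¹ := by
        rw [mul_assoc x, mul_assoc x, ← conj_inv, ht, inv_inv, sq]
      rw [this]
      exact mul_mem (hn.conj_mem _ htP x) (inv_mem htP)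
    have h3 := Transfer.eq_one_of_mem_isPGroup_of_coprime P.2 h2 (Nat.Coprime.coprime_dvd_left
      (orderOf_pow_dvd 2) (Nat.coprime_two_right.2 hx))
    exact hx1 (orderOf_eq_one_iff.1 (Nat.eq_one_of_dvd_coprimes (Nat.coprime_two_right.2 hx)
      dvd_rfl (orderOf_dvd_of_pow_eq_one h3)))

end Cfsg.Agent.S3861
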