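import Cfsg.Statements.S2302
import Cfsg.Agent.KSG.SL2Unip

set_option autoImplicit false
open Cfsg

namespace Cfsg.Agent.S2302

open KSG KSG.M2 Matrix


/-- Over a finite field with q elements of characteristic 2, the involutions of SL₂ (the non-identity unipotent elements) form a single conjugacy class, of size q² − 1. -/
theorem result {F : Type*} [Field F] [Fintype F] [CharP F 2] (g h : Matrix.SpecialLinearGroup (Fin 2) F) (hg : orderOf g = 2) (hh : orderOf h = 2) :
    IsConj g h ∧ Nat.card (ConjClasses.mk g).carrier = Fintype.card F ^ 2 - 1 := by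
  have h2 : (2 : F) = 0 := two_eq_zero_of_charP
  obtain ⟨g1, g2⟩ := (SL_orderOf_eq_char_iff 2).1 hg
  obtain ⟨h1, h3⟩ := (SL_orderOf_eq_char_iff 2).1 hh
  have hg' := SL_not_isScal_of_trace_two g1 g2
  refine ⟨SL_isConj_of_trace hg' (SL_not_isScal_of_trace_two h1 h3) (by rw [g2, h3]) (Or.inr h2), ?_⟩
  have h := card_carrier_mul_card_centralizer g
  rw [SL_card_centralizer_par hg' (ε := 1) (by simp) (by simp [g2]), card_sq_eq_one_of_two_eq h2,
    one_mul, card_SL2, Nat.card_eq_fintype_card (α := F), mul_comm] at h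
  exact Nat.eq_of_mul_eq_mul_left Fintype.card_pos h

end Cfsg.Agent.S2302
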