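import Cfsg.Statements.S4159
import Mathlib
import Cfsg.Agent.Grp.Card
import Cfsg.Agent.Grp.MinNormal
import Cfsg.Agent.Inv.Basic
import Cfsg.Agent.Solv.Glauberman
import Cfsg.Agent.FGS.ClassSize
import Cfsg.Agent.S0205

set_option autoImplicit false
open Cfsg

namespace Cfsg.Agent.S4159

open Subgroup

universe u

/-- Real elements of odd order lift over a normal `2`-subgroup. -/
theorem exists_real_lift {G : Type*} [Group G] [Finite G] (N : Subgroup G) [N.Normal]
    (hN : IsPGroup 2 N) (y s : G ⧸ N) (hy : Odd (orderOf y)) (h : s * y * s⁻¹ = y⁻¹) :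
    ∃ x g : G, (x : G ⧸ N) = y ∧ Odd (orderOf x) ∧ g * x * g⁻¹ = x⁻¹ := by
  obtain ⟨x, rfl, hx⟩ := FGS.exists_lift_coprime (QuotientGroup.mk' N)
    (QuotientGroup.mk'_surjective N) y (Nat.coprime_two_right.2 hy)
  obtain ⟨s, rfl⟩ := QuotientGroup.mk_surjective s
  have hcop : (Nat.card (zpowers x)).Coprime (Nat.card N) := by
    obtain ⟨k, hk⟩ := hN.exists_card_eq
    rw [Nat.card_zpowers, hk]
    exact hx.pow_right k
  have := hN.isNilpotent
  have hcop' : (Nat.card (zpowers (s * x * s⁻¹))).Coprime (Nat.card N) := by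
    rwa [Nat.card_zpowers, Inv.orderOf_conj, ← Nat.card_zpowers]
  obtain ⟨k, hk, h1⟩ := Solv.exists_conj_mem_of_coprime (zpowers (s * x * s⁻¹)) N (zpowers x)
    Subgroup.le_normalizer_of_normal hcop' (Or.inr inferInstance) (by
      rintro _ ⟨m, rfl⟩
      refine ⟨(s * x * s⁻¹) ^ m * (x⁻¹ ^ m)⁻¹, ?_, ?_⟩
      · rw [← QuotientGroup.eq_one_iff]
        have h' : (s : G ⧸ N) * x * (s : G ⧸ N)⁻¹ = (x : G ⧸ N)⁻¹ := h
        rw [QuotientGroup.mk_mul, QuotientGroup.mk_inv, QuotientGroup.mk_zpow,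
          QuotientGroup.mk_zpow, QuotientGroup.mk_mul, QuotientGroup.mk_mul, QuotientGroup.mk_inv,
          QuotientGroup.mk_inv, h', mul_inv_cancel]
      · have e : ((s * x * s⁻¹) ^ m * (x⁻¹ ^ m)⁻¹)⁻¹ * (fun n : ℤ => (s * x * s⁻¹) ^ n) m =
            x⁻¹ ^ m := by simp only; group
        rw [e]
        exact zpow_mem (inv_mem (mem_zpowers x)) m)
  have h2 := h1 _ (mem_zpowers _)
  refine ⟨x, k⁻¹ * s, rfl, Nat.coprime_two_right.1 hx, ?_⟩
  have h3 : x * (k⁻¹ * (s * x * s⁻¹) * k) ∈ N := by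
    rw [← QuotientGroup.eq_one_iff]
    have h' : (s : G ⧸ N) * x * (s : G ⧸ N)⁻¹ = (x : G ⧸ N)⁻¹ := h
    have hk' : (k : G ⧸ N) = 1 := (QuotientGroup.eq_one_iff _).2 hk
    simp [h', hk']
  have h4 := Solv.eq_one_of_mem_of_coprime hcop (Subgroup.mul_mem _ (mem_zpowers x) h2) h3
  rw [← eq_inv_of_mul_eq_one_right h4]
  group

theorem solv (G : Type u) [Group G] [Finite G] :
    (∀ y g : G, Odd (orderOf y) → g * y * g⁻¹ = y⁻¹ → y = 1) → Group.IsSolvable G := by
  refine Grp.card_induction (P := fun G _ _ =>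
    (∀ y g : G, Odd (orderOf y) → g * y * g⁻¹ = y⁻¹ → y = 1) → Group.IsSolvable G) ?_ G
  intro G _ _ ih h
  rcases Nat.even_or_odd (Nat.card G) with he | ho
  · obtain ⟨t, ht⟩ := exists_prime_orderOf_dvd_card' (G := G) 2 he.two_dvd
    obtain ⟨N, hNn, hN, htN⟩ := Inv.exists_normal_of_not_inverts ht (fun x hx hx' => h x t hx hx')
    have hN1 : N ≠ ⊥ := fun e => Inv.ne_one_of_orderOf_two ht (by rwa [e] at htN)
    have := hN.isNilpotent
    refine (Group.isSolvable_iff_subgroup_quotient N).2 ⟨inferInstance,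
      ih _ (Grp.card_quotient_lt _ hN1) fun y s hy hs => ?_⟩
    obtain ⟨x, g, rfl, hx, hg⟩ := exists_real_lift N hN y s hy hs
    rw [h x g hx hg, QuotientGroup.mk_one]
  · exact S0205.result ho

theorem index_dvd {G : Type*} [Group G] [Finite G] (H : Subgroup G) (x : H) {n : ℕ}
    (h : Nat.card H ∣ orderOf (x : G) * n) : (centralizer ({x} : Set H)).index ∣ n := by
  have h1 : orderOf x ∣ Nat.card (centralizer ({x} : Set H)) :=
    Subgroup.orderOf_dvd_natCard _ (mem_centralizer_singleton_iff.2 rfl)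
  rw [← (centralizer ({x} : Set H)).card_mul_index, Subgroup.orderOf_coe] at h
  exact Nat.dvd_of_mul_dvd_mul_left (orderOf_pos x) ((Nat.mul_dvd_mul_right h1 _).trans h)


/-- Let G be a finite group such that in every subgroup H of G, any two conjugacy classes of H of size greater than 1 have non-coprime sizes. Then G is solvable. -/
theorem result {G : Type*} [Group G] [Finite G]
    (h : ∀ (H : Subgroup G) (x y : H), 1 < (Subgroup.centralizer ({x} : Set H)).index → 1 < (Subgroup.centralizer ({y} : Set H)).index →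
      ¬ ((Subgroup.centralizer ({x} : Set H)).index).Coprime (Subgroup.centralizer ({y} : Set H)).index) : Group.IsSolvable G := by
  refine solv G fun y g hy hg => ?_
  by_contra hy1
  obtain ⟨k, m, hm, hkm⟩ := Nat.exists_eq_two_pow_mul_odd (orderOf_pos g).ne'
  have hs : g ^ m * y * (g ^ m)⁻¹ = y⁻¹ := by
    obtain ⟨j, rfl⟩ := hm
    have h2 : Commute (g ^ 2) y := by
      have : g * (g * y * g⁻¹) * g⁻¹ = y := by
        rw [hg, ← inv_inv g, ← mul_inv_rev, ← mul_inv_rev, inv_inv, ← mul_assoc, hg, inv_inv]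
      rw [Commute, SemiconjBy, sq]
      calc g * g * y = (g * (g * y * g⁻¹) * g⁻¹) * (g * g) := by group
        _ = y * (g * g) := by rw [this]
    have h3 := (h2.pow_left j).eq
    rw [← pow_mul] at h3
    calc g ^ (2 * j + 1) * y * (g ^ (2 * j + 1))⁻¹
        = g * (g ^ (2 * j) * y) * (g ^ (2 * j))⁻¹ * g⁻¹ := by group
      _ = y⁻¹ := by rw [h3, ← hg]; group
  set s := g ^ m with hsdef
  have hso : orderOf s ∣ 2 ^ k := by
    apply orderOf_dvd_of_pow_eq_one
    rw [hsdef, ← pow_mul, mul_comm, ← hkm, pow_orderOf_eq_one]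
  have hn : zpowers s ≤ normalizer (zpowers y : Set G) :=
    zpowers_le.2 (Inv.mem_normalizer_zpowers_of_conj_eq_inv hs)
  have hc := Grp.card_sup_dvd_of_le_normalizer hn
  rw [Nat.card_zpowers, Nat.card_zpowers] at hc
  let y' : (zpowers s ⊔ zpowers y : Subgroup G) := ⟨y, mem_sup_right (mem_zpowers y)⟩
  let s' : (zpowers s ⊔ zpowers y : Subgroup G) := ⟨s, mem_sup_left (mem_zpowers s)⟩
  have hnc : y * s ≠ s * y := fun e => by
    rw [← e, mul_inv_cancel_right] at hs
    have h2 : y ^ 2 = 1 := by rw [sq]; exact mul_eq_one_iff_eq_inv.2 hs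
    have h3 := Nat.eq_one_of_dvd_coprimes (Nat.coprime_two_right.2 hy) dvd_rfl
      (orderOf_dvd_of_pow_eq_one h2)
    exact hy1 (orderOf_eq_one_iff.1 h3)
  refine h _ y' s' ?_ ?_ ?_
  · refine Subgroup.one_lt_index_of_ne_top fun e => hnc ?_
    have : s' ∈ centralizer {y'} := e ▸ mem_top _
    exact (congrArg Subtype.val (mem_centralizer_singleton_iff.1 this)).symm
  · refine Subgroup.one_lt_index_of_ne_top fun e => hnc ?_
    have : y' ∈ centralizer {s'} := e ▸ mem_top _
    exact (congrArg Subtype.val (mem_centralizer_singleton_iff.1 this))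
  · have h1 := index_dvd _ y' (n := orderOf s) (by rwa [mul_comm])
    have h2 := index_dvd _ s' (n := orderOf y) hc
    exact ((Nat.Coprime.pow_left k (Nat.coprime_two_left.2 hy)).coprime_dvd_left
      (h1.trans hso)).coprime_dvd_right h2

end Cfsg.Agent.S4159
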