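import Cfsg.Statements.S2343
import Mathlib
import Cfsg.Agent.KSG.WeightBound
import Cfsg.Agent.Ree.Conc
import Cfsg.Agent.Ree.Four

set_option autoImplicit false
open Cfsg

namespace Cfsg.Agent.S2343

open KSG Module

theorem bound {K : Type*} [Field K] [Finite K] {m : ℕ} {G : Type*} [Group G] (R : Ree.Sys K m G)
    {V : Type*} [AddCommGroup V] [Module ℂ V] [FiniteDimensional ℂ V] (ρ : G →* End ℂ V)
    (h1 : ρ (R.x 0 0 1) ≠ 1) : Nat.card K * (Nat.card K - 1) < finrank ℂ V := by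
  classical
  have := Fintype.ofFinite K
  obtain ⟨ψ, hψ⟩ : ∃ ψ : AddChar K ℂ, ψ ≠ 1 := ⟨AddChar.FiniteField.primitiveChar_to_Complex K, by
    simpa using AddChar.FiniteField.primitiveChar_to_Complex_isPrimitive K (a := 1) one_ne_zero⟩
  let τ : AddChar (K × K) (End ℂ V) :=
    { toFun := fun a => ρ (R.x 0 a.1 a.2)
      map_zero_eq_one' := by simp [R.x_zero]
      map_add_eq_mul' := fun a b => by rw [← map_mul, R.x_mul]; simp }
  have hA : (Nat.card (K × K) : ℂ) ≠ 0 := Nat.cast_ne_zero.2 Nat.card_pos.ne'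
  have := finite_dual (F := K) (A := K × K)
  obtain ⟨f₀, hf₀, h0⟩ := exists_wt_of_ne_one hψ hA τ (a := (0, 1)) h1
  have ev : ∀ (f : Dual K (K × K)) (u v : K), f (u, v) = u * f (1, 0) + v * f (0, 1) :=
    fun f u v => by
      rw [← smul_eq_mul, ← smul_eq_mul, ← map_smul, ← map_smul, ← map_add]; simp
  have hS : ∀ f : Dual K (K × K), f (0, 1) ≠ 0 → wtSpace ψ τ f ≠ ⊥ := fun f hf => by
    let μ : Kˣ →* Kˣ := powMonoidHom 2 * Units.map R.σ.toMonoidHom
    obtain ⟨l, hl⟩ := Finite.surjective_of_injective ((injective_iff_map_eq_one μ).2 fun l hl =>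
      Units.ext (R.eq_one_of_sq_mul_σ (congrArg Units.val hl))) (Units.mk0 _ (div_ne_zero hf h0))
    have hl' : (l : K) ^ 2 * R.σ l = f (0, 1) / f₀ (0, 1) := congrArg Units.val hl
    refine wtSpace_ne_bot_of_map (ρ (R.x ((f (1, 0) - l * R.σ l * f₀ (1, 0)) / f (0, 1)) 0 0)⁻¹ *
      ρ (R.h l)⁻¹) ((rep_injective ρ _).comp (rep_injective ρ _)) (fun a => (l * R.σ l * a.1,
        (l : K) ^ 2 * R.σ l * (a.2 + (f (1, 0) - l * R.σ l * f₀ (1, 0)) / f (0, 1) * a.1)))
      (fun a => ?_) (fun a => ?_) hf₀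
    · generalize (f (1, 0) - l * R.σ l * f₀ (1, 0)) / f (0, 1) = t
      have e1 := R.x_conj t 0 0 0 a.1 a.2
      have e2 := R.h_conj l 0 a.1 (a.2 + t * a.1)
      simp only [map_zero, mul_zero, zero_mul, sub_zero, add_zero, ne_eq, OfNat.ofNat_ne_zero,
        not_false_eq_true, zero_pow] at e1 e2
      change ρ _ * _ = _ * ρ _
      rw [← e2, ← e1, ← map_mul, ← map_mul, ← map_mul]
      congr 1
      group
    · rw [ev f₀, hl', ← Prod.mk.eta (p := a), ev f]
      field_simp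
      ring
  have hc : {f : Dual K (K × K) | f (0, 1) ≠ 0}.ncard = Nat.card K * (Nat.card K - 1) := by
    rw [← Nat.card_coe_set_eq, ← Nat.card_units, ← Nat.card_prod]
    exact Nat.card_congr ⟨fun f => (f.1 (1, 0), Units.mk0 _ f.2), fun a =>
      ⟨a.1 • LinearMap.fst K K K + (a.2 : K) • LinearMap.snd K K K, by simp⟩,
      fun f => Subtype.ext (LinearMap.ext fun a => by
        rw [← Prod.mk.eta (p := a), ev f.1]; simp [mul_comm]), fun a => by simp⟩
  by_contra hle
  have h2 := ncard_wt_le_finrank hψ hA τ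
  have hS' : {f : Dual K (K × K) | f (0, 1) ≠ 0} ⊆ {f | wtSpace ψ τ f ≠ ⊥} := hS
  have h3 := Set.ncard_le_ncard hS'
  have h4 := Set.eq_of_subset_of_ncard_le hS' (by omega)
  have h5 : ∑ v, ρ (R.x 0 0 v) = 0 := LinearMap.ext fun w => by
    refine Submodule.iSup_induction (wtSpace ψ τ) (motive := fun w => (∑ v, ρ (R.x 0 0 v)) w = 0)
      (iSup_wtSpace hψ hA τ ▸ Submodule.mem_top) (fun f w hw => ?_) (map_zero _)
      fun x y hx hy => by rw [map_add, hx, hy, add_zero]
    by_cases hf : wtSpace ψ τ f = ⊥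
    · rw [hf, Submodule.mem_bot] at hw
      rw [hw, map_zero]
    have := sum_addChar_dual_eq_zero hψ (f := f ∘ₗ LinearMap.inr K K K) fun e =>
      (h4.symm.subset hf :) (LinearMap.congr_fun e 1)
    rw [LinearMap.sum_apply, Finset.sum_congr rfl fun v _ =>
      show ρ (R.x 0 0 v) w = _ from hw (0, v), ← Finset.sum_smul]
    exact smul_eq_zero_of_left this _
  have tr : ∀ k g : G, LinearMap.trace ℂ V (ρ (k * g * k⁻¹)) = LinearMap.trace ℂ V (ρ g) :=
    fun k g => by
      rw [map_mul, LinearMap.trace_mul_comm, ← map_mul, ← mul_assoc, inv_mul_cancel, one_mul]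
  have h6 : LinearMap.trace ℂ V (ρ R.a) = 0 := by
    have h7 := congrArg (fun T => LinearMap.trace ℂ V (T * ρ R.a)) h5
    simp only [Finset.sum_mul, map_sum, zero_mul, map_zero, ← map_mul] at h7
    rw [Finset.sum_congr rfl fun v _ => (?_ : _ = LinearMap.trace ℂ V (ρ R.a)), Finset.sum_const,
      nsmul_eq_mul, mul_eq_zero] at h7
    · exact h7.resolve_left (Nat.cast_ne_zero.2 Fintype.card_ne_zero)
    rw [← tr (R.x 0 0 (v / 2)) R.a]
    have e := R.a_conj 0 0 (-(v / 2))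
    rw [mul_inv_eq_iff_eq_mul, neg_zero, neg_neg] at e
    rw [R.x_inv, mul_assoc]
    simp only [map_zero, mul_zero, zero_mul, sub_zero, neg_zero]
    rw [e, ← mul_assoc, R.x_mul]
    simp only [map_zero, mul_zero, zero_mul, sub_zero, add_zero]
    rw [← two_mul, mul_div_cancel₀ _ R.two_ne_zero]
  have h7 : ∀ b : G, b ≠ 1 → b * b = 1 → LinearMap.trace ℂ V (ρ b) = 0 := fun b hb hb' => by
    obtain ⟨k, hk⟩ := R.exists_conj_eq_a hb hb'
    rw [← tr k, hk, h6]
  have h8 : IsIdempotentElem ((4 : ℂ)⁻¹ • ((1 + ρ R.a) * (1 + ρ R.n))) := by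
    have c : Commute (1 + ρ R.a) (1 + ρ R.n) := by
      refine (Commute.one_left _).add_left ((Commute.one_right _).add_right ?_)
      rw [Commute, SemiconjBy, ← map_mul, ← map_mul, R.a_comm_n]
    have e : ∀ g : G, g * g = 1 → (1 + ρ g) * (1 + ρ g) = (2 : ℂ) • (1 + ρ g) := fun g hg => by
      rw [mul_add, add_mul, add_mul, ← map_mul, hg, map_one, two_smul]
      simp [add_comm]
    rw [IsIdempotentElem, smul_mul_smul_comm, c.symm.mul_mul_mul_comm, e _ R.a_mul_a,
      e _ R.n_mul_n, smul_mul_smul_comm, smul_smul]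
    norm_num
  have h9 := (LinearMap.IsIdempotentElem.isProj_range _ h8).trace
  rw [map_smul, add_mul, mul_add, mul_add, one_mul, one_mul, mul_one, ← map_mul, map_add, map_add,
    map_add, h6, h7 _ R.n_ne_one R.n_mul_n, h7 _ R.an_ne_one
      (R.mul_self_of_mem_V (mul_mem R.a_mem_V R.n_mem_V)), LinearMap.trace_one, smul_eq_mul,
    inv_mul_eq_iff_eq_mul₀ (by norm_num), add_zero, add_zero, add_zero] at h9
  norm_cast at h9
  obtain ⟨j, hj⟩ := Ree.Sys.exists_q_eq m
  rw [hc, R.card, hj] at h3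
  rw [R.card, hj] at hle
  have : (8 * j + 3) * (8 * j + 3 - 1) = 4 * (16 * j * j + 10 * j + 1) + 2 := by
    rw [show 8 * j + 3 - 1 = 8 * j + 2 by omega]; ring
  omega


/-- For the Ree group ²G₂(q), q = 3^(2m+1) with m ≥ 1 (realised over the field with q elements), every irreducible complex representation of degree at least 2 has degree at least q² − q + 1. -/
theorem result {K : Type*} [Field K] [Fintype K] (m : ℕ) (hm : 1 ≤ m) (hK : Fintype.card K = 3 ^ (2 * m + 1)) :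
    (∀ (k : ℕ) (ρ : Representation ℂ (Cfsg.Lie.twistedG2 K (3 ^ m)) (Fin k → ℂ)), ρ.IsIrreducible → 2 ≤ k → (3 ^ (2 * m + 1)) ^ 2 - 3 ^ (2 * m + 1) + 1 ≤ k) := by
  intro k ρ hρ hk
  obtain ⟨R, -⟩ := Ree.exists_sys hK
  have := Ree.isSimpleGroup hm hK
  have h := bound R ρ fun h => by
    obtain ⟨g, hg⟩ := exists_ne_one_of_irreducible ρ hρ hk
    rcases (MonoidHom.normal_ker (ρ : _ →* _)).eq_bot_or_eq_top with e | e
    · exact one_ne_zero (R.x_eq_one _ _ _ ((Subgroup.eq_bot_iff_forall _).1 e _ h)).2.2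
    · exact hg (MonoidHom.mem_ker.1 (e ▸ Subgroup.mem_top g))
  rw [R.card, finrank_fin_fun, Nat.mul_sub_one, ← sq] at h
  exact h

end Cfsg.Agent.S2343
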