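import Cfsg.Statements.S0081
import Mathlib
import Cfsg.Agent.Transfer.Tate

set_option autoImplicit false
open Cfsg

namespace Cfsg.Agent.S0081

/-- If a normal subgroup meets a Sylow p-subgroup P inside the Frattini subgroup of P, then it has a normal p-complement. -/
theorem result {G : Type*} [Group G] [Finite G] {p : ℕ} [Fact p.Prime] (P : Sylow p G) (N : Subgroup G) [N.Normal] (h : N ⊓ (P : Subgroup G) ≤ (frattini P).map (P : Subgroup G).subtype) : Cfsg.HasNormalPComplement p N := by
  let K := N ⊔ (P : Subgroup G)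
  have hPK : (P : Subgroup G) ≤ K := le_sup_right
  refine Transfer.HasNormalPComplement.of_le ?_ (le_sup_left : N ≤ K)
  have h1 : pResidual p K ≤ N.subgroupOf K := by
    apply Transfer.pResidual_le_of_isPGroup_quotient
    rw [Transfer.isPGroup_quotient_iff_index, ← Subgroup.relIndex, Subgroup.relIndex_sup_left]
    exact P.isPGroup'.index _
  rw [Transfer.hasNormalPComplement_iff_inf_eq_bot (P.subtype hPK),
    Transfer.tate (P.subtype hPK).not_dvd_index fun μ x hx => ?_,
    Transfer.pResidual_eq_bot_iff.2 (P.subtype hPK).isPGroup', Subgroup.map_bot]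
  obtain ⟨y, hy, e⟩ := h ⟨h1 hx, x.2⟩
  have := Transfer.frattini_le_ker_zmod
    (μ.comp (Subgroup.subgroupOfEquivOfLe hPK).symm.toMonoidHom) hy
  rw [MonoidHom.mem_ker] at this
  rw [← this]
  exact congrArg μ (Subtype.ext (Subtype.ext e.symm))

end Cfsg.Agent.S0081
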