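import Cfsg.Statements.S0095
import Mathlib
import Cfsg.Agent.Grp.Extraspecial

set_option autoImplicit false
open Cfsg

namespace Cfsg.Agent.S0095

/-- The order of an extraspecial p-group is an odd power p^(2n+1) of p with n ≥ 1. -/
theorem result {P : Type*} [Group P] [Finite P] {p : ℕ} [Fact p.Prime] (h : Cfsg.IsExtraspecial p P) : ∃ n : ℕ, 1 ≤ n ∧ Nat.card P = p ^ (2 * n + 1) := by
  obtain ⟨z, hz, hne, -⟩ := Grp.ES.isES_top_of_isExtraspecial h
  obtain ⟨n, x, y, hB⟩ := hz.exists_sympBasis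
  refine ⟨n, ?_, by rw [← hB.card, Subgroup.card_top]⟩
  rcases Nat.eq_zero_or_pos n with rfl | hn
  · exfalso
    apply hne
    refine (Subgroup.eq_of_le_of_card_ge le_top ?_).symm
    rw [hB.card, Nat.card_zpowers, hz.ord]; simp
  · exact hn

end Cfsg.Agent.S0095
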