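import Cfsg.Statements.S0203
import Mathlib
import Cfsg.Agent.Inv.KleinSylow

set_option autoImplicit false
open Cfsg

namespace Cfsg.Agent.S0203

/-- If a Sylow 2-subgroup P of a finite group G is a Klein four-group, then G has three classes of involutions if and only if P has a normal complement in G. -/
theorem result {G : Type*} [Group G] [Finite G] (P : Sylow 2 G) (hP : IsKleinFour (P : Subgroup G)) : Nat.card {C : ConjClasses G // ∃ t : G, orderOf t = 2 ∧ ConjClasses.mk t = C} = 3 ↔ ∃ N : Subgroup G, N.Normal ∧ Subgroup.IsComplement' N (P : Subgroup G) := by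
  constructor
  · intro h3
    rcases Inv.klein_sylow_dichotomy P hP with h | h
    · exact ⟨_, inferInstance, MonoidHom.ker_transferSylow_isComplement' P h.1⟩
    · obtain ⟨x, hx, -, -, hx1, -⟩ := Inv.Klein.exists_pair hP
      have hx2 := Inv.Klein.orderOf_eq hP hx hx1
      have := Inv.card_classes_eq_one (fun t : G => orderOf t = 2) x hx2 fun t ht => h t x ht hx2
      omega
  · rintro ⟨N, hN, hc⟩
    exact Inv.klein_sylow_three_classes P hP fun x hx y hy hxy =>
      Inv.eq_of_isConj_of_normal_complement hc (fun a ha b hb => Inv.Klein.comm hP ha hb) hx hy hxy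

end Cfsg.Agent.S0203
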