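import Cfsg.Statements.S0214
import Mathlib
import Cfsg.Agent.Inv.StrongEmb

set_option autoImplicit false
open Cfsg

namespace Cfsg.Agent.S0214

/-- Let H be a proper subgroup of the finite group G and P a nontrivial Sylow 2-subgroup of H. Then H is strongly embedded in G if and only if N_G(X) ≤ H for every nontrivial subgroup X of P. -/
theorem result {G : Type*} [Group G] [Finite G] (H : Subgroup G) (hH : H ≠ ⊤) (P : Sylow 2 ↥H) (hP : (P : Subgroup ↥H) ≠ ⊥) : Cfsg.IsStronglyEmbedded H ↔ (∀ X : Subgroup ↥H, X ≤ (P : Subgroup ↥H) → X ≠ ⊥ → Subgroup.normalizer ((X.map H.subtype : Subgroup G) : Set G) ≤ H) := by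
  constructor
  · intro h X hXP hX
    refine Inv.SE.normalizer_le h (Subgroup.map_subtype_le _) ((P.isPGroup'.to_le hXP).map _) ?_
    rwa [Ne, Subgroup.map_eq_bot_iff_of_injective _ (Subgroup.subtype_injective _)]
  · intro h
    obtain ⟨t, -, ht⟩ := Inv.exists_involution_of_isPGroup P.isPGroup' hP
    refine Inv.isStronglyEmbedded_of_normalizers hH
      (Inv.even_card_of_involution t.2 (by rw [Subgroup.orderOf_coe, ht])) ?_
    intro X hXH hXp hX
    obtain ⟨Q, hQ⟩ := (hXp.comap_subtype (K := H)).exists_le_sylow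
    obtain ⟨k, rfl⟩ := MulAction.exists_smul_eq H Q P
    have h1 := h ((X.subgroupOf H).map (MulAut.conj k).toMonoidHom)
      (by rw [Inv.coe_smul_sylow_eq_map]; exact Subgroup.map_mono hQ) (by
        rw [Ne, Subgroup.map_eq_bot_iff_of_injective _ (MulAut.conj k).injective,
          Subgroup.subgroupOf_eq_bot, disjoint_iff, inf_eq_left.2 hXH]
        exact hX)
    have h2 : ((X.subgroupOf H).map (MulAut.conj k).toMonoidHom).map H.subtype =
        X.map (MulAut.conj (k : G)).toMonoidHom := by
      conv_rhs => rw [← inf_eq_left.2 hXH, ← Subgroup.subgroupOf_map_subtype]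
      rw [Subgroup.map_map, Subgroup.map_map]
      rfl
    rw [h2, Inv.normalizer_map_conj] at h1
    intro g hg
    have := h1 (Inv.conj_mem_map_conj (k : G) hg)
    exact (H.mul_mem_cancel_left k.2).1 ((H.mul_mem_cancel_right (H.inv_mem k.2)).1 this)

end Cfsg.Agent.S0214
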