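import Cfsg.Statements.S0224
import Mathlib
import Cfsg.Agent.Inv.StrongEmb

set_option autoImplicit false
open Cfsg

namespace Cfsg.Agent.S0224

/-- Let H be a proper subgroup of even order of the finite group G. Then H is strongly embedded if and only if each involution of H fixes exactly one point (namely the coset H) in the action of G on the cosets of H. -/
theorem result {G : Type*} [Group G] [Finite G] (H : Subgroup G) (hH : H ≠ ⊤) (heven : Even (Nat.card H)) : Cfsg.IsStronglyEmbedded H ↔ ∀ t ∈ H, orderOf t = 2 → Nat.card {c : G ⧸ H // t • c = c} = 1 := by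
  have hfix : ∀ t g : G, t • (g : G ⧸ H) = (g : G ⧸ H) ↔ g⁻¹ * t⁻¹ * g ∈ H := by
    intro t g
    rw [MulAction.Quotient.smul_mk, QuotientGroup.eq, smul_eq_mul, mul_inv_rev]
  constructor
  · intro h t htH ht
    rw [Nat.card_eq_one_iff_exists]
    refine ⟨⟨((1 : G) : G ⧸ H), by rw [hfix]; simpa using htH⟩, ?_⟩
    rintro ⟨c, hc⟩
    induction c using QuotientGroup.induction_on with
    | H g =>
      rw [hfix, Inv.inv_of_orderOf_two ht] at hc
      apply Subtype.ext
      simpa [QuotientGroup.eq] using Inv.SE.mem_of_conj_mem' h htH ht hc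
  · intro h
    rw [Inv.isStronglyEmbedded_iff]
    refine ⟨hH, heven, fun t htH ht g hg => ?_⟩
    have h1 := (Nat.card_eq_one_iff_unique.1 (h t htH ht)).1
    have h2 : (⟨((g⁻¹ : G) : G ⧸ H), by
        rw [hfix, Inv.inv_of_orderOf_two ht, inv_inv]; exact hg⟩ : {c : G ⧸ H // t • c = c}) =
        ⟨((1 : G) : G ⧸ H), by rw [hfix]; simpa using htH⟩ := Subsingleton.elim _ _
    simpa [QuotientGroup.eq] using congrArg Subtype.val h2

end Cfsg.Agent.S0224
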