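import Cfsg.Statements.S0421
import Mathlib
import Cfsg.Agent.Math.M12b

set_option autoImplicit false
open scoped Pointwise
open Cfsg

set_option linter.style.haveILetI false
set_option linter.unusedVariables false

namespace Cfsg.Agent.S0421

open Cfsg.Agent.Char Cfsg.Agent.Math

/-- Simple groups of order 95040 are all isomorphic to the concrete Mathieu group of degree 12. -/
theorem result {G : Type*} [Group G] [Finite G] (hG : Cfsg.IsM12 G) (d : Finset Cfsg.GolayPt) (hd : d ∈ Cfsg.dodecads) : Nonempty (G ≃* ↥(MulAction.stabilizer Cfsg.M24 d)) := by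
  haveI := hG.1
  haveI := Fintype.ofFinite G
  obtain ⟨χ, h1, hν, a1, a2, a3, a4, a5⟩ := M12.main hG.2
  obtain ⟨Ω, _, _, _, k1, k2, -⟩ := exists_action hν a1 (by rw [a2]; exact one_ne_zero) a3
  refine iso_dodecad_of_action hG (by rw [k1, h1])
    (four_trans_of_char χ.2 (fun h => ?_) k2 a4 a5) d hd
  rw [show χ = irrOne G from Subtype.ext h, dg_irrOne] at h1; omega

end Cfsg.Agent.S0421
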