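import Cfsg.Statements.S0422
import Mathlib
import Cfsg.Agent.Math.M24e

set_option autoImplicit false
open Cfsg

set_option linter.style.haveILetI false
set_option linter.unusedVariables false

namespace Cfsg.Agent.S0422

open Cfsg.Agent.Math Cfsg.Agent.Perm.Hall4

/-- Simple groups of order 244823040 are all isomorphic to the concrete largest Mathieu group. -/
theorem result {G : Type*} [Group G] [Finite G] (hG : Cfsg.IsM24 G) : Nonempty (G ≃* Cfsg.M24) := by
  haveI := hG.1
  haveI := Fintype.ofFinite G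
  obtain ⟨Ω, _, _, _, h1, h2⟩ := M24.four_trans hG.2
  obtain ⟨a⟩ : Nonempty Ω := Fintype.card_pos_iff.1 (by omega)
  refine isoM24_of_action hG h1 (M24.stab hG.2 h1 h2 a).1 fun z z1 z2 => ?_
  rcases (Fx Ω z).eq_empty_or_nonempty with h | ⟨b, h⟩
  · simp [h]
  · exact (M24.stab hG.2 h1 h2 b).2 z z1 z2 (mem_Fx.1 h)

end Cfsg.Agent.S0422
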