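import Cfsg.Statements.S0460
import Cfsg.Agent.Spor.ON.Subs

set_option autoImplicit false
open Cfsg

namespace Cfsg.Agent.S0460

open Cfsg.Agent.Comp.BN
open Cfsg.Agent.Spor.ONC.M

/-- The O'Nan group exists as a transitive permutation group of degree 122760: simple of order 460815505920, point stabiliser of order 3753792, and containing simple subgroups of orders 175560 and 7920. -/
theorem result : ∃ H : Subgroup (Equiv.Perm (Fin 122760)), Cfsg.IsON H ∧ MulAction.IsPretransitive H (Fin 122760) ∧ Nat.card (MulAction.stabilizer H (0 : Fin 122760)) = 3753792 ∧ (∃ K : Subgroup H, Cfsg.IsJ1 K) ∧ (∃ K : Subgroup H, Cfsg.IsM11 K) := by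
  have := simple
  obtain ⟨H, e, h1, ⟨f⟩⟩ := exists_perm_rep (fixS ρ [0]) (n := 122758) (model.index_stab orb0)
  obtain ⟨K, hK⟩ := j1
  obtain ⟨L, hL⟩ := m11
  have := hK.1
  have := hL.1
  refine ⟨H, ⟨e.symm.isSimpleGroup, (Nat.card_congr e.toEquiv).symm.trans card⟩, h1,
    (Nat.card_congr f.toEquiv).symm.trans (card_of_index card (model.index_stab orb0) (by norm_num)),
    ⟨_, (e.subgroupMap K).symm.isSimpleGroup, (Nat.card_congr (e.subgroupMap K).toEquiv).symm.trans hK.2⟩,
    ⟨_, (e.subgroupMap L).symm.isSimpleGroup, (Nat.card_congr (e.subgroupMap L).toEquiv).symm.trans hL.2⟩⟩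

end Cfsg.Agent.S0460
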