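import Cfsg.Statements.S0470
import Cfsg.Agent.Mon.HNe
import Cfsg.Agent.Mon.Rep
-- import your own Cfsg.Agent.* helpers here

set_option autoImplicit false
open Cfsg

namespace Cfsg.Agent.S0470

/-- In some simple group of the Monster's order there are elements of orders 3, 5 and 7 whose centralisers contain simple subgroups of the Thompson, Harada–Norton and Held orders respectively; the centraliser of the element of order 3 has order 3 · 90745943887872000. -/
theorem result : ∃ (G : Type) (_ : Group G) (_ : Finite G), Cfsg.IsM G ∧ (∃ x : G, orderOf x = 3 ∧ Nat.card (Subgroup.centralizer ({x} : Set G)) = 272237831663616000 ∧ ∃ K : Subgroup G, K ≤ Subgroup.centralizer ({x} : Set G) ∧ Cfsg.IsTh K) ∧ (∃ x : G, orderOf x = 5 ∧ ∃ K : Subgroup G, K ≤ Subgroup.centralizer ({x} : Set G) ∧ Cfsg.IsHN K) ∧ (∃ x : G, orderOf x = 7 ∧ ∃ K : Subgroup G, K ≤ Subgroup.centralizer ({x} : Set G) ∧ Cfsg.IsHe K) := by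
  have hM : Cfsg.IsGroupOfMonsterType Mon.MG := by
    obtain ⟨hn, h⟩ := Mon.isOfMonsterType
    exact ⟨_, _, hn, h⟩
  refine ⟨Mon.MG, inferInstance, inferInstance, Mon.isM_MG, ?_, ?_, ?_⟩
  · obtain ⟨x, h1, h2, K, h3, ⟨e⟩⟩ := Mon.Odd.exists_Th hM
    have := S1700.result.1
    exact ⟨x, h1, h2, K, h3, e.isSimpleGroup, (Nat.card_congr e.toEquiv).trans S1700.result.2⟩
  · obtain ⟨x, h1, K, h3, ⟨e⟩⟩ := Mon.HN.exists_HN Mon.if1.toIf0
    have := S1701.result.1
    exact ⟨x, h1, K, h3, e.isSimpleGroup, (Nat.card_congr e.toEquiv).trans S1701.result.2⟩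
  · obtain ⟨x, h1, K, h3, ⟨e⟩⟩ := Mon.Odd.exists_He hM
    have := S1695.result.1
    exact ⟨x, h1, K, h3, e.isSimpleGroup, (Nat.card_congr e.toEquiv).trans S1695.result.2⟩

end Cfsg.Agent.S0470
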