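import Cfsg.Statements.S0474
import Cfsg.Agent.Mon.OddC
import Cfsg.Agent.Mon.Design
import Cfsg.Agent.Mon.MType

set_option autoImplicit false
open Cfsg

namespace Cfsg.Agent.S0474

/-- Some simple group of order 4154781481226426191177580544000000 contains simple subgroups of the orders of the Thompson group, the Harada–Norton group and the Fischer group of order 4089470473293004800. -/
theorem result : ∃ (G : Type) (_ : Group G) (_ : Finite G), Cfsg.IsB G ∧ (∃ K : Subgroup G, Cfsg.IsTh K) ∧ (∃ K : Subgroup G, Cfsg.IsHN K) ∧ (∃ K : Subgroup G, Cfsg.IsFi23 K) := by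
  have hM : Cfsg.IsGroupOfMonsterType Mon.MG := by
    obtain ⟨hn, h⟩ := Mon.isOfMonsterType
    exact ⟨_, _, hn, h⟩
  have ha : Mon.psi Spor.leechU ∈ Mon.cA Mon.psi := IsConj.refl _
  have hz := fun x => (Mon.if1.mk_eq_one ha (x := x)).1
  refine ⟨_, inferInstance, inferInstance, Mon.if1.isB ha, ?_, ?_, ?_⟩
  · obtain ⟨L, t, ⟨e⟩, h1, h2⟩ := Mon.Odd.inv_Th hM
    have := S1700.result.1
    obtain ⟨K, ⟨f⟩⟩ := Mon.Odd.embed Mon.if1.toIf0 ha hz e (by rw [S1700.result.2]; norm_num) h1 h2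
    exact ⟨K, f.isSimpleGroup, (Nat.card_congr f.toEquiv).trans S1700.result.2⟩
  · obtain ⟨L, t, ⟨e⟩, h1, h2⟩ := Mon.HN.inv_HN Mon.if1.toIf0
    have := S1701.result.1
    obtain ⟨K, ⟨f⟩⟩ := Mon.Odd.embed Mon.if1.toIf0 ha hz e (by rw [S1701.result.2]; norm_num) h1 h2
    exact ⟨K, f.isSimpleGroup, (Nat.card_congr f.toEquiv).trans S1701.result.2⟩
  · obtain ⟨L, t, ⟨e⟩, h1, h2⟩ := Mon.Odd.inv_Fi23 hM
    have := S1697.result.1
    obtain ⟨K, ⟨f⟩⟩ := Mon.Odd.embed Mon.if1.toIf0 ha hz e (by rw [S1697.result.2]; norm_num) h1 h2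
    exact ⟨K, f.isSimpleGroup, (Nat.card_congr f.toEquiv).trans S1697.result.2⟩

end Cfsg.Agent.S0474
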