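import Cfsg.Statements.S0504
import Mathlib
import Cfsg.Agent.Core2.SigCon
import Cfsg.Agent.Misc.CharTwo

set_option autoImplicit false
open Cfsg

namespace Cfsg.Agent.S0504

open Subgroup Cfsg.Agent.PLocal.Amb Cfsg.Agent.Inv.CoreSig


/-- Let G be a finite group containing an elementary abelian subgroup of order 8, with no nontrivial normal subgroup of
odd order, not of component type, and with a Sylow 2-subgroup whose commuting graph of Klein four-subgroups is
connected. Then every 2-local subgroup H of G satisfies C_H(O₂(H)) ≤ O₂(H). -/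
theorem result {G : Type*} [Group G] [Finite G]
    (h3 : ¬ Cfsg.PRankLE 2 2 G) (hO : Cfsg.oddCore G = ⊥) (hc : ¬ Cfsg.IsComponentType G) (S : Sylow 2 G)
    (hS : Cfsg.IsFourConnected (S : Subgroup G)) : Cfsg.IsCharacteristicTwoType G := by
  have hcon : ∀ t : G, orderOf t = 2 → IsPConstrained 2 (centralizer ({t} : Set G)) :=
    fun t ht => Core2.isPConstrained_of_not_hasComponent fun h => hc ⟨t, ht, h⟩
  refine Misc.isCharacteristicTwoType_of_centralizers ?_ fun z hz => ?_
  · by_contra h
    exact h3 (FT.R2.pRankLE_of_not_dvd fun h' => h (even_iff_two_dvd.2 h'))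
  · have h0 := Core2.core_eq_bot_of_constrained hO hcon (isSyl_top S) hS h3 hz
    rw [centralizerPPrimeCore, map_eq_bot_iff_of_injective _ (subtype_injective _)] at h0
    exact PLocal.PCA.charP_of_isPConstrained (hcon z hz) h0

end Cfsg.Agent.S0504
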