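import Cfsg.Statements.S0520
import Mathlib
import Cfsg.Agent.Core2.Sig

set_option autoImplicit false
open Cfsg

namespace Cfsg.Agent.S0520

open Subgroup Cfsg.Agent.Inv Cfsg.Agent.Inv.CoreSig Cfsg.Agent.PLocal.Amb Cfsg.Agent.Core2

/-- connection in the commuting graph of four-groups -/
def Cn {G : Type*} [Group G] (U V : Subgroup G) : Prop :=
  Relation.ReflTransGen
    (fun A B : Subgroup G => IsKleinFour A ∧ IsKleinFour B ∧ ∀ a ∈ A, ∀ b ∈ B, a * b = b * a) U V

theorem Cn.map {G H : Type*} [Group G] [Group H] (f : G →* H) (hf : Function.Injective f)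
    {A B : Subgroup G} (h : Cn A B) : Cn (A.map f) (B.map f) := by
  unfold Cn at h ⊢
  induction h with
  | refl => exact Relation.ReflTransGen.refl
  | tail _ hbc ih =>
    refine ih.tail ⟨klein_map hbc.1 _ hf, klein_map hbc.2.1 _ hf, ?_⟩
    rintro _ ⟨a, ha, rfl⟩ _ ⟨b, hb, rfl⟩
    rw [← map_mul, ← map_mul, hbc.2.2 a ha b hb]

theorem Cn.cj {G : Type*} [Group G] (g : G) {A B : Subgroup G} (h : Cn A B) :
    Cn cj(g, A) cj(g, B) := h.map _ (MulAut.conj g).injective

theorem Cn.trans {G : Type*} [Group G] {A B C : Subgroup G} (h : Cn A B) (h' : Cn B C) : Cn A C :=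
  Relation.ReflTransGen.trans h h'

theorem cn_of_le {G : Type*} [Group G] {S A B : Subgroup G} (hS : IsFourConnected S)
    (hA : IsKleinFour A) (hB : IsKleinFour B) (hAS : A ≤ S) (hBS : B ≤ S) : Cn A B := by
  have := Cn.map S.subtype S.subtype_injective
    (hS _ _ (klein_subgroupOf hA hAS) (klein_subgroupOf hB hBS))
  rwa [map_subgroupOf_of_le hAS, map_subgroupOf_of_le hBS] at this



/-- Let G be a finite group of 2-rank at least 2 and S a Sylow 2-subgroup whose commuting graph of Klein four-subgroups is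
connected. Then the commuting graph of Klein four-subgroups of G is disconnected if and only if the 2-generated core — the
subgroup generated by the normalizers N_G(Q) of the subgroups Q of S that contain a Klein four-group — is a proper
subgroup of G. -/
theorem result {G : Type*} [Group G] [Finite G] (h2 : ¬ Cfsg.PRankLE 2 1 G)
    (S : Sylow 2 G) (hS : Cfsg.IsFourConnected (S : Subgroup G)) :
    ¬ Cfsg.IsFourConnected G ↔
      (⨆ Q : {Q : Subgroup G // Q ≤ (S : Subgroup G) ∧ ¬ Cfsg.PRankLE 2 1 Q},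
          Subgroup.normalizer ((Q : Subgroup G) : Set G)) ≠ ⊤ := by
  set M := (⨆ Q : {Q : Subgroup G // Q ≤ (S : Subgroup G) ∧ ¬ Cfsg.PRankLE 2 1 Q},
          Subgroup.normalizer ((Q : Subgroup G) : Set G)) with hM
  have hSyl : IsSyl 2 (S : Subgroup G) ⊤ := isSyl_top S
  have hrS := not_pRankLE_sylow hSyl h2
  obtain ⟨U, hUS, hU⟩ := Misc.not_pRankLE_two_one_iff.1 hrS
  have hN : ∀ Q : Subgroup G, Q ≤ S → ∀ V, V ≤ Q → IsKleinFour V → 𝐍[Q] ≤ M := fun Q hQ V hV hV4 =>
    le_iSup (fun Q : {Q : Subgroup G // Q ≤ (S : Subgroup G) ∧ ¬ Cfsg.PRankLE 2 1 Q} =>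
      Subgroup.normalizer ((Q : Subgroup G) : Set G))
      ⟨Q, hQ, Misc.not_pRankLE_two_one_iff.2 ⟨V, hV, hV4⟩⟩
  have hSM : (S : Subgroup G) ≤ M := le_normalizer.trans (hN S le_rfl U hUS hU)
  constructor
  · intro hc htop
    apply hc
    have key : ∀ g : G, Cn U cj(g, U) ∧ Cn cj(g, U) U := by
      let H : Subgroup G :=
        { carrier := {g | Cn U cj(g, U) ∧ Cn cj(g, U) U}
          one_mem' := by
            change Cn U cj(1, U) ∧ Cn cj(1, U) U
            rw [cj_one]; exact ⟨Relation.ReflTransGen.refl, Relation.ReflTransGen.refl⟩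
          mul_mem' := by
            rintro a b ⟨ha, ha'⟩ ⟨hb, hb'⟩
            change Cn U cj(a * b, U) ∧ Cn cj(a * b, U) U
            rw [cj_mul]
            exact ⟨ha.trans (hb.cj a), (hb'.cj a).trans ha'⟩
          inv_mem' := by
            rintro a ⟨ha, ha'⟩
            have h1 := ha.cj a⁻¹
            have h2 := ha'.cj a⁻¹
            rw [cj_inv_cj] at h1 h2
            exact ⟨h2, h1⟩ }
      have hH : M ≤ H := by
        refine iSup_le fun Q g hg => ?_
        obtain ⟨V, hVQ, hV⟩ := Misc.not_pRankLE_two_one_iff.1 Q.2.2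
        have hVS : V ≤ S := hVQ.trans Q.2.1
        have hgV : cj(g, V) ≤ S := (cj_le_of_mem_normalizer hVQ hg).trans Q.2.1
        exact ⟨(cn_of_le hS hU (klein_cj hV g) hUS hgV).trans ((cn_of_le hS hV hU hVS hUS).cj g),
          ((cn_of_le hS hU hV hUS hVS).cj g).trans (cn_of_le hS (klein_cj hV g) hU hgV hUS)⟩
      intro g
      exact hH (htop ▸ mem_top g)
    have key2 : ∀ V : Subgroup G, IsKleinFour V → Cn U V ∧ Cn V U := by
      intro V hV
      obtain ⟨g, -, hg⟩ := hSyl.exists_le_cj (isPGroup_of_ea (ea_of_klein hV)) le_top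
      have h1 := fourConnected_cj hS g
      exact ⟨(key g).1.trans (cn_of_le h1 (klein_cj hU g) hV (cj_mono g hUS) hg),
        (cn_of_le h1 hV (klein_cj hU g) hg (cj_mono g hUS)).trans (key g).2⟩
    intro A B hA hB
    exact (key2 A hA).2.trans (key2 B hB).1
  · intro hne hc
    apply hne
    have hSylM : IsSyl 2 (S : Subgroup G) M := hSyl.mono hSM le_top
    have hN' : ∀ Q : Subgroup G, Q ≤ M → IsPGroup 2 Q → ∀ V, V ≤ Q → IsKleinFour V → 𝐍[Q] ≤ M := by
      intro Q hQ hQp V hV hV4
      obtain ⟨m, hm, hmQ⟩ := hSylM.exists_cj_le hQp hQ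
      have h1 := hN _ hmQ _ (cj_mono m hV) (klein_cj hV4 m)
      rw [normalizer_cj, cj_le_iff, cj_of_mem (M.inv_mem hm)] at h1
      exact h1
    have hle : ∀ V, Cn U V → V ≤ M := by
      intro V h
      induction h with
      | refl => exact hUS.trans hSM
      | tail _ h2 ih =>
        refine le_trans ?_ ((centralizer_le_normalizer' _).trans
          (hN' _ ih (isPGroup_of_ea (ea_of_klein h2.1)) _ le_rfl h2.1))
        intro b hb a ha
        exact h2.2.2 a ha b hb
    rw [eq_top_iff]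
    intro g _
    have hgU : cj(g, U) ≤ M := hle _ (hc _ _ hU (klein_cj hU g))
    have hp : IsPGroup 2 ↥cj(g, (S : Subgroup G)) := isPGroup_cj g hSyl.pgrp
    have hgS : cj(g, (S : Subgroup G)) ≤ M := by
      have h1 := eq_of_inf_normalizer_le hp (inf_le_left : cj(g, (S : Subgroup G)) ⊓ M ≤ _)
        (le_inf inf_le_left (inf_le_right.trans (hN' _ inf_le_right (hp.to_le inf_le_left) _
          (le_inf (cj_mono g hUS) hgU) (klein_cj hU g))))
      rw [← h1]; exact inf_le_right
    obtain ⟨m, hm, hmS⟩ := hSylM.exists_cj_eq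
      ((hSyl.cj_of_mem (mem_top g)).mono hgS le_top)
    rw [← cj_mul, cj_eq_iff] at hmS
    have := M.mul_mem (M.inv_mem hm) (hN S le_rfl U hUS hU hmS)
    simpa using this

end Cfsg.Agent.S0520
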