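import Cfsg.Statements.S0522
import Mathlib
import Cfsg.Agent.S1480
import Cfsg.Agent.Grp.PChain

set_option autoImplicit false
open Cfsg

namespace Cfsg.Agent.S0522

/-- Transitivity Theorem (odd-order setting). Let X be a finite group of odd order in which the normalizer of every
nontrivial p-subgroup is solvable, P a Sylow p-subgroup, and B an abelian subgroup of P, normalized by P, with
C_P(B) = B and containing an elementary abelian subgroup of order p^3. Then for every prime q ≠ p, any two q-subgroups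
that are maximal among the q-subgroups normalized by B are conjugate by an element of the centralizer of B. -/
theorem result {X : Type*} [Group X] [Finite X] (hX : Odd (Nat.card X)) (p : ℕ)
    [Fact p.Prime] (hloc : ∀ T : Subgroup X, IsPGroup p T → T ≠ ⊥ → Group.IsSolvable (Subgroup.normalizer (T : Set X)))
    (P : Sylow p X) (B : Subgroup X) (hBP : B ≤ (P : Subgroup X))
    (hBn : ∀ x ∈ (P : Subgroup X), ∀ b ∈ B, x * b * x⁻¹ ∈ B) (hBa : IsMulCommutative B)
    (hBc : (P : Subgroup X) ⊓ Subgroup.centralizer (B : Set X) = B)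
    (hB3 : ∃ E : Subgroup X, E ≤ B ∧ (∀ e ∈ E, e ^ p = 1) ∧ p ^ 3 ≤ Nat.card E)
    (q : ℕ) [Fact q.Prime] (hqp : q ≠ p) (Q₁ Q₂ : Subgroup X)
    (h₁ : IsPGroup q Q₁ ∧ B ≤ Subgroup.normalizer (Q₁ : Set X) ∧
      ∀ R : Subgroup X, IsPGroup q R → B ≤ Subgroup.normalizer (R : Set X) → Q₁ ≤ R → R = Q₁)
    (h₂ : IsPGroup q Q₂ ∧ B ≤ Subgroup.normalizer (Q₂ : Set X) ∧
      ∀ R : Subgroup X, IsPGroup q R → B ≤ Subgroup.normalizer (R : Set X) → Q₂ ≤ R → R = Q₂) :
    ∃ c ∈ Subgroup.centralizer (B : Set X), Q₂ = Q₁.map (MulAut.conj c).toMonoidHom := by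
  have hp : p.Prime := Fact.out
  have hq : q.Prime := Fact.out
  have hBp : IsPGroup p B := P.isPGroup'.to_le hBP
  obtain ⟨E, hEB, hEp, hE3⟩ := hB3
  have hp2 : p ≠ 2 := by
    rintro rfl
    have h1 : E ≠ ⊥ := by
      rintro rfl
      simp at hE3
    rcases (hBp.to_le hEB).card_eq_or_dvd with h | h
    · exact h1 (Subgroup.card_eq_one.mp h)
    · exact (Nat.not_even_iff_odd.mpr hX) (even_iff_two_dvd.mpr (h.trans E.card_subgroup_dvd_card))
  have hPN : (P : Subgroup X) ≤ Subgroup.normalizer (B : Set X) :=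
    Subgroup.le_normalizer_iff.mpr hBn
  have hmax : ∀ Q : Subgroup X, (IsPGroup q Q ∧ B ≤ Subgroup.normalizer (Q : Set X) ∧
      ∀ R : Subgroup X, IsPGroup q R → B ≤ Subgroup.normalizer (R : Set X) → Q ≤ R → R = Q) →
      Q ∈ Cfsg.maxInvSubgroups ⊤ B {q} := fun Q h =>
    ⟨⟨le_top, (FT.B7.isPGroup_iff_primes hq).mp h.1, h.2.1⟩,
      fun R hR hQR => h.2.2 R ((FT.B7.isPGroup_iff_primes hq).mpr hR.2.1) hR.2.2 hQR⟩
  suffices hfull : ∀ x ∈ Subgroup.centralizer (B : Set X), IsPGroup p (Subgroup.zpowers x) → x ∈ B by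
   obtain ⟨k, hk, h⟩ := S1480.result p
    (fun T hT h1 => by
      have := hloc T hT h1
      exact PLocal.isPConstrained_of_isSolvable)
    (fun h => absurd h hp2) B hBp hBa
    (by
      rw [FT.R2.pRankLE_iff]
      intro h
      exact absurd (h E hEB ⟨Grp.PChain.isMulCommutative_of_le hBa hEB, hEp⟩)
        (not_le.mpr (FT.R2.sq_lt_cube.trans_le hE3)))
    hfull q hqp Q₁ (hmax _ h₁) Q₂ (hmax _ h₂)
   exact ⟨k, FT.B7.piCoreOf_le _ _ hk, h⟩
  intro x hx hxp
  · -- `B` is a central Sylow subgroup of its centralizer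
    set N := Subgroup.normalizer (B : Set X) with hN
    set C := Subgroup.centralizer (B : Set X) with hC
    have hCN : C ≤ N := Subgroup.centralizer_le_normalizer _
    have : (C.subgroupOf N).Normal := (Subgroup.normal_subgroupOf_iff_le_normalizer hCN).mpr
      (FT.B7.normalizer_le_normalizer_centralizer B)
    obtain ⟨S, hS⟩ := (hxp.comap_subtype (K := N)).exists_le_sylow
    obtain ⟨g, hg⟩ := MulAction.exists_smul_eq N S (P.subtype hPN)
    have h1 : g * ⟨x, hCN hx⟩ * g⁻¹ ∈ (P.subtype hPN : Subgroup N) := by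
      rw [← hg]
      exact Subgroup.smul_mem_pointwise_smul _ (MulAut.conj g) _ (hS (Subgroup.mem_zpowers x))
    have h2 : g * ⟨x, hCN hx⟩ * g⁻¹ ∈ C.subgroupOf N := this.conj_mem _ hx g
    have h3 : (g : X) * x * (g : X)⁻¹ ∈ B := hBc ▸ ⟨h1, h2⟩
    exact (Subgroup.mem_normalizer_iff.mp g.2 x).mpr h3

end Cfsg.Agent.S0522
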