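import Cfsg.Statements.S0547
import Mathlib
import Cfsg.Agent.Solv.CoreFree
import Cfsg.Agent.S0548

set_option autoImplicit false
open Cfsg

namespace Cfsg.Agent.S0547

/-- Let a finite solvable group G act faithfully and primitively on a set, and let M be a minimal normal subgroup of G. Then M is transitive with trivial point stabilizers, and the number of points equals the order of M, which is a prime power p ^ d with d ≥ 1. -/
theorem result {G : Type*} [Group G] [Finite G] [Group.IsSolvable G] {Ω : Type*} [Nonempty Ω] [MulAction G Ω] [FaithfulSMul G Ω] (hprim : MulAction.IsPreprimitive G Ω) (M : Subgroup G) [M.Normal] (hM : M ≠ ⊥) (hmin : ∀ K : Subgroup G, K.Normal → K ≤ M → K = ⊥ ∨ K = M) : MulAction.IsPretransitive M Ω ∧ (∀ ω : Ω, MulAction.stabilizer M ω = ⊥) ∧ ∃ p d : ℕ, p.Prime ∧ 0 < d ∧ Nat.card Ω = p ^ d ∧ Nat.card M = p ^ d := by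
  obtain ⟨hc, p, hp, hpow⟩ := Grp.minNormal_elementaryAbelian M hM hmin
  have hcomp : ∀ ω : Ω, Subgroup.IsComplement' M (MulAction.stabilizer G ω) := fun ω =>
    (S0548.result hprim M hM hmin ω).1
  refine ⟨⟨fun x y => ?_⟩, fun ω => ?_, ?_⟩
  · obtain ⟨g, rfl⟩ := MulAction.exists_smul_eq G x y
    obtain ⟨⟨⟨m, hm⟩, ⟨s, hs⟩⟩, rfl⟩ := (hcomp x).2 g
    refine ⟨⟨m, hm⟩, ?_⟩
    have hs' : s • x = x := hs
    simp [mul_smul, hs', Subgroup.smul_def]
  · rw [eq_bot_iff]
    intro m hm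
    have : (m : G) ∈ M ⊓ MulAction.stabilizer G ω := ⟨m.2, hm⟩
    rw [(hcomp ω).disjoint.eq_bot] at this
    exact Subtype.ext this
  · have : Fact p.Prime := ⟨hp⟩
    have : Nontrivial M := (Subgroup.nontrivial_iff_ne_bot M).2 hM
    obtain ⟨d, hd, hcard⟩ := (Grp.isPGroup_of_pow_eq_one hpow).nontrivial_iff_card.1 this
    refine ⟨p, d, hp, hd, ?_, hcard⟩
    obtain ⟨ω⟩ := ‹Nonempty Ω›
    rw [← hcard, ← (hcomp ω).index_eq_card, MulAction.index_stabilizer_of_transitive]

end Cfsg.Agent.S0547
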