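import Cfsg.Statements.S0556
import Mathlib
import Cfsg.Agent.Solv.CoreFree
import Cfsg.Agent.Solv.Frobenius
import Cfsg.Agent.Solv.CoprimeSylow
import Cfsg.Agent.Solv.Coprime2
import Cfsg.Agent.Grp.Frattini
import Cfsg.Agent.S0035
import Cfsg.Agent.Solv.Misc1

set_option autoImplicit false
open Cfsg

namespace Cfsg.Agent.S0556

/-- A Frobenius group whose complement is an abelian maximal subgroup is metabelian. -/
theorem frob {G : Type*} [Group G] [Finite G] (A : Subgroup G) (hA : IsCoatom A)
    [IsMulCommutative A] (hF : IsFrobeniusComplement A) : derivedSeries G 2 = ⊥ := by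
  obtain ⟨K, -, hKn, hK⟩ := S0035.result A hF
  have hKb : K ≠ ⊥ := by
    rintro rfl
    exact hA.1 (Subgroup.isComplement'_bot_left.1 hK)
  have hcop : (Nat.card A).Coprime (Nat.card K) := by
    rw [← hK.index_eq_card]; exact Solv.Frob.coprime_card_index hF
  obtain ⟨p, hp, hpK⟩ := Nat.exists_prime_and_dvd (mt Subgroup.card_eq_one.1 hKb)
  have := Fact.mk hp
  obtain ⟨P, hP⟩ := Solv.exists_invariant_sylow A K Subgroup.le_normalizer_of_normal hcop
    (Or.inl (Solv.isSolvable_of_isMulCommutative A)) p
  set Q : Subgroup G := (P : Subgroup K).map K.subtype with hQ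
  have hQp : IsPGroup p Q := P.isPGroup'.map _
  have hQb : Q ≠ ⊥ := fun h => P.ne_bot_of_dvd_card hpK
    ((Subgroup.map_eq_bot_iff_of_injective _ K.subtype_injective).1 h)
  have : Nontrivial Q := (Subgroup.nontrivial_iff_ne_bot Q).2 hQb
  have hZ : (Subgroup.center Q).map Q.subtype ≠ ⊥ := fun h => hQp.bot_lt_center.ne'
    ((Subgroup.map_eq_bot_iff_of_injective _ Q.subtype_injective).1 h)
  have hZK := (Solv.eq_bot_or_eq_of_isCoatom_of_inf_eq_bot hA hK.disjoint.eq_bot
    ((Subgroup.map_subtype_le (Subgroup.center Q)).trans (Subgroup.map_subtype_le _))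
    (hP.trans (Grp.normalizer_le_normalizer_map_of_characteristic Q _))).resolve_left hZ
  have hKc : IsMulCommutative K := hZK ▸ inferInstance
  have h1 : commutator G ≤ K := by
    rw [← Subgroup.Normal.quotient_commutative_iff_commutator_le]
    exact ⟨⟨fun a b => hK.symm.QuotientMulEquiv.injective (by
      rw [map_mul, map_mul, mul_comm'])⟩⟩
  rw [eq_bot_iff, ← Subgroup.commutator_self_eq_bot_iff.2 hKc]
  exact Subgroup.commutator_mono h1 h1

/-- If a finite group has a maximal subgroup that is abelian, then the third term of its derived series is trivial (so the group is solvable of derived length at most three). -/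
theorem result {G : Type*} [Group G] [Finite G] (A : Subgroup G) (hA : IsCoatom A) [IsMulCommutative A] : derivedSeries G 3 = ⊥ := by
  by_cases hn : A.Normal
  · have h1 : commutator G ≤ A := Solv.commutator_le_of_isCoatom_of_normal hA
    have h2 : derivedSeries G 2 = ⊥ := by
      rw [eq_bot_iff, ← Subgroup.commutator_self_eq_bot_iff.2 ‹IsMulCommutative A›]
      exact Subgroup.commutator_mono h1 h1
    rw [derivedSeries_succ, h2, Subgroup.commutator_bot_left]
  have hnorm : Subgroup.normalizer (A : Set G) = A := by
    rcases (Subgroup.le_normalizer (H := A)).eq_or_lt with h | h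
    · exact h.symm
    · exact absurd (Subgroup.normalizer_eq_top_iff.1 (hA.2 _ h)) hn
  set Z := Subgroup.center G with hZ
  have hZA : Z ≤ A := hnorm ▸ Subgroup.center_le_normalizer _
  let π := QuotientGroup.mk' Z
  have hπ : Function.Surjective π := QuotientGroup.mk'_surjective Z
  have hA' : IsCoatom (A.map π) :=
    Grp.isCoatom_map_of_ker_le π hπ hA ((QuotientGroup.ker_mk' Z).le.trans hZA)
  have hmem : ∀ g : G, π g ∈ A.map π → g ∈ A := fun g hg => by
    have : g ∈ (A.map π).comap π := hg
    rwa [Subgroup.comap_map_eq, QuotientGroup.ker_mk', sup_eq_left.2 hZA] at this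
  have hF : IsFrobeniusComplement (A.map π) := by
    rw [Solv.Frob.isFrobeniusComplement_iff]
    refine ⟨fun h => hn ?_, hA'.1, fun g h hh h1 hg => ?_⟩
    · rw [Subgroup.map_eq_bot_iff, QuotientGroup.ker_mk'] at h
      rw [le_antisymm h hZA]; infer_instance
    · obtain ⟨g, rfl⟩ := hπ g
      obtain ⟨h, hh, rfl⟩ := hh
      rw [← map_inv, ← map_mul, ← map_mul] at hg
      replace hg := hmem _ hg
      refine ⟨g, ?_, rfl⟩
      by_contra hgA
      apply h1
      -- `h` is centralized by `A` and by `g⁻¹ A g`
      have hC1 : A ≤ Subgroup.centralizer {h} := fun a ha =>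
        Subgroup.mem_centralizer_singleton_iff.2 (setLike_mul_comm (s := A) ha hh)
      rcases hC1.eq_or_lt with heq | hlt
      · exfalso
        apply hgA
        rw [SetLike.mem_coe, ← inv_mem_iff, ← hnorm]
        apply Subgroup.mem_normalizer_fintype
        intro a ha
        rw [SetLike.mem_coe, heq, Subgroup.mem_centralizer_singleton_iff, inv_inv]
        have := setLike_mul_comm (s := A) ha hg
        calc g⁻¹ * a * g * h = g⁻¹ * (a * (g * h * g⁻¹)) * g := by group
          _ = g⁻¹ * (g * h * g⁻¹ * a) * g := by rw [this]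
          _ = h * (g⁻¹ * a * g) := by group
      · have := hA.2 _ hlt
        rw [QuotientGroup.mk'_apply, QuotientGroup.eq_one_iff, hZ, Subgroup.mem_center_iff]
        intro x
        exact Subgroup.mem_centralizer_singleton_iff.1 (this ▸ Subgroup.mem_top x)
  have h2 := frob (A.map π) hA' hF
  rw [← map_derivedSeries_eq hπ, Subgroup.map_eq_bot_iff, QuotientGroup.ker_mk'] at h2
  rw [derivedSeries_succ, eq_bot_iff, ← Subgroup.commutator_center_left (G := G) ⊤]
  exact Subgroup.commutator_mono h2 le_top

end Cfsg.Agent.S0556
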