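import Cfsg.Statements.S0632
import Mathlib
import Cfsg.Agent.PLocal.PConstr

set_option autoImplicit false
open Cfsg

namespace Cfsg.Agent.S0632

/-- For a group with a nontrivial normal p-subgroup, p-stability passes to and from the quotient by the largest normal subgroup of order prime to p. -/
theorem result {G : Type*} [Group G] [Finite G] {p : ℕ} [Fact p.Prime] (hO : Cfsg.pCore p G ≠ ⊥) : Cfsg.IsPStable p G ↔ Cfsg.IsPStable p (G ⧸ Cfsg.pPrimeCore p G) := by
  rw [PLocal.isPStable_iff_stableOnNormal_quotient,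
    PLocal.isPStable_iff_of_pPrimeCore_eq_bot (Grp.pPrimeCore_quotient_pPrimeCore p G)]
  exact ⟨fun h => ⟨h.1, PLocal.pCore_quotient_pPrimeCore_ne_bot hO, h.2.2⟩,
    fun h => ⟨h.1, hO, h.2.2⟩⟩

end Cfsg.Agent.S0632
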