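import Cfsg.Statements.S0633
import Mathlib
import Cfsg.Agent.PLocal.HallHigman

set_option autoImplicit false
open Cfsg

namespace Cfsg.Agent.S0633

/-- Theorem B of Hall and Higman on the minimal polynomial of a p-element of order p^n in a p-solvable linear group on a nonzero vector space in characteristic p with no nontrivial normal p-subgroup: its degree is p^n, except when some p^n₀ - 1 (n₀ ≤ n) is a power of a prime q for which the Sylow q-subgroups are non-abelian, in which case the degree is at least p^(n-n₀)(p^n₀ - 1). -/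
theorem result {F : Type*} [Field F] {p : ℕ} [Fact p.Prime] [CharP F p] {V : Type*} [AddCommGroup V] [Module F V] [FiniteDimensional F V] [Nontrivial V] (H : Subgroup (V ≃ₗ[F] V)) [Finite H] (hsol : Cfsg.IsPSolvable p H) (hOp : Cfsg.pCore p H = ⊥) (x : V ≃ₗ[F] V) (hx : x ∈ H) (n : ℕ) (hn : orderOf x = p ^ n) (r : ℕ) (hr : minpoly F (x : Module.End F V) = (Polynomial.X - 1) ^ r) : r = p ^ n ∨ ∃ n₀ q m : ℕ, 1 ≤ n₀ ∧ n₀ ≤ n ∧ q.Prime ∧ 1 ≤ m ∧ p ^ n₀ - 1 = q ^ m ∧ (∀ Q : Sylow q H, ¬ IsMulCommutative Q) ∧ p ^ (n - n₀) * (p ^ n₀ - 1) ≤ r := by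
  let ρ : H →* Module.End F V :=
    { toFun := fun h => ((h : V ≃ₗ[F] V) : Module.End F V)
      map_one' := rfl
      map_mul' := fun _ _ => rfl }
  have hρ : Function.Injective ρ := fun a b h => Subtype.ext (LinearEquiv.toLinearMap_injective h)
  have hint : IsIntegral F (x : Module.End F V) := Algebra.IsIntegral.isIntegral _
  have hmin : ∀ k, ((x : Module.End F V) - 1) ^ k = 0 ↔ r ≤ k := by
    intro k
    have h1 : ((x : Module.End F V) - 1) ^ k =
        Polynomial.aeval (x : Module.End F V) ((Polynomial.X - 1 : Polynomial F) ^ k) := by simp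
    rw [h1, ← minpoly.dvd_iff, hr]
    exact pow_dvd_pow_iff (Polynomial.X_sub_C_ne_zero 1) (Polynomial.not_isUnit_X_sub_C 1)
  have hle : r ≤ p ^ n := by
    rw [← hmin, PLocal.HH.sub_one_pow_char_pow (F := F) p, sub_eq_zero]
    have : ρ ⟨x, hx⟩ ^ p ^ n = 1 := by
      rw [← map_pow, show (⟨x, hx⟩ : H) ^ p ^ n = 1 from Subtype.ext (hn ▸ pow_orderOf_eq_one x),
        map_one]
    exact this
  rcases PLocal.HH.theoremB ρ hρ hsol hOp (x := ⟨x, hx⟩) (n := n)
    (by rw [Subgroup.orderOf_mk, hn]) with h | ⟨n₀, q, m, h1, h2, h3, h4, h5, h6, h7⟩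
  · have := mt (hmin _).mpr h
    left
    omega
  · have := mt (hmin _).mpr h7
    exact Or.inr ⟨n₀, q, m, h1, h2, h3, h4, h5, h6, by omega⟩

end Cfsg.Agent.S0633
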