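import Cfsg.Statements.S0635
import Mathlib
import Cfsg.Agent.PLocal.UpperP

set_option autoImplicit false
open Cfsg

namespace Cfsg.Agent.S0635

universe u in
theorem aux {p : ℕ} [Fact p.Prime] (c : ℕ) : ∀ {G : Type u} [Group G] [Finite G]
    (_ : Cfsg.IsPSolvable p G) (S : Sylow p G),
    Group.nilpotencyClass ↥(S : Subgroup G) ≤ c → Cfsg.PLengthLE p c G := by
  induction c with
  | zero =>
    intro G _ _ _ S hc
    have : Group.IsNilpotent (S : Subgroup G) := S.isPGroup'.isNilpotent
    rw [Nat.le_zero, Group.nilpotencyClass_zero_iff_subsingleton] at hc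
    rw [PLocal.pLengthLE_zero_iff, Nat.coprime_comm, Nat.Prime.coprime_iff_not_dvd Fact.out]
    have h1 := S.not_dvd_index
    have h2 := (S : Subgroup G).card_mul_index
    rw [Nat.card_of_subsingleton (1 : (S : Subgroup G)), one_mul] at h2
    rwa [← h2]
  | succ c ih =>
    intro G _ _ hsol S hc
    have : Group.IsNilpotent (S : Subgroup G) := S.isPGroup'.isNilpotent
    rw [PLocal.pLengthLE_succ_iff]
    refine ih (PLocal.IsPSolvable.quotient hsol _)
      (S.mapSurjective (QuotientGroup.mk'_surjective (Cfsg.pPrimePCore p G))) ?_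
    set f := (QuotientGroup.mk' (Cfsg.pPrimePCore p G)).subgroupMap (S : Subgroup G) with hf
    have hker : Subgroup.center (S : Subgroup G) ≤ f.ker := by
      intro z hz
      rw [hf, Subgroup.ker_subgroupMap, QuotientGroup.ker_mk', Subgroup.mem_subgroupOf]
      apply PLocal.IsPConstrained.centralizer_sylow_inf_le
        (PLocal.isPConstrained_of_isPSolvable hsol) S
      rw [Subgroup.mem_centralizer_iff]
      intro y hy
      have := Subgroup.mem_center_iff.mp hz ⟨y, hy.1⟩
      exact congrArg Subtype.val this
    have hsurj : Function.Surjective (QuotientGroup.lift _ f hker) :=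
      QuotientGroup.lift_surjective_of_surjective _ _ (MonoidHom.subgroupMap_surjective _ _) _
    have h1 := Group.nilpotencyClass_le_of_surjective _ hsurj
    rw [Group.nilpotencyClass_quotient_center] at h1
    exact h1.trans (by omega)

/-- The p-length of a p-soluble group is at most the nilpotency class of its Sylow p-subgroups. -/
theorem result {G : Type*} [Group G] [Finite G] {p : ℕ} [Fact p.Prime] (hsol : Cfsg.IsPSolvable p G) (S : Sylow p G) : Cfsg.PLengthLE p (Group.nilpotencyClass ↥(S : Subgroup G)) G := by
  exact aux _ hsol S le_rfl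

end Cfsg.Agent.S0635
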