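import Cfsg.Statements.S0647
import Mathlib

set_option autoImplicit false
open Cfsg

namespace Cfsg.Agent.S0647

/-- For a nonempty family of maximal abelian subgroups of a finite group, the intersection of the family is the centre of the subgroup it generates, which is also the full centralizer of that subgroup. -/
theorem result {S : Type*} [Group S] [Finite S] (𝒜 : Set (Subgroup S)) (hne : 𝒜.Nonempty) (hab : ∀ A ∈ 𝒜, IsMulCommutative A) (hmax : ∀ A ∈ 𝒜, ∀ B : Subgroup S, IsMulCommutative B → A ≤ B → B = A) : sInf 𝒜 = sSup 𝒜 ⊓ Subgroup.centralizer ((sSup 𝒜 : Subgroup S) : Set S) ∧ sInf 𝒜 = Subgroup.centralizer ((sSup 𝒜 : Subgroup S) : Set S) := by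
  have h2 : sInf 𝒜 = Subgroup.centralizer ((sSup 𝒜 : Subgroup S) : Set S) := by
    apply le_antisymm
    · rw [Subgroup.le_centralizer_iff]
      refine sSup_le fun A hA => ?_
      intro a ha x hx
      have := hab A hA
      exact setLike_mul_comm ((sInf_le hA : sInf 𝒜 ≤ A) hx) ha
    · refine le_sInf fun A hA => ?_
      intro x hx
      have hxA : ∀ a ∈ A, a * x = x * a := fun a ha => hx a ((le_sSup hA : A ≤ sSup 𝒜) ha)
      have := hab A hA
      have hc : IsMulCommutative (A ⊔ Subgroup.zpowers x : Subgroup S) := by
        rw [Subgroup.zpowers_eq_closure, ← Subgroup.closure_eq A, ← Subgroup.closure_union]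
        refine Subgroup.isMulCommutative_closure ?_
        rintro a (ha | rfl) b (hb | rfl)
        · exact setLike_mul_comm ha hb
        · exact hxA a ha
        · exact (hxA b hb).symm
        · rfl
      rw [← hmax A hA _ hc le_sup_left]
      exact Subgroup.mem_sup_right (Subgroup.mem_zpowers x)
  refine ⟨?_, h2⟩
  obtain ⟨A, hA⟩ := hne
  rw [← h2, inf_of_le_right ((sInf_le hA).trans (le_sSup hA))]

end Cfsg.Agent.S0647
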