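import Cfsg.Statements.S0649
import Mathlib
import Cfsg.Agent.Inv.BaerSuzuki

set_option autoImplicit false
open Cfsg

namespace Cfsg.Agent.S0649

/-- In the Glauberman replacement situation, if B does not normalize A then some element of B normalizes N_S(A) without normalizing A. -/
theorem result {S : Type*} [Group S] [Finite S] {p : ℕ} [Fact p.Prime] (hS : IsPGroup p S) (B : Subgroup S) [B.Normal] (hB2 : p = 2 → IsMulCommutative B) (A : Subgroup S) (hA : IsMulCommutative A) (hBA : ⁅B, B⁆ ≤ A) (hnot : ¬ B ≤ Subgroup.normalizer (A : Set S)) : ∃ b ∈ B, b ∈ Subgroup.normalizer ((Subgroup.normalizer (A : Set S)) : Set S) ∧ b ∉ Subgroup.normalizer (A : Set S) := by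
  set N := Subgroup.normalizer (A : Set S) with hN
  have hlt : N < B ⊔ N := lt_of_le_of_ne le_sup_right (fun h => hnot (h ▸ le_sup_left))
  have h2 := Inv.lt_inf_normalizer_of_lt_pgroup (hS.to_subgroup (B ⊔ N)) hlt
  obtain ⟨x, hx, hxN⟩ := SetLike.exists_of_lt h2
  obtain ⟨b, hb, n, hn, rfl⟩ := Subgroup.mem_sup_of_normal_left.mp hx.1
  refine ⟨b, hb, ?_, fun h => hxN (N.mul_mem h hn)⟩
  have := Subgroup.mul_mem _ hx.2 (Subgroup.inv_mem _ (Subgroup.le_normalizer hn))
  rwa [mul_inv_cancel_right] at this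

end Cfsg.Agent.S0649
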