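import Cfsg.Statements.S0650
import Mathlib
import Cfsg.Agent.PLocal.Replacement

set_option autoImplicit false
open Cfsg

namespace Cfsg.Agent.S0650

/-- The Glauberman replacement Theorem: from an abelian A ⊇ [B, B] not normalized by the normal subgroup B and a suitable b ∈ B one gets the abelian subgroup A* = (A ∩ b⁻¹Ab)[A, b] of the same order, containing [B, B], meeting B strictly more than A does but not containing B, mutually normalizing with A, with strictly larger normalizer containing b, and (p odd) of no larger exponent. -/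
theorem result {S : Type*} [Group S] [Finite S] {p : ℕ} [Fact p.Prime] (hS : IsPGroup p S) (B : Subgroup S) [B.Normal] (hB2 : p = 2 → IsMulCommutative B) (A : Subgroup S) (hA : IsMulCommutative A) (hBA : ⁅B, B⁆ ≤ A) (hnot : ¬ B ≤ Subgroup.normalizer (A : Set S)) (b : S) (hb : b ∈ B) (hbN : b ∈ Subgroup.normalizer ((Subgroup.normalizer (A : Set S)) : Set S)) (hbA : b ∉ Subgroup.normalizer (A : Set S)) : Nat.card ↥((A ⊓ A.map (MulAut.conj (b⁻¹)).toMonoidHom) ⊔ Subgroup.closure {g : S | ∃ a ∈ A, g = a * b⁻¹ * a⁻¹ * b}) = Nat.card A ∧ IsMulCommutative ↥((A ⊓ A.map (MulAut.conj (b⁻¹)).toMonoidHom) ⊔ Subgroup.closure {g : S | ∃ a ∈ A, g = a * b⁻¹ * a⁻¹ * b}) ∧ ⁅B, B⁆ ≤ ((A ⊓ A.map (MulAut.conj (b⁻¹)).toMonoidHom) ⊔ Subgroup.closure {g : S | ∃ a ∈ A, g = a * b⁻¹ * a⁻¹ * b}) ∧ A ⊓ B < ((A ⊓ A.map (MulAut.conj (b⁻¹)).toMonoidHom) ⊔ Subgroup.closure {g : S | ∃ a ∈ A, g = a * b⁻¹ * a⁻¹ * b}) ⊓ B ∧ ((A ⊓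 A.map (MulAut.conj (b⁻¹)).toMonoidHom) ⊔ Subgroup.closure {g : S | ∃ a ∈ A, g = a * b⁻¹ * a⁻¹ * b}) ⊓ B < B ∧ A ≤ Subgroup.normalizer (((A ⊓ A.map (MulAut.conj (b⁻¹)).toMonoidHom) ⊔ Subgroup.closure {g : S | ∃ a ∈ A, g = a * b⁻¹ * a⁻¹ * b} : Subgroup S) : Set S) ∧ ((A ⊓ A.map (MulAut.conj (b⁻¹)).toMonoidHom) ⊔ Subgroup.closure {g : S | ∃ a ∈ A, g = a * b⁻¹ * a⁻¹ * b}) ≤ Subgroup.normalizer (A : Set S) ∧ b ∈ Subgroup.normalizer (((A ⊓ A.map (MulAut.conj (b⁻¹)).toMonoidHom) ⊔ Subgroup.closure {g : S | ∃ a ∈ A, g = a * b⁻¹ * a⁻¹ * b} : Subgroup S) : Set S) ∧ Subgroup.normalizer (A : Set S) < Subgroup.normalizer (((A ⊓ A.map (MulAut.conj (b⁻¹)).toMonoidHom) ⊔ Subgroup.closure {g : S | ∃ a ∈ A, g = a * b⁻¹ * a⁻¹ * b} : Subgroup S) : Set S) ∧ (p ≠ 2 → Monoid.exponent ↥((A ⊓ A.map (MulAut.conj (b⁻¹)).toMonoidHom) ⊔ Subgroup.closure {g : S | ∃ a ∈ A, g = a * b⁻¹ * a⁻¹ * b}) ∣ Monoid.exponent A) := by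
  have h : PLocal.ReplSetup A B (Subgroup.normalizer (A : Set S)) b :=
    ⟨fun a ha a' ha' => setLike_mul_comm ha ha', hBA, Subgroup.le_normalizer, le_rfl,
      (Subgroup.normalizer_eq_top B).ge.trans' le_top, hb, hbN⟩
  have hodd : p ≠ 2 → ∀ n : ℕ, n ∣ Nat.card S → Odd n := by
    intro hp n hn
    obtain ⟨k, hk⟩ := IsPGroup.iff_card.mp hS
    exact Odd.of_dvd_nat (hk ▸ ((Fact.out : p.Prime).odd_of_ne_two hp).pow) hn
  have h2 : IsMulCommutative B ∨ ∀ w ∈ B, w ^ 2 = 1 → w = 1 := by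
    by_cases hp : p = 2
    · exact Or.inl (hB2 hp)
    · right
      intro w _ hw
      have h1 := hodd hp _ (orderOf_dvd_natCard w)
      have h2 := orderOf_dvd_of_pow_eq_one hw
      rcases (Nat.dvd_prime Nat.prime_two).mp h2 with h3 | h3
      · exact orderOf_eq_one_iff.mp h3
      · rw [h3] at h1
        exact absurd h1 (by decide)
  refine ⟨h.card_repl, h.repl_comm h2, h.commutator_le_repl, h.inf_lt_repl_inf hbA,
    lt_of_le_of_ne inf_le_right (fun he => h.not_le_repl hbA (he ▸ inf_le_left)),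
    h.hAN.trans h.N_le_normalizer_repl, h.repl_le_N, h.b_mem_normalizer_repl,
    lt_of_le_of_ne h.N_le_normalizer_repl (fun he => hbA (he ▸ h.b_mem_normalizer_repl)), ?_⟩
  intro hp
  refine Monoid.exponent_dvd_of_forall_pow_eq_one fun y => Subtype.ext ?_
  refine h.pow_eq_one_of_mem_repl (hodd hp _ ?_) (fun a ha => ?_) y.2
  · exact Group.exponent_dvd_nat_card.trans (Subgroup.card_subgroup_dvd_card A)
  · exact congrArg Subtype.val (Monoid.pow_exponent_eq_one (⟨a, ha⟩ : A))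

end Cfsg.Agent.S0650
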