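import Cfsg.Statements.S0655
import Mathlib
import Cfsg.Agent.PLocal.ThompsonAb

set_option autoImplicit false
open Cfsg

namespace Cfsg.Agent.S0655

/-- In a p-group the intersection of all elementary abelian subgroups of largest order is the subgroup generated by the elements of order dividing p in the centre (equivalently the centralizer) of the elementary-version Thompson subgroup. -/
theorem result {S : Type*} [Group S] [Finite S] {p : ℕ} [Fact p.Prime] (hS : IsPGroup p S) : sInf (Cfsg.maxElementaryAbelianSubgroups p S) = Cfsg.omegaCenterThompson p S ∧ Cfsg.omegaCenterThompson p S = Cfsg.omegaOne p (Subgroup.centralizer (Cfsg.thompsonSubgroup p S : Set S)) := by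
  have h1 : omegaCenterThompson p S = omegaOne p (centerThompsonOf p (⊤ : Subgroup S)) := by
    rw [omegaCenterThompson, centerThompsonOf, PLocal.thompsonSubgroupOf_top]
  have h2 : sInf (maxElementaryAbelianSubgroups p S) = omegaCenterThompson p S := by
    rw [h1, PLocal.omegaOne_centerThompsonOf_eq_sInf, PLocal.maxEA_top]
  refine ⟨h2, le_antisymm (PLocal.omegaOne_mono inf_le_right) ?_⟩
  rw [← h2, ← PLocal.maxEA_top]
  refine le_sInf fun A hA => ?_
  have := PLocal.omegaOne_centralizer_thompson_le hA
  rwa [top_inf_eq, PLocal.thompsonSubgroupOf_top] at this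

end Cfsg.Agent.S0655
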