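import Cfsg.Statements.S0658
import Mathlib
import Cfsg.Agent.PLocal.PConstr

set_option autoImplicit false
open Cfsg

namespace Cfsg.Agent.S0658

/-- In a group of characteristic p type all of whose p-locals are p-stable (p odd), the normalizer of Z(J(P)) contains the normalizer of every nontrivial subgroup of the Sylow p-subgroup P. -/
theorem result {G : Type*} [Group G] [Finite G] {p : ℕ} [Fact p.Prime] (hp : p ≠ 2) (hloc : ∀ Q : Subgroup G, IsPGroup p Q → Q ≠ ⊥ → Cfsg.pPrimeCore p ↥(Subgroup.normalizer (Q : Set G)) = ⊥ ∧ Cfsg.IsPConstrained p ↥(Subgroup.normalizer (Q : Set G)) ∧ Cfsg.IsPStable p ↥(Subgroup.normalizer (Q : Set G))) (P : Sylow p G) (Q : Subgroup G) (hQP : Q ≤ (P : Subgroup G)) (hQ1 : Q ≠ ⊥) : Subgroup.normalizer (Q : Set G) ≤ Subgroup.normalizer (Cfsg.centerThompsonAOf ((P : Subgroup G)) : Set G) := by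
  set M := Subgroup.normalizer (centerThompsonAOf (P : Subgroup G) : Set G) with hM
  have hZJ : ∀ Q : Subgroup G, IsPGroup p Q → Q ≠ ⊥ → ∀ T : Subgroup G,
      PLocal.IsSylowIn p T (Subgroup.normalizer (Q : Set G)) →
      Subgroup.normalizer (Q : Set G) ≤ Subgroup.normalizer (centerThompsonAOf T : Set G) := by
    intro Q hQ hQ1 T hT
    obtain ⟨h1, h2, h3⟩ := hloc Q hQ hQ1
    obtain ⟨S, rfl⟩ := hT.exists_sylow
    have hn := PLocal.centerThompsonAOf_normal hp
      ((PLocal.isPConstrained_iff_of_pPrimeCore_eq_bot h1).mp h2)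
      ((PLocal.isPStable_iff_of_pPrimeCore_eq_bot h1).mp h3).2.2 S
    rw [← PLocal.map_centerThompsonAOf _ (Subgroup.subtype_injective _)]
    exact PLocal.CP.le_normalizer_map_subtype _ _
  have hPM : (P : Subgroup G) ≤ M := PLocal.le_normalizer_centerThompsonAOf _
  have key : ∀ T : Subgroup G, IsPGroup p T → T ≠ ⊥ → T ≤ M → ∀ Q : Subgroup G, IsPGroup p Q →
      Q ≠ ⊥ → T ≤ Subgroup.normalizer (Q : Set G) → Subgroup.normalizer (Q : Set G) ≤ M := by
    intro T
    induction T using WellFoundedGT.induction with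
    | ind T ih =>
    intro hT hT1 hTM Q hQ hQ1 hTQ
    by_cases h1 : ∃ R : Subgroup G, IsPGroup p R ∧ T < R ∧ R ≤ Subgroup.normalizer (Q : Set G) ⊓ M
    · obtain ⟨R, hR, hTR, hRle⟩ := h1
      exact ih R hTR hR (fun hb => hT1 (le_bot_iff.mp (hb ▸ hTR.le))) (hRle.trans inf_le_right) Q hQ
        hQ1 (hRle.trans inf_le_left)
    have hS : PLocal.IsSylowIn p T (Subgroup.normalizer (Q : Set G) ⊓ M) :=
      ⟨le_inf hTQ hTM, hT, fun R hR hTR hRle => by
        by_contra hne
        exact h1 ⟨R, hR, lt_of_le_of_ne hTR (fun he => hne he.ge), hRle⟩⟩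
    by_cases h2 : PLocal.IsSylowIn p T M
    · obtain ⟨m, hm, rfl⟩ := (PLocal.isSylowIn_of_le P hPM).exists_conj_eq h2
      have h3 : PLocal.IsSylowIn p ((P : Subgroup G).map (MulAut.conj m).toMonoidHom) ⊤ :=
        (PLocal.isSylowIn_top P).map_conj_of_mem trivial
      have h4 := hZJ Q hQ hQ1 _ (h3.mono hTQ le_top)
      rwa [← PLocal.map_centerThompsonAOf _ (MulAut.conj m).injective,
        PLocal.map_conj_eq_of_mem_normalizer hm] at h4
    · obtain ⟨R, hR, hTR⟩ := PLocal.exists_isSylowIn_ge hT hTM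
      obtain ⟨x, hxR, hxN, hxT⟩ := PLocal.exists_mem_normalizer_not_mem hR.isPGroup hTR
        (fun he => h2 (he ▸ hR))
      have hlt : T < R ⊓ Subgroup.normalizer (T : Set G) :=
        lt_of_le_of_ne (le_inf hTR Subgroup.le_normalizer) (fun he => hxT (he ▸ ⟨hxR, hxN⟩))
      have ih' := ih _ hlt hR.isPGroup.to_inf_left (fun hb => hT1 (le_bot_iff.mp (hb ▸ hlt.le)))
        (inf_le_left.trans hR.le)
      have h3 := ih' T hT hT1 inf_le_right
      have h4 := hS.of_normalizer_le hTQ (inf_le_inf_left _ h3)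
      exact (hZJ Q hQ hQ1 T h4).trans (ih' _ (hT.to_le (PLocal.centerThompsonAOf_le T))
        (PLocal.centerThompsonAOf_ne_bot hT hT1)
        (inf_le_right.trans (PLocal.normalizer_le_normalizer_centerThompsonAOf T)))
  exact key Q (P.isPGroup'.to_le hQP) hQ1 (hQP.trans hPM) Q (P.isPGroup'.to_le hQP) hQ1
    Subgroup.le_normalizer

end Cfsg.Agent.S0658
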