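import Mathlib
import Cfsg.Statements.S0678
import Cfsg.Agent.Perm.PrimeDegreeAlt
import Cfsg.Agent.S0676

set_option autoImplicit false

open Cfsg

namespace Cfsg.Agent.S0678

open MulAction

/-- In a non-solvable faithful transitive group of prime degree `p`, a non-trivial normal subgroup
has more than one Sylow `p`-subgroup. -/
theorem card_sylow_normal_ne_one {G : Type*} [Group G] {Ω : Type*} [MulAction G Ω]
    [FaithfulSMul G Ω] {p : ℕ} [hp : Fact p.Prime] [IsPretransitive G Ω] (hΩ : Nat.card Ω = p)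
    (hG : ¬ Group.IsSolvable G) (N : Subgroup G) [N.Normal] (hN : N ≠ ⊥) :
    Nat.card (Sylow p N) ≠ 1 := by
  have : Finite Ω := Nat.finite_of_card_ne_zero (hΩ ▸ hp.out.ne_zero)
  have := Perm.finite_of_faithful G Ω
  have := Perm.normal_isPretransitive_of_prime_degree hΩ N hN
  intro h1
  obtain ⟨Q⟩ : Nonempty (Sylow p N) := inferInstance
  obtain ⟨P⟩ : Nonempty (Sylow p G) := inferInstance
  rw [Q.card_eq_index_normalizer, Subgroup.index_eq_one] at h1
  have h2 : (Q : Subgroup N).Normal := Subgroup.normalizer_eq_top_iff.1 h1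
  have h3 := Q.characteristic_of_normal h2
  have h4 : ((Q : Subgroup N).map N.subtype).Normal := inferInstance
  have h5 : Nat.card ((Q : Subgroup N).map N.subtype) = p ^ (Nat.card G).factorization p := by
    rw [← P.card_eq_multiplicity, Perm.card_sylow_of_prime_degree hΩ P,
      Subgroup.card_map_of_injective N.subtype_injective, Perm.card_sylow_of_prime_degree hΩ Q]
  exact hG (Perm.isSolvable_of_normal_sylow_of_prime_degree hΩ (Sylow.ofCard _ h5) h4)

theorem aux1 : ∀ n ∈ Nat.divisors 120, n % 7 = 1 → n = 1 ∨ n = 8 ∨ n = 15 ∨ n = 120 := by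
  decide +kernel

/-- A non-solvable transitive permutation group on 7 points that does not contain the alternating group is a simple group of order 168. -/
theorem result {α : Type*} [Fintype α] [DecidableEq α] (hα : Fintype.card α = 7) (G : Subgroup (Equiv.Perm α)) [MulAction.IsPretransitive G α] (hG : ¬ Group.IsSolvable G) (hA : ¬ alternatingGroup α ≤ G) : Nat.card G = 168 ∧ IsSimpleGroup G := by
  have : Fact (Nat.Prime 7) := ⟨by norm_num⟩
  have hΩ : Nat.card α = 7 := by rw [Nat.card_eq_fintype_card, hα]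
  have : Nontrivial α := Fintype.one_lt_card_iff_nontrivial.1 (by omega)
  have hAc : Nat.card (alternatingGroup α) = 2520 := by
    rw [nat_card_alternatingGroup, hΩ]; rfl
  have h0 : Nat.card ↥(G ⊓ alternatingGroup α) = 168 := by
    have := Perm.isPretransitive_inf_alternatingGroup (p := 7) (by norm_num) hΩ G
    have hG0 := Perm.not_isSolvable_inf_alternatingGroup G hG
    obtain ⟨P⟩ : Nonempty (Sylow 7 ↥(G ⊓ alternatingGroup α)) := inferInstance
    have hodd := Perm.odd_card_normalizer_of_le_alternatingGroup (p := 7) rfl hΩ _ inf_le_right P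
    obtain ⟨d, n, hd, hn, hc, hN, -, h1⟩ := Perm.card_eq_of_prime_degree hΩ P
    obtain ⟨hd1, hn1⟩ := h1 hG0
    rw [hN] at hodd
    obtain rfl : d = 3 := by
      have := Nat.le_of_dvd (by norm_num) hd
      rw [Nat.odd_iff] at hodd
      interval_cases d <;> omega
    have h2 : Nat.card ↥(G ⊓ alternatingGroup α) ∣ 2520 :=
      hAc ▸ Subgroup.card_dvd_of_le inf_le_right
    have h3 := Perm.descFactorial_dvd_card _ α 2
      ((S0675.result (by rw [hα]; norm_num) (G ⊓ alternatingGroup α)).resolve_left hG0) (by omega)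
    rw [hΩ, hc] at h3
    have h4 : n ∣ 120 := by
      rw [hc] at h2
      exact Nat.dvd_of_mul_dvd_mul_left (by norm_num : 0 < 7 * 3) h2
    rcases aux1 n (Nat.mem_divisors.2 ⟨h4, by norm_num⟩) hn with rfl | rfl | rfl | rfl
    · exact absurd rfl hn1
    · exact hc
    · exact absurd h3 (by decide)
    · exfalso
      apply hA
      have := Subgroup.eq_of_le_of_card_ge (inf_le_right : G ⊓ alternatingGroup α ≤ _)
        (by rw [hAc, hc])
      rw [← this]
      exact inf_le_left
  have hc : Nat.card G = 168 := by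
    rcases Perm.card_eq_or_eq_two_mul_card_inf_alternatingGroup G with h | h
    · rw [h, h0]
    exfalso
    rw [h0] at h
    obtain ⟨P⟩ : Nonempty (Sylow 7 G) := inferInstance
    obtain ⟨d, n, hd, hn, hc, hN, -, h1⟩ := Perm.card_eq_of_prime_degree hΩ P
    obtain rfl : d = 6 := by
      have := Nat.le_of_dvd (by norm_num) hd
      interval_cases d <;> omega
    have h3 := Perm.descFactorial_dvd_card _ α 3 (S0676.result hα G hG P (by rw [hN]; decide))
      (by omega)
    rw [hΩ, h] at h3
    exact absurd h3 (by decide)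
  refine ⟨hc, ?_⟩
  have : Nontrivial G := Finite.one_lt_card_iff_nontrivial.1 (by omega)
  refine ⟨fun N hN => ?_⟩
  by_cases hN0 : N = ⊥
  · exact Or.inl hN0
  right
  have := Perm.normal_isPretransitive_of_prime_degree hΩ N hN0
  obtain ⟨P⟩ : Nonempty (Sylow 7 N) := inferInstance
  obtain ⟨d, n, hd, hn, hcN, hNN, hn', -⟩ := Perm.card_eq_of_prime_degree hΩ P
  have hn1 : n ≠ 1 := hn' ▸ card_sylow_normal_ne_one hΩ hG N hN0
  have h2 : Nat.card N ∣ 168 := hc ▸ Subgroup.card_subgroup_dvd_card N
  have hd1 : d ≠ 1 := by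
    rintro rfl
    have := Perm.card_eq_of_normalizer_sylow_of_prime_degree hΩ P (by rw [hNN])
    omega
  apply Subgroup.eq_top_of_card_eq
  rw [hc, hcN]
  rw [hcN, mul_assoc] at h2
  have h3 : d * n ∣ 24 := Nat.dvd_of_mul_dvd_mul_left (by norm_num : 0 < 7) h2
  have h4 := Nat.le_of_dvd (by norm_num) hd
  have h5 : n ≤ 24 := Nat.le_of_dvd (by norm_num) (Dvd.dvd.trans (Dvd.intro_left _ rfl) h3)
  obtain rfl | rfl | rfl : n = 8 ∨ n = 15 ∨ n = 22 := by omega
  all_goals interval_cases d <;> omega

end Cfsg.Agent.S0678
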