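import Cfsg.Statements.S0679
import Cfsg.Agent.S0678
import Cfsg.Agent.S0420
import Cfsg.Agent.S0498
import Cfsg.Agent.S0713
import Cfsg.Agent.S2060
import Cfsg.Agent.S3681
import Cfsg.Agent.Spor.M24Idx3

set_option autoImplicit false
open Cfsg

namespace Cfsg.Agent.S0679

open MulAction Finset Spor Spor.M24C
open scoped Pointwise

theorem aux1 : ∀ n ∈ Nat.divisors 362880, n % 11 = 1 → n ≤ 1008 → n % 5 ≠ 0 → n % 7 ≠ 0 →
    n = 1 ∨ n = 12 ∨ n = 144 := by
  intro n hn h1 h2
  have key : ∀ j < 92, 362880 % (11 * j + 1) = 0 → (11 * j + 1) % 5 ≠ 0 → (11 * j + 1) % 7 ≠ 0 →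
      j = 0 ∨ j = 1 ∨ j = 13 := by decide +kernel
  obtain ⟨j, rfl⟩ : ∃ j, n = 11 * j + 1 := ⟨n / 11, by omega⟩
  intro h3 h4
  have := key j (by omega) (Nat.mod_eq_zero_of_dvd (Nat.dvd_of_mem_divisors hn)) h3 h4
  omega

section
variable {α : Type*} [Fintype α] [DecidableEq α]

theorem card0 (hα : Fintype.card α = 11) (H : Subgroup (Equiv.Perm α)) [IsPretransitive H α]
    (hH : ¬ Group.IsSolvable H) (hA : ¬ alternatingGroup α ≤ H) (hle : H ≤ alternatingGroup α) :
    Nat.card H = 660 ∨ Nat.card H = 7920 := by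
  have : Fact (Nat.Prime 11) := ⟨by norm_num⟩
  have hΩ : Nat.card α = 11 := by rw [Nat.card_eq_fintype_card, hα]
  have : Nontrivial α := Fintype.one_lt_card_iff_nontrivial.1 (by omega)
  have hAc : Nat.card (alternatingGroup α) = 19958400 := by
    rw [nat_card_alternatingGroup, hΩ]; rfl
  have hprim := isPreprimitive_of_is_two_pretransitive
    ((S0675.result (by rw [hα]; norm_num) H).resolve_left hH)
  have hB := S3681.result hprim (by
    rwa [show toPermHom H α = H.subtype from rfl, Subgroup.range_subtype])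
  rw [hα] at hB
  have cyc : ∀ g ∈ H, ∀ p : ℕ, p.Prime → p ≤ 8 → g ≠ 1 → g ^ p = 1 → g.support.card < 2 * p →
      False := fun g hg p hp h8 h1 h2 h3 => by
    haveI := Fact.mk hp
    have ho := orderOf_eq_prime h2 h1
    have hc := Equiv.Perm.isCycle_of_prime_order (ho ▸ hp) (ho ▸ h3)
    exact hA (S0713.result H hprim hp (by omega) (by omega) hc (hc.orderOf.symm.trans ho) hg)
  have h7 : ¬ 7 ∣ Nat.card H := fun h => by
    obtain ⟨g, hg, h1, h2⟩ := exists_ord H (by norm_num) h
    exact cyc g hg 7 (by norm_num) (by norm_num) h1 h2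
      (lt_of_le_of_lt (card_le_univ _) (by omega))
  have h25 : ¬ 25 ∣ Nat.card H := fun h => by
    obtain ⟨a, b, hab⟩ := exists_pair_ne α
    have e1 := card_eq_orbit_mul H a
    have e2 := card_eq_orbit_mul (H ⊓ stabilizer (Equiv.Perm α) a) b
    rw [orbit_eq_univ, Set.ncard_univ, hΩ] at e1
    have e3 : (orbit ↥(H ⊓ stabilizer (Equiv.Perm α) a) b).ncard ≤ 11 :=
      hΩ ▸ Set.ncard_le_card _
    have e4 : 0 < (orbit ↥(H ⊓ stabilizer (Equiv.Perm α) a) b).ncard :=
      (Set.ncard_pos).2 ⟨b, mem_orbit_self b⟩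
    have h5 : 5 ∣ Nat.card ↥(H ⊓ stabilizer (Equiv.Perm α) a ⊓ stabilizer (Equiv.Perm α) b) := by
      by_contra hc
      rw [e1, e2] at h
      have h1 := Nat.Coprime.dvd_of_dvd_mul_left (by norm_num) h
      have h2 := Nat.Coprime.dvd_of_dvd_mul_right
        (((Nat.Prime.coprime_iff_not_dvd (by norm_num)).2 hc).pow_left 2) h1
      have := Nat.le_of_dvd e4 h2
      omega
    obtain ⟨g, hg, h1, h2⟩ := exists_ord _ (by norm_num) h5
    refine cyc g hg.1.1 5 (by norm_num) (by norm_num) h1 h2 ?_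
    have : g.support ⊆ {a, b}ᶜ := fun x hx => mem_compl.2 fun hx' => by
      rcases mem_insert.1 hx' with rfl | hx'
      · exact Equiv.Perm.mem_support.1 hx hg.1.2
      · rw [mem_singleton.1 hx'] at hx; exact Equiv.Perm.mem_support.1 hx hg.2
    have := card_le_card this
    rw [card_compl, card_pair hab] at this
    omega
  obtain ⟨P⟩ : Nonempty (Sylow 11 H) := inferInstance
  have hodd := Perm.odd_card_normalizer_of_le_alternatingGroup (p := 11) rfl hΩ _ hle P
  obtain ⟨d, n, hd, hn, hc, hN, -, h1⟩ := Perm.card_eq_of_prime_degree hΩ P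
  obtain ⟨hd1, hn1⟩ := h1 hH
  rw [hN] at hodd
  obtain rfl : d = 5 := by
    have := Nat.le_of_dvd (by norm_num) hd
    rw [Nat.odd_iff] at hodd
    interval_cases d <;> omega
  have h2 : Nat.card H ∣ 19958400 := hAc ▸ Subgroup.card_dvd_of_le hle
  have h4 : n ∣ 362880 := by
    rw [hc] at h2
    exact Nat.dvd_of_mul_dvd_mul_left (by norm_num : 0 < 11 * 5) h2
  norm_num [Nat.factorial] at hB
  have := aux1 n (Nat.mem_divisors.2 ⟨h4, by norm_num⟩) hn (by omega) (by omega) (by omega)
  omega

theorem simple0 (hα : Fintype.card α = 11) (H : Subgroup (Equiv.Perm α)) [IsPretransitive H α]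
    (hH : ¬ Group.IsSolvable H) (hc : Nat.card H = 660 ∨ Nat.card H = 7920) :
    IsSimpleGroup H := by
  have : Fact (Nat.Prime 11) := ⟨by norm_num⟩
  have hΩ : Nat.card α = 11 := by rw [Nat.card_eq_fintype_card, hα]
  have : Nontrivial H := Finite.one_lt_card_iff_nontrivial.1 (by omega)
  refine ⟨fun N hN => ?_⟩
  by_cases hN0 : N = ⊥
  · exact Or.inl hN0
  right
  have := Perm.normal_isPretransitive_of_prime_degree hΩ N hN0
  obtain ⟨P⟩ : Nonempty (Sylow 11 N) := inferInstance
  obtain ⟨d, n, hd, hn, hcN, hNN, hn', -⟩ := Perm.card_eq_of_prime_degree hΩ P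
  have hn1 : n ≠ 1 := hn' ▸ S0678.card_sylow_normal_ne_one hΩ hH N hN0
  have hd1 : d ≠ 1 := by
    rintro rfl
    have := Perm.card_eq_of_normalizer_sylow_of_prime_degree hΩ P (by rw [hNN])
    omega
  obtain ⟨Q⟩ : Nonempty (Sylow 11 H) := inferInstance
  have h5 : Nat.card ((P : Subgroup N).map N.subtype) = 11 ^ (Nat.card H).factorization 11 := by
    rw [← Q.card_eq_multiplicity, Perm.card_sylow_of_prime_degree hΩ Q,
      Subgroup.card_map_of_injective N.subtype_injective, Perm.card_sylow_of_prime_degree hΩ P]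
  obtain ⟨e, he, hM⟩ := Perm.card_normalizer_sylow_of_prime_degree hΩ (Sylow.ofCard _ h5)
  have h6 : N.index ∣ 11 * 10 := by
    rw [← Subgroup.relIndex_top_right, ← P.normalizer_sup_eq_top, Subgroup.relIndex_sup_right]
    exact (Subgroup.relIndex_dvd_card _ _).trans (hM ▸ mul_dvd_mul_left 11 he)
  have h7 := N.index_mul_card
  rw [← Subgroup.index_eq_one]
  rw [hcN] at h7
  generalize N.index = i at *
  have h8 : i ∈ Nat.divisors 110 := Nat.mem_divisors.2 ⟨h6, by norm_num⟩
  have h9 : d ∈ Nat.divisors 10 := Nat.mem_divisors.2 ⟨hd, by norm_num⟩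
  rw [show Nat.divisors 110 = {1, 2, 5, 10, 11, 22, 55, 110} by decide] at h8
  rw [show Nat.divisors 10 = {1, 2, 5, 10} by decide] at h9
  simp only [mem_insert, mem_singleton] at h8 h9
  rcases h8 with rfl | rfl | rfl | rfl | rfl | rfl | rfl | rfl <;>
    rcases h9 with rfl | rfl | rfl | rfl <;> omega

theorem fix720 {d : Finset GolayPt} (hd : d ∈ dodecads) {p : GolayPt} (hp : p ∈ d)
    {K : Subgroup M24} (hK : K ≤ stabilizer M24 d ⊓ stabilizer M24 p) (hc : Nat.card K = 720) :
    ∃ q ∈ d, q ≠ p ∧ K = stabilizer M24 d ⊓ stabilizer M24 p ⊓ stabilizer M24 q := by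
  have h12 : d.card = 12 := hd.2
  have h1 := card_compl_24 d
  have hT := le_stab_union (le_stab_pt_iff.2 (hK.trans inf_le_right))
    (le_stab_compl (hK.trans inf_le_left))
  have hc13 : ({p} ∪ dᶜ).card = 13 := by
    rw [card_union_of_disjoint (by simpa using hp), card_singleton]; omega
  obtain ⟨S, hS, hdS, h0, hle⟩ := exists_small_inv hT (by omega) (by rw [hc13, hc]; norm_num)
  obtain ⟨f, hf, hf1, hf5⟩ := exists_ord K (p := 5) (by norm_num) (by rw [hc]; norm_num)
  have h2 := card_modEq_inter_fix (by norm_num) hf5 (hT hf)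
  obtain ⟨a, ha, ha'⟩ := card_mod_le (by norm_num) hf5 (hS hf)
    (inter_subset_right (s₁ := {p} ∪ dᶜ)) (hdS.mono_right inter_subset_left)
  rw [fix5 hf1 hf5] at ha
  rw [hc13] at h2
  unfold Nat.ModEq at h2 ha'
  have hSd : S ⊆ d := fun x hx => by
    by_contra h
    exact disjoint_left.1 hdS hx (mem_union_right _ (mem_compl.2 h))
  have : S.card = 1 ∨ S.card = 5 := by omega
  rcases this with e | e
  · obtain ⟨q, hq, hKq⟩ := exists_pt_of_card_one hS e
    have hqp : q ≠ p := fun e =>
      disjoint_left.1 hdS hq (mem_union_left _ (mem_singleton.2 e))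
    refine ⟨q, hSd hq, hqp, Subgroup.eq_of_le_of_card_ge (le_inf hK hKq) ?_⟩
    have h3 := card_orb_mul (stabilizer M24 d ⊓ stabilizer M24 p) q
    have h4 : d.erase p ⊆ orb (stabilizer M24 d ⊓ stabilizer M24 p) q := fun y hy => by
      obtain ⟨g, hg, e⟩ := exists_dodecad_map hd (k := 2) (by norm_num) ![p, q] ![p, y]
        (by simp [Fin.forall_fin_two, hp, hSd hq])
        (by simp [Fin.forall_fin_two, hp, (mem_erase.1 hy).2])
        (inj_two hqp.symm) (inj_two (mem_erase.1 hy).1.symm)
      exact mem_orb.2 ⟨g, ⟨hg, e 0⟩, e 1⟩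
    have h5 := card_le_card h4
    rw [card_erase_of_mem hp, h12] at h5
    rw [card_stabilizer_dodecad_pt hd] at h3
    have := Nat.mul_le_mul_right
      (Nat.card ↥(stabilizer M24 d ⊓ stabilizer M24 p ⊓ stabilizer M24 q)) h5
    omega
  · have := Nat.card_le_card_of_injective _ (restrictTo_injective hS fun g hg h =>
      eq_one_of_dodecad_finset hd hSd e.ge (hK hg).1 (mem_fixS.2 h))
    rw [hc, Nat.card_perm, Nat.card_eq_fintype_card, Fintype.card_coe, e] at this
    norm_num [Nat.factorial] at this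

theorem fixTrivial (hα : Fintype.card α = 11) (H : Subgroup (Equiv.Perm α)) [IsPretransitive H α]
    (hH : ¬ Group.IsSolvable H) (hc : Nat.card H = 7920) {g : H} (x : Fin 4 → α)
    (hx : Function.Injective x) (h : ∀ i, g • x i = x i) : g = 1 := by
  have hΩ : Nat.card α = 11 := by rw [Nat.card_eq_fintype_card, hα]
  have h2 := (S0675.result (by rw [hα]; norm_num) H).resolve_left hH
  have hd := Sharp11.squareDodecad_mem
  have hp := Sharp11.zero_mem_squareDodecad
  obtain ⟨φ⟩ := S0420.result ⟨simple0 hα H hH (Or.inr hc), hc⟩ _ hd _ hp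
  let ψ : H →* M24 := (Subgroup.subtype _).comp φ.toMonoidHom
  have hψ : Function.Injective ψ := (Subgroup.subtype_injective _).comp φ.injective
  have key : ∀ a : α, ∃ q ∈ Spor.squareDodecad, q ≠ some 0 ∧ (stabilizer H a).map ψ =
      stabilizer M24 Spor.squareDodecad ⊓ stabilizer M24 (some 0 : GolayPt) ⊓ stabilizer M24 q :=
    fun a => by
      refine fix720 hd hp ?_ ?_
      · rintro _ ⟨y, -, rfl⟩; exact (φ y).2
      · have := card_eq_orbit_mul' (G := H) a
        rw [orbit_eq_univ, Set.ncard_univ, hΩ, hc] at this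
        rw [Subgroup.card_map_of_injective hψ]
        omega
  choose q hq hq0 hqe using key
  have hqi : Function.Injective q := fun a b e => by
    by_contra hab
    have h1 : stabilizer H a = stabilizer H b :=
      Subgroup.map_injective hψ (by rw [hqe, hqe, e])
    obtain ⟨c, hc⟩ := exists_mem_notMem_of_card_lt_card (s := {a, b}) (t := univ)
      (by rw [card_pair hab, card_univ]; omega)
    simp only [mem_insert, mem_singleton, not_or] at hc
    obtain ⟨k, h3, h4⟩ := is_two_pretransitive_iff.1 h2 hab (Ne.symm hc.2.1)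
    have : k ∈ stabilizer H b := h1 ▸ h3
    exact hc.2.2 (h4.symm.trans this)
  refine hψ ((eq_one_of_dodecad_finset hd (s := insert (some 0) (univ.image (q ∘ x))) ?_ ?_
    (φ g).2.1 (mem_fixS.2 ?_)).trans (map_one ψ).symm)
  · refine insert_subset hp fun y hy => ?_
    obtain ⟨i, -, rfl⟩ := mem_image.1 hy
    exact hq _
  · rw [card_insert_of_notMem, card_image_of_injective _ (hqi.comp hx)]
    · simp
    · intro hy
      obtain ⟨i, -, e⟩ := mem_image.1 hy
      exact hq0 _ e
  · intro y hy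
    rcases mem_insert.1 hy with rfl | hy
    · exact (φ g).2.2
    · obtain ⟨i, -, rfl⟩ := mem_image.1 hy
      exact (hqe (x i) ▸ Subgroup.mem_map_of_mem ψ (h i : g ∈ stabilizer H (x i))).2

theorem fixTrivial' (hα : Fintype.card α = 11) (H : Subgroup (Equiv.Perm α))
    [IsPretransitive H α] (hH : ¬ Group.IsSolvable H) (hc : Nat.card H = 7920) :
    FixTrivial H α 4 := fun g s hs h => by
  obtain ⟨x, hx⟩ := Function.Embedding.exists_of_card_le_finset (α := Fin 4) (s := s)
    (by simpa using hs)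
  exact fixTrivial hα H hH hc x x.injective fun i => h _ (hx ⟨i, rfl⟩)

theorem exists_inner {H : Type*} [Group H] (h : Spor.IsoM11 H) (β : MulAut H) :
    ∃ g, MulAut.conj g = β := by
  obtain ⟨e⟩ := h
  have h1 : Inn Spor.M11 = ⊤ := Subgroup.index_eq_one.1 S2060.result
  obtain ⟨g, hg⟩ : MulAut.congr e β ∈ Inn Spor.M11 := h1 ▸ Subgroup.mem_top _
  refine ⟨e.symm g, MulEquiv.ext fun x => e.injective ?_⟩
  simpa using DFunLike.congr_fun hg (e x)

theorem le_of_7920 (hα : Fintype.card α = 11) (H : Subgroup (Equiv.Perm α))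
    [IsPretransitive H α] (hH : ¬ Group.IsSolvable H) (hc : Nat.card H = 7920)
    {u : Equiv.Perm α} (hu : u ∈ Subgroup.normalizer (H : Set (Equiv.Perm α))) : u ∈ H := by
  have h2 := (S0675.result (by rw [hα]; norm_num) H).resolve_left hH
  obtain ⟨g, hg⟩ := exists_inner (Sharp11.isoM11 hα hc (fixTrivial' hα H hH hc))
    (H.normalizerMonoidHom ⟨u, hu⟩)
  have h1 : ∀ k : H, (g : Equiv.Perm α) * k * (g : Equiv.Perm α)⁻¹ = u * k * u⁻¹ := fun k =>
    congrArg Subtype.val (DFunLike.congr_fun hg k)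
  have h3 : (g : Equiv.Perm α)⁻¹ * u = 1 := by
    ext x
    by_contra hne
    obtain ⟨c, hc⟩ := exists_mem_notMem_of_card_lt_card (s := {x, ((g : Equiv.Perm α)⁻¹ * u) x})
      (t := univ) (lt_of_le_of_lt card_le_two (by rw [card_univ]; omega))
    simp only [mem_insert, mem_singleton, not_or] at hc
    obtain ⟨k, h3, h4⟩ := is_two_pretransitive_iff.1 h2 (Ne.symm hne) (Ne.symm hc.2.1)
    have h5 : (k : Equiv.Perm α) * ((g : Equiv.Perm α)⁻¹ * u) = (g : Equiv.Perm α)⁻¹ * u * k := by
      calc (k : Equiv.Perm α) * ((g : Equiv.Perm α)⁻¹ * u)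
          = (g : Equiv.Perm α)⁻¹ * ((g : Equiv.Perm α) * k * (g : Equiv.Perm α)⁻¹) * u := by group
        _ = _ := by rw [h1]; group
    have h6 := DFunLike.congr_fun h5 x
    rw [Equiv.Perm.mul_apply, Equiv.Perm.mul_apply _ (k : Equiv.Perm α),
      show (k : Equiv.Perm α) x = x from h3] at h6
    exact hc.2.2 (h4.symm.trans h6)
  rw [← inv_mul_eq_one.1 h3]
  exact g.2

end

/-- A non-solvable transitive permutation group on 11 points that does not contain the alternating group is either sharply 4-transitive (of order 7920) or isomorphic to the projective special linear group of degree 2 over the field with 11 elements. -/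
theorem result {α : Type*} [Fintype α] [DecidableEq α] (hα : Fintype.card α = 11) (G : Subgroup (Equiv.Perm α)) [MulAction.IsPretransitive G α] (hG : ¬ Group.IsSolvable G) (hA : ¬ alternatingGroup α ≤ G) : (MulAction.IsMultiplyPretransitive G α 4 ∧ ∀ x : Fin 4 ↪ α, MulAction.stabilizer G x = ⊥) ∨ Nonempty (G ≃* Matrix.ProjectiveSpecialLinearGroup (Fin 2) (ZMod 11)) := by
  have : Fact (Nat.Prime 11) := ⟨by norm_num⟩
  have hΩ : Nat.card α = 11 := by rw [Nat.card_eq_fintype_card, hα]
  have := Perm.isPretransitive_inf_alternatingGroup (p := 11) (by norm_num) hΩ G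
  have hG0 := Perm.not_isSolvable_inf_alternatingGroup G hG
  have h0 := card0 hα _ hG0 (fun h => hA (h.trans inf_le_left)) inf_le_right
  have hc : Nat.card G = 660 ∨ Nat.card G = 7920 := by
    rcases Perm.card_eq_or_eq_two_mul_card_inf_alternatingGroup G with h | h
    · rwa [h]
    exfalso
    rcases h0 with h0 | h0
    · rw [h0] at h
      obtain ⟨P⟩ : Nonempty (Sylow 11 G) := inferInstance
      obtain ⟨d, n, hd, hn, hc, hN, -, h1⟩ := Perm.card_eq_of_prime_degree hΩ P
      obtain rfl : d = 10 := by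
        have := Nat.le_of_dvd (by norm_num) hd
        interval_cases d <;> omega
      have h3 := Perm.descFactorial_dvd_card _ α 3 (S0676.result hα G hG P (by rw [hN]; decide))
        (by omega)
      rw [hΩ, h] at h3
      exact absurd h3 (by decide)
    · have := Subgroup.card_le_of_le (show G ≤ G ⊓ alternatingGroup α from fun u hu =>
        le_of_7920 hα _ hG0 h0 (Subgroup.inf_normalizer_le_normalizer_inf
          ⟨Subgroup.le_normalizer hu, by rw [Subgroup.normalizer_eq_top]; trivial⟩))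
      omega
  rcases hc with hc | hc
  · haveI := simple0 hα G hG (Or.inl hc)
    exact Or.inr (S0498.result 11 (Or.inl rfl) (by rw [hc]; rfl) (ZMod.card 11))
  · refine Or.inl ⟨Sharp11.multTrans_of_card hα hc (fixTrivial' hα G hG hc), fun x => ?_⟩
    refine (Subgroup.eq_bot_iff_forall _).2 fun g hg => fixTrivial hα G hG hc x x.injective
      fun i => DFunLike.congr_fun hg i

end Cfsg.Agent.S0679
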