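import Cfsg.Statements.S0877
import Mathlib
import Cfsg.Agent.FGS.NilpPi
import Cfsg.Agent.Char.Irr
import Cfsg.Agent.Char.Quot
import Cfsg.Agent.Char.Brauer
import Cfsg.Agent.Char.Elementary
import Cfsg.Agent.Grp.Card
import Cfsg.Agent.PLocal.AmbSyl

set_option autoImplicit false
open Cfsg

namespace Cfsg.Agent.S0877

open Cfsg.Agent.Char PLocal.Amb
open scoped ComplexConjugate

theorem exists_nat_of_isIntegral {z : ℂ} (hz : IsIntegral ℤ z) {a b : ℕ} (hb : b ≠ 0)
    (h : z = (b : ℂ)⁻¹ * a) : ∃ n : ℕ, z = n := by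
  have h1 : z = algebraMap ℚ ℂ ((a : ℚ) / b) := by
    rw [h]; simp [div_eq_inv_mul]
  rw [h1, isIntegral_algebraMap_iff (algebraMap ℚ ℂ).injective] at hz
  obtain ⟨m, hm⟩ := IsIntegrallyClosed.isIntegral_iff.1 hz
  have hm0 : 0 ≤ m := by
    have : (0 : ℚ) ≤ (m : ℚ) := by
      have : (m : ℚ) = a / b := by simpa using hm
      rw [this]; positivity
    exact_mod_cast this
  refine ⟨m.toNat, ?_⟩
  rw [h1, ← hm]
  have : ((m.toNat : ℕ) : ℂ) = (m : ℂ) := by
    rw [← Int.cast_natCast, Int.toNat_of_nonneg hm0]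
  rw [this]; simp

/-- Abstract step: a map `r : G → H` that is (up to conjugacy) a retraction and along which
irreducible characters pull back to generalized characters preserves averages. -/
theorem avg_eq {G H : Type*} [Group G] [Group H] [Fintype G] [Fintype H] (r : G → H)
    (hsurj : ∀ h : H, ∃ g : G, IsConj h (r g))
    (hgen : ∀ φ : IrrCharacter H, IsGeneralizedCharacter G (fun g => (φ : H → ℂ) (r g)))
    (θ : H → ℂ) (hθ : IsClassFunction H θ) :
    classInner (fun g => θ (r g)) (fun _ => 1) = classInner θ (fun _ => 1) := by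
  classical
  have hn : ∀ φ : IrrCharacter H, ∃ n : ℤ,
      classInner (fun g => (φ : H → ℂ) (r g)) (fun _ => 1) = n := fun φ =>
    (isGen_iff_inner.1 (hgen φ)).2 _ isIrrCharacter_one
  choose n hn using hn
  set ω : H → ℂ := ∑ φ : IrrCharacter H, (n φ : ℂ) • (φ : H → ℂ) with hω
  have hωgen : IsGeneralizedCharacter H ω := isGen_sum_zsmul_irr n
  have hωval : ∀ h : H, ω h = (Nat.card G : ℂ)⁻¹ * ((∑ g : G,
      if IsConj h (r g) then Nat.card (Subgroup.centralizer ({h} : Set H)) else 0 : ℕ) : ℂ) := by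
    intro h
    have e1 : ∀ φ : IrrCharacter H, (n φ : ℂ) =
        (Nat.card G : ℂ)⁻¹ * ∑ g : G, conj ((φ : H → ℂ) (r g)) := by
      intro φ
      have := congrArg conj (hn φ)
      rw [classInner_conj_symm, map_intCast, classInner_def] at this
      rw [← this]; simp
    rw [hω, Finset.sum_apply]
    simp only [Pi.smul_apply, smul_eq_mul, e1]
    push_cast
    have e2 : ∀ g : G, (if IsConj h (r g) then
        (Nat.card (Subgroup.centralizer ({h} : Set H)) : ℂ) else 0) =
        ∑ φ : IrrCharacter H, (φ : H → ℂ) h * conj ((φ : H → ℂ) (r g)) := by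
      intro g
      rw [sum_irr_mul_conj]
      congr
    simp only [e2]
    rw [Finset.sum_comm, Finset.mul_sum]
    refine Finset.sum_congr rfl fun φ _ => ?_
    rw [mul_assoc, Finset.sum_mul]
    congr 1
    exact Finset.sum_congr rfl fun g _ => mul_comm _ _
  have hωnat : ∀ h : H, ∃ m : ℕ, 1 ≤ m ∧ ω h = m := by
    intro h
    obtain ⟨m, hm⟩ := exists_nat_of_isIntegral (hωgen.isIntegral h) Nat.card_pos.ne' (hωval h)
    refine ⟨m, Nat.pos_of_ne_zero ?_, hm⟩
    rintro rfl
    rw [hωval h, Nat.cast_zero, mul_eq_zero] at hm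
    rcases hm with hm | hm
    · exact inv_ne_zero (card_ne_zero G) hm
    · obtain ⟨g, hg⟩ := hsurj h
      have := (Finset.sum_eq_zero_iff.1 (Nat.cast_eq_zero.1 hm)) g (Finset.mem_univ g)
      rw [if_pos hg] at this
      exact Nat.card_pos.ne' this
  choose m hm1 hm using hωnat
  have h1 : classInner ω (fun _ => 1) = 1 := by
    have e := classInner_sum_smul_irr (fun φ => (n φ : ℂ)) (irrOne H)
    have e2 := hn (irrOne H)
    have e3 : ((irrOne H : IrrCharacter H) : H → ℂ) = fun _ => 1 := funext irrOne_apply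
    rw [e3] at e e2
    rw [hω, e, ← e2, classInner_def]
    simp [card_ne_zero]
  have hsum : ∑ h : H, m h = ∑ _h : H, 1 := by
    rw [classInner_def] at h1
    simp only [hm, map_one, mul_one] at h1
    have h2 : (∑ h : H, (m h : ℂ)) = Nat.card H := by
      have := congrArg (fun z => (Nat.card H : ℂ) * z) h1
      simp only [mul_one] at this
      rwa [← mul_assoc, mul_inv_cancel₀ (card_ne_zero H), one_mul] at this
    have h3 : ∑ h : H, m h = Nat.card H := by exact_mod_cast h2
    rw [h3]; simp
  have hm2 : ∀ h, m h = 1 := fun h =>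
    ((Finset.sum_eq_sum_iff_of_le (fun i _ => hm1 i)).1 hsum.symm h (Finset.mem_univ h)).symm
  have hω1 : ω = fun _ => 1 := by
    funext h; rw [hm, hm2]; simp
  have hnφ : ∀ φ : IrrCharacter H, (n φ : ℂ) = classInner (φ : H → ℂ) (fun _ => 1) := by
    intro φ
    have e := classInner_sum_smul_irr (fun φ => (n φ : ℂ)) φ
    rw [← hω, hω1] at e
    rw [← classInner_conj_symm, e, map_intCast]
  have e1 : (fun g => θ (r g)) = ∑ φ : IrrCharacter H,
      classInner θ φ • (fun g => (φ : H → ℂ) (r g)) := by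
    funext g
    rw [hθ.apply_eq_sum_irr, Finset.sum_apply]; rfl
  rw [e1, classInner_sum_left]
  conv_rhs => rw [hθ.eq_sum_irr, classInner_sum_left]
  refine Finset.sum_congr rfl fun φ _ => ?_
  rw [classInner_smul_left, classInner_smul_left, hn, hnφ]

/-- Let H be a subgroup of the finite group G whose order is coprime to its index. Suppose that elements of H conjugate in G are conjugate in H, and that every subgroup E of G that is elementary for some prime (in the sense used for Brauer's characterisation of characters) and whose order divides the order of H is conjugate to a subgroup of H. Then there is a normal subgroup K with K ⊔ H = ⊤ and K ⊓ H trivial. -/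
theorem result {G : Type*} [Group G] [Finite G] (H : Subgroup G) (hHall : Nat.Coprime (Nat.card H) H.index) (hfus : ∀ x ∈ H, ∀ y ∈ H, IsConj x y → ∃ h ∈ H, h * x * h⁻¹ = y) (helem : ∀ (E : Subgroup G) (p : ℕ), p.Prime → Cfsg.IsElementary p E → Nat.card E ∣ Nat.card H → ∃ g : G, E.map (MulAut.conj g).toMonoidHom ≤ H) : ∃ K : Subgroup G, K.Normal ∧ K ⊔ H = ⊤ ∧ K ⊓ H = ⊥ := by
  classical
  have := Fintype.ofFinite G
  have := Fintype.ofFinite H
  obtain ⟨t, ht1, ht2⟩ := FGS.exists_part_exponent hHall
  have hexp : ∀ x : G, x ^ (Nat.card H * H.index) = 1 := by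
    intro x; rw [H.card_mul_index, pow_card_eq_one']
  have hr : ∀ g : G, ∃ h : H, IsConj (g ^ t) (h : G) := by
    intro g
    obtain ⟨x, hx⟩ := helem (Subgroup.zpowers (g ^ t)) 2 Nat.prime_two
      (isElementary_of_isCyclic Nat.prime_two)
      (by rw [Nat.card_zpowers]; exact orderOf_dvd_of_pow_eq_one (FGS.part_pow_left (hexp g) ht2))
    exact ⟨⟨_, hx (conj_mem_cj x (Subgroup.mem_zpowers _))⟩, isConj_iff.2 ⟨x, rfl⟩⟩
  choose r hr using hr
  have hfus' : ∀ a b : H, IsConj (a : G) b → IsConj a b := by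
    intro a b hab
    obtain ⟨h, hh, e⟩ := hfus a a.2 b b.2 hab
    exact isConj_iff.2 ⟨⟨h, hh⟩, Subtype.ext e⟩
  have hrH : ∀ h : H, IsConj h (r h) := by
    intro h
    apply hfus'
    have : (h : G) ^ t = h := FGS.pow_part_eq_self (by
      rw [← Subgroup.coe_pow, pow_card_eq_one', Subgroup.coe_one]) ht1
    have h2 := hr h
    rwa [this] at h2
  have hcl : ∀ θ : H → ℂ, IsClassFunction H θ → IsClassFunction G (fun g => θ (r g)) := by
    intro θ hθ g x
    apply hθ.eq_of_isConj
    apply hfus'
    refine (hr _).symm.trans (IsConj.trans ?_ (hr g))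
    rw [conj_pow]
    exact (isConj_iff.2 ⟨x, rfl⟩).symm
  have hgen : ∀ φ : IrrCharacter H, IsGeneralizedCharacter G (fun g => (φ : H → ℂ) (r g)) := by
    intro φ
    refine isGen_of_restrict_elementary (hcl _ φ.2.isClassFunction) ?_
    intro E p hp hE
    have := isNilpotent_of_isElementary hp hE
    have hexpE : ∀ x : E, x ^ (Nat.card H * H.index) = 1 := fun x => Subtype.ext (hexp x)
    let f : E →* E := MonoidHom.mk' (fun x => x ^ t)
      (FGS.mul_pow_part_of_isNilpotent hHall hexpE ht1 ht2)
    let f' : E →* G := E.subtype.comp f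
    have hle : f'.range ≤ E := by rintro _ ⟨x, rfl⟩; exact (f x).2
    have hcard : Nat.card f'.range ∣ Nat.card H := by
      have h1 : Nat.card f'.range ∣ Nat.card H * H.index := by
        rw [H.card_mul_index]; exact Subgroup.card_subgroup_dvd_card _
      refine Nat.Coprime.dvd_of_dvd_mul_right ?_ h1
      apply Nat.Coprime.symm
      apply Nat.coprime_of_dvd
      intro q hq hq1 hq2
      have := Fact.mk hq
      obtain ⟨⟨_, x, rfl⟩, hx⟩ := exists_prime_orderOf_dvd_card' q hq2
      have h2 : orderOf (f' x) ∣ Nat.card H :=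
        orderOf_dvd_of_pow_eq_one (FGS.part_pow_left (hexp x) ht2)
      rw [← Subgroup.orderOf_coe] at hx
      exact hq.one_lt.ne' (Nat.eq_one_of_dvd_coprimes hHall (hx ▸ h2) hq1)
    obtain ⟨x, hx⟩ := helem f'.range p hp (isElementary_of_le hp hE hle) hcard
    let ψ : E →* H := ((MulAut.conj x).toMonoidHom.comp f').codRestrict H
      (fun e => hx (conj_mem_cj x ⟨e, rfl⟩))
    have : (fun e : E => (φ : H → ℂ) (r e)) = fun e => (φ : H → ℂ) (ψ e) := by
      funext e
      apply φ.2.isClassFunction.eq_of_isConj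
      apply hfus'
      exact (hr _).symm.trans (isConj_iff.2 ⟨x, rfl⟩)
    rw [this]
    exact (φ.2.isCharacter.comp ψ).isGen
  have hr1 : r 1 = 1 := by
    have := hrH 1
    exact isConj_one_right.1 this
  have hirr : ∀ φ : IrrCharacter H, IsIrrCharacter G (fun g => (φ : H → ℂ) (r g)) := by
    intro φ
    refine (hgen φ).isIrr_of_inner_self ?_ (by rw [hr1]; exact φ.2.isCharacter.one_re_nonneg)
    have e := avg_eq r (fun h => ⟨h, hrH h⟩) hgen (fun h => (φ : H → ℂ) h * conj ((φ : H → ℂ) h))
      (φ.2.isClassFunction.mul φ.2.isClassFunction.conj)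
    have e2 := (isIrrCharacter_iff.1 φ.2).2
    rw [classInner_def] at e2 ⊢
    rw [classInner_def, classInner_def] at e
    simp only [map_one, mul_one] at e
    rw [e, e2]
  set K : Subgroup G := ⨅ φ : IrrCharacter H, charKer (fun g => (φ : H → ℂ) (r g)) with hK
  have hmem : ∀ g : G, g ∈ K ↔ g ^ t = 1 := by
    intro g
    rw [hK, Subgroup.mem_iInf]
    simp only [mem_charKer_iff (hirr _).isCharacter, hr1]
    rw [← isConj_iff_irr, isConj_one_left]
    constructor
    · intro h
      have := hr g
      rw [h] at this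
      exact isConj_one_left.1 this
    · intro h
      have := hr g
      rw [h] at this
      exact Subtype.ext (isConj_one_right.1 this)
  refine ⟨K, Subgroup.normal_iInf_normal (fun φ => charKer_normal (hirr φ).isClassFunction), ?_, ?_⟩
  · apply Grp.eq_top_of_forall_prime_not_dvd_index
    intro q hq hqd
    have := Fact.mk hq
    have hq1 : q ∣ H.index := hqd.trans (Subgroup.index_dvd_of_le le_sup_right)
    obtain ⟨Q⟩ : Nonempty (Sylow q G) := inferInstance
    have hQ : (Q : Subgroup G) ≤ K ⊔ H := by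
      intro x hx
      refine Subgroup.mem_sup_left ((hmem x).2 (FGS.pow_part_eq_one ?_ ht2))
      obtain ⟨k, hk⟩ := isPGroup_iff.1 Q.isPGroup' x hx
      rw [← orderOf_dvd_iff_pow_eq_one]
      refine Nat.Coprime.dvd_of_dvd_mul_left ?_ (orderOf_dvd_of_pow_eq_one (hexp x))
      exact Nat.Coprime.coprime_dvd_left (orderOf_dvd_of_pow_eq_one hk)
        (Nat.Coprime.pow_left _ (hHall.coprime_dvd_right hq1).symm)
    exact Q.not_dvd_index (hqd.trans (Subgroup.index_dvd_of_le hQ))
  · rw [eq_bot_iff]
    rintro x ⟨hx1, hx2⟩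
    have h1 := (hmem x).1 hx1
    rwa [FGS.pow_part_eq_self (a := Nat.card H) (by
      have : (⟨x, hx2⟩ : H) ^ Nat.card H = 1 := pow_card_eq_one'
      exact congrArg Subtype.val this) ht1] at h1

end Cfsg.Agent.S0877
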