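import Cfsg.Statements.S0981
import Mathlib
import Cfsg.Agent.S0999
import Cfsg.Agent.Class.SmallIso
import Cfsg.Agent.Perm.ZassPSL
import Cfsg.Agent.Small.Tools

set_option autoImplicit false
open Cfsg

namespace Cfsg.Agent.S0981



/-- A simple group of order 4080 is isomorphic to the projective special linear group of dimension 2 over the field with 16 elements. -/
theorem result {G : Type*} [Group G] [Finite G] [IsSimpleGroup G] (h : Nat.card G = 4080) {F : Type*} [Field F] [Fintype F] (hF : Fintype.card F = 16) : Nonempty (G ≃* Matrix.ProjectiveSpecialLinearGroup (Fin 2) F) := by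
  have hG : ¬ IsCyclic G := fun hc => Small.not_comm_of_card (by rw [h]; norm_num) hc.isMulCommutative
  rcases S0999.result hG 17 (by norm_num) (by rw [h]; norm_num) (by rw [h]; norm_num) with
    ⟨K, _, _, h1, -, ⟨e⟩⟩ | ⟨m, K, _, _, h1, h2, -, h3⟩
  · have h4 := Class.gcd_mul_card_PSL2 (F := K)
    rw [← Nat.card_congr e.toEquiv, h, h1] at h4
    norm_num at h4
  · refine Perm.ZassPSL.psl_transport ?_ h3
    rw [Nat.card_eq_fintype_card, Nat.card_eq_fintype_card, hF, h1]
    omega

end Cfsg.Agent.S0981
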