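import Cfsg.Statements.S1006
import Mathlib
import Cfsg.Agent.Small.O168

set_option autoImplicit false
open Cfsg

namespace Cfsg.Agent.S1006

open Cfsg.Agent.Small Cfsg.Agent.Small.O168

/-- In a simple group of order 168 there are 56 elements of order 3, all conjugate; 42 elements of order 4, all conjugate; and 48 elements of order 7 falling into two conjugacy classes of size 24, an element of order 7 not being conjugate to its inverse. -/
theorem result {G : Type*} [Group G] [Finite G] [IsSimpleGroup G] (h : Nat.card G = 168) : Nat.card {g : G // orderOf g = 3} = 56 ∧ (∀ s t : G, orderOf s = 3 → orderOf t = 3 → IsConj s t) ∧ Nat.card {g : G // orderOf g = 4} = 42 ∧ (∀ s t : G, orderOf s = 4 → orderOf t = 4 → IsConj s t) ∧ Nat.card {g : G // orderOf g = 7} = 48 ∧ ∀ x : G, orderOf x = 7 → Nat.card {g : G // IsConj x g} = 24 ∧ ¬ IsConj x x⁻¹ := by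
  classical
  obtain ⟨z, y, a, b, hz, hy, ha, hb, -, cy, hc⟩ := classes h
  have h1 : ∀ u, orderOf u = 3 ↔ IsConj a u := fun u => ⟨fun hu => by
    rcases hc u with rfl | e | e | e | e | e
    · simp at hu
    all_goals first | exact e | (have := ord_conj e; (try rw [orderOf_inv] at this); omega),
    fun e => ord_conj e ▸ ha⟩
  have h2 : ∀ u, orderOf u = 4 ↔ IsConj y u := fun u => ⟨fun hu => by
    rcases hc u with rfl | e | e | e | e | e
    · simp at hu
    all_goals first | exact e | (have := ord_conj e; (try rw [orderOf_inv] at this); omega),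
    fun e => ord_conj e ▸ hy⟩
  have h3 : ∀ u, orderOf u = 7 ↔ IsConj b u ∨ IsConj b⁻¹ u := fun u => ⟨fun hu => by
    rcases hc u with rfl | e | e | e | e | e
    · simp at hu
    all_goals first | exact Or.inl e | exact Or.inr e | (have := ord_conj e; omega),
    fun e => e.elim (fun e => ord_conj e ▸ hb) fun e => ord_conj e ▸ (orderOf_inv b).symm ▸ hb⟩
  have h4 : ∀ x : G, orderOf x = 7 → Nat.card {g : G // IsConj x g} = 24 := fun x hx => by
    rw [card_class, idx h (m := 7) (by rw [cent7 h hx, Nat.card_zpowers, hx]) (n := 24) rfl]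
  refine ⟨?_, fun s t hs ht => ((h1 s).1 hs).symm.trans ((h1 t).1 ht), ?_,
    fun s t hs ht => ((h2 s).1 hs).symm.trans ((h2 t).1 ht), ?_,
    fun x hx => ⟨h4 x hx, not_conj7 h hx⟩⟩
  · rw [Nat.card_congr (Equiv.subtypeEquivRight h1), card_class,
      idx h (m := 3) (by rw [cent3 h ha, Nat.card_zpowers, ha]) (n := 56) rfl]
  · rw [Nat.card_congr (Equiv.subtypeEquivRight h2), card_class, idx h cy (n := 42) rfl]
  · rw [Nat.card_congr (Equiv.subtypeEquivRight h3), Nat.card_congr (subtypeOrEquiv (IsConj b)
      (IsConj b⁻¹) (Set.disjoint_left.2 fun g (h1 : IsConj b g) (h2 : IsConj b⁻¹ g) =>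
        not_conj7 h hb (h1.trans h2.symm))), Nat.card_sum,
      h4 b hb, h4 b⁻¹ (by rw [orderOf_inv, hb])]

end Cfsg.Agent.S1006
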