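import Cfsg.Statements.S1008
import Mathlib
import Cfsg.Agent.Small.O168
import Cfsg.Agent.S0144
import Cfsg.Agent.Grp.Fitting

set_option autoImplicit false
open Cfsg

namespace Cfsg.Agent.S1008

open Cfsg.Agent.Small Cfsg.Agent.Small.O168 Subgroup
set_option linter.style.haveILetI false

theorem map_conj_norm {G : Type*} [Group G] (U : Subgroup G) (g : G) :
    (normalizer (U : Set G)).map (MulAut.conj g).toMonoidHom =
      normalizer ((U.map (MulAut.conj g).toMonoidHom : Subgroup G) : Set G) :=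
  map_equiv_normalizer_eq U (MulAut.conj g)

theorem klein_conj {G : Type*} [Group G] {U : Subgroup G} (hU : IsKleinFour U) (g : G) :
    IsKleinFour (U.map (MulAut.conj g).toMonoidHom) :=
  klein_of_equiv (equivMapOfInjective U _ (MulAut.conj g).injective) hU

section
variable {G : Type*} [Group G] [Finite G] [IsSimpleGroup G] (h : Nat.card G = 168)
include h

theorem norm_ne_top {U : Subgroup G} (hU : IsKleinFour U) : normalizer (U : Set G) ≠ ⊤ := fun e => by
  have := card_norm h hU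
  rw [e, card_top, h] at this
  omega

theorem coatom {U : Subgroup G} (hU : IsKleinFour U) : IsCoatom (normalizer (U : Set G)) := by
  refine ⟨norm_ne_top h hU, fun K hK => ?_⟩
  by_contra e
  have h1 := seven_le h K e
  have h2 := index_dvd_of_le hK.le
  rw [idx h (card_norm h hU) (n := 7) rfl] at h2
  have h3 := Nat.le_of_dvd (by norm_num) h2
  have h4 := K.index_mul_card
  rw [h, show K.index = 7 by omega] at h4
  exact hK.ne (eq_of_le_of_card_ge hK.le (by rw [card_norm h hU]; omega))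

theorem exists_klein : ∃ U : Subgroup G, IsKleinFour U := by
  obtain ⟨T⟩ : Nonempty (Sylow 2 G) := inferInstance
  obtain ⟨U, W, -, h2⟩ := two_klein h T
  exact ⟨U, ((h2 U).2 (Or.inl rfl)).2⟩

theorem norm3 (Q : Sylow 3 G) : ∃ U : Subgroup G, IsKleinFour U ∧
    normalizer ((Q : Subgroup G) : Set G) ≤ normalizer (U : Set G) := by
  obtain ⟨U, hU⟩ := exists_klein h
  obtain ⟨a, ha⟩ := exists_prime_orderOf_dvd_card' (G := normalizer (U : Set G)) 3
    (by rw [card_norm h hU]; norm_num)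
  obtain ⟨Q₀, hQ₀⟩ := exists_sylow_eq_zpowers (p := 3) (m := 56) h (by norm_num)
    ((orderOf_coe a).trans ha)
  have h1 : (Q₀ : Subgroup G) ≤ normalizer (U : Set G) := hQ₀ ▸ zpowers_le.2 a.2
  have h2 : normalizer ((Q₀ : Subgroup G) : Set G) ≤ normalizer (U : Set G) := by
    have h3 := card_sylow_mul_card_normalizer (Q₀.subtype h1)
    have h4 := card_sylow_modEq_one 3 (normalizer (U : Set G))
    rw [Sylow.coe_subtype, ← subgroupOf_normalizer_eq h1, card_norm h hU] at h3
    have h5 : Nat.card ((normalizer ((Q₀ : Subgroup G) : Set G)).subgroupOf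
        (normalizer (U : Set G))) = Nat.card ↥(normalizer ((Q₀ : Subgroup G) : Set G) ⊓
          normalizer (U : Set G)) := by
      rw [← inf_subgroupOf_right, Nat.card_congr (subgroupOfEquivOfLe inf_le_right).toEquiv]
    rw [h5] at h3
    have h6 := card_dvd_of_le (inf_le_left (a := normalizer ((Q₀ : Subgroup G) : Set G))
      (b := normalizer (U : Set G)))
    have h7 := card_dvd_of_le (le_inf le_normalizer h1)
    rw [((data3 h).2 Q₀).1] at h7
    rw [((data3 h).2 Q₀).2.1] at h6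
    refine inf_eq_left.1 (eq_of_le_of_card_ge inf_le_left ?_)
    rw [((data3 h).2 Q₀).2.1]
    have h8 := Nat.le_of_dvd (by norm_num) h6
    unfold Nat.ModEq at h4
    generalize Nat.card ↥(normalizer ((Q₀ : Subgroup G) : Set G) ⊓ normalizer (U : Set G)) = k at *
    interval_cases k <;> omega
  obtain ⟨g, rfl⟩ := MulAction.exists_smul_eq G Q₀ Q
  refine ⟨_, klein_conj hU g, ?_⟩
  rw [← map_conj_norm]
  exact (map_conj_norm _ g).ge.trans (map_mono h2)

theorem maximal {M : Subgroup G} (hM : IsCoatom M) :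
    (∃ U : Subgroup G, IsKleinFour U ∧ M = normalizer (U : Set G)) ∨
      ∃ Q : Sylow 7 G, M = normalizer ((Q : Subgroup G) : Set G) := by
  have h1 := seven_le h M hM.1
  have h2 := M.index_mul_card
  rw [h] at h2
  have h3 : Nat.card M ≤ 24 := by nlinarith
  have hk : ∀ U : Subgroup G, IsKleinFour U → M ≤ normalizer (U : Set G) →
      ∃ U : Subgroup G, IsKleinFour U ∧ M = normalizer (U : Set G) := fun U hU hle =>
    ⟨U, hU, ((hM.le_iff.1 hle).resolve_left (norm_ne_top h hU)).symm⟩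
  by_cases h7 : 7 ∣ Nat.card M
  · right
    obtain ⟨a, ha⟩ := exists_prime_orderOf_dvd_card' (G := M) 7 h7
    obtain ⟨Q, hQ⟩ := exists_sylow_eq_zpowers (p := 7) (m := 24) h (by norm_num)
      ((orderOf_coe a).trans ha)
    have h4 : (Q : Subgroup G) ≤ M := hQ ▸ zpowers_le.2 a.2
    have h5 := (Q.subtype h4).card_dvd_index
    have h6 := card_sylow_modEq_one 7 M
    have h8 := ((Q.subtype h4 : Sylow 7 M) : Subgroup M).index_mul_card
    rw [Sylow.coe_subtype, Nat.card_congr (subgroupOfEquivOfLe h4).toEquiv,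
      ((data7 h).2 Q).1] at h8
    rw [Sylow.coe_subtype] at h5
    have h9 := Nat.le_of_dvd (Nat.pos_of_ne_zero index_ne_zero_of_finite) h5
    have h10 : Nat.card (Sylow 7 M) = 1 := by unfold Nat.ModEq at h6; omega
    haveI := (Nat.card_eq_one_iff_unique.1 h10).1
    have h11 := (normal_subgroupOf_iff_le_normalizer h4).1
      (Sylow.normal_of_subsingleton (Q.subtype h4))
    exact ⟨Q, ((hM.le_iff.1 h11).resolve_left
      (sylow_normalizer_ne_top (ncomm h) Q (by rw [h]; norm_num))).symm⟩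
  left
  have h4 : Nat.card M ∣ 2 ^ 3 * 3 ^ 1 :=
    ((Nat.Prime.coprime_iff_not_dvd (by norm_num)).2 h7).symm.dvd_of_dvd_mul_right
      (show Nat.card M ∣ 2 ^ 3 * 3 ^ 1 * 7 from Dvd.intro_left _ h2)
  by_cases h3 : 3 ∣ Nat.card M
  swap
  · have h5 : IsPGroup 2 M := IsPGroup.of_card_dvd_pow (n := 3)
      (((Nat.Prime.coprime_iff_not_dvd (by norm_num)).2 h3).symm.dvd_of_dvd_mul_right h4)
    obtain ⟨T, hT⟩ := h5.exists_le_sylow
    obtain ⟨U, W, -, h6⟩ := two_klein h T
    obtain ⟨h7, h8⟩ := (h6 U).2 (Or.inl rfl)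
    exact hk U h8 (hT.trans (le_norm h h8 h7))
  obtain ⟨y, z, hy, hz, e⟩ := (Nat.dvd_mul.1 h4)
  obtain ⟨i, -, rfl⟩ := (Nat.dvd_prime_pow Nat.prime_two).1 hy
  obtain ⟨j, -, rfl⟩ := (Nat.dvd_prime_pow Nat.prime_three).1 hz
  haveI := S0144.result 2 3 i j Nat.prime_two Nat.prime_three e.symm
  obtain ⟨a, ha⟩ := exists_prime_orderOf_dvd_card' (G := M) 3 h3
  haveI : Nontrivial M := ⟨a, 1, by rintro rfl; simp at ha⟩
  obtain ⟨p, hp, hE⟩ := Grp.exists_pCore_ne_bot M
  haveI := Fact.mk hp
  have hEp : IsPGroup p (pCore p M) := Grp.pCore_isPGroup p M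
  have hEn : M ≤ normalizer (((pCore p M).map M.subtype : Subgroup G) : Set G) := by
    have := le_normalizer_map (H := pCore p M) M.subtype
    rwa [normalizer_eq_top, ← MonoidHom.range_eq_map, range_subtype] at this
  have hEc : Nat.card ((pCore p M).map M.subtype) = Nat.card (pCore p M) :=
    card_map_of_injective M.subtype_injective
  obtain ⟨k, hk'⟩ := hEp.exists_card_eq
  have hk0 : k ≠ 0 := by rintro rfl; exact hE (card_eq_one.1 hk')
  have h5 : p ^ k ∣ 2 ^ 3 * 3 ^ 1 := (hk' ▸ card_subgroup_dvd_card _).trans h4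
  have ha' : orderOf (a : G) = 3 := (orderOf_coe a).trans ha
  rcases (Nat.Prime.dvd_mul hp).1 ((dvd_pow_self p hk0).trans h5) with h6 | h6
  · obtain rfl := (Nat.prime_dvd_prime_iff_eq hp Nat.prime_two).1 (hp.dvd_of_dvd_pow h6)
    have h7 := Grp.SelfCent.card_mod ha' (cent3 h ha') (hEn a.2) (by
      rw [hEc, hk']; intro e
      exact absurd (Nat.prime_three.dvd_of_dvd_pow e) (by norm_num))
    have h8 : k ≤ 3 := (Nat.pow_dvd_pow_iff_le_right (by norm_num)).1
      ((Nat.Coprime.pow_left k (by norm_num)).dvd_of_dvd_mul_right h5)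
    rw [hEc, hk'] at h7
    obtain rfl : k = 2 := by interval_cases k <;> omega
    refine hk _ ⟨hEc.trans hk', (not_isCyclic_iff_exponent_eq_prime Nat.prime_two
      (hEc.trans hk')).1 fun hc => ?_⟩ hEn
    obtain ⟨g, hg⟩ := hc.exists_ofOrder_eq_natCard
    rw [hEc, hk'] at hg
    have hg' : orderOf (g : G) = 4 := (orderOf_coe g).trans hg
    have h9 : zpowers (g : G) = (pCore 2 M).map M.subtype := eq_of_le_of_card_ge
      (zpowers_le.2 g.2) (by rw [hEc, hk', Nat.card_zpowers, hg']; rfl)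
    have h10 := (mem_normalizer_iff.1 (hEn a.2) g).1 g.2
    replace h10 := h9.ge h10
    classical
    obtain ⟨m, hm, e'⟩ := Finset.mem_image.1 (mem_zpowers_iff_mem_range_orderOf.1 h10)
    rw [hg', Finset.mem_range] at hm
    have h11 : orderOf ((g : G) ^ m) = 4 := by
      rw [e', ← hg']; exact (ord_conj (isConj_iff.2 ⟨_, rfl⟩)).symm
    have h12 : (g : G) ^ 4 = 1 := by rw [← hg', pow_orderOf_eq_one]
    have h13 : (a : G) * (g : G) ^ 2 * (a : G)⁻¹ = (g : G) ^ 2 := by
      rw [← conj_pow, ← e', ← pow_mul]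
      rw [orderOf_pow, hg'] at h11
      interval_cases m
      · simp at h11
      · rfl
      · simp at h11
      · rw [show 3 * 2 = 4 + 2 by rfl, pow_add, h12, one_mul]
    have h14 : (g : G) ^ 2 ∈ centralizer ({(a : G)} : Set G) :=
      mem_centralizer_singleton_iff.2 (mul_inv_eq_iff_eq_mul.1 h13).symm
    have h15 := Subgroup.orderOf_dvd_natCard _ h14
    rw [cent3 h ha', Nat.card_zpowers, ha', orderOf_pow, hg'] at h15
    norm_num at h15
  · obtain rfl := (Nat.prime_dvd_prime_iff_eq hp Nat.prime_three).1 (hp.dvd_of_dvd_pow h6)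
    obtain ⟨Q, hQ⟩ := (hEp.map M.subtype).exists_le_sylow
    have h7 : (pCore 3 M).map M.subtype = Q := eq_of_le_of_card_ge hQ (by
      rw [((data3 h).2 Q).1, hEc, hk']; exact Nat.le_self_pow hk0 3)
    obtain ⟨U, hU, h8⟩ := norm3 h Q
    exact hk U hU ((h7 ▸ hEn).trans h8)

end

/-- In a simple group of order 168 every maximal subgroup is either isomorphic to the symmetric group of degree 4 or non-abelian of order 21; the maximal subgroups of order 21 form one conjugacy class and those isomorphic to the symmetric group of degree 4 form exactly two conjugacy classes. -/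
theorem result {G : Type*} [Group G] [Finite G] [IsSimpleGroup G] (h : Nat.card G = 168) : (∀ M : Subgroup G, IsCoatom M → Nonempty (↥M ≃* Equiv.Perm (Fin 4)) ∨ (Nat.card ↥M = 21 ∧ ¬ IsMulCommutative ↥M)) ∧ (∀ M M' : Subgroup G, IsCoatom M → IsCoatom M' → Nat.card ↥M = 21 → Nat.card ↥M' = 21 → ∃ g : G, M' = M.map (MulAut.conj g).toMonoidHom) ∧ ∃ M₁ M₂ : Subgroup G, IsCoatom M₁ ∧ IsCoatom M₂ ∧ Nonempty (↥M₁ ≃* Equiv.Perm (Fin 4)) ∧ Nonempty (↥M₂ ≃* Equiv.Perm (Fin 4)) ∧ (∀ g : G, M₂ ≠ M₁.map (MulAut.conj g).toMonoidHom) ∧ ∀ M : Subgroup G, IsCoatom M → Nonempty (↥M ≃* Equiv.Perm (Fin 4)) → ∃ g : G, M = M₁.map (MulAut.conj g).toMonoidHom ∨ M = M₂.map (MulAut.conj g).toMonoidHom := by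
  refine ⟨fun M hM => ?_, fun M M' hM hM' h1 h2 => ?_, ?_⟩
  · rcases maximal h hM with ⟨U, hU, rfl⟩ | ⟨Q, rfl⟩
    · exact Or.inl (norm_equiv h hU)
    · refine Or.inr ⟨((data7 h).2 Q).2.1, fun hc => ?_⟩
      refine not_normalizer_le_centralizer (ncomm h) Q (by rw [h]; norm_num) fun g hg x hx => ?_
      exact congrArg Subtype.val (hc.is_comm.comm ⟨x, le_normalizer hx⟩ ⟨g, hg⟩)
  · rcases maximal h hM with ⟨U, hU, rfl⟩ | ⟨Q, rfl⟩
    · rw [card_norm h hU] at h1; omega
    rcases maximal h hM' with ⟨U, hU, rfl⟩ | ⟨Q', rfl⟩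
    · rw [card_norm h hU] at h2; omega
    obtain ⟨g, rfl⟩ := MulAction.exists_smul_eq G Q Q'
    exact ⟨g, (map_conj_norm _ g).symm⟩
  · obtain ⟨T⟩ : Nonempty (Sylow 2 G) := inferInstance
    obtain ⟨U, W, hUW, h2⟩ := two_klein h T
    obtain ⟨hUT, hU⟩ := (h2 U).2 (Or.inl rfl)
    obtain ⟨hWT, hW⟩ := (h2 W).2 (Or.inr rfl)
    refine ⟨_, _, coatom h hU, coatom h hW, norm_equiv h hU, norm_equiv h hW, fun g e => ?_,
      fun M hM ⟨e⟩ => ?_⟩
    · rw [map_conj_norm] at e
      have hV := klein_conj hU g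
      refine hUW (not_conj h T hUT hWT hU hW g ?_)
      generalize U.map (MulAut.conj g).toMonoidHom = V at e hV
      have h3 : ∀ w ∈ W, V ≤ centralizer {w} := fun w hw => by
        by_cases hw1 : w = 1
        · rw [hw1]; intro x _; simp
        obtain ⟨T', hT'⟩ := cent2 h (klein_ord hW hw hw1)
        have h4 := le_norm h hW (hT' ▸ klein_le_cent hW hw : W ≤ T')
        rw [e] at h4
        have h5 := (IsPGroup.of_card (p := 2) (n := 2) hV.card_four).to_sup_of_normal_left'
          T'.isPGroup' h4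
        rw [hT', ← T'.is_maximal' h5 le_sup_right]
        exact le_sup_left
      obtain ⟨u, hu, v, hv, hu1, hv1, huv⟩ := exists_two h hW
      obtain ⟨T', hT'⟩ := cent2 h (klein_ord hW hu hu1)
      obtain ⟨T'', hT''⟩ := cent2 h (klein_ord hW hv hv1)
      have h4 : W ≤ (T' : Subgroup G) ⊓ T'' :=
        le_inf (hT' ▸ klein_le_cent hW hu) (hT'' ▸ klein_le_cent hW hv)
      have h5 : V ≤ (T' : Subgroup G) ⊓ T'' := le_inf (hT' ▸ h3 u hu) (hT'' ▸ h3 v hv)
      have h6 : Nat.card ↥((T' : Subgroup G) ⊓ T'') ≤ 4 := by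
        have h7 := card_dvd_of_le (inf_le_left (a := (T' : Subgroup G)) (b := T''))
        have h8 : Nat.card ↥((T' : Subgroup G) ⊓ T'') ≠ 8 := fun e => huv (eq_of_cent_eq h
          (klein_ord hW hu hu1) (klein_ord hW hv hv1) (by
            rw [hT', hT'', ← eq_of_le_of_card_ge (inf_le_left (a := (T' : Subgroup G)) (b := T''))
              (by rw [e, card2 h]), eq_of_le_of_card_ge
                (inf_le_right (a := (T' : Subgroup G)) (b := T'')) (by rw [e, card2 h])]))
        rw [card2 h] at h7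
        have := Nat.le_of_dvd (by norm_num) h7
        generalize Nat.card ↥((T' : Subgroup G) ⊓ T'') = k at *
        interval_cases k <;> omega
      rw [eq_of_le_of_card_ge h4 (by rwa [hW.card_four]),
        eq_of_le_of_card_ge h5 (by rwa [hV.card_four])]
    · rcases maximal h hM with ⟨V, hV, rfl⟩ | ⟨Q, rfl⟩
      · obtain ⟨T', hT'⟩ := (IsPGroup.of_card (p := 2) (n := 2) hV.card_four).exists_le_sylow
        obtain ⟨g, rfl⟩ := MulAction.exists_smul_eq G T T'
        have h3 : (V.map (MulAut.conj g⁻¹).toMonoidHom).map (MulAut.conj g).toMonoidHom = V := by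
          ext x; simp [mul_assoc]
        have h4 : V.map (MulAut.conj g⁻¹).toMonoidHom ≤ T := by
          rintro _ ⟨x, hx, rfl⟩
          obtain ⟨y, hy, rfl⟩ := hT' hx
          have hy' : y ∈ (T : Subgroup G) := hy
          simpa only [MulEquiv.coe_toMonoidHom, MulAut.conj_apply, MulAut.smul_def, inv_inv, MulDistribMulAction.toMonoidEnd_apply, MulDistribMulAction.toMonoidHom_apply, mul_assoc, inv_mul_cancel_left, inv_mul_cancel, mul_one] using hy'
        refine ⟨g, ?_⟩
        rw [map_conj_norm, map_conj_norm]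
        rcases (h2 _).1 ⟨h4, klein_conj hV g⁻¹⟩ with e' | e'
        · left; rw [← e', h3]
        · right; rw [← e', h3]
      · have := Nat.card_congr e.toEquiv
        rw [((data7 h).2 Q).2.1, Nat.card_perm] at this
        simp [Nat.factorial] at this

end Cfsg.Agent.S1008
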