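import Cfsg.Statements.S1223
import Mathlib
import Cfsg.Agent.Bender.Cor

set_option autoImplicit false
open Cfsg

namespace Cfsg.Agent.S1223

open MulAction Cfsg.Agent.RankOne Cfsg.Agent.Suz Cfsg.Agent.Bender

/-- Let H be a strongly embedded subgroup of the finite group G containing no nontrivial normal subgroup of G (so G acts faithfully on the cosets of H), u an involution of G outside H, and j ≠ 1 an element of H ∩ uHu⁻¹ with u j u⁻¹ = j⁻¹. Then C_G(j) has odd order. -/
theorem result {G : Type*} [Group G] [Finite G] (H : Subgroup G) (hH : Cfsg.IsStronglyEmbedded H) (hcore : H.normalCore = ⊥) (u : G) (hu : orderOf u = 2) (huH : u ∉ H) (j : G) (hj : j ∈ (H ⊓ H.map (MulAut.conj u).toMonoidHom)) (hj1 : j ≠ 1) (hinv : u * j * u⁻¹ = j⁻¹) : Odd (Nat.card (Subgroup.centralizer ({j} : Set G))) := by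
  obtain ⟨hu1, hu2⟩ := orderOf_eq_two_iff'.mp hu
  by_cases h2 : TwoRank G
  · obtain ⟨t, Q, hS⟩ := rankOneCosets_of_core hH h2 hcore
    have hS' := change_t hS hu2 (mt smul_one_eq_iff.mp huH)
    refine odd_card_centralizer_K hS' h2 (mem_K.mpr ⟨⟨smul_one_eq_iff.mpr hj.1, ?_⟩, hinv⟩) hj1
    rw [stabilizer_smul_eq_stabilizer_map_conj, stabilizer_quotient]
    exact hj.2
  · by_contra hev
    obtain ⟨v, hv, hv1, hv2⟩ := RankOne.exists_invol_of_even (Nat.not_odd_iff_even.mp hev)
    have hc : v * j = j * v := Subgroup.mem_centralizer_singleton_iff.mp hv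
    have hjodd : Odd (orderOf j) := odd_orderOf_of_mem (hH.2.2 u huH) hj
    have key : u * j = j * u → False := by
      intro h
      rw [h, mul_inv_cancel_right] at hinv
      exact hj1 (eq_one_of_odd_of_sq hjodd (eq_inv_iff_mul_eq_one.mp hinv))
    by_cases hodd : Odd (orderOf (u * v))
    · obtain ⟨n, hn⟩ := conj_of_odd hu2 hv2 hodd
      have h3 : ∀ n : ℕ, ((u * v) ^ n)⁻¹ * j * (u * v) ^ n = j ∨
          ((u * v) ^ n)⁻¹ * j * (u * v) ^ n = j⁻¹ := by
        have h4 : (u * v)⁻¹ * j * (u * v) = j⁻¹ := by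
          have h5 : u⁻¹ * j * u = j⁻¹ := by
            rw [← hinv, inv_eq_of_mul_eq_one_right hu2]
          calc (u * v)⁻¹ * j * (u * v) = v⁻¹ * (u⁻¹ * j * u) * v := by group
            _ = (v⁻¹ * (j * v))⁻¹ := by rw [h5]; group
            _ = j⁻¹ := by rw [← hc]; group
        intro n
        induction n with
        | zero => left; simp
        | succ n ih =>
          have h6 : ((u * v) ^ (n + 1))⁻¹ * j * (u * v) ^ (n + 1) =
              (u * v)⁻¹ * (((u * v) ^ n)⁻¹ * j * (u * v) ^ n) * (u * v) := by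
            rw [pow_succ]; group
          rcases ih with ih | ih
          · right; rw [h6, ih, h4]
          · left
            rw [h6, ih]
            calc (u * v)⁻¹ * j⁻¹ * (u * v) = ((u * v)⁻¹ * j * (u * v))⁻¹ := by group
              _ = j := by rw [h4, inv_inv]
      apply key
      have h7 : Commute v (((u * v) ^ n)⁻¹ * j * (u * v) ^ n) := by
        rcases h3 n with h | h <;> rw [h]
        · exact hc
        · exact (Commute.inv_right hc)
      rw [← hn]
      calc (u * v) ^ n * v * ((u * v) ^ n)⁻¹ * j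
          = (u * v) ^ n * (v * (((u * v) ^ n)⁻¹ * j * (u * v) ^ n)) * ((u * v) ^ n)⁻¹ := by group
        _ = _ := by rw [h7.eq]; group
    · obtain ⟨z, hz1, hz2, h3, h4⟩ := exists_invol_commute hu2 hv2 hodd
      have hz := orderOf_eq_two_iff'.mpr ⟨hz1, hz2⟩
      have h5 := (eq_of_not_twoRank h2 hu hz h3).trans
        (eq_of_not_twoRank h2 (orderOf_eq_two_iff'.mpr ⟨hv1, hv2⟩) hz h4).symm
      exact key (h5 ▸ hc)


end Cfsg.Agent.S1223
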