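import Cfsg.Statements.S1235
import Mathlib
import Cfsg.Agent.MacW.SR16
import Cfsg.Agent.Std.TwoB
import Cfsg.Agent.FGS.SecRank2

set_option autoImplicit false
open Cfsg

namespace Cfsg.Agent.S1235

/-- Let G be a finite group, x an involution and T ≤ G a Sylow 2-subgroup of C_G(x) (T ≤ C_G(x) with |C_G(x) : T| odd) which is the internal direct product of a subgroup D that is dihedral (of order ≥ 4) or quasi-dihedral and a Klein four-subgroup B. Suppose that for every involution b ∈ B, T ≤ C_G(b) with |C_G(b) : T| odd. Then every section of G has 2-rank at most 4. -/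
theorem result {G : Type*} [Group G] [Finite G] (x : G) (hx : orderOf x = 2) (T D B : Subgroup G) (hT : IsPGroup 2 T) (hTx : T ≤ Subgroup.centralizer ({x} : Set G)) (hTxi : Odd (T.relIndex (Subgroup.centralizer ({x} : Set G)))) (hprod : Cfsg.IsInternalDirectProduct D B T) (hD : (∃ m : ℕ, 2 ≤ m ∧ Nonempty (D ≃* DihedralGroup m)) ∨ Cfsg.IsQuasiDihedral D) (hB : IsKleinFour B) (hTb : ∀ b ∈ B, orderOf b = 2 → T ≤ Subgroup.centralizer ({b} : Set G) ∧ Odd (T.relIndex (Subgroup.centralizer ({b} : Set G)))) : Cfsg.SectionalPRankLE 2 4 G := by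
  open Subgroup MacW PLocal.Amb in
  obtain ⟨hDT, hBT, hc, hd, hs⟩ := hprod
  have hB4 : Nat.card B = 4 := hB.card_four
  have hBsq : ∀ b ∈ B, b ^ 2 = 1 := fun b hb => by
    have := Monoid.pow_exponent_eq_one (⟨b, hb⟩ : B)
    rw [hB.exponent_two] at this
    exact congrArg Subtype.val this
  have hcard : Nat.card T = Nat.card D * 4 := by
    rw [← hs, FGS.SecRank.card_sup_of_commute hc hd, hB4]
  have hdec : ∀ t ∈ T, ∃ d ∈ D, ∃ b ∈ B, t = d * b := fun t ht =>
    (mem_sup_of_le_normalizer_right fun d hd => mem_norm_of_comm fun b hb => (hc d hd b hb).symm).1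
      (hs.ge ht)
  obtain ⟨S, hS, hTS⟩ := exists_isSyl_ge hT (le_top : T ≤ ⊤)
  refine SR.sec (SR.syl hS ?_)
  have hC : ∀ b ∈ B, b ≠ 1 → S ⊓ centralizer {b} ≤ T := fun b hb hb1 => by
    obtain ⟨h1, h2⟩ := hTb b hb (orderOf_eq_prime (hBsq b hb) hb1)
    exact (isSyl_of_not_dvd_relIndex hT h1 h2.not_two_dvd_nat).max _ (hS.pgrp.to_le inf_le_left)
      (le_inf hTS h1) inf_le_right
  obtain ⟨y, hyD, hy2, -⟩ := Trm.exists_cyc2 hD
  have hDy : Nat.card D = 2 * Nat.card (zpowers y) := by
    rw [← Grp.card_mul_relIndex (zpowers_le.2 hyD), hy2, mul_comm]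
  by_cases hab : ∀ a ∈ D, ∀ b ∈ D, a * b = b * a
  · have hDsq : ∀ a ∈ D, a ^ 2 = 1 := by
      rcases hD with ⟨m, -, ⟨e⟩⟩ | ⟨n, hn, -, u, v, hu, -, huv⟩
      · intro a ha
        have h1 : ∀ g h : DihedralGroup m, g * h = h * g := fun g h => by
          obtain ⟨g, rfl⟩ := e.surjective g
          obtain ⟨h, rfl⟩ := e.surjective h
          rw [← map_mul, ← map_mul]; exact congrArg e (Subtype.ext (hab _ g.2 _ h.2))
        have h2 : e ⟨a, ha⟩ ^ 2 = 1 := by
          generalize e ⟨a, ha⟩ = g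
          rcases g with i | i
          · have := h1 (.r i) (.sr 0)
            simp only [DihedralGroup.r_mul_sr, DihedralGroup.sr_mul_r, DihedralGroup.sr.injEq] at this
            rw [sq, DihedralGroup.r_mul_r, DihedralGroup.one_def]
            congr 1; linear_combination -this
          · rw [sq, DihedralGroup.sr_mul_self]
        rw [← map_pow, map_eq_one_iff _ e.injective] at h2
        exact congrArg Subtype.val h2
      · exfalso
        have h1 : v * u = u * v := Subtype.ext (hab _ v.2 _ u.2)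
        rw [h1, mul_inv_cancel_right] at huv
        obtain ⟨k, rfl⟩ := Nat.exists_eq_add_of_le' hn
        have h2 : u ^ (2 ^ (k + 2) - 2) = 1 := by
          have h3 := Nat.one_le_two_pow (n := k)
          have : 2 ^ (k + 3 - 1) - 1 = (2 ^ (k + 2) - 2) + 1 := by
            rw [show k + 3 - 1 = k + 2 from rfl, pow_succ, pow_succ]; omega
          rw [this, pow_succ] at huv
          exact (mul_eq_right.1 huv.symm)
        have h3 := Nat.one_le_two_pow (n := k)
        have := Nat.le_of_dvd (by rw [pow_succ, pow_succ]; omega) (orderOf_dvd_of_pow_eq_one h2)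
        rw [hu, pow_succ _ (k + 2)] at this
        have h5 := Nat.one_le_two_pow (n := k + 2)
        omega
    have hTsq : ∀ t ∈ T, t ^ 2 = 1 := fun t ht => by
      obtain ⟨d, hd, b, hb, rfl⟩ := hdec t ht
      rw [(show Commute d b from hc d hd b hb).mul_pow, hDsq d hd, hBsq b hb, one_mul]
    have h4 := card_zpowers_le (hDsq y hyD)
    by_cases h16 : Nat.card T = 16
    · exact SR.E16' hS.pgrp hTS hTsq h16 hBT hB4 hC
    · have h1 : Nat.card (zpowers y) = 1 := by
        have : 0 < Nat.card (zpowers y) := Nat.card_pos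
        omega
      exfalso
      rcases hD with ⟨m, hm, ⟨e⟩⟩ | ⟨n, hn, hc, -⟩
      · have := Nat.card_congr e.toEquiv
        rw [DihedralGroup.nat_card] at this; omega
      · have := Nat.pow_le_pow_right two_pos (show 2 ≤ n + 1 by omega); omega
  have hST : T = S := by
    by_contra hne
    obtain ⟨s0, hs0, hs0T⟩ := SetLike.exists_of_lt (lt_inf_normalizer hS.pgrp (lt_of_le_of_ne hTS hne))
    obtain ⟨k, h1, h2⟩ := Grp.PChain.exists_pow_notMem_pow_mem hS.pgrp (T.subgroupOf S)
      (u := ⟨s0, hs0.1⟩) hs0T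
    set s := s0 ^ 2 ^ k
    have hs : s ∈ S ⊓ 𝐍[T] := pow_mem hs0 _
    have hsT : s ∉ T := h1
    have hs2 : s ^ 2 ∈ T := h2
    let Z : Subgroup G :=
      { carrier := {t | t ∈ T ⊓ 𝐂[T] ∧ t ^ 2 = 1}
        one_mem' := ⟨one_mem _, by simp⟩
        mul_mem' := fun {a b} ha hb => ⟨mul_mem ha.1 hb.1, by
          rw [(show Commute a b from hb.1.2 a ha.1.1).mul_pow, ha.2, hb.2, one_mul]⟩
        inv_mem' := fun {a} ha => ⟨inv_mem ha.1, by rw [inv_pow, ha.2, inv_one]⟩ }
    have hZT : Z ≤ T := fun t ht => ht.1.1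
    have hZsq : ∀ t ∈ Z, t ^ 2 = 1 := fun t ht => ht.2
    have hBZ : B ≤ Z := fun b hb => ⟨⟨hBT hb, fun t ht => by
      obtain ⟨d, hd, b', hb', rfl⟩ := hdec t ht
      exact (show Commute d b from hc d hd b hb).mul_left (comm_of_sq hBsq hb' hb)⟩, hBsq b hb⟩
    have h8 : Nat.card Z ≤ 8 := by
      have c1 := card_le_mul_inf hZT hDT (b := 4) (by omega)
      have c2 : Z ⊓ D ≤ zpowers y := fun w hw => by_contra fun hwy => hab fun a ha b hb => by
        have hw' : ∀ g ∈ D, Commute g w := fun g hg => hw.1.1.2 g (hDT hg)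
        have k : ∀ g ∈ D, ∃ p ∈ zpowers y, g = p ∨ g = p * w⁻¹ := fun g hg => by
          rcases mem_or_of_card (zpowers_le.2 hyD) hDy hw.2 hwy hg with e | e
          exacts [⟨g, e, Or.inl rfl⟩, ⟨_, e, Or.inr (by group)⟩]
        obtain ⟨_, ⟨i, rfl⟩, ea⟩ := k a ha
        obtain ⟨_, ⟨j, rfl⟩, eb⟩ := k b hb
        have c0 : Commute (y ^ i) (y ^ j) := Commute.zpow_zpow_self y i j
        have ci := (hw' _ (zpow_mem hyD i)).inv_right
        have cj := (hw' _ (zpow_mem hyD j)).inv_right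
        rcases ea with rfl | rfl <;> rcases eb with rfl | rfl
        · exact c0
        · exact c0.mul_right ci
        · exact c0.mul_left cj.symm
        · exact (c0.mul_right ci).mul_left (cj.symm.mul_right (Commute.refl _))
      have c3 := card_le_two_mul_cyc c2 (N := ⊥) fun x hx => hx.1.2
      rw [card_bot] at c3
      omega
    have hn : ∀ t ∈ Z, s * t * s⁻¹ ∈ Z := fun t ht => ⟨conj_mem_of_mem_normalizer
      (le_normalizer_inf le_rfl (normalizer_le_normalizer_centralizer T) hs.2) ht.1, by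
        rw [conj_pow, ht.2]; simp⟩
    have c1 := card_le_cm Z (Z ⊓ centralizer {s}) (a := s) fun t ht => by
      have hm : cm s t ∈ Z := mul_mem (hn t ht) (inv_mem ht)
      refine ⟨hm, mem_centralizer_singleton_iff.2 (comm_of_inv (hZsq _ hm) ?_)⟩
      have := ht.1.2 _ hs2
      calc s * cm s t * s⁻¹ = s ^ 2 * t * s⁻¹ * t⁻¹ * s⁻¹ := by unfold cm; simp only [sq]; group
        _ = _ := by rw [this]; unfold cm; simp only [sq]; group
    have c2 : B ⊓ (Z ⊓ centralizer {s}) = ⊥ := eq_bot_iff.2 fun b hb => by_contra fun e =>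
      hsT (hC b hb.1 e ⟨hs.1, mem_centralizer_singleton_iff.2
        (mem_centralizer_singleton_iff.1 hb.2.2).symm⟩)
    have c3 := FGS.SecRank.card_sup_of_commute
      (fun a ha b hb => comm_of_sq hZsq (hBZ ha) (mem_inf.1 hb).1) c2
    have c4 := card_le_of_le (sup_le hBZ (inf_le_left : Z ⊓ centralizer {s} ≤ Z))
    have c5 : 0 < Nat.card (Z ⊓ centralizer {s} : Subgroup G) := Nat.card_pos
    rw [c3, hB4] at c4
    nlinarith
  rw [← hST]
  exact ((SR.cyc y).index (zpowers_le.2 hyD) 1 (by omega)).index hDT 2 (by omega)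

end Cfsg.Agent.S1235
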