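import Cfsg.Statements.S1250
import Mathlib
import Cfsg.Agent.PLocal.RelSylow
import Cfsg.Agent.FGS.Conj

set_option autoImplicit false
open Cfsg

namespace Cfsg.Agent.S1250


/-- Let S be a Sylow p-subgroup of the finite group G, A ≤ S strongly closed in S, and N a normal subgroup. Then the image of A in G ⧸ N is strongly closed in the image of S (which is a Sylow p-subgroup of G ⧸ N). -/
theorem result {G : Type*} [Group G] [Finite G] {p : ℕ} [Fact p.Prime] (S : Sylow p G) (A : Subgroup G) (hA : Cfsg.IsStronglyClosed A (S : Subgroup G)) (N : Subgroup G) [N.Normal] : Cfsg.IsStronglyClosed (A.map (QuotientGroup.mk' N)) ((S : Subgroup G).map (QuotientGroup.mk' N)) := by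
  refine ⟨Subgroup.map_mono hA.1, ?_⟩
  rintro _ ⟨x, hx, rfl⟩ g hg
  obtain ⟨g, rfl⟩ := QuotientGroup.mk'_surjective N g
  have h1 : g * x * g⁻¹ ∈ (S : Subgroup G) ⊔ N := by
    have : g * x * g⁻¹ ∈ ((S : Subgroup G).map (QuotientGroup.mk' N)).comap (QuotientGroup.mk' N) := by
      rw [Subgroup.mem_comap]; simpa using hg
    rwa [Subgroup.comap_map_eq, QuotientGroup.ker_mk'] at this
  have hp : IsPGroup p (Subgroup.zpowers (g * x * g⁻¹)) :=
    PLocal.RelSylow.isPGroup_zpowers_of_mem (FGS.isPGroup_mapConj S.isPGroup' g)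
      (FGS.conj_mem_mapConj g (hA.1 hx))
  obtain ⟨h, hh, hh'⟩ := PLocal.RelSylow.exists_conj_mem_sylow S le_sup_left
    ((Subgroup.zpowers_le).2 h1) hp
  have h2 := hh' _ (Subgroup.mem_zpowers _)
  have h3 : (h * g) * x * (h * g)⁻¹ = h * (g * x * g⁻¹) * h⁻¹ := by group
  have h4 := hA.2 x hx (h * g) (by rw [h3]; exact h2)
  rw [← SetLike.mem_coe, Subgroup.mul_normal] at hh
  obtain ⟨s, hs, n, hn, rfl⟩ := hh
  have h5 := hA.2 _ h4 s⁻¹ (by
    exact S.mul_mem (S.mul_mem (S.inv_mem hs) (hA.1 h4)) (S.inv_mem (S.inv_mem hs)))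
  refine ⟨_, h5, ?_⟩
  have h6 : (QuotientGroup.mk' N) n = 1 := (QuotientGroup.eq_one_iff n).2 hn
  simp only [map_mul, map_inv, h6]
  group

end Cfsg.Agent.S1250
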