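import Cfsg.Statements.S4477
import Cfsg.Agent.Char.FS
import Cfsg.Agent.Char.Quot
import Cfsg.Agent.Char.Monomial
import Cfsg.Agent.Char.Ito
import Cfsg.Agent.Grp.MaxClass
import Cfsg.Agent.Grp.IndexPrimeComm
import Cfsg.Agent.Grp.UniqueOrderP
import Cfsg.Agent.Grp.PChain
import Cfsg.Agent.Grp.MinNormal

set_option autoImplicit false
open Cfsg

namespace Cfsg.Agent.S4477

open Cfsg.Agent.Char

theorem card_dvd_sqrt {G : Type*} [Group G] (K : Subgroup G) (hK : K ≤ Subgroup.center G)
    (h2 : ∀ k ∈ K, k * k = 1) : Nat.card K ∣ Nat.card {x : G // x * x = 1} := by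
  have h := QuotientGroup.card_preimage_mk K (QuotientGroup.mk '' {x : G | x * x = 1})
  have e : (QuotientGroup.mk ⁻¹' (QuotientGroup.mk '' {x : G | x * x = 1} : Set (G ⧸ K))) =
      {x : G | x * x = 1} := by
    refine Set.Subset.antisymm ?_ (Set.subset_preimage_image _ _)
    rintro x ⟨y, hy, hxy⟩
    have hk := QuotientGroup.eq.mp hxy
    have hc := Subgroup.mem_center_iff.mp (hK hk) y
    have : x = y * (y⁻¹ * x) := by group
    rw [Set.mem_ofPred_eq, this]
    generalize y⁻¹ * x = k at hk hc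
    rw [mul_assoc, ← mul_assoc k, ← hc, mul_assoc, h2 k hk, mul_one]
    exact hy
  rw [e] at h
  exact ⟨_, h⟩

theorem exists_central_invol {G : Type*} [Group G] [Finite G] (hG : IsPGroup 2 G)
    (N : Subgroup G) [N.Normal] (hN : N ≠ ⊥) :
    ∃ z ∈ N, z ≠ 1 ∧ z * z = 1 ∧ z ∈ Subgroup.center G := by
  have : Fact (Nat.Prime 2) := ⟨Nat.prime_two⟩
  obtain ⟨u, hu, h1, h2, h3⟩ := Grp.PChain.exists_central_mod_pow hG N ⊥ (by simpa using hN)
  refine ⟨u, hu, by simpa using h1, by simpa [pow_two] using h2,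
    Subgroup.mem_center_iff.mpr fun g => ?_⟩
  have := h3 g
  rw [Subgroup.mem_bot, commutatorElement_eq_one_iff_mul_comm] at this
  exact this.symm

theorem orderOf_eq_two {G : Type*} [Group G] {z : G} (h1 : z ≠ 1) (h2 : z * z = 1) :
    orderOf z = 2 :=
  have : Fact (Nat.Prime 2) := ⟨Nat.prime_two⟩
  orderOf_eq_prime (by rw [pow_two, h2]) h1

theorem mem_zpowers_iff_two {G : Type*} [Group G] {z : G} (h2 : z * z = 1) {x : G} :
    x ∈ Subgroup.zpowers z ↔ x = 1 ∨ x = z := by
  constructor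
  · rintro ⟨k, rfl⟩
    have hz : z ^ (2 : ℤ) = 1 := by rw [zpow_two, h2]
    rcases Int.even_or_odd' k with ⟨j, rfl | rfl⟩
    · left; simp only [zpow_mul, hz, one_zpow]
    · right; simp only [zpow_add, zpow_mul, hz, one_zpow, zpow_one, one_mul]
  · rintro (rfl | rfl)
    · exact one_mem _
    · exact Subgroup.mem_zpowers _

universe u in
theorem aux (n : ℕ) : ∀ (G : Type u) [Group G] [Finite G], Nat.card G = n → IsPGroup 2 G →
    Nat.card {x : G // x * x = 1} % 4 = 2 → IsCyclic G ∨ (commutator G).index = 4 := by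
  induction n using Nat.strong_induction_on with
  | _ n ih =>
  intro G _ _ hn hG hs
  classical
  have := Fintype.ofFinite G
  have two : Fact (Nat.Prime 2) := ⟨Nat.prime_two⟩
  -- uniqueness of the central involution
  have huniq : ∀ a b : G, a ∈ Subgroup.center G → b ∈ Subgroup.center G → a * a = 1 →
      b * b = 1 → a ≠ 1 → b ≠ 1 → a = b := by
    intro a b ha hb ha2 hb2 ha1 hb1
    let K : Subgroup G :=
      { carrier := {x | x ∈ Subgroup.center G ∧ x * x = 1}
        one_mem' := ⟨one_mem _, mul_one _⟩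
        mul_mem' := by
          rintro x y ⟨hx, hx2⟩ ⟨hy, hy2⟩
          refine ⟨mul_mem hx hy, ?_⟩
          rw [mul_assoc, ← mul_assoc y, Subgroup.mem_center_iff.mp hx y, mul_assoc x y, hy2,
            mul_one, hx2]
        inv_mem' := by
          rintro x ⟨hx, hx2⟩
          exact ⟨inv_mem hx, by rw [← mul_inv_rev, hx2, inv_one]⟩ }
    have hd := card_dvd_sqrt K (fun x hx => hx.1) (fun x hx => hx.2)
    obtain ⟨k, hk⟩ := (hG.to_subgroup K).exists_card_eq
    by_contra hab
    have h3 : 3 ≤ Nat.card K := by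
      have : ({1, ⟨a, ha, ha2⟩, ⟨b, hb, hb2⟩} : Finset K).card = 3 := by
        rw [Finset.card_eq_three]
        exact ⟨_, _, _, fun h => ha1 (congrArg Subtype.val h).symm,
          fun h => hb1 (congrArg Subtype.val h).symm, fun h => hab (congrArg Subtype.val h), rfl⟩
      rw [← this, Nat.card_eq_fintype_card]
      exact Finset.card_le_univ _
    rw [hk] at h3 hd
    have h4 : 2 ≤ k := by
      by_contra h
      have : k = 0 ∨ k = 1 := by omega
      rcases this with rfl | rfl <;> omega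
    have h5 : 2 ^ 2 ∣ Nat.card {x : G // x * x = 1} := (pow_dvd_pow 2 h4).trans hd
    omega
  by_cases hab : commutator G = ⊥
  · left
    have hc : ∀ a : G, a ∈ Subgroup.center G := fun a => Subgroup.mem_center_iff.mpr fun g => by
      rw [← commutatorElement_eq_one_iff_mul_comm, ← Subgroup.mem_bot, ← hab]
      exact Subgroup.commutator_mem_commutator (Subgroup.mem_top _) (Subgroup.mem_top _)
    have : IsMulCommutative G := ⟨⟨fun a b => Subgroup.mem_center_iff.mp (hc b) a⟩⟩
    refine Grp.isCyclic_of_prime_order_mem_zpowers fun x y hx hy => ?_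
    obtain ⟨k, hk⟩ := (IsPGroup.iff_orderOf.mp hG) x
    have h2 : orderOf x = 2 := by
      rw [hk] at hx ⊢
      exact ((Nat.prime_dvd_prime_iff_eq hx Nat.prime_two).mp
        (hx.dvd_of_dvd_pow (dvd_refl _)))
    rw [h2] at hy
    rw [huniq y x (hc y) (hc x) (by rw [← pow_two, ← hy, pow_orderOf_eq_one])
      (by rw [← pow_two, ← h2, pow_orderOf_eq_one]) (by rintro rfl; simp at hy)
      (by rintro rfl; simp at h2)]
    exact Subgroup.mem_zpowers x
  right
  obtain ⟨z, hz, hz1, hz2, hzc⟩ := exists_central_invol hG (commutator G) hab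
  have hzN : ∀ N : Subgroup G, N.Normal → N ≠ ⊥ → z ∈ N := by
    intro N _ hN
    obtain ⟨w, hw, hw1, hw2, hwc⟩ := exists_central_invol hG N hN
    rwa [huniq z w hzc hwc hz2 hw2 hz1 hw1]
  set Z := Subgroup.zpowers z with hZ
  have hZc : Z ≤ Subgroup.center G := (Subgroup.zpowers_le).mpr hzc
  have hZn : Z.Normal := ⟨fun a ha g => by
    rwa [Subgroup.mem_center_iff.mp (hZc ha) g, mul_inv_cancel_right]⟩
  have hZ2 : Nat.card Z = 2 := by rw [hZ, Nat.card_zpowers, orderOf_eq_two hz1 hz2]
  have hZb : Z ≠ ⊥ := fun h => by simp [h] at hZ2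
  have hnc : ¬ IsCyclic (G ⧸ Z) := by
    intro h
    apply hab
    rw [commutator_def, Subgroup.commutator_eq_bot_iff_le_centralizer]
    intro a _
    rw [Subgroup.mem_centralizer_iff]
    intro b _
    exact ((QuotientGroup.mk' Z).isMulCommutative_of_isCyclic_of_ker_le_center
      (by rwa [QuotientGroup.ker_mk'])).1.1 b a
  have hG' : IsPGroup 2 (G ⧸ Z) := hG.to_quotient Z
  set s' := Nat.card {x : G ⧸ Z // x * x = 1} with hs'
  have heven : 2 ∣ s' := by
    have hnt : (⊤ : Subgroup (G ⧸ Z)) ≠ ⊥ := by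
      intro h
      have : Subsingleton (G ⧸ Z) := ⟨fun a b => by
        have h1 : ∀ c : G ⧸ Z, c = 1 := fun c => Subgroup.mem_bot.mp (h ▸ Subgroup.mem_top c)
        rw [h1 a, h1 b]⟩
      exact hnc inferInstance
    obtain ⟨w, -, hw1, hw2, hwc⟩ := exists_central_invol hG' ⊤ hnt
    have := card_dvd_sqrt (Subgroup.zpowers w) (Subgroup.zpowers_le.mpr hwc) fun k hk => by
      rcases (mem_zpowers_iff_two hw2).mp hk with rfl | rfl
      · exact mul_one _
      · exact hw2
    rwa [Nat.card_zpowers, orderOf_eq_two hw1 hw2] at this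
  by_cases h4 : s' % 4 = 2
  · rcases ih _ (hn ▸ Grp.card_quotient_lt Z hZb) (G ⧸ Z) rfl hG' h4 with h | h
    · exact absurd h hnc
    · rw [← h, ← Subgroup.index_comap_of_surjective _ (QuotientGroup.mk'_surjective Z)]
      congr 1
      rw [commutator_def (G ⧸ Z), ← Subgroup.map_top_of_surjective _ (QuotientGroup.mk'_surjective Z),
        ← Subgroup.map_commutator, Subgroup.comap_map_eq, QuotientGroup.ker_mk', eq_comm,
        ← commutator_def, sup_eq_left]
      exact Subgroup.zpowers_le.mpr hz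
  have hcount : Nat.card {x : G // x * x = 1} + Nat.card {x : G // x * x = z} = 2 * s' := by
    have h := QuotientGroup.card_preimage_mk Z {x : G ⧸ Z | x * x = 1}
    have e : (QuotientGroup.mk ⁻¹' {x : G ⧸ Z | x * x = 1}) =
        {x : G | x * x = 1} ∪ {x : G | x * x = z} := by
      ext x
      simp only [Set.mem_preimage, Set.mem_ofPred_eq, Set.mem_union]
      rw [← QuotientGroup.mk_mul, QuotientGroup.eq_one_iff, mem_zpowers_iff_two hz2]
    rw [e, hZ2, Nat.card_coe_set_eq, Set.ncard_union_eq] at h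
    · exact h
    · rw [Set.disjoint_left]
      intro x hx1 hx2
      exact hz1 (hx2.symm.trans hx1)
  have hex : ∃ χ : IrrCharacter G, ¬ ∃ m : ℤ,
      fsInd (χ : G → ℂ) * ((χ : G → ℂ) 1 - (χ : G → ℂ) z) = 8 * m := by
    by_contra hcon
    push Not at hcon
    choose m hm using hcon
    have h1 : (Nat.card {x : G // x * x = 1} : ℂ) - Nat.card {x : G // x * x = z} =
        8 * (∑ χ, m χ : ℤ) := by
      rw [card_sqrt_eq_sum, card_sqrt_eq_sum, ← Finset.sum_sub_distrib, Int.cast_sum,
        Finset.mul_sum]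
      exact Finset.sum_congr rfl fun χ _ => by rw [← hm, mul_sub]
    have h2 : (Nat.card {x : G // x * x = 1} : ℤ) - Nat.card {x : G // x * x = z} =
        8 * (∑ χ, m χ : ℤ) := by exact_mod_cast h1
    omega
  obtain ⟨⟨χ, hχ⟩, hm⟩ := hex
  simp only at hm
  have hcen : ∀ w ∈ Subgroup.center G, ∃ ω : ℂ, ‖ω‖ = 1 ∧ ∀ h, χ (w * h) = ω * χ h :=
    fun w hw => (isCharacter_norm_eq_iff hχ.isCharacter w).mp (norm_eq_of_mem_center hχ hw)
  have hχz : χ z ≠ χ 1 := fun h => hm ⟨0, by simp [h]⟩
  have hreal : ∀ g, (χ g).im = 0 := by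
    by_contra h
    exact hm ⟨0, by simp [fsInd_eq_zero_of_not_real hχ h]⟩
  obtain ⟨d, -, hd⟩ := hχ.exists_nat_one
  have hχz' : χ z = -d := by
    obtain ⟨ω, -, hω⟩ := hcen z hzc
    have h1 := hω 1
    have h2 := hω z
    rw [mul_one] at h1
    rw [hz2, h1] at h2
    have h3 : (ω - 1) * (ω + 1) * χ 1 = 0 := by linear_combination -h2
    rcases mul_eq_zero.mp h3 with h | h
    · rcases mul_eq_zero.mp h with h | h
      · exact absurd (by rw [h1, sub_eq_zero.mp h, one_mul]) hχz
      · rw [h1, eq_neg_of_add_eq_zero_left h, hd, neg_one_mul]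
    · exact absurd h hχ.one_ne_zero
  have hd1 : χ 1 ≠ 1 := fun h =>
    hχz ((mem_charKer_iff hχ.isCharacter).mp (commutator_le_charKer_of_one hχ.isCharacter h hz))
  have hd2 : d = 2 := by
    obtain ⟨k, hk⟩ := hG.exists_card_eq
    obtain ⟨j, -, rfl⟩ := (Nat.dvd_prime_pow Nat.prime_two).mp (hk ▸ hχ.deg_dvd_card hd)
    match j with
    | 0 => exact absurd (by simpa using hd) hd1
    | 1 => rfl
    | j + 2 =>
      exfalso
      rcases fsInd_eq_one_or_of_real hχ hreal with e | e
      · exact hm ⟨2 ^ j, by rw [e, hχz', hd]; push_cast; ring⟩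
      · exact hm ⟨-2 ^ j, by rw [e, hχz', hd]; push_cast; ring⟩
  subst hd2
  have hfaith : ∀ g, χ g = χ 1 → g = 1 := by
    rw [← charKer_eq_bot_iff hχ.isCharacter]
    by_contra h
    exact hχz ((mem_charKer_iff hχ.isCharacter).mp
      (hzN _ (charKer_normal hχ.isClassFunction) h))
  have := hG.isNilpotent
  obtain ⟨T, ψ, hTn, hTp, hψ, hind⟩ := exists_eq_indFun_of_isNilpotent hχ hd1
  obtain ⟨e, -, he⟩ := hψ.exists_nat_one
  have hT : T.index * e = 2 := by
    have := indFun_one T ψ
    rw [← hind, hd, he] at this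
    exact_mod_cast this.symm
  have hT2 : T.index = 2 :=
    (Nat.prime_dvd_prime_iff_eq hTp Nat.prime_two).mp ⟨e, hT.symm⟩
  have he1 : ψ 1 = 1 := by
    rw [hT2] at hT
    rw [he, show e = 1 by omega, Nat.cast_one]
  obtain ⟨lam, hlam⟩ := hψ.isCharacter.exists_linear he1
  have hTc : ∀ a ∈ T, ∀ b ∈ T, a * b = b * a := by
    intro a ha b hb
    have hc : a * b * a⁻¹ * b⁻¹ ∈ T := by
      exact mul_mem (mul_mem (mul_mem ha hb) (inv_mem ha)) (inv_mem hb)
    have h1 := indFun_apply_of_normal T ψ ⟨_, hc⟩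
    have h2 : ∀ x : G, ψ ⟨x * (a * b * a⁻¹ * b⁻¹) * x⁻¹, hTn.conj_mem _ hc x⟩ = 1 := by
      intro x
      have : (⟨x * (a * b * a⁻¹ * b⁻¹) * x⁻¹, hTn.conj_mem _ hc x⟩ : T) =
          ⟨_, hTn.conj_mem _ ha x⟩ * ⟨_, hTn.conj_mem _ hb x⟩ * ⟨_, hTn.conj_mem _ ha x⟩⁻¹ *
            ⟨_, hTn.conj_mem _ hb x⟩⁻¹ := by
        apply Subtype.ext
        simp only [Subgroup.coe_mul, Subgroup.coe_inv]
        group
      rw [this, hlam]
      simp only [map_mul, map_inv]
      rw [mul_comm (lam _) (lam _), mul_inv_cancel_right, mul_inv_cancel, Units.val_one]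
    simp only [h2, Finset.sum_const, Finset.card_univ, nsmul_eq_mul, mul_one] at h1
    rw [← hind, ← Nat.card_eq_fintype_card, ← T.card_mul_index, hT2, Nat.cast_mul,
      inv_mul_cancel_left₀ (card_ne_zero T), ← hd] at h1
    have h3 := hfaith _ h1
    rwa [mul_inv_eq_one, mul_inv_eq_iff_eq_mul] at h3
  have hcZ : Subgroup.center G = Z := by
    refine le_antisymm (fun w hw => ?_) hZc
    rw [mem_zpowers_iff_two hz2]
    by_cases hw1 : w = 1
    · exact Or.inl hw1
    refine Or.inr (huniq w z hw hzc ?_ hz2 hw1 hz1)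
    obtain ⟨ω, hω1, hω⟩ := hcen w hw
    have h1 := hω 1
    rw [mul_one, hd] at h1
    have h2 := hreal w
    rw [h1] at h2
    have h3 : ω.im = 0 := by simpa using h2
    have h4 : ω * ω = 1 := by
      have h5 := Complex.mul_conj ω
      rw [Complex.conj_eq_iff_im.mpr h3, Complex.normSq_eq_norm_sq, hω1] at h5
      simpa using h5
    apply hfaith
    rw [hω, h1, hd, ← mul_assoc, h4, one_mul]
  obtain ⟨x, hx⟩ := Grp.MaxClass.exists_not_mem_of_index_ne_one (H := T) (by omega)
  rw [Grp.index_commutator_of_comm Nat.prime_two T hT2 hTc hx,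
    ← Grp.MaxClass.center_eq_of_abelian T ⟨⟨fun a b => Subtype.ext (hTc a a.2 b b.2)⟩⟩
      Nat.prime_two hT2 hab hx, hcZ, hZ2]


/-- Let G be a finite 2-group whose number of involutions is congruent to 1 modulo 4. Then G is cyclic or its commutator subgroup has index 4. -/
theorem result {G : Type*} [Group G] [Finite G] (hG : IsPGroup 2 G) (ht : Nat.card {x : G // orderOf x = 2} % 4 = 1) : IsCyclic G ∨ (commutator G).index = 4 := by
  classical
  have := Fintype.ofFinite G
  have hsq : Nat.card {s : G // s * s = 1} = Nat.card {x : G // orderOf x = 2} + 1 := by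
    rw [Nat.card_eq_fintype_card, Nat.card_eq_fintype_card, Fintype.card_subtype,
      Fintype.card_subtype, ← Finset.card_insert_of_notMem (a := 1) (by simp)]
    congr 1
    ext s
    simp only [Finset.mem_filter, Finset.mem_univ, true_and, Finset.mem_insert]
    constructor
    · intro h
      by_cases h1 : s = 1
      · exact Or.inl h1
      · exact Or.inr (orderOf_eq_two h1 h)
    · rintro (rfl | h)
      · simp
      · rw [← pow_two, ← h, pow_orderOf_eq_one]
  exact aux _ G rfl hG (by omega)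

end Cfsg.Agent.S4477
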