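import Cfsg.Statements.S1288
import Cfsg.Agent.PLocal.SigCoprime
import Cfsg.Agent.PLocal.ThompsonBender
import Cfsg.Agent.PLocal.CommMod
import Cfsg.Agent.PLocal.PConstr
-- import your own Cfsg.Agent.* helpers here

set_option autoImplicit false
open Cfsg

namespace Cfsg.Agent.S1288

open Subgroup Cfsg.Agent.PLocal Cfsg.Agent.PLocal.CommMod
open scoped commutatorElement

theorem mem_of_coprime {G : Type*} [Group G] {p : ℕ} {x : G} (hx : x ∈ pPrimePCore p G)
    (hc : (orderOf x).Coprime p) : x ∈ pPrimeCore p G := by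
  have h1 := Transfer.eq_one_of_mem_isPGroup_of_coprime (Grp.pCore_isPGroup p _) hx
    (Transfer.coprime_orderOf_map (QuotientGroup.mk' _) hc)
  exact (QuotientGroup.eq_one_iff _).1 h1

/-- Let A be a noncyclic elementary abelian p-subgroup of a finite group H normalizing a solvable subgroup K of order prime to p, q a prime dividing |K|, and U ≤ K a subgroup of order prime to q such that ⁅U, C_K(B)⁆ has order prime to q for every subgroup B of index p in A. Then U ≤ O_{q'}(K). -/
theorem result {H : Type*} [Group H] [Finite H] (p : ℕ) [Fact p.Prime] (A K : Subgroup H) (hA : Cfsg.IsElementaryAbelian p A) (hA2 : p ^ 2 ≤ Nat.card ↥A) (hK : ¬ p ∣ Nat.card ↥K) (hKs : Group.IsSolvable ↥K) (hAK : A ≤ Subgroup.normalizer (K : Set H)) (q : ℕ) [Fact q.Prime] (hqK : q ∣ Nat.card ↥K) (U : Subgroup H) (hU : U ≤ K) (hUq : ¬ q ∣ Nat.card ↥U) (hcomm : ∀ B : Subgroup H, B ≤ A → B.relIndex A = p → ¬ q ∣ Nat.card ↥⁅U, K ⊓ Subgroup.centralizer (B : Set H)⁆) : U ≤ (Cfsg.pPrimeCore q ↥K).map K.subtype :=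 by
  have hq : q.Prime := Fact.out
  have hch : (pPrimePCore q K).Characteristic :=
    Subgroup.Characteristic.comap_quotient_mk inferInstance
  set R := (pPrimePCore q K).map K.subtype with hR
  set O := (pPrimeCore q K).map K.subtype with hO
  have hRK : R ≤ K := map_subtype_le _
  have hAR : A ≤ normalizer (R : Set H) := hAK.trans (CP.normalizer_le_normalizer_map_subtype K _)
  have hKR : K ≤ normalizer (R : Set H) := CP.le_normalizer_map_subtype K _
  have hKO : K ≤ normalizer (O : Set H) := CP.le_normalizer_map_subtype K _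
  have h1 : R ≤ centMod U O := by
    refine Sig.le_of_hyp_le hA (Sig.ne_bot_of_pow_le (k := 1) hA2) hAR (Sig.not_dvd_of_le hRK hK) ?_
    intro B hB
    refine le_centMod.2 ⟨(inf_le_left.trans hRK).trans hKO, ?_⟩
    have h2 : ⁅R ⊓ centralizer (B : Set H), U⁆ ≤ ⁅U, K ⊓ centralizer (B : Set H)⁆ := by
      rw [commutator_comm U]
      exact commutator_mono (inf_le_inf_right _ hRK) le_rfl
    have h3 : ⁅R ⊓ centralizer (B : Set H), U⁆ ≤ R :=
      (commutator_mono inf_le_left le_rfl).trans (Solv.commutator_le_of_le_normalizer (hU.trans hKR))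
    intro x hx
    obtain ⟨y, hy, rfl⟩ := h3 hx
    refine mem_map_of_mem _ (mem_of_coprime hy ?_)
    have h4 := Transfer.coprime_orderOf_of_mem
      ((Nat.coprime_comm.1 ((Nat.Prime.coprime_iff_not_dvd hq).2 (hcomm B hB.1 hB.2)))) (h2 hx)
    rwa [coe_subtype, orderOf_coe] at h4
  have h2 := (le_centMod.1 h1).2
  refine TB.le_map_of_subgroupOf_le hU (TB.le_pPrimeCore_of_map_le_centralizer
    isPConstrained_of_isSolvable ?_ ?_)
  · rw [Grp.card_subgroupOf_of_le hU]
    exact Nat.coprime_comm.1 ((Nat.Prime.coprime_iff_not_dvd hq).2 hUq)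
  · rintro _ ⟨u, hu, rfl⟩
    rw [← map_pPrimePCore, mem_centralizer_iff]
    rintro _ ⟨r, hr, rfl⟩
    have h3 := h2 (commutator_mem_commutator (mem_map_of_mem K.subtype hr) (mem_subgroupOf.1 hu))
    rw [← commutatorElement_eq_one_iff_mul_comm, ← map_commutatorElement]
    refine (QuotientGroup.eq_one_iff _).2 ?_
    exact Amb.mem_map_subtype.1 h3

end Cfsg.Agent.S1288
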