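import Cfsg.Statements.S1292
import Mathlib
import Cfsg.Agent.PLocal.LocalComp

set_option autoImplicit false
open Cfsg

namespace Cfsg.Agent.S1292

/-- Let G be a finite group such that F*(C_G(t)) = O_2(C_G(t)) for every involution t. Then F*(N_G(T)) = O_2(N_G(T)) for every nontrivial 2-subgroup T of G. -/
theorem result {G : Type*} [Group G] [Finite G] (h : ∀ t : G, orderOf t = 2 → Cfsg.generalizedFittingSubgroup ↥(Subgroup.centralizer ({t} : Set G)) = Cfsg.pCore 2 ↥(Subgroup.centralizer ({t} : Set G))) (T : Subgroup G) (hT : IsPGroup 2 ↥T) (hT1 : T ≠ ⊥) : Cfsg.generalizedFittingSubgroup ↥(Subgroup.normalizer (T : Set G)) = Cfsg.pCore 2 ↥(Subgroup.normalizer (T : Set G)) := by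
  rw [PLocal.fstar_eq_pCore_iff, ← PLocal.CP.isCharP_iff, PLocal.CP.isCharP_normalizer_iff hT]
  have hZ := PLocal.Amb.inf_centralizer_ne_bot hT hT Subgroup.le_normalizer hT1
  have hZp : IsPGroup 2 ↥(T ⊓ Subgroup.centralizer (T : Set G)) := hT.to_le inf_le_left
  have hd : 2 ∣ Nat.card ↥(T ⊓ Subgroup.centralizer (T : Set G)) := by
    have := (Subgroup.nontrivial_iff_ne_bot _).mpr hZ
    obtain ⟨n, hn, e⟩ := hZp.nontrivial_iff_card.mp this
    rw [e]
    exact dvd_pow_self 2 hn.ne'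
  obtain ⟨t, ht⟩ := exists_prime_orderOf_dvd_card' 2 hd
  have h1 := h t (by rw [Subgroup.orderOf_coe, ht])
  rw [PLocal.fstar_eq_pCore_iff, ← PLocal.CP.isCharP_iff, ← PLocal.centralizer_zpowers_eq] at h1
  refine h1.centralizer_of_le hT (Subgroup.zpowers_le_of_mem t.2.1) ?_
  refine le_trans ?_ (Subgroup.centralizer_le_normalizer _)
  rw [Subgroup.le_centralizer_iff]
  exact Subgroup.zpowers_le_of_mem t.2.2

end Cfsg.Agent.S1292
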