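import Cfsg.Statements.S1294
import Mathlib
import Cfsg.Agent.Inv.CoreSig
import Cfsg.Agent.PLocal.KConn
import Cfsg.Agent.S0217

set_option autoImplicit false
open Cfsg

namespace Cfsg.Agent.S1294

open Subgroup Cfsg.Agent.PLocal.Amb Cfsg.Agent.Inv.CoreSig


/-- Let G be finite with O_{p'}(G) = 1 and p-rank at least 3, whose reduced rank-2 commuting graph for p is connected. Let θ assign to every element a of order p with m_p(C_G(a)) ≥ 3 a solvable subgroup θ a ≤ C_G(a) of order prime to p, so that θ (g a g⁻¹) = g (θ a) g⁻¹ for all g and θ a ∩ C_G(b) ≤ θ b for commuting such a, b. Then θ a = 1 for every such a. -/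
theorem result {G : Type*} [Group G] [Finite G] (p : ℕ) [Fact p.Prime] (hO : Cfsg.pPrimeCore p G = ⊥) (hrk : ¬ Cfsg.PRankLE p 2 G) (hconn : Cfsg.IsRankGraphConnected p 2 G) (θ : G → Subgroup G) (hC : ∀ a : G, (orderOf a = p ∧ ¬ Cfsg.PRankLE p 2 ↥(Subgroup.centralizer ({a} : Set G))) → θ a ≤ Subgroup.centralizer ({a} : Set G) ∧ ¬ p ∣ Nat.card ↥(θ a) ∧ Group.IsSolvable ↥(θ a)) (heq : ∀ a g : G, (orderOf a = p ∧ ¬ Cfsg.PRankLE p 2 ↥(Subgroup.centralizer ({a} : Set G))) → θ (g * a * g⁻¹) = (θ a).map (MulAut.conj g).toMonoidHom) (hbal : ∀ a b : G, (orderOf a = p ∧ ¬ Cfsg.PRankLE p 2 ↥(Subgroup.centralizer ({a} : Set G))) → (orderOf b = p ∧ ¬ Cfsg.PRankLE p 2 ↥(Subgroup.centralizer ({b} : Set G))) → a * b = b * a → θ a ⊓ Subgroup.centralizer {b} ≤ θ b) (a : G) (ha : (orderOf a = p ∧ ¬ Cfsg.PRankLE p 2 ↥(Subgroup.centralizer ({a} : Set G)))) : θ a = ⊥ := by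
  have hp : p.Prime := Fact.out
  -- nonidentity elements of vertices are in the domain
  have hD : ∀ {E : Subgroup G}, IsRankGraphVertex p 2 E → ∀ e ∈ E, e ≠ 1 →
      orderOf e = p ∧ ¬ PRankLE p 2 ↥(centralizer ({e} : Set G)) := by
    intro E hE e he h1
    refine ⟨orderOf_eq_prime (hE.1.2 e he) h1, fun h => hE.2.2 (FT.R2.pRankLE_of_le ?_ h)⟩
    exact centralizer_le (Set.singleton_subset_iff.2 he)
  have hnorm : ∀ b : G, (orderOf b = p ∧ ¬ PRankLE p 2 ↥(centralizer ({b} : Set G))) →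
      centralizer {b} ≤ 𝐍[θ b] := by
    intro b hb g hg
    rw [mem_centralizer_singleton_iff] at hg
    rw [← cj_eq_iff, ← heq b g hb, hg]; congr 1; group
  have hle : ∀ {E : Subgroup G}, IsRankGraphVertex p 2 E → ∀ b : G,
      (orderOf b = p ∧ ¬ PRankLE p 2 ↥(centralizer ({b} : Set G))) → (∀ e ∈ E, e * b = b * e) →
      θ b ≤ signalizerClosure E θ := by
    intro E hE b hb hc
    refine PLocal.Sig.le_of_cent1_le hE.1 hE.2.1 ?_ (hC b hb).2.1 ?_
    · intro e he
      exact hnorm b hb (mem_centralizer_singleton_iff.2 (hc e he))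
    · intro e he h1
      exact (hbal b e hb (hD hE e he h1) (hc e he).symm).trans (le_sc he h1)
  have hconst : ∀ {E E' : Subgroup G}, IsRankGraphVertex p 2 E → IsRankGraphVertex p 2 E' →
      signalizerClosure E θ = signalizerClosure E' θ := by
    intro E E' hE hE'
    have h := hconn E E' hE hE'
    clear hE'
    induction h with
    | refl => rfl
    | tail _ h2 ih =>
      rw [ih]
      apply le_antisymm
      · exact sc_le fun b hb h1 => hle h2.2.1 b (hD h2.1 b hb h1) fun e he => (h2.2.2 b hb e he).symm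
      · exact sc_le fun b hb h1 => hle h2.1 b (hD h2.2.1 b hb h1) fun e he => h2.2.2 e he b hb
  have hvert : ∀ {B : Subgroup G}, IsElementaryAbelian p B → p ^ (2 + 1) ≤ Nat.card B →
      IsRankGraphVertex p 2 B := fun hB h3 =>
    ⟨hB, le_trans FT.R2.sq_lt_cube.le h3, PLocal.KConn.not_pRankLE_of_ea hB
      (PLocal.elemAb_le_centralizer hB) (lt_of_lt_of_le FT.R2.sq_lt_cube h3)⟩
  obtain ⟨B, hBa, hB, hB3⟩ := PLocal.KConn.exists_ea_of_not_pRankLE ha.2
  have hBv := hvert hB hB3
  have hW : ¬ p ∣ Nat.card (signalizerClosure B θ) := by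
    refine (S0217.result B (fun a ha b hb => ea_comm hB ha hb) hB.2 hB3 θ
      (fun a ha h1 => (hC a (hD hBv a ha h1)).1) (fun a ha h1 => (hC a (hD hBv a ha h1)).2.1) ?_
      (fun a ha h1 => (hC a (hD hBv a ha h1)).2.2) ?_).1
    · intro a ha h1 b hb x hx
      exact conj_mem_of_mem_normalizer
        (hnorm a (hD hBv a ha h1) (mem_centralizer_singleton_iff.2 (ea_comm hB hb ha))) hx
    · intro a ha h1 b hb h2
      exact hbal a b (hD hBv a ha h1) (hD hBv b hb h2) (ea_comm hB ha hb)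
  have hn : (signalizerClosure B θ).Normal := by
    rw [← normalizer_eq_top_iff, eq_top_iff]
    intro g _
    refine mem_normalizer_of_cj_le ?_
    rw [cj_le_iff]
    refine sc_le fun b hb h1 => ?_
    rw [← cj_le_iff, ← heq b g (hD hBv b hb h1),
      hconst hBv (hvert (ea_cj hB g) (by rwa [card_cj]))]
    refine le_sc (conj_mem_cj g hb) ?_
    intro h
    apply h1
    have : b = g⁻¹ * (g * b * g⁻¹) * g := by group
    rw [this, h]; group
  have h0 := Grp.le_pPrimeCore hn ((Nat.Prime.coprime_iff_not_dvd hp).2 hW).symm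
  rw [hO] at h0
  exact le_bot_iff.1 ((hle hBv a ha fun e he => mem_centralizer_singleton_iff.1 (hBa he)).trans h0)

end Cfsg.Agent.S1294
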