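import Cfsg.Statements.S1295
import Mathlib
import Cfsg.Agent.S1294
import Cfsg.Agent.PLocal.PComponent

set_option autoImplicit false
open Cfsg

namespace Cfsg.Agent.S1295

open Subgroup Cfsg.Agent.PLocal.Amb Cfsg.Agent.Inv.CoreSig

theorem isPConstrained_of_layer {X : Type*} [Group X] [Finite X] {p : ℕ} [Fact p.Prime]
    (h : layer (X ⧸ pPrimeCore p X) = ⊥) : IsPConstrained p X := by
  rw [PLocal.PCA.isPConstrained_iff, ← PLocal.fstar_eq_pCore_iff, PLocal.fstar_eq_pCore_iff']
  exact ⟨h, Grp.pPrimeCore_quotient_pPrimeCore p X⟩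


/-- Let G be finite with O_{p'}(G) = 1 and p-rank at least 3, whose reduced rank-2 commuting graph for p is connected. Suppose that for every element a of order p with m_p(C_G(a)) ≥ 3 the p-layer of C_G(a) is trivial and O_{p'}(C_G(a)) is solvable. Then F*(C_G(a)) = O_p(C_G(a)) for every such a. -/
theorem result {G : Type*} [Group G] [Finite G] (p : ℕ) [Fact p.Prime] (hO : Cfsg.pPrimeCore p G = ⊥) (hrk : ¬ Cfsg.PRankLE p 2 G) (hconn : Cfsg.IsRankGraphConnected p 2 G) (hL : ∀ a : G, (orderOf a = p ∧ ¬ Cfsg.PRankLE p 2 ↥(Subgroup.centralizer ({a} : Set G))) → Cfsg.pLayer p ↥(Subgroup.centralizer ({a} : Set G)) = ⊥ ∧ Group.IsSolvable ↥(Cfsg.centralizerPPrimeCore p a)) (a : G) (ha : (orderOf a = p ∧ ¬ Cfsg.PRankLE p 2 ↥(Subgroup.centralizer ({a} : Set G)))) : Cfsg.generalizedFittingSubgroup ↥(Subgroup.centralizer ({a} : Set G)) = Cfsg.pCore p ↥(Subgroup.centralizer ({a} : Set G)) := by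
  have hc : ∀ b : G, (orderOf b = p ∧ ¬ PRankLE p 2 ↥(centralizer ({b} : Set G))) →
      IsPConstrained p (centralizer ({b} : Set G)) := fun b hb =>
    isPConstrained_of_layer (PLocal.pLayer_eq_bot_iff_layer.1 (hL b hb).1)
  have h0 := S1294.result p hO hrk hconn (centralizerPPrimeCore p)
    (fun b hb => ⟨PLocal.centralizerPPrimeCore_le b,
      (Nat.Prime.coprime_iff_not_dvd Fact.out).1 (PLocal.centralizerPPrimeCore_coprime b).symm,
      (hL b hb).2⟩)
    (fun b g _ => centralizerPPrimeCore_conj g b)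
    (fun b c hb hc' hbc => core_inf_le_of_constrained (k := 1)
      (by rw [pow_one, ← hb.1, pow_orderOf_eq_one]) hbc (hc c hc')) a ha
  rw [PLocal.fstar_eq_pCore_iff]
  refine PLocal.PCA.charP_of_isPConstrained (hc a ha) ?_
  rwa [centralizerPPrimeCore, map_eq_bot_iff_of_injective _ (subtype_injective _)] at h0

end Cfsg.Agent.S1295
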