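import Cfsg.Statements.S1303
import Cfsg.Agent.PLocal.ConstrAmb
-- import your own Cfsg.Agent.* helpers here

set_option autoImplicit false
open Cfsg

namespace Cfsg.Agent.S1303

open Subgroup

abbrev S3 := Matrix.SpecialLinearGroup (Fin 2) (ZMod 3)

theorem mul4 : ∀ g h : S3, g * g * g * g = 1 → h * h * h * h = 1 →
    g * h * (g * h) * (g * h) * (g * h) = 1 := by decide +kernel

theorem conj4 : ∀ g h : S3, g * g * g * g = 1 → ∀ k : S3, k * h = 1 →
    h * g * k * (h * g * k) * (h * g * k) * (h * g * k) = 1 := by decide +kernel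

theorem cent4 : ∀ c : S3, (∀ g : S3, g * g * g * g = 1 → g * c = c * g) → c * c * c * c = 1 := by
  decide +kernel

theorem inv2 : ∀ t g : S3, t * t = 1 → g * t = t * g := by decide +kernel

theorem ex3 : ∃ w : S3, w ≠ 1 ∧ w ^ 3 = 1 := by decide +kernel

def Q : Subgroup S3 where
  carrier := {g | g * g * g * g = 1}
  one_mem' := by simp
  mul_mem' hg hh := mul4 _ _ hg hh
  inv_mem' {g} hg := by
    have h : g * g * g * g = 1 := hg
    show g⁻¹ * g⁻¹ * g⁻¹ * g⁻¹ = 1
    rw [← inv_inj, inv_one, ← h]; simp [mul_assoc]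

theorem Q_normal : Q.Normal := ⟨fun g hg h => conj4 g h hg h⁻¹ (inv_mul_cancel h)⟩

theorem Q_pg : IsPGroup 2 Q := fun g => ⟨2, Subtype.ext (by
  have h : (g : S3) * g * g * g = 1 := g.2
  show (g : S3) ^ 2 ^ 2 = 1
  rw [show 2 ^ 2 = 1 + 1 + 1 + 1 from rfl, pow_succ, pow_succ, pow_succ, pow_one, h])⟩

theorem charP : centralizer (pCore 2 S3 : Set S3) ≤ pCore 2 S3 := by
  have h := Grp.le_pCore Q_normal Q_pg
  intro c hc
  exact h (cent4 c fun g hg => mem_centralizer_iff.1 hc g (h hg))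

/-- The group X = SL(2, 3): it is 2-constrained, O_{2'}(X) = 1, its centre A = Z(X) contains every involution of X = C_X(A), and X has a subgroup of order 3 (normalized by A) not contained in O_{2'}(X). -/
theorem result : Cfsg.IsPConstrained 2 (Matrix.SpecialLinearGroup (Fin 2) (ZMod 3)) ∧ Cfsg.pPrimeCore 2 (Matrix.SpecialLinearGroup (Fin 2) (ZMod 3)) = ⊥ ∧ (∀ t : Matrix.SpecialLinearGroup (Fin 2) (ZMod 3), orderOf t = 2 → t ∈ Subgroup.center (Matrix.SpecialLinearGroup (Fin 2) (ZMod 3))) ∧ ∃ Q : Subgroup (Matrix.SpecialLinearGroup (Fin 2) (ZMod 3)), Nat.card ↥Q = 3 ∧ ¬ (Q ≤ Cfsg.pPrimeCore 2 (Matrix.SpecialLinearGroup (Fin 2) (ZMod 3))) := by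
  have : Fact (Nat.Prime 2) := ⟨Nat.prime_two⟩
  have : Fact (Nat.Prime 3) := ⟨Nat.prime_three⟩
  have h0 := PLocal.pPrimeCore_eq_bot_of_charP charP
  refine ⟨PLocal.isPConstrained_of_charP charP, h0, fun t ht => ?_, ?_⟩
  · rw [mem_center_iff]
    intro g
    have := pow_orderOf_eq_one t
    rw [ht, sq] at this
    exact inv2 t g this
  · obtain ⟨w, h1, h3⟩ := ex3
    refine ⟨zpowers w, by rw [Nat.card_zpowers, orderOf_eq_prime h3 h1], ?_⟩
    rw [h0, le_bot_iff, zpowers_eq_bot]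
    exact h1

end Cfsg.Agent.S1303
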