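import Cfsg.Statements.S1315
import Cfsg.Agent.IQ.Cf

set_option autoImplicit false
set_option linter.unusedSectionVars false
open Cfsg

namespace Cfsg.Agent.S1315

open Subgroup Cfsg.Agent.PLocal.Amb Cfsg.Agent.Lyons Cfsg.Agent.IQ

section
variable {G : Type*} [Group G] [Finite G] {e t u w y z : G} {J K S : Subgroup G}

theorem exists_step (hy : T2 y) (h : y ∉ K) : ∃ w ∈ zpowers y, w ∉ K ∧ w * w ∈ K := by
  classical
  have h0 : ∃ k : ℕ, y ^ 2 ^ k ∈ K := hy.imp fun k hk => by rw [hk]; exact one_mem K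
  have h1 := Nat.find_spec h0
  obtain ⟨k, hk⟩ := Nat.exists_eq_succ_of_ne_zero (n := Nat.find h0) fun e => h (by
    rwa [e, pow_zero, pow_one] at h1)
  refine ⟨_, pow_mem (mem_zpowers y) _, Nat.find_min h0 (m := k) (by omega), ?_⟩
  rwa [hk, pow_succ, pow_mul, sq] at h1

/-- the diagonal elements for an involution `e` moving `J` -/
structure Dg (z e : G) (J S : Subgroup G) : Prop where
  hJ : Ic z J
  s : IsSyl 2 S 𝐳[z]
  eS : e ∈ S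
  e2 : e * e = 1
  eJ : e ∉ 𝐍[J]

namespace Dg

theorem cent (h : Dg z e J S) (ht : t ∈ S ⊓ J) : t * (e * t * e⁻¹) ∈ 𝐳[e] := by
  have := (h.hJ.cp.cc h.s h.eS h.eJ ht ht).eq
  rw [mz, mul_assoc, inv_mul_cancel_right, ← mul_inv_eq_iff_eq_mul, ← this]
  calc t * (e * t) * (e * t * e⁻¹ * t)⁻¹ = t * (e * e) * t⁻¹ * e⁻¹ := by group
    _ = e := by rw [h.e2, mul_one, mul_inv_cancel, one_mul, inv_eq_of_mul_eq_one_right h.e2]

theorem mul (h : Dg z e J S) (ht : t ∈ S ⊓ J) (hu : u ∈ S ⊓ J) :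
    t * u * (e * (t * u) * e⁻¹) = t * (e * t * e⁻¹) * (u * (e * u * e⁻¹)) := by
  rw [mul_assoc t (e * t * e⁻¹), ← mul_assoc _ u, (h.hJ.cp.cc h.s h.eS h.eJ ht hu).eq]
  group

theorem sq (h : Dg z e J S) (ht : t ∈ S ⊓ J) (t2 : t * t = z) :
    t * (e * t * e⁻¹) * (t * (e * t * e⁻¹)) = 1 := by
  rw [← h.mul ht ht, t2, mz_conj (h.s.le h.eS), h.hJ.sq]

theorem mem (h : Dg z e J S) (ht : t ∈ S ⊓ J) : t * (e * t * e⁻¹) ∈ S :=
  mul_mem ht.1 (cjS h.eS ht.1)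

end Dg

theorem caseI (h : Dg z e J S) (hK : Ic e K) (hy : y ∈ S ⊓ K) (y2 : y * y = e) : False := by
  have yJ : y ∉ 𝐍[J] := fun k => h.eJ (y2 ▸ mul_mem k k)
  have ye : y * e ∉ 𝐍[J] := fun k => h.eJ (by
    have := mul_mem k k
    rwa [mul_assoc, ← mul_assoc e, ← mz.1 (hK.le hy.2), mul_assoc, h.e2, mul_one, y2] at this)
  have ey : e * y * e⁻¹ = y := by rw [← mz.1 (hK.le hy.2), mul_inv_cancel_right]
  have cm : ∀ t ∈ S ⊓ J, y * (t * (e * t * e⁻¹)) * y⁻¹ ∈ S ⊓ Cm z J := fun t ht =>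
    ⟨cjS hy.1 (h.mem ht), by
      rw [show y * (t * (e * t * e⁻¹)) * y⁻¹ = y * t * y⁻¹ * (y * e * t * (y * e)⁻¹) by group]
      exact mul_mem (h.hJ.cp.cjm (h.s.le hy.1) yJ ht.2)
        (h.hJ.cp.cjm (h.s.le (mul_mem hy.1 h.eS)) ye ht.2)⟩
  have co : ∀ t ∈ S ⊓ J, ∀ u ∈ S ⊓ J,
      Commute (y * (t * (e * t * e⁻¹)) * y⁻¹) (u * (e * u * e⁻¹)) := fun t ht u hu => by
    have k1 : Commute (y * (t * (e * t * e⁻¹)) * y⁻¹) u :=
      comm_of h.s.pgrp (cm t ht).1 (cm t ht).2 hu.1 hu.2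
    have k2 := k1.conj e
    rw [conj_eq_of_comm (mem_cent.1 (cjS (hK.le hy.2) (h.cent ht))).symm] at k2
    exact k1.mul_right k2
  have nk : ∀ t ∈ S ⊓ J, t * t = z → t * (e * t * e⁻¹) ∉ 𝐍[K] := fun t ht t2 k => by
    have m1 := h.hJ.cp.cjm (h.s.le h.eS) h.eJ ht.2
    have r2 := h.sq ht t2
    have k1 := mul_mem (conj_mem_of_mem_normalizer k hy.2) (inv_mem hy.2)
    rw [inv_eq_of_mul_eq_one_right r2, mul_assoc, mul_assoc, ← mul_assoc y] at k1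
    rcases hK.uq _ k1 (by
      rw [← _root_.sq, (co t ht t ht).symm.mul_pow, _root_.sq, _root_.sq, conj_mul, r2]
      group) with k2 | k2
    · refine h.hJ.not_Cm ht.2 t2 ?_
      rw [mul_assoc, mul_eq_one_iff_eq_inv] at k2
      rw [k2]
      exact inv_mem (mul_mem m1 (cm t ht).2)
    · exact h.eJ (k2 ▸ mul_mem (mul_mem (le_normalizer ht.2) (h.hJ.cp.Cm_le m1))
        (h.hJ.cp.Cm_le (cm t ht).2))
  obtain ⟨x, hx⟩ := h.hJ.qd (h.hJ.cp.syl h.s)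
  obtain ⟨t, ht, u, hu, t2, u2, tu⟩ := hx.tri
  have k1 := (co t ht u hu).eq
  have k2 := h.sq (mul_mem ht hu) tu
  have k3 := mul_mem (mul_mem (hK.cp.cjm (h.cent hu) (nk u hu u2) hy.2)
    (inv_mem (hK.cp.cjm (h.cent (mul_mem ht hu)) (nk _ (mul_mem ht hu) tu) hy.2)))
    (hK.cp.cjm (h.cent ht) (nk t ht t2) hy.2)
  have r1 := h.sq ht t2
  have r2 := h.sq hu u2
  rw [h.mul ht hu] at k2 k3
  generalize t * (e * t * e⁻¹) = r at *
  generalize u * (e * u * e⁻¹) = s at *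
  have k4 : s⁻¹ * (r * s) = r := by
    rw [inv_eq_of_mul_eq_one_right r2, ← mul_right_inj r, r1, ← k2]; group
  refine hK.not_Cm hy.2 y2 ?_
  convert k3 using 1
  calc y = y * r * y⁻¹ * s * s⁻¹ * y * r⁻¹ := by group
    _ = s * y * (s⁻¹ * (r * s)) * y⁻¹ * s⁻¹ * y * r⁻¹ := by rw [k4, k1]; group
    _ = _ := by group

theorem part1 (hJ : Ic z J) (hK : Ic e K)
    (hc : ∀ Q P, IsSyl 2 Q J → IsSyl 2 P K → Nat.card Q = Nat.card P) (hy : y ∈ K) (y2 : T2 y)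
    (yy : y * y ≠ 1) (yz : y ∈ 𝐳[z]) : y ∈ 𝐍[J] := by
  by_contra yJ
  obtain ⟨f, hf, f2⟩ := hK.o4 y2 hy yy
  have fz := zpowers_le.2 yz hf
  have ez : e ∈ 𝐳[z] := f2 ▸ mul_mem fz fz
  have hz : z ∉ Cm e K := fun k => yJ (hJ.cp.LL_le (cen hK.t2 hK.cp k hJ.t2 hy yz y2))
  obtain ⟨R, hR, yR⟩ := exists_isSyl_ge (isPGroup_zpowers y2)
    (zpowers_le.2 (mem_inf.2 ⟨yz, hK.le hy⟩))
  obtain ⟨S, hS, RS⟩ := exists_isSyl_ge hR.pgrp (hR.le.trans inf_le_left)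
  obtain ⟨S', hS', RS'⟩ := exists_isSyl_ge hR.pgrp (hR.le.trans inf_le_right)
  by_cases eJ : e ∈ 𝐍[J]
  swap
  · exact caseI ⟨hJ, hS, f2 ▸ mul_mem (RS (yR hf)) (RS (yR hf)), hK.sq, eJ⟩ hK
      ⟨RS (yR hf), zpowers_le.2 hy hf⟩ f2
  have h : Cf z e J K R S S' := ⟨hJ, hK, fun k => hz (k ▸ hK.aCm), cj_eq_iff.1
    (hK.eq_of (hK.cp.conj' (mz_symm ez)) y2 hy (by
      rw [mem_cj, mul_assoc, mz.1 yz, inv_mul_cancel_left]; exact hy) yy), eJ, hR, hS, hS', RS, RS',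
    hc _ _ (hJ.cp.syl hS) (hK.cp.syl hS')⟩
  obtain ⟨w, hw, w1, w2⟩ := exists_step y2 yJ
  have wR : w ∈ R ⊓ K := ⟨yR hw, zpowers_le.2 hy hw⟩
  by_cases hB : ∀ t ∈ R ⊓ J, t * t = 1
  · exact h.caseB hB wR w1 w2
  push Not at hB
  obtain ⟨c, hc, c2⟩ := hB
  obtain ⟨t, ht, t2⟩ := hJ.o4 (T2.of hR.pgrp hc.1) hc.2 c2
  by_cases tK : t ∈ 𝐍[K]
  exacts [h.a1 (zpowers_le.2 hc ht) t2 tK wR w1 hz, h.a2 (zpowers_le.2 hc ht) t2 tK wR w1 hz]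

theorem part2 (hJ : Ic z J) (hK : Ic e K)
    (hc : ∀ Q P, IsSyl 2 Q J → IsSyl 2 P K → Nat.card Q = Nat.card P) (zK : z ∈ 𝐍[K]) :
    e ∈ 𝐍[J] := by
  by_contra eJ
  have ze := hK.norm_le zK
  have h1 : ∀ y ∈ K, T2 y → y ∈ 𝐳[z] → y * y = 1 := fun y hy y2 yz => by
    by_contra k
    obtain ⟨f, hf, f2⟩ := hK.o4 y2 hy k
    have := zpowers_le.2 (part1 hJ hK hc hy y2 k yz) hf
    exact eJ (f2 ▸ mul_mem this this)
  obtain ⟨S, hS, eS⟩ := exists_isSyl_ge (isPGroup_zpowers hK.t2) (zpowers_le.2 (mz_symm ze))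
  have h : Dg z e J S := ⟨hJ, hS, eS (mem_zpowers e), hK.sq, eJ⟩
  obtain ⟨S', hS', SS⟩ := exists_isSyl_ge (L := 𝐳[e]) (hS.pgrp.to_le (inf_le_left (b := 𝐳[e])))
    inf_le_right
  have zS : z ∈ S' := SS ⟨mem_of_cent hS hJ.t2 (mz.2 rfl) le_rfl, ze⟩
  have rS : ∀ t ∈ S ⊓ J, t * (e * t * e⁻¹) ∈ S' := fun t ht => SS ⟨h.mem ht, h.cent ht⟩
  have kC : ∀ k ∈ S' ⊓ K, z * k * z⁻¹ = k → k ∈ Cm e K := fun k hk e1 => by
    rcases hK.uq k hk.2 (h1 k hk.2 (T2.of hS'.pgrp hk.1) (mem_cent.2 (comm_of_conj_eq e1).symm))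
      with rfl | rfl
    exacts [one_mem _, hK.aCm]
  have dec : ∀ t ∈ S ⊓ J, t * t = z → t * (e * t * e⁻¹) ∉ Cm e K → ∃ k ∈ S' ⊓ K, ∃ m ∈ S' ⊓ Cm e K,
      t * (e * t * e⁻¹) = k * m ∧ z * k * z⁻¹ = k * e := fun t ht t2 hn => by
    have e1 : t * e * (t * e) = t * (e * t * e⁻¹) := by rw [hK.inv]; group
    obtain ⟨k, hk, m, hm, e2⟩ := hK.cp.decomp hS' (rS t ht) (e1 ▸ diag hJ.t2 hJ.cp (mz_symm ze) hK.sq eJ
      ht.2 (e1 ▸ h.cent ht) (e1 ▸ T2.sq (h.sq ht t2)))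
    refine ⟨k, hk, m, hm, e2, ?_⟩
    have e3 : k⁻¹ * (z * k * z⁻¹) = m * (z * m * z⁻¹)⁻¹ := by
      have := mz_conj (mz_symm (hS.le (h.mem ht)))
      rw [e2] at this
      calc _ = k⁻¹ * (z * (k * m) * z⁻¹) * (z * m * z⁻¹)⁻¹ := by group
        _ = _ := by rw [this]; group
    have e4 := mul_mem (inv_mem (mem_inf.1 hk).2) (conj_mem_of_mem_normalizer zK hk.2)
    rcases hK.uq _ e4 (hK.sq_Cm (T2.of hS'.pgrp (mul_mem (inv_mem (mem_inf.1 hk).1) (cjS zS hk.1))) e4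
      (by rw [e3]; exact mul_mem (mem_inf.1 hm).2 (inv_mem (Cm_conj' hm.2 ze zK)))) with e5 | e5 <;>
      rw [inv_mul_eq_iff_eq_mul] at e5
    · exact (hn (e2 ▸ mul_mem (kC k hk (by rw [e5, mul_one])) hm.2)).elim
    · exact e5
  obtain ⟨t, ht, t2, hr⟩ : ∃ t ∈ S ⊓ J, t * t = z ∧ t * (e * t * e⁻¹) ∈ Cm e K := by
    obtain ⟨x, hx⟩ := hJ.qd (hJ.cp.syl hS)
    obtain ⟨t, ht, u, hu, t2, u2, tu⟩ := hx.tri
    by_contra! k0
    obtain ⟨k, hk, m, hm, e1, e2⟩ := dec t ht t2 (k0 t ht t2)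
    obtain ⟨k', hk', m', hm', e1', e2'⟩ := dec u hu u2 (k0 u hu u2)
    refine k0 _ (mul_mem ht hu) tu ?_
    rw [h.mul ht hu, e1, e1', mul_assoc, ← mul_assoc m, comm_of hS'.pgrp hm.1 hm.2 hk'.1 hk'.2,
      mul_assoc, ← mul_assoc k]
    refine mul_mem (kC _ (mul_mem hk hk') ?_) (mul_mem hm.2 hm'.2)
    rw [← conj_mul, e2, e2', mul_assoc, ← mul_assoc e, ← mz.1 (hK.le hk'.2), mul_assoc, hK.sq, mul_one]
  obtain ⟨x, hx⟩ := hK.qd (hK.cp.syl hS')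
  obtain ⟨w, hw, wz⟩ := hK.ng hS'.pgrp zS hJ.sq zK fun k => by
    obtain ⟨f, hf, f2⟩ := hx.o4
    exact hK.ne (f2 ▸ h1 f (hx.le hf).2 (T2.of hx.pg (hx.le hf)) (k (hx.le hf)))
  have ct := (hJ.cp.cc hS h.eS eJ ht ht).eq
  have m1 := hJ.cp.cjm (mz_symm ze) eJ ht.2
  have rw' : ∀ p ∈ S' ⊓ K, p * (t * (e * t * e⁻¹)) * p⁻¹ = t * (e * t * e⁻¹) := fun p hp =>
    conj_eq_of_comm (comm_of hS'.pgrp (rS t ht) hr hp.1 hp.2)
  have gr : w * t * (t * (e * t * e⁻¹)) * (w * t)⁻¹ = t * (e * t * e⁻¹) := by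
    calc _ = w * (t * (t * (e * t * e⁻¹)) * t⁻¹) * w⁻¹ := by group
      _ = _ := by rw [← ct, ← mul_assoc t, mul_inv_cancel_right, ct, rw' w hw]
  have ge : w * t * e * (w * t)⁻¹ = t * (e * t * e⁻¹) * z := by
    calc _ = w * (t * (e * t⁻¹ * e⁻¹) * e) * w⁻¹ := by group
      _ = w * (t * (e * t * e⁻¹)) * w⁻¹ * (w * (e * z * e⁻¹) * w⁻¹) * (w * e * w⁻¹) := by
        rw [inv_eq_of_sq hJ.sq t2, ← mz.1 (hJ.le ht.2)]; group
      _ = _ := by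
        rw [rw' w hw, mz_conj (mz_symm ze), wz, mz_conj (hK.le hw.2), mul_assoc _ (e * z),
          mul_assoc e z, mz.1 ze, ← mul_assoc e e, hK.sq, one_mul]
  have hM := hK.conj (w * t)
  have k1 := Cm_conj hr (w * t)
  rw [gr] at k1
  have k2 := mul_mem (inv_mem k1) hM.aCm
  nth_rw 2 [ge] at k2
  rw [inv_mul_cancel_left] at k2
  have p2 := (T2.of hx.pg hx.xQ).conj (w * t)
  have pz : w * t * x * (w * t)⁻¹ ∈ 𝐳[z] := by
    have k3 := hM.le (conj_mem_cj _ hx.xQ.2)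
    have k4 : w * t * x * (w * t)⁻¹ ∈ 𝐳[t * (e * t * e⁻¹)] := by
      rw [← gr, centralizer_singleton_conj]
      exact conj_mem_cj _ (mem_cent.2 (comm_of_conj_eq (rw' x hx.xQ)))
    rw [ge] at k3
    exact mz_symm ((mul_mem_cancel_left (mz_symm k4)).1 (mz_symm k3))
  obtain ⟨U, hU, pU⟩ := exists_isSyl_ge (isPGroup_zpowers p2) (zpowers_le.2 pz)
  obtain ⟨q, hq, m, hm, e1⟩ := hJ.cp.decomp hU (pU (mem_zpowers _))
    (cen hM.t2 hM.cp k2 hJ.t2 (conj_mem_cj _ hx.xQ.2) pz p2)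
  obtain ⟨x₁, hx₁⟩ := hJ.qd (hJ.cp.syl hU)
  obtain ⟨n, hn⟩ := hx.four
  have e2 := hc _ _ (hJ.cp.syl hU) (hK.cp.syl hS')
  rw [hx.card, hx₁.card] at e2
  have e3 := congrArg (· ^ (2 * n)) e1
  rw [conj_pow, hx.half (by omega), ge,
    Commute.mul_pow (comm_of hU.pgrp hm.1 hm.2 hq.1 hq.2).symm] at e3
  have e4 : q ^ (2 * n) ∈ Cm z J := by
    rcases hJ.uq _ (pow_mem hq.2 (2 * n)) (by
      rw [← pow_add, show 2 * n + 2 * n = orderOf x₁ by omega, hx₁.powx hq]) with k | k <;> rw [k]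
    exacts [one_mem _, hJ.aCm]
  have e5 := mul_mem e4 (pow_mem hm.2 (2 * n))
  rw [← e3, mul_mem_cancel_right hJ.aCm, mul_mem_cancel_right m1] at e5
  exact hJ.not_Cm ht.2 t2 e5

theorem card_syl {Q P : Subgroup G} (h : Nat.card (J ⧸ oddCore J) = Nat.card (K ⧸ oddCore K))
    (hQ : IsSyl 2 Q J) (hP : IsSyl 2 P K) : Nat.card Q = Nat.card P := by
  have key : ∀ L : Subgroup G, (Nat.card L).factorization 2 =
      (Nat.card (L ⧸ oddCore L)).factorization 2 := fun L => by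
    rw [card_eq_card_quotient_mul_card_subgroup (oddCore L), Nat.factorization_mul Nat.card_pos.ne'
      Nat.card_pos.ne', Finsupp.add_apply, Nat.factorization_eq_zero_of_not_dvd
        (n := Nat.card (oddCore L)) ((Nat.Prime.coprime_iff_not_dvd Nat.prime_two).1
        (Grp.pPrimeCore_coprime 2 L).symm), add_zero]
  rw [hQ.card_eq_pow, hP.card_eq_pow, key, key, h]

theorem ic_of (h1 : z ∈ J ∧ orderOf z = 2 ∧ ∀ t ∈ J, orderOf t = 2 → t = z) (h2 : Cp z J) : Ic z J :=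
  ⟨h2, h1.1, by rw [← sq, ← h1.2.1, pow_orderOf_eq_one], fun k => by simpa [k] using h1.2.1,
    fun t ht k => (eq_or_ne t 1).imp_right fun k1 => h1.2.2 t ht (orderOf_eq_prime (by rwa [sq]) k1)⟩

end

/-- Let G be finite and J ≠ K subgroups, each containing exactly one involution, z(J) resp. z(K), each a 2-component of the centralizer of its involution, with J / O(J) and K / O(K) both isomorphic to SL(2, F) for one finite field F of odd order, or both non-split double covers of A7. Then (i) every 2-element of K of order at least 4 centralizing z(J) normalizes J; (ii) if z(J) normalizes K then z(K) normalizes J. -/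
theorem result {G : Type*} [Group G] [Finite G] (J K : Subgroup G) (hJK : J ≠ K) (zJ zK : G) (hzJ : zJ ∈ J ∧ orderOf zJ = 2 ∧ ∀ t ∈ J, orderOf t = 2 → t = zJ) (hzK : zK ∈ K ∧ orderOf zK = 2 ∧ ∀ t ∈ K, orderOf t = 2 → t = zK) (hJ : J ≤ Subgroup.centralizer ({zJ} : Set G) ∧ Cfsg.IsPComponent 2 (J.subgroupOf (Subgroup.centralizer ({zJ} : Set G)))) (hK : K ≤ Subgroup.centralizer ({zK} : Set G) ∧ Cfsg.IsPComponent 2 (K.subgroupOf (Subgroup.centralizer ({zK} : Set G)))) (htype : (∃ (F : Type) (_ : Field F) (_ : Fintype F), Odd (Fintype.card F) ∧ Nonempty (↥J ⧸ Cfsg.oddCore ↥J ≃* Matrix.SpecialLinearGroup (Fin 2) F) ∧ Nonempty (↥K ⧸ Cfsg.oddCore ↥K ≃* Matrix.SpecialLinearGroup (Fin 2) F)) ∨ (Cfsg.IsNonsplitDoubleCover (↥J ⧸ Cfsg.oddCore ↥J) ↥(alternatingGroup (Fin 7)) ∧ Cfsg.IsNonsplitDoubleCover (↥K ⧸ Cfsg.oddCore ↥K) ↥(alternatingGroup (Fin 7)))) : (∀ y ∈ K,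 IsPGroup 2 ↥(Subgroup.zpowers y) → 4 ≤ orderOf y → y * zJ = zJ * y → y ∈ Subgroup.normalizer (J : Set G)) ∧ (zJ ∈ Subgroup.normalizer (K : Set G) → zK ∈ Subgroup.normalizer (J : Set G)) := by
  have hc : Nat.card (J ⧸ oddCore J) = Nat.card (K ⧸ oddCore K) := by
    rcases htype with ⟨F, _, _, -, ⟨e1⟩, ⟨e2⟩⟩ | ⟨⟨h1, ⟨e1⟩, -⟩, h2, ⟨e2⟩, -⟩
    · exact Nat.card_congr (e1.trans e2.symm).toEquiv
    · rw [card_eq_card_quotient_mul_card_subgroup (center _), h1, Nat.card_congr e1.toEquiv,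
        card_eq_card_quotient_mul_card_subgroup (center (K ⧸ oddCore K)), h2, Nat.card_congr e2.toEquiv]
  refine ⟨fun y hy y2 y4 yz => part1 (ic_of hzJ hJ) (ic_of hzK hK) (fun _ _ => card_syl hc) hy
    (T2.of y2 (mem_zpowers y)) (fun k => ?_) (mz.2 yz),
    part2 (ic_of hzJ hJ) (ic_of hzK hK) fun _ _ => card_syl hc⟩
  have := Nat.le_of_dvd two_pos (orderOf_dvd_of_pow_eq_one (x := y) (n := 2) (by rwa [sq]))
  omega

end Cfsg.Agent.S1315
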