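import Cfsg.Statements.S1322
import Mathlib
import Cfsg.Agent.PLocal.Pumpup
import Cfsg.Agent.S1301
import Cfsg.Agent.S0205

set_option autoImplicit false
open Cfsg

namespace Cfsg.Agent.S1322

/-- Let G be finite with L_{2'}(G) = E(G), t an involution and L ≤ C_G(t) a component of C_G(t). Then there is a component D of G with: L = D; or L < D and D = ⁅D, ⟨t⟩⁆; or tDt⁻¹ ≠ D and L is the layer of C_{D ⊔ tDt⁻¹}(t). -/
theorem result {G : Type*} [Group G] [Finite G] (hL2 : Cfsg.pLayer 2 G = Cfsg.layer G) (t : G) (ht : orderOf t = 2) (L : Subgroup G) (hLt : L ≤ Subgroup.centralizer ({t} : Set G)) (hL : Cfsg.IsComponent (L.subgroupOf (Subgroup.centralizer ({t} : Set G)))) : ∃ D : Subgroup G, Cfsg.IsComponent D ∧ (L = D ∨ (L < D ∧ D = ⁅D, Subgroup.zpowers t⁆) ∨ (D.map (MulAut.conj t).toMonoidHom ≠ D ∧ L = (Cfsg.layer ↥((D ⊔ D.map (MulAut.conj t).toMonoidHom) ⊓ Subgroup.centralizer ({t} : Set G))).map ((D ⊔ D.map (MulAut.conj t).toMonoidHom) ⊓ Subgroup.centralizer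 ({t} : Set G)).subtype)) := by
  open Subgroup PLocal in
  have hq := ((comp_subgroupOf_iff hLt).1 hL).2
  have hd : 2 ∣ Nat.card L := by
    by_contra h
    exact qs_not_solvable hq (S0205.result (Nat.odd_iff.2 (by omega)))
  have hLE : L ≤ layer G := by
    rw [← hL2]
    refine le_trans ?_ (S1301.result (zpowers t) (isPGroup_zpowers_of_orderOf_eq ht))
    rw [centralizer_zpowers_eq]
    exact le_map_pLayer hLt (pcomp_of_comp hL (by rwa [Grp.card_subgroupOf_of_le hLt]))
  obtain ⟨D, hD, h | h | ⟨h1, h2, h3⟩⟩ := pumpup_comp ht hLt hL hLE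
  · exact ⟨D, hD, Or.inl h⟩
  · exact ⟨D, hD, Or.inr (Or.inl ⟨h.1, h.2.symm⟩)⟩
  · refine ⟨D, hD, Or.inr (Or.inr ⟨fun h => h1 (Amb.cj_eq_iff.1 h), ?_⟩)⟩
    have h4 := h2.commutator_inf_centralizer (comp_commutator hD)
    have h5 := h2.range_le
    rw [cycRest_two] at h4 h5
    rw [← h3] at h4 h5
    apply le_antisymm
    · exact le_map_layer (le_inf h5 hLt) (comp_subgroupOf_of_le (le_inf h5 hLt) inf_le_right hL)
    · rw [← map_layer_commutator, ← h4]
      exact commutator_mono (map_subtype_le _) (map_subtype_le _)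

end Cfsg.Agent.S1322
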