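import Cfsg.Statements.S1323
import Cfsg.Agent.KSG.QsAlt
import Cfsg.Agent.PLocal.Quasisimple
import Cfsg.Agent.PLocal.Amb

set_option autoImplicit false
open Cfsg

namespace Cfsg.Agent.S1323

open Equiv Subgroup KSG

variable {Ω : Type*} [Fintype Ω] [DecidableEq Ω]

/-- The alternating group on `X`, inside the alternating group of `Ω`. -/
def onS (X : Finset Ω) : Subgroup (alternatingGroup Ω) := (altOn X).subgroupOf _

theorem mem_onS {X : Finset Ω} {g : alternatingGroup Ω} :
    g ∈ onS X ↔ ∀ x, x ∉ X → (g : Perm Ω) x = x := by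
  rw [onS, mem_subgroupOf, mem_altOn]
  exact ⟨fun h => h.2, fun h => ⟨g.2, h⟩⟩

theorem nonempty_onS_equiv (X : Finset Ω) : Nonempty (onS X ≃* alternatingGroup (Fin X.card)) := by
  obtain ⟨e⟩ := nonempty_altOn_equiv X
  exact ⟨(subgroupOfEquivOfLe (fun g hg => (mem_altOn.1 hg).1)).trans e⟩

theorem centralizer_onS {X : Finset Ω} (h : 4 ≤ X.card) :
    centralizer (onS X : Set (alternatingGroup Ω)) = onS Xᶜ := by
  ext g
  rw [mem_onS]
  constructor
  · intro hg a ha
    rw [Finset.mem_compl, not_not] at ha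
    by_contra hne
    have h2 : 1 < ((X.erase a).erase ((g : Perm Ω) a)).card := by
      have h1 := Finset.pred_card_le_card_erase (s := X) (a := a)
      have h2 := Finset.pred_card_le_card_erase (s := X.erase a) (a := (g : Perm Ω) a)
      omega
    obtain ⟨c, hc, d, hd, hcd⟩ := Finset.one_lt_card.1 h2
    simp only [Finset.mem_erase] at hc hd
    have hm := c3_mem_altOn ha hc.2.2 hd.2.2 hc.2.1.symm hcd
    have h3 := hg ⟨c3 a c d, (mem_altOn.1 hm).1⟩ hm
    have h4 := congrArg (fun x : alternatingGroup Ω => (x : Perm Ω) a) h3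
    simp only [Subgroup.coe_mul, Perm.mul_apply] at h4
    rw [c3_apply_of_ne hne hc.1.symm hd.1.symm, c3_apply_fst hc.2.1.symm hd.2.1.symm] at h4
    exact hc.2.1 ((g : Perm Ω).injective h4).symm
  · intro hg k hk
    apply Subtype.ext
    exact commute_of_mem_altOn hk (fun x hx => hg x (by simpa using hx))

theorem map_conj_onS (X : Finset Ω) (g : alternatingGroup Ω) :
    (onS X).map (MulAut.conj g).toMonoidHom = onS (X.image (g : Perm Ω)) := by
  ext k
  rw [mem_map_equiv, mem_onS, mem_onS]
  constructor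
  · intro h x hx
    have := h ((g : Perm Ω)⁻¹ x) (fun h' => hx (Finset.mem_image.2 ⟨_, h', by simp⟩))
    simpa [MulAut.conj_symm_apply] using this
  · intro h x hx
    have := h ((g : Perm Ω) x) (fun h' => by
      obtain ⟨y, hy, e⟩ := Finset.mem_image.1 h'
      exact hx ((g : Perm Ω).injective e ▸ hy))
    simp [MulAut.conj_symm_apply, this]

theorem onS_inf (X Y : Finset Ω) : onS X ⊓ onS Y = onS (X ∩ Y) := by
  ext g
  simp only [mem_inf, mem_onS, Finset.mem_inter, not_and_or]
  exact ⟨fun h x hx => hx.elim (h.1 x) (h.2 x), fun h => ⟨fun x hx => h x (.inl hx), fun x hx => h x (.inr hx)⟩⟩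

theorem isStandard_onS {X : Finset Ω} (h4 : X.card = 4) (h5 : 5 ≤ Xᶜ.card) :
    IsStandardSubgroup (onS Xᶜ) := by
  have hC : centralizer (onS Xᶜ : Set (alternatingGroup Ω)) = onS X := by
    rw [centralizer_onS (by omega), compl_compl]
  have hC' := centralizer_onS (X := X) h4.ge
  have hq : IsQuasisimple (onS Xᶜ) := by
    obtain ⟨e⟩ := nonempty_onS_equiv Xᶜ
    have hs := alternatingGroup.isSimpleGroup (α := Fin Xᶜ.card) (by simpa using h5)
    refine PLocal.qs_congr (PLocal.qs_of_simple hs ?_) e.symm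
    intro hc
    have h1 := alternatingGroup.center_eq_bot (α := Fin Xᶜ.card) (by simp; omega)
    have h2 : center (alternatingGroup (Fin Xᶜ.card)) = ⊤ :=
      eq_top_iff.2 fun x _ => mem_center_iff.2 fun y => hc.is_comm.comm y x
    exact bot_ne_top (h1.symm.trans h2)
  have hsol : Group.IsSolvable (onS X) := by
    have := isSolvable_altOn (D := X) h4.le
    exact Group.isSolvable_of_isSolvable_injective
      (f := (subgroupOfEquivOfLe (fun g hg => (mem_altOn.1 hg).1)).toMonoidHom) (MulEquiv.injective _)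
  refine ⟨hq, ⟨?_, fun g hg => ?_⟩, fun g _ h => ?_, le_antisymm ?_ ?_⟩
  · rw [hC]
    obtain ⟨e⟩ := nonempty_onS_equiv X
    rw [Nat.card_congr e.toEquiv, h4, Nat.card_eq_fintype_card]
    decide
  · rw [hC] at hg ⊢
    rw [map_conj_onS, onS_inf]
    obtain ⟨e⟩ := nonempty_onS_equiv (X ∩ X.image (g : Perm Ω))
    have hlt : (X ∩ X.image (g : Perm Ω)).card < 4 := by
      by_contra hh
      have h1 : X ∩ X.image (g : Perm Ω) = X :=
        Finset.eq_of_subset_of_card_le Finset.inter_subset_left (by omega)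
      have h2 : X = X.image (g : Perm Ω) :=
        Finset.eq_of_subset_of_card_le (Finset.inter_eq_left.1 h1) Finset.card_image_le
      apply hg
      rw [mem_normalizer_iff_map_conj_eq]
      have := map_conj_onS X g
      rw [← h2] at this
      exact this
    rw [Nat.card_congr e.toEquiv]
    generalize (X ∩ X.image (g : Perm Ω)).card = m at hlt
    rw [Nat.card_eq_fintype_card]
    interval_cases m <;> decide
  · rw [commutator_comm, commutator_eq_bot_iff_le_centralizer, hC] at h
    have hq' := PLocal.qsS_map hq (MulAut.conj g).toMonoidHom (by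
      rw [Ne, map_eq_bot_iff_of_injective _ (MulAut.conj g).injective]
      exact PLocal.qsS_ne_bot hq)
    exact PLocal.qsS_not_le_solvable hq' hsol h
  · exact PLocal.Amb.normalizer_le_normalizer_centralizer _
  · rw [hC]
    conv_rhs => rw [← hC']
    exact PLocal.Amb.normalizer_le_normalizer_centralizer _

/-- For n ≥ 9, the subgroup of the alternating group on Fin n fixing each of the points 0, 1, 2, 3 is a standard subgroup. -/
theorem result (n : ℕ) (h4 : 4 ≤ n) (hn : 9 ≤ n) : Cfsg.IsStandardSubgroup (⨅ i : Fin 4, MulAction.stabilizer ↥(alternatingGroup (Fin n)) (Fin.castLE h4 i : Fin n)) := by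
  have h := isStandard_onS (X := Finset.univ.map (Fin.castLEEmb h4)) (by simp)
    (by rw [Finset.card_compl]; simp; omega)
  convert h using 1
  ext g
  simp [mem_onS, Subgroup.mem_iInf, MulAction.mem_stabilizer_iff]
  rfl

end Cfsg.Agent.S1323
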