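import Mathlib
import Cfsg.Statements.S1334
import Cfsg.Agent.K.SchK
-- import your own Cfsg.Agent.* helpers here

set_option autoImplicit false
open Cfsg

namespace Cfsg.Agent.S1334

/-- Let G be finite such that every p-local subgroup has all its non-abelian composition factors among the known simple groups, and let a, b be commuting elements of order p. Then the p-layer of L_{p'}(C_G(a)) ∩ C_G(b) equals the p-layer of L_{p'}(C_G(b)) ∩ C_G(a) (both viewed in G). -/
theorem result {G : Type*} [Group G] [Finite G] (p : ℕ) [Fact p.Prime] (hK : ∀ T : Subgroup G, IsPGroup p ↥T → T ≠ ⊥ → Cfsg.IsCompositionKGroup ↥(Subgroup.normalizer (T : Set G))) (a b : G) (ha : orderOf a = p) (hb : orderOf b = p) (hab : a * b = b * a) : (Cfsg.pLayer p ↥((Cfsg.pLayer p ↥(Subgroup.centralizer ({a} : Set G))).map (Subgroup.centralizer ({a} : Set G)).subtype ⊓ Subgroup.centralizer ({b} : Set G))).map ((Cfsg.pLayer p ↥(Subgroup.centralizer ({a} : Set G))).map (Subgroup.centralizer ({a} : Set G)).subtype ⊓ Subgroup.centralizer ({b} : Set G)).subtype = (Cfsg.pLayer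 p ↥((Cfsg.pLayer p ↥(Subgroup.centralizer ({b} : Set G))).map (Subgroup.centralizer ({b} : Set G)).subtype ⊓ Subgroup.centralizer ({a} : Set G))).map ((Cfsg.pLayer p ↥(Subgroup.centralizer ({b} : Set G))).map (Subgroup.centralizer ({b} : Set G)).subtype ⊓ Subgroup.centralizer ({a} : Set G)).subtype := by
  open Subgroup PLocal in
  have key : ∀ a b : G, orderOf a = p → orderOf b = p → a * b = b * a → _ := fun a b ha hb hab =>
    (K.schQ_of_compK (K.compK_centralizer (hK _ (isPGroup_zpowers_of_orderOf_eq ha) (by
      rw [Ne, zpowers_eq_bot]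
      rintro rfl
      exact (Fact.out : p.Prime).ne_one (ha.symm.trans orderOf_one)))) p).pLayer_pLayer_inf
      (isPGroup_zpowers_of_orderOf_eq hb) (zpowers_le.2 (mem_centralizer_singleton_iff.2 hab.symm))
  have h1 := key a b ha hb hab
  have h2 := key b a hb ha hab.symm
  rw [Amb.centralizer_zpowers] at h1 h2
  rw [h1, h2, inf_comm]

end Cfsg.Agent.S1334
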