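import Cfsg.Statements.S1339
import Cfsg.Agent.PLocal.FStar

set_option autoImplicit false
open Cfsg

namespace Cfsg.Agent.S1339

/-- Let F be a field with 2 elements, n ≥ 3, and t ∈ SL(n, F) a transvection (t = 1 + E_{ij}, i ≠ j). Then the generalized Fitting subgroup of C(t) is O_2(C(t)). -/
theorem result {F : Type*} [Field F] [Fintype F] [DecidableEq F] (hF : Fintype.card F = 2) (n : ℕ) (hn : 3 ≤ n) (i j : Fin n) (hij : i ≠ j) (t : Matrix.SpecialLinearGroup (Fin n) F) (ht : (t : Matrix (Fin n) (Fin n) F) = Matrix.transvection i j 1) : Cfsg.generalizedFittingSubgroup ↥(Subgroup.centralizer ({t} : Set (Matrix.SpecialLinearGroup (Fin n) F))) = Cfsg.pCore 2 ↥(Subgroup.centralizer ({t} : Set (Matrix.SpecialLinearGroup (Fin n) F))) := by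
  classical
  haveI : Fact (Nat.Prime 2) := ⟨Nat.prime_two⟩
  have hF1 : ∀ x : F, x ≠ 0 → x = 1 := by
    intro x hx
    have := FiniteField.pow_card_sub_one_eq_one x hx
    rw [hF] at this; simpa using this
  have h2 : (2 : F) = 0 := by
    have := FiniteField.cast_card_eq_zero F
    rw [hF] at this; simpa using this
  set C := Subgroup.centralizer ({t} : Set (Matrix.SpecialLinearGroup (Fin n) F)) with hC
  -- commuting with a transvection
  have hcomm : ∀ (a : Fin n) (g s : Matrix.SpecialLinearGroup (Fin n) F),
      (s : Matrix (Fin n) (Fin n) F) = Matrix.transvection a j 1 → s * g = g * s →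
      ∀ b c, (g : Matrix (Fin n) (Fin n) F) b a * (if j = c then 1 else 0) =
        (if a = b then 1 else 0) * (g : Matrix (Fin n) (Fin n) F) j c := by
    intro a g s hs h b c
    have h1 := congrArg (fun x : Matrix.SpecialLinearGroup (Fin n) F => (x : Matrix (Fin n) (Fin n) F) b c) h
    simp only [Matrix.SpecialLinearGroup.coe_mul, hs, Matrix.transvection, add_mul, mul_add, one_mul,
      mul_one, Matrix.add_apply, add_right_inj] at h1
    by_cases hab : a = b <;> by_cases hjc : j = c
    · subst hab; subst hjc; simpa using h1.symm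
    · subst hab; simp [hjc]
      rw [Matrix.single_mul_apply_same, Matrix.mul_single_apply_of_ne _ _ _ _ _ (Ne.symm hjc)] at h1
      simpa using h1.symm
    · subst hjc; simp [hab]
      rw [Matrix.single_mul_apply_of_ne _ _ _ _ _ (Ne.symm hab), Matrix.mul_single_apply_same] at h1
      simpa using h1.symm
    · simp [hab, hjc]
  have hrow : ∀ g ∈ C, ∀ c, (g : Matrix (Fin n) (Fin n) F) j c = if j = c then 1 else 0 := by
    intro g hg
    have hg' : t * g = g * t := hg t rfl
    have h0 : ∀ c, j ≠ c → (g : Matrix (Fin n) (Fin n) F) j c = 0 := by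
      intro c hc
      have := hcomm i g t ht hg' i c
      simpa [hc] using this.symm
    intro c
    by_cases hc : j = c
    · subst hc
      simp only [if_true]
      apply hF1
      intro h
      have hd : (g : Matrix (Fin n) (Fin n) F).det = 0 := by
        apply Matrix.det_eq_zero_of_row_eq_zero j
        intro c
        by_cases hc : j = c
        · subst hc; exact h
        · exact h0 c hc
      rw [g.det_coe] at hd; exact one_ne_zero hd
    · simp [hc, h0 c hc]
  have hvj : ∀ g ∈ C, ∀ v : Fin n → F, ((g : Matrix (Fin n) (Fin n) F).mulVec v) j = v j := by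
    intro g hg v
    simp [Matrix.mulVec, dotProduct, hrow g hg]
  let A : Subgroup C :=
    { carrier := {g | ∀ v : Fin n → F, v j = 0 →
        ((g : Matrix.SpecialLinearGroup (Fin n) F) : Matrix (Fin n) (Fin n) F).mulVec v = v}
      one_mem' := by intro v _; simp
      mul_mem' := by
        intro g h hg hh v hv
        simp only [Subgroup.coe_mul, Matrix.SpecialLinearGroup.coe_mul, ← Matrix.mulVec_mulVec]
        rw [hh v hv, hg v hv]
      inv_mem' := by
        intro g hg v hv
        conv_lhs => rw [← hg v hv]
        rw [Matrix.mulVec_mulVec, ← Matrix.SpecialLinearGroup.coe_mul, ← Subgroup.coe_mul,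
          inv_mul_cancel]
        simp }
  haveI hAn : A.Normal := by
    constructor
    intro a ha g v hv
    simp only [Subgroup.coe_mul, Matrix.SpecialLinearGroup.coe_mul, ← Matrix.mulVec_mulVec]
    rw [ha _ (by rw [hvj _ (g⁻¹).2]; exact hv), Matrix.mulVec_mulVec,
      ← Matrix.SpecialLinearGroup.coe_mul, ← Subgroup.coe_mul, mul_inv_cancel]
    simp
  have hAp : IsPGroup 2 A := by
    rintro ⟨g, hg⟩
    refine ⟨1, ?_⟩
    apply Subtype.ext; apply Subtype.ext; apply Subtype.ext
    apply Matrix.mulVec_injective
    funext v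
    have h1 := hg (((g : Matrix.SpecialLinearGroup (Fin n) F) : Matrix (Fin n) (Fin n) F).mulVec v - v)
      (by simp [hvj _ g.2])
    rw [Matrix.mulVec_sub, sub_eq_iff_eq_add] at h1
    simp only [pow_one, pow_two, Subgroup.coe_mul, Matrix.SpecialLinearGroup.coe_mul,
      ← Matrix.mulVec_mulVec, h1, Subgroup.coe_one, Matrix.SpecialLinearGroup.coe_one, Matrix.one_mulVec]
    funext k
    simp only [Pi.add_apply, Pi.sub_apply]
    linear_combination (((g : Matrix.SpecialLinearGroup (Fin n) F) : Matrix (Fin n) (Fin n) F).mulVec v k - v k) * h2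
  have hAle : A ≤ pCore 2 C := Grp.le_pCore hAn hAp
  rw [PLocal.fstar_eq_pCore_iff]
  intro g hg
  apply hAle
  have hcol : ∀ a, a ≠ j → ∀ b, ((g : Matrix.SpecialLinearGroup (Fin n) F) : Matrix (Fin n) (Fin n) F) b a
      = if a = b then 1 else 0 := by
    intro a ha b
    obtain ⟨s, hs⟩ : ∃ s : Matrix.SpecialLinearGroup (Fin n) F,
        (s : Matrix (Fin n) (Fin n) F) = Matrix.transvection a j 1 :=
      ⟨⟨Matrix.transvection a j 1, Matrix.det_transvection_of_ne a j ha 1⟩, rfl⟩
    have hsC : s ∈ C := by
      rintro _ rfl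
      apply Subtype.ext
      simp only [Matrix.SpecialLinearGroup.coe_mul, ht, hs, Matrix.transvection, add_mul, mul_add, one_mul,
        mul_one]
      rw [Matrix.single_mul_single_of_ne _ _ _ _ (Ne.symm ha), Matrix.single_mul_single_of_ne _ _ _ _ (Ne.symm hij)]
      abel
    have hsA : (⟨s, hsC⟩ : C) ∈ A := by
      intro v hv
      show (s : Matrix (Fin n) (Fin n) F).mulVec v = v
      rw [hs, Matrix.transvection, Matrix.add_mulVec, Matrix.one_mulVec, Matrix.single_mulVec]
      simp [hv]
    have hc := hg _ (hAle hsA)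
    have hc' : s * g = g * s := congrArg Subtype.val hc
    have := hcomm a g s hs hc' b j
    simpa [hrow _ g.2] using this
  intro v hv
  funext b
  simp only [Matrix.mulVec, dotProduct]
  rw [Finset.sum_eq_single b]
  · by_cases hb : b = j
    · subst hb; simp [hv]
    · simp [hcol b hb]
  · intro c _ hc
    by_cases hcj : c = j
    · subst hcj; simp [hv]
    · simp [hcol c hcj, hc]
  · simp

end Cfsg.Agent.S1339
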