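import Cfsg.Statements.S1340
import Cfsg.Agent.KSG.HypBlock
import Cfsg.Agent.Grp.Cores

set_option autoImplicit false
open Cfsg

namespace Cfsg.Agent.S1340

open KSG.Hyp Subgroup in
/-- Let F be a finite field of odd order and n ≥ 3 with (n, |F|) ≠ (3, 3). Then GL(n, F) has a non-central involution t such that C(t) / O(C(t)) has a component. -/
theorem result {F : Type*} [Field F] [Fintype F] [DecidableEq F] (hF : Odd (Fintype.card F)) (n : ℕ) (hn : 3 ≤ n) (h33 : ¬ (n = 3 ∧ Fintype.card F = 3)) : ∃ t : Matrix.GeneralLinearGroup (Fin n) F, orderOf t = 2 ∧ t ∉ Subgroup.center (Matrix.GeneralLinearGroup (Fin n) F) ∧ Cfsg.HasComponent (↥(Subgroup.centralizer ({t} : Set (Matrix.GeneralLinearGroup (Fin n) F))) ⧸ Cfsg.oddCore ↥(Subgroup.centralizer ({t} : Set (Matrix.GeneralLinearGroup (Fin n) F)))) := by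
  obtain ⟨m, rfl⟩ : ∃ m, n = m + 1 := ⟨n - 1, by omega⟩
  have h2 : (1 : F) ≠ -1 := by
    intro h
    have h2 : (2 : F) = 0 := by linear_combination h
    have hc : ringChar F = 2 := CharP.ringChar_of_prime_eq_zero Nat.prime_two (by simpa using h2)
    have := FiniteField.even_card_of_char_two hc
    rcases hF with ⟨k, hk⟩; omega
  haveI : Fact (Nat.Prime 2) := ⟨Nat.prime_two⟩
  let d : Matrix (Fin (m + 1)) (Fin (m + 1)) F := Matrix.diagonal fun i => if i = Fin.last m then -1 else 1
  have hdd : d * d = 1 := by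
    rw [Matrix.diagonal_mul_diagonal, ← Matrix.diagonal_one]
    congr 1; funext i; split_ifs <;> simp
  let t : Matrix.GeneralLinearGroup (Fin (m + 1)) F := ⟨d, d, hdd, hdd⟩
  set C := centralizer ({t} : Set (Matrix.GeneralLinearGroup (Fin (m + 1)) F)) with hC
  have hoff : ∀ g ∈ C, ∀ j : Fin m, (g : Matrix (Fin (m + 1)) (Fin (m + 1)) F) (Fin.last m) j.castSucc = 0 ∧
      (g : Matrix (Fin (m + 1)) (Fin (m + 1)) F) j.castSucc (Fin.last m) = 0 := by
    intro g hg
    have h1 : d * g = g * d := congrArg Units.val (hg t rfl)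
    exact off_of_commute (by simpa using fun _ => h2) h1
  let z : Fin m := ⟨0, by omega⟩
  have hnc : t ∉ center (Matrix.GeneralLinearGroup (Fin (m + 1)) F) := by
    intro h
    have := (hoff (Matrix.SpecialLinearGroup.toGL ⟨Matrix.transvection (Fin.last m) z.castSucc 1,
      Matrix.det_transvection_of_ne _ _ (Fin.castSucc_ne_last z).symm 1⟩)
      (mem_centralizer_singleton_iff.2 (mem_center_iff.1 h _)) z).1
    change Matrix.transvection (Fin.last m) z.castSucc (1 : F) (Fin.last m) z.castSucc = 0 at this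
    simp [Matrix.transvection, Matrix.one_apply, (Fin.castSucc_ne_last z).symm] at this
  refine ⟨t, orderOf_eq_prime (Units.ext (by rw [pow_two]; exact hdd))
    (fun h => hnc (h ▸ one_mem _)), hnc, ?_⟩
  let χ : C →* F :=
    { toFun := fun g => (g.1 : Matrix (Fin (m + 1)) (Fin (m + 1)) F) (Fin.last m) (Fin.last m)
      map_one' := by simp
      map_mul' := fun g h => ll_mul fun j => (hoff g g.2 j).1 }
  let φ := (Matrix.SpecialLinearGroup.toGL).comp (blkSL (F := F) (m := m))
  have hφ : Function.Injective φ := Matrix.SpecialLinearGroup.toGL_injective.comp blkSL_injective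
  let L := φ.range
  have hLC : L ≤ C := by
    rintro _ ⟨A, rfl⟩ _ rfl
    apply Units.ext
    change d * blk A.1 = blk A.1 * d
    ext i j
    simp only [d, Matrix.diagonal_mul, Matrix.mul_diagonal]
    induction i using Fin.lastCases <;> induction j using Fin.lastCases <;>
      simp [blk_lc, blk_cl, mul_comm]
  have hker : L.subgroupOf C = χ.toHomUnits.ker ⊓ (Matrix.GeneralLinearGroup.det.comp C.subtype).ker := by
    ext g
    rw [mem_subgroupOf, mem_inf, MonoidHom.mem_ker, MonoidHom.mem_ker, Units.ext_iff, Units.ext_iff]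
    constructor
    · rintro ⟨A, hA⟩
      constructor
      · change (g.1 : Matrix (Fin (m + 1)) (Fin (m + 1)) F) _ _ = 1
        rw [← hA]; exact blk_ll _
      · change (g.1 : Matrix (Fin (m + 1)) (Fin (m + 1)) F).det = 1
        rw [← hA]; exact (blkSL A).2
    · rintro ⟨h, hd⟩
      have h1 := eq_blk (fun j => (hoff g g.2 j).1) (fun j => (hoff g g.2 j).2) h
      refine ⟨⟨_, ?_⟩, Units.ext h1.symm⟩
      exact (det_blk _).symm.trans ((congrArg Matrix.det h1).symm.trans hd)
  have hp : commutator (Matrix.SpecialLinearGroup (Fin m) F) = ⊤ := by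
    by_cases hm : m = 2
    · subst hm
      have h4 : 4 ≤ Nat.card F := by
        have := Fintype.one_lt_card (α := F)
        rw [Nat.card_eq_fintype_card]
        rcases hF with ⟨k, hk⟩; omega
      obtain ⟨x, hx⟩ : IsCyclic Fˣ := inferInstance
      refine Matrix.SL2.commutator_eq_top (Units.ne_zero x) fun h => ?_
      have h1 := orderOf_le_of_pow_eq_one (x := x) two_pos (Units.ext (by simpa using h))
      rw [orderOf_eq_card_of_forall_mem_zpowers hx] at h1
      have := Nat.card_eq_card_units_add_one F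
      omega
    · exact Class.SL_commutator_eq_top (by simp; omega)
  haveI : Nontrivial (Fin m) := Fin.nontrivial_iff_two_le.2 (by omega)
  have hq : IsQuasisimple L :=
    PLocal.qs_congr ⟨⟨hp⟩, Class.PSL_isSimpleGroup_of_perfect hp⟩ (MonoidHom.ofInjective hφ)
  have hn : (L.subgroupOf C).Normal := by rw [hker]; infer_instance
  refine ⟨(L.subgroupOf C).map (QuotientGroup.mk' _),
    (hn.map _ (QuotientGroup.mk'_surjective _)).isSubnormal,
    PLocal.qsS_map ((PLocal.qsS_subgroupOf_iff hLC).2 hq) _ ?_⟩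
  rw [Ne, Subgroup.map_eq_bot_iff, QuotientGroup.ker_mk']
  intro hle
  obtain ⟨i, j, hij⟩ := exists_pair_ne (Fin m)
  let s : Matrix.SpecialLinearGroup (Fin m) F := Matrix.SpecialLinearGroup.diag2n hij (-1) (by simp)
  have hs : orderOf s = 2 := by
    refine orderOf_eq_prime (Subtype.ext ?_) fun h => ?_
    · rw [pow_two, Matrix.SpecialLinearGroup.coe_mul, Matrix.SpecialLinearGroup.diag2n_coe, Matrix.diagonal_mul_diagonal,
        Matrix.SpecialLinearGroup.coe_one, ← Matrix.diagonal_one]
      congr 1; funext k; split_ifs <;> simp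
    · have := congrFun (congrFun (congrArg Subtype.val h) i) i
      rw [Matrix.SpecialLinearGroup.diag2n_coe] at this
      simp only [Matrix.diagonal_apply_eq, if_true, Matrix.SpecialLinearGroup.coe_one,
        Matrix.one_apply_eq] at this
      exact h2 this.symm
  have h3 := orderOf_dvd_natCard _ (hle (show (⟨φ s, hLC ⟨s, rfl⟩⟩ : C) ∈ L.subgroupOf C from ⟨s, rfl⟩))
  rw [← Subgroup.orderOf_coe, orderOf_injective φ hφ, hs] at h3
  exact Grp.not_dvd_card_pPrimeCore 2 _ h3

end Cfsg.Agent.S1340
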