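import Mathlib
import Cfsg.Statements.S1346
import Cfsg.Agent.K.CoreBal
import Cfsg.Agent.S1301
-- import your own Cfsg.Agent.* helpers here

set_option autoImplicit false
open Cfsg

namespace Cfsg.Agent.S1346

/-- Let G be a finite group all of whose 2-local subgroups have known non-abelian composition factors, and x, y commuting involutions. Then the extended 2-layer of L*_{2'}(C_G(x)) ∩ C_G(y) (as a group) is contained in L*_{2'}(C_G(y)). -/
theorem result {G : Type*} [Group G] [Finite G] (hK : ∀ T : Subgroup G, IsPGroup 2 ↥T → T ≠ ⊥ → Cfsg.IsCompositionKGroup ↥(Subgroup.normalizer (T : Set G))) (x y : G) (hx : orderOf x = 2) (hy : orderOf y = 2) (hxy : x * y = y * x) : (Cfsg.extendedTwoLayer ↥((Cfsg.extendedTwoLayer ↥(Subgroup.centralizer ({x} : Set G))).map (Subgroup.centralizer ({x} : Set G)).subtype ⊓ Subgroup.centralizer ({y} : Set G))).map ((Cfsg.extendedTwoLayer ↥(Subgroup.centralizer ({x} : Set G))).map (Subgroup.centralizer ({x} : Set G)).subtype ⊓ Subgroup.centralizer ({y} : Set G)).subtype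 ≤ (Cfsg.extendedTwoLayer ↥(Subgroup.centralizer ({y} : Set G))).map (Subgroup.centralizer ({y} : Set G)).subtype := by
  open Subgroup PLocal PLocal.Amb in
  set H := centralizer ({y} : Set G)
  set Y := (extendedTwoLayer (centralizer ({x} : Set G))).map (centralizer ({x} : Set G)).subtype ⊓ H
  have hxH : zpowers x ≤ H := zpowers_le.2 (mem_centralizer_singleton_iff.2 hxy)
  have hx2 : IsPGroup 2 (zpowers x) := isPGroup_zpowers_of_orderOf_eq hx
  have hY : Y ≤ H ⊓ 𝐂[zpowers x] := by
    rw [Amb.centralizer_zpowers]; exact le_inf inf_le_right (inf_le_left.trans (map_subtype_le _))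
  have hn : H ⊓ 𝐂[zpowers x] ≤ 𝐍[Y] := by
    rw [Amb.centralizer_zpowers]
    exact le_normalizer_inf (inf_le_right.trans (le_normalizer_map_subtype _))
      (inf_le_left.trans le_normalizer)
  have key : ∀ R X : Subgroup G, R ≤ H → IsPGroup 2 R → (Nat.card X).Coprime 2 → X ≤ H ⊓ 𝐂[R] →
      H ⊓ 𝐂[R] ≤ 𝐍[X] → X ≤ (extendedTwoLayer H).map H.subtype := fun R X h1 h2 h3 h4 h5 =>
    (K.le_map_coreCent h1 h3 h4 h5).trans
      (map_mono (K.coreCent_le_extendedTwoLayer (Amb.isPGroup_subgroupOf h2 H)))
  obtain ⟨T, hT⟩ := exists_isSyl 2 (pLayer 2 Y ⊔ pPrimePCore 2 Y)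
  rw [extendedTwoLayer_eq hT, Subgroup.map_sup, Subgroup.map_sup]
  refine sup_le (sup_le ?_ ?_) ?_
  · refine (map_pLayer_mono_of_subnormal hY (normal_subgroupOf' hn).isSubnormal).trans ?_
    rw [K.map_pLayer_inf_centralizer hxH]
    exact map_mono ((S1301.result _ (Amb.isPGroup_subgroupOf hx2 H)).trans pLayer_le_extendedTwoLayer)
  · exact key _ _ hxH hx2 (Grp.map_pPrimeCore_coprime 2 _) ((map_subtype_le _).trans hY)
      (hn.trans (Grp.normalizer_le_normalizer_map_of_characteristic _ _))
  · have hTY : T.map Y.subtype ≤ Y := map_subtype_le _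
    have h1 : T.map Y.subtype ≤ 𝐂[zpowers x] := hTY.trans (hY.trans inf_le_right)
    rw [K.map_coreCent_subtype]
    refine key (T.map Y.subtype ⊔ zpowers x) _ (sup_le (hTY.trans inf_le_right) hxH)
      (isPGroup_sup (hT.pgrp.map _) hx2 (h1.trans (centralizer_le_normalizer' _)))
      (Grp.map_pPrimeCore_coprime 2 _) ((map_subtype_le _).trans ?_) ?_
    · rw [Amb.centralizer_sup]
      exact le_inf (inf_le_left.trans inf_le_right)
        (le_inf inf_le_right (inf_le_left.trans (hY.trans inf_le_right)))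
    · rw [Amb.centralizer_sup]
      refine le_trans (le_normalizer_inf ((inf_le_inf_left _ inf_le_right).trans hn) ?_)
        (Grp.normalizer_le_normalizer_map_of_characteristic _ _)
      exact (inf_le_right.trans inf_le_left).trans le_normalizer

end Cfsg.Agent.S1346
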