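import Cfsg.Statements.S1458
import Mathlib
import Cfsg.Agent.PLocal.ZJ
import Cfsg.Agent.PLocal.PStable
import Cfsg.Agent.S0017

set_option autoImplicit false
open Cfsg

namespace Cfsg.Agent.S1458

/-- Let G be a solvable group of odd order, p a prime and S a Sylow p-subgroup of G. Then the subgroup generated by the centre of the Thompson subgroup of S and O_{p'}(G) is normal in G. -/
theorem result {G : Type*} [Group G] [Finite G] [Group.IsSolvable G] (hodd : Odd (Nat.card G)) (p : ℕ) [Fact p.Prime] (S : Sylow p G) :
    (Cfsg.centerThompsonOf p (S : Subgroup G) ⊔ Cfsg.pPrimeCore p G).Normal := by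
  by_cases hp : p = 2
  · subst hp
    have hS : (S : Subgroup G) = ⊥ := by
      obtain ⟨k, hk⟩ := IsPGroup.iff_card.1 S.isPGroup'
      rw [← Subgroup.card_eq_one]
      exact Nat.Coprime.eq_one_of_dvd (by rw [hk]; exact (Nat.coprime_two_left.2 hodd).pow_left k)
        (Subgroup.card_subgroup_dvd_card _)
    have : centerThompsonOf 2 (S : Subgroup G) = ⊥ :=
      eq_bot_iff.2 ((PLocal.centerThompsonOf_le _).trans hS.le)
    rw [this, bot_sup_eq]
    infer_instance
  let f := QuotientGroup.mk' (pPrimeCore p G)
  have hf : Function.Surjective f := QuotientGroup.mk'_surjective _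
  have hinj : Function.Injective (f.comp (S : Subgroup G).subtype) := by
    rw [injective_iff_map_eq_one]
    intro x hx
    have h1 : (x : G) ∈ pPrimeCore p G := (QuotientGroup.eq_one_iff _).1 hx
    have h2 := Grp.orderOf_coprime_of_mem_pPrimeCore h1
    obtain ⟨k, hk⟩ := IsPGroup.iff_orderOf.1 S.isPGroup' x
    rw [Subgroup.orderOf_coe, hk] at h2
    rw [← orderOf_eq_one_iff, hk]
    cases k with
    | zero => rfl
    | succ k =>
      exact absurd (Nat.Coprime.eq_one_of_dvd h2.symm (dvd_pow_self p k.succ_ne_zero))
        (Fact.out : p.Prime).ne_one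
  have e1 : (centerThompsonOf p (S : Subgroup G)).map f =
      centerThompsonOf p ((S : Subgroup G).map f) := by
    have a1 := PLocal.map_centerThompsonOf (p := p) (⊤ : Subgroup (S : Subgroup G))
      (S : Subgroup G).subtype_injective
    have a2 := PLocal.map_centerThompsonOf (p := p) (⊤ : Subgroup (S : Subgroup G)) hinj
    rw [← MonoidHom.range_eq_map, Subgroup.range_subtype] at a1
    rw [← MonoidHom.range_eq_map, MonoidHom.range_comp, Subgroup.range_subtype,
      ← Subgroup.map_map, a1] at a2
    exact a2
  have hn := PLocal.centerThompsonOf_normal (G := G ⧸ pPrimeCore p G) hp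
    (S0017.result p (Grp.pPrimeCore_quotient_pPrimeCore p G))
    (PLocal.stableOnNormal_of_isPStableOn fun P _ hP =>
      ((PLocal.transvFree_of_odd_card hp hodd).quotient _).isPStableOn P hP)
    (S.mapSurjective hf)
  have := hn.comap f
  rw [Sylow.coe_mapSurjective, ← e1, Subgroup.comap_map_eq, QuotientGroup.ker_mk'] at this
  exact this

end Cfsg.Agent.S1458
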