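import Cfsg.Statements.S1558
import Cfsg.Agent.Spor.M24Res

set_option autoImplicit false
open scoped Pointwise
open Cfsg

namespace Cfsg.Agent.S1558

open Cfsg.Agent.Spor Cfsg.Agent.Spor.M24C Cfsg.Agent.Comp
open scoped Pointwise
open Cfsg.Agent.Comp.T3

set_option maxRecDepth 100000

local notation "E" => T3.N T3.L T3.L T3.L

/-- Three tetrads. -/
def tt : Fin 3 → ℕ := ![1045, 1035, 147]
/-- Three code words dual to them. -/
def ww : Fin 3 → ℕ := ![9347075, 7221256, 2605066]

/-- The pairing of two sets. -/
def pr (a b : Finset GolayPt) : ZMod 2 := ((a ∩ b).card : ZMod 2)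

theorem pr_smul (g : M24) (a b : Finset GolayPt) : pr a (g • b) = pr (g⁻¹ • a) b := by
  rw [pr, pr, ← card_smul_inter g⁻¹, inv_smul_smul]

/-- The matrix of an element. -/
def fm (g : M24) : Matrix (Fin 3) (Fin 3) (ZMod 2) :=
  Matrix.of fun i j => pr (setOf' (ww i)) (g • setOf' (tt j))

/-- The span of the three tetrads modulo the code is invariant. -/
def Inv (g : M24) : Prop :=
  ∀ j, ∀ c ∈ codeSets, pr c (g • setOf' (tt j)) = ∑ l, pr c (setOf' (tt l)) * fm g l j

theorem pr_setOf' (a b : ℕ) : pr (setOf' a) (setOf' b) = (pop 24 (Nat.land a b) : ZMod 2) := by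
  rw [pr, ← setOf'_land, card_setOf']; rfl

theorem ww_mem (i : Fin 3) : setOf' (ww i) ∈ codeSets :=
  setOf'_mem_codeSets (by revert i; decide +kernel)

theorem fm_one : fm 1 = 1 := by
  ext i j
  simp only [fm, one_smul, Matrix.of_apply, pr_setOf', Matrix.one_apply]
  fin_cases i <;> fin_cases j <;> decide +kernel

theorem pr_mul {g h : M24} (hh : Inv h) (j : Fin 3) {c : Finset GolayPt} (hc : c ∈ codeSets) :
    pr c ((g * h) • setOf' (tt j)) = ∑ l, pr c (g • setOf' (tt l)) * fm h l j := by
  rw [mul_smul, pr_smul, hh j _ ((smul_mem_codeSets_iff _).2 hc)]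
  simp only [pr_smul]

theorem fm_mul (g : M24) {h : M24} (hh : Inv h) : fm (g * h) = fm g * fm h := by
  ext i j
  exact pr_mul hh j (ww_mem i)

/-- The elements leaving the span invariant. -/
def invSub : Submonoid M24 where
  carrier := {g | Inv g}
  one_mem' := fun j c _ => by simp [fm_one, Matrix.one_apply]
  mul_mem' := fun {g h} hg hh j c hc => by
    rw [pr_mul hh j hc, fm_mul g hh]
    simp only [hg _ c hc, Matrix.mul_apply, Finset.sum_mul, Finset.mul_sum, mul_assoc]
    exact Finset.sum_comm

/-- The elements leaving the span invariant, as a subgroup. -/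
def invGrp : Subgroup M24 where
  toSubmonoid := invSub
  inv_mem' := fun {g} hg => by
    have : g⁻¹ = g ^ (orderOf g - 1) := by
      rw [inv_eq_iff_mul_eq_one, ← pow_succ', Nat.sub_add_cancel (orderOf_pos g),
        pow_orderOf_eq_one]
    rw [this]
    exact invSub.pow_mem hg _

theorem fm_eq (g : M24) (i j : Fin 3) :
    fm g i j = (pop 24 (Nat.land (ww i) (imgC (code g) (tt j))) : ZMod 2) := by
  rw [fm, Matrix.of_apply, smul_setOf'_M, pr_setOf']

/-- Parity of the number of common points. -/
noncomputable def par (a b : ℕ) : ℕ := Nat.mod (pop 24 (Nat.land a b)) 2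

theorem cast_par (a b : ℕ) : (par a b : ZMod 2) = (pop 24 (Nat.land a b) : ZMod 2) :=
  ZMod.natCast_mod _ 2

/-- The check of invariance. -/
noncomputable def invOK (c : ℕ) (j : Fin 3) : Bool :=
  force (imgC c (tt j)) fun m => force (par (ww 0) m) fun a0 => force (par (ww 1) m) fun a1 =>
    force (par (ww 2) m) fun a2 => allB 4096 fun a => force (enc a) fun w =>
      Nat.beq (par w m) (Nat.mod (Nat.add (Nat.add (Nat.mul (par w (tt 0)) a0)
        (Nat.mul (par w (tt 1)) a1)) (Nat.mul (par w (tt 2)) a2)) 2)

theorem inv_of_ok {c : ℕ} (hc : okM c = true) (h : ∀ j, invOK c j = true) : InH invGrp c := by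
  refine inH_of_okM hc fun j => forall_codeSets fun a ha => ?_
  have := h j
  simp only [invOK, force_eq, allB_iff, beq_iff] at this
  have h1 := congrArg (Nat.cast (R := ZMod 2)) (this a ha)
  rw [mc_smul_setOf' hc, Fin.sum_univ_three]
  simp only [pr_setOf', fm_eq, code_mc hc, ← cast_par]
  rw [h1]
  refine (ZMod.natCast_mod _ 2).trans ?_
  simp

/-- Generators of the trio stabiliser. -/
def gt : List ℕ := [736477724676661134263152944470864199, 793530357707053394401824185266184363, 736477724676661134263152944470864199]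

theorem gen_gt : gen gt = MulAction.stabilizer M24 (famOf 3 tr0) := by
  refine gen_eq_of_card (fun c hc => ?_) ?_
  · have : and' (okM c) (fixF 3 c tr0) = true := by revert c; decide +kernel
    rw [and'_eq_true] at this
    exact inH_of_okM this.1 (mc_mem_stabilizer_fam this.1 this.2)
  · rw [card_stabilizer_trio tr0_mem]
    exact card_ge_of_slp (inH_gen (by decide +kernel)) [2049, 3, 4, 4, 5, 7, 7175, 8, 10, 11, 12, 5, 6, 7, 3, 9220, 10, 11, 7, 8, 9, 6150, 7, 8, 3, 4, 3077, 6, 7, 8, 4, 5, 2, 3, 8200, 5, 6, 11] 2196640 3 [[40, 39, 40], [32, 27], [23, 17], [12, 8], [4, 0]] (by decide +kernel)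

theorem inv_of_stab : MulAction.stabilizer M24 (famOf 3 tr0) ≤ invGrp := by
  rw [← gen_gt]
  refine gen_le fun c hc => inv_of_ok ?_ ?_ <;> revert c <;> decide +kernel

/-- The matrix as a homomorphism. -/
def fH : MulAction.stabilizer M24 (famOf 3 tr0) →* Matrix (Fin 3) (Fin 3) (ZMod 2) where
  toFun g := fm g
  map_one' := fm_one
  map_mul' a b := fm_mul a (inv_of_stab b.2)

/-- The action on the span and on the three octads. -/
noncomputable def F : MulAction.stabilizer M24 (famOf 3 tr0) →*
    GL (Fin 3) (ZMod 2) × Equiv.Perm (famOf 3 tr0) :=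
  fH.toHomUnits.prod (resHom M24 (famOf 3 tr0))

theorem o0_mem_tr0 : setOf' 5279 ∈ famOf 3 tr0 :=
  (setOf'_mem_famOf_iff (by norm_num)).2 ⟨0, by norm_num, by decide +kernel⟩

theorem o1_mem_tr0 : setOf' 8077824 ∈ famOf 3 tr0 :=
  (setOf'_mem_famOf_iff (by norm_num)).2 ⟨1, by norm_num, by decide +kernel⟩

/-- A key of the image. -/
noncomputable def kap (x : GL (Fin 3) (ZMod 2) × Equiv.Perm (famOf 3 tr0)) : ℕ :=
  1 * (x.1.1 0 0).val + 2 * (x.1.1 0 1).val + 4 * (x.1.1 0 2).val + 8 * (x.1.1 1 0).val + 16 * (x.1.1 1 1).val + 32 * (x.1.1 1 2).val + 64 * (x.1.1 2 0).val + 128 * (x.1.1 2 1).val + 256 * (x.1.1 2 2).val +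
    512 * (maskOf (x.2 ⟨_, o0_mem_tr0⟩) + 16777216 * maskOf (x.2 ⟨_, o1_mem_tr0⟩))

/-- The key from a code. -/
noncomputable def kapC (c : ℕ) : ℕ :=
  force (imgC c (tt 0)) fun m0 => force (imgC c (tt 1)) fun m1 => force (imgC c (tt 2)) fun m2 =>
  1 * par (ww 0) m0 + 2 * par (ww 0) m1 + 4 * par (ww 0) m2 + 8 * par (ww 1) m0 + 16 * par (ww 1) m1 + 32 * par (ww 1) m2 + 64 * par (ww 2) m0 + 128 * par (ww 2) m1 + 256 * par (ww 2) m2 +
    512 * (imgC c 5279 + 16777216 * imgC c 8077824)

theorem kap_F (g : MulAction.stabilizer M24 (famOf 3 tr0)) : kap (F g) = kapC (code (g : M24)) := by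
  have h1 : ∀ i j, ((F g).1.1 i j).val = par (ww i) (imgC (code (g : M24)) (tt j)) := by
    intro i j
    change (fm g i j).val = _
    rw [fm_eq, ZMod.val_natCast]; rfl
  have h2 : ∀ (m : ℕ) (hm : setOf' m ∈ famOf 3 tr0),
      maskOf ((F g).2 ⟨_, hm⟩) = imgC (code (g : M24)) m := fun m hm => maskOf_smul_setOf' _ m
  simp only [kap, kapC, force_eq, h1, h2]

theorem card_target : Nat.card (GL (Fin 3) (ZMod 2) × Equiv.Perm (famOf 3 tr0)) = 1008 := by
  rw [Nat.card_prod, Matrix.card_GL_field, Nat.card_perm, Nat.card_eq_fintype_card (α := famOf 3 tr0),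
    Fintype.card_coe, tr0_mem.1]
  simp [Fin.prod_univ_three, Nat.factorial]

open Classical in
theorem F_surj : Function.Surjective F := by
  have hok : ∀ c ∈ gt, okM c = true := by decide +kernel
  have hm : ∀ c ∈ gt, mc c ∈ MulAction.stabilizer M24 (famOf 3 tr0) := fun c hc => by
    rw [← gen_gt]; exact (inH_gen (by decide +kernel) c hc).mc_mem
  have h1 := T3.nHash_le_ncard (f0 := mulC 736477724676661134263152944470864199) (f1 := mulC 793530357707053394401824185266184363)
    (f2 := mulC 736477724676661134263152944470864199)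
    (fun y => if h : mc y ∈ MulAction.stabilizer M24 (famOf 3 tr0) then F ⟨mc y, h⟩ else 1)
    (fun x => (hsh 0x13a0000009400860017000600020033000000230016002a000000260007000100360028001d0008001c0031000c0000003300cf004b003b007b002402470000000a00a3001e0007000600000017003b00af003e002f000000140065001e00b00001001800120001000600e4013e000400010076005f0000000f0016003d00050000007a0035002f00d000020002000100bb0011000200010005000000020029000500000004004a003f0002000000120004003000010000007f000000020001000500000000003b00010054000000080011005f0000002a000401150007001f00f900000000000000000000000b0019001f000c0000000d000300ad000e00030000002400630002000000020080007d000b0068002e000c008500070001002800000000002c0024001600010001002e0001006c0002004600110001000c001e000000780000001a003a0019000100030000003c0009001c000103b5000200060020002a000100030011000e00ad000100010055001f0022000400090039000a0002002e007b00a6000000af00000000005a000700e600030039000100000004006200000088004700000071006b0001002300040000000900010001000000020000000a0000000200ed004700000000000700a700590008007b000100170005000c007100b400010009000000000001000700ce000200070001010f00de0011000100080004008f000f00690003004d000000bc00170166000000090005002000260056005400850004000a0000001000350004000c00030172002600040001000d0039000000be000b000b00b6006b0001010000500083006c002b006300000014004a0000005a000f0018000d000e0010005400fb000b00090082014c00000012001d000300460000000200b5001d0022001c004a002800330040008700120004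 337 1362209 1024) (kap x)) (fun y => (hsh 0x13a0000009400860017000600020033000000230016002a000000260007000100360028001d0008001c0031000c0000003300cf004b003b007b002402470000000a00a3001e0007000600000017003b00af003e002f000000140065001e00b00001001800120001000600e4013e000400010076005f0000000f0016003d00050000007a0035002f00d000020002000100bb0011000200010005000000020029000500000004004a003f0002000000120004003000010000007f000000020001000500000000003b00010054000000080011005f0000002a000401150007001f00f900000000000000000000000b0019001f000c0000000d000300ad000e00030000002400630002000000020080007d000b0068002e000c008500070001002800000000002c0024001600010001002e0001006c0002004600110001000c001e000000780000001a003a0019000100030000003c0009001c000103b5000200060020002a000100030011000e00ad000100010055001f0022000400090039000a0002002e007b00a6000000af00000000005a000700e600030039000100000004006200000088004700000071006b0001002300040000000900010001000000020000000a0000000200ed004700000000000700a700590008007b000100170005000c007100b400010009000000000001000700ce000200070001010f00de0011000100080004008f000f00690003004d000000bc00170166000000090005002000260056005400850004000a0000001000350004000c00030172002600040001000d0039000000be000b000b00b6006b0001010000500083006c002b006300000014004a0000005a000f0018000d000e0010005400fb000b00090082014c00000012001d000300460000000200b5001d0022001c004a002800330040008700120004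 337 1362209 1024) (kapC y)) 10
    (N (N (N (N (N (N (N (N (N E L L) L L) (N (N (N L (N L (N L E L) L) L) L L) (N E L L) L) L) (N (N (N (N (N L (N L E L) L) E L) (N L (N E E L) L) L) L L) (N E (N (N (N (N E L L) E L) L L) (N (N (N L E L) L L) L L) L) L) L) L) (N (N (N (N (N (N L (N (N E L L) L L) L) (N L E L) L) (N (N L (N L E L) L) (N (N E E L) E L) L) L) (N (N L (N L E L) L) (N E E L) L) L) L L) (N (N (N (N (N L (N L (N L E L) L) L) L L) (N E (N (N E L L) L L) L) L) (N (N (N L (N L E L) L) E L) L L) L) (N (N (N (N (N E L L) L L) E L) (N (N L E L) L L) L) (N (N (N L E L) (N L (N L E L) L) L) E L) L) L) L) L) (N (N (N (N (N (N L (N (N E L L) (N E L L) L) L) (N L (N L (N L E L) L) L) L) (N (N L (N E E L) L) (N (N (N (N L E L) L L) E L) E L) L) L) (N (N L (N L (N L E L) L) L) (N (N (N E L L) (N E L L) L) E L) L) L) (N (N (N (N L (N (N E L L) L L) L) E L) (N E (N L (N E (N E L L) L) L) L) L) E L) L) (N (N (N (N (N L (N L (N E E L) L) L) E L) (N (N L (N (N E L L) L L) L) (N (N E L L) (N (N E L L) L L) L) L) L) (N (N (N E (N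 L (N E L L) L) L) (N E L L) L) L L) L) (N (N (N (N (N E L L) L L) (N L (N E L L) L) L) (N (N L E L) (N L (N E E L) L) L) L) (N (N (N (N L E L) E L) (N (N L E L) (N L E L) L) L) (N (N E (N L (N L E L) L) L) L L) L) L) L) L) L) (N (N (N (N (N (N (N L (N L E L) L) (N (N (N (N E L L) L L) L L) (N E L L) L) L) (N L (N (N L (N (N L E L) L L) L) (N E (N E L L) L) L) L) L) (N (N L (N E E L) L) (N (N (N (N L E L) L L) (N (N E L L) L L) L) (N L (N (N (N L E L) L L) L L) L) L) L) L) (N (N L (N (N L (N E L L) L) (N L (N E L L) L) L) L) (N (N (N (N (N L E L) E L) (N L E L) L) (N E L L) L) (N (N (N (N E L L) (N L E L) L) L L) L L) L) L) L) (N (N (N (N L (N (N E L L) L L) L) (N L (N (N (N E L L) L L) E L) L) L) (N E (N L (N E (N E L L) L) L) L) L) (N L (N (N E L L) L L) L) L) L) (N (N (N (N (N L (N L (N E E L) L) L) E L) (N (N L (N (N E L L) L L) L) (N (N (N (N E L L) (N E L L) L) L L) (N (N (N L E L) L L) L L) L) L) L) (N (N (N (N L (N L (N E E L) L) L) (N L (N E L L) L) L) (N E L L) L) L L) L) (N (N (N (N (N E L L) L L) (N L (N (N (N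 E E L) L L) L L) L) L) (N (N (N L (N L E L) L) E L) (N L (N (N E L L) E L) L) L) L) (N (N (N (N (N E L L) E L) (N L E L) L) (N (N L E L) (N L (N E (N L E L) L) L) L) L) (N (N (N E L L) (N L (N L (N L E L) L) L) L) L L) L) L) L) L) L) (N (N (N (N (N (N (N L (N L E L) L) (N (N (N (N E L L) L L) L L) (N E L L) L) L) (N L (N (N L (N (N L E L) L L) L) (N E (N (N L (N L E L) L) L L) L) L) L) L) (N (N (N (N (N L E L) (N E (N L E L) L) L) L L) (N E E L) L) (N (N (N (N L E L) (N L E L) L) (N (N E E L) L L) L) (N L (N (N (N L E L) L L) L L) L) L) L) L) (N (N L (N (N (N E (N L (N L E L) L) L) (N E L L) L) (N L (N (N E L L) L L) L) L) L) (N (N (N (N (N L E L) E L) (N L (N (N E L L) E L) L) L) (N (N (N L E L) L L) L L) L) (N (N (N (N E L L) (N L (N (N E L L) L L) L) L) L L) L L) L) L) L) (N (N (N (N L (N (N E L L) (N (N (N L E L) L L) (N L E L) L) L) L) (N L (N (N (N (N L E L) L L) L L) E L) L) L) (N E (N L (N E (N (N (N L E L) L L) L L) L) L) L) L) (N L (N (N (N (N L E L) L L) L L) (N (N (N L E L) L L) L L) L) L) L) L) (N (N (N (N (N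 (N E (N (N (N (N L E L) L L) L L) (N E L L) L) L) (N L (N E (N L (N L E L) L) L) L) L) E L) (N (N L (N (N E L L) E L) L) (N (N (N (N E E L) (N E L L) L) L L) (N (N (N E E L) L L) E L) L) L) L) (N (N (N (N L (N L (N E E L) L) L) (N L (N E E L) L) L) (N E L L) L) L L) L) (N (N (N (N (N E (N L (N L E L) L) L) E L) (N L (N (N (N E (N L E L) L) L L) L L) L) L) (N (N (N L (N L (N L E L) L) L) E L) (N L (N (N (N (N L E L) L L) L L) (N L (N E L L) L) L) L) L) L) (N (N (N (N (N E (N L E L) L) E L) (N L (N E (N L E L) L) L) L) (N (N L E L) (N L (N E (N L (N E L L) L) L) L) L) L) (N (N (N E L L) (N L (N L (N E E L) L) L) L) (N E L L) L) L) L) L) L) L) (N (N (N (N (N (N (N L (N (N E L L) E L) L) (N (N (N (N E E L) L L) L L) (N E L L) L) L) (N L (N (N L (N (N L E L) L L) L) (N (N L (N (N L E L) L L) L) (N (N L (N L E L) L) E L) L) L) L) L) (N (N (N (N (N (N L (N L E L) L) E L) (N (N L (N L E L) L) (N L E L) L) L) L L) (N E E L) L) (N (N (N (N L E L) (N L (N E L L) L) L) (N (N (N E L L) E L) L L) L) (N L (N (N (N E E L) L L) L L) L) L)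 L) L) (N (N L (N (N (N E (N L (N L E L) L) L) (N E L L) L) (N L (N (N E L L) L L) L) L) L) (N (N (N (N (N L E L) E L) (N (N L E L) (N (N E L L) (N (N E L L) L L) L) L) L) (N (N (N (N L (N L E L) L) E L) L L) L L) L) (N (N (N (N E L L) (N L (N (N E L L) L L) L) L) L L) (N (N (N (N (N E L L) E L) E L) (N (N L E L) E L) L) L L) L) L) L) L) (N (N (N (N L (N (N E L L) (N (N (N L E L) L L) (N L (N (N E L L) L L) L) L) L) L) (N L (N (N (N (N L E L) (N L (N L E L) L) L) L L) E L) L) L) (N E (N L (N E (N (N (N L E L) L L) L L) L) L) L) L) (N L (N (N (N (N L E L) L L) L L) (N (N (N L (N L (N L E L) L) L) L L) (N (N L E L) L L) L) L) L) L) L) (N (N (N (N (N (N (N L (N (N E L L) E L) L) (N (N (N (N L E L) L L) L L) (N E L L) L) L) (N L (N E (N (N L (N (N L E L) L L) L) (N E E L) L) L) L) L) E L) (N (N L (N (N (N L (N L (N L E L) L) L) L L) (N L (N (N E L L) L L) L) L) L) (N (N (N (N (N L E L) E L) (N (N L E L) (N L (N E L L) L) L) L) L L) (N (N (N E E L) L L) E L) L) L) L) (N (N (N (N L (N L (N E E L) L) L) (N L (N E E L) L) L) (N E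 L L) L) (N L (N (N (N (N L E L) L L) L L) (N L (N E L L) L) L) L) L) L) (N (N (N (N (N E (N L (N E (N (N L E L) L L) L) L) L) E L) (N L (N (N (N E (N (N L E L) E L) L) L L) (N L E L) L) L) L) (N (N (N L (N L (N L E L) L) L) E L) (N L (N (N (N (N L E L) L L) L L) (N L (N E L L) L) L) L) L) L) (N (N (N (N (N E (N L (N E L L) L) L) E L) (N L (N E (N L E L) L) L) L) (N (N L E L) (N L (N (N E L L) (N L (N E L L) L) L) L) L) L) (N (N (N (N (N L (N L (N E L L) L) L) L L) L L) (N L (N L (N E E L) L) L) L) (N E L L) L) L) L) L) L) L) oneC (S := Set.range F) (Set.toFinite _) (fun y hy => by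
      obtain ⟨g, hg, rfl⟩ := mul_mem_list _ (hok _ (by decide)) (hok _ (by decide))
        (hok _ (by decide)) (hm _ (by decide)) (hm _ (by decide)) (hm _ (by decide)) _ y hy
      simp only [mc_code, dif_pos hg, kap_F]
      exact ⟨⟨_, rfl⟩, trivial⟩)
  rw [← Set.range_eq_univ]
  refine Set.eq_of_subset_of_ncard_le (Set.subset_univ _) ?_ (Set.toFinite _)
  rw [Set.ncard_univ, card_target]
  exact le_trans (le_of_eq (by decide +kernel)) h1

theorem card_ker : Nat.card F.ker = 64 := by
  have h1 := Subgroup.index_mul_card F.ker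
  rw [Subgroup.index_ker, MonoidHom.range_eq_top.2 F_surj, Subgroup.card_top, card_target,
    card_stabilizer_trio tr0_mem] at h1
  omega

/-- Generators of the kernel. -/
def gl : List ℕ := [561475773312554808336860583768983584, 268195153026948482477577069584812064, 479663310730678034207776437455390752, 274484007681004507263912207828716679, 351271897811254358726229211268259139, 635596849821031638906401332688924673]

theorem ker_sq (x : MulAction.stabilizer M24 (famOf 3 tr0)) (hx : x ∈ F.ker) : x * x = 1 := by
  have h1 : gen gl = F.ker.map (Subgroup.subtype _) := by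
    refine gen_eq_of_card (fun c hc => ?_) ?_
    · have h : okM c = true ∧ (∀ j < 3, imgC c (mem24 tr0 j) = mem24 tr0 j) ∧
          (∀ i j, par (ww i) (imgC c (tt j)) = if i = j then 1 else 0) ∧ fixF 3 c tr0 = true := by
        revert c; decide +kernel
      refine inH_of_okM h.1 ⟨⟨mc c, mc_mem_stabilizer_fam h.1 h.2.2.2⟩, ?_, rfl⟩
      refine Prod.ext (Units.ext ?_) ((mem_ker_resHom _ _).2 (forall_mem_famOf.2 fun j hj => ?_))
      · ext i j
        change fm (mc c) i j = _
        rw [fm_eq, code_mc h.1, ← cast_par, h.2.2.1 i j]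
        simp [Matrix.one_apply]
      · change mc c • _ = _
        rw [mc_smul_setOf' h.1, h.2.1 j hj]
    · rw [Subgroup.card_subtype, card_ker]
      exact card_ge_of_slp (inH_gen (by decide +kernel)) [1027, 1026, 6, 3077, 9] 5 1 [[5, 6, 7], [4, 2, 0]] (by decide +kernel)
  exact Subtype.ext (mul_self_of_mem_gen (l := gl) (by decide +kernel) _
    (h1 ▸ Subgroup.mem_map_of_mem _ hx))

/-- Structure of a trio stabiliser: every permutation of the three octads is induced, and there is a normal subgroup of order 64 of elements squaring to the identity whose quotient is isomorphic to the product of GL(3, 2) with the symmetric group of degree 3. -/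
theorem result (T : Finset (Finset Cfsg.GolayPt)) (hT : T ∈ Cfsg.trios) : (∀ e : Equiv.Perm ↥T, ∃ g ∈ MulAction.stabilizer Cfsg.M24 T, ∀ o : ↥T, (g : Equiv.Perm Cfsg.GolayPt) • (o : Finset Cfsg.GolayPt) = ((e o : ↥T) : Finset Cfsg.GolayPt)) ∧ ∃ (N : Subgroup ↥(MulAction.stabilizer Cfsg.M24 T)) (_ : N.Normal), Nat.card N = 64 ∧ (∀ x ∈ N, x * x = 1) ∧ Nonempty (↥(MulAction.stabilizer Cfsg.M24 T) ⧸ N ≃* GL (Fin 3) (ZMod 2) × Equiv.Perm (Fin 3)) := by
  obtain ⟨k, rfl⟩ := exists_smul_trio tr0_mem hT
  have hs : Function.Surjective (resHom M24 (famOf 3 tr0)) := fun e => by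
    obtain ⟨g, hg⟩ := F_surj (1, e)
    exact ⟨g, congrArg Prod.snd hg⟩
  refine ⟨fun e => ?_, ?_⟩
  · obtain ⟨g, hg⟩ := resHom_surjective_smul hs k e
    exact ⟨g, g.2, fun t => by rw [← hg]; rfl⟩
  · let c := conjEquiv k fun g => mem_stabilizer_smul_iff k g (famOf 3 tr0)
    let e : (GL (Fin 3) (ZMod 2) × Equiv.Perm (famOf 3 tr0)) ≃*
        (GL (Fin 3) (ZMod 2) × Equiv.Perm (Fin 3)) :=
      (MulEquiv.refl _).prodCongr ((famOf 3 tr0).equivFinOfCardEq tr0_mem.1).permCongrHom
    let F' := (e.toMonoidHom.comp F).comp c.toMonoidHom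
    have hF' : Function.Surjective F' := e.surjective.comp (F_surj.comp c.surjective)
    have hk : ∀ x, x ∈ F'.ker ↔ c x ∈ F.ker := fun x => by
      rw [MonoidHom.mem_ker, MonoidHom.mem_ker]
      exact e.map_eq_one_iff
    refine ⟨F'.ker, inferInstance, ?_, fun x hx => ?_,
      ⟨QuotientGroup.quotientKerEquivOfSurjective F' hF'⟩⟩
    · rw [← card_ker]
      exact Nat.card_congr (c.toEquiv.subtypeEquiv hk)
    · apply c.injective
      rw [map_mul, map_one]
      exact ker_sq _ ((hk x).1 hx)

end Cfsg.Agent.S1558
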