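import Cfsg.Statements.S1628
import Cfsg.Agent.Spor.RuMin
-- import your own Cfsg.Agent.* helpers here

set_option autoImplicit false
open Cfsg

namespace Cfsg.Agent.S1628

/-- The Conway–Wales lattice as stored is even with no vectors of true norm 2: stored norms are multiples of 8, never equal to 8, and the minimum over nonzero vectors is 16. -/
theorem result : (∀ x ∈ Cfsg.Spor.ruLattice, (8 : ℤ) ∣ Cfsg.Spor.ruNorm x) ∧ (∀ x ∈ Cfsg.Spor.ruLattice, Cfsg.Spor.ruNorm x ≠ 8) ∧ (∀ x ∈ Cfsg.Spor.ruLattice, x ≠ 0 → 16 ≤ Cfsg.Spor.ruNorm x) ∧ ∃ x ∈ Cfsg.Spor.ruLattice, Cfsg.Spor.ruNorm x = 16 := by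
  open Cfsg.Agent.Spor.RuL in
  have h : ∀ x ∈ Cfsg.Spor.ruLattice, x ≠ 0 → 16 ≤ Cfsg.Spor.ruNorm x := by
    intro x hx h0
    rw [norm_eq]
    by_contra h1
    have := (classify hx (by omega)).resolve_left h0
    omega
  refine ⟨fun x hx => norm_eq x ▸ even_norm hx, fun x hx h8 => ?_, h,
    bv 0, bv_mem (by norm_num), (norm_eq _).trans (dot_bv (by norm_num))⟩
  by_cases h0 : x = 0
  · rw [h0, norm_eq, dot_zero_right] at h8
    omega
  · have := h x hx h0
    omega

end Cfsg.Agent.S1628
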