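import Cfsg.Statements.S1644
import Cfsg.Agent.JTW.Janko

set_option autoImplicit false
open Cfsg

namespace Cfsg.Agent.S1644


/-- The first Janko group recognised by an involution centraliser, at the level of isomorphism: a finite simple group with abelian Sylow 2-subgroups of order 8 and an involution whose centraliser is isomorphic to Z/2 × A₅ is isomorphic to the subgroup of GL(7, 11) generated by the two explicit Janko matrices. -/
theorem result {G : Type*} [Group G] [Finite G] [IsSimpleGroup G] (S : Sylow 2 G) (hS : IsMulCommutative (S : Subgroup G)) (h8 : Nat.card S = 8) (t : G) (ht : orderOf t = 2) (e : (Subgroup.centralizer ({t} : Set G)) ≃* Multiplicative (ZMod 2) × alternatingGroup (Fin 5)) : Cfsg.Spor.IsoJ1 G := by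
  refine JTW.janko_simple ⟨ht, ?_⟩ e
  obtain ⟨P, hP⟩ := (IsPGroup.of_card (p := 2) (n := 1) (G := Subgroup.zpowers t)
    (by rw [Nat.card_zpowers, ht, pow_one])).exists_le_sylow
  obtain ⟨g, rfl⟩ := MulAction.exists_smul_eq G S P
  refine ⟨_, hP (Subgroup.mem_zpowers t), fun x hx => ?_⟩
  have h1 := hP (Subgroup.mem_zpowers t)
  have h2 := congrArg (fun y : S => MulAut.conj g (y : G))
    (hS.is_comm.comm ⟨_, Subgroup.mem_pointwise_smul_iff_inv_smul_mem.1 hx⟩
      ⟨_, Subgroup.mem_pointwise_smul_iff_inv_smul_mem.1 h1⟩)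
  simpa [mul_assoc] using h2

end Cfsg.Agent.S1644
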