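import Cfsg.Statements.S1662
import Cfsg.Agent.Std2E.Red
import Cfsg.Agent.S0215

set_option autoImplicit false
open Cfsg

namespace Cfsg.Agent.S1662

/-- Uniqueness of the Baby Monster at the level of isomorphism: a finite simple group having an involution t whose centraliser has a normal subgroup M of index 2, containing its own centraliser in the involution centraliser, which is a non-split double cover of the twisted group ²E₆(2) (realised over a field with four elements) is isomorphic to the presented Baby Monster. -/
theorem result {G : Type*} [Group G] [Finite G] [IsSimpleGroup G] (t : G) (ht : orderOf t = 2) (M : Subgroup (Subgroup.centralizer ({t} : Set G))) [M.Normal] (hM : M.index = 2) (K : Type) [Field K] [Fintype K] (hK : Fintype.card K = 4) (hout : Subgroup.centralizer (M : Set (Subgroup.centralizer ({t} : Set G))) ≤ M) (hcov : Cfsg.IsNonsplitDoubleCover M (Cfsg.Lie.twistedE6 K 2)) : Cfsg.Spor.IsoB G := by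
  have t1 : t ≠ 1 := fun e => by simp [e] at ht
  obtain ⟨g, g1, g2⟩ : ∃ g : G, g * t * g⁻¹ ≠ t ∧ g * t * g⁻¹ * t = t * (g * t * g⁻¹) := by
    by_contra! k
    obtain ⟨P, hP⟩ := (IsPGroup.of_card (n := 1) (by rw [Nat.card_zpowers, ht]; rfl) :
      IsPGroup 2 (Subgroup.zpowers t)).exists_le_sylow
    have tP := hP (Subgroup.mem_zpowers t)
    obtain ⟨N, hN, h1, h2⟩ := S0215.result P t ht tP ((Inv.isIsolatedInvolution_iff_sylow ht P tP).1
      ⟨ht, fun g c => by_contra fun e => k g e c.eq.symm⟩)
    have h3 : 2 ∣ Nat.card G := ht ▸ orderOf_dvd_natCard t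
    rcases hN.eq_bot_or_eq_top with rfl | rfl
    · have hc : t ∈ Subgroup.center G := Subgroup.mem_center_iff.2 fun g => by
        have := Subgroup.mem_bot.1 (h2 g)
        rw [mul_inv_eq_one, mul_inv_eq_iff_eq_mul] at this
        exact this.symm
      have hz := ((inferInstance : (Subgroup.center G).Normal).eq_bot_or_eq_top).resolve_left
        fun e => t1 (Subgroup.mem_bot.1 (e ▸ hc))
      have : Subgroup.center M = ⊤ := eq_top_iff.2 fun x _ => Subgroup.mem_center_iff.2 fun y =>
        Subtype.ext (Subtype.ext (Subgroup.mem_center_iff.1 (hz.ge (Subgroup.mem_top _)) _))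
      refine hcov.2.2 ⊥ (this ▸ Subgroup.isComplement'_top_bot)
    · rw [Subgroup.card_top] at h1
      exact (Nat.not_even_iff_odd.2 h1) (even_iff_two_dvd.2 h3)
  exact MonU.isoB_of_type (Std2E.babyType_of ht M K hK hout hcov g1 g2)

end Cfsg.Agent.S1662
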