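import Cfsg.Statements.S1686
import Cfsg.Agent.Spor.ModelO73
import Cfsg.Agent.Spor.ModelFi22
import Cfsg.Agent.Comp.MatBN
-- import your own Cfsg.Agent.* helpers here

set_option autoImplicit false
open Cfsg

namespace Cfsg.Agent.S1686

noncomputable def lab : ℕ → ℕ :=
  Comp.tabC 12 (Comp.ones 12) [nat_lit 0x1a806d08819408047833521301b20a04e14510131d07e5360d113f3d228219b1054772a329a4733cb28a0a821418f3c20f900927d28908b10c0470d320821a31c0851483d83d421604f20519c1993c132f1430ab32108629b0ca0a01a203b08a,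
 nat_lit 0x2964740ce5345ee2a647d1984761fa0cf0d23285ec48b0461ff3c60690d704c02d1a92003d10d620701014b53f0072a20a43cd1075eb2810615f008900e47501802e28e18e33631932005227f1954801fd20f04d02131e03413d04504a13c32e,
 nat_lit 0xa229d19a48708201729200b5390c713e21253a47952f14d00d5ef13a48a53b06252e3380c919d28601e20e3c702c48307f0682993c30a10550a603831a0fe19133300821c10319f06c3ce32d04928732419206714153101509f32a3c00cc201,
 nat_lit 0x53e0500205370fa32b10200c19033201d02b1a42803c814647a1094850630a909e01619347c0aa0d400a29801f1470483c928303328d5ed32315147e1fb0232171a50fb20d14f3cf20608428f0360ad20353c02a15006e5322932843bf204064,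
 nat_lit 0x390600c81fc08706a53320c48419e0d02024861fe0fd06b2a002f29e28c14928832503a3be53527e10b14201a03c3d00cd0310d51a653001906514419610604b03247f33031b07d2910303da01c28513b1040a500621005405131f32910a066,
 nat_lit 0x2a53260813343c42190ac1a13cc0a70371971404720fc0830a320b1003d71a314a0ff0cb10805321d3d903529414c]

/-- In the presented Fischer group Fi₂₂, the subgroup generated by the images of b, …, i is isomorphic to PΩ(7, 3), the commutator subgroup of the isometry group of the quadratic form x₀² + x₁y₁ + x₂y₂ + x₃y₃ over the integers mod 3, modulo its centre. -/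
theorem result : Nonempty ((((Subgroup.closure ({Cfsg.Spor.Fi22.b, Cfsg.Spor.Fi22.c, Cfsg.Spor.Fi22.d, Cfsg.Spor.Fi22.e, Cfsg.Spor.Fi22.f, Cfsg.Spor.Fi22.g, Cfsg.Spor.Fi22.h, Cfsg.Spor.Fi22.i} : Set (FreeGroup Cfsg.Spor.Fi22.Gen))).map (PresentedGroup.mk (Cfsg.Spor.coxRelators Cfsg.Spor.Fi22.edges ∪ {r | r ∈ Cfsg.Spor.Fi22.extra})))) ≃* Cfsg.POmega (ZMod 3) (Cfsg.quadFormOdd 3 (ZMod 3))) := by
  have := Spor.FiC.M22.model.fin
  have reps : Comp.Reps 351 lab (Comp.subHom Spor.FiC.M22.ρ Spor.FiC.L22.x Spor.FiC.M22.ws7).range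
      Spor.ModelO73.ns Spor.ModelO73.ls :=
    Comp.Reps.cons (Comp.rep_sub Spor.FiC.M22.model rfl Spor.ModelFi22.ctx Spor.ModelO73.ctx [0]
      (by decide +kernel))
    (Comp.Reps.cons (Comp.rep_sub Spor.FiC.M22.model rfl Spor.ModelFi22.ctx Spor.ModelO73.ctx [6, 3, 1, 4, 0, 3, 7, 3, 2, 5, 5, 5]
      (by decide +kernel)) Comp.Reps.nil)
  have inj := reps.inj Spor.ModelO73.ctx (ps := [0]) 15 (List.forall_mem_cons.2
    ⟨Comp.sep_of_chkSepLab (by decide +kernel), fun _ h => absurd h List.not_mem_nil⟩) (by decide +kernel)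
  obtain ⟨e, -⟩ := (reps.comm _ Spor.ModelO73.hcomm).exists_equiv _ inj (Subgroup.commutator_le_self _)
    (by rw [Spor.FiC.M22.card7, Spor.ModelO73.G_card])
  rw [Spor.FiC.M22.subeq7]
  exact ⟨e.trans Spor.ModelO73.equivP.symm⟩

end Cfsg.Agent.S1686
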