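import Cfsg.Statements.S1725
import Cfsg.Agent.S1719
import Cfsg.Agent.XSC.Suz3Ab
import Cfsg.Agent.XSC.SuzU43
import Cfsg.Agent.XSC.SuzM11
import Cfsg.Agent.Grp.FourOdd

set_option autoImplicit false
open Cfsg

namespace Cfsg.Agent.S1725

section
open Subgroup Cfsg.Agent.Comp Cfsg.Agent.XSC.SuzM11

variable {A : Type*} [Group A] [Finite A]

theorem card_le_orb (H : Subgroup A) (a : A) {n : ℕ}
    (hn : {t | ∃ k ∈ H, k * a * k⁻¹ = t}.ncard ≤ n) :
    Nat.card H ≤ n * Nat.card (H ⊓ centralizer {a} : Subgroup A) :=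
  (Grp.FourOdd.ncard_conj H a).ge.trans (Nat.mul_le_mul_right _ hn)

theorem ncard_add_le {S T : Set A} {l : List A} (hl : l.Nodup) (h1 : ∀ y ∈ l, y ∈ S)
    (h2 : ∀ y ∈ T, y ∈ S ∧ y ∉ l) : T.ncard + l.length ≤ S.ncard := by
  classical
  rw [← List.toFinset_card_of_nodup hl, ← Set.ncard_coe_finset, ← Set.ncard_union_eq
    (Set.disjoint_left.2 fun y hy h => (h2 y hy).2 (by simpa using h))]
  exact Set.ncard_le_ncard (Set.union_subset (fun y hy => (h2 y hy).1) fun y hy =>
    h1 y (by simpa using hy))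

theorem card_le_three {H : Subgroup A} {S : Set A} (hS : ∀ g ∈ H, ∀ y ∈ S, g * y * g⁻¹ ∈ S)
    (hi : ∀ y ∈ S, y⁻¹ ∈ S) {a b c : A} (ha : a ∈ S) (hb : b ∈ S) (hc : c ∈ S)
    (hd : [a, a⁻¹, b, b⁻¹, c].Nodup)
    (hn : ∀ g : A, g * a = a * g → g * b = b * g → g * c ≠ c⁻¹ * g) (h22 : S.ncard ≤ 22) :
    Nat.card H ≤ 22 * (20 * (9 * Nat.card
      (centralizer {a} ⊓ centralizer {b} ⊓ centralizer {c} : Subgroup A))) := by
  have key : ∀ {g x y : A}, g ∈ centralizer {x} → g * y * g⁻¹ = x ∨ g * y * g⁻¹ = x⁻¹ →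
      y = x ∨ y = x⁻¹ := fun {g x y} hg h => by
    have h1 : g⁻¹ * x * g = x := by
      rw [mul_assoc, ← mem_centralizer_singleton_iff.1 hg, inv_mul_cancel_left]
    exact h.imp (fun e => by rw [← h1, ← e]; group) fun e => by
      rw [← h1, mul_inv_rev, mul_inv_rev, ← e]; group
  have hd1 : [a, a⁻¹].Nodup := hd.sublist (by simp)
  have hd2 : [a, a⁻¹, b, b⁻¹].Nodup := hd.sublist (by simp)
  simp only [List.nodup_cons, List.mem_cons, not_or] at hd
  refine (card_le_orb H a ((Set.ncard_le_ncard (by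
    rintro _ ⟨g, hg, rfl⟩; exact hS g hg a ha)).trans h22)).trans (Nat.mul_le_mul_left _ ((card_le_orb _ b ?_).trans (Nat.mul_le_mul_left _
      ((card_le_orb _ c ?_).trans (Nat.mul_le_mul_left _ (card_le_of_le
        (inf_le_inf_right _ (inf_le_inf_right _ inf_le_right))))))))
  · have := ncard_add_le (S := S) (T := {t | ∃ k ∈ H ⊓ centralizer {a}, k * b * k⁻¹ = t}) hd1
      (by simp [ha, hi a ha]) (by
        rintro _ ⟨g, hg, rfl⟩
        refine ⟨hS g hg.1 b hb, fun h => ?_⟩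
        rcases key hg.2 (by simpa using h) with e | e <;> simp [e] at hd)
    simp only [List.length_cons, List.length_nil] at this
    omega
  · generalize hO : {t | ∃ k ∈ H ⊓ centralizer {a} ⊓ centralizer {b}, k * c * k⁻¹ = t} = O
    have h1 : ∀ y ∈ O, y ∈ S ∧ ¬ (y = a ∨ y = a⁻¹) ∧ ¬ (y = b ∨ y = b⁻¹) := by
      subst hO
      rintro _ ⟨g, hg, rfl⟩
      refine ⟨hS g hg.1.1 c hc, fun h => ?_, fun h => ?_⟩
      · rcases key hg.1.2 h with e | e <;> simp [e] at hd
      · rcases key hg.2 h with e | e <;> simp [e] at hd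
    have := ncard_add_le (S := S) (T := O ∪ O⁻¹) hd2 (by simp [ha, hi a ha, hb, hi b hb]) (by
      rintro y (h | h)
      · exact ⟨(h1 y h).1, by simpa [or_assoc, not_or, and_assoc] using (h1 y h).2⟩
      · obtain ⟨h2, h3, h4⟩ := h1 _ h
        refine ⟨by simpa using hi _ h2, ?_⟩
        simp only [inv_eq_iff_eq_inv, inv_inv] at h3 h4
        simp only [List.mem_cons, List.not_mem_nil]
        tauto)
    rw [Set.ncard_union_eq, Set.ncard_inv] at this
    · simp only [List.length_cons, List.length_nil] at this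
      omega
    subst hO
    refine Set.disjoint_left.2 ?_
    rintro _ ⟨g, hg, rfl⟩ ⟨k, hk, e⟩
    refine hn (g⁻¹ * k) (mem_centralizer_singleton_iff.1 (mul_mem (inv_mem hg.1.2) hk.1.2))
      (mem_centralizer_singleton_iff.1 (mul_mem (inv_mem hg.2) hk.2)) ?_
    calc g⁻¹ * k * c = g⁻¹ * (k * c * k⁻¹) * k := by group
      _ = _ := by rw [e]; group

theorem elem (e : A ≃* gen Spor.ModelSuz.ns Spor.ModelSuz.G_ss0) {B : Subgroup A}
    (hB : sub e ns (ltrs ss) = B) : IsElementaryAbelian 3 B ∧ Nat.card B = 3 ^ 5 ∧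
      centralizer (B : Set A) = B ∧ ∃ _ : (B.subgroupOf (normalizer (B : Set A))).Normal,
        Spor.IsoM11 (normalizer (B : Set A) ⧸ B.subgroupOf (normalizer (B : Set A))) := by
  subst hB
  have h1 := eq_of_le_of_card_ge (A_comm e) ((A_cent e).trans_le (A_ge e))
  have h2 := card_le_three (H := normalizer (sub e ns (ltrs ss) : Set A))
    (S := {y | y ∈ sub e ns (ltrs ss) ∧ IsConj (ev e ns [14]) y})
    (fun g hg y hy => ⟨(mem_normalizer_iff.1 hg y).1 hy.1, hy.2.trans (isConj_iff.2 ⟨g, rfl⟩)⟩)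
    (fun y hy => ⟨inv_mem hy.1, (conj0 e).trans (by
      obtain ⟨g, rfl⟩ := isConj_iff.1 hy.2
      exact isConj_iff.2 ⟨g, by group⟩)⟩)
    ⟨mem_A e [14] (by decide +kernel), IsConj.refl _⟩ ⟨mem_A e [16] (by decide +kernel), conj1 e⟩
    ⟨mem_A e [18] (by decide +kernel), conj2 e⟩ (nodup e)
    (fun g a b c => no_inv e g (by
      rw [← ev_invW] at c
      simp only [NS_as, List.forall_mem_cons]
      exact ⟨a, b, c, by simp⟩)) (A_conj e)
  rw [cent3] at h2
  obtain ⟨φ, h3, h4⟩ := quot e h2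
  exact ⟨⟨le_centralizer_iff_isMulCommutative.1 (A_comm e), fun _ => A_exp e⟩,
    (congrArg (fun H : Subgroup A => Nat.card H) h1).trans (A_cent e), h1.symm, inferInstance,
    ⟨((QuotientGroup.quotientMulEquivOfEq h4.symm).trans
      (QuotientGroup.quotientKerEquivOfSurjective φ h3)).trans Spor.ModelM11.equiv.symm⟩⟩

end

open Subgroup Cfsg.Agent.Comp Cfsg.Agent.XSC in
/-- A 3-local step in the uniqueness proof for the sporadic Suzuki group: let G satisfy the large-extraspecial hypothesis with Q of order 2 ^ 7, quotient Ω⁻(6, 2) and z not weakly closed in Q, and let X be a subgroup of order 3 of the centraliser C of z with the commutator subgroup of Q and X of order 8 and non-abelian (a quaternion group). Then for any Sylow 3-subgroup P of the normaliser of X in G, P is a Sylow 3-subgroup of G (its index in G is prime to 3), and P contains an elementary abelian subgroup A of order 3 ^ 5 with C_G(A) = A and N_G(A) / A isomorphic to the Mathieu group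 M₁₁. -/
theorem result {G : Type*} [Group G] [Finite G] (z : G) (hz : orderOf z = 2) (Q : Subgroup (Subgroup.centralizer ({z} : Set G))) [Q.Normal] (hF : Cfsg.generalizedFittingSubgroup (Subgroup.centralizer ({z} : Set G)) = Q) (hQ : Cfsg.IsExtraspecial 2 Q) (hcard : Nat.card Q = 2 ^ 7) (e : (Subgroup.centralizer ({z} : Set G)) ⧸ Q ≃* Cfsg.Omega (ZMod 2) (Cfsg.quadFormMinus 2 (ZMod 2) 1 1)) (hnwc : ∃ g : G, (∃ hq : g * z * g⁻¹ ∈ Subgroup.centralizer ({z} : Set G), (⟨g * z * g⁻¹, hq⟩ : Subgroup.centralizer ({z} : Set G)) ∈ Q) ∧ g * z * g⁻¹ ≠ z) (X : Subgroup (Subgroup.centralizer ({z} : Set G))) (hX : Nat.card X = 3) (hQX : Nat.card ↥⁅Q, X⁆ = 8) (hQXna : ¬ IsMulCommutative ↥⁅Q, X⁆) (P : Sylow 3 ↥(Subgroup.normalizer ((X.map (Subgroup.subtype (Subgroup.centralizer ({z} : Set G))) : Subgroup G) : Set G))) : ¬ 3 ∣ (((P : Subgroup ↥(Subgroup.normalizer ((X.map (Subgroup.subtype (Subgroup.centralizer ({z} : Set G))) : Subgroup G) : Set G))).map (Subgroup.subtype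 (Subgroup.normalizer ((X.map (Subgroup.subtype (Subgroup.centralizer ({z} : Set G))) : Subgroup G) : Set G)))).index) ∧ ∃ A : Subgroup G, A ≤ (P : Subgroup ↥(Subgroup.normalizer ((X.map (Subgroup.subtype (Subgroup.centralizer ({z} : Set G))) : Subgroup G) : Set G))).map (Subgroup.subtype (Subgroup.normalizer ((X.map (Subgroup.subtype (Subgroup.centralizer ({z} : Set G))) : Subgroup G) : Set G))) ∧ Cfsg.IsElementaryAbelian 3 A ∧ Nat.card A = 3 ^ 5 ∧ Subgroup.centralizer (A : Set G) = A ∧ ∃ _ : (A.subgroupOf (Subgroup.normalizer (A : Set G))).Normal, Cfsg.Spor.IsoM11 (↥(Subgroup.normalizer (A : Set G)) ⧸ A.subgroupOf (Subgroup.normalizer (A : Set G))) := by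

  obtain ⟨f⟩ := S1719.result z hz Q hF hQ hcard e hnwc
  obtain ⟨f, hf⟩ := XSC.Suz3A.three_A (f.trans Spor.ModelSuz.equiv) hz hF hcard e hX hQX
  generalize X.map (Subgroup.subtype _) = Y at *
  have : Fact (Nat.Prime 3) := ⟨by norm_num⟩
  have h1 : Nat.card (centralizer (Y : Set G)) = 9797760 := by
    rw [hf, SuzU43.x_eq, ← SuzU43.sub_x, SuzU43.cent, SuzU43.C.card_sub]
  have h2 := (centralizer (Y : Set G)).card_mul_index
  rw [h1, SuzInv.card_A f] at h2
  have h3 : sub f SuzM11.ns (ltrs SuzM11.ss) ≤ normalizer (Y : Set G) :=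
    ((SuzM11.A_comm f).trans (centralizer_le (hf ▸ zpowers_le_of_mem (SuzM11.x_eq f ▸
      SuzM11.mem_A f [14] (by decide +kernel))))).trans (centralizer_le_normalizer _)
  obtain ⟨g, -, h4⟩ := Fus.SylIn.exists_conj (A := P.toSubgroup.map (Subgroup.subtype _))
    ⟨P, (comap_map_eq_self_of_injective (subtype_injective _) _).symm⟩
    (IsPGroup.of_card (elem f rfl).2.1) h3
  refine ⟨fun h => ?_, _, fun x hx => ?_, elem ((MulAut.conj g⁻¹).trans f) rfl⟩
  · rw [index_map_subtype] at h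
    refine ((Nat.Prime.dvd_mul Fact.out).1 h).elim P.not_dvd_index fun h => ?_
    have := h.trans (index_dvd_of_le (centralizer_le_normalizer _))
    omega
  · simpa [mul_assoc] using h4 _ ((mem_sub_trans _ f).1 hx)

end Cfsg.Agent.S1725
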