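import Cfsg.Statements.S1733
import Mathlib
import Cfsg.Agent.Std.S62
import Cfsg.Agent.Class.FieldTransport
import Cfsg.Agent.S0814
import Cfsg.Agent.S1678

set_option autoImplicit false
open Cfsg

namespace Cfsg.Agent.S1733


/-- Let G be a non-abelian finite simple group which is locally balanced (the centralizer of every involution has no nontrivial normal subgroup of odd order) and has the strong B-property (every section of G has the B-property), and let L be a standard subgroup of G whose centre has order 2 with quotient isomorphic to the symplectic group of dimension 6 over the field with 2 elements. Then G is isomorphic to the third Conway group. -/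
theorem result {G : Type*} [Group G] [Finite G] [IsSimpleGroup G] (hG : ¬ IsMulCommutative G)
    (hbal : ∀ t : G, orderOf t = 2 → Cfsg.centralizerPPrimeCore 2 t = ⊥) (hB : Cfsg.HasStrongBProperty G)
    (L : Subgroup G) (hL : Cfsg.IsStandardSubgroup L)
    {F : Type*} [Field F] [Fintype F] (hF : Fintype.card F = 2) (hLX : (Nat.card ↥(Subgroup.center ↥L) = 2 ∧ Nonempty (↥L ⧸ Subgroup.center ↥L ≃* Cfsg.PSp 3 F))) :
    Cfsg.Spor.IsoCo3 G := by
  obtain ⟨h2, ⟨e⟩⟩ := hLX
  have hc : Subgroup.center Co3T.Sp62 = ⊥ := by
    refine eq_bot_iff.2 fun g hg => ?_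
    rcases Class.Sp.mem_center_iff.1 hg with h | h
    · exact h
    · rw [h]; exact Subtype.ext (by decide)
  let e' := e.trans ((Class.pspCongr 3 (Class.ringEquivZMod hF)).trans
    ((QuotientGroup.quotientMulEquivOfEq hc).trans QuotientGroup.quotientBot))
  have hC : IsNonsplitDoubleCover L Co3T.Sp62 := by
    refine ⟨h2, ⟨e'⟩, fun M hM => ?_⟩
    have h1 : M.index = 2 := hM.index_eq_card.trans h2
    have := Subgroup.normal_of_index_eq_two h1
    have h3 : IsCyclic (L ⧸ M) := isCyclic_of_prime_card (p := 2) h1
    have h4 : commutator L ≤ M :=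
      (Subgroup.Normal.quotient_commutative_iff_commutator_le (N := M)).1 inferInstance
    rw [hL.1.1.1, top_le_iff] at h4
    rw [h4, Subgroup.index_top] at h1
    omega
  obtain ⟨t, ht, h0, h1, hZ⟩ := Std.exists_center_inv h2
  have hi := Std.inner_of_out hL.1.1.1 (Std.card_out_eq_one
    (eq_bot_iff.2 fun x hx => e'.injective ((Subgroup.mem_bot.1 (hc ▸ Subgroup.mem_center_iff.2 fun y => by
      obtain ⟨y, rfl⟩ := e'.surjective y
      rw [← map_mul, ← map_mul, Subgroup.mem_center_iff.1 hx y])).trans (map_one e').symm))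
    (by rw [Nat.card_congr (MulAut.congr e).toEquiv, Nat.card_congr e.toEquiv,
      S0814.result 2 1 le_rfl hF 3 (by norm_num) (by norm_num)]; simp))
  have hd := fun m (c : Commute m t) =>
    Std.exists_mul_of_inner hi (Std.mem_normalizer_of_commute hL ht h1 c)
  obtain ⟨g, hne, hg⟩ := Std.exists_conj' hG hL ht h0 h1
  obtain ⟨φ, h⟩ := Std.S62.exists_P62 ht h0 h1 hC
  have hK := not_ne_iff.1 (h.false_of_ne hL ht hZ hd hne hg (hbal t ht))
  have hL' : L = Subgroup.centralizer {t} := le_antisymm
    (fun x hx => Subgroup.mem_centralizer_singleton_iff.2 (Std.commute_of_mem hx h1)) fun x hx => by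
      obtain ⟨a, ha, k, hk, rfl⟩ := hd x (Subgroup.mem_centralizer_singleton_iff.1 hx)
      exact mul_mem ha (Subgroup.zpowers_le.2 h0 (hK ▸ hk))
  exact S1678.result (Std.oddCore_eq_bot ht) (Std.center_eq_bot hG) t ht (hL' ▸ hC)

end Cfsg.Agent.S1733
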