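import Cfsg.Statements.S1745
import Cfsg.Agent.LyMc.Std3
import Cfsg.Agent.S3334

set_option autoImplicit false
open Cfsg

namespace Cfsg.Agent.S1745

/-- Let G be a non-abelian finite simple group with the strong B-property (every section of G has the B-property) possessing a standard subgroup L which is a non-split double cover of the alternating group of degree 8. Then G is a group of Lie type in characteristic 3, or an alternating group of degree at least 9, or G is isomorphic to the McLaughlin group. -/
theorem result {G : Type*} [Group G] [Finite G] [IsSimpleGroup G] (hG : ¬ IsMulCommutative G)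
    (hB : Cfsg.HasStrongBProperty G) (L : Subgroup G) (hL : Cfsg.IsStandardSubgroup L)
    (hLX : Cfsg.IsNonsplitDoubleCover ↥L ↥(alternatingGroup (Fin 8))) :
    Cfsg.IsLieTypeChar 3 G ∨ (∃ n : ℕ, 9 ≤ n ∧ Nonempty (G ≃* ↥(alternatingGroup (Fin n)))) ∨ Cfsg.Spor.IsoMcL G := by
  obtain ⟨t, ht, e⟩ := LyMc.exists_centralizer_eq hG le_rfl (by norm_num) hL hLX
  rcases S3334.result t ht (e ▸ hLX) with h | h
  · exfalso
    rcases (inferInstance : (pPrimeCore 2 G).Normal).eq_bot_or_eq_top with e1 | e1
    · rw [show oddCore G = ⊥ from e1, sup_bot_eq] at h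
      rcases (inferInstance : (Subgroup.center G).Normal).eq_bot_or_eq_top with e2 | e2
      · have : t ∈ Subgroup.center G := Subgroup.mem_center_iff.2 fun g =>
          Subgroup.mem_centralizer_singleton_iff.1 (h ▸ Subgroup.mem_top g)
        rw [e2, Subgroup.mem_bot] at this
        simp [this] at ht
      · exact hG ⟨⟨fun a b =>
          Subgroup.mem_center_iff.1 (e2 ▸ Subgroup.mem_top b : b ∈ Subgroup.center G) a⟩⟩
    · have := Nat.coprime_two_right.1
        (Grp.orderOf_coprime_of_mem_pPrimeCore (e1 ▸ Subgroup.mem_top t : t ∈ pPrimeCore 2 G))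
      rw [ht] at this
      exact absurd this (by decide)
  · exact Or.inr (Or.inr h)

end Cfsg.Agent.S1745
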