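import Cfsg.Statements.S1820
import Cfsg.Agent.QT.Setup
import Cfsg.Agent.QT.KB

set_option autoImplicit false
open Cfsg

namespace Cfsg.Agent.S1820

open Subgroup Cfsg.Agent.PLocal Cfsg.Agent.PLocal.Amb Cfsg.Agent.Grp Cfsg.Agent.QT
open scoped commutatorElement

/-- The structure of the 𝒞-components of subgroups with nontrivial 2-core in a simple QTKE-group. Let G be a non-abelian finite simple QTKE-group and H a subgroup of G with O₂(H) ≠ 1. Then (1) the 𝒞-components of H (the minimal nontrivial perfect subnormal subgroups of H) generate H^∞, the largest perfect subgroup of H; (2) for distinct 𝒞-components L₁, L₂ of H one has [L₁, L₂] ≤ O₂(L₁) ∩ O₂(L₂) ≤ O₂(H); and (3) each 𝒞-component L of H is either normal in H, or has exactly two conjugates under H and L/O₂(L) is isomorphic to L₂(2ⁿ), to a Suzuki group, to L₂(p) for an odd prime p, or to the first Janko group J₁. -/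
theorem result {G : Type*} [Group G] [Finite G] [IsSimpleGroup G]
    (hG : ¬ IsMulCommutative G) (hQ : Cfsg.IsQTKE G) (H : Subgroup G) (hH : H ∈ Cfsg.calH G) :
    sSup (Cfsg.calC ↥H) = Cfsg.perfectCore ↥H ∧
    (∀ L₁ ∈ Cfsg.calC ↥H, ∀ L₂ ∈ Cfsg.calC ↥H, L₁ ≠ L₂ →
        ⁅L₁, L₂⁆ ≤ (Cfsg.pCore 2 ↥L₁).map L₁.subtype ⊓ (Cfsg.pCore 2 ↥L₂).map L₂.subtype ∧
        (Cfsg.pCore 2 ↥L₁).map L₁.subtype ⊓ (Cfsg.pCore 2 ↥L₂).map L₂.subtype ≤ Cfsg.pCore 2 ↥H) ∧
    (∀ L ∈ Cfsg.calC ↥H, L.Normal ∨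
        ((Subgroup.normalizer (L : Set ↥H)).index = 2 ∧
          ((∃ (F : Type) (_ : Field F) (_ : Fintype F), CharP F 2 ∧
              Nonempty (↥L ⧸ Cfsg.pCore 2 ↥L ≃* Matrix.ProjectiveSpecialLinearGroup (Fin 2) F)) ∨
            Cfsg.Lie.IsoSuzuki (↥L ⧸ Cfsg.pCore 2 ↥L) ∨
            (∃ (F : Type) (_ : Field F) (_ : Fintype F), (Fintype.card F).Prime ∧ Fintype.card F ≠ 2 ∧
              Nonempty (↥L ⧸ Cfsg.pCore 2 ↥L ≃* Matrix.ProjectiveSpecialLinearGroup (Fin 2) F)) ∨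
            Cfsg.Spor.IsoJ1 (↥L ⧸ Cfsg.pCore 2 ↥L)))) := by
  have hH' : pCoreOf 2 H ≠ ⊥ := fun e => hH (Amb.pCoreOf_eq_bot_iff.1 e)
  have hS := sqt_of_qt hQ.1 hH'
  have hK : IsKGroup H := hQ.2.1 H (ne_top_of_pCoreOf hG hH')
  refine ⟨sSup_calC_eq hS (tameComp_of_qtke hG hQ hH'), fun L₁ h₁ L₂ h₂ hne => ?_, fun L hL => ?_⟩
  · rw [← isCC_top_iff] at h₁ h₂
    have h3 := h₁.commutator_le hS h₂ hne
    refine ⟨le_inf ?_ ?_, inf_le_left.trans ?_⟩
    · exact (le_inf (le_normalizer_iff_commutator_le_left.1 (h₁.perfect_le_normalizer hS h₂.perf))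
        h3).trans (CP.inf_pCore_le L₁)
    · exact (le_inf (le_normalizer_iff_commutator_le_right.1 (h₂.perfect_le_normalizer hS h₁.perf))
        h3).trans (CP.inf_pCore_le L₂)
    · exact CP.pCoreOf_le_pCore_of_subnormal (snIn_top_iff.1 h₁.sn)
  · rw [← isCC_top_iff] at hL
    refine (hL.index_normalizer hS).imp_right fun h2 => ⟨h2, ?_⟩
    obtain ⟨g, hg⟩ : ∃ g, g ∉ 𝐍[L] := by
      by_contra hcon
      push Not at hcon
      rw [show 𝐍[L] = ⊤ from eq_top_iff.2 fun x _ => hcon x, index_top] at h2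
      omega
    rw [hL.mem_normalizer_iff_mk] at hg
    obtain ⟨c1, c2, c3⟩ := hL.map_mk.of_not_normal (sqt_quotient hS) (pCore_quotient_pCore 2 H) hg
    have e := hL.quotient_equiv
    haveI := e.isSimpleGroup
    have hna : ¬ IsMulCommutative (L ⧸ pCore 2 L) := qs_not_comm (qs_congr c1.2 e.symm)
    exact onList_of_rank hna (Misc.isKnownSimple'_of_isKGroup hK L (QuotientGroup.mk' _)
      (QuotientGroup.mk'_surjective _) inferInstance hna)
      fun p hp hp2 => (FT.R2.pRankLE_congr e).2 (c3 p hp hp2)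

end Cfsg.Agent.S1820
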