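import Cfsg.Statements.S1822
import Cfsg.Agent.QT.Setup
import Cfsg.Agent.QT.Xi2
import Cfsg.Agent.QT.KB

set_option autoImplicit false
open Cfsg

namespace Cfsg.Agent.S1822

open Subgroup Cfsg.Agent.PLocal Cfsg.Agent.PLocal.Amb Cfsg.Agent.Grp Cfsg.Agent.QT
open scoped commutatorElement

theorem out_comm {G : Type*} [Group G] [Finite G] (hS : IsStronglyQuasithin G)
    (hO : pCore 2 G = ⊥) (hK : IsKGroup G) (K : Subgroup G) (hc : IsComponent K)
    (hn : ¬ K.Normal) (a b : Out (K ⧸ center K)) : a * b = b * a := by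
  obtain ⟨g, hg⟩ : ∃ g, g ∉ 𝐍[K] := by
    by_contra! e
    exact hn (normalizer_eq_top_iff.1 (eq_top_iff.2 fun g _ => e g))
  obtain ⟨-, h2, h3⟩ := (isCC_of_isComponent hc).of_not_normal hS hO hg
  haveI := hc.2.2
  have hna : ¬ IsMulCommutative (K ⧸ center K) := fun e => by
    haveI : Group.IsSolvable (K ⧸ center K) := isSolvable_of_comm fun a b => e.is_comm.comm a b
    haveI : Group.IsSolvable (center K) := isSolvable_of_comm fun a b => mul_comm' a b
    exact qs_not_solvable hc.2 (solvable_of_ker_le_range (center K).subtype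
      (QuotientGroup.mk' (center K)) (by rw [QuotientGroup.ker_mk', range_subtype]))
  have hz : center K = ⊥ := (h2.eq_bot_or_eq_top_of_normal _ inferInstance).resolve_right fun e => by
    haveI := QuotientGroup.subsingleton_iff.2 e
    exact hna ⟨⟨fun a b => Subsingleton.elim _ _⟩⟩
  let e : (K ⧸ center K) ≃* K :=
    (QuotientGroup.quotientMulEquivOfEq hz).trans QuotientGroup.quotientBot
  exact (onList_of_rank hna (Misc.isKnownSimple'_quotient_center (Misc.isKGroup_subgroup hK K) hc.2)
    fun p hp hp2 => FT.R2.pRankLE_of_injective e.toMonoidHom e.injective (h3 p hp hp2)).out_comm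
      hna a b

/-- Solvable uniqueness groups in a simple QTKE-group. Let G be a non-abelian finite simple QTKE-group, T a Sylow 2-subgroup of G, and X a member of Ξ*(G, T): X = O²(X) is T-invariant with O₂(XT) ≠ 1, X/O₂(X) is elementary abelian of order p² or extraspecial of order p³ for an odd prime p, T is irreducible on the Frattini quotient of X/O₂(X), and XT lies in no ⟨L, T⟩ with L ∈ ℒ(G, T) and L/O₂(L) quasisimple. Then N_G(X) is the unique maximal 2-local subgroup of G containing XT, so that XT is a uniqueness subgroup. -/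
theorem result {G : Type*} [Group G] [Finite G] [IsSimpleGroup G]
    (hG : ¬ IsMulCommutative G) (hQ : Cfsg.IsQTKE G) (T : Sylow 2 G) (X : Subgroup G)
    (hX : X ∈ Cfsg.XiStar (T : Subgroup G)) :
    Cfsg.maxTwoLocalsContaining (X ⊔ (T : Subgroup G)) = {Subgroup.normalizer (X : Set G)} := by
  obtain ⟨p, _, P, h⟩ := exists_xiData hX.1
  have hXT : pCoreOf 2 (X ⊔ (T : Subgroup G)) ≠ ⊥ := fun e => hX.1.2.2.1 (Amb.pCoreOf_eq_bot_iff.1 e)
  have hch : CP.IsCharP 2 X :=
    (isCharP_of_even hQ.2.2 T le_sup_right hXT).of_normal le_sup_left (sup_le le_normalizer h.TX)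
  refine maxTwoLocals_eq hXT (pCoreOf_ne_bot_of_isCharP hch fun e => ?_) fun M hM hle => ?_
  · exact h.noncyc 1 (one_mem _) (e ▸ bot_le)
  have hH := pCoreOf_ne_bot_of_twoLocal hM.1
  have hT : (T : Subgroup G) ≤ M := le_sup_right.trans hle
  have hXM : X ≤ M := le_sup_left.trans hle
  let μ := QuotientGroup.mk' (pCore 2 M)
  have hμ : Function.Surjective μ := QuotientGroup.mk'_surjective _
  have hker : μ.ker = pCore 2 M := QuotientGroup.ker_mk' _
  have eX := map_subgroupOf_eq_of_le hXM
  have eT := map_subgroupOf_eq_of_le hT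
  have hOT : pCoreOf 2 M ≤ (T : Subgroup G) := CP.pCoreOf_le_sylow T hT
  have h1 := (h.subgroupOf hXM hT).map μ (by
    rw [hker]
    intro x hx
    exact CP.inf_pCoreOf_le (hXM.trans le_normalizer) ⟨hx.1, ⟨x, hx.2, rfl⟩⟩)
  have hS := sqt_quotient (sqt_of_qt hQ.1 hH)
  have hO := Grp.pCore_quotient_pCore 2 M
  have hTs := (isSyl_subgroupOf_top T hT).map μ
  rw [map_top_of_surjective μ hμ] at hTs
  rcases h1.normal_or hS hO (tameComp_of_qtke hG hQ hH) hTs (out_comm hS hO
    (Misc.isKGroup_quotient (hQ.2.1 M (ne_top_of_pCoreOf hG hH)) _)) with hn | ⟨K, k1, k2⟩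
  · have h2 := hn.comap μ
    rw [comap_map_eq, hker] at h2
    have h3 : M ≤ 𝐍[X ⊔ pCoreOf 2 M] := by
      have := le_normalizer_map (H := X.subgroupOf M ⊔ pCore 2 M) M.subtype
      rwa [normalizer_eq_top, Subgroup.map_sup, eX, ← MonoidHom.range_eq_map, range_subtype] at this
    have h4 := h3.trans (normalizer_le_normalizer_pRes 2 _)
    rwa [pRes_sup_eq (Amb.isPGroup_pCoreOf 2 M) (hOT.trans h.TX), h.res] at h4
  · have k3 := isCC_of_isComponent k1
    rw [← map_top_of_surjective μ hμ] at k3
    obtain ⟨L, l1, rfl⟩ := k3.exists_of_map μ (isSolvable_ker_mk_pCore 2)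
    refine absurd ?_ (hX.2 _ (l1.map_subtype.mem_calL T hT hH) ?_)
    · refine sup_le ?_ le_sup_right
      rw [← Subgroup.map_sup, Subgroup.map_le_map_iff, hker] at k2
      have := map_mono (f := M.subtype) k2
      rw [eX, Subgroup.map_sup, Subgroup.map_sup, eT, sup_assoc] at this
      exact this.trans (sup_le_sup_left (sup_le le_rfl hOT) _)
    · let e := L.equivMapOfInjective M.subtype M.subtype_injective
      exact qs_congr (qs_congr k1.2 l1.quotient_equiv.symm)
        (QuotientGroup.congr _ _ e (Grp.map_pCore_equiv 2 e))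

end Cfsg.Agent.S1822
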