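import Mathlib
import Cfsg.Statements.S1823
import Cfsg.Agent.PLocal.BkR2
import Cfsg.Agent.QT.Basic
-- import your own Cfsg.Agent.* helpers here

set_option autoImplicit false
open Cfsg

namespace Cfsg.Agent.S1823

open Cfsg.Agent.PLocal Cfsg.Agent.PLocal.Amb Cfsg.Agent.PLocal.Bk

/-- A common nontrivial normal 2-subgroup for a pair of 2-local-type subgroups over a Sylow 2-subgroup of a simple QTKE-group. Let G be a non-abelian finite simple QTKE-group and T a Sylow 2-subgroup of G. Let M₀ and H be subgroups of G containing T with O₂(M₀) ≠ 1 and O₂(H) ≠ 1, such that T lies in a unique maximal subgroup of H. Let R be a nontrivial subgroup of T that is a Sylow 2-subgroup of O²(H)R and is normalized by M₀. Then some nontrivial subgroup R₀ of R is normalized by both M₀ and H (that is, R₀ is normal in ⟨M₀, H⟩). -/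
theorem result {G : Type*} [Group G] [Finite G] [IsSimpleGroup G]
    (hG : ¬ IsMulCommutative G) (hQ : Cfsg.IsQTKE G) (T : Sylow 2 G) (M₀ H : Subgroup G)
    (hM₀ : M₀ ∈ Cfsg.calHOver (T : Subgroup G)) (hH : H ∈ Cfsg.calHOver (T : Subgroup G))
    (hU : ∃! K : Subgroup ↥H, IsCoatom K ∧ (T : Subgroup G).subgroupOf H ≤ K)
    (R : Subgroup G) (hR : R ≠ ⊥) (hRT : R ≤ (T : Subgroup G))
    (hRS : ∃ P : Sylow 2 ↥(Cfsg.oddGenerated H ⊔ R),
      (P : Subgroup ↥(Cfsg.oddGenerated H ⊔ R)) = R.subgroupOf (Cfsg.oddGenerated H ⊔ R))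
    (hRM : M₀ ≤ Subgroup.normalizer (R : Set G)) :
    ∃ R₀ : Subgroup G, R₀ ≠ ⊥ ∧ R₀ ≤ R ∧ M₀ ⊔ H ≤ Subgroup.normalizer (R₀ : Set G) := by
  obtain ⟨K, ⟨hK, hTK⟩, hu⟩ := hU
  obtain ⟨P, hP⟩ := hRS
  have hS := isSyl_of_sylow_eq le_sup_right P hP
  rw [Cfsg.Agent.QT.oddGenerated_eq] at hS
  obtain ⟨Y, y1, y2, y3, y4⟩ := push_even (M := K.map H.subtype) (isSyl_top T)
    (fun H a b => Cfsg.Agent.QT.isCharP_of_even hQ.2.2 T a b) hH.2
    (fun e => hH.1 (pCoreOf_eq_bot_iff.1 e))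
    (by rw [← map_subgroupOf_of_le hH.2]; exact Subgroup.map_mono hTK)
    (fun k => hK.1 (top_le_iff.1 fun x _ => mem_map_subtype.1 (k x.2)))
    (fun X h1 h2 => by
      rcases eq_top_or_exists_le_coatom (X.subgroupOf H) with k | ⟨K', k1, k2⟩
      · exact Or.inl (le_antisymm h2 (Subgroup.subgroupOf_eq_top.1 k))
      · right
        rw [← hu K' ⟨k1, (Subgroup.subgroupOf_mono H h1).trans k2⟩, ← map_subgroupOf_of_le h2]
        exact Subgroup.map_mono k2) hR hRT hS (hM₀.2.trans hRM)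
  exact ⟨Y, y1, y2, sup_le (hRM.trans y3) y4⟩

end Cfsg.Agent.S1823
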