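import Cfsg.Statements.S1824
import Cfsg.Agent.QT.QrcC
import Cfsg.Agent.QT.Basic
-- import your own Cfsg.Agent.* helpers here

set_option autoImplicit false
open Cfsg

namespace Cfsg.Agent.S1824

open Subgroup Cfsg.Agent.PLocal Cfsg.Agent.PLocal.Amb Cfsg.Agent.PLocal.Bk Cfsg.Agent.QT.Qrc
open scoped Cfsg.Agent.PLocal.CP

/-- The qrc-lemma in the form used for simple QTKE-groups. Let G be a non-abelian finite simple QTKE-group, T a Sylow 2-subgroup of G and M a maximal 2-local subgroup of G containing T. Let T ≤ M₀ ≤ M, let H be a minimal member of the set of subgroups of G with nontrivial 2-core that contain T and are not contained in M, and let V be a 2-reduced elementary abelian normal 2-subgroup of M₀ with O₂(M₀) = C_T(V). Suppose H ∩ M normalizes O²(M₀) or normalizes V. Then one of the following holds: (1) some nontrivial subgroup of O₂(M₀) is normalized by both M₀ and H; (2) V ≰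 O₂(H) and q̂(M₀/C_{M₀}(V), V) ≤ 2; (3) q(M₀/C_{M₀}(V), V) ≤ 2. Here q (resp. q̂) ≤ 2 means that some subgroup of M₀ inducing a nontrivial elementary abelian 2-group A on V acts quadratically (resp. cubically) on V with |V : C_V(A)| ≤ |A|². -/
theorem result {G : Type*} [Group G] [Finite G] [IsSimpleGroup G]
    (hG : ¬ IsMulCommutative G) (hQ : Cfsg.IsQTKE G) (T : Sylow 2 G) (M M₀ H V : Subgroup G)
    (hM : M ∈ Cfsg.maxTwoLocalsContaining (T : Subgroup G))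
    (hTM₀ : (T : Subgroup G) ≤ M₀) (hM₀M : M₀ ≤ M) (hH : H ∈ Cfsg.calHMin (T : Subgroup G) M)
    (hV : V ∈ Cfsg.calR2 M₀)
    (hR : (Cfsg.pCore 2 ↥M₀).map M₀.subtype = (T : Subgroup G) ⊓ Subgroup.centralizer (V : Set G))
    (hI : H ⊓ M ≤ Subgroup.normalizer (Cfsg.oddGenerated M₀ : Set G) ∨
      H ⊓ M ≤ Subgroup.normalizer (V : Set G)) :
    (∃ R₀ : Subgroup G, R₀ ≠ ⊥ ∧ R₀ ≤ (Cfsg.pCore 2 ↥M₀).map M₀.subtype ∧
        M₀ ⊔ H ≤ Subgroup.normalizer (R₀ : Set G)) ∨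
      (¬ V ≤ (Cfsg.pCore 2 ↥H).map H.subtype ∧ Cfsg.CubicParamLE M₀ V 2) ∨
      Cfsg.QuadParamLE M₀ V 2 := by
  have : Fact (Nat.Prime 2) := ⟨Nat.prime_two⟩
  have hT := isSyl_top T
  obtain ⟨⟨⟨hH1, hTH⟩, hHM⟩, hmin⟩ := hH
  obtain ⟨hVM, nV, hVe, -⟩ := hV
  have hev := fun H a b => Cfsg.Agent.QT.isCharP_of_even (H := H) hQ.2.2 T a b
  have hO : pCoreOf 2 H ≠ ⊥ := fun e => hH1 (pCoreOf_eq_bot_iff.1 e)
  have hTM := hTM₀.trans hM₀M
  have hTH' := hT.mono hTH le_top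
  have hTM' := hT.mono hTM₀ le_top
  have hu : ∀ X, (T : Subgroup G) ≤ X → X ≤ H → X = H ∨ X ≤ M := fun X h1 h2 => by
    refine or_iff_not_imp_right.2 fun k => hmin X ⟨⟨fun e => hO (le_bot_iff.1 ?_), h1⟩, k⟩ h2
    rw [← pCoreOf_eq_bot_iff.2 e]
    exact le_pCoreOf (isPGroup_pCoreOf 2 H) (hTH'.pCoreOf_le.trans h1)
      (h2.trans (le_normalizer_pCoreOf 2 H))
  change pCoreOf 2 M₀ = _ at hR
  change (∃ R₀ : Subgroup G, R₀ ≠ ⊥ ∧ R₀ ≤ pCoreOf 2 M₀ ∧ _) ∨ (¬ V ≤ pCoreOf 2 H ∧ _) ∨ _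
  have nR := le_normalizer_pCoreOf 2 M₀
  by_contra! k
  obtain ⟨k1, k2, k3⟩ := k
  have key : ∀ Y, Y ≠ ⊥ → Y ≤ pCoreOf 2 M₀ → M₀ ≤ 𝐍[Y] → H ⊓ 𝐍[Y] ≤ M := fun Y a b c =>
    (hu _ (le_inf hTH (hTM₀.trans c)) inf_le_left).resolve_left fun e =>
      k1 Y a b (sup_le c (e.ge.trans inf_le_right))
  by_cases hV1 : V = ⊥
  · rw [hV1, centralizer_bot', inf_top_eq] at hR
    rw [hR] at nR key
    obtain ⟨Y, y1, y2, y3, y4⟩ := push_even hT hev hTH hO hTM hHM hu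
      (fun e => hO (le_bot_iff.1 (e ▸ hTH'.pCoreOf_le))) le_rfl (by rwa [hTH'.pRes_sup]) le_normalizer
    exact hHM ((le_inf le_rfl y4).trans (key Y y1 y2 (nR.trans y3)))
  have hVR : V ≤ pCoreOf 2 M₀ := le_pCoreOf (isEA_isPGroup hVe) hVM nV
  have hRT : pCoreOf 2 M₀ ≤ T := hTM'.pCoreOf_le
  have hP : P2 V T := fun B b1 b2 b3 => by
    by_contra! k
    exact k3 ⟨B, b1.trans hTM₀, induces_of_quad hVe (b1.trans (hTM₀.trans nV)) b2 b3, b2,
      by rwa [inf_relIndex_left]⟩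
  obtain ⟨h1, h2⟩ := hP.baumann_le hVe (hVR.trans hRT) (hTM₀.trans nV)
  have hBR : 𝐁[2, (T : Subgroup G)] ≤ pCoreOf 2 M₀ := hR ▸ le_inf (baumann_le _) h2
  have hJR := (thompson_le_baumann _).trans hBR
  by_cases hVQ : V ≤ pCoreOf 2 H
  · refine caseC hT hev hTH (hev H hTH hO) hTM hHM hVe (hTM₀.trans nV) hVQ hV1 (key V hV1 hVR nV) hP
      fun Y a b c => key Y a (b.trans hBR) (le_trans ?_ c)
    rw [← baumann_eq_of_le hBR hRT]
    exact nR.trans (normalizer_le_normalizer_baumann _)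
  obtain ⟨D, d1, d2⟩ : ∃ D, (T : Subgroup G) ⊓ D = pCoreOf 2 M₀ ∧ H ⊓ M ≤ 𝐍[D] := by
    rcases hI with hI | hI
    swap
    · exact ⟨_, hR.symm, le_normalizer_centralizer hI⟩
    rw [Cfsg.Agent.QT.oddGenerated_eq] at hI
    have n : ∀ X, X ≤ 𝐍[𝐎[2, M₀]] → X ≤ 𝐍[CommMod.centMod 𝐎[2, M₀] (pCoreOf 2 𝐎[2, M₀])] :=
      fun X hX => (le_inf hX (hX.trans (normalizer_le_normalizer_pCoreOf 2 _))).trans
        (CommMod.inf_normalizer_le_normalizer_centMod _ _)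
    have nK := le_normalizer_pRes 2 M₀
    have nO := nK.trans (normalizer_le_normalizer_pCoreOf 2 _)
    have hKM := pRes_le 2 M₀
    have hOR : pCoreOf 2 𝐎[2, M₀] ≤ pCoreOf 2 M₀ := pCoreOf_mono_of_normal hKM nK
    have h3 : pCoreOf 2 M₀ ≤ CommMod.centMod 𝐎[2, M₀] (pCoreOf 2 𝐎[2, M₀]) :=
      CommMod.le_centMod.2 ⟨(pCoreOf_le 2 M₀).trans nO, ((WC.commutator_le_inf_of
        ((pCoreOf_le 2 M₀).trans nK) (hKM.trans nR)).trans (inf_comm _ _).le).trans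
          (inf_pCoreOf_le hKM)⟩
    refine ⟨_, le_antisymm (le_pCoreOf (hT.pgrp.to_le inf_le_left) (inf_le_left.trans hTM₀) ?_)
      (le_inf hRT h3), n _ hI⟩
    refine hTM'.pRes_sup.ge.trans (sup_le (le_normalizer_iff_commutator_le_left.2 ?_)
      (le_normalizer_inf le_normalizer (n _ (hTM₀.trans nK))))
    exact ((commutator_mono inf_le_right le_rfl).trans (CommMod.commutator_centMod_le _ _)).trans
      (hOR.trans (le_inf hRT h3))
  obtain ⟨B, b1, b2⟩ := caseB hTH' (hev H hTH hO) hVe (hVR.trans hRT) hR.symm d1 d2 hJR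
    (key _ (fun e => hV1 (le_bot_iff.1 (h1.trans e.le))) hJR (by
      rw [← thompsonSubgroupOf_eq_of_le hJR hRT]
      exact nR.trans (ch_thompson _).normalizer_le)) hVQ
  refine k2 hVQ ⟨B, b1.trans hTM₀, ⟨b2.ne, fun b hb => ?_, fun a ha b hb => ?_⟩, b2.cub,
    by rw [inf_relIndex_left]; exact b2.idx⟩
  · rw [b2.ea.2 b hb]; exact one_mem _
  · rw [isEA_comm b2.ea ha hb, mul_inv_cancel_right, mul_inv_cancel]; exact one_mem _

end Cfsg.Agent.S1824
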