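import Cfsg.Statements.S1829
import Cfsg.Agent.W42.Fus

set_option autoImplicit false
open Cfsg

namespace Cfsg.Agent.S1829


open Subgroup Equiv Cfsg.Agent.W42 Cfsg.Agent.SylT Cfsg.Agent.Comp Cfsg.Agent.PLocal.Amb Cfsg.Agent.Gold
open Cfsg.Agent.BF
open scoped Pointwise

/-- the generators as permutations -/
def pg : ℕ → Perm (Fin 4 ⊕ Fin 4)
  | 0 => Perm.sumCongr pz 1
  | 1 => Perm.sumCongr 1 pz
  | 2 => Perm.sumCongr pu 1
  | 3 => Perm.sumCongr 1 pu
  | 4 => Perm.sumCongr pv 1
  | 5 => Perm.sumCongr 1 pv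
  | 6 => Equiv.sumComm _ _
  | _ => Perm.sumCongr 1 1

theorem valid : KB.Valid pg rules := by unfold KB.Valid; decide +kernel

theorem ne_one : ∀ x : K, KB.ev pg (TG.nf x) = 1 → x = 1 := by decide +kernel

theorem mem_sum (a b : Perm (Fin 4)) : Perm.sumCongr a b ∈ blockStabilizerS4wr2 := by
  rw [blockStabilizerS4wr2, MulAction.mem_stabilizer_iff, Set.smul_set_insert, Set.smul_set_singleton,
    Set.smul_set_range, Set.smul_set_range]
  congr 1
  · exact a.surjective.range_comp Sum.inl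
  · exact congrArg _ (b.surjective.range_comp Sum.inr)

theorem mem_pg : ∀ i, pg i ∈ blockStabilizerS4wr2
  | 0 | 1 | 2 | 3 | 4 | 5 | _ + 7 => mem_sum _ _
  | 6 => by
    rw [blockStabilizerS4wr2, MulAction.mem_stabilizer_iff, Set.smul_set_insert, Set.smul_set_singleton,
      Set.smul_set_range, Set.smul_set_range, Set.pair_comm]
    rfl

theorem comm (s s' : Perm (Fin 4)) : Perm.sumCongr s 1 * (pg 6 * Perm.sumCongr s' 1 * (pg 6)⁻¹) =
    pg 6 * Perm.sumCongr s' 1 * (pg 6)⁻¹ * Perm.sumCongr s 1 := by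
  ext (a | a) <;> rfl


/-- There is no non-abelian finite simple QTKE-group G with a Sylow 2-subgroup T and a maximal 2-local subgroup M containing T such that M is isomorphic to the wreath product S₄ ≀ Z₂ (the subgroup of the symmetric group of degree 8 preserving a partition into two blocks of size 4; order 1152). -/
theorem result {G : Type*} [Group G] [Finite G] [IsSimpleGroup G]
    (hG : ¬ IsMulCommutative G) (hQ : Cfsg.IsQTKE G) (T : Sylow 2 G) (M : Subgroup G)
    (hM : M ∈ Cfsg.maxTwoLocalsContaining (T : Subgroup G))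
    (hW : Nonempty (↥M ≃* ↥Cfsg.blockStabilizerS4wr2)) : False := by
  obtain ⟨e⟩ := hW
  obtain ⟨φ, h1, h2⟩ := TG.exists_hom chkR pg valid
  have hφ : ∀ x, φ x ∈ blockStabilizerS4wr2 := fun x => by
    rw [h2]
    exact list_prod_mem fun y hy => by
      obtain ⟨i, -, rfl⟩ := List.mem_map.1 hy
      exact mem_pg i
  let ψ := M.subtype.comp e.symm.toMonoidHom
  have hψ : Function.Injective ψ := M.subtype_injective.comp e.symm.injective
  let ι := ψ.comp (φ.codRestrict _ hφ)
  let θ := ψ.comp (((Perm.sumCongrHom (Fin 4) (Fin 4)).comp (MonoidHom.inl _ _)).codRestrict _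
    fun s => mem_sum s 1)
  have hι : Function.Injective ι := hψ.comp ((injective_iff_map_eq_one _).2 fun x hx =>
    ne_one x ((h2 x).symm.trans (congrArg Subtype.val hx)))
  have hc : Nat.card ι.range = 128 := by
    rw [← Nat.card_congr (MonoidHom.ofInjective hι).toEquiv, card_K]
  have hS : IsSyl 2 ι.range ⊤ := by
    refine (isSyl_top T).of_card_ge (IsPGroup.of_card (n := 7) hc) le_top ?_
    obtain ⟨k, hk⟩ := IsPGroup.iff_card.1 T.isPGroup'
    have := (card_dvd_of_le hM.2).trans ((Nat.card_congr e.toEquiv).dvd.trans (card_subgroup_dvd_card _))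
    rw [Nat.card_perm, Nat.card_sum, Nat.card_fin, hk] at this
    rw [hc, hk]
    refine Nat.pow_le_pow_right (n := 2) (j := 7) (by norm_num) (Nat.le_of_not_lt fun r => ?_)
    exact absurd ((pow_dvd_pow 2 r).trans this) (by decide)
  have hz : ι kz * ι kz = 1 := by rw [← map_mul, z_sq, map_one]
  have hz1 : ι kz ≠ 1 := fun r => z_ne (hι (r.trans (map_one ι).symm))
  refine DS.main (ι := ι) (θ := θ) ⟨⟨hι, hS⟩, hψ.comp fun a b r => ?_, ?_, ?_, fun s s' => ?_,
    fun N hN => ?_, charP_iff.1 (hQ.2.2 _ ⟨zpowers (ι kz), isPGroup_zpowers ⟨1, by rw [pow_one, sq, hz]⟩,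
      by rwa [Ne, zpowers_eq_bot], le_antisymm ?_ fun g hg => ?_⟩ ?_)⟩
    (hQ.1 3 Nat.prime_three (by norm_num) _ ⟨kV.map ι, hS.pgrp.to_le (map_le_range ι _), fun r => ?_, rfl⟩)
  · exact congrArg Prod.fst (Perm.sumCongrHom_injective (congrArg Subtype.val r))
  · exact congrArg ψ (Subtype.ext (h1 2 (by norm_num)).symm)
  · exact congrArg ψ (Subtype.ext (h1 4 (by norm_num)).symm)
  · change ψ _ * (ψ _ * ψ _ * (ψ _)⁻¹) = ψ _ * ψ _ * (ψ _)⁻¹ * ψ _
    simp only [← map_mul ψ, ← map_inv ψ]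
    refine congrArg ψ (Subtype.ext ?_)
    change _ * (φ (TG.gen 6) * _ * (φ (TG.gen 6))⁻¹) = φ (TG.gen 6) * _ * (φ (TG.gen 6))⁻¹ * _
    rw [h1 6 (by norm_num)]
    exact comm s s'
  · rcases (N.normal_of_index_eq_two hN).eq_bot_or_eq_top with rfl | rfl
    · rw [index_bot] at hN
      have := isCyclic_of_prime_card (p := 2) hN
      exact hG inferInstance
    · simp at hN
  · exact PLocal.Amb.centralizer_zpowers (ι kz) ▸ centralizer_le_normalizer' _
  · rcases (TT.mem_zpowers_invol hz).1 (conj_mem_of_mem_normalizer hg (mem_zpowers _)) with r | r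
    · exact absurd (by simpa using r) hz1
    · exact cj_self.1 r
  · obtain ⟨P, hP⟩ := hS.exists_sylow_top
    exact ⟨P, hP.le.trans (range_le_c ι)⟩
  · have := card_map_of_injective (K := kV) hι
    rw [r, card_V, card_bot] at this
    omega

end Cfsg.Agent.S1829
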