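import Mathlib
import Cfsg.Statements.S1852
import Cfsg.Agent.S1822
import Cfsg.Agent.S1824
import Cfsg.Agent.QT.XfAmb
-- import your own Cfsg.Agent.* helpers here

set_option autoImplicit false
open Cfsg

namespace Cfsg.Agent.S1852

open Subgroup Cfsg.Agent.PLocal Cfsg.Agent.PLocal.Amb Cfsg.Agent.QT Cfsg.Agent.QT.Xf
open Cfsg.Agent.PLocal.CommMod (centMod mem_centMod le_centMod)
open scoped commutatorElement Cfsg.Agent.PLocal.CP


/-- Let G be a non-abelian finite simple QTKE-group and T a Sylow 2-subgroup of G lying in at least two distinct maximal 2-local subgroups of G. Let X be a member of Ξ*(G, T) — X = O²(X) is T-invariant with O₂(XT) ≠ 1, X/O₂(X) is elementary abelian of order p² or extraspecial of order p³ for some odd prime p, T is irreducible on the Frattini quotient of X/O₂(X), and XT lies in no ⟨L, T⟩ with L ∈ ℒ(G, T) and L/O₂(L) quasisimple — that also lies in 𝒳 (F*(X) = O₂(X)) and acts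 nontrivially on Ω₁(Z(O₂(X))) (a faithful solvable uniqueness group). Then either X is a {2, 3}-group, or X/O₂(X) is a 5-group and the group of automorphisms of X/O₂(X) induced by N_G(X) is a {2, 5}-group (rendered: for every prime r other than 2 and 5, an element of N_G(X) whose r-th power acts trivially on X/O₂(X) itself acts trivially on X/O₂(X)). -/
theorem result {G : Type*} [Group G] [Finite G] [IsSimpleGroup G]
    (hG : ¬ IsMulCommutative G) (hQ : Cfsg.IsQTKE G) (T : Sylow 2 G) (X : Subgroup G)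
    (hT : ∃ M₁ M₂ : Subgroup G, M₁ ∈ Cfsg.maxTwoLocalsContaining (T : Subgroup G) ∧
      M₂ ∈ Cfsg.maxTwoLocalsContaining (T : Subgroup G) ∧ M₁ ≠ M₂)
    (hX : X ∈ Cfsg.XiStar (T : Subgroup G)) (hXf : X ∈ Cfsg.calXf G) :
    (∀ p : ℕ, p.Prime → p ∣ Nat.card ↥X → p = 2 ∨ p = 3) ∨
    (IsPGroup 5 (↥X ⧸ Cfsg.pCore 2 ↥X) ∧
      ∀ r : ℕ, r.Prime → r ≠ 2 → r ≠ 5 → ∀ g ∈ Subgroup.normalizer (X : Set G),
        (∀ x ∈ X, g ^ r * x * (g ^ r)⁻¹ * x⁻¹ ∈ Cfsg.pCoreTwoOf X) →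
          ∀ x ∈ X, g * x * g⁻¹ * x⁻¹ ∈ Cfsg.pCoreTwoOf X) := by
  have : Fact (Nat.Prime 2) := ⟨Nat.prime_two⟩
  obtain ⟨p, hp, P, h⟩ := exists_xiData hX.1
  have hr := rel_le_sq hX.1 h
  have hq := quot_pgroup h
  by_cases h3 : p = 3
  · refine Or.inl fun q q1 q2 => ?_
    obtain ⟨a, ha⟩ := IsPGroup.iff_card.1 (isPGroup_pCore' 2 X)
    obtain ⟨b, hb⟩ := IsPGroup.iff_card.1 hq
    rw [card_eq_card_quotient_mul_card_subgroup (pCore 2 X), ha, hb, h3] at q2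
    rcases (Nat.Prime.dvd_mul q1).1 q2 with e | e
    · exact Or.inr ((Nat.prime_dvd_prime_iff_eq q1 Nat.prime_three).1 (q1.dvd_of_dvd_pow e))
    · exact Or.inl ((Nat.prime_dvd_prime_iff_eq q1 Nat.prime_two).1 (q1.dvd_of_dvd_pow e))
  have h5 : 5 ≤ p := hp.out.five_le_of_ne_two_of_ne_three h.hp2 h3
  have c2 : ∀ k, (2 ^ k).Coprime p := fun k =>
    ((Nat.coprime_primes Nat.prime_two hp.out).2 h.hp2.symm).pow_left k
  have hM := S1822.result hG hQ T X hX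
  have hTs := isSyl_top T
  set Q := pCoreOf 2 X with hQd
  set Φ := twoPhiCore X with hΦd
  have nQ : 𝐍[X] ≤ 𝐍[Q] := normalizer_le_normalizer_pCoreOf 2 X
  have nΦ : 𝐍[X] ≤ 𝐍[Φ] := by
    have : ((frattini (X ⧸ pCore 2 X)).comap (QuotientGroup.mk' (pCore 2 X))).Characteristic :=
      Characteristic.comap_quotient_mk inferInstance
    exact CP.normalizer_le_normalizer_map_subtype X _
  have XT : X ⊔ (T : Subgroup G) ≤ 𝐍[X] := sup_le le_normalizer h.TX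
  have sXT : IsSyl 2 (T : Subgroup G) (X ⊔ T) := hTs.mono le_sup_right le_top
  have QT : Q ≤ T := (pCoreOf_mono_of_normal le_sup_left XT).trans sXT.pCoreOf_le
  have uq : ∀ Y : Subgroup G, pCoreOf 2 Y ≠ ⊥ → X ⊔ T ≤ Y → Y ≤ 𝐍[X] := fun Y a b => by
    obtain ⟨M, m1, m2⟩ := exists_maxTwoLocal a
    have : M ∈ maxTwoLocalsContaining (X ⊔ (T : Subgroup G)) := ⟨m1, b.trans m2⟩
    rw [hM] at this
    exact this ▸ m2
  set C := centMod X Q ⊓ 𝐍[X] with hC
  have nC : 𝐍[X] ≤ 𝐍[C] := le_normalizer_inf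
    ((le_inf le_rfl nQ).trans (CommMod.inf_normalizer_le_normalizer_centMod _ _)) le_normalizer
  set R := (T : Subgroup G) ⊓ C with hR
  have sR : IsSyl 2 R C := (hTs.mono h.TX le_top).inf_of_le inf_le_right nC
  have QR : Q ≤ R := le_inf QT (le_inf (le_centMod.2 ⟨le_normalizer,
    le_normalizer_iff_commutator_le_left.1 h.XQ⟩) ((pCoreOf_le 2 X).trans le_normalizer))
  have nR : X ⊔ (T : Subgroup G) ≤ 𝐍[R] := sup_le (le_normalizer_iff_commutator_le_left.2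
    (((commutator_mono (inf_le_right.trans inf_le_left) le_rfl).trans
      (CommMod.commutator_centMod_le _ _)).trans QR)) (le_normalizer_inf le_normalizer (h.TX.trans nC))
  have eR : pCoreOf 2 (X ⊔ (T : Subgroup G)) = R := by
    refine le_antisymm (le_inf sXT.pCoreOf_le (le_inf (le_centMod.2 ⟨?_, ?_⟩) ?_))
      (le_pCoreOf sR.pgrp (inf_le_left.trans le_sup_right) nR)
    · exact ((pCoreOf_le 2 _).trans XT).trans nQ
    · refine le_trans (le_inf ?_ ?_) (inf_pCoreOf_le (L := X ⊔ (T : Subgroup G)) le_sup_left)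
      · exact le_normalizer_iff_commutator_le_right.1 ((pCoreOf_le 2 _).trans XT)
      · exact le_normalizer_iff_commutator_le_left.1 (le_sup_left.trans (le_normalizer_pCoreOf 2 _))
    · exact (pCoreOf_le 2 _).trans XT
  set V := ΩZ[2, R] with hV
  have eV : IsElementaryAbelian 2 V := CP.omegaZ_isEA R
  have nV : 𝐍[R] ≤ 𝐍[V] := CP.normalizer_le_normalizer_omegaZ R
  have RV : R ≤ 𝐂[V] := CP.le_centralizer_omegaZ R
  have XV : ¬ X ≤ 𝐂[V] := fun e => by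
    have eW : IsElementaryAbelian 2 ΩZ[2, Q] := CP.omegaZ_isEA Q
    have nW : 𝐍[X] ≤ 𝐍[ΩZ[2, Q]] := nQ.trans (CP.normalizer_le_normalizer_omegaZ Q)
    have UW : ⁅ΩZ[2, Q], X⁆ ≤ ΩZ[2, Q] :=
      le_normalizer_iff_commutator_le_left.1 (le_normalizer.trans nW)
    have u1 : ⁅ΩZ[2, Q], X⁆ ≤ ⁅ΩZ[2, Q], P⁆ := (commutator_mono le_rfl h.QP).trans
      (CP.commutator_sup_le (((CP.le_centralizer_omegaZ Q).trans (Amb.centralizer_anti
        ((commutator_mono le_rfl h.PX).trans UW))).trans (centralizer_le_normalizer' _))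
        (Solv.le_normalizer_commutator_right _ _) ((commutator_eq_bot_iff_le_centralizer.2
          (CP.omegaZ_le_centralizer Q)).le.trans bot_le) le_rfl)
    have := eW.1
    obtain ⟨a, ha⟩ := IsPGroup.iff_card.1 (CP.isPGroup_omegaZ (p := 2) Q)
    have u2 := Solv.coprime_centralizer_inf_commutator P ΩZ[2, Q]
      (h.PX.trans (le_normalizer.trans nW))
      (by rw [ha]; exact (Solv.coprime_card_of_isPGroup h.Pp (c2 a)).symm)
    refine inf_centralizer_ne_bot sR.pgrp ((CP.isPGroup_omegaZ (p := 2) Q).to_le UW)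
      (le_normalizer_commutator (inf_le_left.trans (h.TX.trans nW)) (inf_le_left.trans h.TX))
      hXf.2 (eq_bot_iff.2 fun u hu => ?_)
    rw [← u2]
    have : u ∈ V := CP.mem_omegaZ.2 ⟨QR (CP.omegaZ_le Q (UW hu.1)), hu.2, eW.2 u (UW hu.1)⟩
    exact ⟨⟨UW hu.1, Amb.centralizer_anti h.PX (le_centralizer_iff.1 e this)⟩, u1 hu.1⟩
  have nK : X ⊔ (T : Subgroup G) ≤ 𝐍[𝐂[V]] := le_normalizer_centralizer (nR.trans nV)
  have hk : X ⊓ 𝐂[V] ≤ Φ := (h.eq_or_le inf_le_left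
    (le_normalizer_inf le_normalizer (le_sup_left.trans nK))
    (le_normalizer_inf h.TX (le_sup_right.trans nK))).resolve_left fun e => XV (e.trans inf_le_right)
  have fa : ∀ b ∈ X ⊔ (T : Subgroup G), (∀ x ∈ X, ⁅b, x⁆ ∈ Φ) → ∀ k, b ^ 2 ^ k ∈ 𝐂[V] →
      b ∈ 𝐂[V] := fun b b1 b2 k b3 => by
    obtain ⟨j, m, hm, e⟩ := Nat.exists_eq_pow_mul_and_not_dvd (orderOf_pos b).ne' 2 (by norm_num)
    refine mem_cop (((Nat.Prime.coprime_iff_not_dvd Nat.prime_two).2 hm).pow_left k) b3 (RV ?_)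
    have e1 : (b ^ m) ^ 2 ^ j = 1 := by rw [← pow_mul, mul_comm, ← e, pow_orderOf_eq_one]
    have e2 : b ^ m ∈ centMod X Φ := pow_mem (mem_centMod.2 ⟨nΦ (XT b1), b2⟩) m
    have e3 : b ^ m ∈ C := ⟨mem_centMod.2 ⟨nQ (XT (pow_mem b1 m)), burG h hr nQ nΦ
      (XT (pow_mem b1 m)) (c2 j) (mem_centMod.1 e2).2 fun x _ => by
        rw [e1, commutatorElement_one_left]; exact one_mem _⟩, XT (pow_mem b1 m)⟩
    exact zpowers_le.1 (sR.le_of_normalizes (isPGroup_zpowers ⟨j, e1⟩) (zpowers_le.2 e3)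
      (zpowers_le.2 (nR (pow_mem b1 m))))
  have r2 : V ∈ calR2 (X ⊔ (T : Subgroup G)) := by
    refine ⟨(CP.omegaZ_le R).trans (inf_le_left.trans le_sup_right), nR.trans nV, eV,
      fun N n1 n2 n3 ⟨k, n4⟩ => le_antisymm (fun b hb => ⟨n1 hb, ?_⟩) n3⟩
    have pw : ∀ y ∈ N, y ^ 2 ^ k ∈ 𝐂[V] := fun y hy => by
      have := normal_subgroupOf' (n1.trans (le_normalizer_inf le_normalizer nK))
      have := pow_index_mem (H := ((X ⊔ (T : Subgroup G)) ⊓ 𝐂[V]).subgroupOf N) ⟨y, hy⟩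
      rw [show (((X ⊔ (T : Subgroup G)) ⊓ 𝐂[V]).subgroupOf N).index = 2 ^ k from n4] at this
      exact this.2
    refine fa b (n1 hb) (fun x hx => ?_) k (pw b hb)
    have y1 : ⁅b, x⁆ ∈ X := comm_mem (XT (n1 hb)) hx
    have y2 : ⁅b, x⁆ ∈ N := le_normalizer_iff_commutator_le_left.1 (le_sup_left.trans n2)
      (commutator_mem_commutator hb hx)
    obtain ⟨j, hj⟩ := hq (QuotientGroup.mk' _ ⟨_, y1⟩)
    rw [← map_pow, QuotientGroup.mk'_apply, QuotientGroup.eq_one_iff, ← pCoreOf_subgroupOf] at hj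
    exact hk ⟨y1, mem_cop ((c2 k).pow_right j) (pw _ y2) (RV (QR hj))⟩
  have hMX : 𝐍[X] ∈ maxTwoLocalsContaining (X ⊔ (T : Subgroup G)) := hM ▸ rfl
  obtain ⟨H, hH⟩ : ∃ H, H ∈ calHMin (T : Subgroup G) 𝐍[X] := by
    have ne : (calHOverNotLE (T : Subgroup G) 𝐍[X]).Nonempty := by
      obtain ⟨M₁, M₂, m1, m2, m3⟩ := hT
      have : ∀ M ∈ maxTwoLocalsContaining (T : Subgroup G), M ≠ 𝐍[X] →
          M ∈ calHOverNotLE (T : Subgroup G) 𝐍[X] := fun M a b =>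
        ⟨⟨fun e => pCoreOf_ne_bot_of_twoLocal a.1.1 (pCoreOf_eq_bot_iff.2 e), a.2⟩,
          fun e => b (a.1.2 _ hMX.1.1 e).symm⟩
      by_cases e : M₁ = 𝐍[X]
      · exact ⟨M₂, this _ m2 fun e' => m3 (e.trans e'.symm)⟩
      · exact ⟨M₁, this _ m1 e⟩
    obtain ⟨H, h1, h2⟩ := WellFounded.has_min (wellFounded_lt (α := Subgroup G)) _ ne
    exact ⟨H, h1, fun K k1 k2 => k2.lt_or_eq.resolve_left (h2 K k1)⟩
  have eC : pCoreOf 2 (X ⊔ (T : Subgroup G)) = (T : Subgroup G) ⊓ 𝐂[V] := by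
    rw [eR]
    refine le_antisymm (le_inf inf_le_left RV) fun t ht => ⟨ht.1, mem_centMod.2 ⟨nQ (h.TX ht.1), ?_⟩,
      h.TX ht.1⟩
    obtain ⟨j, hj⟩ := isPGroup_iff.1 hTs.pgrp t ht.1
    refine burG h hr nQ nΦ (h.TX ht.1) (c2 j) (fun x hx => hk ⟨comm_mem (h.TX ht.1) hx, ?_⟩)
      fun x _ => by rw [hj, commutatorElement_one_left]; exact one_mem _
    exact le_normalizer_iff_commutator_le_left.1 (le_sup_left.trans nK)
      (commutator_mem_commutator ht.2 hx)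
  obtain ⟨B, b1, b2, b3⟩ : ∃ B, B ≤ X ⊔ (T : Subgroup G) ∧ InducesElemAbelianTwoGroupOn B V ∧
      (V ⊓ 𝐂[B]).relIndex V ≤ (𝐂[V]).relIndex B ^ 2 := by
    rcases S1824.result hG hQ T 𝐍[X] (X ⊔ T) H V ⟨hMX.1, h.TX⟩ le_sup_right XT hH r2 eC (Or.inl (by
      rw [oddGenerated_eq, pRes_sup_eq hTs.pgrp h.TX, h.res]; exact inf_le_right)) with
      ⟨R₀, r1, r3, r4⟩ | ⟨-, B, b1, b2, -, b3⟩ | ⟨B, b1, b2, -, b3⟩
    · refine absurd (le_sup_right.trans (r4.trans (uq _ (fun e => r1 (le_bot_iff.1 ?_))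
        (le_sup_left.trans r4)))) hH.1.2
      rw [← e]
      exact le_pCoreOf ((isPGroup_pCoreOf 2 _).to_le r3) le_normalizer le_rfl
    · exact ⟨B, b1, b2, b3⟩
    · exact ⟨B, b1, b2, b3⟩
  obtain ⟨rfl, t⟩ := modG eV h hr h5 (le_sup_left.trans (nR.trans nV))
    (le_sup_right.trans (nR.trans nV)) (QR.trans RV) hk b1 b2
    (fun b hb e => fa b (b1 hb) e 1 (by rw [pow_one]; exact b2.2.1 b hb)) b3
  refine Or.inr ⟨hq, fun r r1 r2 r5 g hg e => ?_⟩
  obtain ⟨c, hc, y, hy, rfl⟩ := sR.frattini (nC hg)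
  have yX : y ∈ 𝐍[X] := (mul_mem_cancel_left (show c ∈ 𝐍[X] from hc.2)).1 hg
  have e1 : (c * y) ^ r ∈ C := ⟨mem_centMod.2 ⟨nQ (pow_mem hg r), e⟩, pow_mem hg r⟩
  have e2 : y ^ r ∈ C := by
    have : ∀ k : ℕ, (c * y) ^ k * (y ^ k)⁻¹ ∈ C := fun k => by
      induction k with
      | zero => simp
      | succ k ih =>
        convert mul_mem hc (Amb.conj_mem_of_mem_normalizer (nC yX) ih) using 1
        rw [pow_succ', pow_succ]; group
    simpa using mul_mem (inv_mem (this r)) e1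
  have e3 : y ∈ centMod X Q := mem_centMod.2 ⟨nQ yX, burG h hr nQ nΦ yX
    ((Nat.coprime_primes r1 hp.out).2 r5) (t y (nV hy) yX (nΦ yX) r (r1.odd_of_ne_two r2)
      (mem_centMod.1 e2.1).2) (mem_centMod.1 e2.1).2⟩
  exact (mem_centMod.1 (mul_mem hc.1 e3)).2

end Cfsg.Agent.S1852
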