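import Cfsg.Statements.S1892
import Mathlib
import Cfsg.Agent.PLocal.PSolvHall

set_option autoImplicit false
open Cfsg

namespace Cfsg.Agent.S1892

open scoped commutatorElement

/-- Let S be a finite p-solvable group with no nontrivial normal subgroup of order prime to p, A a p-subgroup of S, and Q a nontrivial A-invariant subgroup of order prime to p with [A, Q] = Q. Then the commutator [O_p(S), A, Q] is nontrivial. -/
theorem result {S : Type*} [Group S] [Finite S] {p : ℕ} [Fact p.Prime]
    (hS : Cfsg.IsPSolvable p S) (hred : Cfsg.pPrimeCore p S = ⊥)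
    (A Q : Subgroup S) (hA : IsPGroup p A) (hQ : ¬ p ∣ Nat.card Q) (hQ1 : Q ≠ ⊥)
    (hinv : ∀ a ∈ A, ∀ x ∈ Q, a * x * a⁻¹ ∈ Q) (hAQ : ⁅A, Q⁆ = Q) :
    ⁅⁅Cfsg.pCore p S, A⁆, Q⁆ ≠ ⊥ := by
  intro h
  set P := Cfsg.pCore p S with hP
  set N := ⁅P, A⁆ with hN
  have hPn : P.Normal := inferInstance
  let T : Subgroup S :=
    { carrier := {g | g ∈ Subgroup.normalizer (N : Set S) ∧ ∀ x ∈ P, g * x * g⁻¹ * x⁻¹ ∈ N}
      one_mem' := ⟨one_mem _, fun x _ => by simp⟩
      mul_mem' := fun {a b} ha hb => ⟨mul_mem ha.1 hb.1, fun x hx => by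
        have h1 := (Subgroup.mem_normalizer_iff.mp ha.1 _).mp (hb.2 x hx)
        have := N.mul_mem h1 (ha.2 x hx)
        convert this using 1
        group⟩
      inv_mem' := fun {a} ha => ⟨inv_mem ha.1, fun x hx => by
        have := N.inv_mem (ha.2 _ (hPn.conj_mem x hx a⁻¹))
        convert this using 1
        group⟩ }
  have hQN : Q ≤ Subgroup.normalizer (N : Set S) :=
    (Subgroup.le_centralizer_iff.mp (Subgroup.commutator_eq_bot_iff_le_centralizer.mp h)).trans
      (Subgroup.centralizer_le_normalizer _)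
  have hAT : A ≤ T := fun a ha => ⟨Solv.le_normalizer_commutator_right P A ha, fun x hx => by
    rw [hN, Subgroup.commutator_comm]
    exact Subgroup.commutator_mem_commutator ha hx⟩
  have hconj : ∀ q ∈ Q, ∀ t ∈ T, q * t * q⁻¹ ∈ T := fun q hq t ht =>
    ⟨mul_mem (mul_mem (hQN hq) ht.1) (inv_mem (hQN hq)), fun x hx => by
      have h1 := ht.2 _ (hPn.conj_mem x hx q⁻¹)
      have := (Subgroup.mem_normalizer_iff.mp (hQN hq) _).mp h1
      convert this using 1
      group⟩
  have hQT : Q ≤ T := by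
    rw [← hAQ, Subgroup.commutator_le]
    intro a ha q hq
    have := T.mul_mem (hAT ha) (hconj q hq _ (T.inv_mem (hAT ha)))
    convert this using 1
    rw [commutatorElement_def]
    group
  have hPQ : ⁅P, Q⁆ ≤ N := by
    rw [Subgroup.commutator_comm, Subgroup.commutator_le]
    exact fun q hq x hx => (hQT hq).2 x hx
  have hcop : (Nat.card Q).Coprime p := ((Nat.Prime.coprime_iff_not_dvd Fact.out).mpr hQ).symm
  have h2 := Solv.coprime_commutator_eq_bot Q P Subgroup.le_normalizer_of_normal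
    (Solv.coprime_card_of_isPGroup (Grp.pCore_isPGroup p S) hcop)
    (Or.inr (Solv.isSolvable_of_isPGroup (Grp.pCore_isPGroup p S)))
    (le_bot_iff.mp ((Subgroup.commutator_mono hPQ le_rfl).trans h.le))
  have h3 : Q ≤ P :=
    (Subgroup.le_centralizer_iff.mp (Subgroup.commutator_eq_bot_iff_le_centralizer.mp h2)).trans
      (PLocal.centralizer_pCore_le_of_isPSolvable hS hred)
  have h4 := Grp.inf_eq_bot_of_isPGroup_of_coprime (Grp.pCore_isPGroup p S) hcop
  exact hQ1 (by rwa [inf_eq_right.mpr h3] at h4)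

end Cfsg.Agent.S1892
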