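import Cfsg.Statements.S1901
import Mathlib
import Cfsg.Agent.PLocal.PSolvHall

set_option autoImplicit false
open Cfsg

namespace Cfsg.Agent.S1901

universe u in
theorem aux {p : ℕ} [Fact p.Prime] (G : Type u) [Group G] [Finite G] :
    Cfsg.IsPSolvable p G → ∀ (Q X : Subgroup G) (P : Sylow p G), (Nat.card Q).Coprime p →
      IsPGroup p X → X ≤ Subgroup.normalizer (Q : Set G) →
      Q ≤ Subgroup.normalizer ((P : Subgroup G) : Set G) → ⁅Q, X⁆ = ⊥ := by
  refine Grp.card_induction (P := fun G _ _ => Cfsg.IsPSolvable p G →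
    ∀ (Q X : Subgroup G) (P : Sylow p G), (Nat.card Q).Coprime p →
      IsPGroup p X → X ≤ Subgroup.normalizer (Q : Set G) →
      Q ≤ Subgroup.normalizer ((P : Subgroup G) : Set G) → ⁅Q, X⁆ = ⊥) ?_ G
  intro G _ _ ih hG Q X P hQ hX hXQ hQP
  rcases subsingleton_or_nontrivial G with h1 | h1
  · exact Subsingleton.elim _ _
  obtain ⟨M, hMn, hM, hMp⟩ := PLocal.IsPSolvable.exists_normal hG
  have h2 := ih (G ⧸ M) (Grp.card_quotient_lt M hM) (PLocal.IsPSolvable.quotient hG M)
    (Q.map (QuotientGroup.mk' M)) (X.map (QuotientGroup.mk' M))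
    (P.mapSurjective (QuotientGroup.mk'_surjective M))
    (Nat.Coprime.coprime_dvd_left (Subgroup.card_map_dvd _ _) hQ) (hX.map _)
    ((Subgroup.map_mono hXQ).trans (Subgroup.le_normalizer_map _))
    ((Subgroup.map_mono hQP).trans (Subgroup.le_normalizer_map _))
  rw [← Subgroup.map_commutator, Subgroup.map_eq_bot_iff, QuotientGroup.ker_mk'] at h2
  have h3 : ⁅Q, X⁆ ≤ Q := Solv.commutator_le_of_le_normalizer hXQ
  rcases hMp with hMp | hMp
  · exact le_bot_iff.mp ((le_inf h2 h3).trans (Grp.inf_eq_bot_of_isPGroup_of_coprime hMp hQ).le)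
  · set R := ⁅Q, X⁆ with hR
    have hRP : ⁅(P : Subgroup G), R⁆ = ⊥ := by
      refine le_bot_iff.mp (le_trans (le_inf ?_ ?_)
        (Grp.inf_eq_bot_of_isPGroup_of_coprime P.isPGroup' hMp).le)
      · exact Solv.commutator_le_of_le_normalizer (h3.trans hQP)
      · exact (Subgroup.commutator_mono le_rfl h2).trans (Subgroup.commutator_le_right _ _)
    have hPC : (P : Subgroup G) ≤ Subgroup.centralizer (R : Set G) :=
      Subgroup.commutator_eq_bot_iff_le_centralizer.mp hRP
    have hXR : X ≤ Subgroup.normalizer (R : Set G) := Solv.le_normalizer_commutator_right Q X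
    have hXC : X ≤ Subgroup.centralizer (R : Set G) := by
      set N := Subgroup.normalizer (R : Set G)
      set C := Subgroup.centralizer (R : Set G)
      have hCN : C ≤ N := Subgroup.centralizer_le_normalizer _
      have hn : (C.subgroupOf N).Normal :=
        Subgroup.normal_subgroupOf_of_le_normalizer (Solv.le_normalizer_centralizer le_rfl)
      have hidx : C.relIndex N ∣ (P : Subgroup G).index :=
        (Subgroup.relIndex_dvd_index_of_le hCN).trans (Subgroup.index_dvd_of_le hPC)
      have := Grp.le_normal_of_coprime_card_index (N := C.subgroupOf N) (H := X.subgroupOf N) (by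
        obtain ⟨k, hk⟩ := hX.exists_card_eq
        rw [Grp.card_subgroupOf_of_le hXR, hk]
        exact Nat.Coprime.pow_left k ((Nat.Prime.coprime_iff_not_dvd Fact.out).mpr
          fun h => P.not_dvd_index (h.trans hidx)))
      exact fun x hx => this (show (⟨x, hXR hx⟩ : N) ∈ X.subgroupOf N from hx)
    exact Solv.coprime_commutator_eq_bot X Q hXQ (Solv.coprime_card_of_isPGroup hX hQ).symm
      (Or.inl (Solv.isSolvable_of_isPGroup hX))
      (Subgroup.commutator_eq_bot_iff_le_centralizer.mpr (Subgroup.le_centralizer_iff.mp hXC))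

/-- Let G be a finite p-solvable group and Q a subgroup of order prime to p such that p divides the index of C_G(Q) in N_G(Q). Then Q normalizes no Sylow p-subgroup of G. -/
theorem result {G : Type*} [Group G] [Finite G] {p : ℕ} [Fact p.Prime]
    (hG : Cfsg.IsPSolvable p G) (Q : Subgroup G) (hQ : ¬ p ∣ Nat.card Q)
    (hA : p ∣ (Subgroup.centralizer (Q : Set G)).relIndex (Subgroup.normalizer (Q : Set G)))
    (P : Sylow p G) : ¬ Q ≤ Subgroup.normalizer ((P : Subgroup G) : Set G) := by
  intro hQP
  have hcop : (Nat.card Q).Coprime p := ((Nat.Prime.coprime_iff_not_dvd Fact.out).mpr hQ).symm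
  set N := Subgroup.normalizer (Q : Set G)
  set C := Subgroup.centralizer (Q : Set G)
  obtain ⟨T⟩ : Nonempty (Sylow p N) := inferInstance
  have h := aux G hG Q ((T : Subgroup N).map N.subtype) P hcop (T.isPGroup'.map _)
    (Subgroup.map_subtype_le _) hQP
  have hTC : (T : Subgroup N) ≤ C.subgroupOf N := by
    rw [Subgroup.subgroupOf, ← Subgroup.map_le_iff_le_comap]
    exact Subgroup.le_centralizer_iff.mp (Subgroup.commutator_eq_bot_iff_le_centralizer.mp h)
  exact T.not_dvd_index (hA.trans (Subgroup.index_dvd_of_le hTC))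

end Cfsg.Agent.S1901
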