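import Cfsg.Statements.S1902
import Mathlib
import Cfsg.Agent.PLocal.PSolvHall
import Cfsg.Agent.PLocal.BenderPQ
import Cfsg.Agent.PLocal.CoprimeQuot

set_option autoImplicit false
open Cfsg

namespace Cfsg.Agent.S1902

open scoped commutatorElement

/-- Let p be an odd prime, G a finite p-solvable group, and B an elementary abelian subgroup of order p² such that B is the subgroup generated by the elements of order p of some Sylow p-subgroup of C_G(b₀), for some nontrivial b₀ ∈ B. Then every B-invariant subgroup of G of order prime to p lies in O_{p'}(G). -/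
theorem result {G : Type*} [Group G] [Finite G] {p : ℕ} [Fact p.Prime] (hp : p ≠ 2)
    (hG : Cfsg.IsPSolvable p G) (B : Subgroup G) (hB : Cfsg.IsElementaryAbelian p B) (hBc : Nat.card B = p ^ 2)
    (b₀ : G) (hb₀ : b₀ ∈ B) (hb₁ : b₀ ≠ 1) (P : Sylow p ↥(Subgroup.centralizer ({b₀} : Set G)))
    (hBP : B = Subgroup.closure {x : G | x ∈ ((P : Subgroup ↥(Subgroup.centralizer ({b₀} : Set G))).map
      (Subgroup.centralizer ({b₀} : Set G)).subtype : Subgroup G) ∧ orderOf x = p})
    (Q : Subgroup G) (hQ : ¬ p ∣ Nat.card Q) (hinv : ∀ b ∈ B, ∀ x ∈ Q, b * x * b⁻¹ ∈ Q) :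
    Q ≤ Cfsg.pPrimeCore p G := by
  set O := Cfsg.pPrimeCore p G with hO
  set π := QuotientGroup.mk' O with hπ
  have hπs : Function.Surjective π := QuotientGroup.mk'_surjective O
  have hker : (Nat.card π.ker).Coprime p := by
    rw [hπ, QuotientGroup.ker_mk']; exact Grp.pPrimeCore_coprime p G
  set R := Cfsg.pCore p (G ⧸ O) with hR
  have hRp : IsPGroup p R := Grp.pCore_isPGroup p _
  have hRn : R.Normal := inferInstance
  have hBp : IsPGroup p B := Grp.isPGroup_of_pow_eq_one hB.2
  have hQc : (Nat.card Q).Coprime p := ((Nat.Prime.coprime_iff_not_dvd Fact.out).mpr hQ).symm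
  have hQc' : (Nat.card (Q.map π)).Coprime p :=
    Nat.Coprime.coprime_dvd_left (Subgroup.card_map_dvd _ _) hQc
  have hBQ : B ≤ Subgroup.normalizer (Q : Set G) := fun b hb => by
    rw [Subgroup.mem_normalizer_iff]
    refine fun x => ⟨hinv b hb x, fun h => ?_⟩
    have := hinv b⁻¹ (B.inv_mem hb) _ h
    simpa [mul_assoc] using this
  have hBQ' : B.map π ≤ Subgroup.normalizer ((Q.map π : Subgroup _) : Set (G ⧸ O)) :=
    (Subgroup.map_mono hBQ).trans (Subgroup.le_normalizer_map _)
  let C := Subgroup.centralizer ({b₀} : Set G)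
  set C' := Subgroup.centralizer ({π b₀} : Set (G ⧸ O)) with hC'
  have hCC : C.map π = C' := PLocal.map_centralizer_singleton_of_pow_eq_one (k := 1) π hπs
    (by rw [pow_one]; exact hB.2 b₀ hb₀) hker
  let f : C →* C' := (π.comp C.subtype).codRestrict _ fun c => hCC ▸ Subgroup.mem_map_of_mem π c.2
  have hf : Function.Surjective f := by
    rintro ⟨y, hy⟩
    rw [← hCC] at hy
    obtain ⟨x, hx, rfl⟩ := hy
    exact ⟨⟨x, hx⟩, rfl⟩
  have hle : R.subgroupOf C' ≤ P.mapSurjective hf :=
    (Grp.le_pCore inferInstance hRp.comap_subtype).trans (Grp.pCore_le_sylow _)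
  have key := PLocal.bender_pq hp (hBp.map π) hQc' hRp hBQ' Subgroup.le_normalizer_of_normal
    Subgroup.le_normalizer_of_normal (fun x hx hxp hxB => by
      have hxC : x ∈ C' := by
        rw [hC', Subgroup.mem_centralizer_singleton_iff]
        exact (hxB _ (Subgroup.mem_map_of_mem π hb₀)).symm
      obtain ⟨y, hy, hyx⟩ := hle (show (⟨x, hxC⟩ : C') ∈ R.subgroupOf C' from hx)
      have hyx' : π y = x := congrArg Subtype.val hyx
      have hyp : (y : G) ^ p = 1 := by
        have h1 : (y : G) ^ p ∈ π.ker := by rw [MonoidHom.mem_ker, map_pow, hyx', hxp]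
        have h2 : (y : G) ^ p ∈ (P : Subgroup C).map C.subtype :=
          Subgroup.pow_mem _ (Subgroup.mem_map_of_mem _ hy) _
        have h3 := Grp.inf_eq_bot_of_isPGroup_of_coprime (P.isPGroup'.map C.subtype) hker
        exact Subgroup.mem_bot.mp (h3 ▸ Subgroup.mem_inf.mpr ⟨h2, h1⟩)
      have hyB : (y : G) ∈ B := by
        by_cases h1 : (y : G) = 1
        · rw [h1]; exact B.one_mem
        · rw [hBP]
          exact Subgroup.subset_closure ⟨Subgroup.mem_map_of_mem _ hy, orderOf_eq_prime hyp h1⟩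
      have hxB' : x ∈ B.map π := hyx' ▸ Subgroup.mem_map_of_mem π hyB
      intro q hq
      have h1 : ⁅q, x⁆ ∈ R := by
        rw [commutatorElement_def]
        exact R.mul_mem (hRn.conj_mem x hx q) (R.inv_mem hx)
      have h2 : ⁅q, x⁆ ∈ Q.map π := Solv.commutator_le_of_le_normalizer hBQ'
        (Subgroup.commutator_mem_commutator hq hxB')
      have h3 := Grp.inf_eq_bot_of_isPGroup_of_coprime hRp hQc'
      exact commutatorElement_eq_one_iff_mul_comm.mp
        (Subgroup.mem_bot.mp (h3 ▸ Subgroup.mem_inf.mpr ⟨h1, h2⟩)))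
  have h3 : Q.map π ≤ R :=
    (Subgroup.le_centralizer_iff.mp (Subgroup.commutator_eq_bot_iff_le_centralizer.mp key)).trans
      (PLocal.isPConstrained_iff.mp (PLocal.isPConstrained_of_isPSolvable hG))
  have h4 := Grp.inf_eq_bot_of_isPGroup_of_coprime hRp hQc'
  rw [inf_eq_right.mpr h3, Subgroup.map_eq_bot_iff, hπ, QuotientGroup.ker_mk'] at h4
  exact h4

end Cfsg.Agent.S1902
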