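import Cfsg.Statements.S1907
import Cfsg.Agent.PLocal.PrimeCoreAmb
import Cfsg.Agent.PLocal.PConstr
import Cfsg.Agent.Solv.Coprime2
-- import your own Cfsg.Agent.* helpers here

set_option autoImplicit false
open Cfsg

namespace Cfsg.Agent.S1907

open Subgroup Cfsg.Agent.PLocal Cfsg.Agent.PLocal.Amb

/-- Let P be a Sylow p-subgroup of a finite group G, H = P ∩ O_{p',p}(G), N = N_G(H) and D = O_{p'}(G). (a) If y is an element of p-power order of N and d ∈ D with d⁻¹ y d ∈ N, then d = d₁ d₂ with d₁ ∈ C_D(y) and d₂ ∈ C_D(H). (b) Two elements of P that are conjugate in G are conjugate in N. -/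
theorem result {G : Type*} [Group G] [Finite G] {p : ℕ} [Fact p.Prime] (P : Sylow p G) :
    (∀ y ∈ Subgroup.normalizer (((P : Subgroup G) ⊓ Cfsg.pPrimePCore p G : Subgroup G) : Set G), (∃ k : ℕ, orderOf y = p ^ k) →
      ∀ d ∈ Cfsg.pPrimeCore p G, d⁻¹ * y * d ∈ Subgroup.normalizer (((P : Subgroup G) ⊓ Cfsg.pPrimePCore p G : Subgroup G) : Set G) →
        ∃ d₁ ∈ Cfsg.pPrimeCore p G ⊓ Subgroup.centralizer ({y} : Set G),
          ∃ d₂ ∈ Cfsg.pPrimeCore p G ⊓ Subgroup.centralizer (((P : Subgroup G) ⊓ Cfsg.pPrimePCore p G : Subgroup G) : Set G), d = d₁ * d₂) ∧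
    ∀ x y : G, x ∈ (P : Subgroup G) → y ∈ (P : Subgroup G) → IsConj x y →
      ∃ n ∈ Subgroup.normalizer (((P : Subgroup G) ⊓ Cfsg.pPrimePCore p G : Subgroup G) : Set G), n * x * n⁻¹ = y := by
  set H : Subgroup G := (P : Subgroup G) ⊓ Cfsg.pPrimePCore p G with hH
  set D := Cfsg.pPrimeCore p G with hD
  have hHp : IsPGroup p H := P.isPGroup'.to_le inf_le_left
  have hND : ∀ d ∈ D, d ∈ 𝐍[H] → d ∈ 𝐂[H] := by
    intro d hd hn h hh
    have h1 : h⁻¹ * (d * h * d⁻¹) ∈ H := H.mul_mem (H.inv_mem hh) (conj_mem_of_mem_normalizer hn hh)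
    have h2 : h⁻¹ * (d * h * d⁻¹) ∈ D := by
      have := D.mul_mem ((inferInstance : D.Normal).conj_mem d hd h⁻¹) (D.inv_mem hd)
      simpa [mul_assoc] using this
    have h3 := eq_one_of_isPGroup_of_coprime hHp h1 (Grp.orderOf_coprime_of_mem_pPrimeCore h2)
    rw [inv_mul_eq_one, eq_mul_inv_iff_mul_eq] at h3
    exact h3
  have key : ∀ y ∈ 𝐍[H], (∃ k : ℕ, orderOf y = p ^ k) → ∀ d ∈ D, d⁻¹ * y * d ∈ 𝐍[H] →
      ∃ d₁ ∈ D ⊓ Subgroup.centralizer ({y} : Set G), ∃ d₂ ∈ D ⊓ 𝐂[H], d = d₁ * d₂ := by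
    rintro y hy ⟨k, hk⟩ d hd hdy
    have hy' : zpowers y ≤ 𝐍[H] := zpowers_le.2 hy
    obtain ⟨n, hn, hc⟩ := Solv.coprime_fixed_coset' (zpowers y) (D ⊓ 𝐂[H])
      (le_normalizer_inf (by rw [normalizer_eq_top]; exact le_top) (le_normalizer_centralizer hy'))
      (by
        rw [Nat.card_zpowers, hk]
        exact Nat.Coprime.pow_left _ (Grp.coprime_of_le_pPrimeCore inf_le_left).symm)
      (Or.inl inferInstance) d (by
        intro a ha
        have h1 : d⁻¹ * (a * d * a⁻¹) ∈ D :=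
          D.mul_mem (D.inv_mem hd) ((inferInstance : D.Normal).conj_mem d hd a)
        refine ⟨h1, hND _ h1 ?_⟩
        obtain ⟨m, rfl⟩ := ha
        have h2 := (𝐍[H]).mul_mem ((𝐍[H]).zpow_mem hdy m) ((𝐍[H]).inv_mem ((𝐍[H]).zpow_mem hy m))
        have e : (d⁻¹ * y * d) ^ m = d⁻¹ * y ^ m * d := by
          simpa using conj_zpow (a := d⁻¹) (b := y) (i := m)
        rw [e] at h2
        simpa [mul_assoc] using h2)
    rw [centralizer_zpowers] at hc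
    exact ⟨d * n, ⟨D.mul_mem hd hn.1, hc⟩, n⁻¹, inv_mem hn, by simp⟩
  refine ⟨key, fun x y hx hy hxy => ?_⟩
  have hsyl : IsSyl p H (Cfsg.pPrimePCore p G) :=
    (isSyl_top P).inf_of_le le_top (by rw [normalizer_eq_top])
  have hPN : (P : Subgroup G) ≤ 𝐍[H] :=
    le_normalizer_inf le_normalizer (by rw [normalizer_eq_top]; exact le_top)
  obtain ⟨g, hg⟩ := isConj_iff.1 hxy
  obtain ⟨n, hn, o, ho, rfl⟩ := hsyl.frattini' (g := g) (by rw [normalizer_eq_top]; trivial)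
  rw [PCA.pPrimePCore_eq_sup_of_isSyl hsyl, mem_sup_of_le_normalizer_right
    (by rw [normalizer_eq_top]; exact le_top)] at ho
  obtain ⟨h, hh, d, hd, rfl⟩ := ho
  have hnh : n * h ∈ 𝐍[H] := mul_mem hn (le_normalizer hh)
  obtain ⟨k, hk⟩ := (IsPGroup.iff_orderOf.1 P.isPGroup') ⟨x, hx⟩
  obtain ⟨d₁, hd₁, d₂, hd₂, e⟩ := key x (hPN hx) ⟨k, by rw [← hk, orderOf_mk]⟩ d⁻¹ (inv_mem hd) (by
    have : d⁻¹⁻¹ * x * d⁻¹ = (n * h)⁻¹ * y * (n * h) := by rw [← hg]; group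
    rw [this]
    exact mul_mem (mul_mem (inv_mem hnh) (hPN hy)) hnh)
  refine ⟨n * h * d₂⁻¹, mul_mem hnh (inv_mem (centralizer_le_normalizer' H hd₂.2)), ?_⟩
  have e1 : d = d₂⁻¹ * d₁⁻¹ := by rw [← mul_inv_rev, ← e, inv_inv]
  have e2 : d₁ * x = x * d₁ := mem_centralizer_singleton_iff.1 hd₁.2
  have e3 : x = d₁⁻¹ * x * d₁ := by rw [mul_assoc, ← e2]; simp
  rw [← hg, e1]
  conv_lhs => rw [e3]
  group

end Cfsg.Agent.S1907
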