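import Cfsg.Statements.S1908
import Cfsg.Agent.Solv.HallPi
import Cfsg.Agent.Solv.Glauberman
import Cfsg.Agent.S4240

set_option autoImplicit false
open Cfsg

namespace Cfsg.Agent.S1908

open Subgroup Solv.Pi Pointwise

theorem step {G : Type*} [Group G] [Finite G] (π : Set ℕ) (M K : Subgroup G) [M.Normal]
    (hMK : M ≤ K) (hM : ∀ q : ℕ, q.Prime → q ∈ π → ¬ q ∣ Nat.card M)
    (hK : ∀ q : ℕ, q.Prime → q ∈ π → ¬ q ∣ K.index)
    (hr : ∀ q : ℕ, q.Prime → q ∣ M.relIndex K → q ∈ π) :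
    ∃ L : Subgroup G, Cfsg.IsPiHall π L ∧
      ∀ U : Subgroup G, U ≤ K → (∀ q : ℕ, q.Prime → q ∣ Nat.card U → q ∈ π) →
        ∃ k : G, ∀ a ∈ U, k⁻¹ * a * k ∈ L := by
  have hcop : (Nat.card (M.subgroupOf K)).Coprime (M.subgroupOf K).index := by
    rw [Grp.card_subgroupOf_of_le hMK]
    exact (coprime_of_pi hr hM).symm
  obtain ⟨L, hL⟩ := Subgroup.exists_right_complement'_of_coprime hcop
  have hcard : Nat.card L = M.relIndex K := hL.symm.index_eq_card.symm
  have hidx : L.index = Nat.card M := by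
    rw [hL.index_eq_card, Grp.card_subgroupOf_of_le hMK]
  refine ⟨L.map K.subtype, ?_, fun U hU hπ => ?_⟩
  · refine isPiHallOf_top.1 (hallOf_of_relIndex (K := K) ?_ le_top (by simpa using hK))
    rw [isPiHallOf_map_subtype]
    exact ⟨by rw [hcard]; exact hr, by rw [hidx]; exact hM⟩
  · have hc : (Nat.card U).Coprime (Nat.card M) := coprime_of_pi hπ hM
    obtain ⟨k, -, hk⟩ := Solv.exists_conj_mem_of_coprime U M (L.map K.subtype)
      (by rw [normalizer_eq_top]; exact le_top) hc (S4240.or_solvable hc) (fun a ha => by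
        obtain ⟨⟨m, l⟩, h⟩ := hL.2 ⟨a, hU ha⟩
        refine ⟨((m : K) : G), m.2, ⟨(l : K), l.2, ?_⟩⟩
        have : ((m : K) : G) * ((l : K) : G) = a := congrArg Subtype.val h
        rw [← this]; simp)
    exact ⟨k, hk⟩

theorem chain {G : Type*} [Group G] [Finite G] (π : Set ℕ) (N M : Subgroup G) [N.Normal]
    [M.Normal] (hNM : N ≤ M)
    (h : (∀ q : ℕ, q.Prime → q ∣ N.relIndex M → q ∈ π) ∨
      (∀ q : ℕ, q.Prime → q ∣ N.relIndex M → q ∉ π))
    (ih : ∃ K : Subgroup G, M ≤ K ∧ (∀ q : ℕ, q.Prime → q ∈ π → ¬ q ∣ K.index) ∧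
      (∀ q : ℕ, q.Prime → q ∣ M.relIndex K → q ∈ π) ∧
      ∀ U : Subgroup G, (∀ q : ℕ, q.Prime → q ∣ Nat.card U → q ∈ π) →
        ∃ k : G, ∀ a ∈ U, k⁻¹ * a * k ∈ K) :
    ∃ K : Subgroup G, N ≤ K ∧ (∀ q : ℕ, q.Prime → q ∈ π → ¬ q ∣ K.index) ∧
      (∀ q : ℕ, q.Prime → q ∣ N.relIndex K → q ∈ π) ∧
      ∀ U : Subgroup G, (∀ q : ℕ, q.Prime → q ∣ Nat.card U → q ∈ π) →
        ∃ k : G, ∀ a ∈ U, k⁻¹ * a * k ∈ K := by
  obtain ⟨K, hMK, hK, hr, hU⟩ := ih
  rcases h with h | h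
  · refine ⟨K, hNM.trans hMK, hK, ?_, hU⟩
    rw [← relIndex_mul_relIndex N M K hNM hMK]
    exact pi_mul h hr
  · set f := QuotientGroup.mk' N with hf
    have hsurj : Function.Surjective f := QuotientGroup.mk'_surjective N
    haveI : (M.map f).Normal := Normal.map inferInstance f hsurj
    have hcM : Nat.card (M.map f) = N.relIndex M := by
      have h1 := Grp.card_map_mk'_mul_of_le N hNM
      have h2 := Grp.card_mul_relIndex hNM
      rw [← h1, mul_comm] at h2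
      exact (Nat.eq_of_mul_eq_mul_right Nat.card_pos h2).symm
    obtain ⟨L, hL, hLU⟩ := step π (M.map f) (K.map f) (map_mono hMK)
      (fun q hq hπ hd => h q hq (hcM ▸ hd) hπ) (pi'_of_dvd (K.index_map_dvd hsurj) hK)
      (pi_of_dvd (relIndex_map_dvd f M K) hr)
    have hNL : N ≤ L.comap f := fun x hx => by
      have : f x = 1 := (QuotientGroup.eq_one_iff x).2 hx
      simp [mem_comap, this]
    refine ⟨L.comap f, hNL, by rw [L.index_comap_of_surjective hsurj]; exact hL.2, ?_, ?_⟩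
    · have h1 := Grp.card_map_mk'_mul_of_le N hNL
      have h2 := Grp.card_mul_relIndex hNL
      rw [← h1, mul_comm, map_comap_eq_self_of_surjective hsurj] at h2
      rw [Nat.eq_of_mul_eq_mul_right Nat.card_pos h2]
      exact hL.1
    · intro U hπ
      obtain ⟨k, hk⟩ := hU U hπ
      obtain ⟨k', hk'⟩ := hLU ((MulAut.conj k⁻¹ • U).map f)
        (map_mono fun x hx => by
          have := hk _ (Grp.mem_conj_smul_iff.1 hx)
          simpa [mul_assoc] using this)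
        (pi_of_dvd (card_map_dvd _ f) (by rw [Grp.card_conj_smul]; exact hπ))
      obtain ⟨k', rfl⟩ := hsurj k'
      refine ⟨k * k', fun a ha => ?_⟩
      have := hk' (f (k⁻¹ * a * k)) (mem_map_of_mem f (Grp.mem_conj_smul_iff.2 (by simpa [mul_assoc] using ha)))
      simpa [mem_comap, mul_assoc] using this



/-- Let π be a set of primes and G a finite π-separable group: G has a chain of normal subgroups from 1 to G in which each successive index is divisible only by primes in π or only by primes outside π. Then G has a Hall π-subgroup, any two Hall π-subgroups of G are conjugate, and every subgroup of G whose order is divisible only by primes in π lies in some Hall π-subgroup. -/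
theorem result {G : Type*} [Group G] [Finite G] (π : Set ℕ)
    (hsep : ∃ (n : ℕ) (H : Fin (n + 1) → Subgroup G), H 0 = ⊥ ∧ H (Fin.last n) = ⊤ ∧ Monotone H ∧ (∀ i, (H i).Normal) ∧
      ∀ i : Fin n, (∀ q : ℕ, q.Prime → q ∣ (H i.castSucc).relIndex (H i.succ) → q ∈ π) ∨
        (∀ q : ℕ, q.Prime → q ∣ (H i.castSucc).relIndex (H i.succ) → q ∉ π)) :
    (∃ K : Subgroup G, Cfsg.IsPiHall π K) ∧
      (∀ K L : Subgroup G, Cfsg.IsPiHall π K → Cfsg.IsPiHall π L → ∃ g : G, L = K.map (MulAut.conj g).toMonoidHom) ∧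
      ∀ U : Subgroup G, (∀ q : ℕ, q.Prime → q ∣ Nat.card U → q ∈ π) → ∃ K : Subgroup G, Cfsg.IsPiHall π K ∧ U ≤ K := by
  obtain ⟨n, H, h0, hl, hmono, hn, hstep⟩ := hsep
  have key : ∀ i : Fin (n + 1), ∃ K : Subgroup G, H i ≤ K ∧
      (∀ q : ℕ, q.Prime → q ∈ π → ¬ q ∣ K.index) ∧
      (∀ q : ℕ, q.Prime → q ∣ (H i).relIndex K → q ∈ π) ∧
      ∀ U : Subgroup G, (∀ q : ℕ, q.Prime → q ∣ Nat.card U → q ∈ π) →
        ∃ k : G, ∀ a ∈ U, k⁻¹ * a * k ∈ K := by
    intro i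
    induction i using Fin.reverseInduction with
    | last =>
      refine ⟨⊤, le_top, fun q hq _ hd => hq.ne_one (by simpa using hd),
        fun q hq hd => absurd (by simpa [hl] using hd) hq.ne_one, fun U _ => ⟨1, fun _ _ => trivial⟩⟩
    | cast i ih =>
      haveI := hn i.castSucc
      haveI := hn i.succ
      exact chain π _ _ (hmono (Fin.castSucc_le_succ i)) (hstep i) ih
  obtain ⟨K, -, h1, h2, h3⟩ := key 0
  have hK : Cfsg.IsPiHall π K := ⟨by simpa [h0] using h2, h1⟩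
  have h4 : ∀ U : Subgroup G, (∀ q : ℕ, q.Prime → q ∣ Nat.card U → q ∈ π) →
      ∃ k : G, U ≤ MulAut.conj k • K := fun U hU => by
    obtain ⟨k, hk⟩ := h3 U hU
    exact ⟨k, fun a ha => Grp.mem_conj_smul_iff.2 (hk a ha)⟩
  have h5 : ∀ L : Subgroup G, Cfsg.IsPiHall π L → ∃ k : G, L = MulAut.conj k • K := fun L hL => by
    obtain ⟨k, hk⟩ := h4 L hL.1
    exact ⟨k, Subgroup.eq_of_le_of_card_ge hk (hall_card_eq (hall_conj_smul hK k) hL).le⟩
  refine ⟨⟨K, hK⟩, fun K₁ L hK₁ hL => ?_, fun U hU => ?_⟩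
  · obtain ⟨a, rfl⟩ := h5 K₁ hK₁
    obtain ⟨b, rfl⟩ := h5 L hL
    refine ⟨b * a⁻¹, ?_⟩
    rw [← Grp.conj_smul_eq_map, ← mul_smul, ← map_mul]
    simp
  · obtain ⟨k, hk⟩ := h4 U hU
    exact ⟨_, hall_conj_smul hK k, hk⟩

end Cfsg.Agent.S1908
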