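import Cfsg.Statements.S1914
import Cfsg.Agent.Inv.CZ4Main
import Cfsg.Agent.PLocal.Component

set_option autoImplicit false
open Cfsg

namespace Cfsg.Agent.S1914

open Subgroup Cfsg.Agent.PLocal.Amb Cfsg.Agent.Inv Cfsg.Agent.Inv.CZ4


/-- Let A be a semisimple subgroup (a central product of quasisimple groups, A = E(A)) of a finite group and t an involution normalizing A such that the Sylow 2-subgroups of C_A(t) are cyclic of order 4. Then A has 2-rank exactly 1. -/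
theorem result {G : Type*} [Group G] [Finite G] (A : Subgroup G) (hA : Cfsg.layer ↥A = ⊤)
    (t : G) (ht : orderOf t = 2) (htA : t ∈ Subgroup.normalizer (A : Set G))
    (hC : ∀ R : Sylow 2 ↥(A ⊓ Subgroup.centralizer ({t} : Set G)), IsCyclic R ∧ Nat.card R = 4) :
    Cfsg.PRankLE 2 1 A ∧ ¬ Cfsg.PRankLE 2 0 A := by
  have : Fact (Nat.Prime 2) := ⟨Nat.prime_two⟩
  have tt := mul_self_of_orderOf_two ht
  have perf : ⁅A, A⁆ = A := by
    have := PLocal.map_layer_commutator A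
    rwa [hA, ← MonoidHom.range_eq_map, range_subtype] at this
  have hR : ∀ R, IsSyl 2 R (A ⊓ centralizer {t}) → ∃ u, R = zpowers u ∧ orderOf u = 4 := by
    intro R h
    obtain ⟨P, rfl⟩ := h.exists_sylow_map
    obtain ⟨h1, h2⟩ := hC P
    obtain ⟨u, hu⟩ := (Subgroup.isCyclic_iff_exists_zpowers_eq_top _).1 h1
    refine ⟨u, by rw [← hu, MonoidHom.map_zpowers]; rfl, ?_⟩
    rw [orderOf_coe, ← Nat.card_zpowers, hu, h2]
  obtain ⟨R, hR1⟩ := exists_isSyl 2 (A ⊓ centralizer {t})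
  obtain ⟨u, rfl, hu⟩ := hR R hR1
  have uA := hR1.le (mem_zpowers u)
  have ut : u * t = t * u := mem_centralizer_singleton_iff.1 uA.2
  have zz : u * u * (u * u) = 1 := by
    rw [← pow_orderOf_eq_one u, hu]; simp [pow_succ, mul_assoc]
  have z1 : u * u ≠ 1 := fun h => by
    have := orderOf_dvd_of_pow_eq_one (x := u) (n := 2) (by rwa [sq])
    rw [hu] at this
    omega
  refine ⟨prank_of_uq ?_, not_prank_zero (A.mul_mem uA.1 uA.1) (orderOf_two_of_mul_self zz z1)⟩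
  have uq : Uq (A ⊓ centralizer {t}) := uq_of_syl hR1 fun a ha b hb ha2 hb2 _ ha1 hb1 =>
    (cyc_uniq ha hb ha2 hb2 hb1).resolve_left ha1
  obtain ⟨T, hT, h1⟩ := exists_isSyl_ge (p := 2) (L := A ⊔ zpowers t) (R := zpowers t ⊔ zpowers u)
    (isPGroup_sup (isPGroup_zpowers_of_orderOf_two ht) hR1.pgrp (zpowers_le.2
      (centralizer_le_normalizer' _ (by
        rw [centralizer_zpowers]; exact mem_centralizer_singleton_iff.2 ut.symm))))
    (sup_le le_sup_right ((zpowers_le.2 uA.1).trans le_sup_left))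
  have tT : t ∈ T := h1 (mem_sup_left (mem_zpowers t))
  have uT : u ∈ T := h1 (mem_sup_right (mem_zpowers u))
  have h : St A (A ⊔ zpowers t) T t := ⟨perf, le_sup_left, sup_le le_normalizer (zpowers_le.2 htA),
    hT, tT, tt, cas_sup tt htA, uq⟩
  refine uq_of_syl h.sylS ?_
  have cen : ∀ g ∈ T ⊓ A, t * g * t⁻¹ = g → g ∈ zpowers u := fun g hg h2 =>
    hR1.max (T ⊓ (A ⊓ centralizer {t})) (hT.pgrp.to_le inf_le_left)
      (le_inf (zpowers_le.2 uT) hR1.le) inf_le_right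
      ⟨hg.1, hg.2, mem_centralizer_singleton_iff.2 (mul_inv_eq_iff_eq_mul.1 h2).symm⟩
  by_cases tA : t ∈ A
  · obtain ⟨z, hz, hz2, hzc⟩ := exists_central_involution_of_isPGroup hT.pgrp
      (fun e => ne_one_of_orderOf_two ht (mem_bot.1 (e ▸ tT)))
    have zA : z ∈ A := sup_le le_rfl (zpowers_le.2 tA) (hT.le hz)
    have e : t = z := uq t ⟨tA, mem_centralizer_singleton_iff.2 rfl⟩ z
      ⟨zA, mem_centralizer_singleton_iff.2 (hzc t tT).symm⟩ tt (mul_self_of_orderOf_two hz2)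
      (hzc t tT) (ne_one_of_orderOf_two ht) (ne_one_of_orderOf_two hz2)
    exact uq.mono fun g hg => ⟨hg.2, mem_centralizer_singleton_iff.2 (e ▸ hzc g hg.1)⟩
  · exact St4.uqS ⟨h, ⟨uT, uA.1⟩, mul_inv_eq_iff_eq_mul.2 ut.symm, rfl, zz, z1, cen, tA⟩


end Cfsg.Agent.S1914
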