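import Cfsg.Statements.S1915
import Cfsg.Agent.Inv.CZ4One
import Cfsg.Agent.PLocal.Component

set_option autoImplicit false
open Cfsg

namespace Cfsg.Agent.S1915

open Subgroup Cfsg.Agent.PLocal.Amb Cfsg.Agent.Inv Cfsg.Agent.Inv.CZ4


/-- Let A be a semisimple subgroup (A = E(A)) of a finite group and U a Klein four-group normalizing A. If the subgroup of A generated by the normalizers N_A(V) of the nontrivial subgroups V of U has 2-rank exactly 1, then A has 2-rank exactly 1. -/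
theorem result {G : Type*} [Group G] [Finite G] (A : Subgroup G) (hA : Cfsg.layer ↥A = ⊤)
    (U : Subgroup G) (hU : IsKleinFour U) (hUA : U ≤ Subgroup.normalizer (A : Set G))
    (hΓ : Cfsg.PRankLE 2 1 ↥(⨆ V : {V : Subgroup G // V ≤ U ∧ V ≠ ⊥}, A ⊓ Subgroup.normalizer ((V : Subgroup G) : Set G)) ∧
      ¬ Cfsg.PRankLE 2 0 ↥(⨆ V : {V : Subgroup G // V ≤ U ∧ V ≠ ⊥}, A ⊓ Subgroup.normalizer ((V : Subgroup G) : Set G))) :
    Cfsg.PRankLE 2 1 A ∧ ¬ Cfsg.PRankLE 2 0 A := by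
  have : Fact (Nat.Prime 2) := ⟨Nat.prime_two⟩
  set Γ := ⨆ V : {V : Subgroup G // V ≤ U ∧ V ≠ ⊥},
    A ⊓ Subgroup.normalizer ((V : Subgroup G) : Set G) with hΓd
  have hΓA : Γ ≤ A := iSup_le fun _ => inf_le_left
  obtain ⟨a, ha, ha2⟩ := exists_invol_of_not_prank_zero hΓ.2
  refine ⟨prank_of_uq ?_, not_prank_zero (hΓA ha) ha2⟩
  have hq := uq_of_prank hΓ.1
  have hC : ∀ u ∈ U, u ≠ 1 → A ⊓ centralizer {u} ≤ Γ := fun u hu h1 =>
    le_iSup_of_le ⟨zpowers u, zpowers_le.2 hu, by simpa using h1⟩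
      (inf_le_inf_left _ (by rw [← centralizer_zpowers]; exact centralizer_le_normalizer' _))
  have perf : ⁅A, A⁆ = A := by
    have := PLocal.map_layer_commutator A
    rwa [hA, ← MonoidHom.range_eq_map, range_subtype] at this
  obtain ⟨u, hu, v, hv, hu1, hv1, huv⟩ := Klein.exists_pair hU
  have huv1 := Klein.mul_ne_one hU hv huv
  obtain ⟨P, hP, hUP⟩ := exists_isSyl_ge (p := 2) (L := A ⊔ U)
    (IsPGroup.of_card (n := 2) (by rw [hU.card_four]; rfl)) le_sup_right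
  have hn : A ⊔ U ≤ 𝐍[A] := sup_le le_normalizer hUA
  have hS := hP.inf_of_le le_sup_left hn
  refine uq_of_syl hS ?_
  by_contra hc
  have three : ∀ w w' : G, (∀ g ∈ P, g * w * g⁻¹ = w ∨ g * w * g⁻¹ = w') →
      (∀ g ∈ P, g * w * g⁻¹ = w' → g * w' * g⁻¹ = w) → ∃ x ∈ U, x ≠ 1 ∧ x * w * x⁻¹ = w := by
    intro w w' h1 h2
    rcases h1 u (hUP hu) with h3 | h3
    · exact ⟨u, hu, hu1, h3⟩
    rcases h1 v (hUP hv) with h4 | h4
    · exact ⟨v, hv, hv1, h4⟩
    refine ⟨u * v, mul_mem hu hv, huv1, ?_⟩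
    calc u * v * w * (u * v)⁻¹ = u * (v * w * v⁻¹) * u⁻¹ := by group
      _ = w := by rw [h4, h2 u (hUP hu) h3]
  obtain ⟨r, w, z, c, s, hs, hs2, hsC⟩ := exists_cy hP.pgrp inf_le_left
    (le_normalizer_inf le_normalizer (hP.le.trans hn)) (fun E hE hES hK => by
      obtain ⟨z, ⟨hzE, hzc⟩, hz1⟩ := (Subgroup.ne_bot_iff_exists_ne_one).1 (inf_centralizer_ne_bot hP.pgrp
        (IsPGroup.of_card (n := 2) (by rw [hK.card_four]; rfl)) hE
        (fun h => by have := hK.card_four; rw [h] at this; simp at this)) |>.imp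
          (p := fun x => x ≠ 1) (q := fun x => x ≠ 1) (fun _ h => h) |>.elim
          (fun x hx => (⟨x.1, x.2, fun h => hx (Subtype.ext h)⟩ : ∃ z ∈ E ⊓ 𝐂[P], z ≠ 1))
      obtain ⟨e, he, he1, hez⟩ : ∃ e ∈ E, e ≠ 1 ∧ e ≠ z := by
        obtain ⟨x, hx, y, hy, hx1, hy1, hxy⟩ := Klein.exists_pair hK
        by_cases h : x = z
        · exact ⟨y, hy, hy1, fun h' => hxy (h.trans h'.symm)⟩
        · exact ⟨x, hx, hx1, h⟩
      have hzc' : ∀ g ∈ P, g * z * g⁻¹ = z := fun g hg => mul_inv_eq_iff_eq_mul.2 (hzc g hg)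
      obtain ⟨x, hx, hx1, hxe⟩ := three e (e * z) (fun g hg => by
        rcases Klein.cases hK he hzE (conj_mem_of_mem_normalizer (hE hg) he) he1 hz1 hez
          with h | h | h | h
        · exact absurd (conj_eq_one_iff.1 h) he1
        · exact Or.inl h
        · exact absurd (mul_left_cancel (mul_right_cancel (h.trans (hzc' g hg).symm))) hez
        · exact Or.inr h) (fun g hg h => by
        calc g * (e * z) * g⁻¹ = g * e * g⁻¹ * (g * z * g⁻¹) := by group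
          _ = e := by rw [h, hzc' g hg, mul_assoc, Klein.mul_self hK hzE, mul_one])
      exact hez (hq e (hC x hx hx1 ⟨(hES he).2, mem_centralizer_singleton_iff.2
        (mul_inv_eq_iff_eq_mul.1 hxe).symm⟩) z (hC x hx hx1 ⟨(hES hzE).2,
          mem_centralizer_singleton_iff.2 (hzc x (hUP hx)).symm⟩) (Klein.mul_self hK he)
        (Klein.mul_self hK hzE) (Klein.comm hK he hzE) he1 hz1)) hc
  obtain ⟨t, ht, ht1, htw⟩ := three w w⁻¹ (fun g hg => c.wc hg) (fun g _ h => by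
    calc g * w⁻¹ * g⁻¹ = (g * w * g⁻¹)⁻¹ := by group
      _ = w := by rw [h, inv_inv])
  have hL : A ⊔ zpowers t ≤ A ⊔ U := sup_le_sup_left (zpowers_le.2 ht) _
  have hT := hP.inf_of_le hL (sup_le (le_sup_left.trans le_normalizer) (le_normalizer_sup hUA (by
    refine le_trans ?_ (centralizer_le_normalizer' _)
    rw [centralizer_zpowers]
    exact fun g hg => mem_centralizer_singleton_iff.2 (Klein.comm hU hg ht))))
  have e : P ⊓ (A ⊔ zpowers t) ⊓ A = P ⊓ A := by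
    rw [inf_assoc, inf_of_le_right (le_sup_left : A ≤ A ⊔ zpowers t)]
  have h : St A (A ⊔ zpowers t) (P ⊓ (A ⊔ zpowers t)) t :=
    ⟨perf, le_sup_left, hL.trans hn, hT, ⟨hUP ht, mem_sup_right (mem_zpowers t)⟩,
      Klein.mul_self hU ht, cas_sup (Klein.mul_self hU ht) (hUA ht), hq.mono (hC t ht ht1)⟩
  exact h.caseIa (e ▸ c.mono (inf_le_inf_left _ le_sup_left) inf_le_left) (e ▸ hs) hs2 hsC htw


end Cfsg.Agent.S1915
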