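import Cfsg.Statements.S1921
import Mathlib
import Cfsg.Agent.PLocal.Layer
import Cfsg.Agent.PLocal.Amb

set_option autoImplicit false
open Cfsg

namespace Cfsg.Agent.S1921

open Subgroup Cfsg.Agent.PLocal.Amb


/-- Let a be an involution of a finite group H and L a component of H with a L a⁻¹ ≠ L; put M = ⟨L, aLa⁻¹⟩ and let J be the subgroup generated by the elements x · a x a⁻¹ with x ∈ L (the diagonal). Then every element of M outside J·Z(M) generates M together with J. -/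
theorem result {H : Type*} [Group H] [Finite H] (a : H) (ha : orderOf a = 2) (L : Subgroup H) (hL : Cfsg.IsComponent L)
    (hLa : L.map (MulAut.conj a).toMonoidHom ≠ L) (x : H) (hxM : x ∈ L ⊔ L.map (MulAut.conj a).toMonoidHom)
    (hxJ : x ∉ Subgroup.closure {y : H | ∃ l ∈ L, y = l * (a * l * a⁻¹)} ⊔
      ((L ⊔ L.map (MulAut.conj a).toMonoidHom) ⊓ Subgroup.centralizer ((L ⊔ L.map (MulAut.conj a).toMonoidHom : Subgroup H) : Set H))) :
    Subgroup.closure {y : H | ∃ l ∈ L, y = l * (a * l * a⁻¹)} ⊔ Subgroup.zpowers x = L ⊔ L.map (MulAut.conj a).toMonoidHom := by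
  have hc : ⁅L, cj(a, L)⁆ = ⊥ := PLocal.comp_commute_of_ne hL (PLocal.comp_conj hL a) hLa.symm
  have hcomm : ∀ l ∈ L, ∀ m ∈ L, l * (a * m * a⁻¹) = (a * m * a⁻¹) * l := fun l hl m hm =>
    PLocal.commute_of_commutator_eq_bot hc hl (conj_mem_cj a hm)
  set J := Subgroup.closure {y : H | ∃ l ∈ L, y = l * (a * l * a⁻¹)} with hJ
  have hJmem : ∀ l ∈ L, l * (a * l * a⁻¹) ∈ J := fun l hl => subset_closure ⟨l, hl, rfl⟩
  have hJM : J ≤ L ⊔ cj(a, L) := by
    rw [hJ, closure_le]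
    rintro _ ⟨l, hl, rfl⟩
    exact mul_mem (mem_sup_left hl) (mem_sup_right (conj_mem_cj a hl))
  refine le_antisymm (sup_le hJM (zpowers_le.2 hxM)) ?_
  have hn : L ≤ 𝐍[(J ⊔ zpowers x) ⊓ L] := by
    rw [le_normalizer_iff_cj]
    intro l hl
    rw [cj_le_iff_forall]
    intro y hy
    refine ⟨?_, L.mul_mem (L.mul_mem hl hy.2) (L.inv_mem hl)⟩
    have h1 : l * (a * l * a⁻¹) ∈ J ⊔ zpowers x := mem_sup_left (hJmem l hl)
    have h2 := (J ⊔ zpowers x).mul_mem ((J ⊔ zpowers x).mul_mem h1 hy.1)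
      ((J ⊔ zpowers x).inv_mem h1)
    change _ ∈ J ⊔ zpowers x
    convert h2 using 1
    rw [mul_assoc l (a * l * a⁻¹) y, ← hcomm y hy.2 l hl]
    group
  rcases PLocal.qsS_normal hL.2 _ hn with h | h
  · have hLX : L ≤ J ⊔ zpowers x := h.trans inf_le_left
    refine sup_le hLX (cj_le_iff_forall.2 fun l hl => ?_)
    have := (J ⊔ zpowers x).mul_mem ((J ⊔ zpowers x).inv_mem (hLX hl)) (mem_sup_left (hJmem l hl))
    simpa using this
  · exfalso
    apply hxJ
    obtain ⟨l, hl, m', hm', hx⟩ := (mem_sup_of_le_normalizer_right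
      (PLocal.le_normalizer_of_commutator_eq_bot hc)).1 hxM
    obtain ⟨m, hm, rfl⟩ := mem_cj_iff_exists.1 hm'
    have h1 : l * m⁻¹ ∈ L := L.mul_mem hl (L.inv_mem hm)
    have h2 : x = (l * m⁻¹) * (m * (a * m * a⁻¹)) := by rw [hx]; group
    have h3 : l * m⁻¹ ∈ J ⊔ zpowers x := by
      have := (J ⊔ zpowers x).mul_mem (mem_sup_right (mem_zpowers x))
        ((J ⊔ zpowers x).inv_mem (mem_sup_left (hJmem m hm)))
      convert this using 1
      rw [h2]; group
    have h4 : l * m⁻¹ ∈ 𝐂[L] := h ⟨⟨h3, h1⟩, h1⟩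
    have h5 : l * m⁻¹ ∈ 𝐂[cj(a, L)] := by
      refine mem_centralizer_iff.2 fun y hy => ?_
      obtain ⟨y', hy', rfl⟩ := mem_cj_iff_exists.1 hy
      exact (hcomm _ h1 y' hy').symm
    rw [h2]
    refine mul_mem (mem_sup_right ⟨mem_sup_left h1, ?_⟩) (mem_sup_left (hJmem m hm))
    change _ ∈ 𝐂[L ⊔ cj(a, L)]
    rw [centralizer_sup]
    exact ⟨h4, h5⟩

end Cfsg.Agent.S1921
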