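import Cfsg.Statements.S1922
import Mathlib
import Cfsg.Agent.PLocal.AmbSyl
import Cfsg.Agent.Grp.ConjCount
import Cfsg.Agent.Inv.Isolated
import Cfsg.Agent.PLocal.Quasisimple

set_option autoImplicit false
open Cfsg

namespace Cfsg.Agent.S1922

open Subgroup Cfsg.Agent.PLocal.Amb

theorem odd_class {G Ω : Type*} [Group G] [Finite G] [MulAction G Ω] {z : G} (hz : z * z = 1)
    (hD1 : ∀ d, IsConj z d → ∀ ω ω' : Ω, d • ω = ω → d • ω' = ω' → ω = ω')
    (hD2 : ∀ d t, IsConj z d → IsConj z t → t ≠ d → t * d = d * t →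
      ∀ ω ω' : Ω, (d * t) • ω = ω → (d * t) • ω' = ω' → ω = ω')
    {α β : Ω} (hαβ : α ≠ β) (hzα : z • α = α) {s : G} (hs : IsConj z s) (hsβ : s • β = β) :
    ¬ 2 ∣ Nat.card {e : G | IsConj z e ∧ e • α = α} := by
  have hsq : ∀ d, IsConj z d → d * d = 1 := fun d hd => by
    obtain ⟨c, rfl⟩ := isConj_iff.1 hd
    exact Inv.conj_mul_self hz c
  have hinv : ∀ d, IsConj z d → d⁻¹ = d := fun d hd => inv_eq_of_mul_eq_one_right (hsq d hd)
  have hcj : ∀ d, IsConj z d → ∀ g : G, IsConj z (g * d * g⁻¹) := fun d hd g =>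
    hd.trans (isConj_iff.2 ⟨g, rfl⟩)
  have hfixc : ∀ d, IsConj z d → ∀ ω : Ω, d • ω = ω → ∀ w : G, Commute w d → w • ω = ω :=
    fun d hd ω h w hw => hD1 d hd _ _ (by rw [← mul_smul, ← hw.eq, mul_smul, h]) h
  have hodd : ∀ e, IsConj z e → e • α = α → Odd (orderOf (s * e)) := by
    intro e he heα
    by_contra hev
    obtain ⟨m, hm⟩ := Nat.not_odd_iff_even.1 hev
    have hpos : 0 < m := by have := orderOf_pos (s * e); omega
    obtain ⟨h1, h2, h3, h4⟩ := Inv.half_pow_facts (hsq s hs) (hsq e he) hpos (by rw [hm, two_mul])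
    have h5 : IsConj z ((s * e) ^ m * s) := by
      rcases Nat.even_or_odd' m with ⟨k, rfl | rfl⟩
      · rw [← Inv.invol_pow_conj_left (hsq s hs) (hsq e he)]; exact hcj s hs _
      · rw [← Inv.invol_pow_conj_odd_left (hsq s hs) (hsq e he)]; exact hcj e he _
    have h6 : s * ((s * e) ^ m * s) = (s * e) ^ m := by
      rw [h3.eq, ← mul_assoc, hsq s hs, one_mul]
    refine hαβ (hD2 s _ hs h5 (fun h => h1 (by simpa using h)) ?_ α β ?_ ?_)
    · rw [h6, mul_assoc, hsq s hs, mul_one]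
    · rw [h6]; exact hfixc e he α heα _ h4
    · rw [h6]; exact hfixc s hs β hsβ _ h3
  let B : Set G := {r | IsConj z r ∧ r • α = β}
  have hswap : ∀ r ∈ B, r • β = α := fun r hr => by
    rw [← hr.2, ← mul_smul, hsq r hr.1, one_smul]
  have huniq : ∀ r ∈ B, ∀ r' ∈ B, r' * r = r * r' → r' = r := by
    intro r hr r' hr' h
    by_contra hne
    refine hαβ (hD2 r r' hr.1 hr'.1 hne h α β ?_ ?_)
    · rw [mul_smul, hr'.2, hswap r hr]
    · rw [mul_smul, hswap r' hr', hr.2]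
  have hρ : ∀ e, IsConj z e → e • α = α → ∀ k, orderOf (s * e) = 2 * k + 1 →
      (s * e) ^ k * s ∈ B ∧ (s * e) ^ k * s * s * ((s * e) ^ k * s)⁻¹ = e := by
    intro e he heα k hk
    have h0 : (s * e) ^ (2 * k + 1) = 1 := by rw [← hk, pow_orderOf_eq_one]
    have h1 : (s * e) ^ k * s * s * ((s * e) ^ k * s)⁻¹ = e := by
      have := Inv.invol_pow_conj_odd_right (hsq s hs) (hsq e he) k
      rw [h0, one_mul] at this
      exact Eq.trans (by group) this
    have h2 : (s * e) ^ k * s * ((s * e) ^ k * s) = 1 := by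
      have := Inv.conj_pow_of_inverts (Inv.invol_conj_mul (hsq s hs) (hsq e he)) k
      rw [hinv s hs] at this
      calc (s * e) ^ k * s * ((s * e) ^ k * s) = (s * e) ^ k * (s * (s * e) ^ k * s) := by group
        _ = 1 := by rw [this, mul_inv_cancel]
    have h3 : IsConj z ((s * e) ^ k * s) := by
      obtain ⟨j, hj⟩ := Inv.exists_pow_conj_of_odd (hsq s hs) h2 (by
        have : s * ((s * e) ^ k * s) = s * (s * e) ^ k * s⁻¹ := by rw [hinv s hs]; group
        rw [this, Inv.orderOf_conj_eq]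
        exact Inv.odd_orderOf_pow (hodd e he heα) k)
      rw [← hj]; exact hcj s hs _
    refine ⟨⟨h3, hD1 s hs _ _ ?_ hsβ⟩, h1⟩
    have h4 : s * ((s * e) ^ k * s) = ((s * e) ^ k * s) * e := by
      generalize (s * e) ^ k * s = ρ at h1 h2 h3
      rw [← h1, hinv _ h3]
      calc s * ρ = (ρ * ρ) * s * ρ := by rw [h2, one_mul]
        _ = _ := by simp only [mul_assoc]
    rw [← mul_smul, h4, mul_smul, heα]
  have hf : ∀ r ∈ B, IsConj z (r * s * r⁻¹) ∧ (r * s * r⁻¹) • α = α := fun r hr =>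
    ⟨hcj s hs r, by rw [hinv r hr.1, mul_smul, mul_smul, hr.2, hsβ, hswap r hr]⟩
  have hdet : ∀ r ∈ B, ∀ k, orderOf (s * (r * s * r⁻¹)) = 2 * k + 1 →
      (s * (r * s * r⁻¹)) ^ k * s = r := by
    intro r hr k hk
    obtain ⟨he, heα⟩ := hf r hr
    refine huniq r hr _ (hρ _ he heα k hk).1 ?_
    set e := r * s * r⁻¹ with hedef
    have h0 : (s * e) ^ (2 * k + 1) = 1 := by rw [← hk, pow_orderOf_eq_one]
    have h1 : r * (s * e) * r⁻¹ = (s * e)⁻¹ := by
      rw [mul_inv_rev, hinv e he, hinv s hs, hedef, hinv r hr.1]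
      calc r * (s * (r * s * r)) * r = r * s * r * s * (r * r) := by group
        _ = _ := by rw [hsq r hr.1, mul_one]
    have h2 := Inv.conj_pow_of_inverts h1 k
    have h3 : e = (s * e)⁻¹ * s := by
      rw [mul_inv_rev, hinv e he, hinv s hs, mul_assoc, hsq s hs, mul_one]
    have h4 : ((s * e) ^ k)⁻¹ * (s * e)⁻¹ = (s * e) ^ k := by
      rw [← mul_inv_rev, inv_eq_iff_mul_eq_one, ← pow_succ', ← pow_add, ← h0]
      congr 1; ring
    symm
    calc r * ((s * e) ^ k * s) = (r * (s * e) ^ k * r⁻¹) * (r * s * r⁻¹) * r := by group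
      _ = ((s * e) ^ k)⁻¹ * ((s * e)⁻¹ * s) * r := by rw [h2, ← hedef, ← h3]
      _ = (s * e) ^ k * s * r := by rw [← mul_assoc, h4]
  have hcard : Nat.card B = Nat.card {e : G | IsConj z e ∧ e • α = α} := by
    refine Nat.card_eq_of_bijective (fun r => ⟨r * s * (r : G)⁻¹, hf r r.2⟩) ⟨?_, ?_⟩
    · intro r r' h
      have h1 : (r : G) * s * (r : G)⁻¹ = r' * s * (r' : G)⁻¹ := congrArg Subtype.val h
      obtain ⟨k, hk⟩ := hodd _ (hf r r.2).1 (hf r r.2).2
      apply Subtype.ext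
      rw [← hdet r r.2 k hk, ← hdet r' r'.2 k (h1 ▸ hk), h1]
    · intro e
      obtain ⟨k, hk⟩ := hodd _ e.2.1 e.2.2
      obtain ⟨h1, h2⟩ := hρ _ e.2.1 e.2.2 k hk
      exact ⟨⟨_, h1⟩, Subtype.ext h2⟩
  rw [← hcard]
  obtain ⟨k, hk⟩ := hodd z (IsConj.refl z) hzα
  obtain ⟨r, hr⟩ : ∃ r, r ∈ B := ⟨_, (hρ z (IsConj.refl z) hzα k hk).1⟩
  have hmem : ∀ g ∈ zpowers r, g = 1 ∨ g = r := by
    rintro _ ⟨n, rfl⟩
    rcases Int.even_or_odd' n with ⟨j, rfl | rfl⟩
    · left; simp only; rw [zpow_mul, zpow_two, hsq r hr.1, one_zpow]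
    · right; simp only; rw [zpow_add, zpow_mul, zpow_two, hsq r hr.1, one_zpow, one_mul, zpow_one]
  refine Grp.ConjCount.not_dvd_card_of_unique (P := zpowers r)
    (isPGroup_zpowers ⟨1, by rw [pow_one, pow_two, hsq r hr.1]⟩) B (fun g hg x hx => ?_) hr
    (by rw [centralizer_zpowers]; exact mem_centralizer_singleton_iff.2 rfl) fun x hx hc => ?_
  · rcases hmem g hg with rfl | rfl
    · simpa using hx
    · exact ⟨hcj x hx.1 _, by rw [hinv g hr.1, mul_smul, mul_smul, hr.2, hswap x hx, hr.2]⟩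
  · rw [centralizer_zpowers] at hc
    exact huniq r hr x hx (mem_centralizer_singleton_iff.1 hc)

theorem mem_cj_iff_smul {G : Type*} [Group G] {H : Subgroup G} {x g : G} :
    x ∈ cj(g, H) ↔ x • (g : G ⧸ H) = g := by
  rw [mem_cj, MulAction.Quotient.smul_mk, eq_comm, QuotientGroup.eq, smul_eq_mul, mul_assoc]

theorem uniq_conj {G : Type*} [Group G] {H : Subgroup G} {x : G}
    (h : ∀ g : G, x ∈ cj(g, H) ↔ g ∈ H) (c : G) (ω ω' : G ⧸ H) (h1 : (c * x * c⁻¹) • ω = ω)
    (h2 : (c * x * c⁻¹) • ω' = ω') : ω = ω' := by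
  have key : ∀ ω : G ⧸ H, (c * x * c⁻¹) • ω = ω → ω = c := by
    intro ω h1
    obtain ⟨g, rfl⟩ := QuotientGroup.mk_surjective ω
    have h3 := (h (c⁻¹ * g)).1 (by
      rw [mem_cj]
      have := mem_cj.1 (mem_cj_iff_smul.2 h1)
      convert this using 1; group)
    exact (QuotientGroup.eq.2 h3).symm
  rw [key ω h1, key ω' h2]


/-- Let z be an involution of a finite group G and H a proper subgroup such that z lies in gHg⁻¹ exactly when g ∈ H. Then the following are equivalent: (1) for every conjugate t ≠ z of z commuting with z, the product zt lies in gHg⁻¹ exactly when g ∈ H; (2) z lies in the centre of some Sylow 2-subgroup of G, and for every conjugate t ≠ z of z commuting with z, the centralizer of zt is contained in H. -/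
theorem result {G : Type*} [Group G] [Finite G] (z : G) (hz : orderOf z = 2) (H : Subgroup G) (hH : H ≠ ⊤)
    (h0 : ∀ g : G, z ∈ H.map (MulAut.conj g).toMonoidHom ↔ g ∈ H) :
    (∀ t : G, IsConj z t → t ≠ z → t * z = z * t → ∀ g : G, z * t ∈ H.map (MulAut.conj g).toMonoidHom ↔ g ∈ H) ↔
      ((∃ P : Sylow 2 G, z ∈ (Subgroup.center ↥(P : Subgroup G)).map (P : Subgroup G).subtype) ∧
        ∀ t : G, IsConj z t → t ≠ z → t * z = z * t → Subgroup.centralizer ({z * t} : Set G) ≤ H) := by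
  have hz2 := Inv.mul_self_of_orderOf_eq_two hz
  have hzH : z ∈ H := by simpa [cj_one] using (h0 1).2 H.one_mem
  have hCH : ∀ x : G, (∀ g : G, x ∈ cj(g, H) ↔ g ∈ H) → centralizer {x} ≤ H := by
    intro x hx c hc
    refine (hx c).1 (mem_cj.2 ?_)
    rw [mul_assoc, ← mem_centralizer_singleton_iff.1 hc, inv_mul_cancel_left]
    simpa [cj_one] using (hx 1).2 H.one_mem
  have hzp : IsPGroup 2 (zpowers z) := isPGroup_zpowers ⟨1, by rw [pow_one, pow_two, hz2]⟩
  constructor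
  · intro h1
    refine ⟨?_, fun t ht hne hc => hCH _ (h1 t ht hne hc)⟩
    obtain ⟨g₀, hg₀⟩ : ∃ g, g ∉ H := by
      by_contra hc
      push Not at hc
      exact hH (eq_top_iff.2 fun g _ => hc g)
    have hodd := odd_class (Ω := G ⧸ H) (α := (1 : G)) (β := g₀) (s := g₀ * z * g₀⁻¹) hz2
      (fun d hd => by
        obtain ⟨c, rfl⟩ := isConj_iff.1 hd
        exact uniq_conj h0 c)
      (fun d t hd ht hne hc => by
        obtain ⟨c, rfl⟩ := isConj_iff.1 hd
        have := uniq_conj (h1 (c⁻¹ * t * c⁻¹⁻¹) (ht.trans (isConj_iff.2 ⟨c⁻¹, rfl⟩))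
          (fun h => hne (by rw [← h]; group)) (by
            calc c⁻¹ * t * c⁻¹⁻¹ * z = c⁻¹ * (t * (c * z * c⁻¹)) * c := by group
              _ = _ := by rw [hc]; group)) c
        convert this using 3 <;> group)
      (fun h => hg₀ (by simpa using QuotientGroup.eq.1 h))
      (mem_cj_iff_smul.1 (by rwa [cj_one])) (isConj_iff.2 ⟨g₀, rfl⟩)
      (mem_cj_iff_smul.1 (conj_mem_cj g₀ hzH))
    obtain ⟨P, hP⟩ := hzp.exists_le_sylow
    have hPH : (P : Subgroup G) ≤ H := by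
      refine inf_eq_left.1 (eq_of_inf_normalizer_le P.isPGroup' inf_le_left fun n hn =>
        ⟨hn.1, (h0 n).1 (mem_cj.2 ?_)⟩)
      exact (inv_conj_mem_of_mem_normalizer hn.2 ⟨hP (mem_zpowers z), hzH⟩).2
    obtain ⟨d, hd, hdc⟩ := Grp.ConjCount.exists_mem_centralizer P.isPGroup'
      {e : G | IsConj z e ∧ e • ((1 : G) : G ⧸ H) = (1 : G)} (fun g hg x hx => ⟨hx.1.trans (isConj_iff.2 ⟨g, rfl⟩), mem_cj_iff_smul.1 (by
        have := mem_cj_iff_smul.2 hx.2
        rw [cj_one] at this ⊢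
        exact H.mul_mem (H.mul_mem (hPH hg) this) (H.inv_mem (hPH hg)))⟩) hodd
    obtain ⟨c, rfl⟩ := isConj_iff.1 hd.1
    have hzc : z ∈ 𝐂[((c⁻¹ • P : Sylow 2 G) : Subgroup G)] := by
      rw [coe_smul_sylow, centralizer_cj, mem_cj, inv_inv]
      exact hdc
    refine ⟨c⁻¹ • P, ?_⟩
    rw [PLocal.map_center_subtype]
    refine ⟨zpowers_le.1 ((isSyl_top _).le_of_normalizes hzp le_top ?_), hzc⟩
    exact zpowers_le.2 (centralizer_le_normalizer' _ hzc)
  · rintro ⟨⟨P, hP⟩, h2⟩ t ht hne hc g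
    rw [PLocal.map_center_subtype] at hP
    have hC := h2 t ht hne hc
    have huH : z * t ∈ H := hC (mem_centralizer_singleton_iff.2 rfl)
    refine ⟨fun hg => ?_, fun hg => by rwa [cj_of_mem hg]⟩
    have hPH : (P : Subgroup G) ≤ H := fun x hx => hCH z h0
      (mem_centralizer_singleton_iff.2 (mem_centralizer_iff.1 hP.2 x hx))
    have ht2 : t * t = 1 := by
      obtain ⟨c, rfl⟩ := isConj_iff.1 ht
      exact Inv.conj_mul_self hz2 c
    have hup : IsPGroup 2 (zpowers (z * t)) := isPGroup_zpowers ⟨1, by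
      rw [pow_one, pow_two, mul_assoc, ← mul_assoc t, hc, mul_assoc, ht2, mul_one, hz2]⟩
    obtain ⟨k, hk, hk'⟩ := ((isSyl_of_le P hPH).cj g).exists_cj_le hup (zpowers_le.2 hg)
    have h3 := mem_centralizer_iff.1 hP.2 _ (mem_cj.1 (hk' (conj_mem_cj k (mem_zpowers _))))
    have h4 : g⁻¹ * k ∈ H := (h0 _).1 (mem_cj.2 (hC (mem_centralizer_singleton_iff.2 (by
      calc (g⁻¹ * k)⁻¹ * z * (g⁻¹ * k) * (z * t)
          = k⁻¹ * g * (z * (g⁻¹ * (k * (z * t) * k⁻¹) * g)) * g⁻¹ * k := by group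
        _ = _ := by rw [← h3]; group))))
    have := H.mul_mem (H.inv_mem h4) (mem_cj.1 hk)
    convert this using 1; group

end Cfsg.Agent.S1922
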