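import Cfsg.Statements.S1923
import Cfsg.Agent.NSF.Bad
import Cfsg.Agent.K.GenAll
import Cfsg.Agent.K.NSAll
import Cfsg.Agent.K.Coprime

set_option autoImplicit false
open Cfsg Cfsg.Agent.FT Subgroup Cfsg.Agent.PLocal.Sig Cfsg.Agent.NSF

namespace Cfsg.Agent.S1923

/-- Let r be a prime and let A and G be subgroups of a finite group X with G nontrivial and A normalizing G, A an elementary abelian r-group of order at least r³. For each nontrivial a ∈ A let θ(a) be an A-invariant subgroup of C_G(a) of order prime to r such that: (a) whenever the layer E(θ(a)) is nontrivial, it is a non-abelian group whose only A-invariant normal subgroups are 1 and itself, all of its non-abelian simple sections are known simple groups, the Fitting subgroup of θ(a) is trivial, and C_A(E(θ(a))) = ⟨a⟩; (b) for all nontrivial a, b ∈ A, θ(a) ∩ C_G(b) ≤ θ(b) and E(E(θ(a)) ∩ C_G(b)) ≤ E(θ(b)); (c) G is generated by the subgroups E(θ(a)). Then G has order prime to r, G is non-abelian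 with no A-invariant normal subgroups other than 1 and G, every non-abelian simple section of G is a known simple group, and C_G(a) = θ(a) for every nontrivial a ∈ A. -/
theorem result {X : Type*} [Group X] [Finite X] {r : ℕ} [Fact r.Prime] (A G : Subgroup X) (hG : G ≠ ⊥) (hAG : A ≤ Subgroup.normalizer (G : Set X))
    (hA : Cfsg.IsElementaryAbelian r A) (hrank : r ^ 3 ≤ Nat.card A)
    (θ : X → Subgroup X)
    (hθ : ∀ a ∈ A, a ≠ 1 → θ a ≤ G ⊓ Subgroup.centralizer ({a} : Set X) ∧ A ≤ Subgroup.normalizer ((θ a : Subgroup X) : Set X) ∧ (Nat.card ↥(θ a)).Coprime r)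
    (hE : ∀ a ∈ A, a ≠ 1 → Cfsg.layer ↥(θ a) ≠ ⊥ →
      ¬ IsMulCommutative ↥((Cfsg.layer ↥(θ a)).map (θ a).subtype) ∧
      (∀ N : Subgroup X, N ≤ (Cfsg.layer ↥(θ a)).map (θ a).subtype → (N.subgroupOf ((Cfsg.layer ↥(θ a)).map (θ a).subtype)).Normal →
         A ≤ Subgroup.normalizer (N : Set X) → N = ⊥ ∨ N = (Cfsg.layer ↥(θ a)).map (θ a).subtype) ∧
      Cfsg.IsKGroup ↥((Cfsg.layer ↥(θ a)).map (θ a).subtype) ∧
      Cfsg.fittingSubgroup ↥(θ a) = ⊥ ∧
      A ⊓ Subgroup.centralizer (((Cfsg.layer ↥(θ a)).map (θ a).subtype : Subgroup X) : Set X) = Subgroup.zpowers a)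
    (hbal : ∀ a ∈ A, ∀ b ∈ A, a ≠ 1 → b ≠ 1 →
      θ a ⊓ Subgroup.centralizer ({b} : Set X) ≤ θ b ∧
      (Cfsg.layer ↥((Cfsg.layer ↥(θ a)).map (θ a).subtype ⊓ Subgroup.centralizer ({b} : Set X))).map
          ((Cfsg.layer ↥(θ a)).map (θ a).subtype ⊓ Subgroup.centralizer ({b} : Set X)).subtype ≤ (Cfsg.layer ↥(θ b)).map (θ b).subtype)
    (hgen : G = ⨆ a : {a : X // a ∈ A ∧ a ≠ 1}, (Cfsg.layer ↥(θ a.1)).map (θ a.1).subtype) :
    (Nat.card G).Coprime r ∧ ¬ IsMulCommutative ↥G ∧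
    (∀ N : Subgroup X, N ≤ G → (N.subgroupOf G).Normal → A ≤ Subgroup.normalizer (N : Set X) → N = ⊥ ∨ N = G) ∧
    Cfsg.IsKGroup ↥G ∧ ∀ a ∈ A, a ≠ 1 → G ⊓ Subgroup.centralizer ({a} : Set X) = θ a := by
  set K : X → Subgroup X := fun a => (layer (θ a)).map (θ a).subtype with hK
  have hE' := fun a (ha : Gd A K a) =>
    hE a ha.mem ha.ne fun e => ha.nb (by simp only [hK, e, Subgroup.map_bot])
  have hcop : ∀ a ∈ A, a ≠ 1 → ¬ r ∣ Nat.card (θ a) := fun a ha h1 =>
    (Nat.Prime.coprime_iff_not_dvd Fact.out).1 (hθ a ha h1).2.2.symm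
  have hns : ∀ a, Gd A K a → ∀ L, IsComponentOf L (θ a) → NS L := fun a ha L hL =>
    (NS.mk (Agent.K.comp_simple (hE' a ha).2.2.2.1 hL.2)
      (mt abelian_iff.2 (PLocal.qs_not_comm hL.2.2))).congr (subgroupOfEquivOfLe hL.1)
  have hblk : ∀ a, Gd A K a → Blk (K a) {L | IsComponentOf L (θ a)} := fun a ha =>
    ⟨le_antisymm (PLocal.map_layer_le_iff.2 fun L h1 h2 => le_sSup ⟨h1, h2⟩)
      (sSup_le fun L hL => PLocal.le_map_layer hL.1 hL.2), fun L hL L' hL' e => comm_eq_bot_iff.1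
      (PLocal.comp_subgroupOf_commute_of_ne hL.1 hL'.1 hL.2 hL'.2 e),
      fun L hL => (hns a ha L hL).zb, fun L hL => (hns a ha L hL).ne⟩
  have hact : ∀ a, ∀ x ∈ 𝒩(θ a), ∀ L ∈ {L | IsComponentOf L (θ a)},
      cj x L ∈ {L | IsComponentOf L (θ a)} := fun a x hx L hL =>
    PLocal.comp_subgroupOf_conj hL.1 hL.2 hx
  have h : Raw r A θ K fun a => {L | IsComponentOf L (θ a)} :=
    { ea := hA
      rank := hrank
      cent := fun a ha h1 => (hθ a ha h1).1.trans inf_le_right
      inv := fun a ha h1 => (hθ a ha h1).2.1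
      cop := hcop
      bal := fun a ha b hb h1 h2 => (hbal a ha b hb h1 h2).1
      le := fun a _ _ => map_subtype_le _
      faith := fun a ha => eq_bot_iff.2 (by
        have h1 := PLocal.inf_centralizer_map_fstar_le (θ a)
        rwa [PLocal.map_fstar, (hE' a ha).2.2.2.1, Subgroup.map_bot, sup_bot_eq] at h1)
      blk := hblk
      kf := fun a ha L hL =>
        have h1 := hns a ha L hL
        have := h1.simple
        have h2 := Misc.isKGroup_of_injective (hE' a ha).2.2.1 _ (inclusion_injective ((hblk a ha).le hL))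
        have h3 := not_dvd_of_le hL.1 (hcop a ha.mem ha.ne)
        ⟨h1, h3, Agent.K.copFacts_of_isKGroup h1.na' h2, Agent.K.genQ_of_isKGroup h1.na' h2,
          Agent.K.exists_nsp Fact.out h3⟩
      actθ := fun a _ x hx => hact a x (le_norm_self _ hx)
      act := fun a ha x hx => hact a x ((hθ a ha.mem ha.ne).2.1 hx)
      trans := fun a ha L hL L' hL' => by
        have h1 := fun x hx => hact a x ((hθ a ha.mem ha.ne).2.1 hx)
        have h2 : orb A L ⊴ K a := ⟨(hblk a ha).orb_le_K h1 hL, by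
          rw [((hblk a ha).sub h1 hL).sup]
          refine norm_sSup ?_
          rintro g hg _ ⟨t, ht, rfl⟩
          exact ⟨t, ht, (cj_of_mem_normalizer ((hblk a ha).norm (h1 t ht L hL) hg)).symm⟩⟩
        exact (hblk a ha).exists_of_le_orb h1 hL hL' (((hblk a ha).le hL').trans
          (((hE' a ha).2.1 _ h2.1 h2.normal (norm_orb _ _)).resolve_left fun e =>
            (hns a ha L hL).ne (eq_bot_iff.2 ((le_orb _ _).trans e.le))).ge)
      ker := fun a ha x hx h1 => (hE' a ha).2.2.2.2.le ⟨hx, h1⟩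
      ebal := fun a ha b hb h1 h2 N h3 hN => (PLocal.le_map_layer hN.1
        ((PLocal.comp_subgroupOf_iff hN.1).2 ⟨hN.normal.isSubnormal,
          PLocal.qs_of_simple h3.simple h3.na'⟩)).trans (hbal a ha b hb h1 h2).2
      ex := by
        by_contra! h1
        exact hG (hgen.trans (iSup_eq_bot.2 fun a => by_contra fun e => h1 a ⟨a.2.1, a.2.2, e⟩)) }
  have kk : ∀ a c, θ c = θ a → K c = K a := fun a c e => by simp only [hK]; rw [e]
  obtain ⟨f, hf, h1, h2, h3⟩ := h.exists_f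
  obtain ⟨l, M, W, hd⟩ : ∃ l M W,
      Dl r A f θ K (fun a => orb (zpowers f) '' {L | IsComponentOf L (θ a)}) l M W := by
    by_cases h0 : Gd A K f
    · exact h.generic h0 (h3 h0) h2
    refine h.bad hf h1 h0 h2 kk fun h4 => ?_
    have h5 := PLocal.normalizer_le_normalizer_map_fstar (θ f)
    refine ⟨_, inf_le_left.trans (map_subtype_le _), abelian_iff.1 (abelian_center _),
      norm_center ((le_norm_self _).trans h5), norm_center ((hθ f hf h1).2.1.trans h5), ?_⟩
    have := (nontrivial_iff_ne_bot _).2 h4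
    have h6 := (map_eq_bot_iff_of_injective _ (θ f).subtype_injective).not.2
      (PLocal.fstar_ne_bot (θ f))
    rw [PLocal.map_fstar, show (layer (θ f)).map (θ f).subtype = ⊥ from
      by_contra fun e => h0 ⟨hf, h1, e⟩, bot_sup_eq] at h6 ⊢
    have := (nontrivial_iff_ne_bot _).2 h6
    have := Grp.isNilpotent_map_fitting (θ f).subtype
    rw [← center_map_subtype, Ne, map_eq_bot_iff_of_injective _ (Subgroup.subtype_injective _)]
    exact Group.IsNilpotent.center_ne_bot _
  obtain ⟨e, he, hc⟩ := hd.exists_cons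
  have h4 : ∀ c ∈ zpowers f, c ≠ 1 → θ c = θ f := fun c hc h4 =>
    have h5 := zpowers_le.2 hf hc
    have h6 := cent1_eq_of_mem_zpowers (hA.2 f hf) hc h4
    le_antisymm ((le_inf le_rfl (h6 ▸ h.cent c h5 h4)).trans (h.bal c h5 f hf h4 h1))
      ((le_inf le_rfl (h6 ▸ h.cent f hf h1)).trans (h.bal f hf c h5 h1 h4))
  obtain ⟨h5, h6, h7, h8, h9⟩ := hc.main (G := G) (fun a ha => (hE' a (h2 a ha).1).2.2.1)
    ((hθ f hf h1).1 (hd.EE_le_θ he)).1 hAG
    (fun a ha => (hc.le a ha).trans ((hθ a ha.mem ha.ne).1.trans inf_le_left)) fun Y hY =>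
      hgen.le.trans (iSup_le fun a => by
        by_cases h5 : a.1 ∈ zpowers f
        swap
        · exact hY a ⟨a.2.1, h5⟩
        refine (kk _ _ (h4 _ h5 a.2.2)).le.trans ?_
        by_cases h0 : Gd A K f
        · exact hc.line_le ((hθ f hf h1).2.1.trans (PLocal.normalizer_le_normalizer_map_layer _))
            (not_dvd_of_le (map_subtype_le _) (hcop f hf h1)) fun c hc =>
              (h.diag h0 hc.mem fun e => hc.nm (h3 h0 e)).trans (hY c hc)
        · exact (show K f = ⊥ from by_contra fun e => h0 ⟨hf, h1, e⟩).le.trans bot_le)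
  refine ⟨((Nat.Prime.coprime_iff_not_dvd Fact.out).2 h5).symm, h6,
    fun N h10 h11 => h7 N (normIn_iff.2 ⟨h10, h11⟩), h8,
    fun a ha h10 => le_antisymm ?_ (hθ a ha h10).1⟩
  by_cases h11 : a ∈ zpowers f
  · exact hc.line_le (norm_inf hAG (ea_norm_cent1 hA ha)) (not_dvd_of_le inf_le_left h5)
      fun c hc' g hg => h.bal c hc'.mem a ha hc'.ne h10
        ⟨hc.le c hc' (h9 c hc' ⟨hg.1.1, hg.2⟩), hg.1.2⟩
  · exact (h9 a ⟨ha, h11⟩).trans (map_subtype_le _)

end Cfsg.Agent.S1923
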