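import Mathlib
import Cfsg.Statements.S1932
import Cfsg.Agent.PLocal.ClassTwoJ
import Cfsg.Agent.PLocal.Factorization
import Cfsg.Agent.PLocal.NStable
import Cfsg.Agent.Transfer.ThompsonReduction

set_option autoImplicit false
open Cfsg

namespace Cfsg.Agent.S1932

/-- Let G be a finite group that is 2-constrained and has no section isomorphic to the symmetric group of degree 4, and let S be a Sylow 2-subgroup of G of nilpotency class at most 2. Then G = N_G(J(S))·O_{2'}(G), where J(S) is the Thompson subgroup generated by the elementary abelian subgroups of S of largest order. -/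
theorem result {G : Type*} [Group G] [Finite G] (hcon : Cfsg.IsPConstrained 2 G) (hS4 : ¬ Cfsg.Involves (Equiv.Perm (Fin 4)) G) (S : Sylow 2 G) (hcl : Subgroup.lowerCentralSeries (S : Subgroup G) 2 = ⊥) : Subgroup.normalizer ((Cfsg.thompsonSubgroupOf 2 (S : Subgroup G)) : Set G) ⊔ Cfsg.pPrimeCore 2 G = ⊤ := by
  open PLocal PLocal.Amb Subgroup in
  have : Fact (Nat.Prime 2) := ⟨Nat.prime_two⟩
  have hs := QuotientGroup.mk'_surjective (pPrimeCore 2 G)
  have hcop := Grp.pPrimeCore_coprime 2 G
  set f := QuotientGroup.mk' (pPrimeCore 2 G) with hf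
  have hS : ⁅⁅(S : Subgroup G).map f, (S : Subgroup G).map f⁆, (S : Subgroup G).map f⁆ = ⊥ := by
    have h : ⁅⁅(S : Subgroup G), (S : Subgroup G)⁆, (S : Subgroup G)⁆ = ⊥ := hcl
    rw [← Subgroup.map_commutator, ← Subgroup.map_commutator, h, Subgroup.map_bot]
  have h1 := le_pCore_of_class_two (G ⧸ pPrimeCore 2 G) (isPConstrained_iff.1 hcon)
    (fun T hT => by
      obtain ⟨g, -, hg⟩ := (isSyl_top (S.mapSurjective hs)).exists_cj_le hT le_top
      rw [← cj_eq_bot (g := g), ← commutator_cj, ← commutator_cj]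
      exact le_bot_iff.1 ((commutator_mono (commutator_mono hg hg) hg).trans hS.le))
    (fun h => hS4 (CF.sec_iff_involves.1 (h.trans (CF.sec_quotient _))))
  have h2 : thompsonSubgroupOf 2 ((S : Subgroup G).map f) ≤ pCore 2 _ :=
    thompsonSubgroupOf_le_iff.2 fun A hA => h1 A (by
      rw [maxEA_top]; exact maxEA_sylow_subset (S.mapSurjective hs) hA)
  have h3 : (thompsonSubgroupOf 2 ((S : Subgroup G).map f)).Normal := by
    rw [← thompsonSubgroupOf_eq_of_le h2 (Grp.pCore_le_sylow (S.mapSurjective hs))]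
    exact thompsonSubgroupOf_normal _
  rw [← map_thompsonSubgroupOf_of_inf_ker (by
    rw [hf, QuotientGroup.ker_mk']
    exact Grp.inf_eq_bot_of_isPGroup_of_coprime S.isPGroup' hcop), ← normalizer_eq_top_iff,
    Transfer.normalizer_map_mk'_of_coprime _ hcop (S.isPGroup'.to_le (thompsonSubgroupOf_le _))] at h3
  have h4 := congrArg (comap f) h3
  rwa [comap_map_eq, comap_top, hf, QuotientGroup.ker_mk'] at h4

end Cfsg.Agent.S1932
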