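import Mathlib
import Cfsg.Statements.S1953
import Cfsg.Agent.PLocal.AutFree
import Cfsg.Agent.PLocal.CFSoluble
-- import your own Cfsg.Agent.* helpers here

set_option autoImplicit false
open Cfsg

namespace Cfsg.Agent.S1953

open Subgroup Cfsg.Agent.Fus Cfsg.Agent.FGS Cfsg.Agent.PLocal.CF

/-- Let p be an odd prime and P a Sylow p-subgroup of the finite group G, and suppose that for no p-subgroup Q of G does N_G(Q)/C_G(Q) have a section isomorphic to SL₂(p). Call a subgroup Q of P centric-radical when Z(Q) is a Sylow p-subgroup of C_G(Q) and the only normal subgroup X of N_G(Q) containing Q·C_G(Q) such that the index of Q·C_G(Q) in X is a power of p is Q·C_G(Q) itself (that is, N_G(Q)/Q·C_G(Q) has no nontrivial normal p-subgroup). Then there is a centric-radical subgroup Q of P contained in every centric-radical subgroup of P; it is normal in P, and N_G(Q) controls strong fusion in P: whenever a subgroup A of P has g A g⁻¹ ≤ P, the element g is a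 product h c with h in N_G(Q) and c centralizing A. -/
theorem result {G : Type*} [Group G] [Finite G] {p : ℕ} [Fact p.Prime] (hp : p ≠ 2) (P : Sylow p G)
    (hfree : ∀ Q : Subgroup G, IsPGroup p ↥Q → ¬ ∃ (H K : Subgroup G) (_ : (K.subgroupOf H).Normal),
      Subgroup.centralizer (Q : Set G) ≤ K ∧ K ≤ H ∧ H ≤ Subgroup.normalizer (Q : Set G) ∧
      Nonempty ((↥H ⧸ K.subgroupOf H) ≃* Matrix.SpecialLinearGroup (Fin 2) (ZMod p)))
    (cr : Subgroup G → Prop)
    (hcr : ∀ Q : Subgroup G, cr Q ↔ (Q ≤ (P : Subgroup G) ∧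
      (∃ R : Sylow p ↥(Subgroup.centralizer (Q : Set G)),
        (R : Subgroup ↥(Subgroup.centralizer (Q : Set G))).map (Subgroup.centralizer (Q : Set G)).subtype = Q ⊓ Subgroup.centralizer (Q : Set G)) ∧
      ∀ X : Subgroup G, X ≤ Subgroup.normalizer (Q : Set G) →
        (∀ n ∈ Subgroup.normalizer (Q : Set G), X.map (MulAut.conj n).toMonoidHom = X) →
        Q ⊔ Subgroup.centralizer (Q : Set G) ≤ X → (∃ k : ℕ, (Q ⊔ Subgroup.centralizer (Q : Set G)).relIndex X = p ^ k) →
        X = Q ⊔ Subgroup.centralizer (Q : Set G))) :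
    ∃ Q : Subgroup G, cr Q ∧ (∀ R : Subgroup G, cr R → Q ≤ R) ∧ (∀ x ∈ (P : Subgroup G), Q.map (MulAut.conj x).toMonoidHom = Q) ∧
      ∀ A : Subgroup G, A ≤ (P : Subgroup G) → ∀ g : G, A.map (MulAut.conj g).toMonoidHom ≤ (P : Subgroup G) →
        ∃ h ∈ Subgroup.normalizer (Q : Set G), ∃ c ∈ Subgroup.centralizer (A : Set G), g = h * c := by
  have hS := syl_top P
  have hA := autFree_of_not_section hfree
  obtain ⟨Q, hQ, hmax⟩ := exists_fn_max hS
  have hQp := hS.pg.to_le hQ.le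
  have hCN : ∀ R : Subgroup G, Ce R ≤ Nm R := fun R => centralizer_le_normalizer _
  have hc : (P : Subgroup G) ⊓ Ce Q ≤ Q := by
    by_contra hc
    obtain ⟨B, hB, h⟩ := hQ.exists_not_le (kinf_isCharPFunctor (Or.inl rfl)) hS hc
      fun L _ _ f hf _ => kinf_familySF (G := G) (Or.inl rfl)
        (fun K R _ => (hA.sec (sec_tmpl K R)).isNormalizerPStable hp) L ⟨_, f, hf⟩
    exact h (hmax B hB)
  have hctl : ∀ A : Subgroup G, A ≤ (P : Subgroup G) → ∀ g : G, cj g A ≤ (P : Subgroup G) →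
      ∃ h ∈ Nm Q, ∃ c ∈ Ce A, g = h * c := fun A hA g hg => by
    obtain ⟨h, hh, e⟩ := (hQ.controls hS A hA).2 g hg
    refine ⟨h, hh, h⁻¹ * g, mem_ce_of_conj_eq fun a ha => ?_, by group⟩
    calc _ = h⁻¹ * (g * a * g⁻¹) * h := by group
      _ = a := by rw [e a ha]; group
  refine ⟨Q, (hcr Q).2 ⟨hQ.le, ?_, fun X h1 h2 h3 ⟨k, h4⟩ => ?_⟩, fun R hR => ?_,
    fun x hx => mapConj_of_mem_normalizer (hQ.le_nm hx), hctl⟩
  · obtain ⟨R, hR⟩ := ((hS.of_le hQ.le_nm le_top).inf_normal (hCN Q)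
      (normalizer_le_normalizer_centralizer _)).sylIn
    refine ⟨R, ?_⟩
    rw [hR, map_subgroupOf_eq_of_le inf_le_right]
    exact le_antisymm (le_inf hc inf_le_right) (inf_le_inf_right _ hQ.le)
  · have hn : Nm Q ≤ Nm X := fun n hn => mapConj_eq_self_iff.1 (h2 n hn)
    have hY : X ≤ Nm (Q ⊔ Ce Q) := h1.trans ((le_inf le_rfl
      (normalizer_le_normalizer_centralizer _)).trans (normalizer_inf_normalizer_le_normalizer_sup _ _))
    have h5 := hmax _ (hQ.inf_of_pow_mem hS hc hn fun x hx =>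
      ⟨k, exists_pow_mem_of_relIndex hY h4 hx⟩)
    have h6 := ((hS.of_le hQ.le_nm le_top).inf_normal h1 hn).nd
    refine le_antisymm (relIndex_eq_one.1 ?_) h3
    have h7 := relIndex_dvd_of_le_left X (h5.trans (le_sup_left : Q ≤ Q ⊔ Ce Q))
    rw [h4] at h7 ⊢
    rcases k with _ | k
    · rfl
    · exact absurd ((dvd_pow_self p k.succ_ne_zero).trans h7) h6
  · obtain ⟨hRP, ⟨T, hT⟩, hrad⟩ := (hcr R).1 hR
    have hRQ : R ≤ Nm Q := hRP.trans hQ.le_nm
    have hY : Nm R ≤ Nm (R ⊔ Ce R) := (le_inf le_rfl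
      (normalizer_le_normalizer_centralizer _)).trans (normalizer_inf_normalizer_le_normalizer_sup _ _)
    have hXN : (Q ⊓ Nm R) ⊔ (R ⊔ Ce R) ≤ Nm R := sup_le inf_le_right (sup_le le_normalizer (hCN R))
    have h1 := hrad ((Q ⊓ Nm R) ⊔ (R ⊔ Ce R)) hXN (fun n hn => by
      obtain ⟨h, hh, c, hc, rfl⟩ := hctl R hRP n ((mapConj_of_mem_normalizer hn).le.trans hRP)
      have hhR : h ∈ Nm R := by simpa using mul_mem hn (inv_mem (hCN R hc))
      refine mapConj_of_mem_normalizer (mul_mem (normalizer_inf_normalizer_le_normalizer_sup _ _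
        ⟨inf_normalizer_le_normalizer_inf ⟨hh, le_normalizer hhR⟩, hY hhR⟩) ?_)
      exact le_normalizer (mem_sup_right (mem_sup_right hc))) le_sup_right
      (relIndex_eq_pow_of_pow_mem (hXN.trans hY) fun x hx =>
        pow_mem_of_mem_sup (hQp.to_le inf_le_left) (inf_le_right.trans hY) hx)
    refine le_of_inf_nm_le hS.pg hQ.le hRP hRQ fun x hx => ?_
    obtain ⟨r, hr, c, hc, rfl⟩ := mem_sup_nm (le_normalizer.trans
      (normalizer_le_normalizer_centralizer _)) (h1.le (mem_sup_left hx))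
    have h2 : Syl p (R ⊓ Ce R) (Ce R) := syl_of_sylIn inf_le_right ⟨T, by
      rw [← hT]; exact (comap_map_eq_self_of_injective (Subgroup.subtype_injective _) _).symm⟩
    have h3 := h2.eq_of_le (hS.pg.to_le (inf_le_left : (P : Subgroup G) ⊓ Ce R ≤ P))
      (inf_le_inf_right _ hRP) inf_le_right
    refine R.mul_mem hr (h3.le ⟨?_, hc⟩).1
    have h4 := (P : Subgroup G).mul_mem (Subgroup.inv_mem _ (hRP hr)) (hQ.le hx.1)
    rwa [inv_mul_cancel_left] at h4

end Cfsg.Agent.S1953
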