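import Cfsg.Statements.S2041
import Cfsg.Agent.Spor.MultJ3
import Cfsg.Agent.Spor.CovJ3

set_option autoImplicit false
open Cfsg

namespace Cfsg.Agent.S2041

/-- For any field with 4 elements and any element ω of it with ω² + ω + 1 = 0: the Schur multiplier of the Janko group J₃ (the group generated by explicit 9 × 9 matrices over that field built from ω, taken modulo its centre) is cyclic of order 3; here the Schur multiplier is described through stem extensions, as in the definitions: surjective homomorphisms onto the group from a finite group, whose kernel is central in that finite group and contained in that finite group's commutator subgroup. -/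
theorem result {F : Type*} [Field F] [Fintype F] (hF : Fintype.card F = 4) (ω : F) (hω : ω ^ 2 + ω + 1 = 0) : Cfsg.HasCyclicSchurMultiplier (Cfsg.Spor.J3 F ω) 3 := by
  obtain ⟨F0, _, _, ω0, hF0, hω0⟩ := Spor.J3c.exists_F4
  have h0 := Spor.J3c.F4.mk' hF0 hω0
  exact FGS.HasSchurMultiplier.congr_left (Spor.MultJ3.mult_of (by simp)
    ((Spor.J3c.multOnto_J3 h0).congr_left (Spor.ModelJ3.equiv h0).symm))
    (Spor.ModelJ3.equiv (Spor.J3c.F4.mk' hF hω)).symm

end Cfsg.Agent.S2041
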