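import Cfsg.Statements.S2059
import Mathlib
import Cfsg.Agent.Mult.YMon
import Cfsg.Agent.S1705
import Cfsg.Agent.S5589

set_option autoImplicit false
open Cfsg

namespace Cfsg.Agent.S2059

/-- The Schur multiplier of the Monster (realised inside the presented Bimonster) is trivial; here the Schur multiplier is described through stem extensions, as in the definitions: surjective homomorphisms onto the group from a finite group, whose kernel is central in that finite group and contained in that finite group's commutator subgroup. -/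
theorem result : Cfsg.HasCyclicSchurMultiplier Cfsg.Spor.Monster 1 := by
  have hc := S1705.result.2
  have : Finite Spor.Monster := Nat.finite_of_card_ne_zero (by rw [hc]; norm_num)
  have hM := Mult.YL.perf_of_simple S1705.result.1 (by rw [hc]; norm_num)
  obtain ⟨hi, hz, ⟨e⟩⟩ := S5589.result
  have hx := Gold.CTwo.cx_of (E := Spor.Bimonster.edges) (X := Spor.Bimonster.extra)
  have ht := hx.sq (Mult.YL.hnM .a)
  set t : Spor.Bimonster := .of .a
  have hn : t ∉ commutator Spor.Bimonster := fun h => by
    have cq := hx.map (Abelianization.of (G := Spor.Bimonster))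
    have := Mult.YL.all_eq cq (j := 0) (cq.eq_of_comm (by decide) (Commute.all _ _))
    rw [(Subgroup.eq_top_iff' _).2 (PresentedGroup.generated_by _ (commutator _) fun j =>
      (QuotientGroup.eq_one_iff _).1 ((this j).trans ((QuotientGroup.eq_one_iff _).2 h))),
      Subgroup.index_top] at hi
    omega
  have hne : ∃ x, (.of x : Spor.Bimonster) ≠ t := by
    by_contra! h
    have : t ∈ Subgroup.center _ := Subgroup.mem_center_iff.2 fun g =>
      (Subgroup.mem_centralizer_singleton_iff.1 (PresentedGroup.generated_by _ _ (fun j => by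
        rw [h, Subgroup.mem_centralizer_singleton_iff]) g) :)
    rw [hz, Subgroup.mem_bot] at this
    exact hn (this ▸ one_mem _)
  obtain ⟨β, hβ⟩ := Mult.YL.swap_of_fix S1705.result.1 hM
    (e.symm.trans ((MulAut.conjNormal t).trans e))
    (fun x => by simp [← MulAut.mul_apply, ← map_mul, ht])
    (e.toMonoidHom.comp (Subgroup.inclusion inf_le_right))
    (e.injective.comp (Subgroup.inclusion_injective _)) fun x => by
      obtain ⟨x, rfl⟩ := e.surjective x
      simp only [MulEquiv.trans_apply, MulEquiv.symm_apply_apply, EmbeddingLike.apply_eq_iff_eq,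
        Subtype.ext_iff, MulAut.conjNormal_apply, mul_inv_eq_iff_eq_mul]
      refine ⟨fun h => ⟨⟨x, Subgroup.mem_centralizer_singleton_iff.2 h.symm, x.2⟩, rfl⟩, ?_⟩
      rintro ⟨y, h⟩
      rw [← e.injective h]
      exact (Subgroup.mem_centralizer_singleton_iff.1 y.2.1).symm
  let j := (commutator Spor.Bimonster).subtype.comp e.symm.toMonoidHom
  have hj : ∀ x y, j.comp (MonoidHom.inl _ _) x * j.comp ((MonoidHom.inr _ _).comp β.toMonoidHom) y =
      e.symm (x, β y) := fun x y => by simp [j, ← map_mul, ← Subgroup.coe_mul]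
  have h3 : ∀ g ∈ commutator Spor.Bimonster, ∃ x y, g = e.symm (x, β y) := fun g hg =>
    ⟨(e ⟨g, hg⟩).1, β.symm (e ⟨g, hg⟩).2, by simp⟩
  obtain ⟨Γ, _, _, σ, hσ, h⟩ := Mult.exists_cover Spor.Monster
  rw [Mult.trivial_iff_mcard_eq_one, ← h, Mult.YL.ker_eq_bot_of_wreath ht
    (ι := j.comp (MonoidHom.inl _ _)) (κ := j.comp ((MonoidHom.inr _ _).comp β.toMonoidHom))
    (fun x => ?_) (fun x y => ?_) (fun g => ?_) (fun x y => ?_)
    (fun Δ _ π h1 h2 u h3 h4 => Mult.YL.bimonster_split h1 h2 h3 h4 hne) hM hσ, Subgroup.card_bot]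
  · exact congrArg Subtype.val (e.eq_symm_apply.2 (hβ x))
  · exact (show Commute ((x, 1) : _ × Spor.Monster) (1, β y) by simp [Commute, SemiconjBy]).map j
  · simp only [hj]
    by_cases hg : g ∈ commutator Spor.Bimonster
    · exact (h3 g hg).imp fun x => .imp fun y => .inl
    · exact (h3 (g * t) ((Subgroup.mul_mem_iff_of_index_two hi).2 (iff_of_false hg hn))).imp
        fun x => .imp fun y h => .inr (by rw [← h, mul_assoc, ht, mul_one])
  · rw [hj]
    exact ⟨fun h => by simpa using h, fun h => hn (eq_inv_of_mul_eq_one_right h ▸ inv_mem (e.symm _).2)⟩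

end Cfsg.Agent.S2059
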