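import Cfsg.Statements.S2084
import Cfsg.Agent.Mon.BOut
import Cfsg.Agent.Mon.IsoB
import Cfsg.Agent.Mon.Design
import Cfsg.Agent.Std.Basic

set_option autoImplicit false
open Cfsg

namespace Cfsg.Agent.S2084

/-- The outer automorphism group of the Baby Monster (the finitely presented group of the definitions) is trivial: every automorphism is inner. -/
theorem result : Nat.card (Cfsg.Out Cfsg.Spor.BabyMonster) = 1 := by
  obtain ⟨e⟩ := Mon.baby_iso
  refine Nat.card_eq_one_iff_unique.2 ⟨⟨fun a b => ?_⟩, inferInstance⟩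
  have k : ∀ a : Out Spor.BabyMonster, a = 1 := fun a => by
    obtain ⟨α, rfl⟩ := QuotientGroup.mk_surjective a
    exact (QuotientGroup.eq_one_iff _).2 ((Std.inner_of_equiv e Mon.if1.aut_inner α).imp fun _ => Eq.symm)
  rw [k a, k b]

end Cfsg.Agent.S2084
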