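import Cfsg.Statements.S2085
import Cfsg.Agent.Mon.CuOutM
import Cfsg.Agent.Mon.Iso

set_option autoImplicit false
open Cfsg

namespace Cfsg.Agent.S2085

/-- The outer automorphism group of the Monster (realised inside the presented Bimonster) is trivial: every automorphism is inner. -/
theorem result : Nat.card (Cfsg.Out Cfsg.Spor.Monster) = 1 := by
  obtain ⟨e⟩ := Mon.monster_iso
  refine Mon.Cu.card_of_inner fun β => ?_
  obtain ⟨x, hx⟩ := Mon.Cu.inner_of_card Mon.if1.card_out ((e.symm.trans β).trans e)
  refine ⟨e.symm x, fun y => e.injective ?_⟩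
  simpa using hx (e y)
end Cfsg.Agent.S2085
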