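import Cfsg.Statements.S2137
import Mathlib
import Cfsg.Agent.K.InvMain

set_option autoImplicit false
open Cfsg

namespace Cfsg.Agent.S2137

/-- Layers of involution centralisers in almost simple known groups: let X be a finite group whose generalized Fitting subgroup Y is a non-abelian simple group isomorphic to one of the known finite simple groups, let t be an involution of X lying in Y, and let C be the centraliser of t in X. Then the layer of C is trivial or quasisimple; or Y is of Lie type in odd characteristic and C has exactly two components; or Y is an orthogonal group (of odd dimension at least 7, or of even dimension at least 8 of plus or minus type) over a field of odd characteristic and C has exactly three or four components. -/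
theorem result {X : Type*} [Group X] [Finite X] (hs : IsSimpleGroup ↥(Cfsg.generalizedFittingSubgroup X)) (hna : ¬ IsMulCommutative ↥(Cfsg.generalizedFittingSubgroup X)) (hK : Cfsg.IsKnownSimple' ↥(Cfsg.generalizedFittingSubgroup X)) (t : X) (ht : orderOf t = 2) (htY : t ∈ Cfsg.generalizedFittingSubgroup X) : Cfsg.layer ↥(Subgroup.centralizer ({t} : Set X)) = ⊥ ∨ Cfsg.IsQuasisimple ↥(Cfsg.layer ↥(Subgroup.centralizer ({t} : Set X))) ∨ ((∃ p : ℕ, p.Prime ∧ p ≠ 2 ∧ Cfsg.IsLieTypeChar p ↥(Cfsg.generalizedFittingSubgroup X)) ∧ {K : Subgroup ↥(Subgroup.centralizer ({t} : Set X)) | Cfsg.IsComponent K}.ncard = 2) ∨ ((∃ p : ℕ, p.Prime ∧ p ≠ 2 ∧ (Cfsg.IsPOmegaOddChar p ↥(Cfsg.generalizedFittingSubgroup X) ∨ Cfsg.IsPOmegaPlusChar p ↥(Cfsg.generalizedFittingSubgroup X) ∨ Cfsg.IsPOmegaMinusChar p ↥(Cfsg.generalizedFittingSubgroup X))) ∧ ({K : Subgroup ↥(Subgroup.centralizer ({t} : Set X)) | Cfsg.IsComponent K}.ncard = 3 ∨ {K : Subgroup ↥(Subgroup.centralizer ({t} : Set X)) | Cfsg.IsComponent K}.ncard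 = 4)) := by
  by_cases h1 : {K : Subgroup ↥(Subgroup.centralizer ({t} : Set X)) | Cfsg.IsComponent K}.ncard ≤ 1
  · exact (K.layer_of_ncard_le_one h1).elim Or.inl fun h => Or.inr (Or.inl h)
  rcases K.inv_cases hna (PLocal.centralizer_fstar_le X) hK ht htY with
    h | h | ⟨p, hp, h2, h, h3 | ⟨ho, h3⟩⟩ | ⟨n, -, -, h, -⟩
  · exact Or.inl ((PLocal.fstar_eq_pCore_iff' 2).1
      ((PLocal.fstar_eq_pCore_iff 2).2 (PLocal.CP.isCharP_iff.1 h))).1
  · exact absurd h.ncard_le h1
  · have := h3.ncard_le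
    exact Or.inr (Or.inr (Or.inl ⟨⟨p, hp, h2, h⟩, by omega⟩))
  · have := h3.ncard_le
    by_cases h4 : {K : Subgroup ↥(Subgroup.centralizer ({t} : Set X)) | Cfsg.IsComponent K}.ncard = 2
    · exact Or.inr (Or.inr (Or.inl ⟨⟨p, hp, h2, h⟩, h4⟩))
    · exact Or.inr (Or.inr (Or.inr ⟨⟨p, hp, h2, ho⟩, by omega⟩))
  · exact absurd h h1

end Cfsg.Agent.S2137
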