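import Cfsg.Statements.S2139
import Mathlib
import Cfsg.Agent.K.InvMain

set_option autoImplicit false
open Cfsg

namespace Cfsg.Agent.S2139

/-- Let X be a finite group whose generalized Fitting subgroup Y is a non-abelian simple group isomorphic to one of the known finite simple groups, t an involution of X lying in Y, and C the centraliser of t in X. If the layer of C is trivial, then C is solvable; or the generalized Fitting subgroup of C is its largest normal 2-subgroup; or Y is isomorphic to an alternating group of degree n with n ≡ 1 or 3 (mod 4) and the generalized Fitting subgroup of C is the product of its largest normal 2-subgroup and its largest normal 3-subgroup, the latter of order 1 or 3. -/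
theorem result {X : Type*} [Group X] [Finite X] (hs : IsSimpleGroup ↥(Cfsg.generalizedFittingSubgroup X)) (hna : ¬ IsMulCommutative ↥(Cfsg.generalizedFittingSubgroup X)) (hK : Cfsg.IsKnownSimple' ↥(Cfsg.generalizedFittingSubgroup X)) (t : X) (ht : orderOf t = 2) (htY : t ∈ Cfsg.generalizedFittingSubgroup X) (hL : Cfsg.layer ↥(Subgroup.centralizer ({t} : Set X)) = ⊥) : Group.IsSolvable ↥(Subgroup.centralizer ({t} : Set X)) ∨ Cfsg.generalizedFittingSubgroup ↥(Subgroup.centralizer ({t} : Set X)) = Cfsg.pCore 2 ↥(Subgroup.centralizer ({t} : Set X)) ∨ ((∃ n : ℕ, (n % 4 = 1 ∨ n % 4 = 3) ∧ Nonempty (↥(Cfsg.generalizedFittingSubgroup X) ≃* ↥(alternatingGroup (Fin n)))) ∧ Cfsg.generalizedFittingSubgroup ↥(Subgroup.centralizer ({t} : Set X)) = Cfsg.pCore 2 ↥(Subgroup.centralizer ({t} : Set X)) ⊔ Cfsg.pCore 3 ↥(Subgroup.centralizer ({t} : Set X)) ∧ (Nat.card (Cfsg.pCore 3 ↥(Subgroup.centralizer ({t} : Set X))) = 1 ∨ Nat.card (Cfsg.pCore 3 ↥(Subgroup.centralizer ({t} : Set X))) = 3)) :=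 by
  rcases K.inv_cases hna (PLocal.centralizer_fstar_le X) hK ht htY with
    h | h | ⟨p, hp, h2, h, h3 | ⟨ho, h3⟩⟩ | ⟨n, hn, h, -, h1 | ⟨h1, h2⟩⟩
  · exact Or.inr (Or.inl ((PLocal.fstar_eq_pCore_iff 2).2 (PLocal.CP.isCharP_iff.1 h)))
  · exact Or.inl (h.isSolvable hL)
  · exact Or.inl (h3.isSolvable hL)
  · exact Or.inl (h3.isSolvable hL)
  · exact Or.inr (Or.inl ((PLocal.fstar_eq_pCore_iff' 2).2 ⟨hL, h1⟩))
  · have : Fact (Nat.Prime 3) := ⟨Nat.prime_three⟩
    have h3 : pCore 3 ↥(Subgroup.centralizer ({t} : Set X)) = oddCore _ := by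
      refine le_antisymm (Grp.le_pPrimeCore inferInstance ?_)
        (PLocal.CP.le_pCore inferInstance (IsPGroup.of_card (n := 1) h1))
      obtain ⟨k, hk⟩ := IsPGroup.iff_card.1 (PLocal.CP.isPGroup_pCore 3
        ↥(Subgroup.centralizer ({t} : Set X)))
      rw [hk]
      exact Nat.Coprime.pow_left _ (by decide)
    refine Or.inr (Or.inr ⟨⟨n, Or.inr h2, h⟩, le_antisymm ?_
      (sup_le (PLocal.pCore_le_fstar 2) (PLocal.pCore_le_fstar 3)), Or.inr (h3 ▸ h1)⟩)
    rw [PLocal.fstar_eq_fitting_iff.2 hL, h3]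
    exact Grp.fitting_le_pCore_sup_pPrimeCore 2

end Cfsg.Agent.S2139
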