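import Mathlib
import Cfsg.Statements.S2197
import Cfsg.Agent.Chev.Tits1
-- import your own Cfsg.Agent.* helpers here

set_option autoImplicit false
open Cfsg

namespace Cfsg.Agent.S2197

open MulAction Cfsg.Agent.Comp Cfsg.Agent.Chev Cfsg.Agent.Chev.TitsM

section

variable {G Γ : Type*} (Ω : Type*) [Group G] [Group Γ] [Fintype Ω] [MulAction G Ω]

/-- The number of fixed points. -/
noncomputable def fx (g : G) : ℕ := Nat.card (fixedBy Ω g)

theorem burnside [Fintype Γ] (ψ : Γ →* G) : Fintype.card Γ ∣ ∑ w, fx Ω (ψ w) := by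
  classical
  let _ := MulAction.compHom Ω ψ
  have := sum_card_fixedBy_eq_card_orbits_mul_card_group Γ Ω
  simp only [← Nat.card_eq_fintype_card (α := fixedBy Ω _)] at this
  exact Dvd.intro_left _ this.symm

theorem sum_fx [Fintype Γ] (ψ : Γ →* G) : ∑ w, fx Ω (ψ w) = ∑ a : Ω, Nat.card ((stabilizer G a).comap ψ) := by
  classical
  simp only [fx, Nat.card_eq_fintype_card, Fintype.card_subtype, Finset.card_filter]
  exact Finset.sum_comm

omit [Fintype Ω] in
theorem fx_conj {a b : G} (h : IsConj a b) : fx Ω a = fx Ω b := by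
  obtain ⟨k, rfl⟩ := isConj_iff.1 h
  rw [fx, fx, ← smul_fixedBy]
  exact (Set.natCard_smul_set k _).symm

theorem fx_one : fx Ω (1 : G) = Fintype.card Ω := by simp [fx]

theorem fx_lt [FaithfulSMul G Ω] {g : G} (h : g ≠ 1) : fx Ω g < Fintype.card Ω := by
  rw [← Nat.card_eq_fintype_card, ← Set.ncard_univ]
  exact Set.ncard_lt_ncard (Set.ssubset_univ_iff.2 fun e => h (fixedBy_eq_univ_iff_eq_one.1 e))

/-- The cyclic group. -/
abbrev C (p : ℕ) : Type := Multiplicative (ZMod p)

/-- Adjoin a commuting element. -/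
def cons {p : ℕ} [NeZero p] {a : G} (ha : a ^ p = 1) (ψ : Γ →* G) (h : ∀ w, Commute a (ψ w)) : C p × Γ →* G :=
  MonoidHom.noncommCoprod (MonoidHom.mk' (fun e => a ^ e.toAdd.val) fun x y => by
    rw [toAdd_mul, ZMod.val_add, ← pow_eq_pow_mod _ ha, pow_add]) ψ fun _ w => (h w).pow_left _

theorem cons_apply {p : ℕ} [NeZero p] {a : G} (ha : a ^ p = 1) (ψ : Γ →* G) (h : ∀ w, Commute a (ψ w))
    (w : C p × Γ) : cons ha ψ h w = a ^ w.1.toAdd.val * ψ w.2 := rfl

theorem commute_cons {p : ℕ} [NeZero p] {a b : G} {ha : a ^ p = 1} {ψ : Γ →* G} {h : ∀ w, Commute a (ψ w)}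
    (h1 : Commute b a) (h2 : ∀ w, Commute b (ψ w)) (w : C p × Γ) : Commute b (cons ha ψ h w) :=
  (h1.pow_right _).mul_right (h2 _)

theorem modEq_two [Fintype Γ] {z : G} (hz : z ^ 2 = 1) (ψ : Γ →* G) (hc : ∀ w, Commute z (ψ w))
    (h : ∀ w ≠ 1, IsConj (ψ w) (z * ψ w)) : fx Ω z ≡ Fintype.card Ω [MOD 2 * Fintype.card Γ] := by
  classical
  have h1 := Nat.mul_dvd_mul_left 2 (burnside Ω ψ)
  have h2 : 2 * Fintype.card Γ ∣ ∑ w, fx Ω (z ^ 0 * ψ w) + ∑ w, fx Ω (z ^ 1 * ψ w) := by
    have := burnside Ω (cons hz ψ hc)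
    rw [Fintype.card_prod, Fintype.sum_prod_type] at this
    exact this.trans (Fin.sum_univ_two _).dvd
  simp only [pow_zero, pow_one, one_mul] at h2
  rw [← Finset.add_sum_erase _ _ (Finset.mem_univ 1), map_one, fx_one] at h1
  rw [← Finset.add_sum_erase _ _ (Finset.mem_univ 1), ← Finset.add_sum_erase _ (fun w => fx Ω (z * ψ w))
    (Finset.mem_univ 1), map_one, mul_one, fx_one,
    ← Finset.sum_congr rfl fun w hw => fx_conj Ω (h w (Finset.ne_of_mem_erase hw))] at h2
  refine Nat.ModEq.add_right_cancel' (Fintype.card Ω + 2 * ∑ w ∈ Finset.univ.erase 1, fx Ω (ψ w)) ?_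
  convert (Nat.modEq_zero_iff_dvd.2 h2).trans (Nat.modEq_zero_iff_dvd.2 h1).symm using 1 <;> ring

end

/-- The element of a word. -/
@[irreducible] noncomputable def wd (u : List ℕ) : Lie.TitsGroup := (u.map fun a => Tits.equivT.symm
  (if h : wordIn H_l0.ws [a] = true then ⟨_, H_eq.ge (mem_of_wordIn h)⟩ else 1)).prod

theorem wd_append (u v : List ℕ) : wd (u ++ v) = wd u * wd v := by simp [wd]

theorem wd_powW (u : List ℕ) (n : ℕ) : wd (powW u n) = wd u ^ n := by
  induction n with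
  | zero => simp [powW, wd]
  | succ n ih => rw [show powW u (n + 1) = appendR u (powW u n) from rfl, appendR_eq, wd_append, ih, pow_succ']

theorem coe_wd {u : List ℕ} (h : wordIn H_l0.ws u = true) : (Tits.equivT (wd u) : Equiv.Perm ℕ) = wp ns u := by
  induction u with
  | nil => simp [wd]
  | cons a u ih =>
    have h' := (and'_eq_true _ _).1 h
    rw [← List.singleton_append, wd_append, wp_append, map_mul, Subgroup.coe_mul, ih h'.2]
    simp [wd, show wordIn H_l0.ws [a] = true from (and'_eq_true _ _).2 ⟨h'.1, rfl⟩]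

/-- The two words are equal. -/
noncomputable def rel (u v : List ℕ) : Bool := wordIn H_l0.ws u && wordIn H_l0.ws v && eqW 2048 11 ns u v

theorem eq_of_rel {u v : List ℕ} (h : rel u v = true) : wd u = wd v := by
  simp only [rel, Bool.and_eq_true] at h
  exact Tits.equivT.injective (Subtype.ext (by rw [coe_wd h.1.1, coe_wd h.1.2, wp_eq_of_eqW ctx h.2]))

theorem comm {u v : List ℕ} (h : rel (u ++ v) (v ++ u) = true) : Commute (wd u) (wd v) := by
  simpa only [wd_append, commute_iff_eq] using eq_of_rel h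

theorem pow {u : List ℕ} {p : ℕ} (h : rel (powW u p) [] = true) : wd u ^ p = 1 := by
  rw [← wd_powW, eq_of_rel h, wd, List.map_nil, List.prod_nil]

theorem conj {u v : List ℕ} (g : List ℕ) (h : rel (g ++ u) (v ++ g) = true) : IsConj (wd u) (wd v) :=
  isConj_iff.2 ⟨wd g, mul_inv_eq_of_eq_mul (by simpa only [wd_append] using eq_of_rel h)⟩

theorem ne_one {u : List ℕ} (p : ℕ) (h : (wordIn H_l0.ws u && movesW ns u p && Nat.blt p 2048) = true) : wd u ≠ 1 :=
  fun e => by
    simp only [Bool.and_eq_true, Nat.blt_eq] at h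
    refine ne_of_movesW ctx h.1.2 h.2 ?_
    rw [← coe_wd h.1.1, e, map_one]
    rfl

/-- An elementary abelian group of order `16`. -/
noncomputable def ψ₂ : C 2 × C 2 × C 2 × C 2 × Unit →* Lie.TitsGroup :=
  cons (pow (u := [29, 26]) (by decide +kernel)) (cons (pow (u := [26, 26]) (by decide +kernel))
    (cons (pow (u := [23, 20, 26, 26]) (by decide +kernel)) (cons (pow (u := [20, 20, 29, 26]) (by decide +kernel)) 1
      fun _ => .one_right _)
      (commute_cons (comm (by decide +kernel)) fun _ => .one_right _))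
    (commute_cons (comm (by decide +kernel)) (commute_cons (comm (by decide +kernel)) fun _ => .one_right _)))
  (commute_cons (comm (by decide +kernel)) (commute_cons (comm (by decide +kernel))
    (commute_cons (comm (by decide +kernel)) fun _ => .one_right _)))

/-- An elementary abelian group of order `25`. -/
noncomputable def ψ₅ : C 5 × C 5 × Unit →* Lie.TitsGroup :=
  cons (pow (u := [14, 33]) (by decide +kernel)) (cons
    (pow (u := [16, 26, 9, 18, 18, 14, 33, 19, 19, 8, 27, 17]) (by decide +kernel)) 1 fun _ => .one_right _)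
    (commute_cons (comm (by decide +kernel)) fun _ => .one_right _)

/-- The words of the first group. -/
noncomputable def w₂ (w : C 2 × C 2 × C 2 × C 2 × Unit) : List ℕ :=
  powW [29, 26] w.1.toAdd.val ++ (powW [26, 26] w.2.1.toAdd.val ++ (powW [23, 20, 26, 26] w.2.2.1.toAdd.val ++
    powW [20, 20, 29, 26] w.2.2.2.1.toAdd.val))

/-- The words of the second group. -/
noncomputable def w₅ (w : C 5 × C 5 × Unit) : List ℕ :=
  powW [14, 33] w.1.toAdd.val ++ powW [16, 26, 9, 18, 18, 14, 33, 19, 19, 8, 27, 17] w.2.1.toAdd.val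

theorem ψ₂_eq (w : C 2 × C 2 × C 2 × C 2 × Unit) : ψ₂ w = wd (w₂ w) := by
  simp only [w₂, wd_append, wd_powW, ψ₂, cons_apply, MonoidHom.one_apply, mul_one]

theorem ψ₅_eq (w : C 5 × C 5 × Unit) : ψ₅ w = wd (w₅ w) := by
  simp only [w₅, wd_append, wd_powW, ψ₅, cons_apply, MonoidHom.one_apply, mul_one]

theorem conj₂ : ∀ w ≠ 1, ∃ g ∈ [[12], [18], [20], [24], [12, 17], [14, 18]],
    rel (g ++ w₂ w) (([32] ++ w₂ w) ++ g) = true := by
  decide +kernel

/-- The conjugating words. -/
def g₅ (w : C 5 × C 5 × Unit) : List ℕ :=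
  [[], [16, 26, 9, 18, 18], [18, 16, 9, 21, 24], [16, 22, 9, 18, 20], [12, 15, 9, 18, 18], [], [8, 21, 13, 20, 8, 8],
    [31, 19, 9, 9, 30, 8], [22, 9, 23, 9, 12, 8], [20, 8, 22, 9, 23, 28], [25, 23, 16], [20, 16, 8, 15, 8, 28],
    [20, 8, 31, 9, 21, 16], [20, 9, 20, 13, 8, 20], [8, 18, 8, 25, 14, 8], [17, 22, 24], [9, 9, 21, 12, 20, 9],
    [18, 8, 24, 15, 8, 20], [27, 8, 22, 13, 8, 8], [9, 30, 8, 25, 8, 16], [24, 18], [29, 9, 14, 9, 19, 16],
    [26, 24, 9, 9, 30, 8], [28, 9, 13, 20, 8, 28], [30, 9, 14, 9, 19, 16]].getD (5 * w.1.toAdd.val + w.2.1.toAdd.val) []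

theorem conj₅ : ∀ w ≠ 1, rel (g₅ w ++ [14, 33]) (w₅ w ++ g₅ w) = true := by
  decide +kernel

theorem arith : ∀ n < 4241, n * (n - 1) ∣ 17971200 → n < 32 ∨ n = 40 ∨ n = 65 := fun n hn => of_decide_eq_true
  ((allB_iff 4241 fun n => decide (n * (n - 1) ∣ 17971200 → n < 32 ∨ n = 40 ∨ n = 65)).1 (by decide +kernel) n hn)

/-- The Tits group (the commutator subgroup of ²F₄(2)) has no faithful 2-transitive action on a finite set with more than two points. -/
theorem result {Ω : Type*} [Fintype Ω] [MulAction Cfsg.Lie.TitsGroup Ω] [FaithfulSMul Cfsg.Lie.TitsGroup Ω] (hΩ : 3 ≤ Fintype.card Ω) :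
    ¬ MulAction.IsMultiplyPretransitive Cfsg.Lie.TitsGroup Ω 2 := by
  intro h
  classical
  have h1 : fx Ω (wd [32]) ≡ Fintype.card Ω [MOD 32] := modEq_two Ω (pow (by decide +kernel)) ψ₂
    (commute_cons (comm (by decide +kernel)) (commute_cons (comm (by decide +kernel))
      (commute_cons (comm (by decide +kernel)) (commute_cons (comm (by decide +kernel)) fun _ => .one_right _))))
    fun w hw => by
      obtain ⟨g, -, e⟩ := conj₂ w hw
      rw [ψ₂_eq, ← wd_append]
      exact conj g e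
  have h2 := fx_lt Ω (ne_one (u := [32]) 24 (by decide +kernel))
  obtain ⟨a, b, hab⟩ := Fintype.exists_pair_of_one_lt_card (α := Ω) (by omega)
  have h3 := (fixingSubgroup Lie.TitsGroup {a, b}).index_dvd_card
  rw [IsMultiplyPretransitive.index_of_fixingSubgroup_eq _ (by rwa [Set.ncard_pair hab]), Set.ncard_pair hab,
    Tits.card_tits, mul_comm, ← Nat.descFactorial_eq_factorial_mul_choose, Nat.card_eq_fintype_card] at h3
  have h4 := arith (Fintype.card Ω) (by
    by_contra h4
    have := Nat.mul_le_mul (Nat.sub_le_sub_right (not_lt.1 h4) 1) (not_lt.1 h4)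
    have := Nat.le_of_dvd (by norm_num) h3
    simp at this
    omega) (by simpa [mul_comm] using h3)
  have h5 := fun w hw => conj _ (conj₅ w hw)
  have h6 := ne_one (u := [14, 33]) 1 (by decide +kernel)
  have h7 : ∑ w, fx Ω (ψ₅ w) = Fintype.card Ω + 24 * fx Ω (wd [14, 33]) := by
    rw [← Finset.add_sum_erase _ _ (Finset.mem_univ 1), map_one, fx_one, Finset.sum_congr rfl fun w hw => by
      rw [ψ₅_eq, ← fx_conj Ω (h5 w (Finset.ne_of_mem_erase hw))], Finset.sum_const,
      Finset.card_erase_of_mem (Finset.mem_univ _)]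
    rfl
  have h8 : 25 ∣ _ := (burnside Ω ψ₅).trans h7.dvd
  have h9 : ∀ a : Ω, 25 * Fintype.card Ω ∣ 17971200 ∨
      Nat.card ((stabilizer Lie.TitsGroup a).comap ψ₅) ≤ 5 := fun a => by
    have := is_one_pretransitive_iff.1 (isMultiplyPretransitive_of_le (G := Lie.TitsGroup) (α := Ω) one_le_two
      (by rw [Nat.card_eq_fintype_card]; omega))
    have e1 := Subgroup.card_comap_dvd_of_injective (stabilizer Lie.TitsGroup a) ψ₅
      ((injective_iff_map_eq_one _).2 fun w hw => by_contra fun hw' =>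
        h6 (isConj_one_left.1 (by rw [← hw, ψ₅_eq]; exact h5 w hw')))
    have e2 : _ ∣ 25 := ((stabilizer Lie.TitsGroup a).comap ψ₅).card_subgroup_dvd_card.trans (by simp)
    have e3 := (stabilizer Lie.TitsGroup a).card_mul_index
    rw [index_stabilizer_of_transitive, Tits.card_tits, Nat.card_eq_fintype_card (α := Ω)] at e3
    generalize Nat.card ((stabilizer Lie.TitsGroup a).comap ψ₅) = k at *
    have := Nat.le_of_dvd (by norm_num) e2
    rcases (by revert e2; interval_cases k <;> simp : k = 25 ∨ k ≤ 5) with rfl | h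
    exacts [.inl ((Nat.mul_dvd_mul_right e1 _).trans e3.dvd), .inr h]
  have h10 : 25 * Fintype.card Ω ∣ 17971200 ∨ _ ≤ Fintype.card Ω * 5 := (forall_or_left.1 h9).imp_right fun h =>
    h7.symm.trans_le ((sum_fx Ω ψ₅).trans_le (Finset.sum_le_card_nsmul _ _ _ fun a _ => h a))
  unfold Nat.ModEq at h1
  rcases h4 with h4 | h4 | h4
  · omega
  all_goals rw [h4] at h8 h10; omega

end Cfsg.Agent.S2197
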