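import Mathlib
import Cfsg.Statements.S2205
import Cfsg.Agent.TwoTr.AtkMain
-- import your own Cfsg.Agent.* helpers here

set_option autoImplicit false
open Cfsg

namespace Cfsg.Agent.S2205

/-- A finite group acting faithfully and 2-transitively on a set with p² + 1 points, p a prime, is doubly primitive — a point stabilizer acts primitively on the remaining p² points — unless p = 2 and the group is the Frobenius group of order 20. -/
theorem result {G Ω : Type*} [Group G] [Finite G] [Fintype Ω] [MulAction G Ω] [FaithfulSMul G Ω] (p : ℕ) (hp : p.Prime) (hΩ : Fintype.card Ω = p ^ 2 + 1) (h2 : MulAction.IsMultiplyPretransitive G Ω 2) (a : Ω) :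
    MulAction.IsPreprimitive ↥(MulAction.stabilizer G a) ↥(SubMulAction.ofStabilizer G a) ∨ (p = 2 ∧ Nat.card G = 20) := by
  rw [MulAction.is_two_pretransitive_iff] at h2
  refine or_iff_not_imp_left.2 fun hnp => ?_
  have htr : MulAction.IsPretransitive (MulAction.stabilizer G a) (SubMulAction.ofStabilizer G a) :=
    ⟨fun x y => by
      obtain ⟨g, h1, h3⟩ := h2 (a := a) (b := x) (c := a) (d := y) (Ne.symm x.2) (Ne.symm y.2)
      exact ⟨⟨g, h1⟩, Subtype.ext h3⟩⟩
  obtain ⟨B, hB, hB'⟩ : ∃ B : Set (SubMulAction.ofStabilizer G a),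
      MulAction.IsBlock (MulAction.stabilizer G a) B ∧ ¬ MulAction.IsTrivialBlock B := by
    by_contra h
    push Not at h
    exact hnp ⟨fun {B} hB => h B hB⟩
  rw [MulAction.IsTrivialBlock, not_or, Set.not_subsingleton_iff] at hB'
  have hc : Nat.card (SubMulAction.ofStabilizer G a) = p ^ 2 := by
    have := SubMulAction.nat_card_ofStabilizer_add_one_eq G a
    rw [Nat.card_eq_fintype_card (α := Ω), hΩ] at this
    omega
  have hBp : B.ncard = p := by
    obtain ⟨i, hi, h⟩ := (Nat.dvd_prime_pow hp).1 (hc ▸ hB.ncard_dvd_card hB'.1.nonempty)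
    interval_cases i
    · exact absurd ((Set.one_lt_ncard_iff_nontrivial).2 hB'.1) (by simp [h])
    · simpa using h
    · exact absurd (Set.eq_of_subset_of_ncard_le (Set.subset_univ B)
        (by rw [Set.ncard_univ, hc, h])) hB'.2
  obtain ⟨β, hβ⟩ := hB'.1.nonempty
  set B' : Set Ω := Subtype.val '' B with hB0
  have h3 : ∀ x ∈ B', x ≠ a := by rintro _ ⟨x, -, rfl⟩; exact x.2
  have h4 : ∀ g : G, g • a = a → ∀ x ∈ B', g • x ∈ B' → ∀ y ∈ B', g • y ∈ B' := by
    rintro g hg _ ⟨x, hx, rfl⟩ ⟨x', hx', e⟩ _ ⟨y, hy, rfl⟩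
    have := hB.smul_eq_of_mem (g := ⟨g, hg⟩) hx (by rwa [show (⟨g, hg⟩ : MulAction.stabilizer G a) • x = x' from Subtype.ext e.symm])
    exact ⟨_, this ▸ Set.smul_mem_smul_set hy, rfl⟩
  let Δ : Ω → Ω → Set Ω := fun x b => {c | ∃ g : G, g • x = a ∧ g • b ∈ B' ∧ g • c ∈ B'}
  have h5 : ∀ (g : G) x b, g • x = a → g • b ∈ B' → ∀ c, c ∈ Δ x b ↔ g • c ∈ B' :=
    fun g x b e1 e2 c => ⟨fun ⟨g', e3, e4, e5⟩ => by
      simpa [mul_smul] using h4 (g * g'⁻¹) (by rw [mul_smul, ← e3, inv_smul_smul, e1, e3]) _ e4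
        (by simpa [mul_smul] using e2) _ e5, fun h => ⟨g, e1, e2, h⟩⟩
  let A : TwoTr.Atk G Ω p :=
    { Δ := Δ
      hp := hp
      h2 := fun _ _ _ _ h h' => h2 h h'
      faith := fun g h => eq_of_smul_eq_smul (α := Ω) (by simpa using h)
      card := by rw [Nat.card_eq_fintype_card, hΩ]
      smul := fun g x b c ⟨g', e1, e2, e3⟩ => ⟨g' * g⁻¹, by simpa [mul_smul] using e1,
        by simpa [mul_smul] using e2, by simpa [mul_smul] using e3⟩
      self := fun x b hb => by
        obtain ⟨g, e1, e2⟩ := h2 (a := x) (b := b) (c := a) (d := β) hb.symm (Ne.symm β.2)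
        exact ⟨g, e1, ⟨β, hβ, e2.symm⟩, ⟨β, hβ, e2.symm⟩⟩
      ne := fun x b c ⟨g, e1, _, e3⟩ h => h3 _ e3 (h ▸ e1)
      eq := fun x b c ⟨g, e1, e2, e3⟩ => Set.ext fun z => by rw [h5 g x c e1 e3, h5 g x b e1 e2]
      ncard := fun x b hb => by
        obtain ⟨g, e1, e2⟩ := h2 (a := x) (b := b) (c := a) (d := β) hb.symm (Ne.symm β.2)
        have : Δ x b = (g • ·) ⁻¹' B' := Set.ext (h5 g x b e1 ⟨β, hβ, e2.symm⟩)
        rw [this, Set.ncard_preimage_of_injective_subset_range (MulAction.injective g)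
          (by simp [(MulAction.surjective g).range_eq]), hB0,
          Set.ncard_image_of_injective _ Subtype.val_injective, hBp] }
  exact ⟨A.eq_two (a := a) β.2, A.card_eq_twenty (a := a) β.2⟩

end Cfsg.Agent.S2205
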