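import Mathlib
import Cfsg.Statements.S2207
import Cfsg.Agent.TwoTr.FrA2
import Cfsg.Agent.Grp.MinNormal
import Cfsg.Agent.S0547
import Cfsg.Agent.S0494
import Cfsg.Agent.S0144
-- import your own Cfsg.Agent.* helpers here

set_option autoImplicit false
open Cfsg

namespace Cfsg.Agent.S2207

open MulAction Cfsg.Agent.TwoTr.Fr in
theorem exists_st {G X : Type*} [Group G] [Finite G] [Finite X] [MulAction G X] [FaithfulSMul G X]
    (heven : Even (Nat.card G)) (hprim : IsPreprimitive G X) (A : X)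
    (h3 : Nat.card (orbitRel.Quotient ↥(stabilizer G A) X) = 3) (B : X) (hBA : B ≠ A)
    (hfix : ∃ g ∈ stabilizer G A, g ≠ 1 ∧ g • B = B)
    (hfrob : ∀ g ∈ stabilizer G A, ∀ h ∈ stabilizer G A, g • B = B → g • (h • B) = h • B →
      h • B ≠ B → g = 1) : ∃ Γ : SimpleGraph X, St G Γ := by
  let q : X → orbitRel.Quotient (stabilizer G A) X := Quotient.mk _
  have hq : ∀ x y, q x = q y ↔ ∃ g : G, g • A = A ∧ g • y = x := fun x y =>
    Quotient.eq.trans ⟨fun ⟨g, e⟩ => ⟨g, g.2, e⟩, fun ⟨g, e, e'⟩ => ⟨⟨g, e⟩, e'⟩⟩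
  have hA : ∀ x, q A = q x ↔ A = x := fun x => (hq A x).trans
    ⟨fun ⟨g, e, e'⟩ => smul_left_cancel g (e.trans e'.symm), fun e => ⟨1, by simp [e]⟩⟩
  have : Finite (orbitRel.Quotient (stabilizer G A) X) := Quotient.finite _
  rw [← Nat.card_congr (Equiv.subtypeUnivEquiv (p := fun _ => True) fun _ => trivial),
    card_ne_add _ (a := q A) trivial, card_ne_add (fun x => True ∧ q A ≠ x) (a := q B)
      ⟨trivial, fun e => hBA ((hA B).1 e).symm⟩] at h3
  obtain ⟨⟨c, ⟨c0, c1⟩, c2⟩, hc⟩ := Nat.card_eq_one_iff_exists.1 (Nat.add_right_cancel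
    (Nat.add_right_cancel (h3.trans (show 3 = 1 + 1 + 1 from rfl))))
  obtain ⟨C, rfl⟩ : ∃ C, q C = c := Quotient.exists_rep c
  let R : X → X → Prop := fun u v => ∃ g : G, g • A = u ∧ g • B = v
  have hR : ∀ (g : G) u v, R (g • u) (g • v) ↔ R u v := fun g u v =>
    ⟨fun ⟨x, e, e'⟩ => ⟨g⁻¹ * x, by simp [mul_smul, e], by simp [mul_smul, e']⟩,
      fun ⟨x, e, e'⟩ => ⟨g * x, by simp [mul_smul, e], by simp [mul_smul, e']⟩⟩
  have tr := hprim.toIsPretransitive.exists_smul_eq
  have t2 : ∀ {u v}, u ≠ v → ¬ R u v → ∃ g : G, g • A = u ∧ g • C = v := fun {u v} n a => by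
    obtain ⟨g, rfl⟩ := tr A u
    obtain ⟨v, rfl⟩ := MulAction.surjective g v
    obtain ⟨x, e, e'⟩ := (hq _ _).1 (congrArg Subtype.val (hc ⟨q v, ⟨trivial, fun e =>
      n (congrArg _ ((hA v).1 e))⟩, fun e => a ((hR g _ _).2 ((hq _ _).1 e.symm))⟩))
    exact ⟨g * x, by rw [mul_smul, e], by rw [mul_smul, e']⟩
  have tr2 : ∀ {u v u' v' : X}, u ≠ v → u' ≠ v' → ¬ R u v → ¬ R u' v' →
      ∃ g : G, g • u = u' ∧ g • v = v' := fun n n' a a' => by
    obtain ⟨g, rfl, rfl⟩ := t2 n a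
    obtain ⟨x, rfl, rfl⟩ := t2 n' a'
    exact ⟨x * g⁻¹, by simp [mul_smul], by simp [mul_smul]⟩
  have sy : R B A := by
    by_contra hn
    obtain ⟨t, -, t1, t2⟩ := RankOne.exists_invol_of_even (X := (⊤ : Subgroup G)) (by simpa)
    obtain ⟨p, hp⟩ : ∃ p : X, t • p ≠ p := by
      by_contra! hh
      exact t1 (eq_of_smul_eq_smul (α := X) (by simpa))
    have e : t • t • p = p := by rw [← mul_smul, t2, one_smul]
    have key : R p (t • p) → False := fun ⟨g, e1, e2⟩ =>
      hn ((hR g _ _).1 (by rw [e1, e2, ← hR t, e]; exact ⟨g, e1, e2⟩))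
    obtain ⟨g, e1, e2⟩ := tr2 hBA hp.symm hn key
    exact key (by rw [← hR t, e]; exact ⟨g, e2, e1⟩)
  refine ⟨⟨R, ⟨fun _ _ ⟨g, e, e'⟩ => e ▸ e' ▸ (hR g _ _).2 sy⟩,
    ⟨fun _ ⟨g, e, e'⟩ => hBA (smul_left_cancel g (e'.trans e.symm))⟩⟩,
    fun g hg => eq_of_smul_eq_smul (α := X) (by simpa), hprim, hR, ?_, tr2, fun u => ?_,
    fun u => ?_, ?_, ?_⟩
  · rintro _ _ _ _ ⟨g, rfl, rfl⟩ ⟨x, rfl, rfl⟩
    exact ⟨x * g⁻¹, by simp [mul_smul], by simp [mul_smul]⟩
  · obtain ⟨g, rfl⟩ := tr A u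
    exact ⟨g • B, g, rfl, rfl⟩
  · obtain ⟨g, rfl⟩ := tr A u
    exact ⟨g • C, fun e => c1 ((hA C).2 (smul_left_cancel g e)),
      fun r => c2 ((hq _ _).2 ((hR g _ _).1 r)).symm⟩
  · rintro g _ _ _ ⟨x, rfl, rfl⟩ ⟨y, e, rfl⟩ n e1 e2 e3
    have := hfrob (x⁻¹ * g * x) (by simp [mul_smul, e1]) (x⁻¹ * y) (by simp [mul_smul, e])
      (by simp [mul_smul, e2]) (by simp [mul_smul, e3])
      (by rw [mul_smul, Ne, inv_smul_eq_iff]; exact n.symm)
    rwa [mul_assoc, inv_mul_eq_one, eq_comm, mul_eq_right] at this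
  · rintro _ _ ⟨x, rfl, rfl⟩
    obtain ⟨g, e, g1, e'⟩ := hfix
    exact ⟨x * g * x⁻¹, by simpa, by simp [mul_smul, mem_stabilizer_iff.1 e], by simp [mul_smul, e']⟩

open MulAction in
theorem simple_60 {G X : Type*} [Group G] [Finite G] [Finite X] [MulAction G X] [FaithfulSMul G X]
    [IsPreprimitive G X] (hX : Nat.card X = 10) (hG : Nat.card G = 60) : IsSimpleGroup G := by
  have key : ∀ N : Subgroup G, N.Normal → N ≠ ⊥ → 10 ∣ Nat.card N := fun N _ hN => by
    have := IsQuasiPreprimitive.isPretransitive_of_normal (G := G) (X := X) (N := N) fun e =>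
      hN (eq_bot_iff.2 fun g hg => eq_of_smul_eq_smul (α := X) fun x => by
        rw [one_smul]; exact (e ▸ Set.mem_univ x : x ∈ fixedPoints N X) ⟨g, hg⟩)
    obtain ⟨x⟩ := (Nat.card_pos_iff.1 (show 0 < Nat.card X by omega)).1
    rw [← hX, ← index_stabilizer_of_transitive N x]
    exact Subgroup.index_dvd_card _
  have : Nontrivial G := Finite.one_lt_card_iff_nontrivial.1 (by omega)
  refine ⟨fun N hN => or_iff_not_imp_left.2 fun h1 => by_contra fun h2 => ?_⟩
  obtain ⟨c, hc⟩ := key N hN h1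
  have h3 := N.card_subgroup_dvd_card
  have h4 : Nat.card N ≠ 60 := fun e => h2 (N.eq_top_of_card_eq (e.trans hG.symm))
  have : Group.IsSolvable N := by
    rw [hG, hc] at h3
    have := Nat.le_of_dvd (by norm_num) h3
    rcases (by have : c ≤ 6 := by omega
               interval_cases c <;> omega : c = 1 ∨ c = 2 ∨ c = 3) with rfl | rfl | rfl
    · exact S0144.result 2 5 1 1 Nat.prime_two Nat.prime_five hc
    · exact S0144.result 2 5 2 1 Nat.prime_two Nat.prime_five hc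
    · have := IsZGroup.of_squarefree (G := N) (by rw [hc]; decide +kernel)
      infer_instance
  obtain ⟨p, M, hp, hM, M1, -, -, -, h5, -⟩ := Grp.exists_minNormal_elementaryAbelian_le N h1
  have := Fact.mk hp
  obtain ⟨d, hd⟩ := IsPGroup.iff_card.1 h5
  have h6 := hd ▸ key M hM M1
  have e2 := (Nat.prime_dvd_prime_iff_eq Nat.prime_two hp).1
    (Nat.prime_two.dvd_of_dvd_pow (Dvd.dvd.trans (by norm_num) h6))
  have e5 := (Nat.prime_dvd_prime_iff_eq Nat.prime_five hp).1
    (Nat.prime_five.dvd_of_dvd_pow (Dvd.dvd.trans (by norm_num) h6))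
  omega

/-- Primitive rank 3 groups whose point stabilizer acts as a Frobenius group on one of its two non-trivial orbits. Let a finite group G of even order act faithfully and primitively on a finite set X so that the stabilizer of a point A has exactly three orbits, and suppose that on one of its non-trivial orbits I the stabilizer of A acts faithfully as a Frobenius group: transitively, some non-identity element fixing a point of I, and no non-identity element fixing two points of I. Then either G ≅ A₅ and X has 10 points (the action on unordered pairs), or G is solvable and has a normal subgroup of order 16 acting regularly on X. -/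
theorem result {G X : Type*} [Group G] [Finite G] [Fintype X] [MulAction G X] [FaithfulSMul G X] (heven : Even (Nat.card G)) (hprim : MulAction.IsPreprimitive G X) (A : X)
    (h3 : Nat.card (MulAction.orbitRel.Quotient ↥(MulAction.stabilizer G A) X) = 3) (B : X) (hBA : B ≠ A)
    (hfaith : ∀ g ∈ MulAction.stabilizer G A, (∀ h ∈ MulAction.stabilizer G A, g • (h • B) = h • B) → g = 1)
    (hfix : ∃ g ∈ MulAction.stabilizer G A, g ≠ 1 ∧ g • B = B)
    (hfrob : ∀ g ∈ MulAction.stabilizer G A, ∀ h ∈ MulAction.stabilizer G A, g • B = B → g • (h • B) = h • B → h • B ≠ B → g = 1) :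
    (Nonempty (G ≃* ↥(alternatingGroup (Fin 5))) ∧ Fintype.card X = 10) ∨
    (IsSolvable G ∧ ∃ N : Subgroup G, N.Normal ∧ Nat.card N = 16 ∧ ∀ x y : X, ∃! n : ↥N, (n : G) • x = y) := by
  obtain ⟨Γ, h⟩ := exists_st heven hprim A h3 B hBA hfix hfrob
  obtain ⟨b, ab⟩ := h.ex1 A
  obtain ⟨v, n, a⟩ := h.ex2 A
  have : Nonempty X := ⟨A⟩
  have he : ∀ {u v : X}, Γ.Adj u v → Even (Nat.card (TwoTr.Fr.D G u v)) := fun {u v} c => by
    by_contra hh
    exact h.false_of_odd heven (fun c' => h.card_D1 c c' ▸ Nat.not_even_iff_odd.1 hh) A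
  have key : Nat.card X = 16 → Group.IsSolvable G → IsSolvable G ∧ ∃ N : Subgroup G, N.Normal ∧
      Nat.card N = 16 ∧ ∀ x y : X, ∃! n : ↥N, (n : G) • x = y := fun hX hs => by
    have : Nontrivial G := Finite.one_lt_card_iff_nontrivial.1
      (Nat.le_of_dvd Nat.card_pos heven.two_dvd)
    obtain ⟨M, hM, M1, M2⟩ := Grp.exists_minNormal G
    obtain ⟨h1, h2, p, d, -, -, h3, h4⟩ := S0547.result hprim M M1 M2
    refine ⟨hs, M, hM, by omega, fun x y => ?_⟩
    obtain ⟨g, hg⟩ := h1.exists_smul_eq x y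
    refine ⟨g, hg, fun z hz => ?_⟩
    have : g⁻¹ * z ∈ MulAction.stabilizer M x := by
      rw [MulAction.mem_stabilizer_iff, mul_smul, inv_smul_eq_iff, hg]; exact hz
    rw [h2, Subgroup.mem_bot, inv_mul_eq_one] at this
    exact this.symm
  by_cases hX : h.XX A v = ⊥
  · rcases h.a2 he n a hX with ⟨h1, h2⟩ | ⟨h1, h2⟩
    · have := simple_60 h1 h2
      exact Or.inl ⟨S0494.result h2, by rw [← Nat.card_eq_fintype_card, h1]⟩
    · exact Or.inr (key h1 (S0144.result 2 5 6 1 Nat.prime_two Nat.prime_five h2))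
  · obtain ⟨h1, h2⟩ := h.a1 he n a hX
    exact Or.inr (key h1 (S0144.result 2 3 6 2 Nat.prime_two Nat.prime_three h2))

end Cfsg.Agent.S2207
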