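import Cfsg.Statements.S2209
import Cfsg.Agent.Chev.StCent

set_option autoImplicit false
open Cfsg

namespace Cfsg.Agent.S2209

open Cfsg.Lie Cfsg.Agent.Chev

theorem key {F : Type*} [Field F] [CharP F 2] {D : ChevalleyDatum} [Good D] (T : RootTable D)
    {L : List ℕ} {a : List (List (ℕ × ℤ))} (hd : RigidData D 2 [(D.nroots - 1, 1)] [] 2)
    (hc : CentData D 2 [(D.nroots - 1, 1)] (fun r => decide (D.nroots ≤ 2 * r) || decide (r ∈ L)) a)
    (hL : ∀ r ∈ L, r < D.nroots) (t : GL D.Idx F)
    (ht : (t : Matrix D.Idx D.Idx F) = D.x F (D.nroots - 1) 1) :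
    D.group F ⊓ Subgroup.centralizer {t} = D.posUnipotent F ⊔ Subgroup.closure
      {g : GL D.Idx F | ∃ s ∈ L, ∃ c : F, (g : Matrix D.Idx D.Idx F) = D.x F s c} := by
  have := cent_eq_of_central (F := F) T hd hc hL (by simp)
  simp only [List.map_cons, List.map_nil, oprod_cons, oprod_nil, mul_one, Pi.one_apply] at this
  rw [eq_xG_iff.mp ht, this, posUnipotent_eq, XS]
  simp only [eq_xG_iff, Set.mem_ofPred_eq]

theorem r6 : RigidData chevE6 2 [(chevE6.nroots - 1, 1)] [] 2 := by decide +kernel
theorem r7 : RigidData chevE7 2 [(chevE7.nroots - 1, 1)] [] 2 := by decide +kernel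
theorem r8 : RigidData chevE8 2 [(chevE8.nroots - 1, 1)] [] 2 := by decide +kernel
theorem c6 : CentData chevE6 2 [(chevE6.nroots - 1, 1)] (fun r => decide (chevE6.nroots ≤ 2 * r) ||
    decide (r ∈ [15, 29, 32, 34, 35])) [[], [(71, 1)]] := by decide +kernel
theorem c7 : CentData chevE7 2 [(chevE7.nroots - 1, 1)] (fun r => decide (chevE7.nroots ≤ 2 * r) ||
    decide (r ∈ [47, 52, 56, 59, 61, 62])) [[(125, 1)]] := by decide +kernel
theorem c8 : CentData chevE8 2 [(chevE8.nroots - 1, 1)] (fun r => decide (chevE8.nroots ≤ 2 * r) ||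
    decide (r ∈ [77, 98, 104, 109, 113, 116, 118])) [[], [], [], [], [], [], [], [(239, 1)]] := by
  decide +kernel
theorem l6 : ∀ r ∈ [15, 29, 32, 34, 35], r < chevE6.nroots := by decide +kernel
theorem l7 : ∀ r ∈ [47, 52, 56, 59, 61, 62], r < chevE7.nroots := by decide +kernel
theorem l8 : ∀ r ∈ [77, 98, 104, 109, 113, 116, 118], r < chevE8.nroots := by decide +kernel

/-- Centralizer of a long root involution in the Chevalley groups of type E₆, E₇, E₈ over a finite field F of characteristic two. Let G be the group generated by the root elements, U the subgroup generated by the positive root subgroups, r the highest root (the last root index: 71, 125, 239 respectively), and t the element of G with matrix x_r(1). Then the centralizer of t in G is the subgroup generated by U together with the root subgroups X_{−p} for the fundamental roots p orthogonal to r — all fundamental roots except p₂ for E₆, except p₁ for E₇, except p₈ for E₈ (numbering with p₁–p₃–p₄–…–p_l the long chain and p₂ joined to p₄); the indices of these negative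 fundamental roots are 15, 29, 32, 34, 35 (E₆), 47, 52, 56, 59, 61, 62 (E₇), 77, 98, 104, 109, 113, 116, 118 (E₈). (This is the unipotent radical of the corresponding maximal parabolic subgroup extended by the root subgroups of its Levi factor, of type A₅, D₆, E₇ respectively.) -/
theorem result {F : Type*} [Field F] [Fintype F] [CharP F 2] (d : Cfsg.Lie.ChevalleyDatum × List ℕ)
    (hd : d ∈ [(Cfsg.Lie.chevE6, [15, 29, 32, 34, 35]), (Cfsg.Lie.chevE7, [47, 52, 56, 59, 61, 62]), (Cfsg.Lie.chevE8, [77, 98, 104, 109, 113, 116, 118])])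
    (t : GL d.1.Idx F) (ht : (t : Matrix d.1.Idx d.1.Idx F) = d.1.x F (d.1.nroots - 1) 1) :
    d.1.group F ⊓ Subgroup.centralizer {t} = d.1.posUnipotent F ⊔ Subgroup.closure {g : GL d.1.Idx F | ∃ s ∈ d.2, ∃ c : F, (g : Matrix d.1.Idx d.1.Idx F) = d.1.x F s c} := by
  simp only [List.mem_cons, List.not_mem_nil, or_false] at hd
  rcases hd with rfl | rfl | rfl
  · exact key rootTableE6 r6 c6 l6 t ht
  · exact key rootTableE7 r7 c7 l7 t ht
  · exact key rootTableE8 r8 c8 l8 t ht

end Cfsg.Agent.S2209
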