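import Cfsg.Statements.S2212
import Cfsg.Agent.RankOne.PGUEvenB

set_option autoImplicit false
open Cfsg

namespace Cfsg.Agent.S2212

open Subgroup Cfsg.Agent.Class Cfsg.Agent.Class.U Cfsg.Agent.KSG Cfsg.Agent.RankOne.PGU

/-- Characterization of the three-dimensional projective unitary groups over finite fields of characteristic two by the centralizer of an involution. Let q = 2^n > 2 and let PGU₃(q) be the quotient of the full unitary group of a non-degenerate Hermitian form in three variables over the field with q² elements by its centre. Let G be a finite group of even order in which all involutions are conjugate, the centralizer of an involution is isomorphic to the centralizer of an involution in PGU₃(q), and a Sylow 2-subgroup is not normal. Then G ≅ PGU₃(q). -/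
theorem result {G : Type*} [Group G] [Finite G] {F : Type*} [Field F] [Fintype F] [CharP F 2] (q : ℕ) (hq : 2 < q) (hF : Fintype.card F = q ^ 2)
    (heven : Even (Nat.card G)) (hconj : ∀ s t : G, orderOf s = 2 → orderOf t = 2 → IsConj s t)
    (hC : ∀ (x : G) (y : (↥(Cfsg.GU 3 F q) ⧸ Subgroup.center ↥(Cfsg.GU 3 F q))), orderOf x = 2 → orderOf y = 2 →
      Nonempty (↥(Subgroup.centralizer ({x} : Set G)) ≃* ↥(Subgroup.centralizer ({y} : Set (↥(Cfsg.GU 3 F q) ⧸ Subgroup.center ↥(Cfsg.GU 3 F q))))))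
    (hS : ∀ P : Sylow 2 G, ¬ (P : Subgroup G).Normal) :
    Nonempty (G ≃* (↥(Cfsg.GU 3 F q) ⧸ Subgroup.center ↥(Cfsg.GU 3 F q))) := by
  have hU := UF.of_card hF
  have h2 : (2 : F) = 0 := CharP.cast_eq_zero F 2
  obtain ⟨x, hx⟩ := exists_prime_orderOf_dvd_card' (G := G) 2 heven.two_dvd
  obtain ⟨y₀, hy₀, hcu⟩ := exists_invol_cu (F := F) h2 hq
  obtain ⟨L, hN, hodd, hcL, hone, hxL, F', _, _, hF', ⟨e'⟩⟩ := exists_L hq hx
    (fun y hy => (hC y y₀ hy hy₀).elim fun e => hcu.of_equiv e) hS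
  obtain ⟨y₁, hy₁, hcu₁⟩ := ((hC x y₀ hx hy₀).elim fun e => hcu.of_equiv e).exists_AU.imp
    fun Q h => And.intro trivial h.cent
  let e : L ≃* PSU 3 F q := e'.trans (psuCongr 3 q (FiniteField.ringEquivOfCardEq (hF'.trans hF.symm)))
  let φ : G →* MulAut (PSU 3 F q) := (MulAut.congr e).toMonoidHom.comp MulAut.conjNormal
  have hφ : ∀ (g : G) (l : L), φ g (e l) = e ⟨g * l * g⁻¹, hN.conj_mem _ l.2 g⟩ := fun g l => by
    change e (MulAut.conjNormal g (e.symm (e l))) = _
    rw [e.symm_apply_apply]; rfl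
  have hφL : ∀ l : L, φ l = MulAut.conj (e l) := fun l => by
    ext w
    obtain ⟨w, rfl⟩ := e.surjective w
    rw [hφ, MulAut.conj_apply, ← map_inv, ← map_mul, ← map_mul]; rfl
  have hinj : Function.Injective φ := (injective_iff_map_eq_one _).2 fun g hg => hcL g fun l hl => by
    have := hφ g ⟨l, hl⟩
    rw [hg, MulAut.one_apply, e.apply_eq_iff_eq] at this
    exact mul_inv_eq_iff_eq_mul.1 (congrArg Subtype.val this).symm
  have oe : ∀ l : L, orderOf (e l) = orderOf (l : G) := fun l => by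
    rw [e.orderOf_eq, Subgroup.orderOf_coe]
  have hone' : ∀ s t : PSU 3 F q, orderOf s = 2 → orderOf t = 2 → IsConj s t := fun s t hs ht => by
    obtain ⟨s, rfl⟩ := e.surjective s
    obtain ⟨t, rfl⟩ := e.surjective t
    obtain ⟨l, hl, h⟩ := hone s t (oe s ▸ hs) (oe t ▸ ht)
    exact isConj_iff.2 ⟨e ⟨l, hl⟩, by
      rw [← map_inv, ← map_mul, ← map_mul]; exact congrArg e (Subtype.ext h)⟩
  have hLr : ∀ l ∈ L, φ l ∈ (iotaU 3 F q).range := fun l hl =>
    inn_le_range_iotaU ⟨_, (hφL ⟨l, hl⟩).symm⟩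
  have hle : ∀ g : G, φ g ∈ (iotaU 3 F q).range := fun g => by
    obtain ⟨l, hl, h⟩ := hone x (g * x * g⁻¹) hx (by rw [← hx]; exact (MulAut.conj g).orderOf_eq x)
    have hc : l⁻¹ * g * x = x * (l⁻¹ * g) := by
      calc l⁻¹ * g * x = l⁻¹ * (g * x * g⁻¹) * g := by group
        _ = x * (l⁻¹ * g) := by rw [← h]; group
    have h1 : φ (l⁻¹ * g) ∈ (iotaU 3 F q).range := by
      refine mem_range_iotaU h2 hq hone' (s := e ⟨x, hxL⟩) ((oe _).trans hx) (fun y hy hyx => ?_)
        hodd (by rw [← map_pow]; exact hLr _ (L.pow_index_mem _))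
      obtain ⟨y, rfl⟩ := e.surjective y
      rw [← map_mul, e.map_eq_one_iff] at hy
      rw [← map_mul, ← map_mul, e.apply_eq_iff_eq] at hyx
      rw [hφ]
      exact congrArg e (Subtype.ext (mul_inv_eq_iff_eq_mul.2
        (hcu₁ y (congrArg Subtype.val hyx) (congrArg Subtype.val hy) _ hc)))
    rw [← mul_inv_cancel_left l g, map_mul]
    exact mul_mem (hLr l hl) h1
  let j : (GU 3 F q ⧸ center (GU 3 F q)) ≃* (iotaU 3 F q).range :=
    (QuotientGroup.quotientMulEquivOfEq (ker_iotaU_eq hq).symm).trans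
      (QuotientGroup.quotientKerEquivRange _)
  let θ : G →* GU 3 F q ⧸ center (GU 3 F q) := j.symm.toMonoidHom.comp (φ.codRestrict _ hle)
  have hθ : ∀ g, (j (θ g) : MulAut (PSU 3 F q)) = φ g := fun g => by
    change (j (j.symm _) : MulAut (PSU 3 F q)) = _
    rw [j.apply_symm_apply]; rfl
  have hθi : Function.Injective θ := fun a b h => hinj (by rw [← hθ, h, hθ])
  refine ⟨MulEquiv.ofBijective θ ⟨hθi, fun w => ?_⟩⟩
  obtain ⟨c⟩ := hC x (θ x) hx ((orderOf_injective θ hθi x).trans hx)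
  let ψ : centralizer ({x} : Set G) → centralizer ({θ x} : Set _) := fun g =>
    ⟨θ g, mem_centralizer_singleton_iff.2 (by
      rw [← map_mul, mem_centralizer_singleton_iff.1 g.2, map_mul])⟩
  have hψ : Function.Surjective ψ :=
    ((Nat.bijective_iff_injective_and_card ψ).2 ⟨fun a b h =>
      Subtype.ext (hθi (congrArg Subtype.val h)), Nat.card_congr c.toEquiv⟩).2
  obtain ⟨x', hx'⟩ := e.surjective ((j w : MulAut (PSU 3 F q)) (e ⟨x, hxL⟩))
  obtain ⟨l, hl, h⟩ := hone x x' hx (by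
    rw [← oe, hx', MulEquiv.orderOf_eq, oe]; exact hx)
  have h1 : w * θ x * w⁻¹ = θ (l * x * l⁻¹) := j.injective (Subtype.ext (by
    rw [hθ, h, hφL, hx', map_mul, map_mul, map_inv, Subgroup.coe_mul, Subgroup.coe_mul, hθ,
      hφL ⟨x, hxL⟩]
    ext v
    simp))
  obtain ⟨g, hg⟩ := hψ ⟨(θ l)⁻¹ * w, mem_centralizer_singleton_iff.2 (by
    rw [map_mul, map_mul, map_inv] at h1
    calc (θ l)⁻¹ * w * θ x = (θ l)⁻¹ * (w * θ x * w⁻¹) * w := by group
      _ = θ x * ((θ l)⁻¹ * w) := by rw [h1]; group)⟩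
  exact ⟨l * g, by rw [map_mul, show θ g = (θ l)⁻¹ * w from congrArg Subtype.val hg,
    mul_inv_cancel_left]⟩

end Cfsg.Agent.S2212
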