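import Cfsg.Statements.S2231
import Cfsg.Agent.KSG.UnipOrder
import Cfsg.Agent.Class.PSL2Dickson

set_option autoImplicit false
open Cfsg

namespace Cfsg.Agent.S2231

open KSG Matrix

theorem comm_of_sylow {G : Type*} [Group G] [Finite G] {p : ℕ} [Fact p.Prime] (P₀ : Sylow p G)
    (h : ∀ a ∈ P₀, ∀ b ∈ P₀, a * b = b * a) (P : Subgroup G) (hP : IsPGroup p P) :
    ∀ a ∈ P, ∀ b ∈ P, a * b = b * a := by
  obtain ⟨S, hS⟩ := hP.exists_le_sylow
  obtain ⟨g, rfl⟩ := MulAction.exists_smul_eq G P₀ S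
  intro a ha b hb
  obtain ⟨a, ha', rfl⟩ := hS ha
  obtain ⟨b, hb', rfl⟩ := hS hb
  change g * a * g⁻¹ * (g * b * g⁻¹) = g * b * g⁻¹ * (g * a * g⁻¹)
  rw [conj_mul, conj_mul, h a ha' b hb']

theorem comm_of_involves {G H : Type*} [Group G] [Finite G] [Group H] {p : ℕ} [Fact p.Prime]
    (hG : ∀ P : Subgroup G, IsPGroup p P → ∀ a ∈ P, ∀ b ∈ P, a * b = b * a)
    (hH : Involves H G) (P : Subgroup H) (hP : IsPGroup p P) :
    ∀ a ∈ P, ∀ b ∈ P, a * b = b * a := by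
  obtain ⟨K, R, hR, ⟨e⟩⟩ := hH
  let φ : K →* H := e.toMonoidHom.comp (QuotientGroup.mk' _)
  have hφ : Function.Surjective φ := e.surjective.comp (QuotientGroup.mk'_surjective _)
  have : Finite H := Finite.of_surjective φ hφ
  let S : Sylow p K := default
  refine comm_of_sylow (S.mapSurjective hφ) ?_ P hP
  rintro _ ⟨a, ha, rfl⟩ _ ⟨b, hb, rfl⟩
  rw [← map_mul, ← map_mul]
  congr 1
  exact Subtype.ext (hG ((S : Subgroup K).map K.subtype) (S.isPGroup'.map _) a ⟨a, ha, rfl⟩ b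
    ⟨b, hb, rfl⟩)

/-- Upper unitriangular matrices. -/
def utri (R : Type*) [CommRing R] : Subgroup (Matrix.SpecialLinearGroup (Fin 3) R) where
  carrier := {M | ∃ a b c : R, (M : Matrix (Fin 3) (Fin 3) R) = !![1, a, b; 0, 1, c; 0, 0, 1]}
  one_mem' := ⟨0, 0, 0, by
    ext i j; fin_cases i <;> fin_cases j <;> simp⟩
  mul_mem' := by
    rintro M N ⟨a, b, c, h⟩ ⟨a', b', c', h'⟩
    refine ⟨a' + a, b' + a * c' + b, c' + c, ?_⟩
    rw [Matrix.SpecialLinearGroup.coe_mul, h, h']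
    ext i j; fin_cases i <;> fin_cases j <;> simp [Matrix.mul_apply, Fin.sum_univ_three]
  inv_mem' := by
    rintro M ⟨a, b, c, h⟩
    refine ⟨-a, a * c - b, -c, ?_⟩
    rw [Matrix.SpecialLinearGroup.coe_inv, h, adjugate_fin_three]
    ext i j; fin_cases i <;> fin_cases j <;> simp

theorem utri_pow {p : ℕ} [Fact p.Prime] (hp : p ≠ 2)
    {M : Matrix.SpecialLinearGroup (Fin 3) (ZMod p)} (hM : M ∈ utri (ZMod p)) : M ^ p = 1 := by
  obtain ⟨a, b, c, h⟩ := hM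
  have h3 : 3 ≤ p := by have := (Fact.out : p.Prime).two_le; omega
  have h1 := (GL_pow_char_pow_eq_one_iff p (Matrix.SpecialLinearGroup.toGL M) 1).2 (by
    rw [pow_one]
    refine pow_eq_zero_of_le h3 ?_
    change ((M : Matrix (Fin 3) (Fin 3) (ZMod p)) - 1) ^ 3 = 0
    rw [h]
    have : (!![1, a, b; 0, 1, c; 0, 0, 1] - 1 : Matrix (Fin 3) (Fin 3) (ZMod p)) =
        !![0, a, b; 0, 0, c; 0, 0, 0] := by
      ext i j; fin_cases i <;> fin_cases j <;> simp
    rw [this]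
    ext i j; fin_cases i <;> fin_cases j <;> simp [pow_succ, Matrix.mul_apply, Fin.sum_univ_three])
  rw [pow_one, ← map_pow] at h1
  exact Matrix.SpecialLinearGroup.toGL_injective (h1.trans (map_one _).symm)


/-- Let p be an odd prime and K a finite field of characteristic p. Then Qd(p) (the natural semidirect product of an elementary abelian group of order p² by SL₂(p)) is not involved in the projective special linear group PSL₂(K). -/
theorem result {p : ℕ} [Fact p.Prime] (hp : p ≠ 2) {K : Type*} [Field K] [Fintype K] [CharP K p] : ¬ Cfsg.Involves ↥(Cfsg.qd p) (Matrix.ProjectiveSpecialLinearGroup (Fin 2) K) := by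
  intro H
  obtain ⟨P₀, hP₀⟩ := Class.Dickson.exists_sylow_PSL2_eq_unip (F := K) p (Class.Dickson.inf K)
  have hG := comm_of_sylow P₀ (fun a ha b hb => by
    have ha' : a ∈ (P₀ : Subgroup _) := ha
    have hb' : b ∈ (P₀ : Subgroup _) := hb
    rw [hP₀, Subgroup.mem_comap] at ha' hb'
    apply Class.Dickson.pslTo_injective
    rw [map_mul, map_mul]
    exact Class.Dickson.unip_comm ha' hb')
  have hU : IsPGroup p ((utri (ZMod p)).subgroupOf (qd p)) := fun x =>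
    ⟨1, Subtype.ext (Subtype.ext (by simpa using utri_pow hp x.2))⟩
  let x : Matrix.SpecialLinearGroup (Fin 3) (ZMod p) :=
    ⟨!![1, 1, 0; 0, 1, 0; 0, 0, 1], by simp [det_fin_three]⟩
  let y : Matrix.SpecialLinearGroup (Fin 3) (ZMod p) :=
    ⟨!![1, 0, 0; 0, 1, 1; 0, 0, 1], by simp [det_fin_three]⟩
  have h := comm_of_involves hG H _ hU ⟨x, Subgroup.subset_closure ⟨rfl, rfl, rfl⟩⟩ ⟨1, 0, 0, rfl⟩
    ⟨y, Subgroup.subset_closure ⟨rfl, rfl, rfl⟩⟩ ⟨0, 0, 1, rfl⟩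
  have h1 := congrArg (fun z : qd p => ((z : Matrix.SpecialLinearGroup (Fin 3) (ZMod p)) :
    Matrix (Fin 3) (Fin 3) (ZMod p)) 0 2) h
  change (!![1, 1, 0; 0, 1, 0; 0, 0, 1] * !![1, 0, 0; 0, 1, 1; 0, 0, 1] :
    Matrix (Fin 3) (Fin 3) (ZMod p)) 0 2 = (!![1, 0, 0; 0, 1, 1; 0, 0, 1] *
      !![1, 1, 0; 0, 1, 0; 0, 0, 1] : Matrix (Fin 3) (Fin 3) (ZMod p)) 0 2 at h1
  simp [Matrix.mul_apply, Fin.sum_univ_three] at h1

end Cfsg.Agent.S2231
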