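import Cfsg.Statements.S3074
import Mathlib
import Cfsg.Agent.PLocal.QdFree
import Cfsg.Agent.Grp.Extraspecial

set_option autoImplicit false
open Cfsg

namespace Cfsg.Agent.S3074

open Cfsg.Agent.PLocal Cfsg.Agent.PLocal.Qd Subgroup

theorem hz_center_mem {p : ℕ} [Fact p.Prime] (c : ZMod p) : hz 0 0 c ∈ zpowers (hz (0 : ZMod p) 0 1) :=
  ⟨c.val, by beta_reduce; rw [zpow_natCast, hz_pow]; simp⟩

theorem isES (p : ℕ) [hp : Fact p.Prime] : Grp.ES.IsES p (hz (0 : ZMod p) 0 1) (S₀ (ZMod p)) where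
  ord := orderOf_eq_prime (by simp [hz_pow, hz_zero]) fun h => by
    rw [← hz_zero, hz_inj] at h
    exact one_ne_zero h.2.2
  mem := hz_mem ..
  central := by
    rintro _ ⟨a, b, c, rfl⟩
    rw [commute_iff_eq, hz_mul, hz_mul, hz_inj]
    exact ⟨by ring, by ring, by ring⟩
  comm := by
    rintro _ ⟨a, b, c, rfl⟩ _ ⟨a', b', c', rfl⟩
    rw [hz_comm]
    exact hz_center_mem _
  center := by
    rintro _ ⟨a, b, c, rfl⟩ h
    have h1 := h _ (hz_mem 1 0 0)
    have h2 := h _ (hz_mem 0 1 0)
    rw [commute_iff_eq, hz_mul, hz_mul, hz_inj] at h1 h2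
    obtain rfl : a = 0 := by simpa using h2.2.2
    obtain rfl : b = 0 := by simpa using h1.2.2
    exact hz_center_mem _


/-- Let p be an odd prime. A Sylow p-subgroup of Qd(p), the split extension of an elementary abelian group of order p² by SL₂(p) acting naturally, is extraspecial of order p³ and exponent p. -/
theorem result (p : ℕ) [Fact p.Prime] (hp : p ≠ 2) (P : Sylow p ↥(Cfsg.qd p)) :
    Cfsg.IsExtraspecial p ↥P ∧ Nat.card P = p ^ 3 ∧ Monoid.exponent ↥P = p := by
  obtain ⟨e, he⟩ := exists_equiv_map_eq p (qdEquiv p) (Amb.isSyl_top P)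
  have he' : (S₀ (ZMod p)).map e.symm.toMonoidHom = P := by
    rw [← he, map_map]
    simp
  have hc : Nat.card P = p ^ 3 := by
    rw [← card_map_of_injective (f := e.toMonoidHom) e.injective, he, card_S₀, Nat.card_zmod]
  have h1 := (isES p).map_of_injective e.symm.toMonoidHom e.symm.injective
  rw [he'] at h1
  have hp1 := (Fact.out : p.Prime).one_lt
  refine ⟨h1.isExtraspecial fun h => ?_, hc, ?_⟩
  · have h2 := congrArg (fun X : Subgroup (qd p) => Nat.card X) h
    simp only [Nat.card_zpowers, h1.ord] at h2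
    rw [h2] at hc
    have := Nat.pow_right_injective hp1 ((pow_one p).trans hc)
    omega
  · have : Nontrivial P := by
      rw [← Finite.one_lt_card_iff_nontrivial, hc]
      exact Nat.one_lt_pow (by norm_num) hp1
    rw [Monoid.exponent_eq_prime_iff Fact.out]
    intro x hx
    refine orderOf_eq_prime (Subtype.ext (e.injective ?_)) hx
    obtain ⟨a, b, c, h⟩ : e x ∈ S₀ (ZMod p) := he ▸ mem_map_of_mem e.toMonoidHom x.2
    have h3 : ((p.choose 2 : ℕ) : ZMod p) = 0 :=
      (ZMod.natCast_eq_zero_iff _ _).2 ((Fact.out : p.Prime).dvd_choose_self two_ne_zero (by omega))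
    rw [Subgroup.coe_pow, map_pow, ← h, hz_pow, h3]
    simp [hz_zero]

end Cfsg.Agent.S3074
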