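import Cfsg.Statements.S3835
import Mathlib
import Cfsg.Agent.S2231
import Cfsg.Agent.S3074
import Cfsg.Agent.PLocal.QdRank2
import Cfsg.Agent.FGS.IndexP

set_option autoImplicit false
open Cfsg

namespace Cfsg.Agent.S3835

open Subgroup PLocal Matrix

theorem comm_perm {p n : ℕ} [hp : Fact p.Prime] (hn : n < p ^ 2) (P : Subgroup (Equiv.Perm (Fin n)))
    (hP : IsPGroup p P) : ∀ a ∈ P, ∀ b ∈ P, a * b = b * a := by
  intro a ha b hb
  rw [← mul_inv_eq_one, _root_.mul_inv_rev, ← mul_assoc]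
  ext x
  obtain ⟨k, hk⟩ := hP.index (MulAction.stabilizer P x)
  have h1 : p ^ k < p ^ 2 := by
    rw [← hk, MulAction.index_stabilizer]
    refine lt_of_le_of_lt (Set.ncard_le_card _) ?_
    simpa using hn
  rw [Nat.pow_lt_pow_iff_right hp.out.one_lt] at h1
  have h2 : commutator P ≤ MulAction.stabilizer P x := by
    interval_cases k
    · rw [pow_zero, index_eq_one] at hk
      rw [hk]; exact le_top
    · rw [pow_one] at hk
      haveI := FGS.normal_of_index_eq_prime hP hk
      haveI : IsCyclic (P ⧸ MulAction.stabilizer P x) := isCyclic_of_prime_card hk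
      exact Normal.quotient_commutative_iff_commutator_le.1 inferInstance
  exact congrArg Fin.val (h2 (commutator_mem_commutator (mem_top (⟨a, ha⟩ : P)) (mem_top ⟨b, hb⟩)))

theorem eq_top_qd {p : ℕ} [hp : Fact p.Prime] (H : Subgroup (qd p)) (h : ∀ g, g ^ p = 1 → g ∈ H) :
    H = ⊤ := by
  let f : SpecialLinearGroup (Fin 2) (ZMod p) →* qd p :=
    MonoidHom.mk' (fun A => ⟨qdAff A 0, qdAff_mem A 0⟩) fun A B => Subtype.ext (by
      show qdAff (A * B) 0 = qdAff A 0 * qdAff B 0
      rw [qdAff_mul]; simp)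
  let t : Multiplicative (Fin 2 → ZMod p) →* qd p :=
    MonoidHom.mk' (fun v => ⟨qdAff 1 v.toAdd, qdAff_mem _ _⟩) fun v w => Subtype.ext (by
      show qdAff 1 (v.toAdd + w.toAdd) = qdAff 1 v.toAdd * qdAff 1 w.toAdd
      rw [qdAff_mul]; simp)
  have h1 : H.comap f = ⊤ := by
    rw [eq_top_iff, ← closure_sl2U_sl2L p, closure_le]
    rintro _ (rfl | rfl)
    · exact h _ (by rw [← map_pow, sl2U_pow, map_one])
    · exact h _ (by rw [← map_pow, sl2L_pow, map_one])
  rw [eq_top_iff]
  rintro ⟨M, hM⟩ -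
  obtain ⟨A, v, rfl⟩ := exists_qdAff_of_mem hM
  have h2 : t (Multiplicative.ofAdd v) ∈ H := h _ (by
    rw [← map_pow, ← ofAdd_nsmul, ← Nat.cast_smul_eq_nsmul (ZMod p), ZMod.natCast_self, zero_smul,
      ofAdd_zero, map_one])
  have h3 := mul_mem h2 (h1 ▸ mem_top A : A ∈ H.comap f)
  convert h3 using 1
  refine Subtype.ext ?_
  show qdAff A v = qdAff 1 v * qdAff A 0
  rw [qdAff_mul]; simp

/-- The affine plane. -/
def plane (p : ℕ) [Fact p.Prime] : SubMulAction (qd p) (Fin 3 → ZMod p) where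
  carrier := {v | v 2 = 1}
  smul_mem' := by
    rintro ⟨M, hM⟩ w hw
    obtain ⟨A, v, rfl⟩ := exists_qdAff_of_mem hM
    show ((qdAff A v).1 *ᵥ w) 2 = 1
    simpa [qdAff, mulVec, dotProduct, Fin.sum_univ_three] using hw

/-- Let p be an odd prime and n a natural number. The alternating group of degree n has a subgroup isomorphic to Qd(p) (the natural semidirect product of an elementary abelian group of order p² by SL₂(p)) if and only if n ≥ p²; and if n < p² then Qd(p) is not even involved in it. -/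
theorem result {p : ℕ} [Fact p.Prime] (hp : p ≠ 2) (n : ℕ) : ((∃ H : Subgroup (alternatingGroup (Fin n)), Nonempty (↥H ≃* ↥(Cfsg.qd p))) ↔ p ^ 2 ≤ n) ∧ (n < p ^ 2 → ¬ Cfsg.Involves ↥(Cfsg.qd p) ↥(alternatingGroup (Fin n))) := by
  have h2 : n < p ^ 2 → ¬ Cfsg.Involves ↥(Cfsg.qd p) ↥(alternatingGroup (Fin n)) := fun hn h => by
    obtain ⟨P⟩ : Nonempty (Sylow p (qd p)) := inferInstance
    have := S2231.comm_of_involves (p := p) (fun Q hQ a ha b hb => Subtype.ext
      (comm_perm hn _ (hQ.map (alternatingGroup (Fin n)).subtype) a ⟨a, ha, rfl⟩ b ⟨b, hb, rfl⟩))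
      h P P.2
    obtain ⟨z, h1, h2, h3⟩ := Grp.ES.isES_top_of_isExtraspecial (S3074.result p hp P).1
    exact h2 (h3 ▸ (eq_top_iff.2 fun x _ => mem_center_iff.2 fun y =>
      Subtype.ext (this _ y.2 _ x.2)).symm)
  refine ⟨⟨fun ⟨H, ⟨e⟩⟩ => by_contra fun hn => h2 (not_le.1 hn) ⟨H, ⊥, inferInstance,
    ⟨((QuotientGroup.quotientMulEquivOfEq (bot_subgroupOf H)).trans
      QuotientGroup.quotientBot).trans e⟩⟩, fun hn => ?_⟩, h2⟩
  obtain ⟨ι⟩ : Nonempty (plane p ↪ Fin n) := by
    haveI := Fintype.ofFinite (plane p)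
    refine Function.Embedding.nonempty_of_card_le ?_
    rw [Fintype.card_fin]
    refine le_trans (Fintype.card_le_of_injective (fun v : plane p => (v.1 0, v.1 1)) ?_) ?_
    · rintro ⟨v, hv⟩ ⟨w, hw⟩ h
      refine Subtype.ext (funext fun i => ?_)
      fin_cases i
      · exact congrArg Prod.fst h
      · exact congrArg Prod.snd h
      · exact hv.trans hw.symm
    · simpa [sq] using hn
  let ψ : qd p →* Equiv.Perm (Fin n) :=
    (Equiv.Perm.viaEmbeddingHom ι).comp (MulAction.toPermHom (qd p) (plane p))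
  have hψ : Function.Injective ψ := by
    refine (Equiv.Perm.viaEmbeddingHom_injective ι).comp ?_
    rw [injective_iff_map_eq_one]
    rintro ⟨M, hM⟩ h
    obtain ⟨A, v, rfl⟩ := exists_qdAff_of_mem hM
    have k : ∀ a b : ZMod p, (qdAff A v).1 *ᵥ ![a, b, 1] = ![a, b, 1] := fun a b =>
      congrArg Subtype.val (DFunLike.congr_fun h (⟨![a, b, 1], rfl⟩ : plane p))
    have k1 := k 0 0
    have k2 := k 1 0
    have k3 := k 0 1
    simp only [qdAff, cons_mulVec, vecCons_inj] at k1 k2 k3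
    simp at k1 k2 k3
    refine Subtype.ext (Subtype.ext ?_)
    ext i j
    fin_cases i <;> fin_cases j <;> simp_all [qdAff]
  have hA : ∀ g, ψ g ∈ alternatingGroup (Fin n) := fun g => by
    have := eq_top_qd ((alternatingGroup (Fin n)).comap ψ) fun g hg => by
      have h1 := congrArg (fun g => Equiv.Perm.sign (ψ g)) hg
      simp only [map_pow, map_one] at h1
      rwa [Int.units_pow_eq_pow_mod_two, Nat.odd_iff.1 ((Fact.out : p.Prime).odd_of_ne_two hp),
        pow_one] at h1
    exact (this ▸ mem_top g : g ∈ (alternatingGroup (Fin n)).comap ψ)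
  exact ⟨_, ⟨(MonoidHom.ofInjective (f := ψ.codRestrict _ hA) fun a b h =>
    hψ (congrArg Subtype.val h)).symm⟩⟩

end Cfsg.Agent.S3835
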