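import Mathlib
import Cfsg.Statements.S2215
import Cfsg.Agent.XP.Main
import Cfsg.Agent.K.SporCardBM
import Cfsg.Agent.K.SchBal
-- import your own Cfsg.Agent.* helpers here

set_option autoImplicit false
open Cfsg

namespace Cfsg.Agent.S2215

open Cfsg.Agent.XP

/-- Let G be a finite non-abelian simple group all of whose composition factors are known simple groups, p a prime and S a Sylow p-subgroup of G that is extraspecial of order p³. Then one of the following holds: G ≅ PSL₃(p), or p is odd and G ≅ PSU₃(p); p = 2 and G is isomorphic to the alternating group of degree 7 or to PSL₂(q) with q ≡ ±7 (mod 16); p = 3 and G ≅ PSU₃(3), or G ≅ G₂(rᵃ) for a prime r ≡ ±2, ±4 (mod 9) and a ≥ 1 not divisible by 3, with a > 1 if r = 2; p = 3 and G is the Tits group or G ≅ ²F₄(2ᵃ) with a ≥ 3 odd and not divisible by 3; or G is sporadic, namely p = 3 and G is one of M₁₂, M₂₄, J₂, J₄, He, Ru; p = 5 and G is one of HS, Co₃, Co₂, McL, Ru, Th; p = 7 and G is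 one of He, O'N, Fi₂₄′; p = 11 and G ≅ J₄; or p = 13 and G is the Monster. -/
theorem result {G : Type*} [Group G] [Finite G] [IsSimpleGroup G] (hG : ¬ IsMulCommutative G) (hK : Cfsg.IsCompositionKGroup G)
    {p : ℕ} [Fact p.Prime] (S : Sylow p G) (hS : Cfsg.IsExtraspecial p ↥(S : Subgroup G)) (hS3 : Nat.card (S : Subgroup G) = p ^ 3) :
    (Nonempty (G ≃* Matrix.ProjectiveSpecialLinearGroup (Fin 3) (ZMod p)) ∨
       (p ≠ 2 ∧ ∃ (F : Type) (_ : Field F) (_ : Fintype F), Fintype.card F = p ^ 2 ∧ Nonempty (G ≃* Cfsg.PSU 3 F p))) ∨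
    (p = 2 ∧ (Nonempty (G ≃* ↥(alternatingGroup (Fin 7))) ∨
       ∃ (F : Type) (_ : Field F) (_ : Fintype F), (Fintype.card F % 16 = 7 ∨ Fintype.card F % 16 = 9) ∧
         Nonempty (G ≃* Matrix.ProjectiveSpecialLinearGroup (Fin 2) F))) ∨
    (p = 3 ∧ ((∃ (F : Type) (_ : Field F) (_ : Fintype F), Fintype.card F = 9 ∧ Nonempty (G ≃* Cfsg.PSU 3 F 3)) ∨
       ∃ (F : Type) (_ : Field F) (_ : Fintype F) (r a : ℕ), r.Prime ∧ (r % 9 = 2 ∨ r % 9 = 4 ∨ r % 9 = 5 ∨ r % 9 = 7) ∧
         1 ≤ a ∧ ¬ 3 ∣ a ∧ (r = 2 → 1 < a) ∧ Fintype.card F = r ^ a ∧ Nonempty (G ≃* ↥(Cfsg.Lie.chevG2.group F)))) ∨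
    (p = 3 ∧ (Cfsg.Lie.IsoTits G ∨
       ∃ (K : Type) (_ : Field K) (_ : Fintype K) (m : ℕ), 1 ≤ m ∧ ¬ 3 ∣ (2 * m + 1) ∧ Fintype.card K = 2 ^ (2 * m + 1) ∧
         Nonempty (G ≃* ↥(Cfsg.Lie.twistedF4 K (2 ^ m))))) ∨
    (p = 3 ∧ (Cfsg.Spor.IsoM12 G ∨ Cfsg.Spor.IsoM24 G ∨ Cfsg.Spor.IsoJ2 G ∨ Cfsg.Spor.IsoJ4 G ∨ Cfsg.Spor.IsoHe G ∨ Cfsg.Spor.IsoRu G)) ∨
    (p = 5 ∧ (Cfsg.Spor.IsoHS G ∨ Cfsg.Spor.IsoCo3 G ∨ Cfsg.Spor.IsoCo2 G ∨ Cfsg.Spor.IsoMcL G ∨ Cfsg.Spor.IsoRu G ∨ Cfsg.Spor.IsoTh G)) ∨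
    (p = 7 ∧ (Cfsg.Spor.IsoHe G ∨ Cfsg.Spor.IsoON G ∨ Cfsg.Spor.IsoFi24' G)) ∨
    (p = 11 ∧ Cfsg.Spor.IsoJ4 G) ∨
    (p = 13 ∧ Cfsg.Spor.IsoM G) := by
  have h := H3.of_sylow S hS hS3
  by_cases h2 : p = 2
  · subst h2
    exact .inr (.inl ⟨rfl, two_case hG S hS3 (h.na.not_comm S)⟩)
  have hk : IsKnownSimple' G := K.isKnownSimple'_of_compK hK (H := ⊤) Subgroup.IsSubnormal.top
    (⊤ : Subgroup G).subtype (fun g => ⟨⟨g, trivial⟩, rfl⟩) inferInstance hG
  have hp := (Fact.out : p.Prime)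
  rcases hk with k | ⟨n, hn, ⟨e⟩⟩ | ⟨F, _, _, n, hn, -, ⟨e⟩⟩ | ⟨F, _, _, m, hm, -, ⟨e⟩⟩ |
    ⟨F, _, _, n, q, hF, hn, -, ⟨e⟩⟩ | ⟨F, _, _, m, hm, ho, ⟨e⟩⟩ | ⟨F, _, _, m, hm, ⟨e⟩⟩ |
    ⟨F, _, _, m, a, b, hm, hab, ⟨e⟩⟩ | (⟨F, _, _, hF, ⟨e⟩⟩ | ⟨F, _, _, ⟨e⟩⟩ | ⟨F, _, _, ⟨e⟩⟩ |
    ⟨F, _, _, ⟨e⟩⟩ | ⟨F, _, _, ⟨e⟩⟩ | ⟨F, _, _, q, hq, hF, ⟨e⟩⟩ | ⟨F, _, _, q, hq, hF, ⟨e⟩⟩ |
    ⟨F, _, _, m, hm, hF, ⟨e⟩⟩ | ⟨F, _, _, m, hm, hF, ⟨e⟩⟩ | ⟨F, _, _, m, hm, hF, ⟨e⟩⟩ | k) | k
  · have : Fact (Nat.card G).Prime := ⟨k⟩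
    have : IsCyclic G := isCyclic_of_prime_card (p := Nat.card G) rfl
    exact absurd IsCyclic.isMulCommutative hG
  · exact absurd (h.of_equiv e) (not_alt h2 hn)
  · exact .inl (.inl ⟨e.trans (of_PSL h2 hn (h.of_equiv e)).some⟩)
  · exact absurd (h.of_equiv e) (not_PSp h2 ((h.of_equiv e).not_dvd_card (by nlinarith)
      (UL.ordData_PSp hp (show 1 ≤ m by omega))) (by omega))
  · obtain ⟨rfl, rfl⟩ := of_PSU h2 hF hn (h.of_equiv e)
    exact .inl (.inr ⟨h2, F, _, _, hF, ⟨e⟩⟩)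
  · exact absurd (h.of_equiv e) (not_POmegaOdd h2 ((h.of_equiv e).not_dvd_card (by nlinarith)
      (UL.ordData_POmegaOdd hp ho hm)) ho hm)
  · exact absurd (h.of_equiv e) (not_POmegaPlus h2 ((h.of_equiv e).not_dvd_card
      (by have := Nat.mul_le_mul hm (show 1 ≤ m - 1 by omega); omega)
      (UL.ordData_POmegaPlus hp hm)) hm)
  · exact absurd (h.of_equiv e) (not_POmegaMinus h2 ((h.of_equiv e).not_dvd_card
      (by have := Nat.mul_le_mul hm (show 1 ≤ m - 1 by omega); omega)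
      (UL.ordData_POmegaMinus hp hm a b hab)) hm hab)
  · obtain ⟨r, hr, _, a, ha, hF'⟩ := QT.exists_char F
    obtain ⟨rfl, k1, k2⟩ := of_G2 h2 ((h.of_equiv e).not_dvd_card (by norm_num)
      (UL.ordData_G2 hp)) (h.of_equiv e) hF' ha
    refine .inr (.inr (.inl ⟨rfl, .inr ⟨F, _, _, r, a, hr.out, k1, ha, k2, ?_, hF', ⟨e⟩⟩⟩))
    rintro rfl
    refine lt_of_le_of_ne ha ?_
    rintro rfl
    omega
  · exact absurd (h.of_equiv e) (not_F4 h2 ((h.of_equiv e).not_dvd_card (by norm_num)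
      (UL.ordData_F4 hp)))
  · exact absurd (h.of_equiv e) (not_E6 h2 ((h.of_equiv e).not_dvd_card (by norm_num)
      (UL.ordData_E6 hp)))
  · exact absurd (h.of_equiv e) (not_E7 h2 ((h.of_equiv e).not_dvd_card (by norm_num)
      (UL.ordData_E7 hp)))
  · exact absurd (h.of_equiv e) (not_E8 h2 ((h.of_equiv e).not_dvd_card (by norm_num)
      (UL.ordData_E8 hp)))
  · exact absurd (h.of_equiv e) (not_2E6 h2 hq hF fun k => (h.of_equiv e).not_dvd_card
      (by norm_num) (UL.ordData_2E6 hp hq hF) (hF ▸ dvd_pow k two_ne_zero))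
  · exact absurd (h.of_equiv e) (not_3D4 h2 hq hF fun k => (h.of_equiv e).not_dvd_card
      (by norm_num) (UL.ordData_3D4 hp hq hF) (hF ▸ dvd_pow k three_ne_zero))
  · exact absurd (h.of_equiv e) (not_Sz h2 hm hF)
  · exact absurd (h.of_equiv e) (not_2G2 h2 hm hF)
  · obtain ⟨rfl, k1⟩ := of_2F4 h2 hF (h.of_equiv e)
    exact .inr (.inr (.inr (.inl ⟨rfl, .inr ⟨F, _, _, m, hm, k1, hF, ⟨e⟩⟩⟩)))
  · have := prime_mem 17971200 [3] (by decide +kernel) (by decide +kernel) h2 h
      ((Nat.card_congr k.some.toEquiv).trans Chev.Tits.card_tits)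
    exact .inr (.inr (.inr (.inl ⟨by simpa using this, .inl k⟩)))
  refine .inr (.inr (.inr (.inr ?_)))
  rcases k with k | k | k | k | k | k | k | k | k | k | k | k | k | k | k | k | k | k | k | k | k |
    k | k | k | k | k
  · have := prime_mem _ [] (by decide +kernel) (by decide +kernel) h2 h (K.card_isoM11 k)
    simp at this
  · have := prime_mem _ [3] (by decide +kernel) (by decide +kernel) h2 h (K.card_isoM12 k)
    simp only [List.mem_cons, List.not_mem_nil, or_false] at this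
    exact .inl ⟨this, .inl k⟩
  · have := prime_mem _ [] (by decide +kernel) (by decide +kernel) h2 h (K.card_isoM22 k)
    simp at this
  · have := prime_mem _ [] (by decide +kernel) (by decide +kernel) h2 h (K.card_isoM23 k)
    simp at this
  · have := prime_mem _ [3] (by decide +kernel) (by decide +kernel) h2 h (K.card_isoM24 k)
    simp only [List.mem_cons, List.not_mem_nil, or_false] at this
    exact .inl ⟨this, .inr (.inl k)⟩
  · have := prime_mem _ [] (by decide +kernel) (by decide +kernel) h2 h (K.card_isoJ1 k)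
    simp at this
  · have := prime_mem _ [3] (by decide +kernel) (by decide +kernel) h2 h (K.card_isoJ2 k)
    simp only [List.mem_cons, List.not_mem_nil, or_false] at this
    exact .inl ⟨this, .inr (.inr (.inl k))⟩
  · have := prime_mem _ [] (by decide +kernel) (by decide +kernel) h2 h (K.card_isoJ3 k)
    simp at this
  · have := prime_mem _ [3, 11] (by decide +kernel) (by decide +kernel) h2 h (K.card_isoJ4 k)
    simp only [List.mem_cons, List.not_mem_nil, or_false] at this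
    rcases this with this | this
    · exact .inl ⟨this, .inr (.inr (.inr (.inl k)))⟩
    · exact .inr (.inr (.inr (.inl ⟨this, k⟩)))
  · have := prime_mem _ [] (by decide +kernel) (by decide +kernel) h2 h (K.card_isoCo1 k)
    simp at this
  · have := prime_mem _ [5] (by decide +kernel) (by decide +kernel) h2 h (K.card_isoCo2 k)
    simp only [List.mem_cons, List.not_mem_nil, or_false] at this
    exact .inr (.inl ⟨this, .inr (.inr (.inl k))⟩)
  · have := prime_mem _ [5] (by decide +kernel) (by decide +kernel) h2 h (K.card_isoCo3 k)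
    simp only [List.mem_cons, List.not_mem_nil, or_false] at this
    exact .inr (.inl ⟨this, .inr (.inl k)⟩)
  · have := prime_mem _ [5] (by decide +kernel) (by decide +kernel) h2 h (K.card_isoMcL k)
    simp only [List.mem_cons, List.not_mem_nil, or_false] at this
    exact .inr (.inl ⟨this, .inr (.inr (.inr (.inl k)))⟩)
  · have := prime_mem _ [5] (by decide +kernel) (by decide +kernel) h2 h (K.card_isoHS k)
    simp only [List.mem_cons, List.not_mem_nil, or_false] at this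
    exact .inr (.inl ⟨this, .inl k⟩)
  · have := prime_mem _ [] (by decide +kernel) (by decide +kernel) h2 h (K.card_isoSuz k)
    simp at this
  · have := prime_mem _ [3, 7] (by decide +kernel) (by decide +kernel) h2 h (K.card_isoHe k)
    simp only [List.mem_cons, List.not_mem_nil, or_false] at this
    rcases this with this | this
    · exact .inl ⟨this, .inr (.inr (.inr (.inr (.inl k))))⟩
    · exact .inr (.inr (.inl ⟨this, .inl k⟩))
  · have := prime_mem _ [3, 5] (by decide +kernel) (by decide +kernel) h2 h (K.card_isoRu k)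
    simp only [List.mem_cons, List.not_mem_nil, or_false] at this
    rcases this with this | this
    · exact .inl ⟨this, .inr (.inr (.inr (.inr (.inr k))))⟩
    · exact .inr (.inl ⟨this, .inr (.inr (.inr (.inr (.inl k))))⟩)
  · have := prime_mem _ [7] (by decide +kernel) (by decide +kernel) h2 h (K.card_isoON k)
    simp only [List.mem_cons, List.not_mem_nil, or_false] at this
    exact .inr (.inr (.inl ⟨this, .inr (.inl k)⟩))
  · have := prime_mem _ [] (by decide +kernel) (by decide +kernel) h2 h (K.card_isoLy k)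
    simp at this
  · have := prime_mem _ [] (by decide +kernel) (by decide +kernel) h2 h (K.card_isoFi22 k)
    simp at this
  · have := prime_mem _ [] (by decide +kernel) (by decide +kernel) h2 h (K.card_isoFi23 k)
    simp at this
  · have := prime_mem _ [7] (by decide +kernel) (by decide +kernel) h2 h (K.card_isoFi24 k)
    simp only [List.mem_cons, List.not_mem_nil, or_false] at this
    exact .inr (.inr (.inl ⟨this, .inr (.inr k)⟩))
  · have := prime_mem _ [] (by decide +kernel) (by decide +kernel) h2 h (K.card_isoHN k)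
    simp at this
  · have := prime_mem _ [5] (by decide +kernel) (by decide +kernel) h2 h (K.card_isoTh k)
    simp only [List.mem_cons, List.not_mem_nil, or_false] at this
    exact .inr (.inl ⟨this, .inr (.inr (.inr (.inr (.inr k))))⟩)
  · have := prime_mem _ [] (by decide +kernel) (by decide +kernel) h2 h (K.card_isoB k)
    simp at this
  · have := prime_mem _ [13] (by decide +kernel) (by decide +kernel) h2 h (K.card_isoM k)
    simp only [List.mem_cons, List.not_mem_nil, or_false] at this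
    exact .inr (.inr (.inr (.inr ⟨this, k⟩)))

end Cfsg.Agent.S2215
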