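import Cfsg.Statements.S2257
import Cfsg.Agent.KSG.Solub

set_option autoImplicit false
open Cfsg

namespace Cfsg.Agent.S2257

open KSG.Solub KSG.M2 Class.Dickson in
/-- Let G = PSL_2(F) with F a field of order q = 2^p, p prime, and for x ∈ G call the solubilizer of x the set of y ∈ G such that x and y generate a solvable subgroup. Then the solubilizer of an involution has 3q(q − 1) elements; that of a non-identity element of order dividing q − 1 has 2q(q − 1) elements; and that of a non-identity element of order dividing q + 1 has 2(q + 1) elements. -/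
theorem result (p : ℕ) (hp : p.Prime) {F : Type*} [Field F] [Fintype F]
    (hF : Fintype.card F = 2 ^ p) (x : Matrix.ProjectiveSpecialLinearGroup (Fin 2) F) :
    (orderOf x = 2 → Nat.card {y : Matrix.ProjectiveSpecialLinearGroup (Fin 2) F // Group.IsSolvable ↥(Subgroup.closure ({x, y} : Set (Matrix.ProjectiveSpecialLinearGroup (Fin 2) F)))} = 3 * 2 ^ p * (2 ^ p - 1)) ∧
    (x ≠ 1 → orderOf x ∣ 2 ^ p - 1 → Nat.card {y : Matrix.ProjectiveSpecialLinearGroup (Fin 2) F // Group.IsSolvable ↥(Subgroup.closure ({x, y} : Set (Matrix.ProjectiveSpecialLinearGroup (Fin 2) F)))} = 2 * 2 ^ p * (2 ^ p - 1)) ∧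
    (x ≠ 1 → orderOf x ∣ 2 ^ p + 1 → Nat.card {y : Matrix.ProjectiveSpecialLinearGroup (Fin 2) F // Group.IsSolvable ↥(Subgroup.closure ({x, y} : Set (Matrix.ProjectiveSpecialLinearGroup (Fin 2) F)))} = 2 * (2 ^ p + 1)) := by
  obtain ⟨X, rfl⟩ := pslMk_surjective x
  have hs := solv_iff_two hp hF X
  have h2 : (2 : F) = 0 := (two_eq_zero_or_odd (F := F)).resolve_right (by
    rw [Nat.card_eq_fintype_card, hF, Nat.not_odd_iff_even]
    exact (Nat.even_pow.2 ⟨even_two, hp.ne_zero⟩))
  have hg := gcd_two_of_two_eq h2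
  obtain ⟨k, hk⟩ := even_card_of_two_eq h2
  have : CharP F 2 := (CharP.charP_iff_prime_eq_zero Nat.prime_two).2 (by exact_mod_cast h2)
  have hc := orderOf_pr_cases 2 X
  rw [hg, Nat.div_one, Nat.div_one] at hc
  rw [Nat.card_eq_fintype_card] at hg hk hc
  have h1 : 1 ≤ Fintype.card F := Fintype.card_pos
  have h0 : (X : Matrix (Fin 2) (Fin 2) F).trace ^ 2 ≠ 4 →
      (X : Matrix (Fin 2) (Fin 2) F).trace ≠ 0 := fun h e => h (by
    rw [e]; linear_combination -2 * h2)
  have h3 : ∀ n, n ∣ 2 → n ∣ Fintype.card F - 1 ∨ n ∣ Fintype.card F + 1 → n = 1 := fun n h h' => by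
    rcases (Nat.dvd_prime Nat.prime_two).1 h with rfl | rfl
    · rfl
    · omega
  have h4 : ∀ n, n ∣ Fintype.card F - 1 → n ∣ Fintype.card F + 1 → n ∣ 2 := fun n h h' => by
    have := Nat.dvd_sub h' h
    rwa [show Fintype.card F + 1 - (Fintype.card F - 1) = 2 by omega] at this
  rw [← hF]
  refine ⟨fun h => ?_, fun h h' => ?_, fun h h' => ?_⟩
  · have hX : ¬ IsScal (X : Matrix (Fin 2) (Fin 2) F) := fun e => by
      rw [show pslMk F X = 1 from pr_eq_one_iff.2 e] at h
      simp at h
    have ht := ((trace_of_sq (by rw [← sq]; exact orderOf_dvd_iff_pow_eq_one.1 h.dvd)).resolve_right hX).trans h2.symm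
    have := card_sol hX (P2 2) (fun a b h => ht ▸ conic_two fun e => h (Or.inl ((kap_two a b).2 e)))
      (ht ▸ hs) (card_P2_two h2)
    rw [hg] at this
    zify [h1] at this ⊢
    linear_combination this
  · rcases hc with hc | hc | hc
    · exact absurd (orderOf_eq_one_iff.1 (h3 _ hc.2 (Or.inl h'))) h
    · have := card_split hc.1 hc.2.1 fun Y => (hs Y).trans (P2_iff (h0 hc.1) _ _)
      rwa [hg, one_mul] at this
    · exact absurd (orderOf_eq_one_iff.1 (h3 _ (h4 _ h' hc.2) (Or.inl h'))) h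
  · rcases hc with hc | hc | hc
    · exact absurd (orderOf_eq_one_iff.1 (h3 _ hc.2 (Or.inr h'))) h
    · exact absurd (orderOf_eq_one_iff.1 (h3 _ (h4 _ hc.2.2 h') (Or.inr h'))) h
    · have := card_nonsplit hc.1 fun Y => (hs Y).trans (P2_iff (h0 hc.1.trace_sq_ne_four) _ _)
      rwa [hg, one_mul] at this

end Cfsg.Agent.S2257
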