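import Cfsg.Statements.S2258
import Cfsg.Agent.KSG.Solub

set_option autoImplicit false
open Cfsg

namespace Cfsg.Agent.S2258

open KSG.Solub KSG.M2 Class.Dickson in
/-- Let G = PSL_2(F) with F a field of order q = 3^p, p an odd prime, and for x ∈ G call the solubilizer of x the set of y ∈ G such that x and y generate a solvable subgroup. Then the solubilizer of an involution has q(q + 1) elements; that of an element of order 3 has q(q + 5)/2 elements; that of an element of order neither 1 nor 2 dividing q − 1 has q(q − 1) elements; and that of an element of order neither 1 nor 2 dividing q + 1 has q + 1 elements. -/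
theorem result (p : ℕ) (hp : p.Prime) (hodd : Odd p) {F : Type*} [Field F] [Fintype F]
    (hF : Fintype.card F = 3 ^ p) (x : Matrix.ProjectiveSpecialLinearGroup (Fin 2) F) :
    (orderOf x = 2 → Nat.card {y : Matrix.ProjectiveSpecialLinearGroup (Fin 2) F // Group.IsSolvable ↥(Subgroup.closure ({x, y} : Set (Matrix.ProjectiveSpecialLinearGroup (Fin 2) F)))} = 3 ^ p * (3 ^ p + 1)) ∧
    (orderOf x = 3 → 2 * Nat.card {y : Matrix.ProjectiveSpecialLinearGroup (Fin 2) F // Group.IsSolvable ↥(Subgroup.closure ({x, y} : Set (Matrix.ProjectiveSpecialLinearGroup (Fin 2) F)))} = 3 ^ p * (3 ^ p + 5)) ∧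
    (x ≠ 1 → orderOf x ≠ 2 → orderOf x ∣ 3 ^ p - 1 → Nat.card {y : Matrix.ProjectiveSpecialLinearGroup (Fin 2) F // Group.IsSolvable ↥(Subgroup.closure ({x, y} : Set (Matrix.ProjectiveSpecialLinearGroup (Fin 2) F)))} = 3 ^ p * (3 ^ p - 1)) ∧
    (x ≠ 1 → orderOf x ≠ 2 → orderOf x ∣ 3 ^ p + 1 → Nat.card {y : Matrix.ProjectiveSpecialLinearGroup (Fin 2) F // Group.IsSolvable ↥(Subgroup.closure ({x, y} : Set (Matrix.ProjectiveSpecialLinearGroup (Fin 2) F)))} = 3 ^ p + 1) := by
  obtain ⟨X, rfl⟩ := pslMk_surjective x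
  have hs := solv_iff_three hp hodd hF
  have h3 := three_eq_zero hF
  have h2 : (2 : F) ≠ 0 := fun h2 => one_ne_zero (α := F) (by linear_combination h3 - h2)
  have hg := gcd_two_of_two_ne h2
  have : Fact (Nat.Prime 3) := ⟨Nat.prime_three⟩
  have : CharP F 3 := (CharP.charP_iff_prime_eq_zero Nat.prime_three).2 (by exact_mod_cast h3)
  have hc := orderOf_pr_cases 3 X
  rw [hg] at hc
  rw [Nat.card_eq_fintype_card] at hg hc
  have hm := three_pow_mod hodd
  have hd := dvd_pow_self 3 hp.ne_zero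
  rw [← hF] at hm hd ⊢
  have h0 : orderOf (pslMk F X) ≠ 2 → pslMk F X ≠ 1 →
      (X : Matrix (Fin 2) (Fin 2) F).trace ^ 2 ≠ 4 →
      (X : Matrix (Fin 2) (Fin 2) F).trace ^ 3 ≠ (X : Matrix (Fin 2) (Fin 2) F).trace :=
    fun h h' h4 e => by
      rcases cube_cases e with e | e
      · exact h (orderOf_eq_prime ((sq _).trans (pslMk_mul_self e)) h')
      · exact h4 (by linear_combination e - h3)
  have h5 : ∀ n, n ∣ 3 → n ∣ Fintype.card F - 1 ∨ n ∣ Fintype.card F + 1 → n = 1 := fun n h h' => by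
    rcases (Nat.dvd_prime Nat.prime_three).1 h with rfl | rfl
    · rfl
    · omega
  have h4 : ∀ n, n ∣ Fintype.card F - 1 → n ∣ Fintype.card F + 1 → n = 1 ∨ n = 2 := fun n h h' => by
    have := Nat.dvd_sub h' h
    rwa [show Fintype.card F + 1 - (Fintype.card F - 1) = 2 by omega,
      Nat.dvd_prime Nat.prime_two] at this
  have h6 : (Fintype.card F - 1) / 2 ∣ Fintype.card F - 1 := Nat.div_dvd_of_dvd (by omega)
  have h7 : (Fintype.card F + 1) / 2 ∣ Fintype.card F + 1 := Nat.div_dvd_of_dvd (by omega)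
  have hX : 1 < orderOf (pslMk F X) → ¬ IsScal (X : Matrix (Fin 2) (Fin 2) F) := fun h e => by
    rw [show pslMk F X = 1 from pr_eq_one_iff.2 e] at h
    simp at h
  refine ⟨fun h => ?_, fun h => ?_, fun h h2 h' => ?_, fun h h2 h' => ?_⟩
  · have hX := hX (by omega)
    have ht := (trace_of_sq (by rw [← sq]; exact orderOf_dvd_iff_pow_eq_one.1 h.dvd)).resolve_right hX
    have hn : NoEig (X : Matrix (Fin 2) (Fin 2) F) := by
      rcases hc with hc | hc | hc
      · exact absurd (h ▸ hc.2 : 2 ∣ 3) (by norm_num)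
      · have : 2 ∣ (Fintype.card F - 1) / 2 := h.symm.dvd.trans hc.2.2
        omega
      · exact hc.1
    have h8 := nrm_trace hX
    rw [SL_card_centralizer_noEig hn, Nat.card_eq_fintype_card] at h8
    have := card_sol hX (P3 0) (fun a b h => conic_eq hn.trace_sq_ne_four
      fun e => h (Or.inl (Or.inl (ht ▸ e)))) (ht ▸ hs X) (card_P3_zero h3)
    rw [hg, ← ht, h8] at this
    zify [show 2 ≤ Fintype.card F by omega, show 3 ≤ Fintype.card F by omega] at this ⊢
    linarith
  · have hX := hX (by omega)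
    have ht : (X : Matrix (Fin 2) (Fin 2) F).trace ^ 2 = 4 := by
      rcases hc with hc | hc | hc
      · exact hc.1
      · have : 3 ∣ Fintype.card F - 1 := (h ▸ hc.2.2 : 3 ∣ _).trans h6
        omega
      · have : 3 ∣ Fintype.card F + 1 := (h ▸ hc.2 : 3 ∣ _).trans h7
        omega
    obtain ⟨Z, hZ, e, ht⟩ : ∃ Z : Matrix.SpecialLinearGroup (Fin 2) F,
        ¬ IsScal (Z : Matrix (Fin 2) (Fin 2) F) ∧ pslMk F X = pslMk F Z ∧
          (Z : Matrix (Fin 2) (Fin 2) F).trace = 2 := by
      rcases sq_eq_sq_iff_eq_or_eq_neg.1 (ht.trans (show (4 : F) = 2 ^ 2 by norm_num)) with e | e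
      · exact ⟨X, hX, rfl, e⟩
      · exact ⟨-X, fun h => hX (isScal_neg.1 h), (pr_neg X).symm, by rw [SL_trace_neg, e, neg_neg]⟩
    have := card_sol hZ (P3 2) (fun a b h => ht ▸ conic_two
      fun e => h (Or.inl (Or.inl ((kap_two a b).2 e)))) (ht ▸ hs Z) (card_P3_two h3)
    rw [hg, ← e] at this
    zify [show 3 ≤ Fintype.card F by omega] at this ⊢
    linear_combination this
  · rcases hc with hc | hc | hc
    · exact absurd (orderOf_eq_one_iff.1 (h5 _ hc.2 (Or.inl h'))) h
    · have := card_split hc.1 hc.2.1 fun Y => (hs X Y).trans (P3_iff (h0 h2 h hc.1) _ _)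
      rw [hg, mul_assoc] at this
      omega
    · exact absurd (orderOf_eq_one_iff.1 ((h4 _ h' (hc.2.trans h7)).resolve_right h2)) h
  · rcases hc with hc | hc | hc
    · exact absurd (orderOf_eq_one_iff.1 (h5 _ hc.2 (Or.inr h'))) h
    · exact absurd (orderOf_eq_one_iff.1 ((h4 _ (hc.2.2.trans h6) h').resolve_right h2)) h
    · have := card_nonsplit hc.1 fun Y =>
        (hs X Y).trans (P3_iff (h0 h2 h hc.1.trace_sq_ne_four) _ _)
      rw [hg] at this
      omega

end Cfsg.Agent.S2258
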