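import Cfsg.Statements.S2271
import Mathlib
import Cfsg.Agent.Perm.MultTrans

set_option autoImplicit false
open Cfsg

namespace Cfsg.Agent.S2271

open Equiv Equiv.Perm Finset

variable {n : ℕ}

/-- number of agreements -/
def N (c b : Perm (Fin n)) : ℕ := #{x | c x = b x}

theorem N_conj (s c b : Perm (Fin n)) : N (s * c * s⁻¹) (s * b * s⁻¹) = N c b := by
  unfold N
  symm
  apply Finset.card_bijective s s.bijective
  intro x
  simp

theorem card_fix (c b : Perm (Fin n)) :
    Nat.card (Function.fixedPoints ⇑(c⁻¹ * b)) = N c b := by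
  unfold N
  rw [Nat.card_eq_fintype_card, Fintype.card_subtype]
  congr 1
  ext x
  simp only [Function.mem_fixedPoints_iff, Perm.mul_apply, mem_filter, mem_univ, true_and]
  rw [Perm.inv_eq_iff_eq, eq_comm]

theorem dec (hn : 5 ≤ n) {c b : Perm (Fin n)} {x : Fin n} (h : c x = b x) (hx : b x ≠ x) :
    ∃ t : Perm (Fin n), sign t = -1 ∧ N (t * c * t⁻¹) b < N c b := by
  obtain ⟨z, hz⟩ : ∃ z, z ∉ ({x, b x, c⁻¹ (b (b x)), b⁻¹ (c (b x))} : Finset (Fin n)) := by
    by_contra! hc
    have h1 := Finset.card_le_card (fun z _ => hc z : (univ : Finset (Fin n)) ⊆ _)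
    have h2 := Finset.card_le_four (a := x) (b := b x) (c := c⁻¹ (b (b x))) (d := b⁻¹ (c (b x)))
    rw [Finset.card_univ, Fintype.card_fin] at h1
    omega
  simp only [mem_insert, mem_singleton, not_or, Perm.eq_inv_iff_eq] at hz
  obtain ⟨z1, z2, z3, z4⟩ := hz
  refine ⟨swap (b x) z, sign_swap (Ne.symm z2), ?_⟩
  unfold N
  apply Finset.card_lt_card
  rw [Finset.ssubset_iff_of_subset]
  · refine ⟨x, by simpa using h, ?_⟩
    rw [mem_filter]
    simp only [mem_univ, true_and, swap_inv, Perm.mul_apply]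
    rw [swap_apply_of_ne_of_ne hx.symm (Ne.symm z1), h, swap_apply_left]
    exact z2
  · intro u
    rw [mem_filter, mem_filter]
    simp only [mem_univ, true_and, swap_inv, Perm.mul_apply]
    have ic := c.injective
    have ib := b.injective
    simp only [swap_apply_def]
    intro hu
    have := @ic
    have := @ib
    grind [Function.Injective]

theorem trans3 (hn : 5 ≤ n) (a b c a' b' c' : Fin n) (h1 : a ≠ b) (h2 : a ≠ c) (h3 : b ≠ c)
    (h4 : a' ≠ b') (h5 : a' ≠ c') (h6 : b' ≠ c') :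
    ∃ g : alternatingGroup (Fin n), g.1 a = a' ∧ g.1 b = b' ∧ g.1 c = c' := by
  have := alternatingGroup.isMultiplyPretransitive (Fin n)
  have h : MulAction.IsMultiplyPretransitive (alternatingGroup (Fin n)) (Fin n) 3 :=
    MulAction.isMultiplyPretransitive_of_le (n := Nat.card (Fin n) - 2) (by simp; omega) (by simp)
  exact Cfsg.Agent.Perm.three_trans_iff.1 h a b c a' b' c' h1 h2 h3 h4 h5 h6

theorem exists_third (hn : 5 ≤ n) (a b : Fin n) : ∃ c, a ≠ c ∧ b ≠ c := by
  obtain ⟨z, hz⟩ : ∃ z, z ∉ ({a, b} : Finset (Fin n)) := by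
    by_contra! hc
    have h1 := Finset.card_le_card (fun z _ => hc z : (univ : Finset (Fin n)) ⊆ _)
    have h2 := Finset.card_le_two (a := a) (b := b)
    simp at h1
    omega
  simp only [mem_insert, mem_singleton, not_or] at hz
  exact ⟨z, Ne.symm hz.1, Ne.symm hz.2⟩

theorem trans2 (hn : 5 ≤ n) (a b a' b' : Fin n) (h1 : a ≠ b) (h4 : a' ≠ b') :
    ∃ g : alternatingGroup (Fin n), g.1 a = a' ∧ g.1 b = b' := by
  obtain ⟨c, c1, c2⟩ := exists_third hn a b
  obtain ⟨c', d1, d2⟩ := exists_third hn a' b'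
  obtain ⟨g, h⟩ := trans3 hn a b c a' b' c' h1 c1 c2 h4 d1 d2
  exact ⟨g, h.1, h.2.1⟩

theorem fiber_le {G β : Type*} [Group G] [Fintype G] [DecidableEq β] (f : G → β) (T : Finset β)
    (y : β) (h : ∀ y' ∈ T, ∃ k : G, ∀ g, f g = y → f (k * g) = y') :
    #T * #{g | f g = y} ≤ Fintype.card G := by
  classical
  calc #T * #{g | f g = y} = ∑ _y' ∈ T, #{g | f g = y} := by simp
    _ ≤ ∑ y' ∈ T, #{g | f g = y'} := by
      apply Finset.sum_le_sum
      intro y' hy'
      obtain ⟨k, hk⟩ := h y' hy'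
      apply Finset.card_le_card_of_injOn (fun g => k * g)
      · intro g hg
        simp only [coe_filter, mem_univ, true_and, Set.mem_setOf_eq] at hg ⊢
        exact hk g hg
      · intro a _ b _ hab
        exact mul_left_cancel hab
    _ = #{g | f g ∈ T} := by
      rw [Finset.sum_card_fiberwise_eq_card_filter]
    _ ≤ _ := Finset.card_le_univ _

theorem avg (hn : 5 ≤ n) {c : Perm (Fin n)} (hc : ∀ p q, c p = p → c q = q → p = q)
    (b : Perm (Fin n)) : ∃ g : alternatingGroup (Fin n), N (g.1 * c * g.1⁻¹) b ≤ 1 := by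
  classical
  by_contra! H
  have key : ∀ x y : Fin n, (n - 1) * #{g : alternatingGroup (Fin n) | (g.1 * c * g.1⁻¹) x = y} ≤
      Fintype.card (alternatingGroup (Fin n)) := by
    intro x y
    by_cases hxy : y = x
    · subst hxy
      by_cases hp : ∃ p, c p = p
      · obtain ⟨p, hp⟩ := hp
        have h1 := fiber_le (fun g : alternatingGroup (Fin n) => g.1 p) univ y (by
          intro y' _
          obtain ⟨w, w1, w2⟩ := exists_third hn y y'
          obtain ⟨k, hk⟩ := trans2 hn y w y' w w1 w2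
          exact ⟨k, fun g hg => by simp [hg, hk.1]⟩)
        refine le_trans (Nat.mul_le_mul (by simp) (Finset.card_le_card ?_)) h1
        intro g
        rw [mem_filter, mem_filter]
        simp only [mem_univ, true_and, Perm.mul_apply]
        intro hg
        rw [← Perm.eq_inv_iff_eq] at hg ⊢
        exact hc _ _ hp hg
      · have : ({g : alternatingGroup (Fin n) | (g.1 * c * g.1⁻¹) y = y} : Finset _) = ∅ := by
          rw [Finset.filter_eq_empty_iff]
          intro g _ hg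
          simp only [Perm.mul_apply] at hg
          rw [← Perm.eq_inv_iff_eq] at hg
          exact hp ⟨_, hg⟩
        rw [this]; simp
    · have h1 := fiber_le (fun g : alternatingGroup (Fin n) => (g.1 * c * g.1⁻¹) x) (univ.erase x) y
        (by
          intro y' hy'
          obtain ⟨k, hk⟩ := trans2 hn x y x y' (Ne.symm hxy) (Finset.ne_of_mem_erase hy').symm
          refine ⟨k, fun g hg => ?_⟩
          have e : k.1⁻¹ x = x := by rw [Perm.inv_eq_iff_eq, hk.1]
          simp only [Perm.mul_apply] at hg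
          simp only [Subgroup.coe_mul, mul_inv_rev, Perm.mul_apply, e, hg, hk.2])
      simpa using h1
  have h1 : ∑ g : alternatingGroup (Fin n), N (g.1 * c * g.1⁻¹) b =
      ∑ x : Fin n, #{g : alternatingGroup (Fin n) | (g.1 * c * g.1⁻¹) x = b x} := by
    unfold N
    simp only [Finset.card_filter]
    exact Finset.sum_comm
  have h2 : 2 * Fintype.card (alternatingGroup (Fin n)) ≤
      ∑ g : alternatingGroup (Fin n), N (g.1 * c * g.1⁻¹) b := by
    have := Finset.card_nsmul_le_sum univ (fun g : alternatingGroup (Fin n) => N (g.1 * c * g.1⁻¹) b) 2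
      (fun g _ => H g)
    simpa [mul_comm] using this
  have h3 : (n - 1) * ∑ x : Fin n, #{g : alternatingGroup (Fin n) | (g.1 * c * g.1⁻¹) x = b x} ≤
      n * Fintype.card (alternatingGroup (Fin n)) := by
    rw [Finset.mul_sum]
    have := Finset.sum_le_card_nsmul univ _ _ (fun x _ => key x (b x))
    simpa using this
  have h4 : 0 < Fintype.card (alternatingGroup (Fin n)) := Fintype.card_pos
  rw [← h1] at h3
  obtain ⟨m, rfl⟩ : ∃ m, n = m + 1 := ⟨n - 1, by omega⟩
  simp only [Nat.add_sub_cancel] at h3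
  nlinarith

theorem cases_perm {c : Perm (Fin n)} (hc : c ≠ 1) :
    (∃ s : Perm (Fin n), sign s = -1 ∧ s * c * s⁻¹ = c) ∨
    ((∀ p q, c p = p → c q = q → p = q) ∧ ∃ p, p ≠ c p ∧ p ≠ c (c p) ∧ c p ≠ c (c p)) := by
  by_cases h : ∀ p q, c p = p → c q = q → p = q
  · obtain ⟨p, hp⟩ : ∃ p, c p ≠ p := by
      by_contra! h; exact hc (Equiv.ext h)
    by_cases h2 : p = c (c p)
    · left
      refine ⟨swap p (c p), sign_swap hp.symm, ?_⟩
      rw [mul_inv_eq_iff_eq_mul, mul_swap_eq_swap_mul, ← h2, swap_comm]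
    · exact Or.inr ⟨h, p, hp.symm, h2, fun e => hp (c.injective e).symm⟩
  · push Not at h
    obtain ⟨p, q, hp, hq, hpq⟩ := h
    left
    refine ⟨swap p q, sign_swap hpq, ?_⟩
    rw [mul_inv_eq_iff_eq_mul, mul_swap_eq_swap_mul, hp, hq]

theorem main (hn : 5 ≤ n) {c b : Perm (Fin n)} (hc : c ≠ 1) (hb : b ≠ 1) :
    ∃ g₁ ∈ alternatingGroup (Fin n), ∃ g₂ ∈ alternatingGroup (Fin n),
      N (g₁ * c * g₁⁻¹) b ≠ N (g₂ * c * g₂⁻¹) b := by
  have H : ∃ g ∈ alternatingGroup (Fin n), ∃ t : Perm (Fin n), sign t = -1 ∧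
      N (t * (g * c * g⁻¹) * t⁻¹) b < N (g * c * g⁻¹) b := by
    obtain ⟨p, hp⟩ : ∃ p, c p ≠ p := by
      by_contra! h; exact hc (Equiv.ext h)
    obtain ⟨x, hx⟩ : ∃ p, b p ≠ p := by
      by_contra! h; exact hb (Equiv.ext h)
    obtain ⟨g, h1, h2⟩ := trans2 hn p (c p) x (b x) hp.symm hx.symm
    refine ⟨g.1, g.2, dec hn (x := x) ?_ hx⟩
    rw [← h2, ← h1]; simp
  rcases cases_perm hc with ⟨s, hs, hsc⟩ | ⟨c1, p, p1, p2, p3⟩
  · obtain ⟨g, hg, t, ht, h⟩ := H
    refine ⟨t * g * s, ?_, g, hg, ?_⟩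
    · rw [mem_alternatingGroup] at hg ⊢
      simp [hs, ht, hg]
    · have : t * g * s * c * (t * g * s)⁻¹ = t * (g * (s * c * s⁻¹) * g⁻¹) * t⁻¹ := by group
      rw [this, hsc]
      exact h.ne
  rcases cases_perm hb with ⟨s, hs, hsc⟩ | ⟨-, x, x1, x2, x3⟩
  · obtain ⟨g, hg, t, ht, h⟩ := H
    refine ⟨s * t * g, ?_, g, hg, ?_⟩
    · rw [mem_alternatingGroup] at hg ⊢
      simp [hs, ht, hg]
    · have : s * t * g * c * (s * t * g)⁻¹ = s * (t * (g * c * g⁻¹) * t⁻¹) * s⁻¹ := by group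
      rw [← N_conj s, hsc] at h
      rw [this]
      exact h.ne
  obtain ⟨g, hg⟩ := avg hn c1 b
  obtain ⟨k, k1, k2, k3⟩ := trans3 hn p (c p) (c (c p)) x (b x) (b (b x)) p1 p2 p3 x1 x2 x3
  refine ⟨g.1, g.2, k.1, k.2, ?_⟩
  have : 1 < N (k.1 * c * k.1⁻¹) b := by
    unfold N
    rw [Finset.one_lt_card]
    refine ⟨x, ?_, b x, ?_, x1⟩
    · simp only [mem_filter, mem_univ, true_and]
      rw [← k2, ← k1]; simp
    · simp only [mem_filter, mem_univ, true_and]
      rw [← k3, ← k2]; simp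
  omega


/-- Let n ≥ 5 and let a, b be non-identity permutations in the symmetric group S_n. Then the number of fixed points is not constant on the set of products a′b′ with a′ conjugate to a and b′ conjugate to b under the alternating group: there are even permutations g₁, h₁, g₂, h₂ such that (g₁ a g₁⁻¹)(h₁ b h₁⁻¹) and (g₂ a g₂⁻¹)(h₂ b h₂⁻¹) have different numbers of fixed points. -/
theorem result (n : ℕ) (hn : 5 ≤ n) (a b : Equiv.Perm (Fin n)) (ha : a ≠ 1) (hb : b ≠ 1) :
    ∃ g₁ h₁ g₂ h₂ : Equiv.Perm (Fin n), g₁ ∈ alternatingGroup (Fin n) ∧ h₁ ∈ alternatingGroup (Fin n) ∧ g₂ ∈ alternatingGroup (Fin n) ∧ h₂ ∈ alternatingGroup (Fin n) ∧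
      Nat.card (Function.fixedPoints ⇑(g₁ * a * g₁⁻¹ * (h₁ * b * h₁⁻¹))) ≠
        Nat.card (Function.fixedPoints ⇑(g₂ * a * g₂⁻¹ * (h₂ * b * h₂⁻¹))) := by
  obtain ⟨g₁, h₁, g₂, h₂, h⟩ := main hn (inv_ne_one.2 ha) hb
  refine ⟨g₁, 1, g₂, 1, h₁, one_mem _, h₂, one_mem _, ?_⟩
  rw [← card_fix, ← card_fix] at h
  simpa [mul_assoc] using h

end Cfsg.Agent.S2271
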