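import Cfsg.Statements.S2332
import Mathlib
import Cfsg.Agent.KSG.SLMin
import Cfsg.Agent.Char.PermRank
import Cfsg.Agent.Class.LinearBasic

set_option autoImplicit false
open Cfsg

namespace Cfsg.Agent.S2332

open KSG KSG.SLM Char Module

section
variable {F : Type*} [Field F] {n : ℕ}

local notation "SLn" => Matrix.SpecialLinearGroup (Fin n) F

/-- An endomorphism of determinant one. -/
def sl (h : Module.End F (Fin n → F)) (hd : LinearMap.det h = 1) : SLn :=
  ⟨LinearMap.toMatrix' h, by rw [LinearMap.det_toMatrix', hd]⟩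

theorem sl_smul (h : Module.End F (Fin n → F)) (hd : LinearMap.det h = 1) (x : Fin n → F) :
    sl h hd • x = h x := by
  change (LinearMap.toMatrix' h).mulVec x = _
  rw [← Matrix.toLin'_apply, Matrix.toLin'_toMatrix']

theorem sl_ext {g g' : SLn} (h : ∀ x : Fin n → F, g • x = g' • x) : g = g' :=
  Subtype.ext (Matrix.toLin'.injective (LinearMap.ext h))

theorem smul_smul' (g : SLn) (c : F) (x : Fin n → F) : g • c • x = c • g • x :=
  Matrix.mulVec_smul _ _ _

open Classical in
/-- A transvection. -/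
noncomputable def tv (u : Fin n → F) (φ : Dual F (Fin n → F)) : SLn :=
  if h : φ u = 0 then sl (LinearMap.transvection φ u) (by simp [h]) else 1

theorem tv_smul {u : Fin n → F} {φ : Dual F (Fin n → F)} (h : φ u = 0) (x : Fin n → F) :
    tv u φ • x = x + φ x • u := by
  rw [tv, dif_pos h, sl_smul]; rfl

theorem tv_conj (k : SLn) {u : Fin n → F} {φ φ' : Dual F (Fin n → F)} (h : φ u = 0)
    (h' : ∀ x, φ' (k • x) = φ x) : k * tv u φ = tv (k • u) φ' * k :=
  sl_ext fun x => by
    rw [mul_smul, mul_smul, tv_smul h, tv_smul (by rw [h', h]), smul_add, smul_smul', h']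

theorem tv_smul_left (c : F) (u : Fin n → F) (φ : Dual F (Fin n → F)) :
    tv (c • u) φ = tv u (c • φ) := by
  by_cases h : φ (c • u) = 0
  · exact sl_ext fun x => by
      rw [tv_smul h, tv_smul (by simpa using h)]; simp [smul_smul, mul_comm]
  · rw [tv, tv, dif_neg h, dif_neg (by simpa using h)]

theorem tv_add_right {u : Fin n → F} {φ φ' : Dual F (Fin n → F)} (h : φ u = 0) (h' : φ' u = 0) :
    tv u (φ + φ') = tv u φ * tv u φ' :=
  sl_ext fun x => by
    rw [mul_smul, tv_smul h, tv_smul h', tv_smul (by simp [h, h'])]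
    simp [h, add_smul]; abel

variable {V : Type*} [AddCommGroup V] [Module ℂ V]

theorem trep [Finite F] (ρ : SLn →* Module.End ℂ V) : TRep fun u φ => ρ (tv u φ) where
  junk u φ h := by rw [tv, dif_neg h, map_one]
  zero φ := by
    rw [← map_one ρ]; congr 1; exact sl_ext fun x => by simp [tv_smul (map_zero φ)]
  zero' u := by
    rw [← map_one ρ]; congr 1; exact sl_ext fun x => by simp [tv_smul (φ := 0) (u := u) rfl]
  add {u w φ} h1 h2 := by
    rw [← map_mul]; congr 1
    refine sl_ext fun x => ?_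
    rw [mul_smul, tv_smul h1, tv_smul h2, tv_smul (by simp [h1, h2])]
    simp [h2]; abel
  smul c u φ := by rw [tv_smul_left]
  conj {w α u φ} h1 h2 := by
    rw [← map_mul, ← map_mul, tv_conj _ h2 (φ' := φ - φ w • α), tv_smul h1]
    intro x
    simp [tv_smul h1, h1, mul_comm]
  int m v ω hv h := isIntegral_of_sum_eigen ρ (m.map fun p => tv p.1 p.2) hv (by
    rw [Multiset.map_map]; exact h)

theorem map_Wt [Finite F] (ρ : SLn →* Module.End ℂ V) {ψ : AddChar F ℂ} {φ g : Dual F (Fin n → F)}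
    (k : SLn) (c : F) (h1 : ∀ x, φ (k • x) = c * φ x) (h2 : ∀ x, φ x = 0 → g (k • x) = c * g x)
    (hc : c ≠ 0) {v : V} (hv : v ∈ (trep ρ).Wt ψ φ g) : ρ k v ∈ (trep ρ).Wt ψ φ g := by
  rw [TRep.mem_Wt] at hv ⊢
  intro w hw
  have h3 : φ (k⁻¹ • w) = 0 := by
    have := h1 (k⁻¹ • w)
    rw [smul_inv_smul, hw] at this
    exact (mul_eq_zero.1 this.symm).resolve_left hc
  have h4 := tv_conj k (u := k⁻¹ • w) (φ := c • φ) (φ' := φ) (by simp [h3]) (by simp [h1])
  rw [smul_inv_smul, ← tv_smul_left] at h4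
  have h5 := h2 _ h3
  rw [smul_inv_smul] at h5
  rw [← Module.End.mul_apply, ← map_mul, ← h4, map_mul, Module.End.mul_apply,
    hv _ (by simp [h3]), map_smul, h5]
  simp

theorem fix_of [Finite F] (ρ : SLn →* Module.End ℂ V) {ψ : AddChar F ℂ} {φ g : Dual F (Fin n → F)}
    (h1 : finrank ℂ ((trep ρ).Wt ψ φ g) = 1) {v : V} (hv : v ∈ (trep ρ).Wt ψ φ g) {k : SLn}
    (hk : ρ k v ∈ (trep ρ).Wt ψ φ g) {u : Fin n → F} (hu : φ u = 0) (hu' : g u = 0)
    {α β : Dual F (Fin n → F)} (hα : α u = 0) (hβ : β u = 0)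
    (h : k * tv u β = tv u (β + α) * k) : ρ (tv u α) v = v := by
  by_cases hv0 : v = 0
  · simp [hv0]
  have key : ∀ x ∈ (trep ρ).Wt ψ φ g, ∃ c : ℂ, x = c • v := fun x hx => by
    obtain ⟨c, hc⟩ := (finrank_eq_one_iff_of_nonzero' (⟨v, hv⟩ : (trep ρ).Wt ψ φ g)
      (fun e => hv0 (congrArg Subtype.val e))).1 h1 ⟨x, hx⟩
    exact ⟨c, (congrArg Subtype.val hc).symm⟩
  have mem : ∀ γ : Dual F (Fin n → F), γ u = 0 → ρ (tv u γ) v ∈ (trep ρ).Wt ψ φ g := fun γ hγ => by
    simpa [hu, hu'] using (trep ρ).map_Wt hγ hv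
  obtain ⟨a, ha⟩ := key _ hk
  obtain ⟨b, hb⟩ := key _ (mem β hβ)
  have e := LinearMap.congr_fun (congrArg ρ h) v
  rw [tv_add_right hβ hα] at e
  simp only [map_mul, Module.End.mul_apply, hb, ha, map_smul] at e
  have ha0 : a ≠ 0 := by
    rintro rfl
    exact hv0 (rep_injective ρ k (by simpa using ha))
  rw [smul_comm] at e
  have e2 := smul_right_injective V ha0 e
  rw [← hb] at e2
  exact (rep_injective ρ _ e2).symm

theorem exists_pow_ne_one [Fintype F] {m : ℕ} (h : ¬ Fintype.card F - 1 ∣ m) :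
    ∃ a : F, a ≠ 0 ∧ a ^ m ≠ 1 := by
  obtain ⟨g, hg⟩ := IsCyclic.exists_ofOrder_eq_natCard (α := Fˣ)
  rw [Nat.card_units, Nat.card_eq_fintype_card] at hg
  refine ⟨g, g.ne_zero, fun e => h ?_⟩
  rw [← hg, orderOf_dvd_iff_pow_eq_one]
  exact Units.ext (by simpa using e)

theorem good [Fintype F] (hn : 3 ≤ n) (hex : (n, Fintype.card F) ≠ (3, 2) ∧
    (n, Fintype.card F) ≠ (3, 4) ∧ (n, Fintype.card F) ≠ (4, 2) ∧ (n, Fintype.card F) ≠ (4, 3))
    (ρ : SLn →* Module.End ℂ V) {ψ : AddChar F ℂ}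
    (h1 : ∀ φ g, Indep φ g → finrank ℂ ((trep ρ).Wt ψ φ g) = 1) : Good (trep ρ) ψ := by
  refine ⟨h1, fun φ g i v hv u α hu hu' => ?_⟩
  by_cases hα : α u = 0
  swap
  · rw [(trep ρ).junk _ _ hα]; rfl
  by_cases hu0 : u = 0
  · rw [hu0, (trep ρ).zero]; rfl
  have hq : 2 ≤ Fintype.card F := Fintype.one_lt_card
  have hs : finrank F (Submodule.span F {u}) = 1 := finrank_span_singleton hu0
  have A : ∀ w, φ w = 0 → g w = 0 → α w = 0 → w ∉ Submodule.span F {u} → ρ (tv u α) v = v := by
    intro w w1 w2 w3 w4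
    obtain ⟨β, hβ, hβ'⟩ := exists_dual_one_zero w4
    have w5 : α (-w) = 0 := by simp [w3]
    refine fix_of ρ (h1 _ _ i) hv (k := tv (-w) α) ?_ hu hu' hα hβ' ?_
    · simpa [w1, w2] using (trep ρ).map_Wt w5 hv
    · rw [tv_conj _ hβ' (φ' := β + α), tv_smul w5, hα, zero_smul, add_zero]
      intro x
      simp [tv_smul w5, w3, hβ]
  by_cases h3 : n = 3
  · subst h3
    obtain ⟨b, hb0, hb⟩ := exists_pow_ne_one (F := F) (m := 3) (fun e => by
      have := (Nat.dvd_prime Nat.prime_three).1 e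
      simp only [ne_eq, Prod.mk.injEq, true_and] at hex
      omega)
    obtain ⟨β, hβ, -⟩ := exists_dual_one_zero (F := F) (w := u) (u := 0) (by simpa using hu0)
    have hb' : (b ^ 3)⁻¹ - 1 ≠ 0 := by rwa [sub_ne_zero, Ne, inv_eq_one]
    let k := sl (b • LinearMap.transvection β (((b ^ 3)⁻¹ - 1) • u)) (by simp [hβ, hb0])
    have hk : ∀ γ : Dual F (Fin 3 → F), γ u = 0 → ∀ x, γ (k • x) = b * γ x := fun γ hγ x => by
      simp [k, sl_smul, LinearMap.transvection.apply, hγ]
    refine fix_of ρ (h1 _ _ i) hv (k := k) (map_Wt ρ k b (hk φ hu) (fun x _ => hk g hu' x) hb0 hv)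
      hu hu' hα (β := ((b ^ 3)⁻¹ - 1)⁻¹ • α) (by simp [hα]) ?_
    rw [tv_conj k (by simp [hα]) (φ' := (b⁻¹ * ((b ^ 3)⁻¹ - 1)⁻¹) • α)]
    · have : k • u = (b * (b ^ 3)⁻¹) • u := by
        simp [k, sl_smul, LinearMap.transvection.apply, hβ, sub_smul, mul_smul]
      rw [this, tv_smul_left, smul_smul]
      congr 2
      nth_rewrite 3 [← one_smul F α]
      rw [← add_smul]
      congr 1
      field_simp
      ring
    · intro x
      simp only [LinearMap.smul_apply, hk α hα, smul_eq_mul]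
      field_simp
  by_cases h4 : n = 4
  · obtain ⟨w, hw, hw'⟩ := exists_ker_notMem ![φ, g] (Submodule.span F {u}) (by simp [hs, h4])
    by_cases hw3 : α w = 0
    · exact A w (hw 0) (hw 1) hw3 hw'
    obtain ⟨a, ha0, ha⟩ := exists_pow_ne_one (F := F) (m := 2) (fun e => by
      have := (Nat.dvd_prime Nat.prime_two).1 e
      simp only [ne_eq, Prod.mk.injEq, h4, true_and] at hex
      omega)
    obtain ⟨β, hβ, hβ'⟩ := exists_dual_one_zero (F := F) (w := u) (u := w) (fun e => by
      obtain ⟨c, rfl⟩ := Submodule.mem_span_singleton.1 e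
      simp only [map_smul, smul_eq_mul, mul_eq_zero, hw3, or_false] at hα
      simp [hα] at hu0)
    have hb' : a ^ 2 - 1 ≠ 0 := sub_ne_zero.2 ha
    have w1 : φ w = 0 := hw 0
    have w2 : g w = 0 := hw 1
    let k := sl (LinearMap.transvection β ((a - 1) • u) *
      LinearMap.transvection α (((a⁻¹ - 1) / α w) • w)) (by simp [hβ, ha0, hw3])
    have hk : ∀ γ : Dual F (Fin n → F), γ u = 0 → γ w = 0 → ∀ x, γ (k • x) = 1 * γ x :=
      fun γ hγ hγ' x => by simp [k, sl_smul, LinearMap.transvection.apply, hγ, hγ']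
    refine fix_of ρ (h1 _ _ i) hv (k := k)
      (map_Wt ρ k 1 (hk φ hu w1) (fun x _ => hk g hu' w2 x) one_ne_zero hv)
      hu hu' hα (β := (a ^ 2 - 1)⁻¹ • α) (by simp [hα]) ?_
    rw [tv_conj k (by simp [hα]) (φ' := (a * (a ^ 2 - 1)⁻¹) • α)]
    · have : k • u = a • u := by
        simp [k, sl_smul, LinearMap.transvection.apply, hβ, sub_smul, hα]
      rw [this, tv_smul_left, smul_smul]
      congr 2
      nth_rewrite 3 [← one_smul F α]
      rw [← add_smul]
      congr 1
      field_simp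
      ring
    · intro x
      simp [k, sl_smul, LinearMap.transvection.apply, hα]
      field_simp
      ring
  · obtain ⟨w, hw, hw'⟩ := exists_ker_notMem ![φ, g, α] (Submodule.span F {u})
      (by simp [hs]; omega)
    exact A w (hw 0) (hw 1) (hw 2) hw'

end


/-- Smallest degree of a non-linear irreducible complex representation of SL_n over a finite field with q elements, for n ≥ 3 and (n, q) not one of (3, 2), (3, 4), (4, 2), (4, 3): every irreducible complex representation of SL_n(F) of degree at least 2 has degree at least (q^n − q)/(q − 1), and there is an irreducible complex representation of exactly that degree. -/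
theorem result {F : Type*} [Field F] [Fintype F] [DecidableEq F] (n : ℕ) (hn : 3 ≤ n)
    (hex : (n, Fintype.card F) ≠ (3, 2) ∧ (n, Fintype.card F) ≠ (3, 4) ∧ (n, Fintype.card F) ≠ (4, 2) ∧ (n, Fintype.card F) ≠ (4, 3)) :
    (∀ (k : ℕ) (ρ : Representation ℂ (Matrix.SpecialLinearGroup (Fin n) F) (Fin k → ℂ)), ρ.IsIrreducible → 2 ≤ k → (Fintype.card F ^ n - Fintype.card F) / (Fintype.card F - 1) ≤ k) ∧
    (∃ ρ : Representation ℂ (Matrix.SpecialLinearGroup (Fin n) F) (Fin ((Fintype.card F ^ n - Fintype.card F) / (Fintype.card F - 1)) → ℂ), ρ.IsIrreducible) := by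
  have hq : 2 ≤ Fintype.card F := Fintype.one_lt_card
  have hd : (Fintype.card F ^ n - Fintype.card F) / (Fintype.card F - 1) + 1 =
      ∑ i ∈ Finset.range n, Fintype.card F ^ i := by
    obtain ⟨m, rfl⟩ := Nat.exists_eq_add_of_le' (show 1 ≤ n by omega)
    have := geom_mul (Fintype.card F) m (by omega)
    rw [pow_succ', ← Nat.mul_sub_one, ← this, ← mul_assoc, Nat.mul_div_cancel _ (by omega),
      Finset.sum_range_succ', Finset.mul_sum]
    simp [pow_succ']
  refine ⟨fun k ρ hρ hk => ?_, ?_⟩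
  · obtain ⟨ψ, hψ⟩ : ∃ ψ : AddChar F ℂ, ψ ≠ 1 :=
      ⟨_, by simpa using AddChar.FiniteField.primitiveChar_to_Complex_isPrimitive F one_ne_zero⟩
    obtain ⟨u, φ, hu, hne⟩ : ∃ (u : Fin n → F) (φ : Dual F (Fin n → F)), φ u = 0 ∧
        ρ (tv u φ) ≠ 1 := by
      by_contra! H
      obtain ⟨g, hg⟩ := exists_ne_one_of_irreducible ρ hρ hk
      have : MonoidHom.ker ρ = ⊤ := Class.SL_eq_top_of_transvection_mem _ fun i j hij c => by
        have h0 : (LinearMap.proj j : Dual F (Fin n → F)) (Pi.single i c) = 0 := by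
          simp [hij.symm]
        rw [MonoidHom.mem_ker, ← H _ _ h0]
        congr 1
        refine sl_ext fun x => ?_
        rw [tv_smul h0, Matrix.SpecialLinearGroup.smul_def]
        ext l
        simp [Matrix.SpecialLinearGroup.transvection_coe, Matrix.transvection, Matrix.add_mulVec,
          Matrix.single_mulVec, Pi.single_apply, Function.update_apply, mul_comm]
      exact hg (by rw [← MonoidHom.mem_ker, this]; trivial)
    have hφ : φ ≠ 0 := by rintro rfl; exact hne ((trep ρ).zero' u)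
    obtain ⟨f, hf, hf0⟩ := exists_wt_of_ne_one hψ (Nat.cast_ne_zero.2 Nat.card_pos.ne') ((trep ρ).chi φ) (a := ⟨u, hu⟩) hne
    obtain ⟨g, i, -, e⟩ := (trep ρ).exists_Wt ψ hφ (f := f) (by rintro rfl; exact hf0 rfl)
    have hm : ∀ φ' g', Indep φ' g' → finrank ℂ ((trep ρ).Wt ψ φ' g') =
        finrank ℂ ((trep ρ).Wt ψ φ g) := fun φ' g' i' => (trep ρ).finrank_Wt_eq (by simpa) i' i
    have hm0 : finrank ℂ ((trep ρ).Wt ψ φ g) ≠ 0 := by
      rwa [Ne, Submodule.finrank_eq_zero, e]
    by_cases h1 : finrank ℂ ((trep ρ).Wt ψ φ g) = 1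
    · have := good_bound hψ n (by omega) _ _ _ _ (good hn hex ρ (h1 ▸ hm)) (by simp)
      have h2 : dft n (Nat.card F) = 0 := by
        rw [Nat.card_eq_fintype_card, dft, if_neg (by omega), if_neg (by tauto)]
      rw [h2, Nat.card_eq_fintype_card, Module.finrank_fin_fun] at this
      omega
    · have := (trep ρ).finrank_eq hψ hm hφ
      rw [Nat.card_eq_fintype_card, Module.finrank_fin_fun, Module.finrank_fin_fun] at this
      obtain ⟨m, rfl⟩ := Nat.exists_eq_add_of_le' (show 1 ≤ n by omega)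
      have h2 := geom_mul (Fintype.card F) m (by omega)
      have h3 := Nat.mul_le_mul_left (∑ i ∈ Finset.range m, Fintype.card F ^ i)
        (show 1 ≤ Fintype.card F - 1 by omega)
      have h4 := Nat.mul_le_mul_right (Fintype.card F ^ m - 1)
        (show 2 ≤ finrank ℂ ((trep ρ).Wt ψ φ g) by omega)
      have h5 : 1 ≤ Fintype.card F ^ m := Nat.one_le_pow _ _ (by omega)
      rw [Finset.sum_range_succ] at hd
      rw [add_tsub_cancel_right] at this
      omega
  · have hc : Nat.card (Projectivization F (Fin n → F)) =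
        ∑ i ∈ Finset.range n, Fintype.card F ^ i := by
      rw [Projectivization.card_of_finrank F _ (Module.finrank_fin_fun F), Nat.card_eq_fintype_card]
    have : Nontrivial (Projectivization F (Fin n → F)) := by
      rw [← Finite.one_lt_card_iff_nontrivial, hc]
      obtain ⟨m, rfl⟩ := Nat.exists_eq_add_of_le' (show 2 ≤ n by omega)
      rw [Finset.sum_range_succ', Finset.sum_range_succ']
      simp; omega
    have := MulAction.isPretransitive_of_is_two_pretransitive
      (G := Matrix.SpecialLinearGroup (Fin n) F) (α := Projectivization F (Fin n → F))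
    obtain ⟨m, ρ, hρ, e⟩ := (isIrr_permChar_sub_one_iff (G := Matrix.SpecialLinearGroup (Fin n) F)
      (Projectivization F (Fin n → F))).2 inferInstance
    have h1 := congrFun e 1
    rw [Representation.char_one, Module.finrank_fin_fun, Pi.sub_apply, permChar_one, hc, ← hd] at h1
    have : m = (Fintype.card F ^ n - Fintype.card F) / (Fintype.card F - 1) := by
      simpa using h1
    subst this
    exact ⟨ρ, hρ⟩

end Cfsg.Agent.S2332
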