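import Cfsg.Statements.S2336
import Mathlib
import Cfsg.Agent.S2332
import Cfsg.Agent.KSG.CharTools
import Cfsg.Agent.KSG.QuadOrbit
import Cfsg.Agent.Class.GLStab

set_option autoImplicit false
open Cfsg

namespace Cfsg.Agent.S2336

open KSG KSG.SLM Char Module MulAction
open scoped ComplexConjugate

section
variable {G A : Type*} [Group G] [Fintype G] [Group A] [Fintype A]

/-- The component of a character of `G × A` along a linear character of `A`. -/
noncomputable def part (P : G × A → ℂ) (α : A →* ℂˣ) : G → ℂ :=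
  fun g => (Nat.card A : ℂ)⁻¹ * ∑ c, P (g, c) * conj (α c : ℂ)

theorem isCharacter_part {P : G × A → ℂ} (h : IsCharacter _ P) (α : A →* ℂˣ) :
    IsCharacter G (part P α) := by
  refine isCharacter_iff_inner.2 ⟨isClassFunction_iff_isConj.2 fun a b hab => ?_,
    fun χ hχ => ?_⟩
  · obtain ⟨x, rfl⟩ := isConj_iff.1 hab
    unfold part
    congr 1
    refine Finset.sum_congr rfl fun c _ => ?_
    rw [isClassFunction_iff_isConj.1 h.isClassFunction (a, c) (x * a * x⁻¹, c)
      (isConj_iff.2 ⟨(x, 1), by simp⟩)]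
  · obtain ⟨n, hn⟩ := h.exists_nat_inner ((hχ.isCharacter.comp (MonoidHom.fst G A)).mul
      ((isIrrCharacter_linear α).isCharacter.comp (MonoidHom.snd G A)))
    refine ⟨n, ?_⟩
    rw [← hn, classInner_def, classInner_def, Fintype.sum_prod_type, Nat.card_prod, Nat.cast_mul,
      mul_inv, mul_assoc]
    congr 1
    rw [Finset.mul_sum]
    refine Finset.sum_congr rfl fun g _ => ?_
    simp only [part, Finset.sum_mul, mul_assoc]
    congr 1
    exact Finset.sum_congr rfl fun c _ => by simp [mul_comm]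

omit [Fintype G] in
theorem sum_part [Fintype (A →* ℂˣ)] (hc : ∀ a b : A, a * b = b * a) (P : G × A → ℂ) (g : G) :
    ∑ α : A →* ℂˣ, part P α g = P (g, 1) := by
  classical
  simp only [part]
  rw [← Finset.mul_sum, Finset.sum_comm]
  simp only [← Finset.mul_sum, ← map_sum, sum_hom_apply hc]
  rw [Finset.sum_eq_single 1 (fun c _ hc => by simp [hc]) (by simp)]
  simp
  field_simp [card_ne_zero A]

theorem irr_of_sum {ι : Type*} [Fintype ι] {χ : ι → G → ℂ} (h : ∀ i, IsCharacter G (χ i))
    (h0 : ∀ i, χ i ≠ 0) (hs : classInner (∑ i, χ i) (∑ i, χ i) = Fintype.card ι) :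
    (∀ i, IsIrrCharacter G (χ i)) ∧ Function.Injective χ := by
  classical
  choose m hm using fun i j => (h i).exists_nat_inner (h j)
  have h1 : ∀ i, 1 ≤ m i i := fun i => Nat.one_le_iff_ne_zero.2 fun e =>
    h0 i (classInner_self_eq_zero.1 (by rw [hm, e, Nat.cast_zero]))
  simp only [classInner_sum_left, classInner_sum_right, hm] at hs
  have hs' : ∑ _i : ι, 1 = ∑ j, ∑ i, m i j := by
    rw [Finset.sum_const, smul_eq_mul, mul_one]; exact_mod_cast hs.symm
  have h2 := (Finset.sum_eq_sum_iff_of_le fun j _ => (h1 j).trans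
    (Finset.single_le_sum (f := fun i => m i j) (fun _ _ => Nat.zero_le _) (Finset.mem_univ j))).1 hs'
  have h3 : ∀ j, m j j + ∑ i ∈ Finset.univ.erase j, m i j = 1 := fun j => by
    rw [Finset.add_sum_erase _ (fun i => m i j) (Finset.mem_univ j), ← h2 j (Finset.mem_univ j)]
  refine ⟨fun i => (h i).isIrr_of_inner_self (by
    have := h3 i; have := h1 i
    rw [hm, show m i i = 1 by omega, Nat.cast_one]), fun i j e => ?_⟩
  by_contra hne
  have := Finset.single_le_sum (f := fun i => m i j) (fun _ _ => Nat.zero_le _)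
    (Finset.mem_erase.2 ⟨hne, Finset.mem_univ i⟩)
  have h4 : m i j = m j j := by
    have := hm i j
    rw [e, hm] at this
    exact_mod_cast this.symm
  have := h3 j; have := h1 j
  omega

end

section
variable {F : Type*} [Field F] {n : ℕ}

local notation "SLn" => Matrix.SpecialLinearGroup (Fin n) F

/-- The non-zero vectors. -/
def NZ (n : ℕ) (F : Type*) [Field F] := {v : Fin n → F // v ≠ 0}

instance [Finite F] : Finite (NZ n F) := inferInstanceAs (Finite {v : Fin n → F // v ≠ 0})

instance : MulAction SLn (NZ n F) where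
  smul g v := ⟨g • v.1, (smul_ne_zero_iff_ne g).2 v.2⟩
  one_smul v := Subtype.ext (one_smul _ v.1)
  mul_smul a b v := Subtype.ext (mul_smul a b v.1)

instance : MulAction (SLn × Fˣ) (NZ n F) where
  smul g v := ⟨g.2 • g.1 • v.1, (smul_ne_zero_iff_ne _).2 ((smul_ne_zero_iff_ne _).2 v.2)⟩
  one_smul v := Subtype.ext (by change (1 : Fˣ) • (1 : SLn) • v.1 = v.1; simp)
  mul_smul a b v := Subtype.ext (by
    change (a.2 * b.2) • (a.1 * b.1) • v.1 = a.2 • a.1 • b.2 • b.1 • v.1
    simp only [mul_smul, Units.smul_def, S2332.smul_smul'])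

theorem coe_smul (g : SLn) (v : NZ n F) : (g • v).1 = g • v.1 := rfl
theorem coe_smul' (g : SLn × Fˣ) (v : NZ n F) : (g • v).1 = g.2 • g.1 • v.1 := rfl

theorem nz_ext {u v : NZ n F} : u = v ↔ u.1 = v.1 := Subtype.ext_iff

theorem trans_one (hn : 3 ≤ n) (u v : NZ n F) : ∃ g : SLn, g • u = v := by
  have : Nontrivial (Fin n) := Fin.nontrivial_iff_two_le.2 (by omega)
  obtain ⟨g, h1, h2⟩ := Class.GLStab.exists_det_eq_mulVec_eq u.2 v.2 (one_ne_zero (α := F))
  exact ⟨⟨g, h1⟩, Subtype.ext h2⟩

theorem trans_two (hn : 3 ≤ n) {v w : Fin 2 → Fin n → F} (hv : LinearIndependent F v)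
    (hw : LinearIndependent F w) : ∃ g : SLn, ∀ i, g • v i = w i := by
  obtain ⟨g, hg⟩ := exists_linearEquiv_of_linearIndependent hv hw
  obtain ⟨β, hβ, hβ'⟩ := exists_ker_notMem (fun i => Module.Dual.eval F _ (w i)) ⊥ (by simp; omega)
  obtain ⟨u, hu⟩ := DFunLike.ne_iff.1 (show β ≠ 0 by simpa using hβ')
  have hd : LinearMap.det (g : (Fin n → F) →ₗ[F] (Fin n → F)) ≠ 0 := (g.isUnit_det').ne_zero
  refine ⟨S2332.sl (LinearMap.transvection β ((((LinearMap.det
    (g : (Fin n → F) →ₗ[F] (Fin n → F)))⁻¹ - 1) / β u) • u) * g) ?_, fun i => ?_⟩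
  · have hu' : β u ≠ 0 := hu
    simp [hu', hd]
  · have : β (w i) = 0 := hβ i
    simp [S2332.sl_smul, hg, LinearMap.transvection.apply, this]

theorem card_orbits [Finite F] (hn : 3 ≤ n) :
    Nat.card (orbitRel.Quotient SLn (NZ n F × NZ n F)) = Nat.card F := by
  classical
  let f : NZ n F × NZ n F → F := fun p => if h : ∃ c : F, c • p.1.1 = p.2.1 then h.choose else 0
  have f1 : ∀ p c, c • p.1.1 = p.2.1 → f p = c := fun p c hc => by
    have h : ∃ c : F, c • p.1.1 = p.2.1 := ⟨c, hc⟩
    simp only [f, dif_pos h]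
    exact smul_left_injective F p.1.2 (h.choose_spec.trans hc.symm)
  have f0 : ∀ p, f p = 0 ↔ ¬ ∃ c : F, c • p.1.1 = p.2.1 := fun p =>
    ⟨fun h ⟨c, hc⟩ => p.2.2 (by rw [← hc, ← f1 p c hc, h, zero_smul]), fun h => dif_neg h⟩
  have key : ∀ p p', (orbitRel SLn _).r p p' ↔ f p = f p' := by
    intro p p'
    constructor
    · rintro ⟨g, rfl⟩
      by_cases h : ∃ c : F, c • p'.1.1 = p'.2.1
      · obtain ⟨c, hc⟩ := h
        rw [f1 p' c hc, f1 _ c (by simp [coe_smul, ← hc, S2332.smul_smul'])]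
      · rw [(f0 _).2 h, (f0 _).2]
        rintro ⟨c, hc⟩
        exact h ⟨c, smul_left_cancel g (by simpa [coe_smul, S2332.smul_smul'] using hc)⟩
    · intro e
      by_cases h : ∃ c : F, c • p'.1.1 = p'.2.1
      · obtain ⟨c, hc⟩ := h
        obtain ⟨d, hd⟩ : ∃ d : F, d • p.1.1 = p.2.1 := by
          by_contra h'
          exact (f0 _).1 (e ▸ (f0 _).2 h') ⟨c, hc⟩
        rw [f1 p' c hc, f1 p d hd] at e
        obtain ⟨g, hg⟩ := trans_one hn p'.1 p.1
        refine ⟨g, Prod.ext hg (Subtype.ext ?_)⟩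
        simp [coe_smul, ← hc, ← hd, ← hg, e, S2332.smul_smul']
      · have h' := (f0 _).1 (e.trans ((f0 _).2 h))
        push Not at h h'
        obtain ⟨g, hg⟩ := trans_two hn ((LinearIndependent.pair_iff' p'.1.2).2 h)
          ((LinearIndependent.pair_iff' p.1.2).2 h')
        exact ⟨g, Prod.ext (Subtype.ext (hg 0)) (Subtype.ext (hg 1))⟩
  refine Nat.card_congr (Equiv.ofBijective (Quotient.lift f fun p p' h => (key p p').1 h) ⟨?_, ?_⟩)
  · rintro ⟨p⟩ ⟨p'⟩ h
    exact Quotient.sound ((key p p').2 h)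
  · intro c
    let i0 : Fin n := ⟨0, by omega⟩
    let i1 : Fin n := ⟨1, by omega⟩
    have h0 : (Pi.single i0 1 : Fin n → F) ≠ 0 := by simp
    by_cases hc : c = 0
    · refine ⟨⟦(⟨_, h0⟩, ⟨Pi.single i1 1, by simp⟩)⟧, hc ▸ (f0 _).2 ?_⟩
      rintro ⟨d, hd⟩
      simpa [i0, i1] using congrFun hd i1
    · exact ⟨⟦(⟨_, h0⟩, ⟨c • Pi.single i0 1, smul_ne_zero hc h0⟩)⟧, f1 _ c rfl⟩

end


/-- Let F be a finite field with q elements and n ≥ 3. The permutation character of SL_n(F) on the non-zero vectors of F^n (the function sending a matrix to the number of non-zero vectors it fixes) is the sum of the principal character and q − 1 pairwise distinct irreducible complex characters. -/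
theorem result {F : Type*} [Field F] [Fintype F] [DecidableEq F] (n : ℕ) (hn : 3 ≤ n) :
    ∃ χ : Fin (Fintype.card F - 1) → (Matrix.SpecialLinearGroup (Fin n) F → ℂ),
      (∀ i, Cfsg.IsIrrCharacter (Matrix.SpecialLinearGroup (Fin n) F) (χ i)) ∧ Function.Injective χ ∧
      ∀ g : Matrix.SpecialLinearGroup (Fin n) F,
        (Nat.card {v : Fin n → F // v ≠ 0 ∧ (g : Matrix (Fin n) (Fin n) F).mulVec v = v} : ℂ) = 1 + ∑ i, χ i g := by
  classical
  have := Fintype.ofFinite (Fˣ →* ℂˣ)
  have hq : 2 ≤ Fintype.card F := Fintype.one_lt_card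
  have : IsPretransitive (Matrix.SpecialLinearGroup (Fin n) F) (NZ n F) := ⟨trans_one hn⟩
  have : Nonempty (NZ n F) := ⟨⟨Pi.single ⟨0, by omega⟩ 1, by simp⟩⟩
  set P := permChar (Matrix.SpecialLinearGroup (Fin n) F × Fˣ) (NZ n F)
  set π := permChar (Matrix.SpecialLinearGroup (Fin n) F) (NZ n F)
  have hP : IsCharacter _ P := isCharacter_permChar _
  have h1 : π = ∑ α, part P α := by
    ext g
    rw [Finset.sum_apply, sum_part mul_comm]
    simp only [P, π, permChar_apply]
    have : fixedBy (NZ n F) g =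
        fixedBy (NZ n F) ((g, 1) : Matrix.SpecialLinearGroup (Fin n) F × Fˣ) := by
      ext v
      rw [mem_fixedBy, mem_fixedBy, nz_ext, nz_ext, coe_smul, coe_smul', one_smul]
    rw [this]
  have h2 : classInner π (fun _ => 1) = 1 := classInner_permChar_one_of_isPretransitive _
  have h3 : classInner π π = Fintype.card F := by
    rw [classInner_permChar_permChar, card_orbits hn, Nat.card_eq_fintype_card]
  obtain ⟨α0, hα0⟩ : ∃ α, classInner (part P α) (fun _ => 1) ≠ 0 := by
    by_contra! H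
    simp [h1, classInner_sum_left, H] at h2
  have hN : Nat.card (NZ n F) = Fintype.card F ^ n - 1 := by
    change Nat.card {v : Fin n → F // v ≠ 0} = _
    simp
  have h4 : ∀ α, ((Fintype.card F - 1 : ℕ) : ℂ) * part P α 1 = (Fintype.card F ^ n - 1 : ℕ) := by
    intro α
    rw [part, Nat.card_units, Nat.card_eq_fintype_card,
      mul_inv_cancel_left₀ (Nat.cast_ne_zero.2 (by omega)), Finset.sum_eq_single 1, ← hN]
    · have : P (1, 1) = _ := permChar_one (G := Matrix.SpecialLinearGroup (Fin n) F × Fˣ) (NZ n F)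
      simp [this]
    · intro c _ hc
      have : fixedBy (NZ n F) ((1, c) : Matrix.SpecialLinearGroup (Fin n) F × Fˣ) = ∅ := by
        ext v
        rw [mem_fixedBy, nz_ext, coe_smul', one_smul, Set.mem_empty_iff_false,
          iff_false]
        intro e
        exact hc (Units.ext (smul_left_injective F v.2 (e.trans (one_smul F v.1).symm)))
      simp [P, permChar_apply, this]
    · simp
  have hlt : Fintype.card F < Fintype.card F ^ n := by
    calc Fintype.card F = Fintype.card F ^ 1 := (pow_one _).symm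
      _ < _ := Nat.pow_lt_pow_right hq (by omega)
  let χ : (Fˣ →* ℂˣ) → Matrix.SpecialLinearGroup (Fin n) F → ℂ := fun α =>
    part P α - if α = α0 then (fun _ => 1) else (0 : Matrix.SpecialLinearGroup (Fin n) F → ℂ)
  have h5 : ∑ α, χ α = π - fun _ => 1 := by
    simp [χ, h1]
  obtain ⟨i1, i2⟩ := irr_of_sum (χ := χ) (fun α => by
    by_cases e : α = α0
    · simp only [χ, e, if_true]
      exact (isCharacter_part hP _).sub_irr isIrrCharacter_one hα0
    · simpa [χ, e] using isCharacter_part hP α) (fun α e => by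
    have e1 := congrFun e 1
    have := h4 α
    by_cases e : α = α0
    · simp only [χ, e, if_true, Pi.sub_apply, Pi.zero_apply, sub_eq_zero] at e1
      rw [e, e1, mul_one, Nat.cast_inj] at this
      omega
    · simp only [χ, e, if_false, sub_zero, Pi.zero_apply] at e1
      rw [e1, mul_zero, eq_comm, Nat.cast_eq_zero] at this
      omega) (by
    rw [h5, classInner_sub_left, classInner_sub_right, classInner_sub_right, h2, h3,
      ← classInner_conj_symm π, h2, isIrrCharacter_one.inner_self,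
      ← Nat.card_eq_fintype_card (α := Fˣ →* ℂˣ),
      card_hom_of_comm mul_comm, Nat.card_units, Nat.card_eq_fintype_card, Nat.cast_sub (by omega)]
    simp)
  let e : Fin (Fintype.card F - 1) ≃ (Fˣ →* ℂˣ) := (Fintype.equivFinOfCardEq (by
    rw [← Nat.card_eq_fintype_card, card_hom_of_comm mul_comm, Nat.card_units,
      Nat.card_eq_fintype_card])).symm
  refine ⟨fun i => χ (e i), fun i => i1 _, i2.comp e.injective, fun g => ?_⟩
  rw [e.sum_comp (fun α => χ α g), ← Finset.sum_apply, h5]
  simp only [Pi.sub_apply, add_sub_cancel, π, permChar_apply]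
  congr 1
  exact Nat.card_congr ⟨fun v => ⟨⟨v.1, v.2.1⟩, Subtype.ext v.2.2⟩,
    fun v => ⟨v.1.1, v.1.2, congrArg Subtype.val v.2⟩, fun _ => rfl, fun _ => rfl⟩

end Cfsg.Agent.S2336
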