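import Cfsg.Statements.S2272
import Cfsg.Agent.S2336

set_option autoImplicit false
open Cfsg

namespace Cfsg.Agent.S2272

open Matrix

section

variable {F : Type*} [Field F] {d : ℕ}

local notation "SLd" => Matrix.SpecialLinearGroup (Fin d) F
local notation "Md" => Matrix (Fin d) (Fin d) F

theorem exists_conj_col (hd : 3 ≤ d) {A : SLd} (hA : A ∉ Subgroup.center SLd) {i j : Fin d}
    (hij : i ≠ j) : ∃ g : SLd, ∀ k, ((g * A * g⁻¹ : SLd) : Md) k i = if k = j then 1 else 0 := by
  obtain ⟨v, hv⟩ : ∃ v : Fin d → F, LinearIndependent F ![v, A • v] := by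
    by_contra h
    obtain ⟨c, hc⟩ := (toLin' (A : Md)).exists_eq_smul_id_of_forall_notLinearIndependent
      fun v hv => h ⟨v, hv⟩
    have e : scalar (Fin d) c = A := toLin'.injective (by rw [hc]; ext; simp [Pi.single_apply])
    refine hA (Matrix.SpecialLinearGroup.mem_center_iff.2 ⟨c, ?_, e⟩)
    simpa [← e] using A.det_coe
  obtain ⟨g, hg⟩ := S2336.trans_two hd hv (w := ![Pi.single i 1, Pi.single j 1])
    ((LinearIndependent.pair_iff).2 fun s t h =>
      ⟨by simpa [hij] using congrFun h i, by simpa [hij.symm] using congrFun h j⟩)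
  have e : (g * A * g⁻¹) • (Pi.single i 1 : Fin d → F) = Pi.single j 1 := by
    rw [show (Pi.single i 1 : Fin d → F) = g • v from (hg 0).symm, mul_smul, inv_smul_smul, mul_smul]
    exact hg 1
  refine ⟨g, fun k => ?_⟩
  generalize g * A * g⁻¹ = B at e
  simpa [Matrix.SpecialLinearGroup.smul_def, Pi.single_apply] using congrFun e k

theorem coe_conj (B : SLd) {i j : Fin d} (h : i ≠ j) (t : F) :
    ((SpecialLinearGroup.transvection h t * B * (SpecialLinearGroup.transvection h t)⁻¹ : SLd) :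
      Md) = B + single i j t * B - B * single i j t - single i j (t * (B : Md) j i * t) := by
  rw [SpecialLinearGroup.transvection_inv, Matrix.SpecialLinearGroup.coe_mul,
    Matrix.SpecialLinearGroup.coe_mul, SpecialLinearGroup.transvection_coe,
    SpecialLinearGroup.transvection_coe, ← single_mul_mul_single, ← single_neg]
  noncomm_ring

theorem exists_trace (hd : 3 ≤ d) {A B : SLd} (hA : A ∉ Subgroup.center SLd)
    (hB : B ∉ Subgroup.center SLd) (c : F) :
    ∃ g h : SLd, ((g * A * g⁻¹ * (h * B * h⁻¹) : SLd) : Md).trace = c := by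
  obtain ⟨i, j, k, h1, h2, h3⟩ : ∃ i j k : Fin d, i ≠ j ∧ i ≠ k ∧ j ≠ k :=
    ⟨⟨0, by omega⟩, ⟨1, by omega⟩, ⟨2, by omega⟩, by simp, by simp, by simp⟩
  obtain ⟨g, hg⟩ := exists_conj_col hd hA h1
  obtain ⟨h, hh⟩ := exists_conj_col hd hB h2
  generalize hA' : g * A * g⁻¹ = A' at hg
  generalize hB' : h * B * h⁻¹ = B' at hh
  let T := SpecialLinearGroup.transvection h1 ((B' : Md) k j - (A' : Md) k k - 1)
  obtain ⟨C, hC⟩ : ∃ C, C = T * B' * T⁻¹ := ⟨_, rfl⟩
  have e1 : ∀ l, (C : Md) l i = if l = k then 1 else 0 := fun l => by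
    rw [hC, coe_conj]
    by_cases hl : l = i <;> simp [hl, hh, h1, h3]
  have e2 : (C : Md) k j = (A' : Md) k k + 1 := by
    rw [hC, coe_conj]
    simp [hh, h2.symm, h2]
    ring
  refine ⟨g, SpecialLinearGroup.transvection h2 (c - ((A' : Md) * C).trace) * T * h, ?_⟩
  rw [hA', show ∀ U : SLd, U * T * h * B * (U * T * h)⁻¹ = U * C * U⁻¹ from fun U => by
    rw [hC, ← hB']; group, Matrix.SpecialLinearGroup.coe_mul, coe_conj, Matrix.mul_sub,
    Matrix.mul_sub, Matrix.mul_add, trace_sub, trace_sub, trace_add, ← Matrix.mul_assoc _ (C : Md),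
    trace_mul_single, trace_mul_single, trace_mul_comm _ (single _ _ _ * _), Matrix.mul_assoc,
    trace_single_mul]
  simp [mul_apply, hg, e1, e2, h3.symm]
  ring

theorem trace_eq_zero {A B : SLd} (h : IsConj (A : Matrix.ProjectiveSpecialLinearGroup (Fin d) F) B)
    (hA : (A : Md).trace = 0) : (B : Md).trace = 0 := by
  obtain ⟨g, hg⟩ := isConj_iff.1 h
  obtain ⟨g, rfl⟩ := QuotientGroup.mk_surjective g
  obtain ⟨c, -, hc⟩ := Matrix.SpecialLinearGroup.mem_center_iff.1
    (QuotientGroup.eq.1 (show ((g * A * g⁻¹ : SLd) :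
      Matrix.ProjectiveSpecialLinearGroup (Fin d) F) = B from hg))
  rw [← mul_inv_cancel_left (g * A * g⁻¹) B, Matrix.SpecialLinearGroup.coe_mul, ← hc,
    scalar_apply, ← smul_eq_mul_diagonal, trace_smul, Matrix.SpecialLinearGroup.coe_mul,
    trace_mul_comm, ← Matrix.SpecialLinearGroup.coe_mul, inv_mul_cancel_left, hA, smul_zero]

end

/-- Let F be a finite field and d ≥ 3, and let a, b be non-identity elements of PSL_d(F). Then the product of the conjugacy classes of a and b is not a single conjugacy class: there are conjugates a′ of a and b′ of b such that a′b′ is not conjugate to ab. -/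
theorem result {F : Type*} [Field F] [Fintype F] (d : ℕ) (hd : 3 ≤ d)
    (a b : Matrix.ProjectiveSpecialLinearGroup (Fin d) F) (ha : a ≠ 1) (hb : b ≠ 1) :
    ∃ g h : Matrix.ProjectiveSpecialLinearGroup (Fin d) F, ¬ IsConj (a * b) (g * a * g⁻¹ * (h * b * h⁻¹)) := by
  obtain ⟨A, rfl⟩ := QuotientGroup.mk_surjective a
  obtain ⟨B, rfl⟩ := QuotientGroup.mk_surjective b
  rw [Ne, QuotientGroup.eq_one_iff] at ha hb
  by_contra H
  push Not at H
  obtain ⟨g, h, e⟩ := exists_trace hd ha hb 0
  obtain ⟨g', h', e'⟩ := exists_trace hd ha hb 1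
  exact one_ne_zero (e'.symm.trans (trace_eq_zero ((H g h).symm.trans (H g' h')) e))

end Cfsg.Agent.S2272
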