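import Cfsg.Statements.S2276
import Cfsg.Agent.Perm.PEltAlt2

set_option autoImplicit false
open Cfsg

namespace Cfsg.Agent.S2276

open Cfsg.Agent.PEltAlt Equiv Equiv.Perm MulAction

section
variable {Ω X : Type*} [Fintype Ω] [DecidableEq Ω] [Fintype X] [DecidableEq X]

theorem place {f g : X → Ω} (hf : Function.Injective f) (hg : Function.Injective g) {w : Perm Ω}
    {W : Perm X} (hw : ∀ i, w (f i) = f (W i)) : ∃ e : ℤˣ, ∀ τ : Perm X, ∃ h : Perm Ω,
      sign h = sign τ * e ∧ ∀ i, (h * w * h⁻¹) (g i) = g ((τ * W * τ⁻¹) i) := by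
  classical
  obtain ⟨h0, e0⟩ := Equiv.Perm.exists_extending_pair f g hf hg
  refine ⟨sign h0, fun τ => ⟨τ.extendDomain (Equiv.ofInjective g hg) * h0,
    by rw [Perm.sign_mul, sign_extendDomain], fun i => ?_⟩⟩
  have e : ∀ j, (τ.extendDomain (Equiv.ofInjective g hg) * h0) (f j) = g (τ j) := fun j => by
    rw [mul_apply, e0]
    exact extendDomain_apply_image τ (Equiv.ofInjective g hg) j
  have e' : (τ.extendDomain (Equiv.ofInjective g hg) * h0)⁻¹ (g i) = f (τ⁻¹ i) := by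
    rw [Perm.inv_eq_iff_eq, e]; simp
  rw [mul_apply, mul_apply, e', hw, e]; rfl

theorem fixpar (hn : 5 ≤ Fintype.card Ω) {w : Perm Ω} (hw : w ^ 3 = 1) (h : Perm Ω) :
    ∃ k : Perm Ω, sign k = 1 ∧ k * w * k⁻¹ = h * w * h⁻¹ := by
  rcases Int.units_eq_one_or (sign h) with e | e
  · exact ⟨h, e, rfl⟩
  have : ¬ Subgroup.centralizer {w} ≤ alternatingGroup Ω := by
    rw [centralizer_le_alternating_iff]
    rintro ⟨-, h2, h3⟩
    have : Fact (Nat.Prime 3) := ⟨Nat.prime_three⟩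
    have h4 := h3 3
    rw [cycleType_of_pow_prime_eq_one hw] at h2 h4
    rw [Multiset.count_replicate_self] at h4
    rw [Multiset.sum_replicate, smul_eq_mul] at h2
    omega
  obtain ⟨r, r1, r2⟩ := SetLike.not_le_iff_exists.1 this
  rw [Subgroup.mem_centralizer_singleton_iff] at r1
  refine ⟨h * r, by
    rw [Perm.sign_mul, e, (Int.units_eq_one_or _).resolve_left r2]; simp, ?_⟩
  rw [mul_assoc h, r1]; group

theorem good1 {G : Type*} [Group G] {a b : G} (h1 : a * b ≠ 1) (h5 : (a * b) ^ 5 = 1)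
    (ea : a * (b * a * b) * (b * a * a * b) = (b * a * a * b) * (b * a * b)) (eb : b * (a * b * a) * (a * b * a * a) = (a * b * a * a) * (a * b * a)) : Good 3 a b := by
  have ha : a ∈ Subgroup.closure ({a, b} : Set G) := Subgroup.subset_closure (by simp)
  have hb : b ∈ Subgroup.closure ({a, b} : Set G) := Subgroup.subset_closure (by simp)
  exact good_of_words h1 h5 (mul_mem (mul_mem (mul_mem hb ha) ha) hb) (mul_mem (mul_mem hb ha) hb) (mul_mem (mul_mem (mul_mem ha hb) ha) ha) (mul_mem (mul_mem ha hb) ha) ea eb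

theorem good2 {G : Type*} [Group G] {a b : G} (h1 : a * b ≠ 1) (h5 : (a * b) ^ 5 = 1)
    (ea : a * (a) * (b * a * b * a * a * b * a * b * b) = (b * a * b * a * a * b * a * b * b) * (a)) (eb : b * (b) * (a * a * b * a * b * b * a * b * a) = (a * a * b * a * b * b * a * b * a) * (b)) : Good 3 a b := by
  have ha : a ∈ Subgroup.closure ({a, b} : Set G) := Subgroup.subset_closure (by simp)
  have hb : b ∈ Subgroup.closure ({a, b} : Set G) := Subgroup.subset_closure (by simp)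
  exact good_of_words h1 h5 (mul_mem (mul_mem (mul_mem (mul_mem (mul_mem (mul_mem (mul_mem (mul_mem hb ha) hb) ha) ha) hb) ha) hb) hb) ha (mul_mem (mul_mem (mul_mem (mul_mem (mul_mem (mul_mem (mul_mem (mul_mem ha ha) hb) ha) hb) hb) ha) hb) ha) hb ea eb

theorem five {W : Perm (ZMod 5)} (hW : Spec 3 W)
    (h1 : ∀ i : ZMod 5, i.val + 1 < 3 → (W i).val = i.val + 1)
    (h2 : ∀ i : ZMod 5, i.val + 1 = 3 → (W i).val = 0) : W = swap 0 1 * swap 1 2 := by
  revert W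
  unfold Spec
  decide +kernel

theorem six {W : Perm (ZMod 6)} (hW : Spec 3 W)
    (h1 : ∀ i : ZMod 6, i.val + 1 < 3 → (W i).val = i.val + 1)
    (h2 : ∀ i : ZMod 6, i.val + 1 = 3 → (W i).val = 0) :
    W = swap 0 1 * swap 1 2 ∨ W = swap 0 1 * swap 1 2 * (swap 3 4 * swap 4 5) := by
  revert W
  unfold Spec
  decide +kernel

theorem g5 : ∃ τ : Perm (ZMod 5), Good 3 (swap 0 1 * swap 1 2)
    (τ * (swap 0 1 * swap 1 2) * τ⁻¹) :=
  ⟨swap 1 3 * swap 2 4, good1 (by decide +kernel) (by decide +kernel) (by decide +kernel) (by decide +kernel)⟩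

theorem g61 : ∃ τ : Perm (ZMod 6), Good 3 (swap 0 1 * swap 1 2)
    (τ * (swap 0 1 * swap 1 2) * τ⁻¹) :=
  ⟨swap 1 3 * swap 2 4, good1 (by decide +kernel) (by decide +kernel) (by decide +kernel) (by decide +kernel)⟩

theorem g62 : ∃ τ : Perm (ZMod 6), Good 3 (swap 0 1 * swap 1 2)
    (τ * (swap 0 1 * swap 1 2 * (swap 3 4 * swap 4 5)) * τ⁻¹) :=
  ⟨swap 1 2 * swap 2 3, good2 (by decide +kernel) (by decide +kernel) (by decide +kernel) (by decide +kernel)⟩

theorem g63 : ∃ τ : Perm (ZMod 6), Good 3 (swap 0 1 * swap 1 2 * (swap 3 4 * swap 4 5))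
    (τ * (swap 0 1 * swap 1 2) * τ⁻¹) :=
  ⟨swap 1 2 * swap 2 3, good2 (by decide +kernel) (by decide +kernel) (by decide +kernel) (by decide +kernel)⟩

theorem g64 : ∃ τ : Perm (ZMod 6), Good 3 (swap 0 1 * swap 1 2 * (swap 3 4 * swap 4 5))
    (τ * (swap 0 1 * swap 1 2 * (swap 3 4 * swap 4 5)) * τ⁻¹) :=
  ⟨swap 2 3 * swap 4 5, good1 (by decide +kernel) (by decide +kernel) (by decide +kernel) (by decide +kernel)⟩

theorem small {N : ℕ} [NeZero N] (hN : N = 5 ∨ N = 6) {U W : Perm (ZMod N)} (hU : Spec 3 U)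
    (u1 : ∀ i : ZMod N, i.val + 1 < 3 → (U i).val = i.val + 1)
    (u2 : ∀ i : ZMod N, i.val + 1 = 3 → (U i).val = 0) (hW : Spec 3 W)
    (h1 : ∀ i : ZMod N, i.val + 1 < 3 → (W i).val = i.val + 1)
    (h2 : ∀ i : ZMod N, i.val + 1 = 3 → (W i).val = 0) : ∃ τ, Good 3 U (τ * W * τ⁻¹) := by
  rcases hN with rfl | rfl
  · rw [five hU u1 u2, five hW h1 h2]
    exact g5
  · rcases six hU u1 u2 with rfl | rfl <;> rcases six hW h1 h2 with rfl | rfl
    exacts [g61, g62, g63, g64]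

theorem three_le {p : ℕ} (hp : p.Prime) {w : Perm Ω} {k : ℕ} (hw : w ^ p ^ k = 1)
    (h1 : w ≠ 1) {s : Ω} (hs : ∀ x : Ω, period w x ≤ period w s) :
    p ≤ period w s ∧ p ∣ period w s := by
  obtain ⟨i, hi⟩ := per_pow hp hw s
  have : p ∣ period w s := by
    rw [hi]
    refine dvd_pow_self _ fun h => h1 (Equiv.ext fun x => ?_)
    have h2 := hs x
    have h3 := per_pos w x
    rw [hi, h, pow_zero] at h2
    exact period_eq_one_iff.1 (show period w x = 1 by omega)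
  exact ⟨Nat.le_of_dvd (per_pos w s) this, this⟩

theorem main (hn : 5 ≤ Fintype.card Ω) {p : ℕ} (hp : p.Prime) (h3 : 3 ≤ p) {u w : Perm Ω}
    {k l : ℕ} (hu : u ^ p ^ k = 1) (hw : w ^ p ^ l = 1) (u1 : u ≠ 1) (w1 : w ≠ 1) {s t : Ω}
    (hs : ∀ x : Ω, period u x ≤ period u s) (ht : ∀ x : Ω, period w x ≤ period w t)
    (hst : period w t ≤ period u s) : ∃ h : Perm Ω, sign h = 1 ∧ Good p u (h * w * h⁻¹) := by
  obtain ⟨a1, a2⟩ := three_le hp hu u1 hs
  obtain ⟨b1, b2⟩ := three_le hp hw w1 ht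
  have n4 : ∀ {v : Perm Ω} {m : ℕ} (x : Ω), v ^ p ^ m = 1 → period v x ≠ 4 := fun x hv h => by
    obtain ⟨i, hi⟩ := per_pow hp hv x
    have : 2 ∣ p ^ i := by rw [← hi, h]; norm_num
    have := (Nat.prime_dvd_prime_iff_eq Nat.prime_two hp).1 (Nat.prime_two.dvd_of_dvd_pow this)
    omega
  have c1 := n4 s hu
  have c2 := n4 t hw
  have fix : period w t = 3 → (∃ h : Perm Ω, Good p u (h * w * h⁻¹)) →
      ∃ h : Perm Ω, sign h = 1 ∧ Good p u (h * w * h⁻¹) := fun e ⟨h, hh⟩ => by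
    obtain ⟨k, k1, k2⟩ := fixpar hn (w := w) (Equiv.ext fun x =>
      pow_smul_eq_iff_period_dvd.2 (e ▸ per_dvd hp hw hw (ht x))) h
    exact ⟨k, k1, k2 ▸ hh⟩
  by_cases h5 : 5 ≤ period u s
  · obtain ⟨a, ha⟩ := per_pow hp hu s
    have : NeZero (p ^ a) := ⟨(pow_pos hp.pos a).ne'⟩
    have hN : p ^ a ≤ Fintype.card Ω := ha ▸ Function.minimalPeriod_le_card
    obtain ⟨g, c, g1, g2, -, g3, g4⟩ := enum hp hu (p ^ a) hN
      (Or.inl fun x => ha ▸ per_dvd hp hu hu (hs x)) s hs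
    obtain ⟨f, W, f1, f2, f3, f4, -⟩ := enum hp hw (p ^ a) hN
      (Or.inl fun x => ha ▸ per_dvd hp hw hu ((ht x).trans hst)) t ht
    have hc : ∀ i, c i = i + 1 := fun i => by
      symm
      rw [add_one_eq_iff (by omega)]
      have := ZMod.val_lt i
      have := g3 i
      have := g4 i
      omega
    obtain ⟨e, he⟩ := place f1 g1 f2
    have o := good_odd hp h3 (ha ▸ h5) hc f3 fun i hi => f4 i (by omega)
    obtain ⟨h, h1, h2⟩ := he (swap ((0 : ℕ) : ZMod (p ^ a)) (2 : ℕ))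
    by_cases r5 : 5 ≤ period w t
    · have ne : ∀ i j : ℕ, i < 5 → j < 5 → i ≠ j → ((i : ℕ) : ZMod (p ^ a)) ≠ (j : ℕ) :=
        fun i j hi hj hij => by
          rw [Ne, eq_cast_iff (by omega), ZMod.val_cast_of_lt (by omega)]; exact hij
      rcases Int.units_eq_one_or e with rfl | rfl
      · obtain ⟨h', h1', h2'⟩ := he (swap ((0 : ℕ) : ZMod (p ^ a)) (1 : ℕ) *
          swap ((2 : ℕ) : ZMod (p ^ a)) (3 : ℕ))
        refine ⟨h', ?_, (good_even hp h3 (ha ▸ h5) hc f3 fun i hi => f4 i (by omega)).transfer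
          g1 g2 h2'⟩
        rw [h1', Perm.sign_mul, sign_swap (ne 0 1 (by omega) (by omega) (by omega)),
          sign_swap (ne 2 3 (by omega) (by omega) (by omega))]
        simp
      · refine ⟨h, ?_, o.transfer g1 g2 h2⟩
        rw [h1, sign_swap (ne 0 2 (by omega) (by omega) (by omega))]
        simp
    · exact fix (by omega) ⟨h, o.transfer g1 g2 h2⟩
  · have e1 : period u s = 3 := by omega
    have e2 : period w t = 3 := by omega
    obtain rfl : p = 3 := by omega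
    obtain ⟨N, N1, N2, N3⟩ : ∃ N, (N = 5 ∨ N = 6) ∧ N ≤ Fintype.card Ω ∧
        (3 ∣ N ∨ N = Fintype.card Ω) := by
      by_cases h : Fintype.card Ω = 5
      · exact ⟨5, by omega, by omega, by omega⟩
      · exact ⟨6, by omega, by omega, by omega⟩
    have : NeZero N := ⟨by omega⟩
    obtain ⟨g, c, g1, g2, g3, g4, g5⟩ := enum hp hu N N2
      (N3.imp (fun h x => (e1 ▸ per_dvd hp hu hu (hs x)).trans h) id) s hs
    obtain ⟨f, W, f1, f2, f3, f4, f5⟩ := enum hp hw N N2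
      (N3.imp (fun h x => (e2 ▸ per_dvd hp hw hw (ht x)).trans h) id) t ht
    rw [e1] at g4 g5
    rw [e2] at f4 f5
    obtain ⟨τ, hτ⟩ := small N1 g3 g4 g5 f3 f4 f5
    obtain ⟨e, he⟩ := place f1 g1 f2
    obtain ⟨h, -, h2⟩ := he τ
    exact fix e2 ⟨h, hτ.transfer g1 g2 h2⟩

end


/-- Let n ≥ 5, p ≥ 3 a prime, and u, w non-identity elements of p-power order in the alternating group A_n. Then there is g ∈ A_n such that u·(g w g⁻¹) does not have p-power order and ⟨u, g w g⁻¹⟩ is not solvable. -/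
theorem result (n : ℕ) (hn : 5 ≤ n) (p : ℕ) (hp : p.Prime) (hp3 : 3 ≤ p) (u w : alternatingGroup (Fin n)) (hu : u ≠ 1) (hw : w ≠ 1)
    (hu' : ∃ k : ℕ, orderOf u = p ^ k) (hw' : ∃ k : ℕ, orderOf w = p ^ k) :
    ∃ g : alternatingGroup (Fin n), (¬ ∃ k : ℕ, orderOf (u * (g * w * g⁻¹)) = p ^ k) ∧
      ¬ Group.IsSolvable ↥(Subgroup.closure ({u, g * w * g⁻¹} : Set (alternatingGroup (Fin n)))) := by
  obtain ⟨k, hk⟩ := hu'
  obtain ⟨l, hl⟩ := hw'
  have e1 : (u : Perm (Fin n)) ^ p ^ k = 1 := by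
    rw [← Subgroup.coe_pow, ← hk, pow_orderOf_eq_one]; rfl
  have e2 : (w : Perm (Fin n)) ^ p ^ l = 1 := by
    rw [← Subgroup.coe_pow, ← hl, pow_orderOf_eq_one]; rfl
  have u1 : (u : Perm (Fin n)) ≠ 1 := fun h => hu (Subtype.ext h)
  have w1 : (w : Perm (Fin n)) ≠ 1 := fun h => hw (Subtype.ext h)
  have : Nonempty (Fin n) := ⟨⟨0, by omega⟩⟩
  obtain ⟨s, hs⟩ := Finite.exists_max (fun x : Fin n => period (u : Perm (Fin n)) x)
  obtain ⟨t, ht⟩ := Finite.exists_max (fun x : Fin n => period (w : Perm (Fin n)) x)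
  obtain ⟨h, h1, h2⟩ : ∃ h : Perm (Fin n), sign h = 1 ∧
      Good p (u : Perm (Fin n)) (h * w * h⁻¹) := by
    rcases le_total (period (w : Perm (Fin n)) t) (period (u : Perm (Fin n)) s) with h | h
    · exact main (by simpa using hn) hp hp3 e1 e2 u1 w1 hs ht h
    · obtain ⟨g, g1, g2⟩ := main (by simpa using hn) hp hp3 e2 e1 w1 u1 ht hs h
      refine ⟨g⁻¹, by simpa using g1, ?_⟩
      have := g2.symm.conj g⁻¹
      rwa [show g⁻¹ * (g * u * g⁻¹) * g⁻¹⁻¹ = (u : Perm (Fin n)) by group] at this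
  have h3 : Good p u ((⟨h, h1⟩ : alternatingGroup (Fin n)) * w * (⟨h, h1⟩ : alternatingGroup (Fin n))⁻¹) := by
    by_contra h4
    refine h4 (Good.of_map (alternatingGroup (Fin n)).subtype h2)
  exact ⟨⟨h, h1⟩, fun ⟨m, hm⟩ => h3.1 m (by rw [← hm, pow_orderOf_eq_one]), h3.2⟩

end Cfsg.Agent.S2276
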