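import Cfsg.Statements.S2277
import Mathlib
import Cfsg.Agent.Solv.ExtAction
import Cfsg.Agent.Solv.Coprime3
import Cfsg.Agent.Grp.PFrattini

set_option autoImplicit false
open Cfsg

namespace Cfsg.Agent.S2277

open Subgroup Cfsg.Agent.Solv Cfsg.Agent.Solv.Ext
open scoped Pointwise

/-- fixed points of an automorphism -/
abbrev fx {V : Type*} [Group V] (σ : MulAut V) : Subgroup V := σ.toMonoidHom.eqLocus (.id V)

theorem mem_fx {V : Type*} [Group V] {σ : MulAut V} {v : V} : v ∈ fx σ ↔ σ v = v := Iff.rfl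

theorem cube_le {V : Type*} [CommGroup V] [Finite V] {a c w : MulAut V} (hac : a * c = w * c * a)
    (hwa : w * a = a * w) (hwc : w * c = c * w) (h1 : ∀ v, w v = v → v = 1)
    (h2 : ∀ v, w (w v) = v → v = 1) : Nat.card (fx c) ^ 3 ≤ Nat.card V := by
  have e1 : ∀ v, a (c v) = w (c (a v)) := fun v => DFunLike.congr_fun hac v
  have e2 : ∀ v, w (a v) = a (w v) := fun v => DFunLike.congr_fun hwa v
  have e3 : ∀ v, w (c v) = c (w v) := fun v => DFunLike.congr_fun hwc v
  let f : fx c × fx c × fx c →* V :=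
    (fx c).subtype.coprod ((a.toMonoidHom.comp (fx c).subtype).coprod
      ((a * a).toMonoidHom.comp (fx c).subtype))
  have hf : Function.Injective f := by
    rw [injective_iff_map_eq_one]
    rintro ⟨⟨x, hx⟩, ⟨y, hy⟩, ⟨z, hz⟩⟩ h
    rw [mem_fx] at hx hy hz
    change x * (a y * a (a z)) = 1 at h
    have hy' : w (c (a y)) = a y := by rw [← e1, hy]
    have hz' : w (w (c (a (a z)))) = a (a z) := by rw [← e1, e2, ← e1, hz]
    set Y := a y with hY
    set Z := a (a z) with hZ
    -- apply `w ^ 2 c`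
    have k1 : w (w x) * (w Y * Z) = 1 := by
      have := congrArg (fun t => w (w (c t))) h
      simpa only [map_mul, map_one, hx, hy', hz'] using this
    have k2 : w x * (Y * w (c Z)) = 1 := by
      have := congrArg (fun t => w (c t)) h
      simpa only [map_mul, map_one, hx, hy'] using this
    have k3 : w (w x) * (w Y * Z) = 1 := k1
    have k4 : w x * (w Y * w Z) = 1 := by simpa only [map_mul, map_one] using congrArg w h
    have k5 : w (w x) * (w (w Y) * w (w Z)) = 1 := by
      simpa only [map_mul, map_one] using congrArg w k4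
    -- `x` and `Z` relation : `w (w x) Z = w x * w Z`
    have k6 : w (w x) * Z = w x * w Z := by
      have := k3.trans k4.symm
      rw [mul_left_comm, mul_left_comm (w x)] at this
      exact mul_left_cancel this
    have k7 : w (w x * Z⁻¹) = w x * Z⁻¹ := by
      rw [map_mul, map_inv, mul_inv_eq_iff_eq_mul, mul_right_comm, ← k6, mul_inv_cancel_right]
    have k8 : w x = Z := mul_inv_eq_one.1 (h1 _ k7)
    have k9 : c Z = Z := by rw [← k8, ← e3, hx]
    have k10 : Z = 1 := h2 Z (by rwa [k9] at hz')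
    have k11 : x = 1 := by rw [k10] at k8; simpa using k8
    have k12 : Y = 1 := by simpa [k10, k11] using h
    have hz1 : z = 1 := by simpa [hZ] using k10
    have hy1 : y = 1 := by simpa [hY] using k12
    simp [k11, hz1, hy1]
  have := Nat.card_le_card_of_injective f hf
  simpa [Nat.card_prod, pow_succ, mul_assoc] using this

theorem exists_proper {V : Type*} [CommGroup V] [Finite V] {p : ℕ} [Fact p.Prime] (hp3 : 3 ≤ p)
    (B : Subgroup (MulAut V)) (hB : IsPGroup p B) [Nontrivial B]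
    (hirr : ∀ W : Subgroup V, (∀ b ∈ B, ∀ x ∈ W, b x ∈ W) → W = ⊥ ∨ W = ⊤) :
    ∃ M : Subgroup B, M ≠ ⊤ ∧ ∀ c : B, c ∉ M → Nat.card (fx (c : MulAut V)) ^ 3 ≤ Nat.card V := by
  have hz : ∀ w ∈ center B, w ≠ 1 → ∀ v, (w : MulAut V) v = v → v = 1 := by
    intro w hw hw1 v hv
    rcases hirr (fx (w : MulAut V)) (fun b hb x hx => by
      rw [mem_fx] at hx ⊢
      have := congrArg (fun t : B => (t : MulAut V) x) (mem_center_iff.1 hw ⟨b, hb⟩)
      simpa [hx] using this.symm) with h | h
    · exact mem_bot.1 (h ▸ hv)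
    · refine absurd (Subtype.ext (MulEquiv.ext fun x => ?_)) hw1
      exact mem_fx.1 (h.ge (mem_top x))
  by_cases hc : center B = ⊤
  · refine ⟨⊥, bot_ne_top, fun c hc1 => ?_⟩
    have : fx (c : MulAut V) = ⊥ := eq_bot_iff.2 fun v hv => hz c (hc ▸ mem_top c) hc1 v hv
    rw [this, card_bot, one_pow]
    exact Nat.card_pos
  · have : Nontrivial (B ⧸ center B) := QuotientGroup.nontrivial_iff.2 hc
    have := (hB.to_quotient (center B)).center_nontrivial
    obtain ⟨⟨q, hq⟩, hq1⟩ := exists_ne (1 : center (B ⧸ center B))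
    obtain ⟨a, rfl⟩ := QuotientGroup.mk_surjective q
    have ha : a ∉ center B := fun h => hq1 (Subtype.ext ((QuotientGroup.eq_one_iff a).2 h))
    refine ⟨centralizer {a}, fun h => ha (mem_center_iff.2 fun g =>
      mem_centralizer_singleton_iff.1 (h ▸ mem_top g)), fun c hc1 => ?_⟩
    have hw : a * c * a⁻¹ * c⁻¹ ∈ center B := by
      rw [← QuotientGroup.eq_one_iff]
      simp only [QuotientGroup.mk_mul, QuotientGroup.mk_inv]
      rw [← mem_center_iff.1 hq c]; group
    set w := a * c * a⁻¹ * c⁻¹ with hwd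
    have hw1 : w ≠ 1 := fun h => hc1 (mem_centralizer_singleton_iff.2 (by
      rw [hwd, mul_inv_eq_one, mul_inv_eq_iff_eq_mul] at h; exact h.symm))
    have hw2 : w * w ≠ 1 := fun h => by
      obtain ⟨k, hk⟩ := IsPGroup.iff_orderOf.1 hB w
      have h2 : orderOf w = 2 := orderOf_eq_prime (by rw [pow_two, h]) hw1
      rw [h2] at hk
      have : p ∣ 2 := by
        rw [hk]
        refine dvd_pow_self p ?_
        rintro rfl
        simp at hk
      have := Nat.le_of_dvd two_pos this
      omega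
    refine cube_le (a := a) (w := w) ?_ ?_ ?_ (hz w hw hw1) (hz (w * w) (mul_mem hw hw) hw2)
    · have : a * c = w * c * a := by rw [hwd]; group
      exact congrArg Subtype.val this
    · exact congrArg Subtype.val (mem_center_iff.1 hw a).symm
    · exact congrArg Subtype.val (mem_center_iff.1 hw c).symm

theorem core {A V : Type*} [Group A] [CommGroup V] [Finite V] [MulDistribMulAction A V] {p : ℕ}
    [Fact p.Prime] (hp3 : 3 ≤ p) (hA : IsPGroup p A) {C D : Set A} (hC : closure C = ⊤)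
    (hD : closure D = ⊤) (hirr : ∀ W : Subgroup V, Inv A W → W = ⊥ ∨ W = ⊤)
    (h : ∀ x : V, ∀ c ∈ C, ∀ d ∈ D, ∃ u v : V, c • u = u ∧ d • v = v ∧ x = v * u) (a : A) (x : V) :
    a • x = x := by
  let φ := MulDistribMulAction.toMulAut A V
  by_contra hne
  have : Nontrivial φ.range := ⟨⟨⟨φ a, a, rfl⟩, 1, fun e =>
    hne (DFunLike.congr_fun (congrArg Subtype.val e) x)⟩⟩
  obtain ⟨M, hM, hM'⟩ := exists_proper hp3 φ.range (hA.of_surjective _ φ.rangeRestrict_surjective)
    (fun W hW => hirr W fun a x hx => hW _ ⟨a, rfl⟩ x hx)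
  have key : ∀ C : Set A, closure C = ⊤ → ∃ c ∈ C, Nat.card (fx (φ c)) ^ 3 ≤ Nat.card V := by
    intro C hC
    by_contra hc
    push Not at hc
    apply hM
    have : closure C ≤ M.comap φ.rangeRestrict := (closure_le _).2 fun c hc' => by
      by_contra h'
      exact (hc c hc').not_ge (hM' (φ.rangeRestrict c) h')
    rw [hC, top_le_iff] at this
    rw [← map_comap_eq_self_of_surjective φ.rangeRestrict_surjective M, this,
      map_top_of_surjective _ φ.rangeRestrict_surjective]
  obtain ⟨c, hc, hc'⟩ := key C hC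
  obtain ⟨d, hd, hd'⟩ := key D hD
  have h1 : Nat.card V ≤ Nat.card (fx (φ d)) * Nat.card (fx (φ c)) := by
    rw [← Nat.card_prod]
    refine Nat.card_le_card_of_surjective (fun t => t.1 * t.2) fun x => ?_
    obtain ⟨u, v, hu, hv, rfl⟩ := h x c hc d hd
    exact ⟨(⟨v, hv⟩, ⟨u, hu⟩), rfl⟩
  have h2 : Nat.card V ^ 3 ≤ Nat.card V ^ 2 := by
    calc Nat.card V ^ 3 ≤ (Nat.card (fx (φ d)) * Nat.card (fx (φ c))) ^ 3 :=
          Nat.pow_le_pow_left h1 3
      _ ≤ Nat.card V * Nat.card V := by rw [mul_pow]; exact Nat.mul_le_mul hd' hc'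
      _ = _ := by ring
  have h3 : Nat.card V ≤ 1 := by
    by_contra h4
    exact absurd h2 (Nat.pow_lt_pow_right (by omega) (by norm_num)).not_ge
  have := Finite.card_le_one_iff_subsingleton.1 h3
  exact hne (Subsingleton.elim _ _)

theorem act {A N : Type*} [Group A] [Finite A] [Group N] [Finite N] [MulDistribMulAction A N] {p : ℕ}
    [Fact p.Prime] (hp3 : 3 ≤ p) (hA : IsPGroup p A) (hcop : (Nat.card A).Coprime (Nat.card N))
    {C D : Set A} (hC : closure C = ⊤) (hD : closure D = ⊤)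
    (h : ∀ K : Subgroup N, Inv A K → ∀ x ∈ K, ∀ c ∈ C, ∀ d ∈ D,
      ∃ u ∈ K, ∃ v ∈ K, c • u = u ∧ d • v = v ∧ x = v * u) (K : Subgroup N) (hK : Inv A K) :
    K ≤ FixedPoints.subgroup A N := by
  have hs : Group.IsSolvable A := by have := hA.isNilpotent; infer_instance
  induction K using WellFoundedLT.induction with | ind K ih => ?_
  have hcK := hcop.coprime_dvd_right (card_subgroup_dvd_card K)
  by_cases hr : ∃ r : ℕ, r.Prime ∧ IsPGroup r K
  swap
  · refine le_of_forall_sylow_le _ _ fun r hr' => ?_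
    obtain ⟨R, hR⟩ := hK.exists_inv_sylow hcK (Or.inl hs) r
    refine ⟨R, ih _ (lt_of_le_of_ne (map_subtype_le _) fun e => hr ⟨r, hr'.out, ?_⟩) hR⟩
    rw [← e]; exact R.isPGroup'.map _
  obtain ⟨r, hr, hKr⟩ := hr
  have := Fact.mk hr
  by_cases hK1 : K = ⊥
  · rw [hK1]; exact bot_le
  obtain ⟨_, hsub⟩ := exists_subAction hK
  have : Nontrivial K := (nontrivial_iff_ne_bot K).2 hK1
  obtain ⟨M, -, hM1, hM2, hM3⟩ := exists_maximal_inv_ge (A := A) (G := K) inv_bot bot_ne_top
  have hcM : commutator K ≤ M := by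
    by_contra hn
    have := hM3 (M ⊔ commutator K) (left_lt_sup.2 hn) (hM2.sup (inv_of_characteristic _))
    exact hM1 (frattini_nongenerating (top_le_iff.1 (this.ge.trans
      (sup_le_sup_left (Grp.PFrattini.commutator_le_frattini hKr) M))))
  have : M.Normal := ⟨fun m hm g => by
    have := M.mul_mem (hcM (commutator_mem_commutator (mem_top g) (mem_top m))) hm
    simpa [commutatorElement_def] using this⟩
  obtain ⟨_, hq⟩ := exists_quotAction hM2
  letI : CommGroup (K ⧸ M) :=
    { (inferInstance : Group (K ⧸ M)) with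
      mul_comm := (Subgroup.Normal.quotient_commutative_iff_commutator_le.2 hcM).is_comm.comm }
  have hV := core (V := K ⧸ M) hp3 hA hC hD (fun W hW => by
    have h1 : Inv A (W.comap (QuotientGroup.mk' M)) := hW.comap fun a x => hq a x
    have h2 : M ≤ W.comap (QuotientGroup.mk' M) := fun m hm => by
      rw [mem_comap, QuotientGroup.mk'_apply, (QuotientGroup.eq_one_iff m).2 hm]; exact one_mem _
    rw [← map_comap_eq_self_of_surjective (QuotientGroup.mk'_surjective M) W]
    rcases h2.eq_or_lt with e | e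
    · left; rw [← e, QuotientGroup.map_mk'_self]
    · right; rw [hM3 _ e h1, map_top_of_surjective _ (QuotientGroup.mk'_surjective M)])
    (fun x c hc d hd => by
      obtain ⟨x, rfl⟩ := QuotientGroup.mk_surjective x
      obtain ⟨u, hu, v, hv, h1, h2, h3⟩ := h K hK x x.2 c hc d hd
      refine ⟨((⟨u, hu⟩ : K) : K ⧸ M), ((⟨v, hv⟩ : K) : K ⧸ M), ?_, ?_, ?_⟩
      · rw [hq]; congr 1; exact Subtype.ext ((hsub _ _).trans h1)
      · rw [hq]; congr 1; exact Subtype.ext ((hsub _ _).trans h2)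
      · rw [← QuotientGroup.mk_mul]; congr 1; exact Subtype.ext h3)
  have h1 : comm A K ≤ M.map K.subtype := comm_le_iff.2 fun a g hg => by
    refine ⟨(⟨g, hg⟩ : K)⁻¹ * a • (⟨g, hg⟩ : K), ?_, by simp [hsub]⟩
    rw [SetLike.mem_coe, ← QuotientGroup.eq, ← hq, hV]
  have h2 := ih (M.map K.subtype) (lt_of_le_of_ne (map_subtype_le _) fun e => hM1 (by
    rw [← map_subtype_inj (H := K), e, ← MonoidHom.range_eq_map, range_subtype]))
    (hM2.map fun a x => (hsub a x).symm)
  have h3 : comm A K = ⊥ := by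
    rw [← comm_comm hK hcK (Or.inl hs), comm_eq_bot_iff]
    exact fun a g hg => h2 (h1 hg) a
  exact fun g hg a => comm_eq_bot_iff.1 h3 a g hg

theorem fact {G : Type*} [Group G] [Finite G] {p : ℕ} [Fact p.Prime] (P : Sylow p G)
    (N : Subgroup G) [hn : N.Normal] (hN : (Nat.card N).Coprime p) {K : Subgroup G} (hKN : K ≤ N)
    (hPK : (P : Subgroup G) ≤ normalizer (K : Set G)) {x c d : G} (hx : x ∈ K) (hc : c ∈ P)
    (hd : d ∈ P) (h : IsPGroup p (closure ({x * c * x⁻¹, d} : Set G))) :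
    ∃ u ∈ K, ∃ v ∈ K, c * u * c⁻¹ = u ∧ d * v * d⁻¹ = v ∧ x = v * u := by
  set L := K ⊔ (P : Subgroup G) with hL
  have hQ : closure ({x * c * x⁻¹, d} : Set G) ≤ L := by
    rw [closure_le]
    rintro _ (rfl | rfl)
    · exact mul_mem (mul_mem (mem_sup_left hx) (mem_sup_right hc)) (mem_sup_left (inv_mem hx))
    · exact mem_sup_right hd
  obtain ⟨S, hS⟩ := (h.comap_subtype (K := L)).exists_le_sylow
  obtain ⟨g, rfl⟩ := MulAction.exists_smul_eq L (P.subtype (le_sup_right : _ ≤ L)) S
  have hg : (g : G) ∈ (K : Set G) * ((P : Subgroup G) : Set G) := by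
    rw [← coe_mul_of_right_le_normalizer_left _ _ hPK]; exact g.2
  obtain ⟨y, hy, s, hs, hys⟩ := hg
  have key : ∀ t ∈ closure ({x * c * x⁻¹, d} : Set G), y⁻¹ * t * y ∈ (P : Subgroup G) := by
    intro t ht
    have := hS (show (⟨t, hQ ht⟩ : L) ∈ _ from ht)
    rw [Sylow.coe_subgroup_smul, mem_pointwise_smul_iff_inv_smul_mem] at this
    have h2 : (g : G)⁻¹ * t * g ∈ (P : Subgroup G) := by simpa [mem_subgroupOf] using this
    rw [← hys] at h2
    have := mul_mem (mul_mem hs h2) (inv_mem hs)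
    simpa [mul_assoc] using this
  have dis : ∀ t ∈ N, t ∈ (P : Subgroup G) → t = 1 := by
    have h1 : Disjoint N (P : Subgroup G) := by
      obtain ⟨k, hk⟩ := P.isPGroup'.exists_card_eq
      exact disjoint_of_coprime_natCard (by rw [hk]; exact hN.pow_right k)
    exact fun t h2 h3 => mem_bot.1 (h1.eq_bot ▸ mem_inf.2 ⟨h2, h3⟩)
  have k1 := key _ (subset_closure (Or.inl rfl))
  have k2 := key _ (subset_closure (Or.inr rfl))
  have hu : y⁻¹ * x ∈ K := mul_mem (inv_mem hy) hx
  refine ⟨y⁻¹ * x, hu, y, hy, ?_, ?_, by group⟩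
  · have := dis (y⁻¹ * (x * c * x⁻¹) * y * c⁻¹) (by
      have := mul_mem (hKN hu) (hn.conj_mem _ (inv_mem (hKN hu)) c)
      simpa [mul_assoc] using this) (mul_mem k1 (inv_mem hc))
    calc c * (y⁻¹ * x) * c⁻¹ = (y⁻¹ * (x * c * x⁻¹) * y * c⁻¹) * c * (y⁻¹ * x) * c⁻¹ := by
          rw [this, one_mul]
      _ = _ := by group
  · have := dis (y⁻¹ * d * y * d⁻¹) (by
      have := mul_mem (inv_mem (hKN hy)) (hn.conj_mem _ (hKN hy) d)
      simpa [mul_assoc] using this) (mul_mem k2 (inv_mem hd))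
    calc d * y * d⁻¹ = y * (y⁻¹ * d * y * d⁻¹) := by group
      _ = _ := by rw [this, mul_one]


/-- Let p ≥ 3 be prime and G a finite group with a Sylow p-subgroup P and a normal p-complement N (N normal, of order prime to p, with NP = G). Suppose P is generated by a subset C and also by a subset D, and that ⟨x c x⁻¹, d⟩ is a p-group for all x ∈ N, c ∈ C, d ∈ D. Then P centralizes N, so that G = N × P. -/
theorem result {G : Type*} [Group G] [Finite G] (p : ℕ) [Fact p.Prime] (hp3 : 3 ≤ p) (P : Sylow p G)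
    (N : Subgroup G) [N.Normal] (hN : (Nat.card N).Coprime p) (hNP : N ⊔ (P : Subgroup G) = ⊤)
    (C D : Set G) (hC : Subgroup.closure C = (P : Subgroup G)) (hD : Subgroup.closure D = (P : Subgroup G))
    (h : ∀ x ∈ N, ∀ c ∈ C, ∀ d ∈ D, IsPGroup p ↥(Subgroup.closure ({x * c * x⁻¹, d} : Set G))) :
    ⁅(P : Subgroup G), N⁆ = ⊥ := by
  letI : MulDistribMulAction (P : Subgroup G) N :=
    MulDistribMulAction.compHom N ((MulAut.conjNormal (H := N)).comp (P : Subgroup G).subtype)
  have hs : ∀ (a : (P : Subgroup G)) (x : N), ((a • x : N) : G) = a * x * (a : G)⁻¹ := fun _ _ => rfl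
  have hcl : ∀ C : Set G, Subgroup.closure C = P →
      Subgroup.closure ((P : Subgroup G).subtype ⁻¹' C) = ⊤ := fun C hC => by
    have := Subgroup.closure_preimage_eq_top C
    rwa [hC] at this
  have hcop : (Nat.card (P : Subgroup G)).Coprime (Nat.card N) := by
    obtain ⟨k, hk⟩ := P.isPGroup'.exists_card_eq
    rw [hk]; exact hN.symm.pow_left k
  have key := act hp3 P.isPGroup' hcop (hcl C hC) (hcl D hD) (fun K hK x hx c hc d hd => by
    obtain ⟨_, ⟨u, hu, rfl⟩, _, ⟨v, hv, rfl⟩, h1, h2, h3⟩ := fact P N hN (map_subtype_le K)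
      (fun a ha => by
        refine Subgroup.mem_normalizer_fintype ?_
        rintro _ ⟨y, hy, rfl⟩
        exact ⟨_, hK ⟨a, ha⟩ y hy, rfl⟩) (mem_map_of_mem _ hx) c.2 d.2 (h x x.2 c hc d hd)
    exact ⟨u, hu, v, hv, Subtype.ext h1, Subtype.ext h2, Subtype.ext h3⟩) ⊤ inv_top
  rw [Subgroup.commutator_eq_bot_iff_le_centralizer]
  intro a ha x hx
  have := congrArg Subtype.val (key (mem_top ⟨x, hx⟩) ⟨a, ha⟩)
  rw [hs] at this
  exact (mul_inv_eq_iff_eq_mul.1 this).symm

end Cfsg.Agent.S2277
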