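import Cfsg.Statements.S2281
import Mathlib
import Cfsg.Agent.KSG.RegSpEven

set_option autoImplicit false
open Cfsg

namespace Cfsg.Agent.S2281

open Cfsg.Agent.Class Cfsg.Agent.Class.Max Cfsg.Agent.KSG

theorem gen3 {F : Type*} [Field F] [Fintype F] (n : ℕ) (hn : 2 ≤ n)
    (h22 : ¬ (n = 2 ∧ Fintype.card F = 2)) : Gen3 (fmSpStd F n) := by
  have hS : IsS (fmSpStd F n) := ⟨fun _ => rfl, rfl, fun _ => rfl, fun _ => rfl, one_le_two⟩
  by_cases h2 : (2 : F) = 0
  swap
  · exact gen3_sp_odd hS h2 (n := n - 2) (by simp; omega)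
  have hq : IsQ (fmSpStd F n) fun x => ∑ i, x (.inl i) * x (.inr i) :=
    ⟨fun x y => by
      change _ = _ + sympForm n F x y
      rw [Sp.form_eq, ← Finset.sum_add_distrib, ← Finset.sum_add_distrib]
      exact Finset.sum_congr rfl fun i _ => by
        simp only [Pi.add_apply]
        linear_combination x (.inl i) * y (.inr i) * h2,
    fun a x => by
      rw [Finset.mul_sum]
      exact Finset.sum_congr rfl fun i _ => by simp only [Pi.smul_apply, smul_eq_mul]; ring⟩
  rcases hn.eq_or_lt with rfl | hn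
  · exact gen3_sp_four ⟨hS, h2⟩ hq (by rw [Nat.card_eq_fintype_card]; exact fun c => h22 ⟨rfl, c⟩)
      (by simp)
  · exact gen3_sp_six ⟨hS, h2⟩ hq (n := n - 3) (by simp; omega)


/-- Let F be a finite field and n ≥ 2, excluding the case n = 2 with F of two elements (where the group is not quasisimple). Then the symplectic group Sp_2n(F) is generated by three conjugate regular unipotent elements: there are u ∈ Sp_2n(F) with u − 1 nilpotent and (u − 1)^(2n−1) ≠ 0, and g, h ∈ Sp_2n(F), such that u, g u g⁻¹ and h u h⁻¹ generate Sp_2n(F). -/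
theorem result {F : Type*} [Field F] [Fintype F] (n : ℕ) (hn : 2 ≤ n) (h22 : ¬ (n = 2 ∧ Fintype.card F = 2)) :
    ∃ u g h : Matrix.symplecticGroup (Fin n) F,
      IsNilpotent ((u : Matrix (Fin n ⊕ Fin n) (Fin n ⊕ Fin n) F) - 1) ∧
      ((u : Matrix (Fin n ⊕ Fin n) (Fin n ⊕ Fin n) F) - 1) ^ (2 * n - 1) ≠ 0 ∧
      Subgroup.closure ({u, g * u * g⁻¹, h * u * h⁻¹} : Set (Matrix.symplecticGroup (Fin n) F)) = ⊤ := by
  have := (gen_bridge (Φ := fmSpStd F n)
    (fun g : Matrix.symplecticGroup (Fin n) F => (g : Matrix (Fin n ⊕ Fin n) (Fin n ⊕ Fin n) F))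
    (DistribMulAction.toModuleAut F _) (fun _ => rfl) (fun a b h => Subtype.ext
      (Matrix.toLin'.injective (congrArg LinearEquiv.toLinearMap h))) (by
      rw [EG_fmSpStd]
      apply le_antisymm
      · rintro _ ⟨g, rfl⟩
        exact ⟨(Sp.mem_iff_preserves (A := g.1)).1 g.2, fun _ => rfl⟩
      · intro g hg
        obtain ⟨g, rfl⟩ := (glEquiv _ F).surjective g
        exact ⟨⟨g.1, (Sp.mem_iff_preserves (A := g.1)).2 hg.1⟩, LinearEquiv.ext fun _ => rfl⟩)).1
    (gen3 n hn h22)
  simpa only [Fintype.card_sum, Fintype.card_fin, ← two_mul, and_assoc] using this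

end Cfsg.Agent.S2281
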