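import Mathlib
import Cfsg.Statements.S2418
import Cfsg.Agent.Chev.CoxCenter
-- import your own Cfsg.Agent.* helpers here

set_option autoImplicit false
open Cfsg

namespace Cfsg.Agent.S2418

theorem aux {n : ℕ} {M : CoxeterMatrix (Fin n)} {a : List (List ℤ)}
    (h : Chev.IsCartanFor M (Chev.amat n a)) (ha : ∀ i < n, (a.getD i []).length = n)
    (hconn : ∀ S : Fin n → Bool, (∀ i j, Chev.amat n a i j ≠ 0 → S i = S j) → ∀ i j, S i = S j) (k : ℕ)
    (hu : Chev.lact a (List.replicate n 1) ((List.replicate k (List.finRange n)).flatten.map Fin.val) =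
      List.replicate n (-1))
    (hu' : ∀ i : Fin n, Chev.lact a (List.replicate n 1)
        ((i :: (List.replicate k (List.finRange n)).flatten).map Fin.val) =
      Chev.lact a (List.replicate n 1) (((List.replicate k (List.finRange n)).flatten ++ [i]).map Fin.val))
    (ho : (decide (0 < 2) &&
      (Chev.lact a (List.replicate n 1) ((List.replicate 2
        (List.replicate k (List.finRange n)).flatten).flatten.map Fin.val) == List.replicate n 1) &&
      (List.range 2).all fun j => j == 0 ||
        Chev.lact a (List.replicate n 1) ((List.replicate j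
          (List.replicate k (List.finRange n)).flatten).flatten.map Fin.val) != List.replicate n 1) = true) :
    Nat.card (Subgroup.center M.Group) = 2 ∧
      Subgroup.center M.Group ≤ Subgroup.zpowers ((List.finRange n).map M.simple).prod := by
  rw [Chev.center_eq_zpowers M.toCoxeterSystem h ha hconn _ hu hu', Nat.card_zpowers,
    Chev.orderOf_wordProd_eq M.toCoxeterSystem h ha _ 2 ho, ← Chev.wordProd_pow]
  exact ⟨rfl, Subgroup.zpowers_le.2 (Subgroup.pow_mem _ (Subgroup.mem_zpowers _) _)⟩

/-- For the Coxeter groups of types B₂, G₂, D₄, F₄, E₇, E₈ the centre has order 2 (the element acting as −1 on the root system) and is generated by a power of the Coxeter element `s₁ s₂ ⋯ s_l`; the Coxeter group of type E₆ has trivial centre. -/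
theorem result (c : (Σ n : ℕ, CoxeterMatrix (Fin n)) × ℕ)
    (hc : c ∈ [(⟨2, CoxeterMatrix.B 2⟩, 2), (⟨2, CoxeterMatrix.G₂⟩, 2), (⟨4, Cfsg.Lie.coxeterD4⟩, 2), (⟨4, CoxeterMatrix.F₄⟩, 2),
      (⟨6, CoxeterMatrix.E₆⟩, 1), (⟨7, CoxeterMatrix.E₇⟩, 2), (⟨8, CoxeterMatrix.E₈⟩, 2)]) :
    Nat.card (Subgroup.center c.1.2.Group) = c.2 ∧
      Subgroup.center c.1.2.Group ≤ Subgroup.zpowers ((List.finRange c.1.1).map c.1.2.simple).prod := by
  simp only [List.mem_cons, List.not_mem_nil, or_false] at hc
  rcases hc with rfl | rfl | rfl | rfl | rfl | rfl | rfl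
  · exact aux Chev.isCartanForB2 Chev.length_cartanB2 (by decide +kernel) 2 (by decide +kernel)
      (by decide +kernel) (by decide +kernel)
  · exact aux Chev.isCartanForG2 Chev.length_cartanG2 (by decide +kernel) 3 (by decide +kernel)
      (by decide +kernel) (by decide +kernel)
  · exact aux Chev.isCartanForD4 Chev.length_cartanD4 (by decide +kernel) 3 (by decide +kernel)
      (by decide +kernel) (by decide +kernel)
  · exact aux Chev.isCartanForF4 Chev.length_cartanF4 (by decide +kernel) 6 (by decide +kernel)
      (by decide +kernel) (by decide +kernel)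
  · rw [Chev.center_eq_bot (CoxeterMatrix.toCoxeterSystem _) Chev.isCartanForE6 Chev.length_cartanE6
      (by decide +kernel) [0, 1, 2, 0, 3, 1, 2, 0, 3, 2, 4, 3, 1, 2, 0, 3, 2, 4, 3, 1, 5, 4, 3, 1, 2, 0, 3, 2, 4, 3, 1, 5, 4, 3, 2, 0] (by decide +kernel) 0 (by decide +kernel)]
    simp
  · exact aux Chev.isCartanForE7 Chev.length_cartanE7 (by decide +kernel) 9 (by decide +kernel)
      (by decide +kernel) (by decide +kernel)
  · exact aux Chev.isCartanForE8 Chev.length_cartanE8 (by decide +kernel) 15 (by decide +kernel)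
      (by decide +kernel) (by decide +kernel)

end Cfsg.Agent.S2418
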