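import Cfsg.Statements.S2463
import Cfsg.Agent.Chev.F4Cover
import Cfsg.Agent.Chev.TitsCov2
import Cfsg.Agent.Chev.TwistF4F

set_option autoImplicit false
open Cfsg

namespace Cfsg.Agent.S2463

/-- A form of Thompson's conjecture for the simple groups of type ²F₄ (covering the non-identity elements) with a semisimple class: if M is a large Ree group ²F₄(2^(2m+1)) with m ≥ 1, or the Tits group, then there is an element x of M of odd order such that every non-identity element of M is a product of two conjugates of x. -/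
theorem result {M : Type*} [Group M] [Finite M] (hM : Cfsg.Lie.Iso2F4 M ∨ Cfsg.Lie.IsoTits M) :
    ∃ x : M, Odd (orderOf x) ∧ ∀ g : M, g ≠ 1 → ∃ u v : M, g = (u * x * u⁻¹) * (v * x * v⁻¹) := by
  rcases hM with ⟨K, _, _, m, hm, hK, ⟨e⟩⟩ | hM
  · have := Chev.SzField.of_fintype hm hK
    obtain ⟨_, S, θ, hθ, hq, hT⟩ := Chev.F4.exists_data hK
    obtain ⟨x, h1, h2⟩ := Chev.F4.exists_two S θ hθ hq ((Subgroup.inclusion Chev.F4.le_group).comp e.toMonoidHom)
      ((Subgroup.inclusion_injective Chev.F4.le_group).comp e.injective) (by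
        rw [MonoidHom.range_comp, MonoidHom.range_eq_top.2 e.surjective, ← MonoidHom.range_eq_map,
          (Chev.F4.tw S θ hθ).data.range_inclusion _ hT])
    exact ⟨x, h1, h2⟩
  · exact Chev.TitsCov.cover_tits hM

end Cfsg.Agent.S2463
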