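import Cfsg.Statements.S2468
import Mathlib
import Cfsg.Agent.Class.Spec.Adj

set_option autoImplicit false
open Cfsg

namespace Cfsg.Agent.S2468

/-- Adjacency of two odd primes in the prime graph of PSL(n,q): let F be a finite field of characteristic p with q elements, n ≥ 2 with PSL(n,F) simple, and let r ≠ s be odd primes different from p dividing the order of PSL(n,F). Let k and l be the multiplicative orders of q modulo r and modulo s, and suppose 2 ≤ k ≤ l. Then PSL(n,F) has NO element of order r·s if and only if k + l > n and k does not divide l. -/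
theorem result {F : Type*} [Field F] [Fintype F] (p : ℕ) [Fact p.Prime] [CharP F p] (n : ℕ) (hn : 2 ≤ n) (hsmall : n = 2 → 4 ≤ Fintype.card F)
    (r s : ℕ) (hr : r.Prime) (hs : s.Prime) (hr2 : r ≠ 2) (hs2 : s ≠ 2) (hrp : r ≠ p) (hsp : s ≠ p) (hrs : r ≠ s)
    (hrG : r ∣ Nat.card (Matrix.ProjectiveSpecialLinearGroup (Fin n) F)) (hsG : s ∣ Nat.card (Matrix.ProjectiveSpecialLinearGroup (Fin n) F))
    (k l : ℕ) (hk : k = orderOf ((Fintype.card F : ℕ) : ZMod r)) (hl : l = orderOf ((Fintype.card F : ℕ) : ZMod s))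
    (h2k : 2 ≤ k) (hkl : k ≤ l) :
    (r * s ∉ Set.range (orderOf : Matrix.ProjectiveSpecialLinearGroup (Fin n) F → ℕ)) ↔ (n < k + l ∧ ¬ k ∣ l) := by
  open Cfsg.Agent.Class.Spec in
  have hp : p.Prime := Fact.out
  have hG := models_PSL F (AlgebraicClosure F) p hp n
  have hQ := isQ_card F (AlgebraicClosure F) hp
  have h1 := fun j => hk ▸ int_dvd_iff_orderOf (r := r) (Fintype.card_pos (α := F)) j
  have h2 := fun j => hl ▸ int_dvd_iff_orderOf (r := s) (Fintype.card_pos (α := F)) j
  rw [hG.adj_lin hQ hr hs hrp hsp hrs h1 h2 h2k hkl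
    (hG.le_of_dvd_card hQ hs hsp hsG h2 (h2k.trans hkl)), not_or, not_le]

end Cfsg.Agent.S2468
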