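import Cfsg.Statements.S2469
import Mathlib
import Cfsg.Agent.Class.Spec.Adj

set_option autoImplicit false
open Cfsg

namespace Cfsg.Agent.S2469

/-- Adjacency of two odd primes in the prime graph of PSp(2n,q): let F be a finite field of characteristic p with q elements, n ≥ 2 with PSp(2n,F) simple, and let r ≠ s be odd primes different from p dividing the order of PSp(2n,F). Let k, l be the multiplicative orders of q modulo r and s, put η(m) = m for odd m and η(m) = m/2 for even m, and suppose η(k) ≤ η(l). Then PSp(2n,F) has NO element of order r·s if and only if η(k) + η(l) > n and l/k is not an odd integer. -/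
theorem result {F : Type*} [Field F] [Fintype F] (p : ℕ) [Fact p.Prime] [CharP F p] (n : ℕ) (hn : 2 ≤ n) (hsmall : n = 2 → 3 ≤ Fintype.card F)
    (r s : ℕ) (hr : r.Prime) (hs : s.Prime) (hr2 : r ≠ 2) (hs2 : s ≠ 2) (hrp : r ≠ p) (hsp : s ≠ p) (hrs : r ≠ s)
    (hrG : r ∣ Nat.card (Cfsg.PSp n F)) (hsG : s ∣ Nat.card (Cfsg.PSp n F))
    (k l ηk ηl : ℕ) (hk : k = orderOf ((Fintype.card F : ℕ) : ZMod r)) (hl : l = orderOf ((Fintype.card F : ℕ) : ZMod s))
    (hηk : (Odd k ∧ ηk = k) ∨ (Even k ∧ 2 * ηk = k)) (hηl : (Odd l ∧ ηl = l) ∨ (Even l ∧ 2 * ηl = l)) (hkl : ηk ≤ ηl) :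
    (r * s ∉ Set.range (orderOf : Cfsg.PSp n F → ℕ)) ↔ (n < ηk + ηl ∧ ¬ ∃ t : ℕ, Odd t ∧ l = k * t) := by
  open Cfsg.Agent.Class.Spec in
  have hp : p.Prime := Fact.out
  have hG := models_PSp F (AlgebraicClosure F) p hp n
  have hQ := isQ_card F (AlgebraicClosure F) hp
  have h1 := fun j => hk ▸ int_dvd_iff_orderOf (r := r) (Fintype.card_pos (α := F)) j
  have h2 := fun j => hl ▸ int_dvd_iff_orderOf (r := s) (Fintype.card_pos (α := F)) j
  have h0 : 0 < k := hk ▸ orderOf_card_pos' hp hr hrp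
  rw [hG.adj_sp hQ hr hs hr2 hs2 hrp hsp hrs (by omega) h1 h2 hηk hηl hkl
    (hG.eta_le_of_dvd_card hQ hs hs2 hsp hsG h2 hηl), not_or, not_le]

end Cfsg.Agent.S2469
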