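import Cfsg.Statements.S2470
import Mathlib
import Cfsg.Agent.Class.Spec.Adj

set_option autoImplicit false
open Cfsg

namespace Cfsg.Agent.S2470

/-- Adjacency of an odd prime and the characteristic in the prime graph of PSL(n,q): let F be a finite field of characteristic p with q elements, n ≥ 2 with PSL(n,F) simple, and let r ≠ p be an odd prime dividing the order of PSL(n,F), with k the multiplicative order of q modulo r. Then PSL(n,F) has NO element of order r·p if and only if either k > n − 2, or n = 3, r = 3 and 3 divides q − 1 exactly once. -/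
theorem result {F : Type*} [Field F] [Fintype F] (p : ℕ) [Fact p.Prime] [CharP F p] (n : ℕ) (hn : 2 ≤ n) (hsmall : n = 2 → 4 ≤ Fintype.card F)
    (r : ℕ) (hr : r.Prime) (hr2 : r ≠ 2) (hrp : r ≠ p) (hrG : r ∣ Nat.card (Matrix.ProjectiveSpecialLinearGroup (Fin n) F))
    (k : ℕ) (hk : k = orderOf ((Fintype.card F : ℕ) : ZMod r)) :
    (r * p ∉ Set.range (orderOf : Matrix.ProjectiveSpecialLinearGroup (Fin n) F → ℕ)) ↔
      (n - 2 < k ∨ (n = 3 ∧ r = 3 ∧ 3 ∣ Fintype.card F - 1 ∧ ¬ 9 ∣ Fintype.card F - 1)) := by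
  open Cfsg.Agent.Class.Spec in
  have hp : p.Prime := Fact.out
  have hG := models_PSL F (AlgebraicClosure F) p hp n
  have hQ := isQ_card F (AlgebraicClosure F) hp
  have h1 := fun j => hk ▸ int_dvd_iff_orderOf (r := r) (Fintype.card_pos (α := F)) j
  have h0 : 0 < k := hk ▸ orderOf_card_pos' hp hr hrp
  have h2 : ∀ m : ℕ, m ∣ Fintype.card F - 1 ↔ (m : ℤ) ∣ Fintype.card F - 1 := fun m => by
    rw [← Int.natCast_dvd_natCast, Nat.cast_pred Fintype.card_pos]
  by_cases h3 : (r : ℤ) ∣ Fintype.card F - 1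
  · obtain rfl : 1 = k := (Nat.dvd_one.1 ((h1 1).1 (by simpa using h3))).symm
    rw [hG.adj_char_one hQ hr h3 hn, h2, h2]
    refine ⟨fun h => ?_, fun h h' => ?_⟩
    · by_cases h4 : 3 ≤ n
      · obtain ⟨rfl, rfl, h5⟩ := not_not.1 (not_and.1 h h4)
        exact Or.inr ⟨rfl, rfl, h3, h5⟩
      · exact Or.inl (by omega)
    · exact h.elim (by omega) fun h => h'.2 ⟨h.1, h.2.1, h.2.2.2⟩
  · have h4 : k ≠ 1 := by rintro rfl; exact h3 (by simpa using (h1 1).2 dvd_rfl)
    refine ⟨fun h => Or.inl ?_, fun h h' => ?_⟩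
    · by_contra h5
      exact h (hG.adj_char_of_le hQ hr hrp h3 h0 (by omega) ((h1 k).2 dvd_rfl))
    · obtain ⟨d, h5, h6, h7⟩ := hG.exists_of_adj_char hQ hr hrp h3 h'
      have := Nat.le_of_dvd h5 ((h1 d).1 h7)
      rcases h with h | ⟨-, rfl, h, -⟩
      · omega
      · exact h3 ((h2 3).1 h)

end Cfsg.Agent.S2470
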