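import Cfsg.Statements.S2515
import Cfsg.Agent.KSG.Solub
import Cfsg.Agent.Misc.SpecFun
import Cfsg.Agent.Misc.SpecL2

set_option autoImplicit false
open Cfsg

namespace Cfsg.Agent.S2515

section
open Matrix MatrixGroups Subgroup Cfsg.Agent.KSG.M2 Cfsg.Agent.Class.Dickson Cfsg.Agent.Misc.Spec
open Cfsg.Agent.KSG.Solub

variable {F : Type} [Field F]

local notation "M₂" => Matrix (Fin 2) (Fin 2) F

/-- The twisted tensor product of the natural module with a field twist. -/
def r0 (σ : F →+* F) : SL(2, F) →* AddMonoid.End M₂ where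
  toFun g := (AddMonoidHom.mulLeft (g : M₂)).comp
    (AddMonoidHom.mulRight ((SpecialLinearGroup.map σ g⁻¹ : SL(2, F)) : M₂))
  map_one' := by
    ext1 A
    change _ * (A * _) = A
    simp
  map_mul' g h := by
    ext1 A
    change _ * (A * _) = _ * (_ * (A * _) * _)
    rw [_root_.mul_inv_rev, map_mul]
    simp only [Matrix.SpecialLinearGroup.coe_mul, mul_assoc]

theorem r0_apply (σ : F →+* F) (g : SL(2, F)) (A : M₂) :
    r0 σ g A = g * (A * ((SpecialLinearGroup.map σ g⁻¹ : SL(2, F)) : M₂)) := rfl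

theorem r0_ker (σ : F →+* F) : center SL(2, F) ≤ (r0 σ).ker := by
  intro g hg
  rcases SL_mem_center_iff'.1 hg with rfl | rfl
  · exact one_mem _
  · rw [MonoidHom.mem_ker]
    ext1 A
    have : ((SpecialLinearGroup.map σ (-1)⁻¹ : SL(2, F)) : M₂) = -1 := by
      ext i j; fin_cases i <;> fin_cases j <;> simp
    rw [r0_apply, this]
    simp

/-- The action of `{±1} × PSL₂(q)`. -/
def rho (σ : F →+* F) : ℤˣ × PSL(2, F) →* AddMonoid.End M₂ where
  toFun k := (k.1 : ℤ) • QuotientGroup.lift _ (r0 σ) (r0_ker σ) k.2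
  map_one' := by simp
  map_mul' a b := by
    rw [Prod.fst_mul, Prod.snd_mul, map_mul, Units.val_mul]
    ext1 A
    generalize QuotientGroup.lift _ (r0 σ) (r0_ker σ) a.2 = f
    generalize QuotientGroup.lift _ (r0 σ) (r0_ker σ) b.2 = g
    change ((a.1 : ℤ) * b.1) • f (g A) = (a.1 : ℤ) • f ((b.1 : ℤ) • g A)
    rw [map_zsmul, mul_smul]

variable [CharP F 3]

attribute [local instance] Nat.fact_prime_three

/-- The action as an instance. -/
noncomputable abbrev act : DistribMulAction (ℤˣ × PSL(2, F)) M₂ :=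
  DistribMulAction.compHom M₂ (rho (frobenius F 3))

attribute [local instance] act

theorem smul_eq (e : ℤˣ) (g : SL(2, F)) (A : M₂) : (e, pslMk F g) • A =
    (e : ℤ) • (g * (A * ((SpecialLinearGroup.map (frobenius F 3) g⁻¹ : SL(2, F)) : M₂))) := rfl

theorem fpf {g : SL(2, F)} (h : (g : M₂).trace ^ 3 ≠ (g : M₂).trace) (A : M₂)
    (hA : ((1 : ℤˣ), pslMk F g) • A = A) : A = 0 := by
  rw [smul_eq, map_inv, Units.val_one, one_smul] at hA
  set s := SpecialLinearGroup.map (frobenius F 3) g with hs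
  have e : ((s⁻¹ : SL(2, F)) : M₂) * s = 1 := congrArg Subtype.val (inv_mul_cancel s)
  have e' : (s : M₂) * (s⁻¹ : SL(2, F)) = 1 := congrArg Subtype.val (mul_inv_cancel s)
  have h1 : (g : M₂) * A = A * s := by
    conv_rhs => rw [← hA]
    simp only [Matrix.mul_assoc, e, Matrix.mul_one]
  have h2 : (s : M₂).trace = (g : M₂).trace ^ 3 := by
    rw [trace_fin_two, trace_fin_two, ← frobenius_def, map_add]; rfl
  have h3 : (g : M₂) * g * A = A * (s * s) := by
    rw [Matrix.mul_assoc, h1, ← Matrix.mul_assoc, h1, Matrix.mul_assoc]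
  rw [sq_eq, sq_eq, g.det_coe, s.det_coe, h2, sub_mul, mul_sub, smul_mul_assoc, h1] at h3
  simp only [one_smul, Matrix.one_mul, Matrix.mul_one, sub_left_inj, Matrix.mul_smul] at h3
  rw [← sub_eq_zero, ← sub_smul, smul_eq_zero, sub_eq_zero] at h3
  have h4 := congrArg (· * ((s⁻¹ : SL(2, F)) : M₂)) (h3.resolve_left h.symm)
  simpa only [Matrix.mul_assoc, e', Matrix.mul_one, Matrix.zero_mul] using h4

theorem three_smul (A : M₂) : 3 • A = 0 := by
  ext i j
  simp [show (3 : F) = 0 from CharP.cast_eq_zero F 3]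

theorem norm_cases [Finite F] (k : ℤˣ × PSL(2, F)) (A : M₂)
    (hA : ∑ i ∈ Finset.range (orderOf k), k ^ i • A ≠ 0) : k ^ 4 = 1 ∨ k ^ 3 = 1 ∨
      (k.2 ^ 6 = 1 ∧ k.2 ^ 3 ≠ 1) := by
  obtain ⟨e, x⟩ := k
  have he : e ^ 2 = 1 := Int.units_sq e
  obtain ⟨g, hg⟩ := pslMk_surjective (x ^ 2)
  by_cases h : (g : M₂).trace ^ 3 = (g : M₂).trace
  · rcases cube_cases h with h | h
    · left
      have := pslMk_mul_self h
      rw [hg, ← pow_add] at this
      exact Prod.ext (show e ^ (2 * 2) = 1 by rw [pow_mul, he, one_pow]) this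
    · have := pslMk_pow_three h
      rw [hg, ← pow_mul] at this
      by_cases h3 : x ^ 3 = 1
      · rcases Int.units_eq_one_or e with rfl | rfl
        · exact Or.inr (Or.inl (Prod.ext (by simp) h3))
        · refine absurd (norm_eq_zero_of_pow_fpf _ 3 (fun v hv => ?_) A) hA
          rw [show ((-1 : ℤˣ), x) ^ 3 = (-1, pslMk F 1) from Prod.ext (by simp; rfl) h3,
            smul_eq] at hv
          simp only [Units.val_neg, Units.val_one, inv_one, map_one,
            Matrix.SpecialLinearGroup.coe_one,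
            Matrix.mul_one, Matrix.one_mul, neg_smul, one_smul] at hv
          have := three_smul v
          rw [succ_nsmul, two_nsmul] at this
          conv_lhs at this => lhs; lhs; rw [← hv]
          simpa using this
      · exact Or.inr (Or.inr ⟨this, h3⟩)
  · refine absurd (norm_eq_zero_of_pow_fpf _ 2 (fun v hv => fpf h v ?_) A) hA
    rwa [show (e, x) ^ 2 = (1, pslMk F g) from Prod.ext he hg.symm] at hv

theorem exists_nine : ∃ k : ℤˣ × PSL(2, F), orderOf k = 3 ∧ ∃ A : M₂,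
    ∑ i ∈ Finset.range 3, k ^ i • A ≠ 0 := by
  have h3 : (3 : F) = 0 := CharP.cast_eq_zero F 3
  refine ⟨(1, pslMk F (uSL 1)), orderOf_eq_prime (Prod.ext (by simp) (pslMk_pow_three ?_))
    fun e => ?_, !![0, 0; 1, 0], fun e => ?_⟩
  · simp [uSL, trace_fin_two]; linear_combination h3
  · simpa [uSL, IsScal] using pr_eq_one_iff.1 (congrArg Prod.snd e)
  · have := congrFun (congrFun e 0) 1
    simp only [Finset.sum_range_succ, Finset.sum_range_zero, pow_succ, pow_zero, mul_smul,
      one_smul, smul_eq] at this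
    simp [uSL, adjugate_fin_two] at this
    exact one_ne_zero (α := F) (by linear_combination this + 2 * h3)

theorem spec [Finite F] {q : ℕ} (hq : Nat.card F = q) (h8 : q % 8 = 3) (h3 : 3 ∣ q) (n : ℕ) :
    n ∈ Set.range (orderOf : Aff (ℤˣ × PSL(2, F)) M₂ → ℕ) ↔
      n ∣ 6 ∨ n ∣ 9 ∨ n ∣ q - 1 ∨ n ∣ (q + 1) / 2 := by
  have := aff_finite (G := ℤˣ × PSL(2, F)) (V := M₂)
  have hs := mem_range_orderOf_PSL2 (F := F) 3
  rw [hq, show Nat.gcd 2 (q - 1) = 2 from Nat.gcd_eq_left (by omega)] at hs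
  have k1 : ∀ k : ℤˣ × PSL(2, F), orderOf k ∈
      Set.range (orderOf : Aff (ℤˣ × PSL(2, F)) M₂ → ℕ) := fun k =>
    (mem_range_orderOf_aff 3 Nat.prime_three three_smul _).2 ⟨k, Or.inl rfl⟩
  have k2 : orderOf (-1 : ℤˣ) = 2 := orderOf_eq_prime (by simp) (by decide)
  constructor
  · intro hn
    obtain ⟨⟨e, x⟩, rfl | ⟨rfl, A, hA⟩⟩ :=
      (mem_range_orderOf_aff 3 Nat.prime_three three_smul _).1 hn
    · have he : orderOf e ∣ 2 := orderOf_dvd_of_pow_eq_one (Int.units_sq e)
      rw [Prod.orderOf_mk]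
      rcases (hs _).1 ⟨x, rfl⟩ with h | h | h
      · exact Or.inl (Nat.lcm_dvd (he.trans (by norm_num)) (h.trans (by norm_num)))
      · exact Or.inr (Or.inr (Or.inl (Nat.lcm_dvd (he.trans (by omega))
          (h.trans (Nat.div_dvd_of_dvd (by omega))))))
      · exact Or.inr (Or.inr (Or.inr (Nat.lcm_dvd (he.trans (by omega)) h)))
    · rcases norm_cases _ A hA with h | h | ⟨h, h'⟩
      · left
        have h4 : orderOf x ∣ 2 ^ 2 := orderOf_dvd_of_pow_eq_one (congrArg Prod.snd h)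
        have h5 := (hs _).1 ⟨x, rfl⟩
        have h6 : orderOf x ∣ 2 := by
          obtain ⟨i, hi, h⟩ := (Nat.dvd_prime_pow Nat.prime_two).1 h4
          rw [h] at h5 ⊢
          interval_cases i <;> omega
        have he : orderOf e ∣ 2 := orderOf_dvd_of_pow_eq_one (Int.units_sq e)
        rw [Prod.orderOf_mk]
        exact Nat.mul_dvd_mul_right (Nat.lcm_dvd he h6) 3
      · exact Or.inr (Or.inl (Nat.mul_dvd_mul_right (orderOf_dvd_of_pow_eq_one h) 3))
      · left
        have h4 : orderOf x ∣ 6 := orderOf_dvd_of_pow_eq_one h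
        have h5 := (hs _).1 ⟨x, rfl⟩
        rw [Ne, ← orderOf_dvd_iff_pow_eq_one] at h'
        have h6 : orderOf x ∣ 2 := by
          have := Nat.le_of_dvd (by norm_num) h4
          dsimp only at h'
          generalize orderOf x = m at *
          interval_cases m <;> omega
        have he : orderOf e ∣ 2 := orderOf_dvd_of_pow_eq_one (Int.units_sq e)
        rw [Prod.orderOf_mk]
        exact Nat.mul_dvd_mul_right (Nat.lcm_dvd he h6) 3
  · rintro (h | h | h | h) <;> refine mem_range_orderOf_of_dvd ?_ h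
    · obtain ⟨x, hx⟩ := (hs 3).2 (Or.inl dvd_rfl)
      have := k1 (-1, x)
      rwa [Prod.orderOf_mk, hx, k2] at this
    · obtain ⟨k, hk, A, hA⟩ := exists_nine (F := F)
      exact (mem_range_orderOf_aff 3 Nat.prime_three three_smul _).2
        ⟨k, Or.inr ⟨by rw [hk], A, by rwa [hk]⟩⟩
    · obtain ⟨x, hx⟩ := (hs _).2 (Or.inr (Or.inl dvd_rfl))
      have := k1 (-1, x)
      rwa [Prod.orderOf_mk, hx, k2, Nat.Coprime.lcm_eq_mul ((Nat.coprime_two_left).2
        (Nat.odd_iff.2 (by omega))), show 2 * ((q - 1) / 2) = q - 1 by omega] at this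
    · obtain ⟨x, hx⟩ := (hs _).2 (Or.inr (Or.inr dvd_rfl))
      simpa [Prod.orderOf_mk, hx] using k1 (1, x)

theorem main [Finite F] {q : ℕ} (hq : Nat.card F = q) (h8 : q % 8 = 3) (h3 : 3 ∣ q) :
    ∃ (H : Type) (_ : Group H) (_ : Fintype H),
      (∃ P : Subgroup H, P.Normal ∧ P ≠ ⊥ ∧ IsPGroup 3 ↥P) ∧ ∀ n,
      n ∈ Set.range (orderOf : H → ℕ) ↔ n ∣ 6 ∨ n ∣ 9 ∨ n ∣ q - 1 ∨ n ∣ (q + 1) / 2 := by
  have := aff_finite (G := ℤˣ × PSL(2, F)) (V := M₂)
  refine ⟨Aff (ℤˣ × PSL(2, F)) M₂, inferInstance, Fintype.ofFinite _,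
    ⟨SemidirectProduct.rightHom.ker, inferInstance, fun e => ?_, ?_⟩, spec hq h8 h3⟩
  · rw [← SemidirectProduct.range_inl_eq_ker_rightHom] at e
    have : (SemidirectProduct.inl (Multiplicative.ofAdd (1 : M₂)) : Aff (ℤˣ × PSL(2, F)) M₂) ∈
      (⊥ : Subgroup _) := e ▸ ⟨_, rfl⟩
    exact one_ne_zero (α := M₂) (congrArg (fun x => x.left.toAdd) (mem_bot.1 this))
  · rw [← SemidirectProduct.range_inl_eq_ker_rightHom]
    rintro ⟨_, v, rfl⟩
    refine ⟨1, Subtype.ext ?_⟩
    change SemidirectProduct.inl v ^ 3 ^ 1 = 1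
    rw [← map_pow, show v ^ 3 ^ 1 = 1 from three_smul v.toAdd, map_one]

end

/-- Let q = 3^α with α ≥ 3 odd. There is a finite group H having a non-trivial normal 3-subgroup and whose element orders maximal under divisibility are exactly 6, 9, q − 1 and (q + 1)/2. -/
theorem result (α : ℕ) (hα : 3 ≤ α) (hodd : Odd α) :
    ∃ (H : Type) (_ : Group H) (_ : Fintype H), (∃ P : Subgroup H, P.Normal ∧ P ≠ ⊥ ∧ IsPGroup 3 ↥P) ∧
      {n : ℕ | n ∈ Set.range (orderOf : H → ℕ) ∧ ∀ m ∈ Set.range (orderOf : H → ℕ), n ∣ m → m = n} = ({6, 9, 3 ^ α - 1, (3 ^ α + 1) / 2} : Set ℕ) := by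
  have hm := KSG.Solub.three_pow_mod hodd
  have h27 : 3 ^ 3 ≤ 3 ^ α := Nat.pow_le_pow_right three_pos hα
  have hd := dvd_pow_self 3 (show α ≠ 0 by omega)
  have := Nat.fact_prime_three
  obtain ⟨H, _, _, h1, h2⟩ := main (F := GaloisField 3 α) (GaloisField.card 3 α (by omega))
    (by omega) hd
  refine ⟨H, inferInstance, inferInstance, h1, ?_⟩
  generalize 3 ^ α = q at *
  ext n
  simp only [Set.mem_ofPred_eq, h2, Set.mem_insert_iff, Set.mem_singleton_iff]
  constructor
  · rintro ⟨h | h | h | h, h'⟩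
    · exact Or.inl (h' _ (by simp) h).symm
    · exact Or.inr (Or.inl (h' _ (by simp) h).symm)
    · exact Or.inr (Or.inr (Or.inl (h' _ (by simp) h).symm))
    · exact Or.inr (Or.inr (Or.inr (h' _ (by simp) h).symm))
  · have k : ∀ {m N n : ℕ}, m ∣ N → n ∣ m → ¬ n ∣ N → m = n := fun h h' h'' => absurd (h'.trans h) h''
    have l : ∀ {n N : ℕ}, 0 < N → N < n → ¬ n ∣ N := fun h h' => Nat.not_dvd_of_pos_of_lt h h'
    rintro (rfl | rfl | rfl | rfl) <;> refine ⟨by simp, ?_⟩ <;> rintro m (h | h | h | h) h'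
    · exact Nat.dvd_antisymm h h'
    · exact k h h' (by norm_num)
    · exact k h h' (by omega)
    · exact k h h' (by omega)
    · exact k h h' (by norm_num)
    · exact Nat.dvd_antisymm h h'
    · exact k h h' (by omega)
    · exact k h h' (by omega)
    · exact k h h' (l (by omega) (by omega))
    · exact k h h' (l (by omega) (by omega))
    · exact Nat.dvd_antisymm h h'
    · exact k h h' (l (by omega) (by omega))
    · exact k h h' (l (by omega) (by omega))
    · exact k h h' (l (by omega) (by omega))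
    · refine k h h' fun e => l (n := (q + 1) / 2) (N := q - 1 - (q + 1) / 2) (by omega) (by omega)
        (Nat.dvd_sub e dvd_rfl)
    · exact Nat.dvd_antisymm h h'

end Cfsg.Agent.S2515
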