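import Cfsg.Statements.S2649
import Cfsg.Agent.Spor.ModExtC

set_option autoImplicit false
open Cfsg

namespace Cfsg.Agent.S2649

open Cfsg.Agent.Spor Cfsg.Agent.Spor.MX Cfsg.Agent.Spor.GD in


/-- Extensions of the Mathieu group M₂₃ by its code module split. Let E be a finite group with a normal subgroup N, an isomorphism φ from E/N onto M₂₃ = `Spor.M23` (the stabiliser of the extra point `none` in M₂₄ acting on the 24 points `GolayPt`), and an injective additive homomorphism ψ from N onto the set of words of the binary Golay code `golayCode` that vanish at `none` (an 11-dimensional space over the field with two elements), such that conjugation by g ∈ E on N corresponds under ψ to the coordinate permutation w ↦ w ∘ σ⁻¹, σ the permutation φ(gN). Then N has a complement in E: some subgroup H meets N trivially and generates E together with N. (Equivalently, the second cohomology group of M₂₃ with coefficients in this module vanishes.) -/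
theorem result
    {E : Type*} [Group E] [Finite E] (N : Subgroup E) [hN : N.Normal]
    (φ : E ⧸ N ≃* ↥Cfsg.Spor.M23)
    (ψ : Additive ↥N →+ (Cfsg.GolayPt → ZMod 2)) (hinj : Function.Injective ψ)
    (hrange : ∀ w : Cfsg.GolayPt → ZMod 2, w ∈ Set.range ψ ↔ (w ∈ Cfsg.golayCode ∧ w none = 0))
    (hψ : ∀ (g : E) (n : ↥N),
      ψ (Additive.ofMul ⟨g * n * g⁻¹, hN.conj_mem n n.2 g⟩)
        = ψ (Additive.ofMul n) ∘ ⇑(((φ (QuotientGroup.mk g) : ↥Cfsg.Spor.M23) : Equiv.Perm Cfsg.GolayPt)⁻¹)) :
    ∃ H : Subgroup E, H ⊓ N = ⊥ ∧ H ⊔ N = ⊤ := by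
  have hc : Ctx (projP N φ) (fun w n => ∃ h : n ∈ N, ψ (Additive.ofMul ⟨n, h⟩) = w)
      (fun _ => true) domC ptM cB :=
    { zero := ⟨N.one_mem, ψ.map_zero⟩
      add := by
        rintro _ n _ n' ⟨h, rfl⟩ ⟨h', rfl⟩
        exact ⟨N.mul_mem h h', ψ.map_add (Additive.ofMul ⟨n, h⟩) (Additive.ofMul ⟨n', h'⟩)⟩
      act := by
        rintro _ n g ⟨h, rfl⟩
        exact ⟨hN.conj_mem n h g, hψ g ⟨n, h⟩⟩
      sur := fun n hn => ⟨_, (projP_eq_one N φ n).1 hn, rfl⟩
      ker := fun h => (projP_eq_one N φ _).2 h.1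
      two := by
        rintro _ _ n c - ⟨h, rfl⟩ ⟨h', rfl⟩
        rw [add_self', dot_zero_right]
      eq := by
        rintro _ n _ n' ⟨h, rfl⟩ ⟨h', rfl⟩ hd
        have h1 := (hrange _).1 ⟨Additive.ofMul ⟨n, h⟩, rfl⟩
        have h2 := (hrange _).1 ⟨Additive.ofMul ⟨n', h'⟩, rfl⟩
        have h3 := eq_zero_of_high (add_mem h1.1 h2.1) fun i hi hi' => by
          obtain ⟨j, rfl⟩ := Nat.exists_eq_add_of_le hi
          by_cases hj : j < 11
          · exact (dot_ptM hj _).symm.trans (hd j hj)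
          · rw [show 12 + j = 23 by omega, pt_23, Pi.add_apply, h1.2, h2.2, add_zero]
        exact congrArg Subtype.val (Additive.ofMul.injective (hinj (eq_of_add_eq_zero' h3)))
      dom := by
        rintro _ n m hm ⟨h, rfl⟩
        have h1 := (hrange _).1 ⟨Additive.ofMul ⟨n, h⟩, rfl⟩
        exact dot_domC hm h1.1 h1.2
      exi := fun j hj => by
        obtain ⟨n, hn⟩ := (hrange _).2 ⟨cB_mem hj, cB_none hj⟩
        exact ⟨n.toMul, n.toMul.2, hn⟩ }
  obtain ⟨x, w, hx⟩ := hc.exists_rules (projP_range N φ) C.codes_ok C.rules_ok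
  obtain ⟨y, h1, h2⟩ := hc.exists_lifts (by norm_num) C.check_ok hx (by simp [C.chi])
  obtain ⟨H, hH⟩ := hc.split (projP_range N φ) h1 h2
  rw [projP_ker] at hH
  exact ⟨H, hH.symm.disjoint.eq_bot, hH.symm.sup_eq_top⟩

end Cfsg.Agent.S2649
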