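import Cfsg.Statements.S2651
import Cfsg.Agent.Spor.ModExtV

set_option autoImplicit false
open Cfsg

namespace Cfsg.Agent.S2651

open Cfsg.Agent.Spor Cfsg.Agent.Spor.MX Cfsg.Agent.Spor.GD Cfsg.Agent.Comp Cfsg.Agent.Spor.M24C
open Cfsg.Agent.Spor.Parker (aL)

/-- An extension of `M23` by the cocode module. -/
structure Ext {E : Type*} [Group E] (π : E →* Equiv.Perm GolayPt) (Θ : W → E) : Prop where
  range : π.range = Cfsg.Spor.M23
  add : ∀ w w', Θ (w + w') = Θ w * Θ w'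
  act : ∀ g w, Θ (w ∘ ⇑(π g)⁻¹) = g * Θ w * g⁻¹
  sur : ∀ n, π n = 1 → ∃ w, Θ w = n
  ker : ∀ w, π (Θ w) = 1
  one : ∀ w, Θ w = 1 ↔ (w ∈ golayCode ∨ w + Pi.single none 1 ∈ golayCode)

theorem Ext.zero {E : Type*} [Group E] {π : E →* Equiv.Perm GolayPt} {Θ : W → E} (h : Ext π Θ) :
    Θ 0 = 1 := (h.one 0).2 (Or.inl (zero_mem _))

theorem Ext.sq {E : Type*} [Group E] {π : E →* Equiv.Perm GolayPt} {Θ : W → E} (h : Ext π Θ)
    (w : W) : Θ w * Θ w = 1 := by rw [← h.add, add_self', h.zero]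

theorem Ext.ctx {E : Type*} [Group E] {π : E →* Equiv.Perm GolayPt} {Θ : W → E} (h : Ext π Θ) :
    Ctx π (fun w n => Θ w = n) okV (fun m => Nat.beq m 0) cB ptM where
  zero := h.zero
  add := by rintro w _ w' _ rfl rfl; exact h.add w w'
  act := by rintro w _ g rfl; exact h.act g w
  sur := h.sur
  ker := by rintro w _ rfl; exact h.ker w
  two := by
    rintro w w' _ c hc rfl e
    refine dot_eq_zero_of_mem (okV_spec hc).1 (okV_spec hc).2 ((h.one _).1 ?_)
    rw [h.add, e, h.sq]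
  eq := by
    rintro w _ w' _ rfl rfl hd
    have := (h.one _).2 (mem_of_dot hd)
    rw [h.add] at this
    exact mul_right_cancel (this.trans (h.sq w').symm)
  dom := by
    rintro w _ m hm rfl
    rw [(beq_iff _ _).1 hm, wordOf_zero, dot_zero_left]
  exi := fun j _ => ⟨_, rfl⟩

theorem Ext.split {E : Type*} [Group E] [Finite E] {π : E →* Equiv.Perm GolayPt} {Θ : W → E}
    (h : Ext π Θ) {x : ℕ → E} {w : ℕ → W}
    (hx : Rules π (fun w n => Θ w = n) (aL ++ V.gL) (TR ++ V.HR) 46 x w)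
    (hchi : lf w 46 (V.chi.getD 0 0) = 0) : ∃ H : Subgroup E, Subgroup.IsComplement' π.ker H := by
  obtain ⟨y, h1, h2⟩ := h.ctx.exists_lifts (by norm_num) V.check_ok hx (by
    intro F hF
    obtain rfl : F = V.chi.getD 0 0 := List.mem_singleton.1 hF
    exact hchi)
  exact h.ctx.split h.range h1 h2

theorem map_ev {E F : Type*} [Group E] [Group F] (f : E →* F) (x : ℕ → E) (u : List ℕ) :
    f (ev x u) = ev (fun i => f (x i)) u := by
  rw [ev, ev, map_list_prod, List.map_map]; rfl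

theorem unique {E E' : Type*} [Group E] [Finite E] [Group E'] [Finite E']
    {π : E →* Equiv.Perm GolayPt} {Θ : W → E} (h : Ext π Θ)
    {π' : E' →* Equiv.Perm GolayPt} {Θ' : W → E'} (h' : Ext π' Θ')
    (hns : ¬∃ H : Subgroup E, Subgroup.IsComplement' π.ker H)
    (hns' : ¬∃ H : Subgroup E', Subgroup.IsComplement' π'.ker H) : Nonempty (E ≃* E') := by
  obtain ⟨x, w, hx⟩ := h.ctx.exists_rules h.range V.codes_ok V.rules_ok
  obtain ⟨x', w', hx'⟩ := h'.ctx.exists_rules h'.range V.codes_ok V.rules_ok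
  have c1 : lf w 46 (V.chi.getD 0 0) = 1 :=
    (zmod2_cases _).resolve_left fun e => hns (h.split hx e)
  have c2 : lf w' 46 (V.chi.getD 0 0) = 1 :=
    (zmod2_cases _).resolve_left fun e => hns' (h'.split hx' e)
  let F : Subgroup (E × E') :=
    (π.comp (MonoidHom.fst E E')).eqLocus (π'.comp (MonoidHom.snd E E'))
  have hF : ∀ p : F, π p.1.1 = π' p.1.2 := fun p => p.2
  let pr : W → W → F := fun a b => ⟨(Θ a, Θ' b), (h.ker a).trans (h'.ker b).symm⟩
  have pr_add : ∀ a b c d, pr (a + c) (b + d) = pr a b * pr c d := fun a b c d =>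
    Subtype.ext (Prod.ext (h.add a c) (h'.add b d))
  have pr_zero : pr 0 0 = 1 := Subtype.ext (Prod.ext h.zero h'.zero)
  have pr_act : ∀ (g : F) a b, pr (a ∘ ⇑(π g.1.1)⁻¹) (b ∘ ⇑(π g.1.1)⁻¹) = g * pr a b * g⁻¹ :=
    fun g a b => Subtype.ext (Prod.ext (h.act g.1.1 a) (by rw [hF g]; exact h'.act g.1.2 b))
  let Δ : Subgroup F :=
    { carrier := Set.range fun a => pr a a
      mul_mem' := by rintro _ _ ⟨a, rfl⟩ ⟨b, rfl⟩; exact ⟨a + b, pr_add _ _ _ _⟩
      one_mem' := ⟨0, pr_zero⟩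
      inv_mem' := by
        rintro _ ⟨a, rfl⟩
        refine ⟨a, eq_inv_of_mul_eq_one_left ?_⟩
        rw [← pr_add, add_self', pr_zero] }
  have : Δ.Normal := ⟨by rintro _ ⟨a, rfl⟩ g; exact ⟨_, pr_act g a a⟩⟩
  let p1 : F →* E := (MonoidHom.fst E E').comp F.subtype
  let p2 : F →* E' := (MonoidHom.snd E E').comp F.subtype
  let πQ : F ⧸ Δ →* Equiv.Perm GolayPt := QuotientGroup.lift Δ (π.comp p1) (by
    rintro _ ⟨a, rfl⟩; exact h.ker a)
  have hπQ : ∀ p : F, πQ (QuotientGroup.mk p) = π p.1.1 := fun p => rfl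
  let ΘQ : W → F ⧸ Δ := fun a => QuotientGroup.mk (pr a 0)
  have hpr : ∀ a b, (QuotientGroup.mk (pr a b) : F ⧸ Δ) = ΘQ (a + b) := fun a b => by
    have : pr (a + b) 0 = pr a b * pr b b := by rw [← pr_add, add_self']
    simp only [ΘQ, this, QuotientGroup.mk_mul]
    rw [(QuotientGroup.eq_one_iff (N := Δ) (pr b b)).2 ⟨b, rfl⟩, mul_one]
  have hlift : ∀ e : E, ∃ e' : E', π e = π' e' := fun e => by
    have : π e ∈ π'.range := by rw [h'.range, ← h.range]; exact ⟨e, rfl⟩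
    obtain ⟨e', he⟩ := this
    exact ⟨e', he.symm⟩
  have hlift' : ∀ e' : E', ∃ e : E, π e = π' e' := fun e' => by
    have : π' e' ∈ π.range := by rw [h.range, ← h'.range]; exact ⟨e', rfl⟩
    exact this
  have hQ : Ext πQ ΘQ :=
    { range := by
        rw [← h.range]
        ext σ
        constructor
        · rintro ⟨q, rfl⟩
          obtain ⟨p, rfl⟩ := QuotientGroup.mk_surjective q
          exact ⟨p.1.1, rfl⟩
        · rintro ⟨e, rfl⟩
          obtain ⟨e', he⟩ := hlift e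
          exact ⟨QuotientGroup.mk ⟨(e, e'), he⟩, rfl⟩
      add := fun a b => by
        simp only [ΘQ]
        rw [← QuotientGroup.mk_mul, ← pr_add, add_zero]
      act := fun q a => by
        obtain ⟨p, rfl⟩ := QuotientGroup.mk_surjective q
        simp only [ΘQ]
        rw [← QuotientGroup.mk_inv, ← QuotientGroup.mk_mul, ← QuotientGroup.mk_mul, ← pr_act]
        rfl
      sur := fun q hq => by
        obtain ⟨p, rfl⟩ := QuotientGroup.mk_surjective q
        obtain ⟨a, ha⟩ := h.sur p.1.1 hq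
        obtain ⟨b, hb⟩ := h'.sur p.1.2 ((hF p).symm.trans hq)
        exact ⟨a + b, by rw [← hpr]; exact congrArg _ (Subtype.ext (Prod.ext ha hb))⟩
      ker := fun a => h.ker a
      one := fun a => by
        rw [← h.one]
        constructor
        · intro e
          obtain ⟨b, hb⟩ := (QuotientGroup.eq_one_iff _).1 e
          have e1 : Θ b = Θ a := congrArg (fun p : F => p.1.1) hb
          have e2 : Θ' b = Θ' 0 := congrArg (fun p : F => p.1.2) hb
          rw [← e1, h.one, ← h'.one, e2, h'.zero]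
        · intro e
          have : pr a 0 = 1 := Subtype.ext (Prod.ext e h'.zero)
          simp only [ΘQ, this, QuotientGroup.mk_one] }
  let y : ℕ → F := fun i => ⟨(x i, x' i), code_injective ((hx.1 i).trans (hx'.1 i).symm)⟩
  have hy : Rules πQ (fun w n => ΘQ w = n) (aL ++ V.gL) (TR ++ V.HR) 46
      (fun i => QuotientGroup.mk' Δ (y i)) (w + w') := by
    refine ⟨hx.1, fun r hr => ⟨_, rfl, ?_⟩⟩
    obtain ⟨_, rfl, e⟩ := hx.2 r hr
    obtain ⟨_, rfl, e'⟩ := hx'.2 r hr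
    rw [← map_ev, ← map_ev, Pi.add_apply, ← hpr, QuotientGroup.mk'_apply, QuotientGroup.mk'_apply,
      ← QuotientGroup.mk_mul]
    congr 1
    refine Subtype.ext (Prod.ext ?_ ?_)
    · change p1 _ = Θ _ * p1 _
      rw [map_ev, map_ev]; exact e
    · change p2 _ = Θ' _ * p2 _
      rw [map_ev, map_ev]; exact e'
  obtain ⟨H, hH⟩ := hQ.split hy (by rw [lf_add, c1, c2]; rfl)
  let K : Subgroup F := H.comap (QuotientGroup.mk' Δ)
  have hK : ∀ p : K, π p.1.1.1 = 1 → ∃ a, pr a a = p.1 := fun p hp => by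
    have : (QuotientGroup.mk p.1 : F ⧸ Δ) ∈ πQ.ker ⊓ H := ⟨hp, p.2⟩
    rw [hH.disjoint.eq_bot, Subgroup.mem_bot] at this
    exact (QuotientGroup.eq_one_iff _).1 this
  have hK' : ∀ p : F, ∃ a, (pr a 0)⁻¹ * p ∈ K ∧ (pr 0 a)⁻¹ * p ∈ K := fun p => by
    have : (QuotientGroup.mk p : F ⧸ Δ) ∈ πQ.ker ⊔ H := hH.sup_eq_top ▸ Subgroup.mem_top _
    obtain ⟨k, hk, z, hz, e⟩ := Subgroup.mem_sup_of_normal_left.1 this
    obtain ⟨a, rfl⟩ := hQ.sur k hk
    refine ⟨a, ?_, ?_⟩ <;>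
      rw [Subgroup.mem_comap, map_mul, map_inv, QuotientGroup.mk'_apply, QuotientGroup.mk'_apply,
        hpr, ← e] <;> simpa using hz
  have b1 : Function.Bijective (p1.comp K.subtype) := by
    refine ⟨(injective_iff_map_eq_one _).2 fun p hp => ?_, fun e => ?_⟩
    · have hp' : p.1.1.1 = 1 := hp
      obtain ⟨a, ha⟩ := hK p (by rw [hp', map_one])
      have e1 : Θ a = 1 := (congrArg (fun p : F => p.1.1) ha).trans hp'
      have e2 : Θ' a = 1 := by rw [h'.one, ← h.one, e1]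
      exact Subtype.ext (ha.symm.trans (Subtype.ext (Prod.ext e1 e2)))
    · obtain ⟨e', he⟩ := hlift e
      obtain ⟨a, -, ha⟩ := hK' ⟨(e, e'), he⟩
      refine ⟨⟨_, ha⟩, ?_⟩
      change (Θ 0)⁻¹ * e = e
      rw [h.zero, inv_one, one_mul]
  have b2 : Function.Bijective (p2.comp K.subtype) := by
    refine ⟨(injective_iff_map_eq_one _).2 fun p hp => ?_, fun e' => ?_⟩
    · have hp' : p.1.1.2 = 1 := hp
      obtain ⟨a, ha⟩ := hK p (by rw [hF, hp', map_one])
      have e2 : Θ' a = 1 := (congrArg (fun p : F => p.1.2) ha).trans hp'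
      have e1 : Θ a = 1 := by rw [h.one, ← h'.one, e2]
      exact Subtype.ext (ha.symm.trans (Subtype.ext (Prod.ext e1 e2)))
    · obtain ⟨e, he⟩ := hlift' e'
      obtain ⟨a, ha, -⟩ := hK' ⟨(e, e'), he⟩
      refine ⟨⟨_, ha⟩, ?_⟩
      change (Θ' 0)⁻¹ * e' = e'
      rw [h'.zero, inv_one, one_mul]
  exact ⟨(MulEquiv.ofBijective _ b1).symm.trans (MulEquiv.ofBijective _ b2)⟩

theorem ext_of {E : Type*} [Group E] (N : Subgroup E) [hN : N.Normal]
    (φ : E ⧸ N ≃* ↥Cfsg.Spor.M23) (θ : (Cfsg.GolayPt → ZMod 2) →+ Additive ↥N)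
    (hsurj : Function.Surjective θ)
    (hker : ∀ w : Cfsg.GolayPt → ZMod 2, θ w = 0 ↔
      (w ∈ Cfsg.golayCode ∨ w + Pi.single none 1 ∈ Cfsg.golayCode))
    (hθ : ∀ (g : E) (w : Cfsg.GolayPt → ZMod 2),
      ((θ (w ∘ ⇑(((φ (QuotientGroup.mk g) : ↥Cfsg.Spor.M23) : Equiv.Perm Cfsg.GolayPt)⁻¹))).toMul
        : E) = g * ((θ w).toMul : E) * g⁻¹) :
    Ext (projP N φ) fun w => ((θ w).toMul : E) where
  range := projP_range N φ
  add w w' := by rw [map_add]; rfl
  act := hθ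
  sur n hn := by
    obtain ⟨w, hw⟩ := hsurj (Additive.ofMul ⟨n, (projP_eq_one N φ n).1 hn⟩)
    exact ⟨w, by rw [hw]; rfl⟩
  ker w := (projP_eq_one N φ _).2 (θ w).toMul.2
  one w := by
    rw [← hker]
    exact ⟨fun e => Additive.toMul.injective (Subtype.ext e), fun e => by rw [e]; rfl⟩



/-- The non-split extension of the Mathieu group M₂₃ by its cocode module is unique. Suppose E and E' are finite groups, each with a normal subgroup (N, N'), an isomorphism of the quotient onto M₂₃ = `Spor.M23`, and a surjective additive homomorphism from the binary words on the 24 points `GolayPt` onto the normal subgroup with kernel the Golay code `golayCode` together with its translate by the unit vector at the extra point `none`, intertwining the coordinate permutation w ↦ w ∘ σ⁻¹ (σ the image of gN) with conjugation by g; and suppose that in each group the normal subgroup has no complement. Then E and E' are isomorphic. -/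
theorem result
    {E : Type*} [Group E] [Finite E] (N : Subgroup E) [hN : N.Normal]
    (φ : E ⧸ N ≃* ↥Cfsg.Spor.M23) (θ : (Cfsg.GolayPt → ZMod 2) →+ Additive ↥N)
    (hsurj : Function.Surjective θ)
    (hker : ∀ w : Cfsg.GolayPt → ZMod 2, θ w = 0 ↔ (w ∈ Cfsg.golayCode ∨ w + Pi.single none 1 ∈ Cfsg.golayCode))
    (hθ : ∀ (g : E) (w : Cfsg.GolayPt → ZMod 2),
      ((θ (w ∘ ⇑(((φ (QuotientGroup.mk g) : ↥Cfsg.Spor.M23) : Equiv.Perm Cfsg.GolayPt)⁻¹))).toMul : E)
        = g * ((θ w).toMul : E) * g⁻¹)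
    (hns : ∀ H : Subgroup E, H ⊓ N = ⊥ → H ⊔ N ≠ ⊤)
    {E' : Type*} [Group E'] [Finite E'] (N' : Subgroup E') [hN' : N'.Normal]
    (φ' : E' ⧸ N' ≃* ↥Cfsg.Spor.M23) (θ' : (Cfsg.GolayPt → ZMod 2) →+ Additive ↥N')
    (hsurj' : Function.Surjective θ')
    (hker' : ∀ w : Cfsg.GolayPt → ZMod 2, θ' w = 0 ↔ (w ∈ Cfsg.golayCode ∨ w + Pi.single none 1 ∈ Cfsg.golayCode))
    (hθ' : ∀ (g : E') (w : Cfsg.GolayPt → ZMod 2),
      ((θ' (w ∘ ⇑(((φ' (QuotientGroup.mk g) : ↥Cfsg.Spor.M23) : Equiv.Perm Cfsg.GolayPt)⁻¹))).toMul : E')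
        = g * ((θ' w).toMul : E') * g⁻¹)
    (hns' : ∀ H : Subgroup E', H ⊓ N' = ⊥ → H ⊔ N' ≠ ⊤) :
    Nonempty (E ≃* E') := by
  refine unique (ext_of N φ θ hsurj hker hθ) (ext_of N' φ' θ' hsurj' hker' hθ') ?_ ?_
  · rintro ⟨H, hH⟩
    rw [projP_ker] at hH
    exact hns H hH.symm.disjoint.eq_bot hH.symm.sup_eq_top
  · rintro ⟨H, hH⟩
    rw [projP_ker] at hH
    exact hns' H hH.symm.disjoint.eq_bot hH.symm.sup_eq_top

end Cfsg.Agent.S2651
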