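import Cfsg.Statements.S2758
import Mathlib
import Cfsg.Agent.PLocal.S4Rec

set_option autoImplicit false
open Cfsg

namespace Cfsg.Agent.S2758

open Subgroup Cfsg.Agent.PLocal Cfsg.Agent.PLocal.S4Rec Cfsg.Agent.PLocal.Amb

/-- For an odd prime p and a finite group G the following are equivalent: the dihedral group of order 2p is involved in G; some element of 2-power order normalizes but does not centralize some p-subgroup of G; some element of 2-power order inverts some nonidentity element of p-power order. -/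
theorem result {G : Type*} [Group G] [Finite G] {p : ℕ} [Fact p.Prime] (hp : p ≠ 2) : (Cfsg.Involves (DihedralGroup p) G ↔ ∃ (x : G) (P : Subgroup G), (∃ k : ℕ, orderOf x = 2 ^ k) ∧ IsPGroup p ↥P ∧ x ∈ Subgroup.normalizer (P : Set G) ∧ x ∉ Subgroup.centralizer (P : Set G)) ∧ (Cfsg.Involves (DihedralGroup p) G ↔ ∃ x y : G, (∃ k : ℕ, orderOf x = 2 ^ k) ∧ (∃ k : ℕ, orderOf y = p ^ k) ∧ y ≠ 1 ∧ x * y * x⁻¹ = y⁻¹) := by
  have hpp : p.Prime := Fact.out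
  have e : ∀ {q : ℕ} [Fact q.Prime] {x : G}, (∃ k, orderOf x = q ^ k) ↔ ∃ k, x ^ q ^ k = 1 :=
    fun {q} _ {x} => ⟨fun ⟨k, hk⟩ => ⟨k, hk ▸ pow_orderOf_eq_one x⟩, fun ⟨k, hk⟩ => by
      obtain ⟨j, -, hj⟩ := (Nat.dvd_prime_pow Fact.out).1 (orderOf_dvd_of_pow_eq_one hk)
      exact ⟨j, hj⟩⟩
  have : Fact (Nat.Prime 2) := ⟨Nat.prime_two⟩
  have h1 : Cfsg.Involves (DihedralGroup p) G → ∃ (x : G) (P : Subgroup G), (∃ k : ℕ, orderOf x = 2 ^ k) ∧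
      IsPGroup p ↥P ∧ x ∈ 𝐍[P] ∧ x ∉ 𝐂[P] := fun h => by
    simp only [e]
    refine exists_not_cent_of_sec (SecNorm.involves_iff.1 h) (s := .sr 0) (r := .r 1) (by simp)
      (by simp) (by simp) fun h => hp ?_
    have := orderOf_dvd_of_pow_eq_one ((pow_two _).trans h)
    rw [DihedralGroup.orderOf_r_one] at this
    exact (Nat.prime_dvd_prime_iff_eq hpp Nat.prime_two).1 this
  have h2 : (∃ (x : G) (P : Subgroup G), (∃ k : ℕ, orderOf x = 2 ^ k) ∧ IsPGroup p ↥P ∧ x ∈ 𝐍[P] ∧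
      x ∉ 𝐂[P]) → ∃ x y : G, (∃ k : ℕ, orderOf x = 2 ^ k) ∧ (∃ k : ℕ, orderOf y = p ^ k) ∧ y ≠ 1 ∧
      x * y * x⁻¹ = y⁻¹ := by
    rintro ⟨x, P, hx, hP, hn, hc⟩
    obtain ⟨u, y, hu, hy, hy1, h⟩ := exists_inverted (e.1 hx) hn hc
    exact ⟨u, y, e.2 hu, e.2 (isPGroup_iff.1 hP y hy), hy1, h⟩
  have h3 : (∃ x y : G, (∃ k : ℕ, orderOf x = 2 ^ k) ∧ (∃ k : ℕ, orderOf y = p ^ k) ∧ y ≠ 1 ∧
      x * y * x⁻¹ = y⁻¹) → Cfsg.Involves (DihedralGroup p) G := by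
    rintro ⟨x, y, hx, hy, hy1, h⟩
    obtain ⟨j, h1, h2⟩ := exists_pow_prime (e.1 hy) hy1
    exact SecNorm.involves_iff.2 (sec_dihedral_of_inverts hp (e.1 hx) h1 h2
      (by rw [← conj_pow, h, inv_pow]))
  exact ⟨⟨h1, fun h => h3 (h2 h)⟩, fun h => h2 (h1 h), h3⟩

end Cfsg.Agent.S2758
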