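import Cfsg.Statements.S2764
import Mathlib
import Cfsg.Agent.PLocal.StellFinal

set_option autoImplicit false
open Cfsg

namespace Cfsg.Agent.S2764

open Subgroup Cfsg.Agent.PLocal Cfsg.Agent.PLocal.Amb Cfsg.Agent.PLocal.Stell Cfsg.Agent.PLocal.SL2Nat Cfsg.Agent.PLocal.CommMod

/-- Pushing up for a rank-one quotient: let G be a finite group and p a prime with C_G(O_p(G)) ≤ O_p(G), suppose G/K ≅ PSL₂(p^n) for some normal subgroup K and some n ≥ 1, that a Sylow p-subgroup S of G lies in exactly one maximal subgroup of G, and that no nontrivial characteristic subgroup of S is normal in G. Then G/O_p(G) ≅ SL₂(p^n), and every noncentral chief factor U/W of G inside O_p(G) is a natural SL₂-module over the field with p^n elements for the action of G/W. -/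
theorem result {G : Type*} [Group G] [Finite G] {p : ℕ} [Fact p.Prime] (S : Sylow p G) (hE₁ : Subgroup.centralizer (Cfsg.pCore p G : Set G) ≤ Cfsg.pCore p G) (hE₂ : ∃! M : Subgroup G, IsCoatom M ∧ (S : Subgroup G) ≤ M) (K : Subgroup G) [K.Normal] (F : Type) [Field F] [Fintype F] (n : ℕ) (hn : 1 ≤ n) (hF : Fintype.card F = p ^ n) (hE₃ : Nonempty (G ⧸ K ≃* Matrix.ProjectiveSpecialLinearGroup (Fin 2) F)) (hd : ∀ T : Subgroup ↥(S : Subgroup G), T ≠ ⊥ → T.Characteristic → ¬ (T.map (S : Subgroup G).subtype).Normal) : Nonempty (G ⧸ Cfsg.pCore p G ≃* Matrix.SpecialLinearGroup (Fin 2) F) ∧ ∀ (U W : Subgroup G) [W.Normal], U ≤ Cfsg.pCore p G → Cfsg.IsChiefFactor U W → ¬ ⁅U, (⊤ : Subgroup G)⁆ ≤ W → Cfsg.IsNaturalSL2Module F (U.map (QuotientGroup.mk' W)) (⊤ : Subgroup (G ⧸ W)) := by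
  have hQ : (pCore p G).Normal := by
    have := le_normalizer_pCoreOf p (⊤ : Subgroup G)
    rw [pCoreOf_top] at this
    exact normalizer_eq_top_iff.1 (eq_top_iff.2 this)
  have hC : ∀ {C : Subgroup G}, C ≤ 𝐂[(⊤ : Subgroup G)] → C.Normal ∧ ∃ k, iterCommutator C ⊤ k ≤ ⊥ :=
    fun h => ⟨normalizer_eq_top_iff.1 (eq_top_iff.2 (le_normalizer_of_cent h)), 1,
      commutator_le_of_cent h⟩
  rcases pushing_up S hE₁ hE₂ K hF hE₃ hd with h | h
  · obtain ⟨Z, C, h1, -, ⟨D, h3⟩, h4⟩ := h.nat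
    refine ⟨D.nonempty_quotient_equiv _ h3, fun U W _ hU hc hn => ?_⟩
    obtain ⟨_, h5⟩ := hC h1
    refine chief_natural hc D (chief_inf_le_of_iter hc hn h5 (inf_le_right.trans bot_le)) fun e => ?_
    exact hc.1.not_ge (le_trans (le_inf le_rfl hU) (chief_inf_le_of_iter hc hn h4 e))
  · obtain ⟨Z, C, W₁, N, h1, -, -, h2, ⟨D, h3⟩, ⟨D'⟩, h4⟩ := h.nat
    refine ⟨D.nonempty_quotient_equiv _ h3, fun U W _ hU hc hn => ?_⟩
    obtain ⟨_, h5⟩ := hC h1
    by_cases e : U ⊓ Z ≤ W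
    · have := D'.isChiefFactor.2.2.1
      refine chief_natural hc D' (chief_inf_le_of_iter hc hn ⟨1, h2⟩ e) fun e => ?_
      exact hc.1.not_ge (le_trans (le_inf le_rfl hU) (chief_inf_le_of_iter hc hn h4 e))
    · exact chief_natural hc D (chief_inf_le_of_iter hc hn h5 (inf_le_right.trans bot_le)) e

end Cfsg.Agent.S2764
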