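import Cfsg.Statements.S2765
import Mathlib
import Cfsg.Agent.PLocal.StellFinal

set_option autoImplicit false
open Cfsg

namespace Cfsg.Agent.S2765

open Subgroup Cfsg.Agent.PLocal Cfsg.Agent.PLocal.Amb Cfsg.Agent.PLocal.Stell Cfsg.Agent.PLocal.SL2Nat Cfsg.Agent.PLocal.CommMod

/-- In the same pushing-up situation (G finite, C_G(O_p(G)) ≤ O_p(G), G/K ≅ PSL₂(p^n) with n ≥ 1, a Sylow p-subgroup S in exactly one maximal subgroup, no nontrivial characteristic subgroup of S normal in G), one of the following holds: (I) S has nilpotency class 2, exponent 4 if p = 2 and exponent p otherwise, and G has exactly one noncentral chief factor inside O_p(G); or (II) p = 3, S has class 3 and exponent 9, and G has exactly two noncentral chief factors inside O_p(G). 'Exactly one' is phrased as: some noncentral chief factor U/W inside O_p(G) with G acting hypercentrally on W and on O_p(G)/U;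 'exactly two' analogously with a chain. -/
theorem result {G : Type*} [Group G] [Finite G] {p : ℕ} [Fact p.Prime] (S : Sylow p G) (hE₁ : Subgroup.centralizer (Cfsg.pCore p G : Set G) ≤ Cfsg.pCore p G) (hE₂ : ∃! M : Subgroup G, IsCoatom M ∧ (S : Subgroup G) ≤ M) (K : Subgroup G) [K.Normal] (F : Type) [Field F] [Fintype F] (n : ℕ) (hn : 1 ≤ n) (hF : Fintype.card F = p ^ n) (hE₃ : Nonempty (G ⧸ K ≃* Matrix.ProjectiveSpecialLinearGroup (Fin 2) F)) (hd : ∀ T : Subgroup ↥(S : Subgroup G), T ≠ ⊥ → T.Characteristic → ¬ (T.map (S : Subgroup G).subtype).Normal) : ((S : Subgroup G).lowerCentralSeries 2 = ⊥ ∧ (S : Subgroup G).lowerCentralSeries 1 ≠ ⊥ ∧ (p = 2 → Monoid.exponent ↥(S : Subgroup G) = 4) ∧ (p ≠ 2 → Monoid.exponent ↥(S : Subgroup G) = p) ∧ (∃ U W : Subgroup G, W ≤ U ∧ U ≤ (Cfsg.pCore p G) ∧ Cfsg.IsChiefFactor U W ∧ ¬ ⁅U, (⊤ : Subgroup G)⁆ ≤ W ∧ (∃ k : ℕ, Cfsg.iterCommutator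 W ⊤ k = ⊥) ∧ (∃ k : ℕ, Cfsg.iterCommutator (Cfsg.pCore p G) ⊤ k ≤ U))) ∨ (p = 3 ∧ (S : Subgroup G).lowerCentralSeries 3 = ⊥ ∧ (S : Subgroup G).lowerCentralSeries 2 ≠ ⊥ ∧ Monoid.exponent ↥(S : Subgroup G) = 9 ∧ (∃ U₁ W₁ U₂ W₂ : Subgroup G, W₁ ≤ U₁ ∧ U₁ ≤ W₂ ∧ W₂ ≤ U₂ ∧ U₂ ≤ (Cfsg.pCore p G) ∧ Cfsg.IsChiefFactor U₁ W₁ ∧ Cfsg.IsChiefFactor U₂ W₂ ∧ ¬ ⁅U₁, (⊤ : Subgroup G)⁆ ≤ W₁ ∧ ¬ ⁅U₂, (⊤ : Subgroup G)⁆ ≤ W₂ ∧ (∃ k : ℕ, Cfsg.iterCommutator W₁ ⊤ k = ⊥) ∧ (∃ k : ℕ, Cfsg.iterCommutator W₂ ⊤ k ≤ U₁) ∧ (∃ k : ℕ, Cfsg.iterCommutator (Cfsg.pCore p G) ⊤ k ≤ U₂))) := by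
  have hp : p.Prime := Fact.out
  have hC : ∀ {C : Subgroup G}, C ≤ 𝐂[(⊤ : Subgroup G)] → ∃ k, iterCommutator C ⊤ k = ⊥ :=
    fun h => ⟨1, le_bot_iff.1 (commutator_le_of_cent h)⟩
  have hexp : ∀ m, Monoid.exponent (S : Subgroup G) ∣ m ↔ ∀ s ∈ (S : Subgroup G), s ^ m = 1 := fun m => by
    rw [Monoid.exponent_dvd_iff_forall_pow_eq_one]
    exact ⟨fun h s hs => congrArg Subtype.val (h ⟨s, hs⟩), fun h s => Subtype.ext (h s s.2)⟩
  simp only [← iter_eq_lowerCentralSeries]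
  rcases pushing_up S hE₁ hE₂ K hF hE₃ hd with h | h
  · obtain ⟨Z, C, h1, h2, ⟨D, -⟩, h4⟩ := h.nat
    have h5 : ¬ Monoid.exponent (S : Subgroup G) ∣ 2 := fun e => h.ne (by
      refine commutator_eq_bot_iff_le_centralizer.2 fun a ha b hb => ?_
      have i : ∀ s ∈ (S : Subgroup G), s⁻¹ = s := fun s hs => by
        rw [inv_eq_iff_mul_eq_one, ← sq, (hexp 2).1 e s hs]
      rw [← i _ (mul_mem hb ha), mul_inv_rev, i a ha, i b hb])
    refine Or.inl ⟨h.cls, h.ne, fun e => ?_, fun e => ?_, Z, C, D.le, h2, D.isChiefFactor,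
      D.not_commutator_le, hC h1, h4⟩
    · obtain ⟨i, hi, e'⟩ := (Nat.dvd_prime_pow Nat.prime_two (m := 2)).1 ((hexp 4).2 (h.exp2 e))
      rw [e'] at h5 ⊢
      interval_cases i <;> simp at h5 ⊢
    · exact ((Nat.dvd_prime hp).1 ((hexp p).2 (h.exp e))).resolve_left fun e' => h5 (e' ▸ one_dvd 2)
  · obtain ⟨Z, C, W, N, h1, h2, h3, h4, ⟨D, -⟩, ⟨D'⟩, h6⟩ := h.nat
    obtain ⟨x, hx, v, hv, e⟩ := h.ne
    refine Or.inr ⟨h.three, h.cls, fun e' => e ?_, ?_, Z, C, W, N, D.le, h2, D'.le, h3,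
      D.isChiefFactor, D'.isChiefFactor, D.not_commutator_le, D'.not_commutator_le, hC h1, ⟨1, h4⟩, h6⟩
    · rw [iter_two, Subgroup.commutator_comm] at e'
      exact mem_bot.1 (e' ▸ commutator_mem_commutator hx (commutator_mem_commutator hx hv))
    · have h5 : ¬ Monoid.exponent (S : Subgroup G) ∣ 3 := fun e' => by
        have i := (hexp 3).1 e'
        exact e (comm_comm_eq_one_of_cube (i x hx) (i v hv) (i _ (mul_mem hx hv))
          (i _ (mul_mem hx (inv_mem hv))))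
      obtain ⟨i, hi, e'⟩ := (Nat.dvd_prime_pow Nat.prime_three (m := 2)).1 ((hexp 9).2 h.exp)
      rw [e'] at h5 ⊢
      interval_cases i <;> simp at h5 ⊢

end Cfsg.Agent.S2765
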