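import Cfsg.Statements.S2766
import Mathlib
import Cfsg.Agent.PLocal.StellFinal

set_option autoImplicit false
open Cfsg

namespace Cfsg.Agent.S2766

open Subgroup Cfsg.Agent.PLocal Cfsg.Agent.PLocal.Amb Cfsg.Agent.PLocal.Stell Cfsg.Agent.PLocal.SL2Nat Cfsg.Agent.PLocal.CommMod

/-- Let p ≥ 5 be prime and G a maximal p-local subgroup of a finite group H (G is the normalizer of a nontrivial p-subgroup and lies in no other such normalizer). Suppose C_G(O_p(G)) ≤ O_p(G), G/K ≅ PSL₂(p^n) for some normal K and n ≥ 1, a Sylow p-subgroup S of G lies in exactly one maximal subgroup of G, and N_H(S) is not contained in G. Then G = G₀ × E for subgroups G₀ ≅ Qd(p^n) (the natural semidirect product of the plane over the field with p^n elements by SL₂) and E an elementary abelian p-group. -/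
theorem result {H : Type*} [Group H] [Finite H] {p : ℕ} [Fact p.Prime] (hp : 5 ≤ p) (G : Subgroup H) (hloc : ∃ R : Subgroup H, IsPGroup p ↥R ∧ R ≠ ⊥ ∧ G = Subgroup.normalizer (R : Set H)) (hmax : ∀ R : Subgroup H, IsPGroup p ↥R → R ≠ ⊥ → G ≤ Subgroup.normalizer (R : Set H) → Subgroup.normalizer (R : Set H) = G) (S : Sylow p ↥G) (hE₁ : Subgroup.centralizer (Cfsg.pCore p ↥G : Set ↥G) ≤ Cfsg.pCore p ↥G) (hE₂ : ∃! M : Subgroup ↥G, IsCoatom M ∧ (S : Subgroup ↥G) ≤ M) (K : Subgroup ↥G) [K.Normal] (F : Type) [Field F] [Fintype F] (n : ℕ) (hn : 1 ≤ n) (hF : Fintype.card F = p ^ n) (hE₃ : Nonempty (↥G ⧸ K ≃* Matrix.ProjectiveSpecialLinearGroup (Fin 2) F)) (hN : ¬ Subgroup.normalizer (((S : Subgroup ↥G).map G.subtype : Subgroup H) : Set H) ≤ G) : ∃ G₀ E : Subgroup H, Cfsg.IsInternalDirectProduct G₀ E G ∧ Cfsg.IsElementaryAbelian p E ∧ Nonempty (↥G₀ ≃* ↥(Cfsg.qdOver F)) := by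
  have hpp : p.Prime := Fact.out
  obtain ⟨M, hM, hu⟩ := hE₂
  obtain ⟨e⟩ := hE₃
  obtain ⟨h, hK, -⟩ := Push.pushE_of_iso (isSyl_top S) hM hu K hF e
  have := Push.charP_of_card hF
  have hf := G.subtype_injective
  have g := geom_of_pushE h hE₁ (hK ▸ card_mul_card_core (isSyl_top S) K e) hf (by
    intro R h1 h2 h3
    by_contra hR
    rw [range_subtype] at h2
    exact hN (h3.trans (hmax R ((S.isPGroup'.map _).to_le h1) hR h2).le))
  have hS := isSyl_map_subtype S
  have hcast : ∀ k : ℕ, 0 < k → k < 5 → (k : F) ≠ 0 := fun k h1 h2 e =>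
    absurd (Nat.le_of_dvd h1 ((CharP.cast_eq_zero_iff F p k).1 e)) (by omega)
  obtain ⟨h1, h2, h3⟩ := g.elemAb (by omega) (by omega) (by
    rintro _ ⟨x, rfl⟩ B - R hR hR1 h1 h2
    rw [range_subtype] at h1 ⊢
    rw [cj_le_iff, ← normalizer_cj] at h1
    have := hmax _ (isPGroup_cj x⁻¹ hR) (fun e => hR1 (cj_eq_bot.1 e)) h1
    rw [← this, ← normalizer_cj, cj_cj_inv]
    exact h2) (A := G) ⟨1, by rw [cj_one, range_subtype]⟩ hS F rfl
  have e1 : (⊤ : Subgroup G).map G.subtype = G := by rw [← MonoidHom.range_eq_map, range_subtype]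
  have e2 : pCoreOf p G = (pCore p G).map G.subtype := rfl
  obtain ⟨D, hD⟩ : ∃ D : NatData F ((⊤ : Subgroup G).map G.subtype) (pCoreOf p G) (pCoreOf p G ⊓ 𝐂[G]),
      D.kerOf = pCoreOf p G := by rwa [e1]
  have hU : pCoreOf p G ≤ G.subtype.range := by rw [range_subtype]; exact pCoreOf_le p G
  have e3 : (pCoreOf p G).comap G.subtype = pCore p G := pCoreOf_subgroupOf p G
  have hc : (pCoreOf p G ⊓ 𝐂[G]).comap G.subtype ≤ center G := fun c hc =>
    mem_center_iff.2 fun x => Subtype.ext (hc.2 x x.2)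
  obtain ⟨h4, h5, ⟨e4⟩⟩ := qd_split hpp (by exact_mod_cast hcast 2 (by omega) (by omega)) (by omega)
    (Matrix.SL2.commutator_eq_top (a := (2 : F)) (by exact_mod_cast hcast 2 (by omega) (by omega))
      fun e => hcast 3 (by omega) (by omega) (by push_cast; linear_combination e))
    (D.comap hU) (by rw [kerOf_comap_eq hf D hU (hD.trans e2), e3]) (isEA_comap h1 hf) hc
    (S := (S : Subgroup G)) S.not_dvd_index (by
      rw [← map_le_map_iff_of_injective hf, map_commutator, map_commutator, e1, e3]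
      exact h2)
  refine ⟨(commutator G).map G.subtype, ((pCoreOf p G ⊓ 𝐂[G]).comap G.subtype).map G.subtype,
    ⟨map_subtype_le _, map_subtype_le _, ?_, ?_, ?_⟩,
    isEA_mono h1 ((map_comap_le _ _).trans inf_le_left),
    ⟨((commutator G).equivMapOfInjective _ hf).symm.trans e4⟩⟩
  · rintro _ ⟨a, -, rfl⟩ _ ⟨b, hb, rfl⟩
    exact hb.2 a a.2
  · rw [← Subgroup.map_inf _ _ _ hf, h4, Subgroup.map_bot]
  · rw [← Subgroup.map_sup, h5, e1]

end Cfsg.Agent.S2766
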