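import Cfsg.Statements.S2774
import Mathlib
import Cfsg.Agent.PLocal.BlockTr
import Cfsg.Agent.Fus.Act
import Cfsg.Agent.S2979

set_option autoImplicit false
open Cfsg

namespace Cfsg.Agent.S2774

/-- Let p be an odd prime and S a nontrivial Sylow p-subgroup of a finite group G. Then S ∩ G' is generated by the subgroups S ∩ (N_G(K))' as K ranges over the nontrivial characteristic subgroups of S (derived subgroups of the normalizers). -/
theorem result {G : Type*} [Group G] [Finite G] {p : ℕ} [Fact p.Prime] (hp : p ≠ 2) (S : Sylow p G) (hS : (S : Subgroup G) ≠ ⊥) : (S : Subgroup G) ⊓ commutator G = ⨆ K : {K : Subgroup ↥(S : Subgroup G) // K ≠ ⊥ ∧ K.Characteristic}, (S : Subgroup G) ⊓ ⁅Subgroup.normalizer ((((K : Subgroup ↥(S : Subgroup G))).map (S : Subgroup G).subtype : Subgroup G) : Set G), Subgroup.normalizer ((((K : Subgroup ↥(S : Subgroup G))).map (S : Subgroup G).subtype : Subgroup G) : Set G)⁆ := by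
  refine le_antisymm ?_ (iSup_le fun K => inf_le_inf_left _ (Subgroup.commutator_mono le_top le_top))
  rw [inf_comm, Transfer.commutator_inf_eq_focal (Transfer.sylow_coprime_index_relIndex S _),
    ← Fus.focal_group]
  refine Fus.focal_le_of_chF (fun H _ _ T hc A hA hT => PLocal.BlockTr.core_inf_commutator_le hp T
    (S2979.result hc T) A hA hT) _ S.isPGroup' (Fus.isSaturated_group S) hS _ ?_
  rintro K hK P f ⟨hP, k, hk, e, hi⟩ x hx
  refine le_iSup (fun K : {K : Subgroup ↥(S : Subgroup G) // K ≠ ⊥ ∧ K.Characteristic} => (S : Subgroup G) ⊓ ⁅Subgroup.normalizer ((((K : Subgroup ↥(S : Subgroup G))).map (S : Subgroup G).subtype : Subgroup G) : Set G), Subgroup.normalizer ((((K : Subgroup ↥(S : Subgroup G))).map (S : Subgroup G).subtype : Subgroup G) : Set G)⁆)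
    ⟨K.subgroupOf S, fun h => hK.2.1 (by
      rwa [Subgroup.subgroupOf_eq_bot, disjoint_iff, inf_eq_left.2 hK.1] at h), hK.2.2⟩ ?_
  simp only [Subgroup.subgroupOf_map_subtype, inf_eq_left.2 hK.1]
  obtain ⟨h1, h2, g, hg⟩ := Fus.isMap_group_iff.1 hk
  have hxP : x ∈ P ⊔ K := Subgroup.mem_sup_left hx
  rw [← e x hx]
  refine ⟨(S : Subgroup G).mul_mem ((S : Subgroup G).inv_mem (h1 hxP)) (h2 x hxP), ?_⟩
  have hgN : g ∈ Subgroup.normalizer (K : Set G) :=
    PLocal.CP.mem_normalizer_of_conj_mem fun y hy => by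
      rw [← hg y (Subgroup.mem_sup_right hy)]
      exact Fus.mem_of_img_eq hi hy
  have := Subgroup.commutator_mem_commutator (inv_mem (hP hx).2) hgN
  rwa [commutatorElement_def, inv_inv, mul_assoc, mul_assoc, ← mul_assoc g, ← hg x hxP] at this

end Cfsg.Agent.S2774
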