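import Cfsg.Statements.S2793
import Mathlib
import Cfsg.Agent.Fus.ZJFMain
import Cfsg.Agent.PLocal.SecNorm

set_option autoImplicit false
open Cfsg

namespace Cfsg.Agent.S2793

/-- Let p be an odd prime, S a Sylow p-subgroup of the finite group G, J(S) the subgroup generated by the abelian subgroups of S of largest order, and suppose Z(J(S)) does not control strong fusion in G. Put H = N_G(Z(J(S))). Then the group F(p) of upper triangular 3 × 3 matrices (a b c; 0 a⁻¹ d; 0 0 1) over the field with p elements is involved in H, and Z(J(S)) contains a subgroup C of order p with |N_H(C) : C_H(C)| = p − 1. -/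
theorem result {G : Type*} [Group G] [Finite G] {p : ℕ} [Fact p.Prime] (hp : p ≠ 2) (S : Sylow p G) (h : ¬ Cfsg.ControlsStrongFusion p (Cfsg.centerThompsonAOf (S : Subgroup G))) (H : Subgroup G) (hH : H = Subgroup.normalizer ((Cfsg.centerThompsonAOf (S : Subgroup G)) : Set G)) : Cfsg.Involves ↥(Cfsg.fOver (ZMod p)) ↥H ∧ ∃ C : Subgroup G, C ≤ (Cfsg.centerThompsonAOf (S : Subgroup G)) ∧ Nat.card C = p ∧ (H ⊓ Subgroup.centralizer (C : Set G)).relIndex (H ⊓ Subgroup.normalizer (C : Set G)) = p - 1 := by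
  subst hH
  obtain ⟨⟨K, ψ, hK, hψ⟩, t, ht, y, hy, hy1, n, hn, e⟩ :=
    Fus.ZJF.concl_of_not_controls hp (PLocal.Amb.isSyl_top S) (fun h1 => h ⟨S, PLocal.centerThompsonAOf_le _,
      fun A hA => ⟨hA, fun g hg => by
        obtain ⟨x, hx, e⟩ := h1 (Subgroup.closure A) g ((Subgroup.closure_le _).2 hA)
          (by rw [MonoidHom.map_closure, Subgroup.closure_le]; exact hg)
        exact ⟨x, hx, fun a ha => e a (Subgroup.subset_closure ha)⟩⟩⟩)
  refine ⟨PLocal.SecNorm.involves_iff.2 ((PLocal.CF.sec_of_surjective ψ hψ).trans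
    (PLocal.SecNorm.sec_of_le hK)), ?_⟩
  obtain ⟨k, hk⟩ := PLocal.Amb.isPGroup_iff.1 S.isPGroup' y (PLocal.centerThompsonAOf_le _ hy)
  have hd : p ∣ orderOf y := by
    obtain ⟨j, -, hj⟩ := (Nat.dvd_prime_pow Fact.out).1 (orderOf_dvd_of_pow_eq_one hk)
    rcases j with _ | j
    · exact absurd (orderOf_eq_one_iff.1 (by simpa using hj)) hy1
    · rw [hj]; exact dvd_pow_self p j.succ_ne_zero
  have ho : orderOf (y ^ (orderOf y / p)) = p := orderOf_pow_orderOf_div (orderOf_pos y).ne' hd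
  refine ⟨Subgroup.zpowers (y ^ (orderOf y / p)), Subgroup.zpowers_le.2 (Subgroup.pow_mem _ hy _),
    by rw [Nat.card_zpowers, ho], Fus.ZJF.relIndex_eq_of_primitive ht ho hn ?_⟩
  rw [← conj_pow, e, ← pow_mul, ← pow_mul, mul_comm]

end Cfsg.Agent.S2793
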