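import Cfsg.Statements.S2809
import Mathlib
import Cfsg.Agent.PLocal.CharP

set_option autoImplicit false
open Cfsg

namespace Cfsg.Agent.S2809

open Subgroup Cfsg.Agent.PLocal.CP
open scoped commutatorElement

/-- Let H be a finite group, p a prime, R a p-subgroup of H with C_H(R) ≤ R, and L a subgroup of N_H(R) acting nilpotently on R (some iterated commutator [R, L, …, L] is trivial). Then L is a p-group. -/
theorem result {H : Type*} [Group H] [Finite H] {p : ℕ} [Fact p.Prime] (R : Subgroup H) (hR : IsPGroup p ↥R) (hC : Subgroup.centralizer (R : Set H) ≤ R) (L : Subgroup H) (hL : L ≤ Subgroup.normalizer (R : Set H)) (hnil : ∃ n : ℕ, Cfsg.iterCommutator R L n = ⊥) : IsPGroup p ↥L := by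
  obtain ⟨n, hn⟩ := hnil
  have hle : ∀ i, Cfsg.iterCommutator R L i ≤ R := by
    intro i
    induction i with
    | zero => exact le_rfl
    | succ i ih =>
      exact (commutator_mono ih le_rfl).trans (le_normalizer_iff_commutator_le_left.1 hL)
  refine isPGroup_of_forall_coprime fun x hx hc => eq_one_of_mem_pGroup hR (hC ?_) hc
  refine mem_centralizer_of_chain hc (Cfsg.iterCommutator R L) (fun i => hR.to_le (hle i)) n hn ?_
  intro i _ a ha
  change ⁅x, a⁆ ∈ ⁅Cfsg.iterCommutator R L i, L⁆
  rw [commutator_comm]
  exact commutator_mem_commutator hx ha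

end Cfsg.Agent.S2809
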