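import Cfsg.Statements.S2810
import Mathlib
import Cfsg.Agent.PLocal.CharP

set_option autoImplicit false
open Cfsg

namespace Cfsg.Agent.S2810

open Subgroup Cfsg.Agent.PLocal.CP
open scoped commutatorElement

/-- Let H be a finite group of characteristic p and L a subgroup of H centralizing every factor of some H-invariant chain 1 = A₀ ≤ A₁ ≤ … ≤ Aₙ = O_p(H) of normal subgroups (that is, [A_{i+1}, L] ≤ Aᵢ for each i). Then L ≤ O_p(H). -/
theorem result {H : Type*} [Group H] [Finite H] {p : ℕ} [Fact p.Prime] (hchar : Subgroup.centralizer (Cfsg.pCore p H : Set H) ≤ Cfsg.pCore p H) (L : Subgroup H) (n : ℕ) (A : Fin (n + 1) → Subgroup H) (h0 : A 0 = ⊥) (hn : A (Fin.last n) = Cfsg.pCore p H) (hmono : Monotone A) (hnorm : ∀ i, (A i).Normal) (hcent : ∀ i : Fin n, ⁅A i.succ, L⁆ ≤ A i.castSucc) : L ≤ Cfsg.pCore p H := by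
  have hle : ∀ i, A i ≤ Cfsg.pCore p H := fun i => hn ▸ hmono (Fin.le_last i)
  refine le_trans le_normalClosure (le_pCore normalClosure_normal ?_)
  refine isPGroup_of_forall_coprime fun x hx hc =>
    eq_one_of_mem_pGroup (isPGroup_pCore p H) (hchar ?_) hc
  have key : ∀ i : Fin (n + 1), x ∈ centralizer (A i : Set H) := by
    intro i
    induction i using Fin.induction with
    | zero =>
      rw [h0, mem_centralizer_iff]
      rintro _ rfl
      simp
    | succ i ih =>
      refine mem_centralizer_of_commutator_mem ((isPGroup_pCore p H).to_le (hle _)) hc ih ?_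
      intro a ha
      have := hnorm i.succ
      have := hnorm i.castSucc
      apply commutator_normalClosure_le (hcent i)
      rw [commutator_comm]
      exact commutator_mem_commutator hx ha
  exact hn ▸ key (Fin.last n)

end Cfsg.Agent.S2810
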