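import Cfsg.Statements.S2812
import Mathlib
import Cfsg.Agent.PLocal.FStarP

set_option autoImplicit false
open Cfsg

namespace Cfsg.Agent.S2812

open Subgroup Cfsg.Agent.PLocal Cfsg.Agent.PLocal.CP Cfsg.Agent.Grp
open scoped commutatorElement Cfsg.Agent.PLocal.Amb

/-- Let H be a subgroup of the finite group G with O_p(H) = 1, Y a p-subgroup of G normalizing H, and L a subgroup of the generalized Fitting subgroup F*(H) that is subnormal in H and normalized by Y. Then L = [L, Y]·C_L(Y) and [L, Y] = [L, Y, Y]. -/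
theorem result {G : Type*} [Group G] [Finite G] {p : ℕ} [Fact p.Prime] (H : Subgroup G) (hO : Cfsg.pCore p ↥H = ⊥) (Y : Subgroup G) (hY : IsPGroup p ↥Y) (hYH : Y ≤ Subgroup.normalizer (H : Set G)) (L : Subgroup G) (hLF : L ≤ (Cfsg.generalizedFittingSubgroup ↥H).map H.subtype) (hLsn : (L.subgroupOf H).IsSubnormal) (hYL : Y ≤ Subgroup.normalizer (L : Set G)) : ⁅L, Y⁆ ⊔ (L ⊓ Subgroup.centralizer (Y : Set G)) = L ∧ ⁅L, Y⁆ = ⁅⁅L, Y⁆, Y⁆ := by
  have hLH : L ≤ H := hLF.trans (map_subtype_le _)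
  have hHX : H ≤ 𝐍[H] := le_normalizer
  have hLX : L ≤ 𝐍[H] := hLH.trans hHX
  have hsH : (H.subgroupOf 𝐍[H]).IsSubnormal := Normal.isSubnormal inferInstance
  have hs : (L.subgroupOf 𝐍[H]).IsSubnormal := subnormal_subgroupOf_trans hLH hHX hLsn hsH
  have hF : L.subgroupOf 𝐍[H] ≤ generalizedFittingSubgroup 𝐍[H] := by
    refine le_trans ?_ (map_fstar_le_of_subnormal hsH)
    rw [← map_le_map_iff_of_injective (𝐍[H]).subtype_injective, Amb.map_subgroupOf_of_le hLX]
    refine hLF.trans (le_of_eq ?_)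
    rw [← map_fstar_equiv (subgroupOfEquivOfLe hHX), Subgroup.map_map, Subgroup.map_map]
    rfl
  have hO' : pCoreOf p (L.subgroupOf 𝐍[H]) = ⊥ := by
    rw [← map_eq_bot_iff_of_injective _ (𝐍[H]).subtype_injective, pCoreOf_subgroupOf_of_le hLX,
      eq_bot_iff, ← CP.pCoreOf_eq_bot_iff.2 hO]
    exact pCoreOf_le_pCoreOf_of_subnormal hLH hLsn
  have h := commutator_sup_centralizer_of_le_fstar hs hF hO' (Amb.isPGroup_subgroupOf hY 𝐍[H])
    (by rw [← subgroupOf_normalizer_eq hLX]; exact comap_mono hYL)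
  have h2 := congrArg (Subgroup.map (𝐍[H]).subtype) h
  rw [Subgroup.map_sup, map_commutator, map_inf_centralizer_of_injective (subtype_injective _),
    Amb.map_subgroupOf_of_le hLX, Amb.map_subgroupOf_of_le hYH] at h2
  exact ⟨h2, (commutator_commutator_of_sup hYL h2.ge).symm⟩

end Cfsg.Agent.S2812
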