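import Cfsg.Statements.S2813
import Mathlib
import Cfsg.Agent.PLocal.FStarP

set_option autoImplicit false
open Cfsg

namespace Cfsg.Agent.S2813

open Subgroup Cfsg.Agent.PLocal Cfsg.Agent.PLocal.CP Cfsg.Agent.Grp
open scoped commutatorElement Cfsg.Agent.PLocal.Amb

/-- Let K be a subgroup of the finite group H with O_p(K) = 1 and Y a p-subgroup of N_H(K) with [K, Y, Y] = 1. Then [K, Y] = 1. -/
theorem result {H : Type*} [Group H] [Finite H] {p : ℕ} [Fact p.Prime] (K : Subgroup H) (hO : Cfsg.pCore p ↥K = ⊥) (Y : Subgroup H) (hY : IsPGroup p ↥Y) (hYK : Y ≤ Subgroup.normalizer (K : Set H)) (hq : ⁅⁅K, Y⁆, Y⁆ = ⊥) : ⁅K, Y⁆ = ⊥ := by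
  rw [eq_bot_iff, ← CP.pCoreOf_eq_bot_iff.2 hO]
  exact commutator_le_pCoreOf hY hYK
    ((commutator_eq_bot_iff_le_centralizer.1 hq).trans (Amb.centralizer_le_normalizer' Y))

end Cfsg.Agent.S2813
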