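import Cfsg.Statements.S2815
import Mathlib
import Cfsg.Agent.PLocal.FStarP

set_option autoImplicit false
open Cfsg

namespace Cfsg.Agent.S2815

open Subgroup Cfsg.Agent.PLocal Cfsg.Agent.PLocal.CP Cfsg.Agent.Grp
open scoped commutatorElement Cfsg.Agent.PLocal.Amb

/-- Let H be a finite group and p a prime dividing its order with O_p(H) = 1, and suppose K = O^p(H) (generated by the elements of order prime to p) is quasisimple. Then K = F*(H); for every nontrivial p-subgroup Y of H, K = [K, Y] and K lies in the subgroup generated by the K-conjugates of Y; every normal subgroup of H not containing K has order prime to p; and H is p-irreducible. -/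
theorem result {H : Type*} [Group H] [Finite H] {p : ℕ} [Fact p.Prime] (hp : p ∣ Nat.card H) (hO : Cfsg.pCore p H = ⊥) (hq : Cfsg.IsQuasisimple ↥(Cfsg.pResidual p H)) : Cfsg.pResidual p H = Cfsg.generalizedFittingSubgroup H ∧ (∀ Y : Subgroup H, IsPGroup p ↥Y → Y ≠ ⊥ → ⁅Cfsg.pResidual p H, Y⁆ = Cfsg.pResidual p H ∧ Cfsg.pResidual p H ≤ ⨆ k : ↥(Cfsg.pResidual p H), Y.map (MulAut.conj (k : H)).toMonoidHom) ∧ (∀ C : Subgroup H, C.Normal → ¬ Cfsg.pResidual p H ≤ C → (Nat.card ↥C).Coprime p) ∧ Cfsg.IsPIrreducible p H := by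
  have hK : IsComponent (pResidual p H) := ⟨Normal.isSubnormal inferInstance, hq⟩
  have h1 : pResidual p H = generalizedFittingSubgroup H := by
    refine le_antisymm (comp_le_fstar hK) ?_
    rw [← pRes_eq_of_le_fstar (L := generalizedFittingSubgroup H) (Normal.isSubnormal inferInstance) le_rfl
      (pCoreOf_eq_bot_of_subnormal hO (Normal.isSubnormal inferInstance)), ← Amb.pRes_top (G := H)]
    exact Amb.pRes_mono le_top
  have h2 : ∀ C : Subgroup H, C.Normal → ¬ pResidual p H ≤ C → (Nat.card C).Coprime p := by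
    intro C _ hC
    have h3 := (comp_le_or_commute hK (Normal.isSubnormal inferInstance)).resolve_left hC
    rw [commutator_eq_bot_iff_le_centralizer, le_centralizer_iff, h1] at h3
    exact coprime_card_of_isNilpotent
      (isNilpotent_of_le_fitting (h3.trans (centralizer_fstar_le_fitting H)))
      (pCoreOf_eq_bot_of_subnormal hO (Normal.isSubnormal inferInstance))
  refine ⟨h1, fun Y hY hY' => ?_, h2, ?_⟩
  · have h3 : ⁅pResidual p H, Y⁆ = pResidual p H := by
      refine (qsS_commutator_eq_self_or_bot hq le_normalizer_of_normal).resolve_right fun h3 => ?_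
      rw [commutator_eq_bot_iff_le_centralizer, le_centralizer_iff, h1] at h3
      exact hY' (eq_bot_iff.2 (hO ▸ le_pCore_of_le_centralizer_fstar hY h3))
    refine ⟨h3, ?_⟩
    conv_lhs => rw [← h3, Subgroup.commutator_comm]
    exact commutator_le_ncl Y _
  · rw [← pIrr_top]
    refine ⟨fun h => ?_, fun N _ h3 R h4 h5 h6 => ?_⟩
    · rw [pClosed_iff_isSyl, CP.pCoreOf_top, hO] at h
      exact h.eq_bot_iff.1 rfl (by rwa [card_top])
    · rw [Amb.pRes_top]
      by_contra h7
      refine h6 (le_trans (le_of_eq ?_) bot_le)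
      rw [← inf_eq_left.2 h4]
      exact inf_eq_bot_of_isPGroup_of_coprime h5 (h2 N (normal_of_top_le h3) h7)

end Cfsg.Agent.S2815
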