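import Cfsg.Statements.S2816
import Mathlib
import Cfsg.Agent.PLocal.FStarP

set_option autoImplicit false
open Cfsg

namespace Cfsg.Agent.S2816

open Subgroup Cfsg.Agent.PLocal Cfsg.Agent.PLocal.CP Cfsg.Agent.Grp
open scoped commutatorElement Cfsg.Agent.PLocal.Amb

/-- Let H be a finite group and p a prime with O_p(H) = 1, and Y a p-subgroup of H. Then for every subnormal subgroup K of H containing Y, [F*(H), Y] = [F*(K), Y] = [F*(K), Y, Y]; and if Y₀ ≤ Y with [F*(H), Y, Y₀] = 1 then Y₀ = 1 (in particular [F*(H), Y] = 1 forces Y = 1). -/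
theorem result {H : Type*} [Group H] [Finite H] {p : ℕ} [Fact p.Prime] (hO : Cfsg.pCore p H = ⊥) (Y : Subgroup H) (hY : IsPGroup p ↥Y) : (∀ K : Subgroup H, K.IsSubnormal → Y ≤ K → ⁅Cfsg.generalizedFittingSubgroup H, Y⁆ = ⁅(Cfsg.generalizedFittingSubgroup ↥K).map K.subtype, Y⁆ ∧ ⁅(Cfsg.generalizedFittingSubgroup ↥K).map K.subtype, Y⁆ = ⁅⁅(Cfsg.generalizedFittingSubgroup ↥K).map K.subtype, Y⁆, Y⁆) ∧ (∀ Y₀ : Subgroup H, Y₀ ≤ Y → ⁅⁅Cfsg.generalizedFittingSubgroup H, Y⁆, Y₀⁆ = ⊥ → Y₀ = ⊥) := by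
  have hF : (generalizedFittingSubgroup H).IsSubnormal := Normal.isSubnormal inferInstance
  have h1 := commutator_commutator_of_le_fstar hF le_rfl (pCoreOf_eq_bot_of_subnormal hO hF) hY
    le_normalizer_of_normal
  refine ⟨fun K hK hYK => ?_, fun Y₀ h2 h3 => eq_bot_of_commutator_fstar hO (hY.to_le h2)
    (eq_bot_iff.2 (h3 ▸ commutator_mono (commutator_mono le_rfl h2) le_rfl))⟩
  rw [map_fstar_eq_inf_of_subnormal hK]
  have h2 : ⁅generalizedFittingSubgroup H, Y⁆ ≤ generalizedFittingSubgroup H ⊓ K :=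
    le_inf (commutator_le_left _ _)
      (le_of_commutator_eq_of_snIn (snIn_top_iff.2 hK) le_top hYK h1.ge)
  have h3 : ⁅generalizedFittingSubgroup H, Y⁆ = ⁅generalizedFittingSubgroup H ⊓ K, Y⁆ :=
    le_antisymm (h1.ge.trans (commutator_mono h2 le_rfl)) (commutator_mono inf_le_left le_rfl)
  exact ⟨h3, by rw [← h3, h1]⟩

end Cfsg.Agent.S2816
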