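import Cfsg.Statements.S2817
import Mathlib
import Cfsg.Agent.PLocal.FStarP

set_option autoImplicit false
open Cfsg

namespace Cfsg.Agent.S2817

open Subgroup Cfsg.Agent.PLocal Cfsg.Agent.PLocal.CP Cfsg.Agent.Grp
open scoped commutatorElement Cfsg.Agent.PLocal.Amb

/-- Let H be a finite group and p a prime with O_p(H) = 1, Q a p-subgroup of H, L = [F*(H), Q], and F the largest normal subgroup of F*(H) centralized by Q (a normal subgroup of F*(H) centralized by Q and containing every such). Then F = C_{F*(H)}(LQ); L = [L, Q]; L ∩ F ≤ Φ(L); every p-subgroup B of N_H(Q) with [L, B] ≤ F satisfies [L, B] = 1; and C_H(FL) has order prime to p. -/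
theorem result {H : Type*} [Group H] [Finite H] {p : ℕ} [Fact p.Prime] (hO : Cfsg.pCore p H = ⊥) (Q : Subgroup H) (hQ : IsPGroup p ↥Q) (L : Subgroup H) (hL : L = ⁅Cfsg.generalizedFittingSubgroup H, Q⁆) (F : Subgroup H) (hF : F ≤ Cfsg.generalizedFittingSubgroup H ∧ Cfsg.generalizedFittingSubgroup H ≤ Subgroup.normalizer (F : Set H) ∧ Q ≤ Subgroup.centralizer (F : Set H) ∧ ∀ N : Subgroup H, N ≤ Cfsg.generalizedFittingSubgroup H → Cfsg.generalizedFittingSubgroup H ≤ Subgroup.normalizer (N : Set H) → Q ≤ Subgroup.centralizer (N : Set H) → N ≤ F) : F = Cfsg.generalizedFittingSubgroup H ⊓ Subgroup.centralizer ((L ⊔ Q : Subgroup H) : Set H) ∧ ⁅L, Q⁆ = L ∧ L ⊓ F ≤ (frattini ↥L).map L.subtype ∧ (∀ B : Subgroup H, IsPGroup p ↥B → B ≤ Subgroup.normalizer (Q : Set H) → ⁅L, B⁆ ≤ F → ⁅L, B⁆ = ⊥) ∧ (Nat.card ↥(Subgroup.centralizer ((F ⊔ L : Subgroup H) : Set H))).Coprime p := by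
  obtain ⟨hF1, hF2, hF3, hF4⟩ := hF
  set E := generalizedFittingSubgroup H with hE
  have hEs : E.IsSubnormal := Normal.isSubnormal inferInstance
  have hLE : L ≤ E := hL ▸ commutator_le_left _ _
  have hEL : E ≤ 𝐍[L] := hL ▸ Solv.le_normalizer_commutator_left _ _
  have hLs : L.IsSubnormal := subnormal_of_le_normalizer hEs hLE hEL
  have hX : L ⊔ Q = ncl Q E := by rw [ncl_eq_sup_commutator, sup_comm, hL, Subgroup.commutator_comm]
  have hEX : E ≤ 𝐍[L ⊔ Q] := hX ▸ le_normalizer_ncl Q E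
  have h1 : F = E ⊓ 𝐂[L ⊔ Q] := by
    refine le_antisymm (le_inf hF1 ?_) (hF4 _ inf_le_left (le_normalizer_inf le_normalizer
      (le_normalizer_centralizer hEX))
      (le_centralizer_iff.1 (inf_le_right.trans (Amb.centralizer_anti le_sup_right))))
    rw [hX]
    exact le_centralizer_ncl (le_centralizer_iff.1 hF3) hF2
  have h2 : ⁅L, Q⁆ = L := hL ▸ commutator_commutator_of_le_fstar hEs le_rfl
    (pCoreOf_eq_bot_of_subnormal hO hEs) hQ le_normalizer_of_normal
  have hQL : Q ≤ 𝐍[L] := hL ▸ Solv.le_normalizer_commutator_right _ _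
  have h3 : L ⊓ F ≤ (frattini L).map L.subtype := by
    have h4 : pCoreOf p (L ⊔ Q) = ⊥ := by
      rw [eq_bot_iff, ← hO]
      refine le_pCore_of_le_centralizer_fstar (CP.isPGroup_pCoreOf p _) ?_
      rw [← commutator_eq_bot_iff_le_centralizer, eq_bot_iff,
        ← pCoreOf_eq_bot_of_subnormal hO hEs]
      have h5 : E ≤ 𝐍[pCoreOf p (L ⊔ Q)] := hEX.trans (CP.normalizer_le_normalizer_pCoreOf p _)
      exact CP.le_pCoreOf (commutator_le_right _ _) (Solv.le_normalizer_commutator_right _ _)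
        ((CP.isPGroup_pCoreOf p _).to_le (le_normalizer_iff_commutator_le_left.1 h5))
    have h5 := inf_centralizer_le_frattini h4 (by
      have h6 : ncl Q L ≤ pElementClosure p (L ⊔ Q) := ncl_le (le_pEl hQ le_sup_right)
        (le_sup_left.trans (le_normalizer.trans (normalizer_le_normalizer_pEl _)))
      rwa [ncl_eq_sup_commutator, Subgroup.commutator_comm, h2, sup_comm] at h6)
    rw [map_frattini_eq_pRes h4, Amb.pRes_sup_eq hQ hQL,
      pRes_eq_of_le_fstar hLs hLE (pCoreOf_eq_bot_of_subnormal hO hLs)] at h5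
    exact (inf_le_inf le_sup_left (h1.le.trans inf_le_right)).trans h5
  refine ⟨h1, h2, h3, fun B hB hBQ hBF => ?_, ?_⟩
  · have hBL : B ≤ 𝐍[L] := hL ▸ le_normalizer_commutator le_normalizer_of_normal hBQ
    have h4 := commutator_sup_centralizer_of_le_fstar hLs hLE
      (pCoreOf_eq_bot_of_subnormal hO hLs) hB hBL
    have h5 := Solv.eq_of_sup_map_frattini_eq (inf_le_left : L ⊓ 𝐂[B] ≤ L) (h4.ge.trans
      (sup_le (((le_inf (le_normalizer_iff_commutator_le_left.1 hBL) hBF).trans h3).trans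
        le_sup_right) le_sup_left))
    exact commutator_eq_bot_iff_le_centralizer.2 (h5.ge.trans inf_le_right)
  · refine ((Nat.Prime.coprime_iff_not_dvd Fact.out).2 fun h4 => ?_).symm
    have hQC : Q ≤ 𝐍[𝐂[F ⊔ L]] := le_normalizer_centralizer (le_normalizer_sup
      (hF3.trans (Amb.centralizer_le_normalizer' F)) hQL)
    obtain ⟨S, hS, hQS⟩ := Amb.exists_isSyl_ge hQ (le_sup_left : Q ≤ Q ⊔ 𝐂[F ⊔ L])
    have hn : Q ⊔ 𝐂[F ⊔ L] ≤ 𝐍[𝐂[F ⊔ L]] := sup_le hQC le_normalizer
    have h5 := hS.inf_of_le le_sup_right hn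
    refine Amb.inf_centralizer_ne_bot hQ h5.pgrp (le_normalizer_inf (hQS.trans le_normalizer) hQC)
      (fun h6 => h5.eq_bot_iff.1 h6 h4) ?_
    set B := S ⊓ 𝐂[F ⊔ L] ⊓ 𝐂[Q]
    have hB1 : B ≤ 𝐂[F ⊔ L] := inf_le_left.trans inf_le_right
    have hB2 : B ≤ 𝐂[L ⊔ Q] := by
      rw [Amb.centralizer_sup L Q]
      exact le_inf (hB1.trans (Amb.centralizer_anti le_sup_right)) inf_le_right
    refine eq_bot_of_commutator_fstar hO (h5.pgrp.to_le inf_le_left) ?_
    rw [commutator_eq_bot_iff_le_centralizer]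
    refine le_trans ?_ (le_centralizer_iff.1 (hB1.trans (Amb.centralizer_anti le_sup_left)))
    rw [h1]
    exact le_inf (commutator_le_left _ _) ((commutator_mono le_rfl hB2).trans
      (le_normalizer_iff_commutator_le_right.1 (le_normalizer_centralizer hEX)))

end Cfsg.Agent.S2817
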