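import Cfsg.Statements.S2818
import Mathlib
import Cfsg.Agent.PLocal.PIrred

set_option autoImplicit false
open Cfsg

namespace Cfsg.Agent.S2818

open Subgroup Cfsg.Agent.PLocal Cfsg.Agent.PLocal.CP Cfsg.Agent.Grp
open scoped commutatorElement Cfsg.Agent.PLocal.Amb

/-- Let P be a finite p-subgroup of a group G and H a subgroup of N_G(P) with [P, H] ≤ Ω₁(Z(P)) (the elements of order dividing p in the centre of P). Then H centralizes the Frattini subgroup of P. -/
theorem result {G : Type*} [Group G] [Finite G] {p : ℕ} [Fact p.Prime] (P : Subgroup G) (hP : IsPGroup p ↥P) (H : Subgroup G) (hH : H ≤ Subgroup.normalizer (P : Set G)) (h : ⁅P, H⁆ ≤ Cfsg.omegaOne p (P ⊓ Subgroup.centralizer (P : Set G))) : ⁅(frattini ↥P).map P.subtype, H⁆ = ⊥ := by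
  rw [commutator_eq_bot_iff_le_centralizer, map_le_iff_le_comap]
  have key : ∀ g ∈ H, ∀ x ∈ P, ∃ z ∈ ΩZ[p, P], g * x * g⁻¹ = x * z := by
    intro g hg x hx
    refine ⟨⁅x⁻¹, g⁆, h (commutator_mem_commutator (P.inv_mem hx) hg), ?_⟩
    simp only [commutatorElement_def]
    group
  refine PFrattini.frattini_le (p := p) ?_ fun x => ?_
  · rw [commutator_def, commutator_le]
    intro x _ y _
    rw [mem_comap, mem_centralizer_iff]
    intro g hg
    obtain ⟨z, hz, h1⟩ := key g hg x x.2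
    obtain ⟨w, hw, h2⟩ := key g hg y y.2
    have hz' := mem_centralizer_iff.1 (omegaZ_le_centralizer P hz)
    have hw' := mem_centralizer_iff.1 (omegaZ_le_centralizer P hw)
    have h3 : g * ⁅(x : G), (y : G)⁆ * g⁻¹ = ⁅(x : G), (y : G)⁆ := by
      rw [conjugate_commutatorElement, h1, h2]
      have e1 : Commute z (y * w) := (hz' _ (P.mul_mem y.2 (omegaZ_le P hw))).symm
      have e2 : Commute w x := (hw' _ x.2).symm
      calc ⁅(x : G) * z, (y : G) * w⁆ = x * (z * (y * w)) * z⁻¹ * ((x : G)⁻¹ * w⁻¹) * (y : G)⁻¹ := by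
            simp only [commutatorElement_def]; group
        _ = x * ((y * w) * z) * z⁻¹ * (w⁻¹ * (x : G)⁻¹) * (y : G)⁻¹ := by
            rw [e1.eq, e2.inv_inv.eq]
        _ = ⁅(x : G), (y : G)⁆ := by simp only [commutatorElement_def]; group
    change g * ⁅(x : G), (y : G)⁆ = ⁅(x : G), (y : G)⁆ * g
    rw [← mul_inv_eq_iff_eq_mul, h3]
  · rw [mem_comap, mem_centralizer_iff]
    intro g hg
    obtain ⟨z, hz, h1⟩ := key g hg x x.2
    have hz' : Commute (x : G) z := mem_centralizer_iff.1 (omegaZ_le_centralizer P hz) _ x.2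
    change g * (x : G) ^ p = (x : G) ^ p * g
    rw [← mul_inv_eq_iff_eq_mul, ← conj_pow, h1, hz'.mul_pow, (mem_omegaZ.1 hz).2.2, mul_one]

end Cfsg.Agent.S2818
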