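import Cfsg.Statements.S2819
import Mathlib
import Cfsg.Agent.PLocal.PIrred

set_option autoImplicit false
open Cfsg

namespace Cfsg.Agent.S2819

open Subgroup Cfsg.Agent.PLocal Cfsg.Agent.PLocal.CP Cfsg.Agent.Grp
open scoped commutatorElement Cfsg.Agent.PLocal.Amb

/-- Let P be a finite p-subgroup of a group G, H a subgroup of N_G(P), and Y a subgroup of H centralizing the derived subgroup P' such that [P, Y] is elementary abelian. Then O^p(⟨Y^H⟩), the subgroup of the normal closure of Y in H generated by its elements of order prime to p, centralizes the Frattini subgroup of P. -/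
theorem result {G : Type*} [Group G] [Finite G] {p : ℕ} [Fact p.Prime] (P : Subgroup G) (hP : IsPGroup p ↥P) (H : Subgroup G) (hH : H ≤ Subgroup.normalizer (P : Set G)) (Y : Subgroup G) (hYH : Y ≤ H) (hYc : Y ≤ Subgroup.centralizer ((⁅P, P⁆ : Subgroup G) : Set G)) (hel : Cfsg.IsElementaryAbelian p ⁅P, Y⁆) (NY : Subgroup G) (hNY : NY = (Subgroup.normalClosure ((Y.subgroupOf H : Subgroup ↥H) : Set ↥H)).map H.subtype) : (Cfsg.pResidual p ↥NY).map NY.subtype ≤ Subgroup.centralizer (((frattini ↥P).map P.subtype : Subgroup G) : Set G) := by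
  rw [map_normalClosure_subgroupOf hYH] at hNY
  subst hNY
  have hP' : H ≤ 𝐍[⁅P, P⁆] := le_normalizer_commutator hH hH
  have hPP : P ≤ 𝐍[⁅P, P⁆] := le_normalizer_commutator le_normalizer le_normalizer
  have hPP' : ⁅P, P⁆ ≤ P := le_normalizer_iff_commutator_le_left.1 le_normalizer
  have hF : H ≤ 𝐍[(frattini P).map P.subtype] :=
    hH.trans (normalizer_le_normalizer_map_subtype P _)
  refine pRes_le_centralizer_of_commutator_le (U := ⁅P, P⁆) (hP.to_le hPP') ?_ ?_
  · refine (Amb.pRes_le p _).trans ?_
    exact ncl_le hYc (le_normalizer_centralizer hP')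
  · rw [Subgroup.commutator_comm]
    refine commutator_ncl_le hF hP' (hYH.trans hP') ?_
    have : (frattini P).map P.subtype ≤ secCent Y ⁅P, P⁆ := by
      rw [map_le_iff_le_comap]
      refine PFrattini.frattini_le (p := p) ?_ fun x => ?_
      · rw [← map_le_iff_le_comap, map_subtype_commutator, le_secCent_iff]
        refine ⟨le_normalizer, ?_⟩
        rw [commutator_eq_bot_iff_le_centralizer.2 (le_centralizer_iff.1 hYc)]
        exact bot_le
      · rw [mem_comap, mem_secCent]
        refine ⟨hPP (x ^ p).2, fun y hy => ?_⟩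
        have hc : ⁅(x : G), y⁆ ∈ ⁅P, Y⁆ := commutator_mem_commutator x.2 hy
        have hc' : ⁅(x : G), y⁆ ∈ P :=
          le_normalizer_iff_commutator_le_left.1 (hYH.trans hH) hc
        obtain ⟨c, hc1, hc2⟩ := exists_mul_pow_eq_commutator (P.inv_mem x.2) hc' p
        have e : (x : G)⁻¹ * ⁅(x : G), y⁆ = y * (x : G)⁻¹ * y⁻¹ := by
          simp only [commutatorElement_def]; group
        rw [e, conj_pow, hel.2 _ hc, mul_one] at hc2
        change ⁅(x : G) ^ p, y⁆ ∈ _
        have e2 : ⁅(x : G) ^ p, y⁆ = c := by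
          rw [commutatorElement_def, ← inv_pow, mul_assoc, mul_assoc, ← mul_assoc y, hc2, inv_pow,
            mul_inv_cancel_left]
        rwa [e2]
    exact (le_secCent_iff.1 this).2

end Cfsg.Agent.S2819
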