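import Cfsg.Statements.S2820
import Mathlib
import Cfsg.Agent.PLocal.PReduced

set_option autoImplicit false
open Cfsg

namespace Cfsg.Agent.S2820

open Subgroup Cfsg.Agent.PLocal Cfsg.Agent.PLocal.CP Cfsg.Agent.Grp
open scoped commutatorElement Cfsg.Agent.PLocal.Amb

/-- Let A and B be subnormal subgroups of the finite group H with A a p-group and B = O^p(B) (B generated by its elements of order prime to p). Then A normalizes B and B = O^p(AB), the subgroup of ⟨A, B⟩ generated by its elements of order prime to p. -/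
theorem result {H : Type*} [Group H] [Finite H] {p : ℕ} [Fact p.Prime] (A B : Subgroup H) (hA : A.IsSubnormal) (hB : B.IsSubnormal) (hAp : IsPGroup p ↥A) (hBres : (Cfsg.pResidual p ↥B).map B.subtype = B) : A ≤ Subgroup.normalizer (B : Set H) ∧ (Cfsg.pResidual p ↥(A ⊔ B)).map (A ⊔ B).subtype = B := by
  have hA' : A ≤ pCoreOf p (⊤ : Subgroup H) := le_pCoreOf_of_snIn (snIn_top_iff.2 hA) hAp
  refine ⟨?_, ?_⟩
  · have := hA'.trans (pCoreOf_le_normalizer_pRes (snIn_top_iff.2 hB))
    rwa [hBres] at this
  · rw [sup_comm, pRes_sup_eq_of_snIn (snIn_top_iff.2 hB) hA', hBres]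

end Cfsg.Agent.S2820
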