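import Cfsg.Statements.S2823
import Mathlib
import Cfsg.Agent.PLocal.RelNorm

set_option autoImplicit false
open Cfsg

namespace Cfsg.Agent.S2823

open Subgroup Cfsg.Agent.PLocal Cfsg.Agent.PLocal.CP Cfsg.Agent.Grp
open scoped commutatorElement Cfsg.Agent.PLocal.Amb

/-- Let H be a finite group, p a prime, T a Sylow p-subgroup and L a subgroup of characteristic p containing T; let Z_L be the subgroup generated by the Ω₁(Z(S)) over the Sylow p-subgroups S of L and O^p(L) the subgroup generated by the elements of L of order prime to p. Then Z_L = Ω₁(Z(L))·[Z_L, O^p(L)] and [Z_L, L] = [Z_L, O^p(L)]. -/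
theorem result {H : Type*} [Group H] [Finite H] {p : ℕ} [Fact p.Prime] (T : Sylow p H) (L : Subgroup H) (hTL : (T : Subgroup H) ≤ L) (hL : Subgroup.centralizer (Cfsg.pCore p ↥L : Set ↥L) ≤ Cfsg.pCore p ↥L) : Cfsg.sylowCenterClosure p L = (Cfsg.omegaOne p (L ⊓ Subgroup.centralizer ((L : Subgroup H) : Set H))) ⊔ ⁅Cfsg.sylowCenterClosure p L, (Cfsg.pResidual p ↥L).map L.subtype⁆ ∧ ⁅Cfsg.sylowCenterClosure p L, L⁆ = ⁅Cfsg.sylowCenterClosure p L, (Cfsg.pResidual p ↥L).map L.subtype⁆ := by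
  have hT := Amb.isSyl_of_le T hTL
  have hZ := (isCharP_iff.2 hL).isPRed_sylowCenterClosure
  have hn : L ≤ 𝐍[⁅sylowCenterClosure p L, 𝐎[p, L]⁆] :=
    le_normalizer_commutator hZ.norm (Amb.le_normalizer_pRes p L)
  have h0 : ⁅sylowCenterClosure p L, 𝐎[p, L]⁆ ≤ sylowCenterClosure p L :=
    le_normalizer_iff_commutator_le_left.1 ((Amb.pRes_le p L).trans hZ.norm)
  have hZT : ΩZ[p, (T : Subgroup H)] ≤ sylowCenterClosure p L := by
    rw [sylowCenterClosure_eq_ncl hT]
    exact le_ncl _ _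
  have h1 : sylowCenterClosure p L = ΩZ[p, L] ⊔ ⁅sylowCenterClosure p L, 𝐎[p, L]⁆ := by
    apply le_antisymm
    · have h2 := ncl_inf_centralizer_le (isEA_le_centralizer hZ.ea) hZ.isPGroup hZ.norm hT
      rw [inf_centralizer_eq_omegaZ hZ.ea (hZ.le_syl hT) hZT, ← sylowCenterClosure_eq_ncl hT] at h2
      exact h2.trans (sup_le_sup_right (le_omegaZ (isEA_mono hZ.ea inf_le_left)
        (inf_le_left.trans hZ.le) inf_le_right) _)
    · exact sup_le ((omegaZ_le_omegaZ hTL ((isPRed_omegaZ L).le_syl hT)).trans hZT) h0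
  refine ⟨h1, le_antisymm ?_ (commutator_mono le_rfl (Amb.pRes_le p L))⟩
  conv_lhs => rw [h1]
  refine CommMod.commutator_sup_le ((omegaZ_le L).trans hn) le_normalizer ?_
    (le_normalizer_iff_commutator_le_left.1 hn)
  rw [commutator_eq_bot_iff_le_centralizer.2 (omegaZ_le_centralizer L)]
  exact bot_le

end Cfsg.Agent.S2823
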