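import Cfsg.Statements.S2825
import Mathlib
import Cfsg.Agent.PLocal.PReduced

set_option autoImplicit false
open Cfsg

namespace Cfsg.Agent.S2825

open Subgroup Cfsg.Agent.PLocal Cfsg.Agent.PLocal.CP Cfsg.Agent.Grp
open scoped commutatorElement Cfsg.Agent.PLocal.Amb

/-- Let L be a subnormal subgroup of the finite group H, p a prime, Y_H and Y_L the largest p-reduced normal subgroups. Then Y_H ∩ L = Y_H ∩ Y_L and this subgroup is a p-reduced normal subgroup of L; C_L(Y_L) = C_L(Y_H) = C_L(Y_H ∩ L); and if O^p(H) ≤ L, then [Y_L, L] = 1 if and only if [Y_H, H] = 1. -/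
theorem result {H : Type*} [Group H] [Finite H] {p : ℕ} [Fact p.Prime] (L : Subgroup H) (hL : L.IsSubnormal) : Cfsg.largestPReduced p H ⊓ L = Cfsg.largestPReduced p H ⊓ (Cfsg.largestPReducedOf p L) ∧ Cfsg.IsPReducedNormal p ((Cfsg.largestPReduced p H ⊓ L).subgroupOf L) ∧ L ⊓ Subgroup.centralizer ((Cfsg.largestPReducedOf p L : Subgroup H) : Set H) = L ⊓ Subgroup.centralizer (Cfsg.largestPReduced p H : Set H) ∧ L ⊓ Subgroup.centralizer (Cfsg.largestPReduced p H : Set H) = L ⊓ Subgroup.centralizer ((Cfsg.largestPReduced p H ⊓ L : Subgroup H) : Set H) ∧ (Cfsg.pResidual p H ≤ L → (⁅(Cfsg.largestPReducedOf p L), L⁆ = ⊥ ↔ ⁅Cfsg.largestPReduced p H, (⊤ : Subgroup H)⁆ = ⊥)) := by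
  have hs : SnIn L ⊤ := snIn_top_iff.2 hL
  have hY : IsPRed p (largestPReduced p H) ⊤ := isPRed_largestPReduced
  have h1 := hY.inf_of_snIn hs
  have h2 := inf_centralizer_Y_of_snIn (p := p) hs
  rw [Y_top] at h2
  refine ⟨le_antisymm (le_inf inf_le_left h1.le_Y) (inf_le_inf_left _ (Y_le p L)), ?_, h2,
    (hY.inf_centralizer_inf hs).symm, fun h3 => ?_⟩
  · exact (isPReducedNormal_subgroupOf inf_le_right).2 h1
  · rw [commutator_eq_bot_iff_le_centralizer, commutator_eq_bot_iff_le_centralizer,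
      le_centralizer_iff, le_centralizer_iff (H := largestPReduced p H)]
    constructor
    · intro h4
      refine hY.red ⊤ le_rfl le_normalizer ?_
      rw [Amb.pRes_top]
      exact h3.trans (((le_inf le_rfl h4).trans h2.le).trans inf_le_right)
    · intro h4
      exact ((le_inf le_rfl (le_top.trans h4)).trans h2.ge).trans inf_le_right

end Cfsg.Agent.S2825
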