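import Cfsg.Statements.S2826
import Mathlib
import Cfsg.Agent.PLocal.RelNorm

set_option autoImplicit false
open Cfsg

namespace Cfsg.Agent.S2826

open Subgroup Cfsg.Agent.PLocal Cfsg.Agent.PLocal.CP Cfsg.Agent.Grp
open scoped commutatorElement Cfsg.Agent.PLocal.Amb

/-- Let H be a finite group of characteristic p, T a Sylow p-subgroup, and V a normal elementary abelian p-subgroup of H containing Ω₁(Z(T)). Then C_H(Ω₁(Z(T))) = C_H([V, O^p(H)] ∩ Ω₁(Z(T))), O^p(H) being generated by the elements of order prime to p. -/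
theorem result {H : Type*} [Group H] [Finite H] {p : ℕ} [Fact p.Prime] (hH : Subgroup.centralizer (Cfsg.pCore p H : Set H) ≤ Cfsg.pCore p H) (T : Sylow p H) (V : Subgroup H) [V.Normal] (hV : Cfsg.IsElementaryAbelian p V) (hZV : (Cfsg.omegaOne p ((T : Subgroup H) ⊓ Subgroup.centralizer (((T : Subgroup H) : Subgroup H) : Set H))) ≤ V) : Subgroup.centralizer ((Cfsg.omegaOne p ((T : Subgroup H) ⊓ Subgroup.centralizer (((T : Subgroup H) : Subgroup H) : Set H))) : Set H) = Subgroup.centralizer (((⁅V, Cfsg.pResidual p H⁆ ⊓ (Cfsg.omegaOne p ((T : Subgroup H) ⊓ Subgroup.centralizer (((T : Subgroup H) : Subgroup H) : Set H)))) : Subgroup H) : Set H) := by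
  have hT := Amb.isSyl_top T
  refine le_antisymm (Amb.centralizer_anti inf_le_right) ?_
  have hVT : V ≤ T := (CP.le_pCore inferInstance (isEA_isPGroup hV)).trans (CP.pCore_le_sylow T)
  have h1 := inf_centralizer_le_of_isSyl (isEA_le_centralizer hV) (isEA_isPGroup hV)
    le_normalizer_of_normal hT
  rw [inf_centralizer_eq_omegaZ hV hVT hZV, Amb.pRes_top] at h1
  refine le_trans ?_ (Amb.centralizer_anti h1)
  rw [Amb.centralizer_sup]
  refine le_inf (le_centralizer_iff.1 (inf_le_right.trans (Amb.centralizer_anti le_top)))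
    (Amb.centralizer_anti (le_inf inf_le_left ?_))
  rw [← inf_centralizer_eq_omegaZ hV hVT hZV]
  exact inf_le_inf_right _ (commutator_le_left _ _)

end Cfsg.Agent.S2826
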