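import Cfsg.Statements.S2828
import Mathlib
import Cfsg.Agent.PLocal.PIrred
import Cfsg.Agent.Grp.Cores

set_option autoImplicit false
open Cfsg

namespace Cfsg.Agent.S2828

open Subgroup Cfsg.Agent.PLocal Cfsg.Agent.PLocal.CP Cfsg.Agent.Grp
open scoped commutatorElement Cfsg.Agent.PLocal.Amb

/-- Let H be a finite group, p a prime and D a normal p-subgroup of H. Then H is p-irreducible if and only if H/D is p-irreducible, and H is strongly p-irreducible if and only if H/D is strongly p-irreducible. -/
theorem result {H : Type*} [Group H] [Finite H] {p : ℕ} [Fact p.Prime] (D : Subgroup H) [D.Normal] (hD : IsPGroup p ↥D) : (Cfsg.IsPIrreducible p H ↔ Cfsg.IsPIrreducible p (H ⧸ D)) ∧ (Cfsg.IsStronglyPIrreducible p H ↔ Cfsg.IsStronglyPIrreducible p (H ⧸ D)) := by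
  have hs := QuotientGroup.mk'_surjective D
  have hk : IsPGroup p (QuotientGroup.mk' D).ker := by rwa [QuotientGroup.ker_mk']
  have hO := comap_pCore_quotient D hD
  have hR : (pResidual p H).map (QuotientGroup.mk' D) = pResidual p (H ⧸ D) := by
    rw [← Amb.pRes_top, Amb.map_pRes, map_top_of_surjective _ hs, Amb.pRes_top]
  have hc : IsPClosed p H ↔ IsPClosed p (H ⧸ D) := by
    rw [isPClosed_iff_forall, isPClosed_iff_forall]
    constructor
    · intro h R hR
      have := h _ (hR.comap_of_ker_isPGroup _ hk)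
      rw [← hO] at this
      exact (comap_le_comap_of_surjective hs).1 this
    · intro h R hR
      rw [← hO, ← map_le_iff_le_comap]
      exact h _ (hR.map _)
  have h1 : ∀ N : Subgroup H, N.Normal → pResidual p (H ⧸ D) ≤ N.map (QuotientGroup.mk' D) →
      pResidual p H ≤ N := by
    intro N hN h
    rw [← hR, map_le_iff_le_comap, comap_map_eq, QuotientGroup.ker_mk', ← Amb.pRes_top] at h
    rw [← Amb.pRes_top, ← Amb.pRes_pRes]
    exact (Amb.pRes_mono h).trans (Amb.pRes_sup_le hD le_normalizer_of_normal)
  have h2 : ∀ N : Subgroup (H ⧸ D), pResidual p H ≤ N.comap (QuotientGroup.mk' D) →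
      pResidual p (H ⧸ D) ≤ N := by
    intro N h
    rwa [← hR, map_le_iff_le_comap]
  constructor
  · rw [← pIrr_top, ← pIrr_top]
    constructor
    · intro h
      refine ⟨fun h3 => h.not_pClosed (pClosed_top.2 (hc.2 (pClosed_top.1 h3))),
        fun N _ h3 R h4 h5 h6 => ?_⟩
      have := normal_of_top_le h3
      rw [Amb.pRes_top]
      refine h2 N ?_
      rw [← Amb.pRes_top]
      refine h.pRes_le _ le_top le_normalizer_of_normal _ (comap_mono h4)
        (h5.comap_of_ker_isPGroup _ hk) fun h7 => h6 ?_
      rw [pCoreOf_top] at h7 ⊢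
      rw [← hO] at h7
      exact (comap_le_comap_of_surjective hs).1 h7
    · intro h
      refine ⟨fun h3 => h.not_pClosed (pClosed_top.2 (hc.1 (pClosed_top.1 h3))),
        fun N _ h3 R h4 h5 h6 => ?_⟩
      have := normal_of_top_le h3
      have hN := Normal.map this _ hs
      rw [Amb.pRes_top]
      refine h1 N this ?_
      rw [← Amb.pRes_top]
      refine h.pRes_le _ le_top le_normalizer_of_normal _ (map_mono h4) (h5.map _) fun h7 => h6 ?_
      rw [pCoreOf_top] at h7 ⊢
      rwa [← hO, ← map_le_iff_le_comap]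
  · constructor
    · intro h
      refine ⟨fun h3 => h.1 (hc.2 h3), fun N hN h3 => h2 N (h.2 _ inferInstance fun h4 => h3 ?_)⟩
      rw [← hO, ← map_le_iff_le_comap, map_commutator, map_comap_eq_self_of_surjective hs,
        map_top_of_surjective _ hs] at h4
      exact h4
    · intro h
      refine ⟨fun h3 => h.1 (hc.1 h3), fun N hN h3 =>
        h1 N hN (h.2 _ (Normal.map hN _ hs) fun h4 => h3 ?_)⟩
      rw [← hO, ← map_le_iff_le_comap, map_commutator, map_top_of_surjective _ hs]
      exact h4

end Cfsg.Agent.S2828
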