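import Cfsg.Statements.S2829
import Mathlib
import Cfsg.Agent.PLocal.PIrred

set_option autoImplicit false
open Cfsg

namespace Cfsg.Agent.S2829

open Subgroup Cfsg.Agent.PLocal Cfsg.Agent.PLocal.CP Cfsg.Agent.Grp
open scoped commutatorElement Cfsg.Agent.PLocal.Amb

/-- Every strongly p-irreducible finite group is p-irreducible. -/
theorem result {H : Type*} [Group H] [Finite H] {p : ℕ} [Fact p.Prime] (hH : Cfsg.IsStronglyPIrreducible p H) : Cfsg.IsPIrreducible p H := by
  rw [← pIrr_top]
  refine ⟨fun h => hH.1 (pClosed_top.1 h), fun N _ h1 R h2 h3 h4 => ?_⟩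
  rw [Amb.pRes_top]
  refine hH.2 N (normal_of_top_le h1) fun h5 => h4 ?_
  have h6 : ⊤ ≤ 𝐍[R ⊔ pCore p H] := le_normalizer_sup_of_commutator_le
    (((commutator_mono h2 le_rfl).trans h5).trans le_sup_right) le_normalizer_of_normal
  exact le_sup_left.trans (le_pCoreOf le_top h6
    (Amb.isPGroup_sup h3 (isPGroup_pCore p H) le_normalizer_of_normal))

end Cfsg.Agent.S2829
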