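import Cfsg.Statements.S2832
import Mathlib
import Cfsg.Agent.PLocal.PIrred

set_option autoImplicit false
open Cfsg

namespace Cfsg.Agent.S2832

open Subgroup Cfsg.Agent.PLocal Cfsg.Agent.PLocal.CP Cfsg.Agent.Grp
open scoped commutatorElement Cfsg.Agent.PLocal.Amb

/-- Let H be a finite group with Sylow p-subgroup T such that H is T-minimal (generated by the conjugates of T, with T in exactly one maximal subgroup), and let N be a normal subgroup of H. Then either H/N is a p-group or H/N is minimal over the image of T in the same sense. -/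
theorem result {H : Type*} [Group H] [Finite H] {p : ℕ} [Fact p.Prime] (T : Sylow p H) (hmin : Cfsg.IsMinimalOver (T : Subgroup H)) (N : Subgroup H) [N.Normal] : IsPGroup p (H ⧸ N) ∨ Cfsg.IsMinimalOver ((T : Subgroup H).map (QuotientGroup.mk' N)) := by
  obtain ⟨M, hM⟩ := isMinimalOver_iff.1 hmin
  have hs := QuotientGroup.mk'_surjective N
  by_cases h : N ≤ M
  · right
    refine isMinimalOver_iff.2 ⟨M.map (QuotientGroup.mk' N), map_mono hM.le, ?_, ?_,
      fun X h1 h2 => ?_⟩
    · rw [lt_top_iff_ne_top]
      intro h1
      have := congrArg (comap (QuotientGroup.mk' N)) h1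
      rw [comap_map_eq, QuotientGroup.ker_mk', sup_eq_left.2 h, comap_top] at this
      exact hM.lt.ne this
    · rw [← map_top_of_surjective _ hs, ← map_ncl, hM.ncl_eq]
    · rw [← map_comap_eq_self_of_surjective hs X]
      refine map_mono (hM.max _ (map_le_iff_le_comap.1 h1) ?_)
      rw [lt_top_iff_ne_top] at h2 ⊢
      intro h3
      apply h2
      rw [← map_comap_eq_self_of_surjective hs X, h3, map_top_of_surjective _ hs]
  · left
    have h1 : (T : Subgroup H) ⊔ N = ⊤ :=
      hM.eq_of_not_le le_sup_left le_top fun h1 => h (le_sup_right.trans h1)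
    have h2 : (T : Subgroup H).map (QuotientGroup.mk' N) = ⊤ := by
      rw [← map_top_of_surjective _ hs, ← h1, Subgroup.map_sup,
        (Subgroup.map_eq_bot_iff N).2 (QuotientGroup.ker_mk' N).ge, sup_bot_eq]
    have h3 := T.isPGroup'.map (QuotientGroup.mk' N)
    rw [h2] at h3
    exact h3.of_equiv topEquiv

end Cfsg.Agent.S2832
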