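import Cfsg.Statements.S2833
import Mathlib
import Cfsg.Agent.PLocal.PIrred

set_option autoImplicit false
open Cfsg

namespace Cfsg.Agent.S2833

open Subgroup Cfsg.Agent.PLocal Cfsg.Agent.PLocal.CP Cfsg.Agent.Grp
open scoped commutatorElement Cfsg.Agent.PLocal.Amb

/-- Let V be a subgroup of a finite group G normalized by the subgroup L, let X ≤ L and g ∈ L with [V, X, X] = 1 and L generated by X and gXg⁻¹. Put W = [V, L]. Then W = [V, X]·[V, gXg⁻¹], C_W(X) = [V, X], and C_W(L) = [V, X] ∩ [V, gXg⁻¹]. -/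
theorem result {G : Type*} [Group G] [Finite G] (V L : Subgroup G) (hLV : L ≤ Subgroup.normalizer (V : Set G)) (X : Subgroup G) (hX : X ≤ L) (g : G) (hg : g ∈ L) (hq : ⁅⁅V, X⁆, X⁆ = ⊥) (hgen : X ⊔ X.map (MulAut.conj g).toMonoidHom = L) (W : Subgroup G) (hW : W = ⁅V, L⁆) : ⁅V, X⁆ ⊔ ⁅V, X.map (MulAut.conj g).toMonoidHom⁆ = W ∧ W ⊓ Subgroup.centralizer (X : Set G) = ⁅V, X⁆ ∧ W ⊓ Subgroup.centralizer (L : Set G) = ⁅V, X⁆ ⊓ ⁅V, X.map (MulAut.conj g).toMonoidHom⁆ := by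
  have hg' : cj(g, X) ≤ L := Amb.cj_le_of_mem hX hg
  have hB : cj(g, ⁅V, X⁆) = ⁅V, cj(g, X)⁆ := by
    rw [← Amb.commutator_cj, Amb.cj_of_mem_normalizer (hLV hg)]
  have hAX : ⁅V, X⁆ ≤ 𝐂[X] := commutator_eq_bot_iff_le_centralizer.1 hq
  have hBX : ⁅V, cj(g, X)⁆ ≤ 𝐂[cj(g, X)] := by
    rw [← hB, Amb.centralizer_cj]
    exact Amb.cj_mono g hAX
  have hAV : ⁅V, X⁆ ≤ V := le_normalizer_iff_commutator_le_left.1 (hX.trans hLV)
  have hBV : ⁅V, cj(g, X)⁆ ≤ V := le_normalizer_iff_commutator_le_left.1 (hg'.trans hLV)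
  have h1 : ⁅V, X⁆ ⊔ ⁅V, cj(g, X)⁆ = W := by
    rw [hW]
    refine le_antisymm (sup_le (commutator_mono le_rfl hX) (commutator_mono le_rfl hg')) ?_
    conv_lhs => rw [← hgen]
    refine commutator_sup_le ?_ ?_ le_sup_left le_sup_right
    · rw [sup_comm]
      exact le_normalizer_sup_of_commutator_le ((commutator_mono hBV le_rfl).trans le_sup_right)
        (Solv.le_normalizer_commutator_right _ _)
    · exact le_normalizer_sup_of_commutator_le ((commutator_mono hAV le_rfl).trans le_sup_right)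
        (Solv.le_normalizer_commutator_right _ _)
  have hC : 𝐂[L] = 𝐂[X] ⊓ 𝐂[cj(g, X)] := by rw [← hgen, Amb.centralizer_sup]
  have h2 : W ⊓ 𝐂[X] = ⁅V, X⁆ := by
    rw [← h1, Amb.sup_inf_of_le_normalizer hAX
      (hAV.trans (Solv.le_normalizer_commutator_left _ _)), sup_eq_left]
    intro b hb
    have hbL : b ∈ 𝐂[L] := hC ▸ ⟨hb.2, hBX hb.1⟩
    have h3 := (mem_inf.1 hb).1
    rw [← hB, Amb.mem_cj, mul_assoc, ← mem_centralizer_iff.1 hbL g hg, inv_mul_cancel_left] at h3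
    exact h3
  refine ⟨h1, h2, ?_⟩
  have h3 : W ⊓ 𝐂[cj(g, X)] = ⁅V, cj(g, X)⁆ := by
    rw [← hB, ← h2, Amb.cj_inf, Amb.centralizer_cj, hW,
      Amb.cj_of_mem_normalizer (le_normalizer_commutator hLV le_normalizer hg)]
  rw [hC, ← h2, ← h3, inf_inf_distrib_left]

end Cfsg.Agent.S2833
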