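import Cfsg.Statements.S2836
import Mathlib
import Cfsg.Agent.PLocal.PIrred
import Cfsg.Agent.Grp.Cores
import Cfsg.Agent.Grp.Fitting

set_option autoImplicit false
open Cfsg

namespace Cfsg.Agent.S2836

open Subgroup Cfsg.Agent.PLocal Cfsg.Agent.PLocal.CP Cfsg.Agent.Grp
open scoped commutatorElement Cfsg.Agent.PLocal.Amb

/-- Let L be a finite group, L₀ a maximal subgroup, T a Sylow p-subgroup of L₀, Y ≤ T, and suppose L is Y-minimal. Let D be the intersection of the conjugates of L₀ (the core of L₀). Then D contains O_p(L) and D/O_p(L) is the Frattini subgroup of L/O_p(L), so D is p-closed; and every normal subgroup N of L contained in L₀ is p-closed with N/O_p(N) a nilpotent group of order prime to p. -/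
theorem result {L : Type*} [Group L] [Finite L] {p : ℕ} [Fact p.Prime] (L₀ : Subgroup L) (hL₀ : IsCoatom L₀) (T : Sylow p ↥L₀) (Y : Subgroup L) (hYT : Y ≤ (T : Subgroup ↥L₀).map L₀.subtype) (hmin : Cfsg.IsMinimalOver Y) : (Cfsg.pCore p L ≤ L₀.normalCore ∧ (L₀.normalCore).map (QuotientGroup.mk' (Cfsg.pCore p L)) = frattini (L ⧸ Cfsg.pCore p L) ∧ Cfsg.IsPClosed p ↥(L₀.normalCore)) ∧ ∀ (N : Subgroup L) [N.Normal], N ≤ L₀ → Cfsg.IsPClosed p ↥N ∧ Group.IsNilpotent (↥N ⧸ Cfsg.pCore p ↥N) ∧ (Nat.card (↥N ⧸ Cfsg.pCore p ↥N)).Coprime p := by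
  have hT := Amb.isSyl_map_subtype T
  have h := minOver_top_of hmin hL₀ (hYT.trans hT.le)
  have hY : IsPGroup p Y := hT.pgrp.to_le hYT
  have hs := QuotientGroup.mk'_surjective (pCore p L)
  have hO : pCore p L ≤ L₀ := by
    rw [← pCoreOf_top]
    exact h.pCoreOf_le hY
  have hc : ∀ N : Subgroup L, N.Normal → N ≤ L₀ → PClosed p N := fun N _ hN =>
    h.pClosed_of_le hY hN le_normalizer_of_normal
  have hF : ∀ N : Subgroup L, N.Normal → N ≤ L₀ →
      N.map (QuotientGroup.mk' (pCore p L)) ≤ frattini (L ⧸ pCore p L) := by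
    intro N _ hN
    intro x hx
    refine PFrattini.mem_frattini_iff.2 fun M hM => ?_
    revert x
    change N.map _ ≤ M
    rw [map_le_iff_le_comap]
    have hM' := isCoatom_comap_of_surjective hs hM
    set M' := M.comap (QuotientGroup.mk' (pCore p L))
    have hOM : pCore p L ≤ M' := by
      conv_lhs => rw [← QuotientGroup.ker_mk' (pCore p L)]
      exact ker_le_comap _ _
    by_contra h1
    have h2 : N ⊔ M' = ⊤ := hM'.2 _ (lt_of_le_not_ge le_sup_right fun h2 => h1 (le_sup_left.trans h2))
    obtain ⟨S, hS⟩ := Amb.exists_isSyl p M'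
    have h3 := isSyl_sup hS (pClosed_iff_isSyl.1 (hc N inferInstance hN))
      ((pCoreOf_le_pCore_of_subnormal (Normal.isSubnormal inferInstance)).trans hOM)
      le_normalizer_of_normal
    rw [h2] at h3
    obtain ⟨g, -, hg⟩ := h3.exists_cj_le hY le_top
    have h4 : M' ≤ cj(g, L₀) := (h.cj_of_mem (mem_top g)).max _ (hg.trans hS.le) hM'.lt_top
    have h5 : N ≤ cj(g, L₀) := by
      rw [← Amb.cj_of_normal g N]
      exact Amb.cj_mono g hN
    exact (h.cj_of_mem (mem_top g)).lt.not_ge (h2.ge.trans (sup_le h5 h4))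
  refine ⟨⟨normal_le_normalCore.2 hO, le_antisymm (hF _ inferInstance L₀.normalCore_le) ?_,
    isPClosed_iff_pClosed.2 (hc _ inferInstance L₀.normalCore_le)⟩, fun N _ hN =>
    ⟨isPClosed_iff_pClosed.2 (hc N inferInstance hN), ?_, ?_⟩⟩
  · rw [← map_comap_eq_self_of_surjective hs (frattini _)]
    refine map_mono (normal_le_normalCore.2 ?_)
    have h1 : IsCoatom (L₀.map (QuotientGroup.mk' (pCore p L))) := by
      have e : (L₀.map (QuotientGroup.mk' (pCore p L))).comap (QuotientGroup.mk' (pCore p L)) = L₀ := by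
        rw [comap_map_eq, QuotientGroup.ker_mk', sup_eq_left.2 hO]
      refine ⟨fun h1 => hL₀.1 (by rw [← e, h1, comap_top]), fun X hX => ?_⟩
      have h2 := hL₀.2 (X.comap (QuotientGroup.mk' (pCore p L)))
        (by rw [← e]; exact (comap_lt_comap_of_surjective hs).2 hX)
      rw [← map_comap_eq_self_of_surjective hs X, h2, map_top_of_surjective _ hs]
    refine (comap_mono (frattini_le_coatom h1)).trans ?_
    rw [comap_map_eq, QuotientGroup.ker_mk']
    exact sup_le le_rfl hO
  · have h1 : Group.IsNilpotent (frattini (L ⧸ pCore p L)) := frattini_nilpotent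
    have h2 : Group.IsNilpotent (N.map (QuotientGroup.mk' (pCore p L))) :=
      isNilpotent_of_le (hF N inferInstance hN)
    let f : N →* N.map (QuotientGroup.mk' (pCore p L)) := (QuotientGroup.mk' (pCore p L)).subgroupMap N
    have hk : pCore p N = f.ker := by
      rw [pCore_eq_subgroupOf_of_normal]
      ext x
      simp [f, mem_subgroupOf, MonoidHom.mem_ker, Subtype.ext_iff]
    exact isNilpotent_of_injective ((QuotientGroup.kerLift f).comp
      (QuotientGroup.quotientMulEquivOfEq hk).toMonoidHom)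
      ((QuotientGroup.kerLift_injective f).comp (QuotientGroup.quotientMulEquivOfEq hk).injective)
  · have h1 := (pClosed_iff_isSyl.1 (hc N inferInstance hN)).not_dvd_relIndex
    rw [relIndex, pCoreOf_subgroupOf] at h1
    exact ((Nat.Prime.coprime_iff_not_dvd Fact.out).2 h1).symm

end Cfsg.Agent.S2836
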