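import Cfsg.Statements.S2837
import Mathlib
import Cfsg.Agent.PLocal.PIrred

set_option autoImplicit false
open Cfsg

namespace Cfsg.Agent.S2837

open Subgroup Cfsg.Agent.PLocal Cfsg.Agent.PLocal.CP Cfsg.Agent.Grp
open scoped commutatorElement Cfsg.Agent.PLocal.Amb

/-- Let L be a finite group of characteristic p, L₀ a maximal subgroup, Y an elementary abelian p-subgroup of L₀ with L Y-minimal and O_p(L) ≤ N_L(Y). Put A = the normal closure of O_p(L) ∩ Y in L. Then for every g ∈ L outside L₀: Φ(A) = A' = [A ∩ Y, A] = [A ∩ Y, A ∩ gYg⁻¹] ≤ C_Y(L), and Y ∩ gYg⁻¹ = (A ∩ Y) ∩ (A ∩ gYg⁻¹) = C_Y(L) = C_A(L). -/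
theorem result {L : Type*} [Group L] [Finite L] {p : ℕ} [Fact p.Prime] (hchar : Subgroup.centralizer (Cfsg.pCore p L : Set L) ≤ Cfsg.pCore p L) (L₀ : Subgroup L) (hL₀ : IsCoatom L₀) (Y : Subgroup L) (hYL₀ : Y ≤ L₀) (hYel : Cfsg.IsElementaryAbelian p Y) (hmin : Cfsg.IsMinimalOver Y) (hOY : Cfsg.pCore p L ≤ Subgroup.normalizer (Y : Set L)) (A : Subgroup L) (hA : A = Subgroup.normalClosure (((Cfsg.pCore p L ⊓ Y : Subgroup L)) : Set L)) (g : L) (hg : g ∉ L₀) : (frattini ↥A).map A.subtype = ⁅A, A⁆ ∧ ⁅A, A⁆ = ⁅A ⊓ Y, A⁆ ∧ ⁅A ⊓ Y, A⁆ = ⁅A ⊓ Y, A ⊓ Y.map (MulAut.conj g).toMonoidHom⁆ ∧ ⁅A ⊓ Y, A⁆ ≤ Y ⊓ Subgroup.center L ∧ Y ⊓ Y.map (MulAut.conj g).toMonoidHom = Y ⊓ Subgroup.center L ∧ (A ⊓ Y) ⊓ (A ⊓ Y.map (MulAut.conj g).toMonoidHom) = Y ⊓ Subgroup.center L ∧ A ⊓ Subgroup.center L = Y ⊓ Subgroup.center L := by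
  have h := minOver_top_of hmin hL₀ hYL₀
  have hYc : Y ≤ 𝐂[Y] := isEA_le_centralizer hYel
  have hgen := h.sup_cj (mem_top g) hg
  have hinf := h.inf_cj hYc (mem_top g) hg
  rw [coe_top, centralizer_univ] at hinf
  set Q := pCore p L with hQ
  set B := cj(g, Y) with hB
  have hQn : Q.Normal := inferInstance
  have hBc : B ≤ 𝐂[B] := isEA_le_centralizer (isEA_map hYel _)
  have hQB : Q ≤ 𝐍[B] := by
    rw [hB, Amb.normalizer_cj, ← Amb.cj_of_normal g Q]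
    exact Amb.cj_mono g hOY
  have hQY' : ⁅Q, Y⁆ ≤ Q ⊓ Y := le_inf (commutator_le_left _ _)
    (le_normalizer_iff_commutator_le_right.1 hOY)
  have hQB' : ⁅Q, B⁆ ≤ Q ⊓ B := le_inf (commutator_le_left _ _)
    (le_normalizer_iff_commutator_le_right.1 hQB)
  have hYn : Y ≤ 𝐍[Q ⊓ Y] := le_normalizer_inf le_normalizer_of_normal le_normalizer
  have hBn : B ≤ 𝐍[Q ⊓ B] := le_normalizer_inf le_normalizer_of_normal le_normalizer
  have hQ1 : Q ≤ 𝐍[Q ⊓ Y] := le_normalizer_inf le_normalizer hOY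
  have hQ2 : Q ≤ 𝐍[Q ⊓ B] := le_normalizer_inf le_normalizer hQB
  have hAe : A = (Q ⊓ Y) ⊔ (Q ⊓ B) := by
    rw [hA, ← ncl_top]
    refine le_antisymm (ncl_le le_sup_left ?_) (sup_le (le_ncl _ _) ?_)
    · rw [← hgen]
      refine sup_le ?_ ?_
      · rw [sup_comm]
        exact le_normalizer_sup_of_commutator_le
          (((commutator_mono inf_le_left le_rfl).trans hQY').trans le_sup_right) hYn
      · exact le_normalizer_sup_of_commutator_le
          (((commutator_mono inf_le_left le_rfl).trans hQB').trans le_sup_right) hBn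
    · have := cj_le_ncl (Q ⊓ Y) (mem_top g)
      rwa [Amb.cj_inf, Amb.cj_of_normal] at this
  have hAQ : A ≤ Q := hAe ▸ sup_le inf_le_left inf_le_left
  have hAY : A ⊓ Y = Q ⊓ Y :=
    le_antisymm (inf_le_inf_right _ hAQ) (le_inf (hAe ▸ le_sup_left) inf_le_right)
  have hAB : A ⊓ B = Q ⊓ B :=
    le_antisymm (inf_le_inf_right _ hAQ) (le_inf (hAe ▸ le_sup_right) inf_le_right)
  have hc1 : ⁅Q ⊓ Y, Q ⊓ Y⁆ = ⊥ := commutator_eq_bot_iff_le_centralizer.2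
    (inf_le_right.trans (hYc.trans (Amb.centralizer_anti inf_le_right)))
  have hc2 : ⁅Q ⊓ B, Q ⊓ B⁆ = ⊥ := commutator_eq_bot_iff_le_centralizer.2
    (inf_le_right.trans (hBc.trans (Amb.centralizer_anti inf_le_right)))
  have hQn' : Q ≤ 𝐍[⁅Q ⊓ Y, Q ⊓ B⁆] := le_normalizer_commutator hQ1 hQ2
  have e1 : ⁅Q ⊓ Y, A⁆ = ⁅Q ⊓ Y, Q ⊓ B⁆ := by
    refine le_antisymm ?_ (commutator_mono le_rfl (hAe ▸ le_sup_right))
    rw [hAe]
    exact commutator_sup_le (inf_le_left.trans hQn') (inf_le_left.trans hQn') (hc1 ▸ bot_le) le_rfl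
  have e2 : ⁅A, Q ⊓ B⁆ ≤ ⁅Q ⊓ Y, Q ⊓ B⁆ := by
    rw [Subgroup.commutator_comm, hAe]
    exact commutator_sup_le (inf_le_left.trans hQn') (inf_le_left.trans hQn')
      (Subgroup.commutator_comm _ _).le (hc2 ▸ bot_le)
  have e3 : ⁅A, A⁆ = ⁅Q ⊓ Y, Q ⊓ B⁆ := by
    refine le_antisymm ?_ (commutator_mono (hAe ▸ le_sup_left) (hAe ▸ le_sup_right))
    conv_lhs => rw [show ⁅A, A⁆ = ⁅A, (Q ⊓ Y) ⊔ (Q ⊓ B)⁆ by rw [← hAe]]
    exact commutator_sup_le (inf_le_left.trans hQn') (inf_le_left.trans hQn')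
      ((Subgroup.commutator_comm _ _).le.trans e1.le) e2
  have hZQ : Y ⊓ center L ≤ Q := inf_le_right.trans ((center_le_centralizer _).trans hchar)
  have e4 : (Q ⊓ Y) ⊓ (Q ⊓ B) = Y ⊓ center L := by
    rw [← inf_inf_distrib_left, hinf, inf_eq_right.2 hZQ]
  rw [hAY, hAB, e1]
  refine ⟨?_, e3, rfl, ?_, hinf, e4, le_antisymm ?_ ?_⟩
  · have hAp : IsPGroup p A := (isPGroup_pCore p L).to_le hAQ
    apply le_antisymm
    · rw [map_le_iff_le_comap]
      refine PFrattini.frattini_le (p := p) ?_ fun x => ?_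
      · rw [← map_le_iff_le_comap, map_subtype_commutator]
      · have hx : (x : L) ∈ (Q ⊓ Y) ⊔ (Q ⊓ B) := hAe ▸ x.2
        obtain ⟨a, ha, b, hb, he⟩ := (CP.mem_sup_of_le_normalizer (inf_le_left.trans hQ2)).1 hx
        obtain ⟨c, hc, hc'⟩ := exists_mul_pow_eq_commutator (P := A) (hAe ▸ mem_sup_left ha)
          (hAe ▸ mem_sup_right hb) p
        rw [he, hYel.2 a ha.2, (isEA_map hYel _).2 b hb.2, one_mul, one_mul] at hc'
        change (x : L) ^ p ∈ ⁅A, A⁆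
        rwa [hc']
    · rw [← map_subtype_commutator]
      exact map_mono (PFrattini.commutator_le_frattini hAp)
  · rw [← e4]
    exact le_inf (le_normalizer_iff_commutator_le_left.1 (inf_le_left.trans hQ1))
      (le_normalizer_iff_commutator_le_right.1 (inf_le_left.trans hQ2))
  · refine le_inf (fun x hx => ?_) inf_le_right
    have hx' : x ∈ (Q ⊓ Y) ⊔ (Q ⊓ B) := hAe ▸ hx.1
    obtain ⟨a, ha, b, hb, rfl⟩ := (CP.mem_sup_of_le_normalizer (inf_le_left.trans hQ2)).1 hx'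
    have hb1 : b ∈ 𝐂[Y] := by
      have := mul_mem (inv_mem (hYc ha.2)) (center_le_centralizer _ hx.2)
      rwa [inv_mul_cancel_left] at this
    have hb2 : b ∈ center L := by
      rw [← centralizer_univ, ← coe_top, ← hgen, Amb.centralizer_sup]
      exact ⟨hb1, hBc hb.2⟩
    have hb3 : b ∈ Y := by
      have := Amb.mem_cj.1 (mem_inf.1 hb).2
      rwa [mul_assoc, ← mem_center_iff.1 hb2 g, inv_mul_cancel_left] at this
    exact Y.mul_mem ha.2 hb3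
  · exact le_inf ((le_inf hZQ inf_le_left).trans (hAe ▸ le_sup_left)) inf_le_right

end Cfsg.Agent.S2837
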