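import Cfsg.Statements.S2840
import Mathlib
import Cfsg.Agent.PLocal.WeakClosed

set_option autoImplicit false
open Cfsg

namespace Cfsg.Agent.S2840

open Subgroup Cfsg.Agent.PLocal Cfsg.Agent.PLocal.Amb Cfsg.Agent.Grp
open Cfsg.Agent.PLocal.CP (ncl IsCharP secCent)
open scoped commutatorElement

/-- Let Q be a nontrivial p-subgroup of the finite group H that is a weakly closed subgroup and K a subgroup containing Q; let K° be the weak closure of Q in K (generated by the H-conjugates of Q inside K). Then K° is generated by the K-conjugates of Q, and K° is the subnormal closure of Q in K. -/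
theorem result {H : Type*} [Group H] [Finite H] {p : ℕ} [Fact p.Prime] (Q : Subgroup H) (hQp : IsPGroup p ↥Q) (hQ1 : Q ≠ ⊥) (hwc : Cfsg.IsWeaklyClosedSubgroup p Q) (K : Subgroup H) (hQK : Q ≤ K) (Kc : Subgroup H) (hKc : Kc = Cfsg.weakClosure Q K) : Kc = ⨆ k : ↥K, ((Q : Subgroup H).map (MulAut.conj ((k : H) : H)).toMonoidHom) ∧ Kc = (Cfsg.subnormalClosure (Q.subgroupOf K)).map K.subtype := by
  have h := WC.isWC_of hwc
  subst hKc
  refine ⟨h.wcl_eq_ncl hQK, le_antisymm ?_ ?_⟩
  · rw [← map_subgroupOf_of_le (WC.wcl_le Q K)]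
    refine map_mono (le_sInf fun M hM => ?_)
    rw [subgroupOf_le_iff]
    refine inf_le_left.trans (h.wcl_le_of_snIn (snIn_map_subtype hM.2) ?_)
    rw [← map_subgroupOf_of_le hQK]
    exact map_mono hM.1
  · conv_rhs => rw [← map_subgroupOf_of_le (WC.wcl_le Q K)]
    refine map_mono (sInf_le ⟨subgroupOf_mono K (WC.le_wcl hQK), ?_⟩)
    exact (normal_subgroupOf' (WC.le_normalizer_wcl Q K)).isSubnormal

end Cfsg.Agent.S2840
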