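import Cfsg.Statements.S2841
import Mathlib
import Cfsg.Agent.PLocal.WeakClosed

set_option autoImplicit false
open Cfsg

namespace Cfsg.Agent.S2841

open Subgroup Cfsg.Agent.PLocal Cfsg.Agent.PLocal.Amb Cfsg.Agent.Grp
open Cfsg.Agent.PLocal.CP (ncl IsCharP secCent)
open scoped commutatorElement

/-- Let Q be a nontrivial p-subgroup of the finite group H that is a weakly closed subgroup and N a normal subgroup of H. Then N = N_N(Q)·[N, Q] and [N, Q] = (Q ∩ [N, Q])·[N, Q, Q]. -/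
theorem result {H : Type*} [Group H] [Finite H] {p : ℕ} [Fact p.Prime] (Q : Subgroup H) (hQp : IsPGroup p ↥Q) (hQ1 : Q ≠ ⊥) (hwc : Cfsg.IsWeaklyClosedSubgroup p Q) (N' : Subgroup H) [N'.Normal] : (∀ n : H, n ∈ N' → ∃ a ∈ N' ⊓ Subgroup.normalizer ((Q : Subgroup H) : Set H), ∃ b ∈ ⁅N', Q⁆, n = a * b) ∧ (∀ c : H, c ∈ ⁅N', Q⁆ → ∃ a ∈ Q ⊓ ⁅N', Q⁆, ∃ b ∈ ⁅⁅N', Q⁆, Q⁆, c = a * b) := by
  have h := WC.isWC_of hwc
  have key : ∀ N : Subgroup H, Q ≤ 𝐍[N] → ∀ n ∈ N, ∃ a ∈ N ⊓ 𝐍[Q], ∃ b ∈ ⁅N, Q⁆, n = a * b := by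
    intro N hN n hn
    have hQK : Q ≤ Q ⊔ ⁅N, Q⁆ := le_sup_left
    have hnK : n ∈ 𝐍[(Q ⊔ ⁅N, Q⁆ : Subgroup H)] := by
      rw [commutator_comm, ← CP.ncl_eq_sup_commutator]
      exact CP.le_normalizer_ncl Q N hn
    obtain ⟨k, hk, m, hm, he⟩ := h.frattini hQK (inv_mem hnK)
    obtain ⟨b, hb, q, hq, rfl⟩ := (mem_sup_of_le_normalizer_left (N := ⁅N, Q⁆) (H := Q)
      (normalizer_commutator_ge_right N Q)).1 (by rw [sup_comm]; exact hk)
    have hbN : b ∈ N := WC.commutator_le_left_of hN hb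
    refine ⟨n * b, ⟨mul_mem hn hbN, ?_⟩, b⁻¹, inv_mem hb, by group⟩
    have : n * b = (q * m)⁻¹ := by
      have : n = (b * q * m)⁻¹ := by rw [← he, inv_inv]
      rw [this]; group
    rw [this]
    exact (𝐍[Q]).inv_mem ((𝐍[Q]).mul_mem (le_normalizer hq) hm)
  refine ⟨key N' le_normalizer_of_normal, fun c hc => ?_⟩
  set M := ⁅N', Q⁆ with hM
  have hQM : Q ≤ 𝐍[M] := normalizer_commutator_ge_right _ _
  have hNM : N' ≤ 𝐍[M] := normalizer_commutator_ge_left _ _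
  have hn : Q ⊓ M ≤ 𝐍[⁅M, Q⁆] := inf_le_left.trans (normalizer_commutator_ge_right _ _)
  rw [← mem_sup_of_le_normalizer_right hn]
  revert c
  change M ≤ _
  rw [hM, commutator_le]
  intro n hn' q hq
  obtain ⟨a, ha, b, hb, rfl⟩ := key N' le_normalizer_of_normal n hn'
  rw [← hM] at hb ⊢
  -- [ab, q] = a [b,q] a⁻¹ [a,q]
  have e : ⁅a * b, q⁆ = ⁅a * b * a⁻¹, a * q * a⁻¹⁆ * ⁅a, q⁆ := by
    simp only [commutatorElement_def]; group
  rw [e]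
  refine mul_mem (mem_sup_right (commutator_mem_commutator
    (conj_mem_of_mem_normalizer (hNM ha.1) hb) (conj_mem_of_mem_normalizer ha.2 hq)))
    (mem_sup_left ⟨?_, commutator_mem_commutator ha.1 hq⟩)
  rw [commutatorElement_def]
  exact Q.mul_mem (conj_mem_of_mem_normalizer ha.2 hq) (Q.inv_mem hq)

end Cfsg.Agent.S2841
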