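import Cfsg.Statements.S2842
import Mathlib
import Cfsg.Agent.PLocal.WeakClosed

set_option autoImplicit false
open Cfsg

namespace Cfsg.Agent.S2842

open Subgroup Cfsg.Agent.PLocal Cfsg.Agent.PLocal.Amb Cfsg.Agent.Grp
open Cfsg.Agent.PLocal.CP (ncl IsCharP secCent)
open scoped commutatorElement

/-- Let Q be a nontrivial p-subgroup of the finite group H that is a weakly closed subgroup with C_H(Q) ≤ Q, and Q ≤ L ≤ H. Suppose H has characteristic p, or more generally that C_H(y) has characteristic p for some nonidentity y ∈ C_{O_p(L)}(Q). Then [Q, C_H(O_p(L))] ≤ Q ∩ O_p(L), C_H(O_p(L)) is a p-group, and L has characteristic p. -/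
theorem result {H : Type*} [Group H] [Finite H] {p : ℕ} [Fact p.Prime] (Q : Subgroup H) (hQp : IsPGroup p ↥Q) (hQ1 : Q ≠ ⊥) (hwc : Cfsg.IsWeaklyClosedSubgroup p Q) (hCQ : Subgroup.centralizer ((Q : Subgroup H) : Set H) ≤ Q) (L : Subgroup H) (hQL : Q ≤ L) (hyp : Subgroup.centralizer (Cfsg.pCore p H : Set H) ≤ Cfsg.pCore p H ∨ ∃ y : H, y ≠ 1 ∧ y ∈ (Cfsg.pCoreOf p L) ⊓ Subgroup.centralizer ((Q : Subgroup H) : Set H) ∧ Subgroup.centralizer (Cfsg.pCore p ↥(Subgroup.centralizer ({y} : Set H)) : Set ↥(Subgroup.centralizer ({y} : Set H))) ≤ Cfsg.pCore p ↥(Subgroup.centralizer ({y} : Set H))) : ⁅Q, Subgroup.centralizer (((Cfsg.pCoreOf p L) : Subgroup H) : Set H)⁆ ≤ Q ⊓ (Cfsg.pCoreOf p L) ∧ IsPGroup p ↥(Subgroup.centralizer (((Cfsg.pCoreOf p L) : Subgroup H) : Set H)) ∧ Subgroup.centralizer (Cfsg.pCore p ↥L : Set ↥L) ≤ Cfsg.pCore p ↥L := by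
  have h := WC.isWC_of hwc
  rcases hyp with hyp | ⟨y, -, hy, hyp⟩
  · obtain ⟨-, h1, h2, h3⟩ := h.centralizer_pCoreOf hCQ hQL (CP.isCharP_top_iff.2 hyp) le_top le_top
    exact ⟨h1, h2, CP.isCharP_iff.1 h3⟩
  · obtain ⟨-, h1, h2, h3⟩ := h.centralizer_pCoreOf hCQ hQL (CP.isCharP_iff.2 hyp)
      (by rw [← centralizer_zpowers, WC.le_centralizer_comm]; exact zpowers_le.2 hy.2)
      (by rw [← centralizer_zpowers]; exact centralizer_anti (zpowers_le.2 hy.1))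
    exact ⟨h1, h2, CP.isCharP_iff.1 h3⟩

end Cfsg.Agent.S2842
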