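import Cfsg.Statements.S2844
import Mathlib
import Cfsg.Agent.PLocal.WeakClosed

set_option autoImplicit false
open Cfsg

namespace Cfsg.Agent.S2844

open Subgroup Cfsg.Agent.PLocal Cfsg.Agent.PLocal.Amb Cfsg.Agent.Grp
open Cfsg.Agent.PLocal.CP (ncl IsCharP secCent)
open scoped commutatorElement

/-- Let Q be a nontrivial large p-subgroup of the finite group H and Q• = O_p(N_H(Q)). Then for every g ∈ H outside N_H(Q): C_H(Q) ∩ C_H(gQg⁻¹) = 1, C_H(Q•) ∩ C_H(gQ•g⁻¹) = 1, Z(Q) ∩ Z(gQg⁻¹) = 1 and Z(Q•) ∩ Z(gQ•g⁻¹) = 1; moreover N_H(Q) = N_H(Q•) and Q• is large in H. -/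
theorem result {H : Type*} [Group H] [Finite H] {p : ℕ} [Fact p.Prime] (Q : Subgroup H) (hQp : IsPGroup p ↥Q) (hQ1 : Q ≠ ⊥) (hL : Cfsg.IsLarge Q) (Qb : Subgroup H) (hQb : Qb = Cfsg.largeBullet p Q) : (∀ g : H, g ∉ Subgroup.normalizer ((Q : Subgroup H) : Set H) → Subgroup.centralizer ((Q : Subgroup H) : Set H) ⊓ Subgroup.centralizer ((((Q : Subgroup H).map (MulAut.conj (g : H)).toMonoidHom) : Subgroup H) : Set H) = ⊥ ∧ Subgroup.centralizer ((Qb : Subgroup H) : Set H) ⊓ Subgroup.centralizer ((((Qb : Subgroup H).map (MulAut.conj (g : H)).toMonoidHom) : Subgroup H) : Set H) = ⊥ ∧ (Q ⊓ Subgroup.centralizer ((Q : Subgroup H) : Set H)) ⊓ (((Q : Subgroup H).map (MulAut.conj (g : H)).toMonoidHom) ⊓ Subgroup.centralizer ((((Q : Subgroup H).map (MulAut.conj (g : H)).toMonoidHom) : Subgroup H) : Set H)) = ⊥ ∧ (Qb ⊓ Subgroup.centralizer ((Qb : Subgroup H) : Set H)) ⊓ (((Qb : Subgroup H).map (MulAut.conj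 (g : H)).toMonoidHom) ⊓ Subgroup.centralizer ((((Qb : Subgroup H).map (MulAut.conj (g : H)).toMonoidHom) : Subgroup H) : Set H)) = ⊥) ∧ Subgroup.normalizer ((Q : Subgroup H) : Set H) = Subgroup.normalizer ((Qb : Subgroup H) : Set H) ∧ Cfsg.IsLarge Qb := by
  have hw := WC.isWC_of_large hQp hQ1 hL
  have hQQ : Q ≤ Qb := hQb ▸ le_pCoreOf hQp le_normalizer le_rfl
  have hQbp : IsPGroup p Qb := hQb ▸ isPGroup_pCoreOf p _
  have hN : 𝐍[Q] = 𝐍[Qb] :=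
    le_antisymm (hQb ▸ le_normalizer_pCoreOf p _) (hw.normalizer_le hQbp hQQ)
  refine ⟨fun g hg => ?_, hN, (centralizer_anti hQQ).trans (hL.1.trans hQQ), fun U hU hU1 => ?_⟩
  · have h1 : 𝐂[Q] ⊓ 𝐂[cj(g, Q)] = ⊥ := by
      by_contra h0
      refine hg (cj_eq_iff.1 (hw.eq_of_mem_normalizer ?_))
      refine le_trans ?_ (hL.2 _ inf_le_left h0)
      exact (WC.le_centralizer_comm.1 inf_le_right).trans (centralizer_le_normalizer' _)
    have h2 : 𝐂[Qb] ⊓ 𝐂[cj(g, Qb)] = ⊥ :=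
      le_bot_iff.1 (h1 ▸ inf_le_inf (centralizer_anti hQQ) (centralizer_anti (cj_mono g hQQ)))
    exact ⟨h1, h2, le_bot_iff.1 (h1 ▸ inf_le_inf inf_le_right inf_le_right),
      le_bot_iff.1 (h2 ▸ inf_le_inf inf_le_right inf_le_right)⟩
  · rw [← hN]
    exact hL.2 U (hU.trans (centralizer_anti hQQ)) hU1

end Cfsg.Agent.S2844
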