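import Cfsg.Statements.S2845
import Mathlib
import Cfsg.Agent.PLocal.WeakClosed

set_option autoImplicit false
open Cfsg

namespace Cfsg.Agent.S2845

open Subgroup Cfsg.Agent.PLocal Cfsg.Agent.PLocal.Amb Cfsg.Agent.Grp
open Cfsg.Agent.PLocal.CP (ncl IsCharP secCent)
open scoped commutatorElement

/-- Let Q be a nontrivial large p-subgroup of the finite group H. Then for every subgroup L ≥ Q with O_p(L) ≠ 1, C_H(O_p(L)) is a p-group and L has characteristic p, and either the weak closure L° of Q in L equals Q or C_H(L°) = 1; for every subgroup R of H containing a Sylow p-subgroup of H with O_p(R) ≠ 1, C_H(O_p(R)) ≤ O_p(R); and H has parabolic characteristic p. -/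
theorem result {H : Type*} [Group H] [Finite H] {p : ℕ} [Fact p.Prime] (Q : Subgroup H) (hQp : IsPGroup p ↥Q) (hQ1 : Q ≠ ⊥) (hL : Cfsg.IsLarge Q) : (∀ L : Subgroup H, Q ≤ L → Cfsg.pCore p ↥L ≠ ⊥ → IsPGroup p ↥(Subgroup.centralizer (((Cfsg.pCoreOf p L) : Subgroup H) : Set H)) ∧ Subgroup.centralizer (Cfsg.pCore p ↥L : Set ↥L) ≤ Cfsg.pCore p ↥L ∧ (Cfsg.weakClosure Q L = Q ∨ Subgroup.centralizer (((Cfsg.weakClosure Q L) : Subgroup H) : Set H) = ⊥)) ∧ (∀ R : Subgroup H, Cfsg.IsParabolic p R → Cfsg.pCore p ↥R ≠ ⊥ → Subgroup.centralizer (((Cfsg.pCoreOf p R) : Subgroup H) : Set H) ≤ (Cfsg.pCoreOf p R)) ∧ Cfsg.IsOfParabolicCharacteristic p H := by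
  have hw := WC.isWC_of_large hQp hQ1 hL
  refine ⟨fun L hQL h1 => ?_, fun R ⟨T, hT⟩ h1 =>
    WC.large_parabolic hQp hQ1 hL (isSyl_top T) hT (mt pCoreOf_eq_bot_iff.1 h1),
    WC.large_isOfParabolicCharacteristic hQp hQ1 hL⟩
  obtain ⟨-, -, h3, h4⟩ := WC.large_centralizer_pCoreOf hQp hQ1 hL hQL (mt pCoreOf_eq_bot_iff.1 h1)
  refine ⟨h3, CP.isCharP_iff.1 h4, ?_⟩
  by_cases h0 : 𝐂[weakClosure Q L] = ⊥
  · exact Or.inr h0
  · left
    have h5 := hL.2 _ (centralizer_anti (WC.le_wcl hQL)) h0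
    refine hw.wcl_eq_self hQL (le_trans ?_ h5)
    exact le_normalizer_centralizer (WC.le_normalizer_wcl Q L)

end Cfsg.Agent.S2845
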