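import Cfsg.Statements.S2846
import Mathlib
import Cfsg.Agent.PLocal.FrakM

set_option autoImplicit false
set_option linter.unusedVariables false
open Cfsg

namespace Cfsg.Agent.S2846

open Subgroup Cfsg.Agent.PLocal Cfsg.Agent.PLocal.Amb Cfsg.Agent.Grp
open Cfsg.Agent.PLocal.CP (ncl IsCharP secCent)
open scoped commutatorElement

/-- Let Q be a nontrivial large p-subgroup of the finite group H, S a Sylow p-subgroup containing Q, and L a subgroup containing S with O_p(L) ≠ 1 and C_H(O_p(L)) ≤ O_p(L). Then there are a subgroup M containing S having the basic property (M ∈ 𝔐_H, writing Y_X for the largest p-reduced normal subgroup of X and 𝓛_H for the set of subgroups X with O_p(X) ≠ 1 and C_H(O_p(X)) ≤ O_p(X): M ∈ 𝓛_H, M·C_H(Y_M) is the only maximal member of 𝓛_H containing M and its largest p-reduced normal subgroup is again Y_M, C_M(Y_M) is p-closed, and the image of C_M(Y_M) in M/O_p(M) lies in the Frattini subgroup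 of M/O_p(M)) and a subgroup L* with S ≤ L* ≤ M, O_p(L*) ≠ 1, C_H(O_p(L*)) ≤ O_p(L*), such that L·C_H(Y_L) = L*·C_H(Y_L), the weak closures of Q in L and in L* agree and lie in that of M, and Y_L = Y_{L*} ≤ Y_M. If moreover Q is not normal in L, then Q is normal in neither L* nor M. -/
theorem result {H : Type*} [Group H] [Finite H] {p : ℕ} [Fact p.Prime] (Q : Subgroup H) (hQp : IsPGroup p ↥Q) (hQ1 : Q ≠ ⊥) (hLg : Cfsg.IsLarge Q) (S : Sylow p H) (hQS : Q ≤ (S : Subgroup H)) (L : Subgroup H) (hSL : (S : Subgroup H) ≤ L) (hL : L ∈ Cfsg.charPSubgroups p H) : ∃ M Ls : Subgroup H, (S : Subgroup H) ≤ M ∧ Cfsg.IsInFrakM p M ∧ (S : Subgroup H) ≤ Ls ∧ Ls ≤ M ∧ Ls ∈ Cfsg.charPSubgroups p H ∧ L ⊔ Subgroup.centralizer (((Cfsg.largestPReducedOf p L) : Subgroup H) : Set H) = Ls ⊔ Subgroup.centralizer (((Cfsg.largestPReducedOf p L) : Subgroup H) : Set H) ∧ Cfsg.weakClosure Q L = Cfsg.weakClosure Q Ls ∧ Cfsg.weakClosure Q Ls ≤ Cfsg.weakClosure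 Q M ∧ (Cfsg.largestPReducedOf p L) = (Cfsg.largestPReducedOf p Ls) ∧ (Cfsg.largestPReducedOf p Ls) ≤ (Cfsg.largestPReducedOf p M) ∧ (¬ L ≤ Subgroup.normalizer ((Q : Subgroup H) : Set H) → ¬ Ls ≤ Subgroup.normalizer ((Q : Subgroup H) : Set H) ∧ ¬ M ≤ Subgroup.normalizer ((Q : Subgroup H) : Set H)) := by
  have hL1 := (WC.mem_charPSubgroups.1 hL).1
  obtain ⟨M, Ls, h1, h2, h3, h4, h5, h6, h7, h8⟩ := WC.exists_frakM
    (WC.large_isOfParabolicCharacteristic hQp hQ1 hLg) (isSyl_top S) hSL hL1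
  have hw := WC.isWC_of_large hQp hQ1 hLg
  have hY1 := WC.Y_ne_bot (CP.isCharP_of_le_centralizer (WC.mem_charPSubgroups.1 hL).2)
    (isSyl_of_le S hSL) (WC.ne_bot_of_le hQS hQ1)
  have a1 := (WC.large_wcl_sup_centralizer hQp hQ1 hLg (hQS.trans hSL) (CP.isPGroup_Y p L) hY1
    (CP.le_normalizer_Y p L)).1
  have a2 := (WC.large_wcl_sup_centralizer hQp hQ1 hLg (hQS.trans h3) (CP.isPGroup_Y p L) hY1
    (h6 ▸ CP.le_normalizer_Y p Ls)).1
  have a3 : weakClosure Q L = weakClosure Q Ls := by rw [a1, a2, h8]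
  refine ⟨M, Ls, h1, h2, h3, h4, h5, h8, a3, WC.wcl_mono Q h4, h6, h6 ▸ h7, fun hn => ?_⟩
  have a4 : ¬ Ls ≤ 𝐍[Q] := by
    rwa [← WC.wcl_eq_self_iff hw (hQS.trans h3), ← a3, WC.wcl_eq_self_iff hw (hQS.trans hSL)]
  exact ⟨a4, fun h => a4 (h4.trans h)⟩

end Cfsg.Agent.S2846
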