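import Cfsg.Statements.S2851
import Mathlib
import Cfsg.Agent.PLocal.FrakM
import Cfsg.Agent.PLocal.FStar

set_option autoImplicit false
set_option linter.unusedVariables false
open Cfsg

namespace Cfsg.Agent.S2851

open Subgroup Cfsg.Agent.PLocal Cfsg.Agent.PLocal.Amb Cfsg.Agent.Grp
open Cfsg.Agent.PLocal.CP (ncl IsCharP secCent)
open scoped commutatorElement

/-- Standing hypotheses: G a finite group, S a Sylow p-subgroup, Q a nontrivial large p-subgroup of G contained in S, M a subgroup containing S with the basic property (M ∈ 𝔐_G(S)); Y_M the largest p-reduced normal subgroup of M and M† = M·C_G(Y_M). Let F be the preimage in M† of the generalized Fitting subgroup of M†/C_{M†}(Y_M). If Y_M is asymmetric in G and H is a subgroup of characteristic p containing F, then Y_M ≤ Y_H. -/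
theorem result {G : Type*} [Group G] [Finite G] {p : ℕ} [Fact p.Prime] (S : Sylow p G) (Q : Subgroup G) (hQp : IsPGroup p ↥Q) (hQ1 : Q ≠ ⊥) (hQS : Q ≤ (S : Subgroup G)) (hQ : Cfsg.IsLarge Q) (M : Subgroup G) (hSM : (S : Subgroup G) ≤ M) (hM : Cfsg.IsInFrakM p M) (hasym : ¬ Cfsg.IsSymmetricIn (Cfsg.largestPReducedOf p M)) [hn : ((Subgroup.centralizer (((Cfsg.largestPReducedOf p M) : Subgroup G) : Set G)).subgroupOf (M ⊔ Subgroup.centralizer (((Cfsg.largestPReducedOf p M) : Subgroup G) : Set G))).Normal] (F : Subgroup G) (hF : F = ((Cfsg.generalizedFittingSubgroup (↥(M ⊔ Subgroup.centralizer (((Cfsg.largestPReducedOf p M) : Subgroup G) : Set G)) ⧸ (Subgroup.centralizer (((Cfsg.largestPReducedOf p M) : Subgroup G) : Set G)).subgroupOf (M ⊔ Subgroup.centralizer (((Cfsg.largestPReducedOf p M) : Subgroup G) : Set G)))).comap (QuotientGroup.mk' ((Subgroup.centralizer (((Cfsg.largestPReducedOf p M) : Subgroup G) : Set G)).subgroupOf (M ⊔ Subgroup.centralizer (((Cfsg.largestPReducedOf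 p M) : Subgroup G) : Set G))))).map ((M ⊔ Subgroup.centralizer (((Cfsg.largestPReducedOf p M) : Subgroup G) : Set G))).subtype) (H : Subgroup G) (hFH : F ≤ H) (hH : Subgroup.centralizer (Cfsg.pCore p ↥H : Set ↥H) ≤ Cfsg.pCore p ↥H) : (Cfsg.largestPReducedOf p M) ≤ Cfsg.largestPReducedOf p H := by
  have h := WC.FM.of_large S hQp hQ1 hQ hSM hM
  have hw := h.isWC_core hasym
  set Y := largestPReducedOf p M with hY
  set Md := M ⊔ 𝐂[Y] with hMd
  have hN : 𝐍[Y] = Md := h.normalizer_Y
  set π := QuotientGroup.mk' ((𝐂[Y]).subgroupOf Md) with hπ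
  have hCF : 𝐂[Y] ≤ F := by
    rw [hF]
    conv_lhs => rw [← map_subgroupOf_of_le (le_sup_right : 𝐂[Y] ≤ Md)]
    refine map_mono ?_
    have := ker_le_comap π (generalizedFittingSubgroup _)
    rwa [hπ, QuotientGroup.ker_mk'] at this
  have hPH : pCoreOf p M ≤ H := (h.isSyl_core.le.trans hCF).trans hFH
  obtain ⟨T, hT, hPT⟩ := exists_isSyl_ge hw.pgrp hPH
  have hTM : T ≤ Md := (hw.le_norm hT.pgrp hPT).trans (h.normalizer_core_le.trans hN.le)
  have hred : pCore p (Md ⧸ (𝐂[Y]).subgroupOf Md) = ⊥ := by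
    rw [CP.pCore_quotient_subgroupOf_eq_bot_iff]
    exact ((CP.isPRed_Y p M).sup_centralizer).red
  have hYR : CP.IsPRed p Y (H ⊓ Md) := by
    refine ⟨le_inf ((CP.Y_le_pCoreOf p M).trans hPH) ((CP.Y_le p M).trans le_sup_left),
      inf_le_right.trans hN.ge, CP.Y_isEA p M, fun D h1 h2 h3 => ?_⟩
    have hDM : D ≤ Md := h1.trans inf_le_right
    set Db := (D.subgroupOf Md).map π with hDb
    set Fb := generalizedFittingSubgroup (Md ⧸ (𝐂[Y]).subgroupOf Md) with hFb
    have a1 : IsPGroup p Db := by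
      refine isPGroup_of_pRes_le (IsPGroup.of_bot) ?_
      rw [hDb, ← map_pRes, le_bot_iff, Subgroup.map_eq_bot_iff, hπ, QuotientGroup.ker_mk']
      intro x hx
      have := pRes_map_subtype (p := p) (D.subgroupOf Md)
      rw [map_subgroupOf_of_le hDM] at this
      exact h3 (this ▸ mem_map_subtype.2 hx)
    have a2 : Fb ≤ 𝐍[Db] := by
      intro f hf
      obtain ⟨x, rfl⟩ := QuotientGroup.mk'_surjective _ f
      have b1 : (x : G) ∈ F := by rw [hF]; exact mem_map_subtype.2 hf
      rw [← cj_eq_iff, hDb, ← map_cj, cj_subgroupOf, cj_of_mem_normalizer (h2 ⟨hFH b1, x.2⟩)]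
    have a3 : Db ⊓ Fb = ⊥ := by
      rw [eq_bot_iff, ← hred, ← pCoreOf_top]
      exact (le_pCoreOf (a1.to_le inf_le_left) inf_le_right
        (le_normalizer_inf a2 le_normalizer)).trans
        (pCoreOf_mono_of_normal le_top le_normalizer_of_normal)
    have a4 : Db ≤ Fb := by
      refine le_trans ?_ (centralizer_fstar_le _)
      rw [← commutator_eq_bot_iff_le_centralizer, eq_bot_iff, ← a3]
      exact WC.commutator_le_inf_of le_normalizer_of_normal a2
    rw [inf_eq_left.2 a4, hDb, Subgroup.map_eq_bot_iff, hπ, QuotientGroup.ker_mk'] at a3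
    intro x hx
    exact a3 (show (⟨x, hDM hx⟩ : Md) ∈ D.subgroupOf Md from hx)
  exact hYR.le_Y.trans ((CP.isCharP_iff.2 hH).Y_le_Y hT (le_inf hT.le hTM) inf_le_left)

end Cfsg.Agent.S2851
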