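import Cfsg.Statements.S2852
import Mathlib
import Cfsg.Agent.PLocal.FrakM

set_option autoImplicit false
set_option linter.unusedVariables false
open Cfsg

namespace Cfsg.Agent.S2852

open Subgroup Cfsg.Agent.PLocal Cfsg.Agent.PLocal.Amb Cfsg.Agent.Grp
open Cfsg.Agent.PLocal.CP (ncl IsCharP secCent)
open scoped commutatorElement

/-- Standing hypotheses: G a finite group, S a Sylow p-subgroup, Q a nontrivial large p-subgroup of G contained in S, M a subgroup containing S with the basic property (M ∈ 𝔐_G(S)); Y_M the largest p-reduced normal subgroup of M. If Y_M is char-p-tall and asymmetric in G, then some subgroup H of G lies in ℌ_G(O_p(M)): H has characteristic p, O_p(M) ≤ H, Y_M ≰ O_p(H), and Y_M ≤ O_p(P) for every proper subgroup P of H containing O_p(M). -/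
theorem result {G : Type*} [Group G] [Finite G] {p : ℕ} [Fact p.Prime] (S : Sylow p G) (Q : Subgroup G) (hQp : IsPGroup p ↥Q) (hQ1 : Q ≠ ⊥) (hQS : Q ≤ (S : Subgroup G)) (hQ : Cfsg.IsLarge Q) (M : Subgroup G) (hSM : (S : Subgroup G) ≤ M) (hM : Cfsg.IsInFrakM p M) (htall : Cfsg.IsCharPTall p (Cfsg.largestPReducedOf p M)) (hasym : ¬ Cfsg.IsSymmetricIn (Cfsg.largestPReducedOf p M)) : ∃ H : Subgroup G, Cfsg.IsInFrakH p M H := by
  have h := WC.FM.of_large S hQp hQ1 hQ hSM hM
  have hw := h.isWC_core hasym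
  obtain ⟨T, L, hTL, hL, hYL⟩ := htall
  obtain ⟨c, hc, he⟩ := h.isSyl_core.exists_cj_eq (isSyl_map_subtype T)
  have h1 : pCoreOf p M ≤ cj(c, L) := he ▸ cj_mono c hTL
  have h2 : IsCharP p cj(c, L) := (CP.isCharP_iff.2 hL).conj c
  have h3 : ¬ largestPReducedOf p M ≤ pCoreOf p cj(c, L) := by
    rw [pCoreOf_cj, ← cj_of_mem_normalizer (centralizer_le_normalizer' _ hc), cj_le_cj_iff]
    exact hYL
  obtain ⟨H, hH, hmin⟩ := (Set.toFinite {X : Subgroup G | pCoreOf p M ≤ X ∧ X ≤ cj(c, L) ∧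
    ¬ largestPReducedOf p M ≤ pCoreOf p X}).exists_minimal ⟨_, h1, le_rfl, h3⟩
  refine ⟨H, CP.isCharP_iff.1 ?_, hH.1, hH.2.2, fun P hP hPH => ?_⟩
  · exact h2.of_le_of_centralizer (hw.pCoreOf_le_normalizer (h1.trans le_normalizer))
      (hw.pgrp.to_le (inf_le_right.trans h.centralizer_core_le)) hH.1 hH.2.1
  · by_contra h0
    exact hPH.not_ge (hmin ⟨hP, hPH.le.trans hH.2.1, h0⟩ hPH.le)

end Cfsg.Agent.S2852
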