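import Cfsg.Statements.S2854
import Mathlib
import Cfsg.Agent.PLocal.FrakM

set_option autoImplicit false
set_option linter.unusedVariables false
open Cfsg

namespace Cfsg.Agent.S2854

open Subgroup Cfsg.Agent.PLocal Cfsg.Agent.PLocal.Amb Cfsg.Agent.Grp
open Cfsg.Agent.PLocal.CP (ncl IsCharP secCent)
open scoped commutatorElement

/-- Standing hypotheses: G a finite group, S a Sylow p-subgroup, Q a nontrivial large p-subgroup of G contained in S, M a subgroup containing S with the basic property (M ∈ 𝔐_G(S)); Y_M the largest p-reduced normal subgroup of M and M† = M·C_G(Y_M). Suppose Y_M is asymmetric in G, H ∈ ℌ_G(O_p(M)), and H ≤ N_G(gQg⁻¹) for some g ∈ G. Then gQg⁻¹ ≤ O_p(H·gQg⁻¹) ≤ N_G(O_p(M)) ≤ N_G(Y_M) = M†; H is normal in H·gQg⁻¹ with O^p(H) = O^p(H·gQg⁻¹); and H·gQg⁻¹ is p-irreducible. -/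
theorem result {G : Type*} [Group G] [Finite G] {p : ℕ} [Fact p.Prime] (S : Sylow p G) (Q : Subgroup G) (hQp : IsPGroup p ↥Q) (hQ1 : Q ≠ ⊥) (hQS : Q ≤ (S : Subgroup G)) (hQ : Cfsg.IsLarge Q) (M : Subgroup G) (hSM : (S : Subgroup G) ≤ M) (hM : Cfsg.IsInFrakM p M) (hasym : ¬ Cfsg.IsSymmetricIn (Cfsg.largestPReducedOf p M)) (H : Subgroup G) (hH : Cfsg.IsInFrakH p M H) (g : G) (hHQ : H ≤ Subgroup.normalizer ((((Q : Subgroup G).map (MulAut.conj (g : G)).toMonoidHom) : Subgroup G) : Set G)) : ((Q : Subgroup G).map (MulAut.conj (g : G)).toMonoidHom) ≤ Cfsg.pCoreOf p (H ⊔ ((Q : Subgroup G).map (MulAut.conj (g : G)).toMonoidHom)) ∧ Cfsg.pCoreOf p (H ⊔ ((Q : Subgroup G).map (MulAut.conj (g : G)).toMonoidHom)) ≤ Subgroup.normalizer (((Cfsg.pCoreOf p M) : Subgroup G) : Set G) ∧ Subgroup.normalizer (((Cfsg.pCoreOf p M) : Subgroup G) : Set G) ≤ Subgroup.normalizer (((Cfsg.largestPReducedOf p M) : Subgroup G) : Set G) ∧ Subgroup.normalizer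 (((Cfsg.largestPReducedOf p M) : Subgroup G) : Set G) = (M ⊔ Subgroup.centralizer (((Cfsg.largestPReducedOf p M) : Subgroup G) : Set G)) ∧ (H.subgroupOf (H ⊔ ((Q : Subgroup G).map (MulAut.conj (g : G)).toMonoidHom))).Normal ∧ (Cfsg.pResidual p ↥H).map H.subtype = (Cfsg.pResidual p ↥(H ⊔ ((Q : Subgroup G).map (MulAut.conj (g : G)).toMonoidHom))).map (H ⊔ ((Q : Subgroup G).map (MulAut.conj (g : G)).toMonoidHom)).subtype ∧ Cfsg.IsPIrreducible p ↥(H ⊔ ((Q : Subgroup G).map (MulAut.conj (g : G)).toMonoidHom)) := by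
  have h := WC.FM.of_large S hQp hQ1 hQ hSM hM
  have hw := h.isWC_core hasym
  set Q' := cj(g, Q) with hQ'
  have hQ'p : IsPGroup p Q' := isPGroup_cj g hQp
  have h1 : Q' ≤ pCoreOf p (H ⊔ Q') := le_pCoreOf hQ'p le_sup_right (sup_le hHQ le_normalizer)
  have h2 : pCoreOf p (H ⊔ Q') ≤ 𝐍[pCoreOf p M] :=
    hw.pCoreOf_le_normalizer ((hH.2.1.trans le_sup_left).trans le_normalizer)
  have h3 : Q' ≤ 𝐍[H] := by
    rw [← WC.FM.frakH_ncl_core hH]
    refine WC.le_normalizer_iSup fun x => ?_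
    rw [normalizer_cj, ← cj_of_mem_normalizer (hHQ x.2)]
    exact cj_mono _ (h1.trans h2)
  refine ⟨h1, h2, h.normalizer_core_le, h.normalizer_Y,
    normal_subgroupOf' (sup_le le_normalizer h3), (pRes_sup_eq hQ'p h3).symm, ?_⟩
  refine WC.isPIrreducible_of_minimal (P := Q' ⊔ pCoreOf p M) (Y := largestPReducedOf p M)
    (isPGroup_sup hQ'p hw.pgrp (h1.trans h2)) (sup_le le_sup_right (hH.2.1.trans le_sup_left))
    ((CP.Y_le_pCoreOf p M).trans le_sup_right) (fun h0 => hH.2.2.1 ?_) fun K hK hlt => ?_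
  · exact (le_inf ((CP.Y_le_pCoreOf p M).trans hH.2.1) h0).trans (inf_pCoreOf_le le_sup_left)
  · have a1 : Q' ⊔ (H ⊓ K) = K := by
      rw [← sup_inf_of_le_normalizer (le_sup_left.trans hK) h3, sup_comm]
      exact inf_eq_right.2 hlt.le
    have a2 : H ⊓ K < H := by
      refine lt_of_le_of_ne inf_le_left fun h0 => hlt.ne ?_
      rw [← a1, h0, sup_comm]
    refine (hH.2.2.2 _ (le_inf hH.2.1 (le_sup_right.trans hK)) a2).trans
      (pCoreOf_mono_of_normal inf_le_right (le_normalizer_inf ?_ le_normalizer))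
    exact hlt.le.trans (sup_le le_normalizer h3)

end Cfsg.Agent.S2854
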