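import Cfsg.Statements.S2855
import Mathlib
import Cfsg.Agent.PLocal.PMinimal
import Cfsg.Agent.S2829

set_option autoImplicit false
open Cfsg

namespace Cfsg.Agent.S2855

open Subgroup Cfsg.Agent.PLocal Cfsg.Agent.PLocal.CP Cfsg.Agent.Grp
open scoped commutatorElement Cfsg.Agent.PLocal.Amb

theorem strong_le {G : Type*} [Group G] {p : ℕ} {E N : Subgroup G}
    (h : IsStronglyPIrreducible p E) (h1 : N ≤ E) (h2 : E ≤ 𝐍[N]) (h3 : ¬ ⁅N, E⁆ ≤ pCoreOf p E) :
    𝐎[p, E] ≤ N := by
  rw [← Amb.map_subgroupOf_of_le h1]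
  refine map_mono (h.2 _ (Amb.normal_subgroupOf' h2) fun h4 => h3 ?_)
  have := map_mono (f := E.subtype) h4
  rwa [map_commutator, Amb.map_subgroupOf_of_le h1, ← MonoidHom.range_eq_map, range_subtype] at this


/-- Let H be a finite group, p a prime, and 𝒦 a nonempty set of subgroups of H permuted transitively by conjugation, with R the subgroup generated by the members of 𝒦. Suppose O^p(H) ≤ R, each E ∈ 𝒦 has E·O_p(H) normal in R·O_p(H), and each E ∈ 𝒦 is p-minimal (generated by the conjugates of a Sylow p-subgroup T_E of E, with T_E in exactly one maximal subgroup of E). Then H is p-minimal in the same sense. If instead each E ∈ 𝒦 is strongly p-irreducible, then H is p-irreducible and, for E, K ∈ 𝒦, either O^p(E·O_p(H)) = O^p(K·O_p(H)) or [E, K] ≤ O_p(H). -/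
theorem result {H : Type*} [Group H] [Finite H] {p : ℕ} [Fact p.Prime] (𝒦 : Set (Subgroup H)) (hne : 𝒦.Nonempty) (hinv : ∀ h : H, ∀ E ∈ 𝒦, E.map (MulAut.conj h).toMonoidHom ∈ 𝒦) (htr : ∀ E ∈ 𝒦, ∀ K ∈ 𝒦, ∃ h : H, K = E.map (MulAut.conj h).toMonoidHom) (hres : Cfsg.pResidual p H ≤ sSup 𝒦) (hnorm : ∀ E ∈ 𝒦, sSup 𝒦 ⊔ Cfsg.pCore p H ≤ Subgroup.normalizer ((E ⊔ Cfsg.pCore p H : Subgroup H) : Set H)) : ((∀ E ∈ 𝒦, ∀ T : Sylow p ↥E, Cfsg.IsMinimalOver (T : Subgroup ↥E)) → ∀ T : Sylow p H, Cfsg.IsMinimalOver (T : Subgroup H)) ∧ ((∀ E ∈ 𝒦, Cfsg.IsStronglyPIrreducible p ↥E) → Cfsg.IsPIrreducible p H ∧ ∀ E ∈ 𝒦, ∀ K ∈ 𝒦, (Cfsg.pResidual p ↥(E ⊔ Cfsg.pCore p H)).map (E ⊔ Cfsg.pCore p H).subtype = (Cfsg.pResidual p ↥(K ⊔ Cfsg.pCore p H)).map (K ⊔ Cfsg.pCore p H).subtype ∨ ⁅E, K⁆ ≤ Cfsg.pCore p H) := by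
  set Q := pCore p H with hQ
  set R := sSup 𝒦 with hR
  have hQn : Q.Normal := inferInstance
  have hQp : IsPGroup p Q := CP.isPGroup_pCore p H
  have hRn : R.Normal := normal_of_cj_le fun g => Amb.cj_le_iff.2 (sSup_le fun E hE =>
    Amb.cj_le_iff.1 (le_sSup (hinv g E hE)))
  have hER : ∀ E ∈ 𝒦, E ⊔ Q ≤ R ⊔ Q := fun E hE => sup_le_sup_right (le_sSup hE) Q
  have hsn : ∀ E ∈ 𝒦, SnIn (E ⊔ Q) ⊤ := fun E hE =>
    (SnIn.of_le_normalizer (hER E hE) (hnorm E hE)).trans (SnIn.of_normal le_top)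
  have hcj : ∀ (g : H) (E : Subgroup H), cj(g, E ⊔ Q) = cj(g, E) ⊔ Q := fun g E => by
    rw [Amb.cj_sup, Amb.cj_of_normal g Q]
  have hO : ∀ E ∈ 𝒦, pCoreOf p E ≤ Q := fun E hE => by
    have h1 : pCoreOf p E ⊔ Q ≤ pCoreOf p (E ⊔ Q) := CP.le_pCoreOf
      (sup_le_sup_right (CP.pCoreOf_le p E) Q) (sup_le (le_normalizer_sup
        (CP.le_normalizer_pCoreOf p E) le_normalizer_of_normal) (le_sup_right.trans le_normalizer))
      (Amb.isPGroup_sup (CP.isPGroup_pCoreOf p E) hQp le_normalizer_of_normal)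
    exact le_sup_left.trans (h1.trans ((pCoreOf_le_of_snIn (hsn E hE)).trans CP.pCoreOf_top.le))
  obtain ⟨E, hE⟩ := hne
  refine ⟨fun hmin T => ?_, fun hstr => ?_⟩
  · have hT := Amb.isSyl_top T
    have hRT : (R ⊔ Q) ⊔ T = ⊤ :=
      hT.sup_eq_of_pRes_le (by rw [Amb.pRes_top]; exact hres.trans le_sup_left) le_top
    have hT₁ := isSyl_inf_of_snIn hT (hsn E hE)
    obtain ⟨h1, h2⟩ := isSyl_inf_of_sup hT₁ hQp le_normalizer_of_normal
    obtain ⟨S, hS⟩ := h1.exists_sylow
    have h3 := hmin E hE S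
    rw [hS, isMinimalOver_subgroupOf_iff h1.le] at h3
    obtain ⟨M₀, h3⟩ := h3
    have h4 := h3.sup le_normalizer_of_normal
      ((CP.le_pCoreOf inf_le_left (le_normalizer_inf le_normalizer le_normalizer_of_normal)
        (hQp.to_le inf_le_right)).trans (h3.pCoreOf_le h1.pgrp))
    rw [h2] at h4
    set M₁ := M₀ ⊔ Q
    set D := (R ⊔ Q) ⊓ ⨅ t : (T : Subgroup H), cj((t : H), 𝐍[M₁]) with hD
    have hTD : (T : Subgroup H) ≤ 𝐍[D] := by
      refine le_normalizer_inf le_normalizer_of_normal ?_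
      rw [Amb.le_normalizer_iff_cj]
      intro s hs
      refine le_iInf fun t => ?_
      rw [Amb.cj_le_iff, ← Amb.cj_mul]
      exact iInf_le (fun t : (T : Subgroup H) => cj((t : H), 𝐍[M₁])) ⟨s⁻¹ * t, mul_mem (inv_mem hs) t.2⟩
    refine isMinimalOver_iff.2 ⟨D ⊔ T, minOver_of_isSyl hT (fun h5 => ?_) le_sup_right
      (lt_top_iff_ne_top.2 fun h5 => ?_) fun X h5 h6 => ?_⟩
    · exact h4.not_le_normalizer (le_normalizer_inf (le_top.trans h5) le_normalizer)
    · have h6 := Amb.pRes_sup_le hT.pgrp hTD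
      rw [h5] at h6
      have h7 : D ≤ 𝐍[M₁] := by
        have := (inf_le_right.trans (iInf_le (fun t : (T : Subgroup H) => cj((t : H), 𝐍[M₁])) 1) :
          D ≤ _)
        rwa [OneMemClass.coe_one, Amb.cj_one] at this
      exact h4.not_pRes_le hT₁ ((le_inf (Amb.pRes_le p _)
        ((Amb.pRes_mono le_top).trans (h6.trans h7))).trans (h4.inf_normalizer_le h4.le le_rfl))
    · have h7 : ¬ E ⊔ Q ≤ X := fun h7 => by
        refine h6.not_ge (hRT.ge.trans (sup_le (sup_le (sSup_le fun K hK => ?_)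
          (le_sup_right.trans h7)) h5))
        obtain ⟨g, rfl⟩ := htr E hE K hK
        have hg : g ∈ (T : Subgroup H) ⊔ (R ⊔ Q) := by
          rw [sup_comm, hRT]
          exact mem_top g
        obtain ⟨t, ht, r, hr, rfl⟩ := (CP.mem_sup_of_le_normalizer le_normalizer_of_normal).1 hg
        refine (Amb.cj_mono _ le_sup_left).trans (?_ : cj(t * r, E ⊔ Q) ≤ X)
        rw [Amb.cj_mul, Amb.cj_of_mem_normalizer (hnorm E hE hr)]
        exact Amb.cj_le_of_mem h7 (h5 ht)
      have h8 : (T : Subgroup H) ⊓ (E ⊔ Q) ≤ X ⊓ (E ⊔ Q) := inf_le_inf_right _ h5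
      have h9 : X ⊓ (E ⊔ Q) ≤ M₁ := h4.le_of_le h8 inf_le_right fun h9 => h7 (h9.trans inf_le_left)
      have h10 : (R ⊔ Q) ⊓ X ≤ 𝐍[M₁] := fun g hg => by
        obtain ⟨y, hy, n, hn, he⟩ := (hT₁.mono h8 inf_le_right).frattini
          (le_normalizer_inf (inf_le_right.trans le_normalizer) (inf_le_left.trans (hnorm E hE)) hg)
        have h11 : n ∈ 𝐍[E ⊔ Q] := by
          have := mul_mem (inv_mem (le_normalizer hy.2)) (hnorm E hE hg.1)
          rwa [he, inv_mul_cancel_left] at this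
        rw [he]
        exact mul_mem (le_normalizer (h9 hy)) (h4.normalizer_le ⟨hn, h11⟩)
      have h11 := Amb.sup_inf_of_le_normalizer (B := R ⊔ Q) h5 le_normalizer_of_normal
      rw [sup_comm, hRT, top_inf_eq, sup_comm] at h11
      rw [h11]
      refine sup_le_sup_right (le_inf inf_le_left (le_iInf fun t => ?_)) _
      rw [← Amb.cj_of_mem_normalizer (le_normalizer_inf le_normalizer_of_normal
        (h5.trans le_normalizer) t.2 : (t : H) ∈ 𝐍[(R ⊔ Q) ⊓ X])]
      exact Amb.cj_mono _ h10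
  · have hirr : ∀ E ∈ 𝒦, PIrr p E := fun E hE =>
      isPIrreducible_iff_pIrr.1 (S2829.result (hstr E hE))
    -- the dichotomy for a subgroup `N` with `Q ≤ N ⊴ R Q`
    have key : ∀ E ∈ 𝒦, ∀ N, Q ≤ N → N ≤ R ⊔ Q → R ⊔ Q ≤ 𝐍[N] → SnIn N ⊤ →
        𝐎[p, (E ⊔ Q : Subgroup H)] ≤ N ∨ ⁅N, E⁆ ≤ Q := by
      intro E hE N h1 h2 h3 h4
      have hEN : E ⊔ Q ≤ 𝐍[N] := (hER E hE).trans h3
      by_cases h5 : ⁅E ⊓ N, E⁆ ≤ pCoreOf p E
      · right
        obtain ⟨S, hS⟩ := Amb.exists_isSyl p E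
        have h6 : ⁅N, S ⊔ Q⁆ ≤ Q ⊔ (E ⊓ N) := by
          rw [← Amb.sup_inf_of_le_normalizer' h1 le_normalizer_of_normal, sup_comm Q E]
          exact le_inf ((commutator_mono le_rfl (sup_le_sup_right hS.le Q)).trans
            (le_normalizer_iff_commutator_le_right.1 (h2.trans (hnorm E hE))))
            (le_normalizer_iff_commutator_le_left.1 ((sup_le_sup_right hS.le Q).trans hEN))
        have h7 := commutator_le_pCoreOf (Amb.isPGroup_sup hS.pgrp hQp le_normalizer_of_normal)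
          ((sup_le_sup_right hS.le Q).trans hEN) (h6.trans (sup_le (le_sup_right.trans le_normalizer)
            (le_normalizer_sup_of_commutator_le (by
              rw [Subgroup.commutator_comm]
              exact ((commutator_mono le_rfl hS.le).trans (h5.trans (hO E hE))).trans le_sup_right)
              le_normalizer_of_normal)))
        have h8 : ⁅N, S⁆ ≤ Q := (commutator_mono le_rfl le_sup_left).trans
          (h7.trans ((pCoreOf_le_of_snIn h4).trans CP.pCoreOf_top.le))
        rw [← (hirr E hE).ncl_syl hS]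
        exact commutator_ncl_le (le_sup_left.trans hEN) le_normalizer_of_normal
          le_normalizer_of_normal h8
      · left
        have h6 := (strong_le (hstr E hE) inf_le_left
          (le_normalizer_inf le_normalizer (le_sup_left.trans hEN)) h5).trans inf_le_right
        exact (Amb.pRes_mono (sup_le_sup_left h1 E)).trans
          (pRes_sup_le_of_le (le_sup_left.trans hEN) h6)
    have key2 : ∀ C : Subgroup H, C.Normal → (∀ K ∈ 𝒦, 𝐎[p, (K ⊔ Q : Subgroup H)] ≤ C) →
        pResidual p H ≤ C := by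
      intro C _ h
      have h1 : R ⊔ Q ≤ opMod p C (R ⊔ Q) := sup_le (sSup_le fun K hK =>
        le_sup_left.trans (le_opMod (hER K hK) (hnorm K hK) (h K hK)))
        (le_sup_right.trans (le_opMod (hER E hE) (hnorm E hE) (h E hE)))
      rw [← Amb.pRes_top, ← Amb.pRes_pRes, Amb.pRes_top]
      exact (Amb.pRes_mono ((hres.trans le_sup_left).trans h1)).trans
        (pRes_opMod_le le_normalizer_of_normal)
    refine ⟨pIrr_top.1 ⟨fun h => (hirr E hE).not_pClosed (h.mono le_top),
      fun N _ h1 Y h2 h3 h4 => ?_⟩, fun E hE K hK => ?_⟩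
    · have := normal_of_top_le h1
      rw [Amb.pRes_top]
      rcases key E hE ((N ⊔ Q) ⊓ (R ⊔ Q)) (le_inf le_sup_right le_sup_right) inf_le_right
        le_normalizer_of_normal (SnIn.of_normal le_top) with h5 | h5
      · have h6 := key2 (N ⊔ Q) inferInstance fun K hK => by
          obtain ⟨g, rfl⟩ := htr E hE K hK
          rw [← hcj, Amb.pRes_cj]
          exact Amb.cj_le_of_mem_normalizer (h5.trans inf_le_left)
            (le_normalizer_of_normal (mem_top g))
        rw [← Amb.pRes_top, ← Amb.pRes_pRes, Amb.pRes_top]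
        exact (Amb.pRes_mono h6).trans (Amb.pRes_sup_le hQp le_normalizer_of_normal)
      · exfalso
        have h6 : ⁅(N ⊔ Q) ⊓ (R ⊔ Q), R⁆ ≤ Q := by
          rw [Subgroup.commutator_comm]
          refine CommMod.commutator_sSup_le (fun _ _ => le_normalizer_of_normal) fun K hK => ?_
          obtain ⟨g, rfl⟩ := htr E hE K hK
          rw [Subgroup.commutator_comm, ← Amb.cj_of_normal g ((N ⊔ Q) ⊓ (R ⊔ Q)), Amb.commutator_cj]
          exact Amb.cj_le_of_mem_normalizer h5 (le_normalizer_of_normal (mem_top g))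
        have h7 : ⁅R, N⁆ ≤ (N ⊔ Q) ⊓ (R ⊔ Q) := le_inf ((commutator_le_right _ _).trans le_sup_left)
          ((commutator_le_left _ _).trans le_sup_left)
        have h8 : ⁅⁅R, R⁆, N⁆ ≤ Q := CommMod.three_subgroups_mod_of_normal
          ((commutator_mono h7 le_rfl).trans h6)
          ((commutator_mono ((Subgroup.commutator_comm _ _).le.trans h7) le_rfl).trans h6)
        have h9 := key2 (⁅R, R⁆ ⊔ Q) inferInstance fun K hK =>
          (Amb.pRes_mono (sup_le_sup_left le_sup_right K)).trans (pRes_sup_le_of_le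
            le_normalizer_of_normal (((hirr K hK).pRes_le_commutator.trans
              (commutator_mono (le_sSup hK) (le_sSup hK))).trans le_sup_left))
        have h10 : ⁅pResidual p H, N⁆ ≤ Q := (commutator_mono h9 le_rfl).trans
          (CommMod.commutator_sup_le_of_normal h8 (commutator_le_left _ _))
        obtain ⟨T, hT, hYT⟩ := Amb.exists_isSyl_ge h3 le_top
        refine h4 ((le_inf hYT h2).trans (le_sup_left.trans (CP.le_pCoreOf (N := (T ⊓ N) ⊔ Q)
          le_top ?_ (Amb.isPGroup_sup (hT.pgrp.to_le inf_le_left) hQp le_normalizer_of_normal))))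
        rw [← hT.pRes_sup, Amb.pRes_top]
        refine sup_le (le_normalizer_sup_of_commutator_le ?_ le_normalizer_of_normal)
          (le_normalizer_sup (le_normalizer_inf le_normalizer le_normalizer_of_normal)
            le_normalizer_of_normal)
        rw [Subgroup.commutator_comm]
        exact ((commutator_mono le_rfl inf_le_right).trans h10).trans le_sup_right
    · rcases key E hE (K ⊔ Q) le_sup_right (hER K hK) (hnorm K hK) (hsn K hK) with h1 | h1
      · rcases key K hK (E ⊔ Q) le_sup_right (hER E hE) (hnorm E hE) (hsn E hE) with h2 | h2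
        · left
          apply le_antisymm
          · rw [← Amb.pRes_pRes]
            exact Amb.pRes_mono h1
          · rw [← Amb.pRes_pRes]
            exact Amb.pRes_mono h2
        · exact Or.inr ((commutator_mono le_sup_left le_rfl).trans h2)
      · right
        rw [Subgroup.commutator_comm]
        exact (commutator_mono le_sup_left le_rfl).trans h1

end Cfsg.Agent.S2855
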