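import Cfsg.Statements.S2859
import Mathlib
import Cfsg.Agent.PLocal.WeakClosed

set_option autoImplicit false
set_option linter.unusedVariables false
open Cfsg

namespace Cfsg.Agent.S2859

open Subgroup Cfsg.Agent.PLocal Cfsg.Agent.PLocal.Amb Cfsg.Agent.Grp
open Cfsg.Agent.PLocal.CP (ncl IsCharP secCent)
open scoped commutatorElement

theorem aux {G : Type*} [Group G] [Finite G] {p : ℕ} [Fact p.Prime] {Q Hc H₁ H₂ K₁ : Subgroup G}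
    (hw : WC.IsWC p Q) (hHc : Hc = weakClosure Q ⊤) (hn₁ : H₁ ≤ Hc ∧ Hc ≤ 𝐍[H₁])
    (hn₂ : H₂ ≤ Hc ∧ Hc ≤ 𝐍[H₂]) (hprod : H₁ ⊔ H₂ = Hc) (hcomm : ⁅H₁, H₂⁆ ≤ 𝐍[Q])
    (hK₁ : K₁ = 𝐎[p, weakClosure Q (H₁ ⊔ Q)]) :
    (⁅K₁, Q⁆ = K₁ ∧ ⁅K₁, H₁⁆ = K₁ ∧ K₁ ≤ ⁅H₁, H₁⁆ ∧ Hc ≤ 𝐍[K₁]) ∧ ⁅K₁, H₂⁆ ≤ pCoreOf p Hc ∧
      K₁ ≤ H₁ ∧ H₁ ≤ 𝐍[(K₁ ⊔ Q : Subgroup G)] ∧ K₁ ≤ 𝐎[p, Hc] := by
  have hQH : Q ≤ Hc := hHc ▸ WC.le_wcl le_top
  set Z := pCoreOf p Hc with hZ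
  set D := ⁅H₁, H₂⁆ with hD
  have hHZ : Hc ≤ 𝐍[Z] := le_normalizer_pCoreOf p Hc
  have hZH : Z ≤ Hc := pCoreOf_le p Hc
  have hZp : IsPGroup p Z := isPGroup_pCoreOf p Hc
  have hHD : Hc ≤ 𝐍[D] := le_normalizer_commutator hn₁.2 hn₂.2
  have hDH : D ≤ Hc := (commutator_le_sup _ _).trans hprod.le
  have hHn : ncl Q Hc = Hc := by rw [hHc]; exact hw.ncl_wcl le_top
  have hDZ : ⁅D, Hc⁆ ≤ Z := by
    conv_lhs => rw [← hHn]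
    refine CP.commutator_ncl_le hHD hHZ (hQH.trans hHZ) ?_
    have a1 := WC.commutator_le_inf_of hcomm (hQH.trans hHD)
    exact (le_pCoreOf (hw.pgrp.to_le (a1.trans inf_le_right)) (a1.trans inf_le_left)
      (normalizer_commutator_ge_left _ _)).trans (pCoreOf_mono_of_normal hDH hHD)
  have h3 : ⁅⁅H₁, H₁⁆, H₂⁆ ≤ Z :=
    CommMod.three_subgroups_mod (hn₁.1.trans hHZ) (hn₁.1.trans hHZ) (hn₂.1.trans hHZ)
      ((commutator_mono le_rfl hn₁.1).trans hDZ)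
      (by rw [commutator_comm H₂]; exact (commutator_mono le_rfl hn₁.1).trans hDZ)
  have hQK : Q ≤ H₁ ⊔ Q := le_sup_right
  have c1 : ⁅K₁, Q⁆ = K₁ := hK₁ ▸ hw.commutator_pRes_wcl hQK
  have cK : 𝐎[p, K₁] = K₁ := hK₁ ▸ pRes_pRes p _
  have hKH : K₁ ≤ H₁ := hK₁ ▸ (pRes_mono (WC.wcl_le _ _)).trans
    (pRes_sup_le hw.pgrp (hQH.trans hn₁.2))
  have hH11 : Hc ≤ 𝐍[⁅H₁, H₁⁆] := le_normalizer_commutator hn₁.2 hn₁.2
  have c2 : K₁ ≤ ⁅H₁, H₁⁆ := by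
    have a1 : K₁ ≤ ⁅H₁, H₁⁆ ⊔ D := by
      rw [← c1]
      refine (commutator_mono hKH (hQH.trans hprod.ge)).trans ?_
      have := le_normalizer_sup hH11 hHD
      exact CommMod.commutator_sup_le' (hn₁.1.trans this) (hn₂.1.trans this) le_sup_left
        le_sup_right
    have a2 : K₁ ≤ ⁅H₁, H₁⁆ ⊔ Z := by
      rw [← c1]
      refine (commutator_mono a1 hQH).trans ?_
      have := le_normalizer_sup hH11 hHZ
      exact CommMod.commutator_sup_le (((commutator_le_self H₁).trans hn₁.1).trans this)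
        (hDH.trans this) ((WC.commutator_le_left_of hH11).trans le_sup_left)
        (hDZ.trans le_sup_right)
    rw [← cK]
    exact (pRes_mono a2).trans (pRes_sup_le hZp (hZH.trans hH11))
  have c3 : ⁅K₁, H₂⁆ ≤ Z := (commutator_mono c2 le_rfl).trans h3
  have hHK : H₁ ⊔ Q ≤ 𝐍[K₁] :=
    hK₁ ▸ (WC.le_normalizer_wcl Q _).trans (normalizer_le_normalizer_pRes p _)
  have hZK : Z ≤ 𝐍[K₁] := by
    rw [hK₁]
    refine le_trans ?_ (normalizer_le_normalizer_pRes p _)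
    exact WC.le_normalizer_wcl_of fun g hg => (hw.cj g).pCoreOf_le_normalizer
      ((hg.trans (sup_le hn₁.1 hQH)).trans le_normalizer)
  have c4 : Hc ≤ 𝐍[K₁] := by
    have a1 : Hc ≤ 𝐍[(K₁ ⊔ Z : Subgroup G)] := by
      rw [← hprod]
      refine sup_le (le_normalizer_sup (le_sup_left.trans hHK) (hn₁.1.trans hHZ)) ?_
      rw [le_normalizer_iff_commutator_le_left]
      exact CommMod.commutator_sup_le (le_sup_left.trans le_normalizer)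
        (le_sup_right.trans le_normalizer) (c3.trans le_sup_right)
        ((WC.commutator_le_left_of (hn₂.1.trans hHZ)).trans le_sup_right)
    have := a1.trans (normalizer_le_normalizer_pRes p _)
    rwa [pRes_sup_eq hZp hZK, cK] at this
  have c5 : ⁅K₁, H₁⁆ = K₁ := by
    refine le_antisymm (WC.commutator_le_left_of (hn₁.1.trans c4)) ?_
    have a0 : Hc ≤ 𝐍[⁅K₁, H₁⁆] := le_normalizer_commutator c4 hn₁.2
    have a1 : K₁ ≤ ⁅K₁, H₁⁆ ⊔ Z := by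
      conv_lhs => rw [← c1]
      refine (commutator_mono le_rfl (hQH.trans hprod.ge)).trans ?_
      have := le_normalizer_sup a0 hHZ
      exact CommMod.commutator_sup_le' (hn₁.1.trans this) (hn₂.1.trans this) le_sup_left
        (c3.trans le_sup_right)
    conv_lhs => rw [← cK]
    exact (pRes_mono a1).trans (pRes_sup_le hZp (hZH.trans a0))
  refine ⟨⟨c1, c5, c2, c4⟩, c3, hKH, ?_, ?_⟩
  · rw [hK₁, hw.pRes_wcl_sup hQK]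
    exact le_sup_left.trans (WC.le_normalizer_wcl Q _)
  · rw [hK₁]
    exact pRes_mono ((WC.wcl_le _ _).trans (sup_le hn₁.1 hQH))

/-- Let Q be a nontrivial p-subgroup of the finite group H that is a weakly closed subgroup, H° the weak closure of Q in H (generated by the conjugates of Q) and H_∘ = O^p(H°). Suppose H₁, H₂ are normal subgroups of H° with H° = H₁H₂ and [H₁, H₂] ≤ N_H(Q), and put Kᵢ = O^p of the weak closure of Q in HᵢQ. Then for i = 1, 2: Kᵢ = [Kᵢ, Q] = [Kᵢ, Hᵢ] ≤ Hᵢ′ and Kᵢ is normal in H°; H_∘ = K₁K₂; and [K₁, K₂] ≤ O_p(H°). -/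
theorem result {G : Type*} [Group G] [Finite G] {p : ℕ} [Fact p.Prime] (Q : Subgroup G) (hQp : IsPGroup p ↥Q) (hQ1 : Q ≠ ⊥) (hwc : Cfsg.IsWeaklyClosedSubgroup p Q) (Hc : Subgroup G) (hHc : Hc = Cfsg.weakClosure Q ⊤) (H₁ H₂ : Subgroup G) (hn₁ : H₁ ≤ Hc ∧ Hc ≤ Subgroup.normalizer ((H₁ : Subgroup G) : Set G)) (hn₂ : H₂ ≤ Hc ∧ Hc ≤ Subgroup.normalizer ((H₂ : Subgroup G) : Set G)) (hprod : H₁ ⊔ H₂ = Hc) (hcomm : ⁅H₁, H₂⁆ ≤ Subgroup.normalizer ((Q : Subgroup G) : Set G)) (K₁ K₂ : Subgroup G) (hK₁ : K₁ = ((Cfsg.pResidual p ↥(Cfsg.weakClosure Q (H₁ ⊔ Q))).map ((Cfsg.weakClosure Q (H₁ ⊔ Q))).subtype)) (hK₂ : K₂ = ((Cfsg.pResidual p ↥(Cfsg.weakClosure Q (H₂ ⊔ Q))).map ((Cfsg.weakClosure Q (H₂ ⊔ Q))).subtype)) : (⁅K₁, Q⁆ = K₁ ∧ ⁅K₁, H₁⁆ = K₁ ∧ K₁ ≤ ⁅H₁, H₁⁆ ∧ Hc ≤ Subgroup.normalizer ((K₁ : Subgroup G) : Set G)) ∧ (⁅K₂, Q⁆ = K₂ ∧ ⁅K₂, H₂⁆ =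 K₂ ∧ K₂ ≤ ⁅H₂, H₂⁆ ∧ Hc ≤ Subgroup.normalizer ((K₂ : Subgroup G) : Set G)) ∧ K₁ ⊔ K₂ = ((Cfsg.pResidual p ↥Hc).map (Hc).subtype) ∧ ⁅K₁, K₂⁆ ≤ (Cfsg.pCoreOf p Hc) := by
  have hw := WC.isWC_of hwc
  obtain ⟨a1, a2, a3, a4, a5⟩ := aux hw hHc hn₁ hn₂ hprod hcomm hK₁
  obtain ⟨b1, b2, b3, b4, b5⟩ := aux hw hHc hn₂ hn₁ (by rwa [sup_comm])
    (by rwa [commutator_comm]) hK₂
  refine ⟨a1, b1, le_antisymm (sup_le a5 b5) ?_, (commutator_mono le_rfl b3).trans a2⟩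
  have hQH : Q ≤ Hc := hHc ▸ WC.le_wcl le_top
  have hHn : ncl Q Hc = Hc := by rw [hHc]; exact hw.ncl_wcl le_top
  have c1 : Hc ≤ (K₁ ⊔ K₂) ⊔ Q := by
    conv_lhs => rw [← hHn]
    refine CP.ncl_le le_sup_right ?_
    rw [← hprod]
    refine sup_le ?_ ?_
    · rw [sup_right_comm]
      exact le_normalizer_sup a4 (hn₁.1.trans b1.2.2.2)
    · rw [sup_assoc]
      exact le_normalizer_sup (hn₂.1.trans a1.2.2.2) b4
  exact (pRes_mono c1).trans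
    (pRes_sup_le hQp (hQH.trans (le_normalizer_sup a1.2.2.2 b1.2.2.2)))

end Cfsg.Agent.S2859
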