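import Cfsg.Statements.S2860
import Mathlib
import Cfsg.Agent.PLocal.FrakM
import Cfsg.Agent.PLocal.Quasisimple

set_option autoImplicit false
set_option linter.unusedVariables false
open Cfsg

namespace Cfsg.Agent.S2860

open Subgroup Cfsg.Agent.PLocal Cfsg.Agent.PLocal.Amb Cfsg.Agent.Grp
open Cfsg.Agent.PLocal.CP (ncl IsCharP secCent)
open scoped commutatorElement

theorem commutator_subgroupOf {G : Type*} [Group G] {A B L : Subgroup G} (hA : A ≤ L)
    (hB : B ≤ L) : (⁅A, B⁆ : Subgroup G).subgroupOf L = ⁅A.subgroupOf L, B.subgroupOf L⁆ := by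
  apply map_injective L.subtype_injective
  rw [map_commutator, map_subgroupOf_of_le hA, map_subgroupOf_of_le hB,
    map_subgroupOf_of_le ((commutator_le_sup _ _).trans (sup_le hA hB))]

theorem pRes_subgroupOf' {G : Type*} [Group G] {p : ℕ} {A L : Subgroup G} (hA : A ≤ L) :
    (𝐎[p, A]).subgroupOf L = 𝐎[p, A.subgroupOf L] := by
  apply map_injective L.subtype_injective
  rw [pRes_map_subtype, map_subgroupOf_of_le hA, map_subgroupOf_of_le ((pRes_le p A).trans hA)]

theorem commutator_eq_of_qs {K : Type*} [Group K] [Finite K] {p : ℕ} [Fact p.Prime]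
    (hK : pCore p K = ⊥) (hqs : IsQuasisimple (pResidual p K)) {Y : Subgroup K}
    (hY : IsPGroup p Y) (hY1 : Y ≠ ⊥) : ⁅pResidual p K, Y⁆ = pResidual p K := by
  rw [← pRes_top] at hqs ⊢
  set X := 𝐎[p, (⊤ : Subgroup K)] with hX
  have hn : (⊤ : Subgroup K) ≤ 𝐍[X] := le_normalizer_pRes p ⊤
  have h1 : ⁅X, Y⁆ ≤ X := WC.commutator_le_left_of (le_top.trans hn)
  rcases qsS_normal hqs ⁅X, Y⁆ (normalizer_commutator_ge_left _ _) with h | h
  · exact le_antisymm h1 h
  exfalso
  rw [inf_eq_left.2 h1, ← commutator_eq_bot_iff_le_centralizer, commutator_comm X] at h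
  have h2 := commutator_eq_bot_of_perfect (qsS_commutator hqs) h
  rw [commutator_eq_bot_iff_le_centralizer] at h2
  obtain ⟨T, hT, hYT⟩ := exists_isSyl_ge hY h2
  have h3 : 𝐂[X] ≤ 𝐍[T] := by
    rw [← hT.pRes_sup]
    refine sup_le ((pRes_mono le_top).trans ?_) le_normalizer
    exact (WC.le_centralizer_comm.1 hT.le).trans (centralizer_le_normalizer' _)
  have h4 := pCoreOf_mono_of_normal (p := p) le_top (le_normalizer_centralizer hn)
  rw [hT.eq_pCoreOf h3, pCoreOf_top, hK] at h4
  exact hY1 (le_bot_iff.1 (hYT.trans h4))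

/-- Let Q be a nontrivial large p-subgroup of the finite group H, U a nontrivial elementary abelian p-subgroup of H, and Q ≤ E ≤ N_H(U) with Q not normal in E. Suppose O_p(E/C_E(U)) = 1 and O^p(E)·C_E(U)/C_E(U) is quasisimple. Let E° be the weak closure of Q in E (generated by the conjugates of Q inside E) and E_∘ = O^p(E°). Then O^p(E)·C_E(U) = E_∘·C_E(U); E_∘ is perfect and equals O^p(E_∘); E_∘/C_{E_∘}(U) and E_∘/O_p(E_∘) are quasisimple; and E_∘ = [E_∘, Y] for every p-subgroup Y of E not centralizing U. -/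
theorem result {G : Type*} [Group G] [Finite G] {p : ℕ} [Fact p.Prime] (Q : Subgroup G) (hQp : IsPGroup p ↥Q) (hQ1 : Q ≠ ⊥) (hQ : Cfsg.IsLarge Q) (U : Subgroup G) (hU : Cfsg.IsElementaryAbelian p U) (hU1 : U ≠ ⊥) (E : Subgroup G) (hQE : Q ≤ E) (hEU : E ≤ Subgroup.normalizer ((U : Subgroup G) : Set G)) (hQn : ¬ E ≤ Subgroup.normalizer ((Q : Subgroup G) : Set G)) [hn : ((Subgroup.centralizer ((U : Subgroup G) : Set G)).subgroupOf E).Normal] (hred : Cfsg.pCore p (↥E ⧸ (Subgroup.centralizer ((U : Subgroup G) : Set G)).subgroupOf E) = ⊥) (hqs : Cfsg.IsQuasisimple ↥(((Cfsg.pResidual p ↥E) ⊔ (Subgroup.centralizer ((U : Subgroup G) : Set G)).subgroupOf E).map (QuotientGroup.mk' ((Subgroup.centralizer ((U : Subgroup G) : Set G)).subgroupOf E)))) (Er : Subgroup G) (hEr : Er = ((Cfsg.pResidual p ↥(Cfsg.weakClosure Q E)).map ((Cfsg.weakClosure Q E)).subtype)) [hn2 : ((Subgroup.centralizer ((U : Subgroup G) : Set G)).subgroupOf Er).Normal] : ((Cfsg.pResidual p ↥E).map (E).subtype)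 ⊔ (E ⊓ Subgroup.centralizer ((U : Subgroup G) : Set G)) = Er ⊔ (E ⊓ Subgroup.centralizer ((U : Subgroup G) : Set G)) ∧ ⁅Er, Er⁆ = Er ∧ ((Cfsg.pResidual p ↥Er).map (Er).subtype) = Er ∧ Cfsg.IsQuasisimple (↥Er ⧸ (Subgroup.centralizer ((U : Subgroup G) : Set G)).subgroupOf Er) ∧ Cfsg.IsQuasisimple (↥Er ⧸ Cfsg.pCore p ↥Er) ∧ ∀ Y : Subgroup G, Y ≤ E → IsPGroup p ↥Y → ¬ Y ≤ Subgroup.centralizer ((U : Subgroup G) : Set G) → ⁅Er, Y⁆ = Er := by
  have hw := WC.isWC_of_large hQp hQ1 hQ
  set C := 𝐂[U] with hC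
  set π := QuotientGroup.mk' (C.subgroupOf E) with hπ
  have hπs : Function.Surjective π := QuotientGroup.mk'_surjective _
  have hker : π.ker = C.subgroupOf E := QuotientGroup.ker_mk' _
  set Ec := weakClosure Q E with hEc
  have hEcE : Ec ≤ E := WC.wcl_le Q E
  have hErc : Er ≤ Ec := hEr ▸ pRes_le p _
  have hErE : Er ≤ E := hErc.trans hEcE
  have hX : (pResidual p E).map π = pResidual p (E ⧸ C.subgroupOf E) := by
    rw [← pRes_top, map_pRes, map_top_of_surjective _ hπs, pRes_top]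
  have hqs' : IsQuasisimple (pResidual p (E ⧸ C.subgroupOf E)) := by
    rwa [Subgroup.map_sup, hX, (Subgroup.map_eq_bot_iff _).2 hker.ge, sup_bot_eq] at hqs
  set X := pResidual p (E ⧸ C.subgroupOf E) with hXdef
  have hkey : ∀ Y : Subgroup G, Y ≤ E → IsPGroup p Y → ¬ Y ≤ C →
      ⁅X, (Y.subgroupOf E).map π⁆ = X := by
    intro Y h1 h2 h3
    refine commutator_eq_of_qs hred hqs' ((Amb.isPGroup_subgroupOf h2 E).map π) fun h0 => h3 ?_
    rw [Subgroup.map_eq_bot_iff, hker] at h0
    intro y hy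
    exact h0 (show (⟨y, h1 hy⟩ : E) ∈ Y.subgroupOf E from hy)
  have hQC : ¬ Q ≤ C := fun h0 =>
    hQn (hEU.trans (hQ.2 U (WC.le_centralizer_comm.1 h0) hU1))
  have hErX : (Er.subgroupOf E).map π = X := by
    apply le_antisymm
    · rw [← hX, ← pRes_subgroupOf]
      exact map_mono (subgroupOf_mono E (hEr ▸ pRes_mono hEcE))
    · have a1 : X ≤ (Ec.subgroupOf E).map π := by
        rw [← hkey Q hQE hQp hQC, ← hX, ← map_commutator, ← pRes_subgroupOf,
          ← commutator_subgroupOf (pRes_le p E) hQE]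
        refine map_mono (subgroupOf_mono E ?_)
        exact (commutator_mono (pRes_le p E) (WC.le_wcl hQE)).trans
          (WC.commutator_le_right_of (WC.le_normalizer_wcl Q E))
      have a2 := pRes_mono (p := p) a1
      rwa [hXdef, ← pRes_top, pRes_pRes, pRes_top, ← map_pRes, ← pRes_subgroupOf' hEcE,
        ← hEr] at a2
  have hlift : ∀ A B : Subgroup G, A ≤ E → B ≤ E →
      (A.subgroupOf E).map π ≤ (B.subgroupOf E).map π → A ≤ B ⊔ (E ⊓ C) := by
    intro A B hA hB h
    rw [Subgroup.map_le_map_iff, hker] at h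
    have := map_mono (f := E.subtype) h
    rwa [Subgroup.map_sup, map_subgroupOf_of_le hA, map_subgroupOf_of_le hB,
      subgroupOf_map_subtype, inf_comm] at this
  have hCE := (WC.large_wcl_sup_centralizer hQp hQ1 hQ hQE (isEA_isPGroup hU) hU1 hEU).2.1
  have hEn : E ≤ 𝐍[Er] := hEr ▸ (WC.le_normalizer_wcl Q E).trans
    (normalizer_le_normalizer_pRes p _)
  have hOr : 𝐎[p, Er] = Er := hEr ▸ pRes_pRes p _
  have hCZ : ⁅Er ⊓ C, Ec⁆ ≤ pCoreOf p Er := by
    rw [pCoreOf_eq_inf_of_normal hErc (hEcE.trans hEn)]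
    refine le_inf ((commutator_mono inf_le_left le_rfl).trans
      (WC.commutator_le_left_of (hEcE.trans hEn))) ?_
    rw [commutator_comm]
    exact (commutator_mono le_rfl inf_le_right).trans hCE
  have hA : ∀ K B : Subgroup G, K ≤ Er → B ≤ Ec → B ≤ 𝐍[K] → Er ≤ 𝐍[K] → ⁅Er, B⁆ = Er →
      X ≤ (K.subgroupOf E).map π → K = Er := by
    intro K B h1 h2 h3 h4 h5 h6
    refine le_antisymm h1 ?_
    have a1 := hlift Er K hErE (h1.trans hErE) (hErX.le.trans h6)
    have a2 : Er ≤ K ⊔ (Er ⊓ C) := by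
      have := sup_inf_of_le_normalizer (A := K) (B := E ⊓ C) (C := Er) h1
        ((h1.trans hErE).trans (le_normalizer_inf le_normalizer (le_normalizer_centralizer hEU)))
      rw [inf_eq_right.2 a1] at this
      exact this.le.trans (sup_le_sup_left (le_inf inf_le_right (inf_le_left.trans inf_le_right)) _)
    have a3 : Er ≤ 𝐍[(K ⊔ pCoreOf p Er : Subgroup G)] :=
      le_normalizer_sup h4 (le_normalizer_pCoreOf p Er)
    have a4 : Er ≤ K ⊔ pCoreOf p Er := by
      conv_lhs => rw [← h5]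
      refine (commutator_mono a2 le_rfl).trans (CommMod.commutator_sup_le (h1.trans a3)
        (inf_le_left.trans a3) ((WC.commutator_le_left_of h3).trans le_sup_left) ?_)
      exact ((commutator_mono le_rfl h2).trans hCZ).trans le_sup_right
    conv_lhs => rw [← hOr]
    exact (pRes_mono a4).trans (pRes_sup_le (isPGroup_pCoreOf p Er) ((pCoreOf_le p Er).trans h4))
  have hperf : ⁅Er, Er⁆ = Er := by
    refine hA _ Q (commutator_le_self Er) (WC.le_wcl hQE)
      (le_normalizer_commutator (hQE.trans hEn) (hQE.trans hEn))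
      (normalizer_commutator_ge_left _ _) (hEr ▸ hw.commutator_pRes_wcl hQE) ?_
    rw [commutator_subgroupOf hErE hErE, map_commutator, hErX, qsS_commutator hqs']
  have hq1 : IsQuasisimple (Er ⧸ C.subgroupOf Er) := by
    let ψ : Er →* E ⧸ C.subgroupOf E := π.comp (inclusion hErE)
    have k1 : ψ.ker = C.subgroupOf Er := by
      ext x
      rw [MonoidHom.mem_ker, MonoidHom.comp_apply, ← MonoidHom.mem_ker, hker]
      rfl
    have k2 : ψ.range = X := by
      rw [← hErX, MonoidHom.range_comp, inclusion_range]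
    have e := (QuotientGroup.quotientMulEquivOfEq k1.symm).trans
      ((QuotientGroup.quotientKerEquivRange ψ).trans (MulEquiv.subgroupCongr k2))
    exact qs_congr hqs' e.symm
  refine ⟨?_, hperf, hOr, hq1, ?_, fun Y h1 h2 h3 => ?_⟩
  · refine le_antisymm (sup_le ?_ le_sup_right)
      (sup_le_sup_right (hEr ▸ pRes_mono hEcE) _)
    refine hlift _ _ (pRes_le p E) hErE ?_
    rw [hErX, pRes_subgroupOf, hX]
  · have hZC : pCoreOf p Er ≤ C := (pCoreOf_mono_of_normal hErE hEn).trans
      ((CP.pCore_quotient_subgroupOf_eq_bot_iff C E).1 hred).pCoreOf_le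
    have hZC' : pCore p Er ≤ C.subgroupOf Er := by
      rw [← pCoreOf_subgroupOf]; exact subgroupOf_mono Er hZC
    have hP : Group.IsPerfect Er := by
      rw [Subgroup.isPerfect_iff]; exact hperf
    refine qs_of_central_ker inferInstance
      (QuotientGroup.map (pCore p Er) (C.subgroupOf Er) (MonoidHom.id _) hZC') ?_ ?_ hq1
    · intro y
      obtain ⟨y, rfl⟩ := QuotientGroup.mk_surjective y
      exact ⟨y, rfl⟩
    · intro y hy
      obtain ⟨y, rfl⟩ := QuotientGroup.mk_surjective y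
      replace hy : y ∈ C.subgroupOf Er := (QuotientGroup.eq_one_iff y).1 hy
      rw [mem_center_iff]
      intro z
      obtain ⟨z, rfl⟩ := QuotientGroup.mk_surjective z
      rw [← QuotientGroup.mk_mul, ← QuotientGroup.mk_mul, QuotientGroup.eq, ← pCoreOf_subgroupOf,
        mem_subgroupOf]
      have := hCZ (commutator_mem_commutator (g₁ := (y : G)⁻¹) (g₂ := (z : G)⁻¹)
        (inv_mem ⟨y.2, hy⟩) (inv_mem (hErc z.2)))
      convert this using 1
      simp [commutatorElement_def, mul_assoc]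
  · refine hA _ Er (WC.commutator_le_left_of (h1.trans hEn)) hErc
      (normalizer_commutator_ge_left _ _) (normalizer_commutator_ge_left _ _) hperf ?_
    rw [commutator_subgroupOf hErE h1, map_commutator, hErX, hkey Y h1 h2 h3]

end Cfsg.Agent.S2860
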