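import Cfsg.Statements.S2861
import Mathlib
import Cfsg.Agent.PLocal.FrakL

set_option autoImplicit false
set_option linter.unusedVariables false
open Cfsg

namespace Cfsg.Agent.S2861

open Subgroup Cfsg.Agent.PLocal Cfsg.Agent.PLocal.Amb Cfsg.Agent.Grp
open Cfsg.Agent.PLocal.CP (ncl IsCharP secCent)
open scoped commutatorElement

/-- Standing hypotheses: G a finite group, S a Sylow p-subgroup, Q a nontrivial large p-subgroup of G contained in S, M a subgroup containing S with the basic property (M ∈ 𝔐_G(S)); Y_M the largest p-reduced normal subgroup of M and M† = M·C_G(Y_M). Let L ∈ 𝔏_G(Y_M) (L ∈ 𝔏_G(Y_M): Y_M ≤ L; O_p(L) is the normal closure in L of Y_M ∩ O_p(L) and normalizes Y_M; L is Y_M-minimal of characteristic p with N_L(Y_M) its unique maximal subgroup over Y_M; and L/O_p(L) ≅ SL₂(q) with q = |Y_M : Y_M ∩ O_p(L)|, or p = 2 and L/O_p(L) is a Suzuki group Sz(q) or dihedral of order 2r, r an odd prime) and A = O_p(L). Then Y_M·A/A is the unique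 nontrivial elementary abelian normal p-subgroup of N_L(Y_M)/A. -/
theorem result {G : Type*} [Group G] [Finite G] {p : ℕ} [Fact p.Prime] (S : Sylow p G) (Q : Subgroup G) (hQp : IsPGroup p ↥Q) (hQ1 : Q ≠ ⊥) (hQS : Q ≤ (S : Subgroup G)) (hQ : Cfsg.IsLarge Q) (M : Subgroup G) (hSM : (S : Subgroup G) ≤ M) (hM : Cfsg.IsInFrakM p M) (L : Subgroup G) (hL : Cfsg.IsInFrakL p M L) (NL : Subgroup G) (hNL : NL = L ⊓ Subgroup.normalizer (((Cfsg.largestPReducedOf p M) : Subgroup G) : Set G)) [hn : (((Cfsg.pCoreOf p L)).subgroupOf NL).Normal] : let Ybar : Subgroup (↥NL ⧸ ((Cfsg.pCoreOf p L)).subgroupOf NL) := (((Cfsg.largestPReducedOf p M)).subgroupOf NL).map (QuotientGroup.mk' (((Cfsg.pCoreOf p L)).subgroupOf NL)); Ybar ≠ ⊥ ∧ Ybar.Normal ∧ Cfsg.IsElementaryAbelian p Ybar ∧ ∀ (V : Subgroup (↥NL ⧸ ((Cfsg.pCoreOf p L)).subgroupOf NL)), V.Normal → Cfsg.IsElementaryAbelian p V → V ≠ ⊥ → V = Ybar := by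
  intro Ybar
  have hs := WC.frakL_lSetup hL
  set Y := largestPReducedOf p M with hY
  set A := pCoreOf p L with hA
  have hYN : Y ≤ NL := hNL ▸ hs.min.le
  have hAN : A ≤ NL := hNL ▸ le_inf (pCoreOf_le p L) hs.norm
  have hYA : ¬ Y ≤ A := hs.min.not_le_pCoreOf (isEA_isPGroup hs.ea)
  set ρ := QuotientGroup.mk' (A.subgroupOf NL) with hρ
  have hρs : Function.Surjective ρ := QuotientGroup.mk'_surjective _
  have hker : ρ.ker = A.subgroupOf NL := QuotientGroup.ker_mk' _
  refine ⟨fun h0 => hYA fun y hy => ?_, ?_, isEA_map (isEA_subgroupOf hs.ea NL) _,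
    fun V hV hea hV1 => ?_⟩
  · rw [Subgroup.map_eq_bot_iff, hker] at h0
    exact h0 (show (⟨y, hYN hy⟩ : NL) ∈ Y.subgroupOf NL from hy)
  · exact (normal_subgroupOf' (hNL.le.trans inf_le_right)).map _ hρs
  set V' := (V.comap ρ).map NL.subtype with hV'
  have h1 : V' ≤ Y ⊔ A := by
    rintro _ ⟨x, hx, rfl⟩
    refine hs.omega _ (hNL ▸ x.2) ?_
    have := hea.2 _ hx
    rw [← map_pow, ← MonoidHom.mem_ker, hker] at this
    exact this
  have h2 : A ≤ V' := by
    rw [← map_subgroupOf_of_le hAN, ← hker]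
    exact map_mono (ker_le_comap ρ V)
  rcases WC.frakL_irr hL h1 (hNL ▸ le_normalizer_map_subtype (V.comap ρ)) with h | h
  · exfalso
    apply hV1
    rw [← map_comap_eq_self_of_surjective hρs V, Subgroup.map_eq_bot_iff, hker]
    exact fun x hx => h (mem_map_subtype.2 hx)
  · rw [sup_eq_left.2 h2] at h
    rw [← map_comap_eq_self_of_surjective hρs V]
    apply le_antisymm
    · rw [Subgroup.map_le_map_iff, hker, ← subgroupOf_sup hYN hAN]
      exact fun x hx => h1 (mem_map_subtype.2 hx)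
    · exact map_mono fun x hx => mem_map_subtype.1 (h hx)

end Cfsg.Agent.S2861
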