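import Cfsg.Statements.S2864
import Mathlib
import Cfsg.Agent.PLocal.FrakM
import Cfsg.Agent.Grp.PFrattini
import Cfsg.Agent.Solv.Coprime2

set_option autoImplicit false
set_option linter.unusedVariables false
open Cfsg

namespace Cfsg.Agent.S2864

open Subgroup Cfsg.Agent.PLocal Cfsg.Agent.PLocal.Amb Cfsg.Agent.Grp
open Cfsg.Agent.PLocal.CP (ncl IsCharP secCent)
open scoped commutatorElement

/-- Standing hypotheses: G a finite group, S a Sylow p-subgroup, Q a nontrivial large p-subgroup of G contained in S, M a subgroup containing S with the basic property (M ∈ 𝔐_G(S)); Y_M the largest p-reduced normal subgroup of M and M† = M·C_G(Y_M). Let I be a nontrivial normal p-subgroup of M and Y ≤ O_p(M†); let L be a subgroup of G containing Y and A a normal p-subgroup of L with I ≤ A ≤ M. If [Y, A] ≤ [I, A], then Y ≤ O_p(L). -/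
theorem result {G : Type*} [Group G] [Finite G] {p : ℕ} [Fact p.Prime] (S : Sylow p G) (Q : Subgroup G) (hQp : IsPGroup p ↥Q) (hQ1 : Q ≠ ⊥) (hQS : Q ≤ (S : Subgroup G)) (hQ : Cfsg.IsLarge Q) (M : Subgroup G) (hSM : (S : Subgroup G) ≤ M) (hM : Cfsg.IsInFrakM p M) (I : Subgroup G) (hI1 : I ≠ ⊥) (hIp : IsPGroup p ↥I) (hIM : I ≤ M ∧ M ≤ Subgroup.normalizer ((I : Subgroup G) : Set G)) (Y : Subgroup G) (hY : Y ≤ (Cfsg.pCoreOf p (M ⊔ Subgroup.centralizer (((Cfsg.largestPReducedOf p M) : Subgroup G) : Set G)))) (L : Subgroup G) (hYL : Y ≤ L) (A : Subgroup G) (hAp : IsPGroup p ↥A) (hAL : A ≤ L ∧ L ≤ Subgroup.normalizer ((A : Subgroup G) : Set G)) (hIA : I ≤ A) (hAM : A ≤ M) (hc : ⁅Y, A⁆ ≤ ⁅I, A⁆) : Y ≤ (Cfsg.pCoreOf p L) := by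
  have h := WC.FM.of_large S hQp hQ1 hQ hSM hM
  set U := ncl Y L with hU
  have hUL : U ≤ L := CP.ncl_le_of_le hYL
  have hLA' : L ≤ 𝐍[⁅A, A⁆] := le_normalizer_commutator hAL.2 hAL.2
  have h1 : ⁅A, U⁆ ≤ ⁅A, A⁆ := CP.commutator_ncl_le hAL.2 hLA' (hYL.trans hLA')
    (by rw [commutator_comm]; exact hc.trans (commutator_mono hIA le_rfl))
  have h2 : 𝐎[p, U] ≤ 𝐂[A] := by
    refine pRes_le_iff.2 fun x hx hcop => ?_
    refine Solv.le_centralizer_of_frattini (zpowers x) A ?_ ?_ (mem_zpowers x)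
    · exact (CP.coprime_card_zpowers hAp hcop).coprime_dvd_right (card_subgroup_dvd_card _)
    · intro a ha k hk
      refine map_mono (PFrattini.commutator_le_frattini hAp) ?_
      rw [map_subtype_commutator]
      refine h1 ?_
      rw [commutator_comm]
      exact commutator_mem_commutator (zpowers_le.2 hx ha) hk
  have h3 : 𝐎[p, U] ≤ M ⊔ 𝐂[largestPReducedOf p M] :=
    h2.trans ((centralizer_anti hIA).trans ((centralizer_le_normalizer' _).trans
      (h.normalizer_le_dagger hIp hI1 hIM.2)))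
  have h4 : 𝐎[p, U] ⊔ Y ≤ M ⊔ 𝐂[largestPReducedOf p M] := sup_le h3 (hY.trans (pCoreOf_le p _))
  exact (((le_inf le_sup_right hY).trans (inf_pCoreOf_le h4)).trans
    (WC.pCoreOf_le_of_pRes_le le_sup_left (sup_le (pRes_le p U) (CP.le_ncl Y L)))).trans
    (pCoreOf_mono_of_normal hUL (CP.le_normalizer_ncl Y L))

end Cfsg.Agent.S2864
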