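import Cfsg.Statements.S2872
import Mathlib
import Cfsg.Agent.PLocal.PReduced
import Cfsg.Agent.Transfer.ThompsonExtremal
import Cfsg.Agent.Grp.PFrattini

set_option autoImplicit false
open Cfsg

namespace Cfsg.Agent.S2872

open Subgroup Cfsg.Agent.PLocal Cfsg.Agent.PLocal.CP Cfsg.Agent.Grp
open scoped commutatorElement Cfsg.Agent.PLocal.Amb

/-- Let S be a Sylow 2-subgroup of the finite group G. Then G has a proper normal subgroup of 2-power index (O²(G) ≠ G), or Ω₁(Z(S)) is contained in the Frattini subgroup of S, or N_G(S) acts nontrivially on Ω₁(Z(S)) by conjugation. -/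
theorem result {G : Type*} [Group G] [Finite G] (S : Sylow 2 G) : Cfsg.pResidual 2 G ≠ ⊤ ∨ Cfsg.omegaOne 2 ((S : Subgroup G) ⊓ Subgroup.centralizer ((S : Subgroup G) : Set G)) ≤ (frattini ↥(S : Subgroup G)).map (S : Subgroup G).subtype ∨ ∃ g ∈ Subgroup.normalizer ((S : Subgroup G) : Set G), ∃ z ∈ Cfsg.omegaOne 2 ((S : Subgroup G) ⊓ Subgroup.centralizer ((S : Subgroup G) : Set G)), g * z * g⁻¹ ≠ z := by
  by_contra hcon
  simp only [not_or, not_exists, not_and, ne_eq, not_not] at hcon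
  obtain ⟨h1, h2, h3⟩ := hcon
  obtain ⟨z, hz, hzF⟩ := SetLike.not_le_iff_exists.1 h2
  have hz' := mem_omegaZ.1 hz
  have hzF' : (⟨z, hz'.1⟩ : (S : Subgroup G)) ∉ frattini (S : Subgroup G) := fun h =>
    hzF ⟨_, h, rfl⟩
  rw [PFrattini.mem_frattini_iff] at hzF'
  simp only [not_forall] at hzF'
  obtain ⟨M, hM, hzM⟩ := hzF'
  have hi : (M.map (S : Subgroup G).subtype).relIndex S = 2 := by
    rw [relIndex, Amb.map_subtype_subgroupOf]
    exact PFrattini.index_of_isCoatom S.isPGroup' hM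
  obtain ⟨g, hg1, hg2⟩ := Transfer.exists_conj_mem_extremal h1 (Transfer.odd_index_sylow S)
    (map_subtype_le M) hi hz'.2.2 S.isPGroup' (fun t ht => mem_centralizer_iff.1 hz'.2.1 t ht)
  rw [h3 g (Amb.mem_normalizer_of_cj_le hg2) z hz] at hg1
  exact hzM (Amb.mem_map_subtype.1 hg1)

end Cfsg.Agent.S2872
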