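import Cfsg.Statements.S2873
import Mathlib
import Cfsg.Agent.PLocal.PIrred
import Cfsg.Agent.Grp.CardProduct
import Cfsg.Agent.Grp.Card
import Cfsg.Agent.Grp.Cores

set_option autoImplicit false
open Cfsg

namespace Cfsg.Agent.S2873

open Subgroup Cfsg.Agent.PLocal Cfsg.Agent.PLocal.CP Cfsg.Agent.Grp
open scoped commutatorElement Cfsg.Agent.PLocal.Amb

/-- Let G be a finite group and r an odd prime such that G ⧸ O₂(G) is dihedral of order 2r, and let R be a Sylow r-subgroup of G with C_{O₂(G)}(R) = 1. Then N_G(R) is dihedral of order 2r; for any involution a of N_G(R), every involution of G outside O₂(G) is conjugate to a; and |C_{O₂(G)}(a)|² = |O₂(G)|. -/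
theorem result {G : Type*} [Group G] [Finite G] {r : ℕ} [Fact r.Prime] (hr : r ≠ 2) [hN : (Cfsg.pCore 2 G).Normal] (hquot : Nonempty (G ⧸ Cfsg.pCore 2 G ≃* DihedralGroup r)) (R : Sylow r G) (hC : Cfsg.pCore 2 G ⊓ Subgroup.centralizer ((R : Subgroup G) : Set G) = ⊥) : Nonempty (↥(Subgroup.normalizer ((R : Subgroup G) : Set G)) ≃* DihedralGroup r) ∧ ∀ a : G, a ∈ Subgroup.normalizer ((R : Subgroup G) : Set G) → orderOf a = 2 → (∀ b : G, orderOf b = 2 → b ∉ Cfsg.pCore 2 G → ∃ g : G, g * a * g⁻¹ = b) ∧ Nat.card ↥(Cfsg.pCore 2 G ⊓ Subgroup.centralizer ({a} : Set G)) ^ 2 = Nat.card ↥(Cfsg.pCore 2 G) := by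
  have hrp : r.Prime := Fact.out
  have : NeZero r := ⟨hrp.ne_zero⟩
  obtain ⟨e⟩ := hquot
  set Q := pCore 2 G with hQ
  let f : G →* DihedralGroup r := e.toMonoidHom.comp (QuotientGroup.mk' Q)
  have hfs : Function.Surjective f := e.surjective.comp (QuotientGroup.mk'_surjective Q)
  have hfk : ∀ x, f x = 1 ↔ x ∈ Q := fun x => by
    show e (QuotientGroup.mk' Q x) = 1 ↔ _
    rw [MulEquiv.map_eq_one_iff, QuotientGroup.mk'_apply, QuotientGroup.eq_one_iff]
  have hodd : Odd r := hrp.odd_of_ne_two hr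
  have hQ2 : IsPGroup 2 Q := CP.isPGroup_pCore 2 G
  have hRQ : (R : Subgroup G) ⊓ Q = ⊥ :=
    inf_eq_bot_of_isPGroup_of_coprime R.isPGroup' (coprime_card_of_isPGroup_of_ne hr.symm hQ2)
  have hRm : Amb.IsSyl r ((R : Subgroup G).map f) ⊤ := by
    have := (Amb.isSyl_top R).map f
    rwa [map_top_of_surjective f hfs] at this
  have hrot : ∀ i : ZMod r, ∃ ρ ∈ (R : Subgroup G), f ρ = DihedralGroup.r i := by
    intro i
    have h1 : IsPGroup r (zpowers (DihedralGroup.r i)) :=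
      Amb.isPGroup_zpowers ⟨1, by rw [pow_one, DihedralGroup.r_pow]; simp⟩
    refine hRm.le_of_le_normalizer h1 le_top (fun x hx => ?_) (mem_zpowers _)
    refine CP.mem_normalizer_of_conj_mem ?_
    rintro _ ⟨k, rfl⟩
    rcases x with j | j
    · refine ⟨k, ?_⟩
      simp only [DihedralGroup.r_zpow, DihedralGroup.r_mul_r, DihedralGroup.inv_r]
      congr 1; ring
    · refine ⟨-k, ?_⟩
      simp only [DihedralGroup.r_zpow, DihedralGroup.sr_mul_r, DihedralGroup.inv_sr,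
        DihedralGroup.sr_mul_sr]
      congr 1; push_cast; ring
  have hRr : ∀ ρ ∈ (R : Subgroup G), ∃ i, f ρ = DihedralGroup.r i := by
    intro ρ hρ
    rcases h : f ρ with j | j
    · exact ⟨j, rfl⟩
    · exfalso
      obtain ⟨k, hk⟩ := isPGroup_iff_mem.1 R.isPGroup' ρ hρ
      have h1 : orderOf (f ρ) ∣ r ^ k := orderOf_dvd_of_pow_eq_one (by rw [← map_pow, hk, map_one])
      rw [h, DihedralGroup.orderOf_sr] at h1
      exact hr ((Nat.prime_dvd_prime_iff_eq Nat.prime_two hrp).1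
        (Nat.prime_two.dvd_of_dvd_pow h1)).symm
  have hRinj : ∀ ρ ∈ (R : Subgroup G), f ρ = 1 → ρ = 1 := fun ρ h1 h2 => by
    have : ρ ∈ (R : Subgroup G) ⊓ Q := ⟨h1, (hfk ρ).1 h2⟩
    rwa [hRQ, mem_bot] at this
  -- elements mapping to a nontrivial rotation
  have hA : ∀ (y : G) (i : ZMod r), i ≠ 0 → f y = DihedralGroup.r i →
      y ^ r = 1 ∧ ∀ z ∈ Q, y * z = z * y → z = 1 := by
    intro y i hi hy
    obtain ⟨ρ, hρ, h1⟩ := hrot i
    have h2 : ∀ z ∈ Q, ρ * z = z * ρ → z = 1 := by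
      intro z hz hc
      have : z ∈ Q ⊓ 𝐂[(R : Subgroup G)] := by
        refine mem_inf.2 ⟨hz, mem_centralizer_iff.2 fun σ hσ => ?_⟩
        obtain ⟨j, hj⟩ := hRr σ hσ
        have h3 : σ⁻¹ * ρ ^ (j * i⁻¹).val = 1 := by
          refine hRinj _ (mul_mem (inv_mem hσ) (pow_mem hρ _)) ?_
          rw [map_mul, map_inv, map_pow, h1, hj, DihedralGroup.r_pow, ZMod.natCast_zmod_val,
            DihedralGroup.inv_r, DihedralGroup.r_mul_r, DihedralGroup.one_def]
          congr 1; field_simp; ring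
        rw [inv_mul_eq_one] at h3
        rw [h3]
        exact (Commute.pow_left hc _).eq
      rwa [hC, mem_bot] at this
    have h3 : ρ ^ r = 1 := hRinj _ (pow_mem hρ _) (by rw [map_pow, h1, DihedralGroup.r_pow]; simp)
    let φ : Q → Q := fun q => ⟨q * ρ * q⁻¹ * ρ⁻¹, by
      have := mul_mem q.2 (hN.conj_mem _ (inv_mem q.2) ρ)
      simpa only [mul_assoc, InvMemClass.coe_inv] using this⟩
    have h4 : Function.Injective φ := by
      intro q q' h
      have h5 : (q : G) * ρ * (q : G)⁻¹ * ρ⁻¹ = q' * ρ * (q' : G)⁻¹ * ρ⁻¹ := congrArg Subtype.val h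
      have h6 := h2 ((q : G)⁻¹ * q') (mul_mem (inv_mem q.2) q'.2) (by
        calc ρ * ((q : G)⁻¹ * q') = (q : G)⁻¹ * (q * ρ * (q : G)⁻¹ * ρ⁻¹) * ρ * q' := by group
          _ = _ := by rw [h5]; group)
      exact Subtype.ext (inv_mul_eq_one.1 h6)
    obtain ⟨q, hq⟩ := Finite.injective_iff_surjective.1 h4 ⟨y * ρ⁻¹, (hfk _).1 (by
      rw [map_mul, map_inv, hy, h1, mul_inv_cancel])⟩
    have h5 : (q : G) * ρ * (q : G)⁻¹ * ρ⁻¹ = y * ρ⁻¹ := congrArg Subtype.val hq
    have h6 : y = q * ρ * (q : G)⁻¹ := (mul_right_cancel h5).symm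
    refine ⟨by rw [h6, conj_pow, h3]; simp, fun z hz hc => ?_⟩
    have h7 := h2 ((q : G)⁻¹ * z * q) (mul_mem (mul_mem (inv_mem q.2) hz) q.2) (by
      calc ρ * ((q : G)⁻¹ * z * q) = (q : G)⁻¹ * (q * ρ * (q : G)⁻¹ * z) * q := by group
        _ = _ := by rw [← h6, hc, h6]; group)
    calc z = q * ((q : G)⁻¹ * z * q) * (q : G)⁻¹ := by group
      _ = 1 := by rw [h7]; group
  have hNQ : 𝐍[(R : Subgroup G)] ⊓ Q = ⊥ := by
    rw [eq_bot_iff, ← hC]
    refine le_inf inf_le_right ?_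
    rw [← commutator_eq_bot_iff_le_centralizer, eq_bot_iff, ← hRQ]
    refine le_inf ?_ ((commutator_mono inf_le_right le_rfl).trans (commutator_le_left _ _))
    rw [Subgroup.commutator_comm]
    exact Solv.commutator_le_of_le_normalizer inf_le_left
  have hinv : ∀ b : G, orderOf b = 2 → b ∉ Q → ∃ j, f b = DihedralGroup.sr j := by
    intro b hb hbQ
    rcases h : f b with j | j
    · exfalso
      by_cases hj : j = 0
      · exact hbQ ((hfk b).1 (by rw [h, hj]; rfl))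
      · have h1 := orderOf_dvd_of_pow_eq_one (hA b j hj h).1
        rw [hb] at h1
        exact hr ((Nat.prime_dvd_prime_iff_eq Nat.prime_two hrp).1 h1).symm
    · exact ⟨j, rfl⟩
  have h2ne : (2 : ZMod r) ≠ 0 := by
    intro h
    have : ((2 : ℕ) : ZMod r) = 0 := by exact_mod_cast h
    rw [ZMod.natCast_eq_zero_iff] at this
    exact hr ((Nat.prime_dvd_prime_iff_eq hrp Nat.prime_two).1 this)
  refine ⟨⟨MulEquiv.ofBijective (f.comp (𝐍[(R : Subgroup G)]).subtype) ⟨?_, ?_⟩⟩,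
    fun a ha hao => ?_⟩
  · rw [injective_iff_map_eq_one]
    intro x hx
    have : (x : G) ∈ 𝐍[(R : Subgroup G)] ⊓ Q := ⟨x.2, (hfk _).1 hx⟩
    rw [hNQ, mem_bot] at this
    exact Subtype.ext this
  · intro d
    obtain ⟨g, rfl⟩ := hfs d
    have h1 : Amb.IsSyl r (R : Subgroup G) (Q ⊔ R) := Amb.isSyl_of_le R le_sup_right
    have h2 : g ∈ 𝐍[(Q ⊔ R : Subgroup G)] := by
      refine CP.mem_normalizer_of_conj_mem fun x hx => ?_
      obtain ⟨q, hq, ρ, hρ, rfl⟩ := (Amb.mem_sup_of_le_normalizer_left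
        (by rw [normalizer_eq_top]; exact le_top)).1 hx
      obtain ⟨i, hi⟩ := hRr ρ hρ
      obtain ⟨j, hj⟩ : ∃ j, f (g * (q * ρ) * g⁻¹) = DihedralGroup.r j := by
        rw [map_mul, map_mul, map_mul, map_inv, (hfk q).2 hq, hi, one_mul]
        rcases f g with k | k
        · exact ⟨_, rfl⟩
        · exact ⟨_, rfl⟩
      obtain ⟨σ, hσ, h3⟩ := hrot j
      have h4 : g * (q * ρ) * g⁻¹ * σ⁻¹ ∈ Q :=
        (hfk _).1 (by rw [map_mul, hj, map_inv, h3, mul_inv_cancel])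
      simpa using mul_mem (mem_sup_left h4) (mem_sup_right hσ)
    obtain ⟨n, hn, x, hx, rfl⟩ := h1.frattini h2
    obtain ⟨q, hq, ρ, hρ, rfl⟩ := (Amb.mem_sup_of_le_normalizer_left
        (by rw [normalizer_eq_top]; exact le_top)).1 hn
    refine ⟨⟨ρ * x, mul_mem (le_normalizer hρ) hx⟩, ?_⟩
    simp [(hfk q).2 hq]
  have ha1 : a ≠ 1 := by rintro rfl; simp at hao
  have haQ : a ∉ Q := fun h => ha1 (by
    have : a ∈ 𝐍[(R : Subgroup G)] ⊓ Q := ⟨ha, h⟩
    rwa [hNQ, mem_bot] at this)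
  obtain ⟨i, hi⟩ := hinv a hao haQ
  obtain ⟨ρ, hρ, hρ1⟩ := hrot 1
  have ha2 : a * a = 1 := by rw [← pow_two, ← hao, pow_orderOf_eq_one]
  have hi' : f (ρ * a * ρ⁻¹) = DihedralGroup.sr (i - 2) := by
    rw [map_mul, map_mul, map_inv, hi, hρ1]
    simp only [DihedralGroup.inv_r, DihedralGroup.r_mul_sr, DihedralGroup.sr_mul_r]
    congr 1; ring
  have key : ∀ s t : G, s * s = 1 → t * t = 1 → (s * t) ^ r = 1 → ∃ g : G, g * s * g⁻¹ = t := by
    intro s t hs ht hst
    obtain ⟨k, hk⟩ := hodd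
    have h1 : s * (s * t) * s⁻¹ = (s * t)⁻¹ := by
      rw [← mul_assoc, hs, one_mul, mul_inv_rev, inv_eq_of_mul_eq_one_right ht]
    have h2 : s * (s * t) ^ k * s⁻¹ = ((s * t) ^ k)⁻¹ := by rw [← conj_pow, h1, inv_pow]
    refine ⟨(s * t) ^ k, ?_⟩
    have h3 : s * ((s * t) ^ k)⁻¹ = (s * t) ^ k * s := by
      rw [← h2, ← mul_assoc, ← mul_assoc, hs, one_mul, inv_eq_of_mul_eq_one_right hs]
    rw [mul_assoc, h3, ← mul_assoc, ← pow_add, ← two_mul]
    have h4 : (s * t) ^ (2 * k) = (s * t)⁻¹ := by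
      rw [eq_inv_iff_mul_eq_one, ← pow_succ, ← hk, hst]
    rw [h4, mul_inv_rev, inv_eq_of_mul_eq_one_right ht, inv_mul_cancel_right]
  have ha2' : ∀ g : G, (g * a * g⁻¹) * (g * a * g⁻¹) = 1 := fun g => by
    calc _ = g * (a * a) * g⁻¹ := by group
      _ = 1 := by rw [ha2]; group
  refine ⟨fun b hb hbQ => ?_, ?_⟩
  · obtain ⟨j, hj⟩ := hinv b hb hbQ
    have hb2 : b * b = 1 := by rw [← pow_two, ← hb, pow_orderOf_eq_one]
    by_cases hij : j = i
    · obtain ⟨g, hg⟩ := key _ b (ha2' ρ) hb2 (hA _ 2 h2ne (by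
        rw [map_mul, hi', hj, hij, DihedralGroup.sr_mul_sr]; congr 1; ring)).1
      exact ⟨g * ρ, by rw [← hg]; group⟩
    · exact key a b ha2 hb2 (hA _ (j - i) (sub_ne_zero.2 hij) (by
        rw [map_mul, hi, hj, DihedralGroup.sr_mul_sr])).1
  set C := Q ⊓ centralizer ({a} : Set G) with hCd
  have hC' : cj(ρ, C) = Q ⊓ centralizer ({ρ * a * ρ⁻¹} : Set G) := by
    rw [hCd, Amb.cj_inf, Amb.cj_of_normal, Amb.centralizer_singleton_conj]
  refine le_antisymm ?_ ?_
  · have h1 := card_mul_card_le_of_le (H := C) (K := cj(ρ, C)) (L := Q) inf_le_left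
      (hC' ▸ inf_le_left)
    have h2 : C ⊓ cj(ρ, C) = ⊥ := by
      rw [eq_bot_iff, hC']
      rintro z ⟨⟨h2, h3⟩, -, h4⟩
      have h3' : a * z = z * a := mem_centralizer_iff.1 h3 a rfl
      have h4' : ρ * a * ρ⁻¹ * z = z * (ρ * a * ρ⁻¹) := mem_centralizer_iff.1 h4 _ rfl
      refine (hA (ρ * a * ρ⁻¹ * a) 2 h2ne (by
        rw [map_mul, hi', hi, DihedralGroup.sr_mul_sr]; congr 1; ring)).2 z h2 ?_
      rw [mul_assoc, h3', ← mul_assoc, h4', mul_assoc]
    rwa [h2, card_bot, one_mul, Amb.card_cj, ← pow_two] at h1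
  · -- the products of conjugates
    let ψ : Q × Q → Q := fun x => ⟨(x.1 * a * (x.1 : G)⁻¹) * (x.2 * (ρ * a * ρ⁻¹) * (x.2 : G)⁻¹) *
        (a * (ρ * a * ρ⁻¹))⁻¹, (hfk _).1 (by
      simp only [map_mul, map_inv, (hfk _).2 x.1.2, (hfk _).2 x.2.2]; group)⟩
    have hfib : ∀ x y : Q × Q, ψ x = ψ y → (x.1 : G)⁻¹ * y.1 ∈ C ∧ (x.2 : G)⁻¹ * y.2 ∈ cj(ρ, C) := by
      intro x y h
      have h1 := mul_right_cancel (congrArg Subtype.val h)
      set s := (x.1 : G) * a * (x.1 : G)⁻¹ with hs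
      set s' := (y.1 : G) * a * (y.1 : G)⁻¹ with hs'
      set t := (x.2 : G) * (ρ * a * ρ⁻¹) * (x.2 : G)⁻¹ with ht
      set t' := (y.2 : G) * (ρ * a * ρ⁻¹) * (y.2 : G)⁻¹ with ht'
      have hss : s * s = 1 := ha2' _
      have hss' : s' * s' = 1 := ha2' _
      have htt : t * t = 1 := by have := ha2' (x.2 * ρ); rw [ht, ← this]; group
      have htt' : t' * t' = 1 := by have := ha2' (y.2 * ρ); rw [ht', ← this]; group
      have hfs : f s = f a := by simp [hs, (hfk _).2 x.1.2]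
      have hfs' : f s' = f a := by simp [hs', (hfk _).2 y.1.2]
      have hft : f t = f (ρ * a * ρ⁻¹) := by simp [ht, (hfk _).2 x.2.2]
      clear_value s s' t t'
      have h2 : s' * s = t' * t := by
        calc s' * s = s' * (s * t) * t := by rw [mul_assoc s', mul_assoc s, htt, mul_one]
          _ = t' * t := by rw [h1, ← mul_assoc, hss', one_mul]
      have h3 : s' * s = 1 := by
        refine (hA (s * t) (-2) (neg_ne_zero.2 h2ne) (by
          rw [map_mul, hfs, hft, hi, hi', DihedralGroup.sr_mul_sr]; congr 1; ring)).2 _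
          ((hfk _).1 (by rw [map_mul, hfs, hfs', ← map_mul, ha2, map_one])) ?_
        calc s * t * (s' * s) = s * (t * (t' * t)) := by rw [h2, mul_assoc]
          _ = s * ((t' * t)⁻¹ * t) := by
            rw [mul_inv_rev, inv_eq_of_mul_eq_one_right htt, inv_eq_of_mul_eq_one_right htt',
              mul_assoc]
          _ = s' * s * (s * t) := by
            rw [← h2, mul_inv_rev, inv_eq_of_mul_eq_one_right hss, inv_eq_of_mul_eq_one_right hss']
            calc s * (s * s' * t) = (s * s) * s' * t := by group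
              _ = s' * (s * s) * t := by rw [hss]; group
              _ = _ := by group
      have h4 : s = s' := by rw [← inv_eq_of_mul_eq_one_right h3, inv_eq_of_mul_eq_one_right hss']
      have h5 : t = t' := by rw [h4] at h1; exact mul_left_cancel h1
      rw [hC']
      refine ⟨mem_inf.2 ⟨mul_mem (inv_mem x.1.2) y.1.2, mem_centralizer_singleton_iff.2 ?_⟩,
        mem_inf.2 ⟨mul_mem (inv_mem x.2.2) y.2.2, mem_centralizer_singleton_iff.2 ?_⟩⟩
      · calc (x.1 : G)⁻¹ * y.1 * a = (x.1 : G)⁻¹ * s' * y.1 := by rw [hs']; group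
          _ = _ := by rw [← h4, hs]; group
      · calc (x.2 : G)⁻¹ * y.2 * (ρ * a * ρ⁻¹) = (x.2 : G)⁻¹ * t' * y.2 := by rw [ht']; group
          _ = _ := by rw [← h5, ht]; group
    let χ : (Q ⧸ C.subgroupOf Q) × (Q ⧸ (cj(ρ, C)).subgroupOf Q) → Q := fun x => ψ (x.1.out, x.2.out)
    have hχ : Function.Injective χ := by
      intro x y h
      obtain ⟨h1, h2⟩ := hfib _ _ h
      refine Prod.ext ?_ ?_
      · rw [← QuotientGroup.out_eq' x.1, ← QuotientGroup.out_eq' y.1, QuotientGroup.eq]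
        exact h1
      · rw [← QuotientGroup.out_eq' x.2, ← QuotientGroup.out_eq' y.2, QuotientGroup.eq]
        exact h2
    have h1 := Nat.card_le_card_of_injective χ hχ
    rw [Nat.card_prod] at h1
    change C.relIndex Q * (cj(ρ, C)).relIndex Q ≤ _ at h1
    have h2 := card_mul_relIndex (inf_le_left : C ≤ Q)
    have h3 := card_mul_relIndex (hC' ▸ inf_le_left : cj(ρ, C) ≤ Q)
    rw [Amb.card_cj] at h3
    have h4 : 0 < Nat.card Q := Nat.card_pos
    refine Nat.le_of_mul_le_mul_right ?_ h4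
    calc Nat.card Q * Nat.card Q = Nat.card C ^ 2 * (C.relIndex Q * (cj(ρ, C)).relIndex Q) := by
          conv_lhs => rw [← h2]; enter [2]; rw [h2, ← h3]
          ring
      _ ≤ _ := Nat.mul_le_mul_left _ h1

end Cfsg.Agent.S2873
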