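import Cfsg.Statements.S2880
import Mathlib
import Cfsg.Agent.TT.XS

set_option autoImplicit false
open Cfsg

namespace Cfsg.Agent.S2880

open Cfsg.Agent.TT in
theorem orderOf_eq_four_iff {E : Type*} [Group E] {z : E} (h : XS (⊤ : Subgroup E) z) (x : E) :
    orderOf x = 4 ↔ x * x ≠ 1 := by
  constructor
  · intro h4 h2
    have := orderOf_dvd_of_pow_eq_one (show x ^ 2 = 1 by rw [pow_two, h2])
    rw [h4] at this
    exact absurd this (by decide)
  · intro h2
    exact orderOf_eq_prime_pow (p := 2) (n := 1) (by simpa [pow_two] using h2)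
      (h.pow_four (Subgroup.mem_top x))

/-- Let E be an extraspecial 2-group of order 2^(2m+1) of plus type, that is, containing an elementary abelian subgroup of order 2^(m+1) (equivalently, a central product of m dihedral groups of order 8). Then E has exactly 2^(2m) − 2^m elements of order 4. -/
theorem result {E : Type*} [Group E] [Finite E] (m : ℕ) (hm : 1 ≤ m) (hE : Cfsg.IsExtraspecial 2 E) (hcard : Nat.card E = 2 ^ (2 * m + 1)) (hplus : ∃ A : Subgroup E, Cfsg.IsElementaryAbelian 2 A ∧ Nat.card A = 2 ^ (m + 1)) : Nat.card {x : E // orderOf x = 4} = 2 ^ (2 * m) - 2 ^ m := by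
  classical
  obtain ⟨z, h⟩ := Cfsg.Agent.TT.exists_XS_top hE
  obtain ⟨A, ⟨hA1, hA2⟩, hA⟩ := hplus
  have hcomm : ∀ a ∈ A, ∀ b ∈ A, a * b = b * a := fun a ha b hb =>
    congrArg Subtype.val (hA1.is_comm.comm (⟨a, ha⟩ : A) ⟨b, hb⟩)
  have hsq : ∀ a ∈ A, a * a = 1 := fun a ha => by rw [← pow_two]; exact hA2 a ha
  have hC : ∀ x, x ∉ A → ∃ a ∈ A, x * a ≠ a * x := by
    have h1 := h.card_mul_card_centralizer (A := A ⊔ Subgroup.zpowers z) le_top
      (Subgroup.mem_sup_right (Subgroup.mem_zpowers z))
    rw [top_inf_eq, Subgroup.card_top, hcard] at h1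
    have h2 : A ≤ Subgroup.centralizer ((A ⊔ Subgroup.zpowers z : Subgroup E) : Set E) := by
      intro a ha
      exact Cfsg.Agent.TT.XS.mem_centralizer_sup_zpowers.mpr
        ⟨fun b hb => hcomm b hb a ha, h.z_comm a trivial⟩
    have h3 : Nat.card A ≤ Nat.card (A ⊔ Subgroup.zpowers z : Subgroup E) :=
      Subgroup.card_le_of_le le_sup_left
    have h4 : Nat.card (Subgroup.centralizer ((A ⊔ Subgroup.zpowers z : Subgroup E) : Set E)) ≤
        Nat.card A := by
      have h5 : 2 * 2 ^ (2 * m + 1) = Nat.card A * Nat.card A := by rw [hA]; ring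
      refine Nat.le_of_mul_le_mul_left (c := Nat.card A) ?_ Nat.card_pos
      rw [← h5, ← h1]
      exact Nat.mul_le_mul_right _ h3
    have h6 := Subgroup.eq_of_le_of_card_ge h2 h4
    intro x hx
    by_contra hc
    push Not at hc
    apply hx
    rw [h6]
    exact Cfsg.Agent.TT.XS.mem_centralizer_sup_zpowers.mpr
      ⟨fun b hb => (hc b hb).symm, h.z_comm x trivial⟩
  haveI := Fintype.ofFinite E
  let f : E → ℤ := fun x => if x * x = 1 then 1 else -1
  have h1 : ∀ x : E, ∑ a : A, f (x * a) = if x ∈ A then (Nat.card A : ℤ) else 0 := by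
    intro x
    split_ifs with hx
    · rw [Finset.sum_congr rfl (g := fun _ => 1)]
      · simp
      · intro a _
        exact if_pos (hsq _ (mul_mem hx a.2))
    · obtain ⟨b, hb, hxb⟩ := hC x hx
      have h2 : ∑ a : A, f (x * a) = ∑ a : A, f (x * (a * ⟨b, hb⟩ : A)) :=
        (Equiv.sum_comp (Equiv.mulRight (⟨b, hb⟩ : A)) (fun a : A => f (x * a))).symm
      have h3 : ∀ a : A, f (x * (a * ⟨b, hb⟩ : A)) = - f (x * a) := by
        intro a
        have h4 : b * (x * a) = (x * a) * b * z := by
          refine h.comm_of_ne trivial trivial fun h5 => hxb ?_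
          rw [mul_assoc, hcomm a a.2 b hb, ← mul_assoc, ← mul_assoc] at h5
          exact (mul_right_cancel h5).symm
        have h5 : x * (a * b) * (x * (a * b)) = x * a * (x * a) * z := by
          calc x * (a * b) * (x * (a * b)) = x * a * (b * (x * a)) * b := by group
            _ = x * a * (x * a) * (b * (z * b)) := by rw [h4]; group
            _ = _ := by rw [← h.z_comm b trivial, ← mul_assoc b, hsq b hb, one_mul]
        show (if x * (a * b) * (x * (a * b)) = 1 then (1 : ℤ) else -1) =
          - (if x * a * (x * a) = 1 then (1 : ℤ) else -1)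
        rw [h5]
        rcases h.sq (x := x * a) trivial with h6 | h6
        · rw [h6, one_mul, if_neg h.z_ne, if_pos rfl]
        · rw [h6, h.z_sq, if_pos rfl, if_neg h.z_ne, neg_neg]
      rw [Finset.sum_congr rfl fun a _ => h3 a, Finset.sum_neg_distrib] at h2
      omega
  have h2 : ∑ x : E, f x = Nat.card A := by
    have h3 : ∑ x : E, ∑ a : A, f (x * a) = Nat.card A * ∑ x : E, f x := by
      have h4 : ∀ a : A, ∑ x : E, f (x * a) = ∑ x : E, f x :=
        fun a => Equiv.sum_comp (Equiv.mulRight (a : E)) f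
      rw [Finset.sum_comm, Finset.sum_congr rfl fun a _ => h4 a]
      simp
    rw [Finset.sum_congr rfl fun x _ => h1 x, ← Finset.sum_filter, Finset.sum_const,
      nsmul_eq_mul] at h3
    have h4 : (Finset.univ.filter fun x : E => x ∈ A).card = Nat.card A := by
      rw [Nat.card_eq_fintype_card, Fintype.card_subtype]
    rw [h4] at h3
    exact (mul_left_cancel₀ (Nat.cast_ne_zero.mpr Nat.card_pos.ne') h3).symm
  have h3 : Nat.card {x : E // orderOf x = 4} = (Finset.univ.filter fun x : E => ¬ x * x = 1).card := by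
    rw [Nat.card_eq_fintype_card, Fintype.card_subtype]
    congr 1
    exact Finset.filter_congr fun x _ => orderOf_eq_four_iff h x
  have h4 := Finset.card_filter_add_card_filter_not (s := Finset.univ) (fun x : E => x * x = 1)
  rw [Finset.card_univ, ← Nat.card_eq_fintype_card, hcard] at h4
  rw [Finset.sum_ite, Finset.sum_const, Finset.sum_const, hA] at h2
  simp only [nsmul_eq_mul, mul_one, mul_neg] at h2
  push_cast at h2
  rw [h3]
  have h5 : (2 : ℤ) ^ (m + 1) = 2 * (2 ^ m : ℕ) := by push_cast; ring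
  have h6 : 2 ^ (2 * m + 1) = 2 * 2 ^ (2 * m) := by ring
  omega


end Cfsg.Agent.S2880
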