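import Cfsg.Statements.S2881
import Mathlib
import Cfsg.Agent.S2880

set_option autoImplicit false
open Cfsg

namespace Cfsg.Agent.S2881



/-- Let E be an extraspecial 2-group of order 2^(2m+1) of plus type (containing an elementary abelian subgroup of order 2^(m+1)), and let ω be an automorphism of E of order 5 whose fixed points are exactly the centre of E. Then m is divisible by 4. -/
theorem result {E : Type*} [Group E] [Finite E] (m : ℕ) (hm : 1 ≤ m) (hE : Cfsg.IsExtraspecial 2 E) (hcard : Nat.card E = 2 ^ (2 * m + 1)) (hplus : ∃ A : Subgroup E, Cfsg.IsElementaryAbelian 2 A ∧ Nat.card A = 2 ^ (m + 1)) (ω : E ≃* E) (hω : orderOf ω = 5) (hfix : ∀ x : E, ω x = x ↔ x ∈ Subgroup.center E) : 4 ∣ m := by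
  classical
  have hc := Cfsg.Agent.S2880.result m hm hE hcard hplus
  obtain ⟨z, h⟩ := Cfsg.Agent.TT.exists_XS_top hE
  haveI := Fintype.ofFinite E
  let f : {x : E // orderOf x = 4} → {x : E // orderOf x = 4} := fun x =>
    ⟨ω x, by rw [MulEquiv.orderOf_eq]; exact x.2⟩
  have hf : ∀ (n : ℕ) x, (f^[n] x : E) = (ω ^ n) x := by
    intro n
    induction n with
    | zero => intro x; rfl
    | succ n ih => intro x; rw [Function.iterate_succ_apply', pow_succ']; exact congrArg ω (ih x)
  haveI : Fact (Nat.Prime 5) := ⟨by norm_num⟩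
  have h5 : f^[5 ^ 1] = id := by
    funext x
    refine Subtype.ext ?_
    rw [hf, pow_one, ← hω, pow_orderOf_eq_one]; rfl
  have h1 := Equiv.Perm.card_fixedPoints_modEq (f := f) (p := 5) (n := 1) (by
    have : ∀ n : ℕ, ((show Function.End _ from f) ^ n : Function.End _) = f^[n] := fun n => rfl
    exact (this _).trans h5)
  have h2 : Fintype.card (Function.fixedPoints f) = 0 := by
    rw [Fintype.card_eq_zero_iff]
    refine ⟨fun x => ?_⟩
    have h3 : ω x.1 = x.1 := congrArg Subtype.val x.2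
    rw [hfix, h.mem_center_top] at h3
    have h4 := (Cfsg.Agent.S2880.orderOf_eq_four_iff h _).mp x.1.2
    rcases h3 with h3 | h3 <;> rw [h3] at h4
    · exact h4 (one_mul _)
    · exact h4 h.z_sq
  rw [h2, ← Nat.card_eq_fintype_card, hc] at h1
  have h6 : 5 ∣ 2 ^ m * (2 ^ m - 1) := by
    rw [Nat.mul_sub, mul_one, ← pow_add, ← two_mul]
    exact (Nat.modEq_zero_iff_dvd).mp h1
  have h7 : 5 ∣ 2 ^ m - 1 :=
    (Nat.Coprime.pow_right m (by norm_num : Nat.Coprime 5 2)).dvd_of_dvd_mul_left h6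
  have h8 : 2 ^ m % 5 = 1 := by
    have : 1 ≤ 2 ^ m := Nat.one_le_two_pow
    omega
  rw [← Nat.div_add_mod m 4, pow_add, pow_mul, Nat.mul_mod, Nat.pow_mod] at h8
  have h9 : m % 4 < 4 := Nat.mod_lt _ (by norm_num)
  refine Nat.dvd_of_mod_eq_zero ?_
  generalize m % 4 = r at h8 h9
  interval_cases r <;> simp_all


end Cfsg.Agent.S2881
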