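import Cfsg.Statements.S2906
import Mathlib
import Cfsg.Agent.PLocal.PMinimal
import Cfsg.Agent.S2836

set_option autoImplicit false
open Cfsg

namespace Cfsg.Agent.S2906

open Subgroup Cfsg.Agent.PLocal Cfsg.Agent.PLocal.CP Cfsg.Agent.Grp
open scoped commutatorElement Cfsg.Agent.PLocal.Amb

/-- Let P be a finite p-minimal group with O_p(P) = 1, S a Sylow p-subgroup of P and K a component of P. Then O^p(P) = F*(P) = E(P) is generated by the S-conjugates of K, and the subgroup K·N_S(K) is again p-minimal. -/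
theorem result {P : Type*} [Group P] [Finite P] {p : ℕ} [Fact p.Prime] (hP : Cfsg.IsPMinimal p P) (hOp : Cfsg.pCore p P = ⊥) (S : Sylow p P) (K : Subgroup P) (hK : Cfsg.IsComponent K) : Cfsg.pResidual p P = Cfsg.generalizedFittingSubgroup P ∧ Cfsg.generalizedFittingSubgroup P = Cfsg.layer P ∧ Cfsg.layer P = ⨆ s : ↥(S : Subgroup P), K.map (MulAut.conj (s : P)).toMonoidHom ∧ Cfsg.IsPMinimal p ↥(K ⊔ ((S : Subgroup P) ⊓ Subgroup.normalizer (K : Set P))) := by
  have hS := Amb.isSyl_top S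
  obtain ⟨M, h⟩ := (isPMinimal_iff_top hS).1 hP
  have hW : (ncl K S).Normal := normal_of_top_le (by
    have h1 : layer P ≤ 𝐍[ncl K S] := by
      rw [Amb.le_normalizer_iff_cj]
      intro g hg
      rw [Amb.cj_le_iff, ncl_le_iff]
      intro s hs
      rw [← Amb.cj_le_iff, Amb.cj_of_mem_normalizer (layer_le_normalizer_comp (comp_conj hK s) hg)]
      exact cj_le_ncl K hs
    have h2 : layer P ⊔ S = ⊤ := h.eq_of_not_le le_sup_right le_top fun h2 => ?_
    · exact h2.ge.trans (sup_le h1 (le_normalizer_ncl _ _))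
    obtain ⟨T, hT⟩ := (Amb.isSyl_of_le S h.le).exists_sylow_map
    have h3 := (S2836.result M h.isCoatom T S hT.ge (isMinimalOver_iff.2 ⟨M, h⟩)).2 (layer P)
      (le_sup_left.trans h2)
    have h4 := h3.2.1
    have h5 : pCore p (layer P) = ⊥ := CP.pCoreOf_eq_bot_iff.1
      (pCoreOf_eq_bot_of_subnormal hOp (Normal.isSubnormal inferInstance))
    have h6 : Group.IsNilpotent (layer P) :=
      isNilpotent_of_injective (QuotientGroup.mk' (pCore p (layer P)))
      ((MonoidHom.ker_eq_bot_iff _).1 (by rw [QuotientGroup.ker_mk', h5]))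
    exact qsS_not_le_solvable hK.2 inferInstance (comp_le_layer hK))
  have hE : layer P ≤ pResidual p P := by
    rw [← pRes_eq_of_perfect (p := p) (layer_commutator P), ← Amb.pRes_top (G := P)]
    exact Amb.pRes_mono le_top
  have hWE : ncl K S ≤ layer P := ncl_le (comp_le_layer hK) le_normalizer_of_normal
  have hKM : ¬ K ≤ M := fun h1 => by
    have h2 : ncl K S ≤ M := ncl_le h1 (h.le.trans le_normalizer)
    obtain ⟨T, hT⟩ := (Amb.isSyl_of_le S h.le).exists_sylow_map
    have h4 := ((S2836.result M h.isCoatom T S hT.ge (isMinimalOver_iff.2 ⟨M, h⟩)).2 _ h2).2.1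
    have h5 : pCore p (ncl K S) = ⊥ := CP.pCoreOf_eq_bot_iff.1
      (pCoreOf_eq_bot_of_subnormal hOp (Normal.isSubnormal inferInstance))
    have h6 : Group.IsNilpotent (ncl K S) :=
      isNilpotent_of_injective (QuotientGroup.mk' (pCore p (ncl K S)))
      ((MonoidHom.ker_eq_bot_iff _).1 (by rw [QuotientGroup.ker_mk', h5]))
    exact qsS_not_le_solvable hK.2 inferInstance (le_ncl K S)
  have hRW : pResidual p P ≤ ncl K S := by
    rw [← Amb.pRes_top]
    exact (h.pRes_le_or hS.pgrp le_top le_normalizer_of_normal).resolve_right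
      fun h1 => hKM ((le_ncl K S).trans h1)
  have hF : generalizedFittingSubgroup P ≤ pResidual p P := by
    rw [← pRes_eq_of_le_fstar (L := generalizedFittingSubgroup P) (Normal.isSubnormal inferInstance)
      le_rfl (pCoreOf_eq_bot_of_subnormal hOp (Normal.isSubnormal inferInstance)),
      ← Amb.pRes_top (G := P)]
    exact Amb.pRes_mono le_top
  refine ⟨le_antisymm (hRW.trans (hWE.trans layer_le_fstar)) hF,
    le_antisymm (hF.trans (hRW.trans hWE)) layer_le_fstar, le_antisymm (hE.trans hRW) hWE, ?_⟩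
  have hSK := isSyl_inf_of_snIn hS (snIn_top_iff.2 hK.1)
  have hp1 : IsPGroup p ↥((S : Subgroup P) ⊓ 𝐍[K]) := hS.pgrp.to_le inf_le_left
  have h1 : (S : Subgroup P) ⊓ K ≤ (S : Subgroup P) ⊓ 𝐍[K] := inf_le_inf_left _ le_normalizer
  have hS₁ : Amb.IsSyl p ((S : Subgroup P) ⊓ 𝐍[K]) (K ⊔ (S : Subgroup P) ⊓ 𝐍[K]) :=
    isSyl_sup ⟨le_rfl, hp1, fun _ _ _ h => h⟩ hSK h1 inf_le_right
  refine (isPMinimal_iff hS₁).2 ⟨M ⊓ (K ⊔ (S : Subgroup P) ⊓ 𝐍[K]), minOver_of_isSyl hS₁
    (fun h2 => ?_) (le_inf (inf_le_left.trans h.le) le_sup_right)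
    (lt_of_le_not_ge inf_le_right fun h2 => hKM (le_sup_left.trans (h2.trans inf_le_left)))
    fun U h2 h3 => le_inf ?_ h3.le⟩
  · have h3 : (S : Subgroup P) ⊓ K = ⊥ := by
      rw [eq_bot_iff, ← pCoreOf_eq_bot_of_subnormal hOp hK.1]
      refine le_trans ?_ (CP.inf_pCoreOf_le (le_sup_left.trans le_normalizer :
        K ≤ 𝐍[K ⊔ (S : Subgroup P) ⊓ 𝐍[K]]))
      exact le_inf inf_le_right (h1.trans (CP.le_pCoreOf le_sup_right h2 hp1))
    have h4 : K ≤ pPrimeCore p P := le_pPrimeCore_of_isSubnormal hK.1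
      ((Nat.Prime.coprime_iff_not_dvd Fact.out).2 (hSK.eq_bot_iff.1 h3)).symm
    have h5 := coprime_of_le_pPrimeCore (hRW.trans (ncl_le h4 le_normalizer_of_normal))
    obtain ⟨r, hr, -, R, hR, h6, h7⟩ := h.exists_prime_of_pClosed hS fun X h6 h7 => by
      rw [← inf_eq_left.2 h6, inf_eq_bot_of_isPGroup_of_coprime h7 h5]
      exact bot_le
    rw [pCoreOf_eq_bot_of_subnormal hOp (Normal.isSubnormal inferInstance), sup_bot_eq] at h6
    have h8 := Amb.pRes_sup_le hS.pgrp h6
    rw [h7, Amb.pRes_top] at h8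
    have := Fact.mk hr
    have := hR.pgrp.isNilpotent
    exact qsS_not_le_solvable hK.2 inferInstance ((comp_le_layer hK).trans (hE.trans h8))
  · have h4 := Amb.sup_inf_of_le_normalizer h2 (inf_le_right : (S : Subgroup P) ⊓ 𝐍[K] ≤ 𝐍[K])
    rw [sup_comm _ K, inf_eq_right.2 h3.le] at h4
    rw [h4]
    refine sup_le (inf_le_left.trans h.le) (((le_ncl _ S).trans le_sup_left).trans
      (h.le_of_le le_sup_right le_top fun h5 => ?_))
    have h6 := (Amb.pRes_mono h5).trans (Amb.pRes_sup_le hS.pgrp (le_normalizer_ncl _ _))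
    rw [Amb.pRes_top] at h6
    have h7 : ncl (K ⊓ U) S ≤ (K ⊓ U) ⊔ 𝐂[K] := ncl_le_iff.2 fun s hs => by
      by_cases h7 : cj(s, K) = K
      · have h8 : s ∈ (S : Subgroup P) ⊓ 𝐍[K] := ⟨hs, Amb.cj_eq_iff.1 h7⟩
        rw [Amb.cj_inf, h7, Amb.cj_of_mem (h2 h8)]
        exact le_sup_left
      · exact ((Amb.cj_mono s inf_le_left).trans (commutator_eq_bot_iff_le_centralizer.1
          (comp_commute_of_ne (comp_conj hK s) hK h7))).trans le_sup_right
    have h8 : K ≤ (K ⊓ U) ⊔ 𝐂[K] := (comp_le_layer hK).trans (hE.trans (h6.trans h7))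
    have h9 : ∀ X : Subgroup P, X ≤ K → ⁅X, K⁆ ≤ ⁅X, K ⊓ U⁆ := fun X hX =>
      (commutator_mono le_rfl h8).trans (commutator_sup_le
        (Solv.le_normalizer_commutator_right _ _)
        (le_normalizer_commutator
          ((Amb.centralizer_anti hX).trans (Amb.centralizer_le_normalizer' _))
          ((Amb.centralizer_anti inf_le_left).trans (Amb.centralizer_le_normalizer' _))) le_rfl (by
        rw [commutator_eq_bot_iff_le_centralizer.2
          (le_centralizer_iff.1 (Amb.centralizer_anti hX))]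
        exact bot_le))
    have h10 : K ≤ U := by
      refine (comp_commutator hK).ge.trans ((h9 K le_rfl).trans ?_)
      rw [Subgroup.commutator_comm]
      exact (h9 _ inf_le_left).trans
        ((le_normalizer_iff_commutator_le_left.1 le_normalizer).trans inf_le_right)
    exact h3.not_ge (sup_le h10 h2)

end Cfsg.Agent.S2906
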