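import Cfsg.Statements.S2911
import Mathlib
import Cfsg.Agent.Inv.SylModel

set_option autoImplicit false
open Cfsg

namespace Cfsg.Agent.S2911

abbrev HH := Multiplicative (ZMod 2) × DihedralGroup 4

open DihedralGroup

def c : HH := (Multiplicative.ofAdd 1, 1)
def z : HH := (1, r 2)
def s : HH := (1, sr 0)
def t : HH := (1, sr 1)
def ρ : HH := (1, r 1)

/-- index two subgroups as kernels -/
def χ (a b : ZMod 2) (x : HH) : ZMod 2 :=
  x.1.toAdd + match x.2 with
    | r i => a * ZMod.cast i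
    | sr i => a * ZMod.cast i + b

theorem χ_mul : ∀ a b : ZMod 2, ∀ x y : HH, χ a b (x * y) = χ a b x + χ a b y := by decide

def χh (a b : ZMod 2) : HH →* Multiplicative (ZMod 2) :=
  MonoidHom.mk' (fun x => Multiplicative.ofAdd (χ a b x)) (fun x y => by rw [χ_mul]; rfl)

theorem index_ker (a b : ZMod 2) : (χh a b).ker.index = 2 := by
  rw [Subgroup.index_ker]
  have : (χh a b).range = ⊤ := by
    rw [eq_top_iff]
    intro x _
    have h : ∀ a b : ZMod 2, ∀ x : Multiplicative (ZMod 2), ∃ y : HH, Multiplicative.ofAdd (χ a b y) = x := by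
      decide
    exact h a b x
  rw [this, Subgroup.card_top]; simp

theorem mem_ker {a b : ZMod 2} {x : HH} : x ∈ (χh a b).ker ↔ χ a b x = 0 := by
  rw [MonoidHom.mem_ker]; exact Iff.rfl

theorem invol : ∀ x : HH, x * x = 1 → x = 1 ∨ x = c ∨ x = z ∨ x = c * z ∨ x = s ∨ x = ρ * s * ρ⁻¹ ∨
    x = c * s ∨ x = ρ * (c * s) * ρ⁻¹ ∨ x = t ∨ x = ρ * t * ρ⁻¹ ∨ x = c * t ∨ x = ρ * (c * t) * ρ⁻¹ := by
  decide

/-- A finite group whose Sylow 2-subgroups are isomorphic to the direct product of a group of order 2 and a dihedral group of order 8 has a subgroup of index two. -/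
theorem result {G : Type*} [Group G] [Finite G] (S : Sylow 2 G) (hS : Nonempty (↥(S : Subgroup G) ≃* Multiplicative (ZMod 2) × DihedralGroup 4)) : ∃ H : Subgroup G, H.index = 2 := by
  classical
  by_contra hG
  push Not at hG
  obtain ⟨e⟩ := hS
  obtain ⟨f, hf, hr⟩ := Cfsg.Agent.Inv.SylModel.exists_hom e
  let R : HH → HH → Prop := fun u v => IsConj (f u) (f v)
  have Rs : ∀ {u v}, R u v → R v u := fun h => h.symm
  have Rt : ∀ {u v w}, R u v → R v w → R u w := fun h h' => h.trans h'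
  have Rc : ∀ u, R (ρ * u * ρ⁻¹) u := fun u => (Cfsg.Agent.Inv.SylModel.isConj_conj f u ρ).symm
  have R1 : ∀ {u}, R u 1 → u = 1 := by
    intro u h
    apply hf
    simp only [R, map_one] at h ⊢
    exact isConj_one_left.1 h
  have Rsq : ∀ {u v}, R u v → u * u = 1 → v * v = 1 := by
    intro u v h hu
    have := Cfsg.Agent.Inv.SylModel.orderOf_eq hf h
    rw [← sq] at hu ⊢
    rw [← orderOf_dvd_iff_pow_eq_one] at hu ⊢
    rwa [← this]
  have hcc : ∀ u : HH, u * c = c * u := by decide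
  have hzc : ∀ u : HH, u * z = z * u := by decide
  have hczc : ∀ u : HH, u * (c * z) = (c * z) * u := by decide
  have hsq : ∀ u : HH, u * u = 1 ∨ u * u = z := by decide
  -- any fusion map fixes z
  have hψz : ∀ ψ : HH → HH, (∀ u v, ψ (u * v) = ψ u * ψ v) → (∀ u, R u (ψ u)) → ψ z = z := by
    intro ψ h1 h2
    have : z = ρ * ρ := by decide
    rcases hsq (ψ ρ) with h | h
    · exfalso
      have h3 := h2 z
      rw [this, h1, h] at h3
      exact absurd (R1 h3) (by decide)
    · rw [this, h1, h, ← this]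
  have n1 : ¬ R z c := by
    intro h
    obtain ⟨ψ, h1, h2, -, h4, -⟩ := Cfsg.Agent.Inv.SylModel.central_fusion S hf hr hzc hcc h
    rw [hψz ψ h2 h4] at h1; exact absurd h1 (by decide)
  have n2 : ¬ R z (c * z) := by
    intro h
    obtain ⟨ψ, h1, h2, -, h4, -⟩ := Cfsg.Agent.Inv.SylModel.central_fusion S hf hr hzc hczc h
    rw [hψz ψ h2 h4] at h1; exact absurd h1 (by decide)
  have n3 : ¬ R c (c * z) := by
    intro h
    obtain ⟨ψ, h1, h2, -, h4, m, hm, hm'⟩ :=
      Cfsg.Agent.Inv.SylModel.central_fusion S hf hr hcc hczc h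
    have h5 : ψ (c * z) = c := by rw [h2, h1, hψz ψ h2 h4]; decide
    have h6 : ∀ k, ψ^[2 * k + 1] c = c * z := by
      intro k
      induction k with
      | zero => exact h1
      | succ k ih =>
        rw [show 2 * (k + 1) + 1 = (2 * k + 1) + 1 + 1 by ring, Function.iterate_succ_apply',
          Function.iterate_succ_apply', ih, h5, h1]
    obtain ⟨k, rfl⟩ : ∃ k, m = 2 * k + 1 := ⟨m / 2, by omega⟩
    have := hm' c hcc
    rw [h6] at this; exact absurd this (by decide)
  have oc : orderOf c = 2 := orderOf_eq_prime (by decide) (by decide)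
  have ocz : orderOf (c * z) = 2 := orderOf_eq_prime (by decide) (by decide)
  -- transfer
  have tr : ∀ a b : ZMod 2, ∀ x : HH, orderOf x = 2 → ¬ R z x → ∀ u v : HH,
      (∀ y, χ a b y = 0 → y * y = 1 → y = 1 ∨ y = z ∨ y = u ∨ y = ρ * u * ρ⁻¹ ∨ y = v ∨ y = ρ * v * ρ⁻¹) →
      R x u ∨ R x v := by
    intro a b x hx hzx u v huv
    obtain ⟨y, hy, hxy⟩ := Cfsg.Agent.Inv.SylModel.transfer hG S hf hr _ (index_ker a b) hx
    have hx2 : x * x = 1 := by have := pow_orderOf_eq_one x; rwa [hx, sq] at this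
    rcases huv y (mem_ker.1 hy) (Rsq hxy hx2) with rfl | rfl | rfl | rfl | rfl | rfl
    · exfalso; rw [R1 hxy, orderOf_one] at hx; omega
    · exact absurd (Rs hxy) hzx
    · left; exact hxy
    · left; exact Rt hxy (Rc _)
    · right; exact hxy
    · right; exact Rt hxy (Rc _)
  have a1 := tr 0 0 c oc n1 s t (by decide)
  have a2 := tr 0 0 (c * z) ocz n2 s t (by decide)
  have b1 := tr 0 1 c oc n1 (c * s) (c * t) (by decide)
  have b2 := tr 0 1 (c * z) ocz n2 (c * s) (c * t) (by decide)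
  have c1 := tr 1 0 c oc n1 s (c * t) (by decide)
  have c2 := tr 1 0 (c * z) ocz n2 s (c * t) (by decide)
  have d1 := tr 1 1 c oc n1 (c * s) t (by decide)
  have d2 := tr 1 1 (c * z) ocz n2 (c * s) t (by decide)
  -- final contradiction
  have fin : ∀ x x' : HH, x * c = c * x → z * x = x * z → c ≠ x →
      (∀ y : HH, y * y = 1 → y = 1 ∨ y = c ∨ y = z ∨ y = c * z ∨ y = x ∨ y = ρ * x * ρ⁻¹ ∨
        y = c * x ∨ y = ρ * (c * x) * ρ⁻¹ ∨ y = x' ∨ y = ρ * x' * ρ⁻¹ ∨ y = c * x' ∨
        y = ρ * (c * x') * ρ⁻¹) →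
      (x * z = ρ * x * ρ⁻¹ ∧ ρ * x * ρ⁻¹ * z = x ∧ c * x * z = ρ * (c * x) * ρ⁻¹ ∧
        ρ * (c * x) * ρ⁻¹ * z = c * x) →
      R c x → R c (c * x) → R (c * z) x' → R (c * z) (c * x') → False := by
    intro x x' hxc hzx hcx hinv hmul h1 h2 h3 h4
    obtain ⟨ψ, e1, e2, e3, e4⟩ := Cfsg.Agent.Inv.SylModel.extremal_central S hf hr hcc (Rs h1)
    have ez : ψ z = z := by
      have := e4 z hzx
      rcases hinv _ (Rsq this (by decide)) with h | h | h | h | h | h | h | h | h | h | h | h <;>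
        try rw [h] at this
      · exact absurd (R1 this) (by decide)
      · exact absurd this n1
      · exact h
      · exact absurd this n2
      · exact absurd (Rt this (Rs h1)) n1
      · exact absurd (Rt (Rt this (Rc _)) (Rs h1)) n1
      · exact absurd (Rt this (Rs h2)) n1
      · exact absurd (Rt (Rt this (Rc _)) (Rs h2)) n1
      · exact absurd (Rt this (Rs h3)) n2
      · exact absurd (Rt (Rt this (Rc _)) (Rs h3)) n2
      · exact absurd (Rt this (Rs h4)) n2
      · exact absurd (Rt (Rt this (Rc _)) (Rs h4)) n2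
    have hc' := e4 c hxc.symm
    have hcz' := e4 (c * z) (by rw [mul_assoc, hzx, ← mul_assoc, ← hxc, mul_assoc])
    rw [e2 c z hxc.symm hzx, ez] at hcz'
    have hne : ψ c ≠ c := fun h => hcx (e3 c x hxc.symm rfl (h.trans e1.symm))
    rcases hinv _ (Rsq hc' (by decide)) with h | h | h | h | h | h | h | h | h | h | h | h <;>
      try rw [h] at hc' hcz'
    · exact absurd (R1 hc') (by decide)
    · exact hne h
    · exact n1 (Rs hc')
    · exact n3 hc'
    · rw [hmul.1] at hcz'; exact n3 (Rt h1 (Rs (Rt hcz' (Rc _))))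
    · rw [hmul.2.1] at hcz'; exact n3 (Rt h1 (Rs hcz'))
    · rw [hmul.2.2.1] at hcz'; exact n3 (Rt h2 (Rs (Rt hcz' (Rc _))))
    · rw [hmul.2.2.2] at hcz'; exact n3 (Rt h2 (Rs hcz'))
    · exact n3 (Rt hc' (Rs h3))
    · exact n3 (Rt (Rt hc' (Rc _)) (Rs h3))
    · exact n3 (Rt hc' (Rs h4))
    · exact n3 (Rt (Rt hc' (Rc _)) (Rs h4))
  have ex : ∀ {u}, R c u → R (c * z) u → False := fun h h' => n3 (Rt h (Rs h'))
  rcases a1 with a1 | a1
  · have a2' : R (c * z) t := a2.resolve_left (ex a1)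
    have c2' : R (c * z) (c * t) := c2.resolve_left (ex a1)
    have d1' : R c (c * s) := d1.resolve_right (fun h => ex h a2')
    exact fin s t (by decide) (by decide) (by decide) (by decide) (by decide) a1 d1' a2' c2'
  · have a2' : R (c * z) s := a2.resolve_right (ex a1)
    have c1' : R c (c * t) := c1.resolve_left (fun h => ex h a2')
    have d2' : R (c * z) (c * s) := d2.resolve_right (ex a1)
    exact fin t s (by decide) (by decide) (by decide) (by decide) (by decide) a1 c1' a2' d2'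

end Cfsg.Agent.S2911
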