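import Cfsg.Statements.S2913
import Cfsg.Agent.Loc3.McH

set_option autoImplicit false
open Cfsg

namespace Cfsg.Agent.S2913
open Subgroup Cfsg.Agent.PLocal.Amb Cfsg.Agent.Loc3

/-- Let G be a finite group with O_{3'}(G) = 1, Z ≤ G a subgroup of order 3, M = C_G(Z), S a Sylow 3-subgroup of M and J an elementary abelian subgroup of S of order 3⁴. Suppose Q = F*(M) is extraspecial of order 3⁵ and exponent 3, F*(M ⧸ Q) ≅ SL₂(5), J = F*(N_G(J)), and the subgroup of N_G(J) ⧸ J generated by its 3-elements is isomorphic to the alternating group of degree 6. Then F*(G) is isomorphic to the McLaughlin group. -/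
theorem result {G : Type*} [Group G] [Finite G] (hO : Cfsg.pPrimeCore 3 G = ⊥) (Z : Subgroup G) (hZ : Nat.card ↥Z = 3) (S : Sylow 3 ↥(Subgroup.centralizer (Z : Set G))) (J : Subgroup G) (hJS : J ≤ ((S : Subgroup ↥(Subgroup.centralizer (Z : Set G))).map (Subgroup.centralizer (Z : Set G)).subtype)) (hJ : Cfsg.IsElementaryAbelian 3 J) (hJcard : Nat.card ↥J = 3 ^ 4) (hQ : Cfsg.IsExtraspecial 3 ↥(Cfsg.generalizedFittingSubgroup ↥(Subgroup.centralizer (Z : Set G)))) (hQcard : Nat.card ↥(Cfsg.generalizedFittingSubgroup ↥(Subgroup.centralizer (Z : Set G))) = 3 ^ 5) [hQn : (Cfsg.generalizedFittingSubgroup ↥(Subgroup.centralizer (Z : Set G))).Normal] (hexp : ∀ x ∈ Cfsg.generalizedFittingSubgroup ↥(Subgroup.centralizer (Z : Set G)), x ^ 3 = 1) (hFMQ : Nonempty (↥(Cfsg.generalizedFittingSubgroup (↥(Subgroup.centralizer (Z : Set G)) ⧸ Cfsg.generalizedFittingSubgroup ↥(Subgroup.centralizer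 (Z : Set G)))) ≃* Matrix.SpecialLinearGroup (Fin 2) (ZMod 5))) (hJF : ((Cfsg.generalizedFittingSubgroup ↥(Subgroup.normalizer (J : Set G))).map (Subgroup.normalizer (J : Set G)).subtype) = J) [hJn : (J.subgroupOf (Subgroup.normalizer (J : Set G))).Normal] (hA6 : Nonempty (↥(Subgroup.closure {x : ↥(Subgroup.normalizer (J : Set G)) ⧸ J.subgroupOf (Subgroup.normalizer (J : Set G)) | ∃ k : ℕ, orderOf x = 3 ^ k}) ≃* ↥(alternatingGroup (Fin 6)))) : Cfsg.Spor.IsoMcL ↥(Cfsg.generalizedFittingSubgroup G) := by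
  obtain ⟨eL⟩ := hFMQ
  obtain ⟨eM⟩ := hA6
  obtain ⟨lam, pl⟩ := PH.of_quot eL
  obtain ⟨π, pm⟩ := PH.of_quot eM
  rw [map_subgroupOf_eq_of_le le_normalizer] at pm
  have hS := isSyl_map_subtype S
  have eQ : (generalizedFittingSubgroup 𝐂[Z]).map (Subgroup.subtype _) = pCoreOf 3 𝐂[Z] :=
    congrArg _ ((PLocal.isPGroup_fstar_iff 3).1 hQ.1.1)
  have e2 : ∀ F : Subgroup 𝐂[Z], (F ⊓ 𝐂[F]).map (Subgroup.subtype _) =
      F.map (Subgroup.subtype _) ⊓ 𝐂[F.map (Subgroup.subtype _)] := fun F => le_antisymm (by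
    rintro _ ⟨x, hx, rfl⟩
    exact ⟨⟨x, hx.1, rfl⟩, mem_centralizer_iff.2 (by
      rintro _ ⟨y, hy, rfl⟩; exact congrArg Subtype.val (mem_centralizer_iff.1 hx.2 y hy))⟩) (by
    rintro _ ⟨⟨x, hx, rfl⟩, k⟩
    exact ⟨x, ⟨hx, mem_centralizer_iff.2 fun y hy =>
      Subtype.ext (mem_centralizer_iff.1 k _ ⟨y, hy, rfl⟩)⟩, rfl⟩)
  have ex := (card_subtype _ _).trans (es_amb hQ).1
  have ey : ∀ x ∈ (generalizedFittingSubgroup 𝐂[Z]).map (Subgroup.subtype _),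
      ∀ y ∈ (generalizedFittingSubgroup 𝐂[Z]).map (Subgroup.subtype _), x * y * x⁻¹ * y⁻¹ ∈
      (generalizedFittingSubgroup 𝐂[Z] ⊓ 𝐂[generalizedFittingSubgroup 𝐂[Z]]).map
        (Subgroup.subtype _) := by
    rintro _ ⟨x, hx, rfl⟩ _ ⟨y, hy, rfl⟩; exact ⟨_, (es_amb hQ).2 x hx y hy, rfl⟩
  have c5 := (card_subtype _ _).trans hQcard
  have q3 : ∀ x ∈ (generalizedFittingSubgroup 𝐂[Z]).map (Subgroup.subtype _), x ^ 3 = 1 := by
    rintro _ ⟨x, hx, rfl⟩; exact congrArg Subtype.val (hexp x hx)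
  have CQ : 𝐂[Z] ⊓ 𝐂[pCoreOf 3 𝐂[Z]] ≤ pCoreOf 3 𝐂[Z] := eQ ▸ fun g hg =>
    ⟨⟨g, hg.1⟩, PLocal.centralizer_fstar_le _ (mem_centralizer_iff.2 fun x hx =>
      Subtype.ext (mem_centralizer_iff.1 hg.2 _ ⟨x, hx, rfl⟩)), rfl⟩
  have L3 : ∀ g ∈ 𝐍[Z], (∃ k, g ^ 3 ^ k = 1) → g ∈ ((generalizedFittingSubgroup _).comap
      (QuotientGroup.mk' (generalizedFittingSubgroup 𝐂[Z]))).map (Subgroup.subtype _) :=
    fun g hg ⟨k, e⟩ => ⟨⟨g, cent_three hZ hg ⟨k, e⟩⟩, sl_three eL (PLocal.centralizer_fstar_le _)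
      (k := k) (by rw [← map_pow, show _ ^ 3 ^ k = (1 : 𝐂[Z]) from Subtype.ext e, map_one]), rfl⟩
  rw [e2] at ex ey
  rw [eQ] at ex ey c5 q3 pl
  have QS := hS.pCoreOf_le
  generalize S.1.map (Subgroup.subtype _) = T at hS hJS QS
  have ZC : Z ≤ 𝐂[pCoreOf 3 𝐂[Z]] := le_centralizer_iff.1 (pCoreOf_le _ _)
  have ZQ : Z ≤ pCoreOf 3 𝐂[Z] := by
    obtain ⟨z, -, -, rfl⟩ := exists_gen hZ
    exact (le_inf (zpowers z).le_centralizer ZC).trans CQ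
  have eZ := eq_of_le_of_card_ge (le_inf ZQ ZC) (ex.trans hZ.symm).le
  have CZ : 𝐂[pCoreOf 3 𝐂[Z]] ≤ Z :=
    (le_inf ((le_inf (centralizer_anti ZQ) le_rfl).trans CQ) le_rfl).trans eZ.ge
  have eT : Z = 𝐂[T] := le_antisymm (le_centralizer_iff.1 hS.le) ((centralizer_anti QS).trans CZ)
  exact MC0.fstar ⟨isSyl_of_isSyl_normalizer ⟨le_inf le_top le_normalizer, hS.pgrp, fun R hR h1 h2 =>
    hS.max R hR h1 fun g hg => cent_three hZ (eT ▸ normalizer_le_normalizer_centralizer T (h2 hg).2)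
      (isPGroup_iff.1 hR g hg)⟩, hJS, fun x hx y hy => congrArg Subtype.val
    (hJ.1.is_comm.comm ⟨x, hx⟩ ⟨y, hy⟩), hJ.2, hJcard, pm, fun g hg ⟨k, e⟩ => ⟨⟨g, hg⟩,
      subset_closure (ord3.2 ⟨k, by
        rw [← map_pow, show _ ^ 3 ^ k = (1 : 𝐍[J]) from Subtype.ext e, map_one]⟩), rfl⟩, hZ, hS.le, ZQ,
    QS, c5, q3, fun x hx y hy => eZ.ge (ey x hx y hy), CZ, pl, map_subtype_le _, L3,
    (normalizer_le_normalizer_centralizer Z).trans (normalizer_le_normalizer_pCoreOf 3 _)⟩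

end Cfsg.Agent.S2913
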