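import Cfsg.Statements.S2924
import Mathlib
import Cfsg.Agent.PLocal.BenderPair
import Cfsg.Agent.PLocal.Balance
import Cfsg.Agent.Solv.CN
import Cfsg.Agent.Solv.Coprime2
import Cfsg.Agent.S0217

set_option autoImplicit false
open Cfsg

namespace Cfsg.Agent.S2924


open Subgroup PLocal

theorem cent_of_ab {G : Type*} [Group G] [Finite G] {x : G} (hx : x ^ 2 = 1) {K U : Subgroup G}
    (hxK : x ∈ K) (hU : IsPGroup 2 U) (hKU : K ≤ normalizer (U : Set G)) :
    centralizerPPrimeCore 2 x ⊓ K ≤ centralizer (U : Set G) := by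
  haveI : Fact (Nat.Prime 2) := ⟨Nat.prime_two⟩
  have hcop : (Nat.card (centralizerPPrimeCore 2 x ⊓ K : Subgroup G)).Coprime 2 :=
    Nat.Coprime.coprime_dvd_left (card_dvd_of_le inf_le_left) (centralizerPPrimeCore_coprime x)
  have hP : IsPGroup 2 (zpowers x) := by
    rintro ⟨_, n, rfl⟩
    refine ⟨1, Subtype.ext ?_⟩
    simp only [pow_one, SubgroupClass.coe_pow, OneMemClass.coe_one]
    rw [← zpow_natCast, ← zpow_mul, mul_comm, zpow_mul, zpow_natCast, hx, one_zpow]
  refine Solv.p_times_q 2 (zpowers x) _ U hP hcop hU ?_ ?_ (inf_le_right.trans hKU) ?_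
  · rw [zpowers_le, mem_centralizer_iff]
    intro d hd
    exact (mem_centralizer_singleton_iff.1 (centralizerPPrimeCore_le x hd.1))
  · rw [zpowers_le]; exact hKU hxK
  · intro u hu
    rw [mem_centralizer_iff]
    intro d hd
    have hux : u ∈ centralizer ({x} : Set G) := by
      rw [mem_centralizer_singleton_iff]
      exact (mem_centralizer_iff.1 hu.2 x (mem_zpowers x)).symm
    have h1 : u * d * u⁻¹ * d⁻¹ ∈ centralizerPPrimeCore 2 x :=
      mul_mem ((mem_normalizer_iff.1 (centralizer_le_normalizer_centralizerPPrimeCore x hux) d).1 hd.1)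
        (inv_mem hd.1)
    have h2 : u * d * u⁻¹ * d⁻¹ ∈ U := by
      have := (mem_normalizer_iff.1 (hKU hd.2) u⁻¹).1 (inv_mem hu.1)
      have h5 : u * (d * u⁻¹ * d⁻¹) ∈ U := mul_mem hu.1 this
      simpa only [mul_assoc] using h5
    have hb : centralizerPPrimeCore 2 x ⊓ U = ⊥ := by
      apply inf_eq_bot_of_coprime
      obtain ⟨k, hk⟩ := hU.exists_card_eq
      rw [hk]
      exact Nat.Coprime.pow_right _ (centralizerPPrimeCore_coprime x)
    have h3 : u * d * u⁻¹ * d⁻¹ = 1 := by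
      rw [← mem_bot, ← hb]; exact ⟨h1, h2⟩
    calc d * u = (u * d * u⁻¹ * d⁻¹)⁻¹ * (u * d) := by group
      _ = u * d := by rw [h3]; simp

/-- Let X be a finite group and Y an elementary abelian 2-subgroup of X of order at least 8 such that C_X(x) has no components (E(C_X(x)) = 1) for every nontrivial x ∈ Y, and F*(C_X(z)) = O₂(C_X(z)) for some nontrivial z ∈ Y. Then the subgroup generated by the cores O(C_X(y)), y ∈ Y nontrivial, has odd order and is normalized by N_X(Y). -/
theorem result {X : Type*} [Group X] [Finite X] (Y : Subgroup X) (hY : Cfsg.IsElementaryAbelian 2 Y) (h8 : 8 ≤ Nat.card ↥Y) (hE : ∀ x ∈ Y, x ≠ 1 → Cfsg.layer ↥(Subgroup.centralizer ({x} : Set X)) = ⊥) (hz : ∃ z ∈ Y, z ≠ 1 ∧ Cfsg.generalizedFittingSubgroup ↥(Subgroup.centralizer ({z} : Set X)) = Cfsg.pCore 2 ↥(Subgroup.centralizer ({z} : Set X))) : Odd (Nat.card ↥(⨆ y : {y : X // y ∈ Y ∧ y ≠ 1}, (Cfsg.oddCore ↥(Subgroup.centralizer ({(y : X)} : Set X))).map (Subgroup.centralizer ({(y :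 X)} : Set X)).subtype)) ∧ Subgroup.normalizer (Y : Set X) ≤ Subgroup.normalizer ((⨆ y : {y : X // y ∈ Y ∧ y ≠ 1}, (Cfsg.oddCore ↥(Subgroup.centralizer ({(y : X)} : Set X))).map (Subgroup.centralizer ({(y : X)} : Set X)).subtype : Subgroup X) : Set X) := by
  haveI : Fact (Nat.Prime 2) := ⟨Nat.prime_two⟩
  obtain ⟨z, hzY, hz1, hz⟩ := hz
  have hcomm : ∀ a ∈ Y, ∀ b ∈ Y, a * b = b * a := fun a ha b hb =>
    congrArg Subtype.val (hY.1.is_comm.comm (⟨a, ha⟩ : Y) ⟨b, hb⟩)
  have hcen : ∀ a ∈ Y, ∀ b ∈ Y, a ∈ centralizer ({b} : Set X) := fun a ha b hb =>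
    mem_centralizer_singleton_iff.2 (hcomm a ha b hb)
  have h1 : ∀ x ∈ Y, centralizerPPrimeCore 2 x ⊓ centralizer ({z} : Set X) = ⊥ := by
    intro x hx
    have hc := cent_of_ab (hY.2 x hx) (hcen x hx z hzY) (isPGroup_pcoOf 2 _) (le_normalizer_pcoOf 2 _)
    have hle : centralizerPPrimeCore 2 x ⊓ centralizer ({z} : Set X) ≤ pcoOf 2 (centralizer ({z} : Set X)) := by
      intro d hd
      refine ⟨⟨d, hd.2⟩, (fstar_eq_pCore_iff 2).1 hz ?_, rfl⟩
      rw [mem_centralizer_iff]
      intro u hu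
      exact Subtype.ext (mem_centralizer_iff.1 (hc hd) u ⟨u, hu, rfl⟩)
    have hb : centralizerPPrimeCore 2 x ⊓ pcoOf 2 (centralizer ({z} : Set X)) = ⊥ := by
      apply inf_eq_bot_of_coprime
      obtain ⟨k, hk⟩ := (isPGroup_pcoOf 2 (centralizer ({z} : Set X))).exists_card_eq
      rw [hk]
      exact Nat.Coprime.pow_right _ (centralizerPPrimeCore_coprime x)
    exact le_bot_iff.1 (hb ▸ le_inf inf_le_left hle)
  have hzz : z * z = 1 := by rw [← pow_two]; exact hY.2 z hzY
  have hinv : ∀ x ∈ Y, ∀ d ∈ centralizerPPrimeCore 2 x, z * d * z⁻¹ = d⁻¹ := fun x hx d hd =>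
    Solv.CN.inverts_of_fpf (centralizer_le_normalizer_centralizerPPrimeCore x (hcen z hzY x hx)) hzz
      (h1 x hx) hd
  have hab : ∀ x ∈ Y, ∀ d ∈ centralizerPPrimeCore 2 x, ∀ e ∈ centralizerPPrimeCore 2 x,
      d * e = e * d := by
    intro x hx d hd e he
    have h2 := hinv x hx _ (mul_mem hd he)
    have h3 : z * (d * e) * z⁻¹ = (z * d * z⁻¹) * (z * e * z⁻¹) := by group
    rw [h3, hinv x hx d hd, hinv x hx e he] at h2
    calc d * e = ((d * e)⁻¹)⁻¹ := by group
      _ = e * d := by rw [← h2]; group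
  have hbal : ∀ x ∈ Y, x ≠ 1 → ∀ y ∈ Y, y ≠ 1 →
      centralizerPPrimeCore 2 x ⊓ centralizer ({y} : Set X) ≤ centralizerPPrimeCore 2 y := by
    intro x hx _ y hy hy1
    have hcop : (Nat.card (centralizerPPrimeCore 2 x ⊓ centralizer ({y} : Set X) : Subgroup X)).Coprime 2 :=
      Nat.Coprime.coprime_dvd_left (card_dvd_of_le inf_le_left) (centralizerPPrimeCore_coprime x)
    refine le_ppcOf_of_le_fitOf hcop (le_trans ?_ (inf_centralizer_le_fitOf _))
    refine le_inf (le_inf inf_le_right ?_) ?_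
    · have : layOf (centralizer ({y} : Set X)) = ⊥ := by
        unfold layOf; rw [hE y hy hy1, Subgroup.map_bot]
      rw [this]
      intro d _
      rw [mem_centralizer_iff]
      intro u hu
      rw [SetLike.mem_coe, mem_bot] at hu
      simp [hu]
    · rw [le_centralizer_iff, fitOf_eq_sup 2]
      refine sup_le ?_ (inf_le_left.trans ?_)
      · rw [le_centralizer_iff]
        exact cent_of_ab (hY.2 x hx) (hcen x hx y hy) (isPGroup_pcoOf 2 _) (le_normalizer_pcoOf 2 _)
      · intro o ho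
        rw [mem_centralizer_iff]
        intro d hd
        have ho' : o ∈ centralizerPPrimeCore 2 y := ho
        have hc : d * o * d⁻¹ ∈ centralizerPPrimeCore 2 y :=
          (mem_normalizer_iff.1 (centralizer_le_normalizer_centralizerPPrimeCore y hd.2) o).1 ho'
        have e1 := hinv y hy _ hc
        have e2 : z * (d * o * d⁻¹) * z⁻¹ = (z * d * z⁻¹) * (z * o * z⁻¹) * (z * d * z⁻¹)⁻¹ := by group
        rw [e2, hinv x hx d hd.1, hinv y hy o ho'] at e1
        have e3 : Commute (d ^ 2) o := by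
          have : d * d * o⁻¹ = o⁻¹ * (d * d) := by
            calc d * d * o⁻¹ = d * (d * o * d⁻¹)⁻¹ * d := by group
              _ = d * (d⁻¹ * o⁻¹ * d⁻¹⁻¹) * d := by rw [e1]
              _ = o⁻¹ * (d * d) := by group
          have h4 : Commute (d * d) o⁻¹ := this
          rw [pow_two]
          simpa using h4.inv_right
        have hodd : (orderOf d).Coprime 2 :=
          Nat.Coprime.coprime_dvd_left (orderOf_dvd_natCard _ hd.1) (centralizerPPrimeCore_coprime x)
        have : d ∈ zpowers (d ^ 2) := mem_zpowers_pow_iff.2 hodd.symm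
        obtain ⟨n, hn⟩ := this
        have := e3.zpow_left n
        simp only at hn
        rw [hn] at this
        exact this.eq
  have key := (S0217.result (p := 2) Y hcomm hY.2 (by simpa using h8) (fun x => centralizerPPrimeCore 2 x)
    (fun a _ _ => centralizerPPrimeCore_le a)
    (fun a _ _ h => by
      have := centralizerPPrimeCore_coprime (p := 2) a
      exact absurd (Nat.Coprime.eq_one_of_dvd this.symm h) (by norm_num))
    (fun a ha _ b hb x hx =>
      (mem_normalizer_iff.1 (centralizer_le_normalizer_centralizerPPrimeCore a (hcen b hb a ha)) x).1 hx)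
    (fun a ha _ => by
      haveI : IsMulCommutative (centralizerPPrimeCore 2 a) :=
        ⟨⟨fun d e => Subtype.ext (hab a ha d d.2 e e.2)⟩⟩
      exact isSolvable_of_comm fun d e => Subtype.ext (hab a ha d d.2 e e.2))
    hbal).1
  refine ⟨Nat.not_even_iff_odd.1 fun h => key (even_iff_two_dvd.1 h), ?_⟩
  have hle : ∀ g ∈ normalizer (Y : Set X), ∀ w ∈ (⨆ y : {y : X // y ∈ Y ∧ y ≠ 1},
      centralizerPPrimeCore 2 (y : X)), g * w * g⁻¹ ∈ (⨆ y : {y : X // y ∈ Y ∧ y ≠ 1},
      centralizerPPrimeCore 2 (y : X)) := by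
    intro g hg w hw
    have : (⨆ y : {y : X // y ∈ Y ∧ y ≠ 1}, centralizerPPrimeCore 2 (y : X)).map
        (MulAut.conj g).toMonoidHom ≤ ⨆ y : {y : X // y ∈ Y ∧ y ≠ 1}, centralizerPPrimeCore 2 (y : X) := by
      rw [Subgroup.map_iSup]
      refine iSup_le fun y => ?_
      rw [map_centralizerPPrimeCore_equiv]
      refine le_iSup (fun y : {y : X // y ∈ Y ∧ y ≠ 1} => centralizerPPrimeCore 2 (y : X))
        ⟨MulAut.conj g y, (mem_normalizer_iff.1 hg y).1 y.2.1, ?_⟩
      simpa using y.2.2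
    exact this ⟨w, hw, rfl⟩
  intro g hg
  rw [mem_normalizer_iff]
  intro w
  refine ⟨hle g hg w, fun h => ?_⟩
  have := hle g⁻¹ (inv_mem hg) _ h
  simp only [mul_assoc, inv_inv, inv_mul_cancel_left, inv_mul_cancel, mul_one] at this
  exact this

end Cfsg.Agent.S2924
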