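import Cfsg.Statements.S2931
import Cfsg.Agent.Syl8.Tab

set_option autoImplicit false
open Cfsg

namespace Cfsg.Agent.S2931

open Cfsg.Agent.Syl8 Cfsg.Agent.X32 Cfsg.Agent.Class

/-- The Sylow 2-subgroups of the alternating group of degree 8 and of PSp₄(3) are isomorphic, and so are the Sylow 2-subgroups of the symmetric group of degree 8 and of the full isometry group of a non-degenerate quadratic form of minus type in dimension 6 over the field with 2 elements. -/
theorem result (F : Type) [Field F] [Fintype F] (hF : Fintype.card F = 3) (K : Type) [Field K] [Fintype K] (hK : Fintype.card K = 2) (a b : K) (hab : ∀ z₁ z₂ : K, z₁ ^ 2 + a * z₁ * z₂ + b * z₂ ^ 2 = 0 → z₁ = 0 ∧ z₂ = 0) (P : Sylow 2 ↥(alternatingGroup (Fin 8))) (Q : Sylow 2 (Cfsg.PSp 2 F)) (P' : Sylow 2 (Equiv.Perm (Fin 8))) (Q' : Sylow 2 ↥(Cfsg.isometryGroup K (Cfsg.quadFormMinus 2 K a b))) : Nonempty (↥(P : Subgroup ↥(alternatingGroup (Fin 8))) ≃* ↥(Q : Subgroup (Cfsg.PSp 2 F)))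 ∧ Nonempty (↥(P' : Subgroup (Equiv.Perm (Fin 8))) ≃* ↥(Q' : Subgroup ↥(Cfsg.isometryGroup K (Cfsg.quadFormMinus 2 K a b)))) := by
  have c6 : Nat.card (TG T6) = 2 ^ 6 := TG.card
  have c7 : Nat.card (TG T7) = 2 ^ 7 := TG.card
  refine ⟨?_, ?_⟩
  · obtain ⟨f, hf⟩ := a8
    obtain ⟨g, hg⟩ := k6
    obtain ⟨ψ, hψ⟩ := PS4.setup43
    have e := pspCongr 2 (ringEquivZMod (p := 3) hF).symm
    have c : Nat.card (PSp 2 F) = 2 ^ 6 * 405 := (Nat.card_congr e.toEquiv).symm.trans PS4.card43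
    have : Finite (PSp 2 F) := Nat.finite_of_card_ne_zero (by omega)
    obtain ⟨e₁⟩ := sylow_equiv hf c6 (m := 315)
      (by rw [nat_card_alternatingGroup]; simp [Nat.factorial]) (by decide) P
    obtain ⟨e₂⟩ := sylow_equiv (f := (e.toMonoidHom.comp ψ).comp g)
      ((e.injective.comp hψ.inj).comp hg) c6 c (by decide) Q
    exact ⟨e₁.symm.trans e₂⟩
  · obtain ⟨f, hf⟩ := s8
    obtain ⟨g, hg⟩ := o6
    let r := (ringEquivZMod (p := 2) hK).symm
    have h : ∀ a b : ZMod 2, (r b ≠ 0) → (1 + r a + r b ≠ 0) → a = 1 ∧ b = 1 := fun a b h1 h2 => by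
      have e : (1 + r a + r b) = r (1 + a + b) := by simp
      rw [e] at h2
      have : ∀ a b : ZMod 2, b ≠ 0 → 1 + a + b ≠ 0 → a = 1 ∧ b = 1 := by decide
      exact this a b (fun e => h1 (by simp [e])) fun e => h2 (by simp [e])
    obtain ⟨a, rfl⟩ := r.surjective a
    obtain ⟨b, rfl⟩ := r.surjective b
    obtain ⟨rfl, rfl⟩ := h a b (fun e => by simpa using (hab 0 1 (by simp [e])).2)
      fun e => by simpa using (hab 1 1 (by simpa using e)).2
    have e := isometryGroupCongr r _ _ (quadFormMinus_comp r 2 1 1)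
    have c : Nat.card (isometryGroup K (quadFormMinus 2 K (r 1) (r 1))) = 2 ^ 7 * 405 :=
      (S0288.result hK 3 (by decide) _ _ hab).trans (by decide)
    have : Finite (isometryGroup K (quadFormMinus 2 K (r 1) (r 1))) :=
      Nat.finite_of_card_ne_zero (by omega)
    obtain ⟨e₁⟩ := sylow_equiv hf c7 (m := 315)
      (by rw [Nat.card_perm]; simp [Nat.factorial]) (by decide) P'
    obtain ⟨e₂⟩ := sylow_equiv (f := e.toMonoidHom.comp g) (e.injective.comp hg) c7 c (by decide) Q'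
    exact ⟨e₁.symm.trans e₂⟩

end Cfsg.Agent.S2931
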