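import Cfsg.Statements.S2932
import Mathlib
import Cfsg.Agent.PLocal.NatSyl4

set_option autoImplicit false
open Cfsg

namespace Cfsg.Agent.S2932

open Subgroup PLocal.NatSyl PLocal.Amb

/-- Let p be a prime. Inside a finite ambient group let V be an elementary abelian p-subgroup and G a subgroup normalizing V and acting faithfully on it (G ∩ C(V) = 1), and let L ≤ G act on V as SL₂(F) on its natural module, F a finite field of characteristic p, with L ≅ SL₂(F). If every Sylow p-subgroup of N_G(L) is a Sylow p-subgroup of G, then either L is normal in G, or F has 4 elements and G is isomorphic to the alternating group of degree 7. -/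
theorem result {X : Type*} [Group X] [Finite X] {p : ℕ} [Fact p.Prime] (F : Type) [Field F] [Fintype F] [CharP F p] (V G L : Subgroup X) (hV : Cfsg.IsElementaryAbelian p V) (hGV : G ≤ Subgroup.normalizer (V : Set X)) (hfaith : G ⊓ Subgroup.centralizer (V : Set X) = ⊥) (hLG : L ≤ G) (hnat : Cfsg.IsNaturalSL2Module F V L) (hLiso : Nonempty (↥L ≃* Matrix.SpecialLinearGroup (Fin 2) F)) (hSyl : ∀ S : Sylow p ↥(G ⊓ Subgroup.normalizer (L : Set X)), ∀ P : Sylow p ↥G, Nat.card S = Nat.card P) : (L.subgroupOf G).Normal ∨ (Fintype.card F = 4 ∧ Nonempty (↥G ≃* ↥(alternatingGroup (Fin 7)))) := by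
  obtain ⟨-, ρ, ψ, hρ, -, hact⟩ := hnat
  let φ : G →* MulAut V := V.normalizerMonoidHom.comp (inclusion hGV)
  let : DistribMulAction G (Fin 2 → F) :=
    { smul := fun g m => ψ (Additive.ofMul (φ g (ψ.symm m).toMul))
      one_smul := fun m => by
        change ψ (Additive.ofMul (φ 1 (ψ.symm m).toMul)) = m
        simp
      mul_smul := fun a b m => by
        change ψ (Additive.ofMul (φ (a * b) (ψ.symm m).toMul)) = ψ (Additive.ofMul (φ a
          (ψ.symm (ψ (Additive.ofMul (φ b (ψ.symm m).toMul)))).toMul))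
        simp
      smul_zero := fun g => by
        change ψ (Additive.ofMul (φ g (ψ.symm 0).toMul)) = 0
        simp
      smul_add := fun g m n => by
        change ψ (Additive.ofMul (φ g (ψ.symm (m + n)).toMul)) =
          ψ (Additive.ofMul (φ g (ψ.symm m).toMul)) + ψ (Additive.ofMul (φ g (ψ.symm n).toMul))
        simp }
  have hs : ∀ (g : G) (m : Fin 2 → F), g • m = ψ (Additive.ofMul (φ g (ψ.symm m).toMul)) :=
    fun _ _ => rfl
  have : FaithfulSMul G (Fin 2 → F) := ⟨fun {a b} h => by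
    have e : φ a = φ b := MulEquiv.ext fun v => by
      simpa [hs] using h (ψ (Additive.ofMul v))
    have e1 : (b⁻¹ * a : G).1 ∈ G ⊓ centralizer (V : Set X) :=
      ⟨(b⁻¹ * a).2, fun v hv => by
        have e2 : φ (b⁻¹ * a) ⟨v, hv⟩ = ⟨v, hv⟩ := by
          rw [map_mul, e, ← map_mul, inv_mul_cancel, map_one, MulAut.one_apply]
        exact (mul_inv_eq_iff_eq_mul.1 (congrArg Subtype.val e2)).symm⟩
    rw [hfaith, mem_bot, OneMemClass.coe_eq_one, inv_mul_eq_one] at e1
    exact e1.symm⟩
  have key : ∀ (l : G) (hl : l.1 ∈ L) (m : Fin 2 → F), l • m = (ρ ⟨l.1, hl⟩).1.mulVec m := by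
    intro l hl m
    obtain ⟨w, hw, e⟩ := hact ⟨l.1, hl⟩ (ψ.symm m).toMul
    rw [hs, show φ l (ψ.symm m).toMul = w from Subtype.ext hw.symm, e]
    simp
  have h : Nat2 F (L.subgroupOf G) := ⟨fun l hl => ⟨_, key l hl⟩, fun A => by
    obtain ⟨l, rfl⟩ := hρ A
    exact ⟨⟨l.1, hLG l.2⟩, l.2, key _ l.2⟩⟩
  obtain ⟨S, hS, hTS⟩ := exists_isSyl_ge (T_pgroup (G := G) (F := F) p)
    (h.T_le.trans le_normalizer)
  have hS' : IsSyl p S ⊤ := by
    obtain ⟨P⟩ : Nonempty (Sylow p G) := inferInstance
    refine (isSyl_top P).of_card_ge hS.pgrp le_top (le_of_eq ?_)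
    have h1 := hS.map G.subtype
    rw [← subgroupOf_normalizer_eq hLG, subgroupOf_map_subtype, inf_comm] at h1
    obtain ⟨Q, hQ⟩ := h1.exists_sylow_map
    rw [← card_map_of_injective G.subtype_injective (K := S), ← hQ,
      card_map_of_injective (subtype_injective _)]
    exact (hSyl Q P).symm
  by_cases h4 : Fintype.card F = 4
  · obtain rfl : p = 2 := by
      obtain ⟨n, -, hn⟩ := FiniteField.card F p
      have e : p ∣ 2 ^ 2 := (dvd_pow_self p n.ne_zero).trans (by rw [← hn, h4]; rfl)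
      exact (Nat.prime_dvd_prime_iff_eq Fact.out Nat.prime_two).1
        ((Fact.out : p.Prime).dvd_of_dvd_pow e)
    obtain ⟨e⟩ := hLiso
    exact (h.four h4 hS' hS.le ⟨(subgroupOfEquivOfLe hLG).trans e⟩).imp_right fun h => ⟨h4, h⟩
  · exact Or.inl (h.normal hS' hTS hS.le (by rwa [Nat.card_eq_fintype_card]))

end Cfsg.Agent.S2932
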