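import Cfsg.Statements.S3738
import Mathlib
import Cfsg.Agent.Inv.Rank2Aut

set_option autoImplicit false
open Cfsg

namespace Cfsg.Agent.S3738

/-- Let d be a non-identity 3-element of a finite group and P a 2-subgroup normalized by d on which ⟨d⟩ acts faithfully (no non-identity power of d centralizes P) and without non-identity fixed points (C_P(d) = 1). If every abelian subgroup of P has 2-rank at most 2, then d has order 3. -/
theorem result {X : Type*} [Group X] [Finite X] (d : X) (n : ℕ) (hn : 1 ≤ n) (hd : orderOf d = 3 ^ n) (P : Subgroup X) (hP : IsPGroup 2 P) (hdP : d ∈ Subgroup.normalizer (P : Set X)) (hfaith : Subgroup.zpowers d ⊓ Subgroup.centralizer (P : Set X) = ⊥) (hfpf : P ⊓ Subgroup.centralizer {d} = ⊥) (hrank : ∀ V : Subgroup X, V ≤ P → IsMulCommutative V → Cfsg.PRankLE 2 2 V) : orderOf d = 3 := by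
  let ρ : MulAut P := P.normalizerMonoidHom ⟨d, hdP⟩
  have hρ : ∀ (j : ℕ) (x : P), (((ρ ^ j) x : P) : X) = d ^ j * x * (d ^ j)⁻¹ := fun j x => by
    rw [← map_pow]; rfl
  have hd1 : d ≠ 1 := by
    rintro rfl
    rw [orderOf_one] at hd
    exact (Nat.one_lt_pow (by omega) (by norm_num)).ne hd
  have : Nontrivial P := by
    rw [Subgroup.nontrivial_iff_ne_bot]
    rintro rfl
    refine hd1 (Subgroup.mem_bot.1 (hfaith ▸ ⟨Subgroup.mem_zpowers d, fun x hx => ?_⟩))
    rw [Subgroup.mem_bot.1 hx, one_mul, mul_one]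
  have h2 : Cfsg.PRankLE 2 2 P := by
    by_contra h
    obtain ⟨E, hEP, hE, hc⟩ := Misc.not_pRankLE_iff.1 h
    exact Misc.not_pRankLE_iff.2 ⟨E, le_rfl, hE, hc⟩ (hrank E hEP hE.1)
  obtain ⟨z, hz⟩ := Inv.exists_R3 hP h2 ρ fun x _ e => Subtype.ext (Subgroup.mem_bot.1
    (hfpf ▸ ⟨x.2, Subgroup.mem_centralizer_singleton_iff.2 (by
      have := hρ 1 x
      rw [pow_one, pow_one, e, eq_mul_inv_iff_mul_eq] at this
      exact this)⟩))
  have h3 := hz.pow_three_eq_one (k := n) (by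
    ext x; rw [hρ, ← hd, pow_orderOf_eq_one]; simp)
  refine orderOf_eq_prime (Subgroup.mem_bot.1 (hfaith ▸ ⟨Subgroup.npow_mem_zpowers d 3,
    fun x hx => ?_⟩)) hd1
  have := hρ 3 ⟨x, hx⟩
  rw [h3, eq_mul_inv_iff_mul_eq] at this
  exact this

end Cfsg.Agent.S3738
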