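import Cfsg.Statements.S3739
import Mathlib
import Cfsg.Agent.S3738
import Cfsg.Agent.Misc.Four
import Cfsg.Agent.Grp.Cores
import Cfsg.Agent.Solv.Coprime3

set_option autoImplicit false
open Cfsg

namespace Cfsg.Agent.S3739

open Subgroup
open scoped Pointwise

theorem four_fix {G : Type*} [Group G] [Finite G] {W : Subgroup G} (hW : IsKleinFour W) {y w : G}
    (hy : ∀ v ∈ W, y * v * y⁻¹ ∈ W) (hw : w ∈ W) (h1 : w ≠ 1) (hc : y * w = w * y) {v : G}
    (hv : v ∈ W) : y * y * v = v * (y * y) := by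
  obtain ⟨b, hb, hb1, hne, e⟩ := Misc.exists_eq_closure_pair_of_isKleinFour hW hw h1
  have hs := (Misc.isKleinFour_iff.1 hW).2
  have hw2 : w * w = 1 := by rw [← sq]; exact hs w hw
  have hb2 : b * b = 1 := by rw [← sq]; exact hs b hb
  have hwb := Misc.comm_of_sq hs w hw b hb
  have hm : ∀ {x}, x ∈ W → x = 1 ∨ x = w ∨ x = b ∨ x = w * b := fun hx =>
    (Misc.mem_closure_pair_iff hw2 hb2 hwb).1 (e ▸ hx)
  have hcw : y * w * y⁻¹ = w := by rw [hc, mul_inv_cancel_right]
  have key : y * (y * b * y⁻¹) * y⁻¹ = b := by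
    rcases hm (hy b hb) with h | h | h | h
    · exact absurd (by simpa using h) hb1
    · refine absurd ?_ hne
      have : y * b * y⁻¹ = y * w * y⁻¹ := h.trans hcw.symm
      simpa using this.symm
    · rw [h, h]
    · rw [h, show y * (w * b) * y⁻¹ = y * w * y⁻¹ * (y * b * y⁻¹) by group, h, hcw, ← mul_assoc,
        hw2, one_mul]
  have k1 : y * y * w = w * (y * y) := by rw [mul_assoc, hc, ← mul_assoc, hc, mul_assoc]
  have k2 : y * y * b = b * (y * y) := by
    conv_rhs => rw [← key]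
    group
  rcases hm hv with rfl | rfl | rfl | rfl
  · simp
  · exact k1
  · exact k2
  · rw [← mul_assoc, k1, mul_assoc, k2, mul_assoc]

theorem exists_inv {G : Type*} [Group G] {p : ℕ} {x : G} (hx : x ≠ 1) (h : ∃ k, x ^ p ^ k = 1) :
    ∃ k : ℕ, x ^ k ≠ 1 ∧ (x ^ k) ^ p = 1 := by
  classical
  have h0 : Nat.find h ≠ 0 := fun e => hx (by simpa [e] using Nat.find_spec h)
  obtain ⟨k, hk⟩ := Nat.exists_eq_succ_of_ne_zero h0
  refine ⟨p ^ k, Nat.find_min h (by omega), ?_⟩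
  rw [← pow_mul, ← pow_succ, ← Nat.succ_eq_add_one, ← hk]
  exact Nat.find_spec h

/-- Let G be a finite group with C_G(O₂(G)) ≤ O₂(G) containing an element of order 6, and let d be a non-identity 3-element of G normalizing a nontrivial elementary abelian 2-subgroup W with C_W(d) = 1. Then G has an elementary abelian subgroup of order 8. -/
theorem result {G : Type*} [Group G] [Finite G] (hchar : Subgroup.centralizer (Cfsg.pCore 2 G : Set G) ≤ Cfsg.pCore 2 G) (hsix : ∃ g : G, orderOf g = 6) (d : G) (hd1 : d ≠ 1) (hd : IsPGroup 3 ↥(Subgroup.zpowers d)) (W : Subgroup G) (hW : Cfsg.IsElementaryAbelian 2 W) (hW1 : W ≠ ⊥) (hdW : d ∈ Subgroup.normalizer (W : Set G)) (hfpf : W ⊓ Subgroup.centralizer {d} = ⊥) : ∃ E : Subgroup G, Cfsg.IsElementaryAbelian 2 E ∧ Nat.card E = 8 := by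
  have : Fact (Nat.Prime 3) := ⟨Nat.prime_three⟩
  by_contra hno
  have h2 : Cfsg.PRankLE 2 2 G := by
    by_contra h
    exact hno (Misc.not_pRankLE_top_iff.1 h)
  set Q := Cfsg.pCore 2 G with hQ
  have hQ2 : IsPGroup 2 Q := Grp.pCore_isPGroup 2 G
  have hQn : Q.Normal := inferInstance
  have hW2 := Misc.isPGroup_of_isElementaryAbelian hW
  have hWc := Misc.comm_of_sq hW.2
  have hdc : ∀ v ∈ W, d * v * d⁻¹ ∈ W := fun v hv => (mem_normalizer_iff.1 hdW v).1 hv
  have hfp : ∀ v ∈ W, d * v = v * d → v = 1 := fun v hv e =>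
    mem_bot.1 (hfpf ▸ ⟨hv, mem_centralizer_singleton_iff.2 e.symm⟩)
  have h3Q : ∀ {y : G}, (∃ k, y ^ 3 ^ k = 1) → y ∈ Q → y = 1 := fun {y} ⟨k, hk⟩ hy => by
    obtain ⟨j, hj⟩ := hQ2 ⟨y, hy⟩
    have hj' : y ^ 2 ^ j = 1 := congrArg Subtype.val hj
    have := pow_gcd_eq_one.2 ⟨hk, hj'⟩
    rwa [Nat.Coprime.gcd_eq_one (Nat.Coprime.pow _ _ (by norm_num)), pow_one] at this
  have hd3 : ∃ k, d ^ 3 ^ k = 1 := by
    obtain ⟨k, hk⟩ := hd ⟨d, mem_zpowers d⟩
    exact ⟨k, congrArg Subtype.val hk⟩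
  -- `W` is a four-group
  have hfour : ∀ w ∈ W, w ≠ 1 → W = closure {w, d * w * d⁻¹} ∧ Nat.card W = 4 := fun w hw hw1 => by
    have hc := Misc.card_closure_pair (a := w) (b := d * w * d⁻¹) (by rw [← sq]; exact hW.2 w hw)
      (by rw [← sq]; exact hW.2 _ (hdc w hw)) (hWc _ hw _ (hdc w hw)) hw1 (by simpa using hw1)
      (fun e => hw1 (hfp w hw (by rw [eq_mul_inv_iff_mul_eq] at e; exact e.symm)))
    have hle : closure {w, d * w * d⁻¹} ≤ W := by
      rw [closure_le]; rintro _ (rfl | rfl); exacts [hw, hdc _ hw]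
    have := eq_of_le_of_card_ge hle (by rw [hc]; exact h2 W hW.1 hW.2)
    exact ⟨this.symm, by rw [← this, hc]⟩
  obtain ⟨⟨w₀, hw₀⟩, hw₀1⟩ := ne_bot_iff_exists_ne_one.1 hW1
  have hW4 : Nat.card W = 4 := (hfour w₀ hw₀ fun e => hw₀1 (Subtype.ext e)).2
  have hK : IsKleinFour W := Misc.isKleinFour_iff.2 ⟨hW4, hW.2⟩
  have inW : ∀ t : G, t * t = 1 → (∀ v ∈ W, t * v = v * t) → t ∈ W := fun t ht hc => by
    by_contra htW
    have e := Misc.card_sup_zpowers_two ht htW (Misc.mem_normalizer_of_comm hc)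
    have hs := Misc.sq_eq_one_sup_zpowers hW.2 ht hc
    have := h2 _ (Misc.isElementaryAbelian_two_iff.2 hs).1 hs
    omega
  have hQ1 : Q ≠ ⊥ := fun e => hd1 (h3Q hd3 (hchar fun x hx => by
    rw [e] at hx; rw [mem_bot.1 hx, one_mul, mul_one]))
  have hWQ : ∀ v ∈ W, v ∈ Q ∧ ∀ u ∈ Q, u * v = v * u := by
    obtain ⟨z, hz, hz1, hzc⟩ := Misc.exists_mem_centralizer_of_isPGroup (P := Q ⊔ W) (N := Q)
      (hQ2.to_sup_of_normal_left hW2) hQ2 (by rw [normalizer_eq_top]; exact le_top) hQ1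
    obtain ⟨k, hk1, hk⟩ := exists_inv (p := 2) hz1 (by
      obtain ⟨k, hk⟩ := hQ2 ⟨z, hz⟩; exact ⟨k, congrArg Subtype.val hk⟩)
    have hc : ∀ g ∈ Q ⊔ W, g * z ^ k = z ^ k * g := fun g hg => ((Commute.pow_right (hzc g hg) k)).eq
    have hzW := inW _ (by rw [← sq]; exact hk) fun v hv => (hc v (mem_sup_right hv)).symm
    have : W ≤ Q ⊓ centralizer (Q : Set G) := by
      rw [(hfour _ hzW hk1).1, closure_le]
      have hm : z ^ k ∈ Q ⊓ centralizer (Q : Set G) :=
        ⟨pow_mem hz k, fun u hu => hc u (mem_sup_left hu)⟩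
      rintro _ (rfl | rfl)
      · exact hm
      · exact Normal.conj_mem inferInstance _ hm d
    exact fun v hv => ⟨(this hv).1, (this hv).2⟩
  have hQW : ∀ t ∈ Q, t * t = 1 → t ∈ W := fun t ht h => inW t h fun v hv => (hWQ v hv).2 t ht
  have hWn : W.Normal := ⟨fun v hv g => hQW _ (hQn.conj_mem _ (hWQ v hv).1 g) (by
    rw [conj_mul, ← sq, hW.2 v hv]; simp)⟩
  set C := centralizer (W : Set G) with hC
  have hCn : C.Normal := inferInstance
  have hmC : ∀ {y}, y ∈ C ↔ ∀ v ∈ W, v * y = y * v := mem_centralizer_iff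
  -- 3-elements outside `C` are fixed-point-free
  have hfW : ∀ {y : G}, (∃ k, y ^ 3 ^ k = 1) → y ∉ C → ∀ v ∈ W, y * v = v * y → v = 1 := by
    rintro y ⟨k, hk⟩ hy v hv e
    by_contra h1
    have h4 : y * y ∈ C := hmC.2 fun u hu =>
      (four_fix hK (fun v hv => hWn.conj_mem v hv y) hv h1 e hu).symm
    obtain ⟨j, hj⟩ : Odd (3 ^ k) := Odd.pow (by decide)
    rw [hj, pow_succ, pow_mul, sq] at hk
    exact hy ((mul_mem_cancel_left (pow_mem h4 j)).1 (hk ▸ C.one_mem))
  have hfQ : ∀ {y : G}, (∃ k, y ^ 3 ^ k = 1) → y ∉ C → Q ⊓ centralizer {y} = ⊥ := by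
    intro y h3 hy
    rw [eq_bot_iff]
    rintro u ⟨hu, hc⟩
    by_contra h1
    obtain ⟨k, hk1, hk⟩ := exists_inv (p := 2) h1 (by
      obtain ⟨k, hk⟩ := hQ2 ⟨u, hu⟩; exact ⟨k, congrArg Subtype.val hk⟩)
    exact hk1 (hfW h3 hy _ (hQW _ (pow_mem hu k) (by rw [← sq]; exact hk))
      (Commute.pow_left (mem_centralizer_singleton_iff.1 hc) k).symm.eq)
  have hdC : d ∉ C := fun h => hw₀1 (Subtype.ext (hfp w₀ hw₀ (hmC.1 h w₀ hw₀).symm))
  have hdo : orderOf d = 3 := by
    obtain ⟨k, hk⟩ := hd3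
    obtain ⟨n, -, hn⟩ := (Nat.dvd_prime_pow Nat.prime_three).1 (orderOf_dvd_of_pow_eq_one hk)
    refine S3738.result d n ?_ hn Q hQ2 (by rw [normalizer_eq_top]; trivial) ?_ (hfQ ⟨k, hk⟩ hdC)
      fun V _ _ E hE hE' => ?_
    · by_contra h
      obtain rfl : n = 0 := by omega
      exact hd1 (orderOf_eq_one_iff.1 hn)
    · rw [eq_bot_iff]
      rintro _ ⟨⟨i, rfl⟩, hi⟩
      exact h3Q ⟨k, by simp only; rw [← zpow_natCast, zpow_comm, zpow_natCast, hk, one_zpow]⟩ (hchar hi)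
    · have := h2 (E.map V.subtype) inferInstance (by
        rintro _ ⟨a, ha, rfl⟩; rw [← map_pow, hE' a ha, map_one])
      rwa [card_map_of_injective V.subtype_injective] at this
  obtain ⟨g, hg⟩ := hsix
  have hg6 : g ^ 6 = 1 := hg ▸ pow_orderOf_eq_one g
  have hx1 : g ^ 2 ≠ 1 := pow_ne_one_of_lt_orderOf (by norm_num) (by omega)
  have ht1 : g ^ 3 ≠ 1 := pow_ne_one_of_lt_orderOf (by norm_num) (by omega)
  have hx3 : ∃ k, (g ^ 2) ^ 3 ^ k = 1 := ⟨1, by rw [← pow_mul]; exact hg6⟩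
  have ht2 : g ^ 3 * g ^ 3 = 1 := by rw [← pow_add]; exact hg6
  have hxt : Commute (g ^ 2) (g ^ 3) := Commute.pow_pow_self g 2 3
  by_cases hxC : g ^ 2 ∈ C
  · obtain ⟨P, hP⟩ := (IsPGroup.of_card (p := 3) (n := 1) (G := zpowers (g ^ 2)) (by
      rw [Nat.card_zpowers, orderOf_eq_prime (p := 3) (by rw [← pow_mul]; exact hg6) hx1]; rfl)).exists_le_sylow
    obtain ⟨P', hP'⟩ := hd.exists_le_sylow
    obtain ⟨c, rfl⟩ := MulAction.exists_smul_eq G P' P
    set e := c * d * c⁻¹ with he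
    have heP : e ∈ (c • P' : Sylow 3 G).1 := by
      change e ∈ MulAut.conj c • (P' : Subgroup G)
      exact smul_mem_pointwise_smul d _ _ (hP' (mem_zpowers d))
    generalize c • P' = P at hP heP
    have heC : e ∉ C := fun h => hdC (by simpa [he, mul_assoc] using hCn.conj_mem _ h c⁻¹)
    have he3 : e ^ 3 = 1 := by rw [he, conj_pow, ← hdo, pow_orderOf_eq_one]; simp
    obtain ⟨z, hz, hz1, hzc⟩ := Misc.exists_mem_centralizer_of_isPGroup (p := 3)
      (P := P.1) (N := C ⊓ P.1) P.isPGroup' P.isPGroup'.to_inf_right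
      (Solv.le_normalizer_inf (by rw [normalizer_eq_top]; exact le_top) le_normalizer)
      (ne_bot_iff_exists_ne_one.2 ⟨⟨g ^ 2, hxC, hP (mem_zpowers _)⟩, fun e => hx1 (congrArg Subtype.val e)⟩)
    obtain ⟨k, hk1, hk⟩ := exists_inv (p := 3) hz1 (by
      obtain ⟨k, hk⟩ := P.isPGroup' ⟨z, hz.2⟩; exact ⟨k, congrArg Subtype.val hk⟩)
    have hxe : Commute e (z ^ k) := Commute.pow_right (hzc e heP) k
    have hxC' : z ^ k ∈ C := pow_mem hz.1 k
    generalize z ^ k = x at hk1 hk hxe hxC'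
    have hA : ∀ a ∈ closure {e, x}, ∃ i j : ℕ, a = e ^ i * x ^ j := fun a ha => by
      induction ha using closure_induction with
      | mem a ha =>
        rcases ha with rfl | rfl
        · exact ⟨1, 0, by simp⟩
        · exact ⟨0, 1, by simp⟩
      | one => exact ⟨0, 0, by simp⟩
      | mul a b _ _ ha hb =>
        obtain ⟨i, j, rfl⟩ := ha
        obtain ⟨i', j', rfl⟩ := hb
        exact ⟨i + i', j + j', by
          rw [pow_add, pow_add, (hxe.pow_pow i' j).symm.mul_mul_mul_comm]⟩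
      | inv a _ ha =>
        obtain ⟨i, j, rfl⟩ := ha
        refine ⟨2 * i, 2 * j, inv_eq_of_mul_eq_one_right ?_⟩
        rw [(hxe.pow_pow (2 * i) j).symm.mul_mul_mul_comm, ← pow_add, ← pow_add,
          show i + 2 * i = 3 * i by ring, show j + 2 * j = 3 * j by ring, pow_mul, pow_mul, he3, hk]
        simp
    have hA3 : ∀ a ∈ closure {e, x}, a ^ 3 = 1 := fun a ha => by
      obtain ⟨i, j, rfl⟩ := hA a ha
      rw [(hxe.pow_pow i j).mul_pow, ← pow_mul, ← pow_mul, mul_comm i, mul_comm j, pow_mul, pow_mul,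
        he3, hk]
      simp
    have hgen : ∀ {a b : G}, a ^ 3 = 1 → b ≠ 1 → b ∈ zpowers a → a ∈ zpowers b := fun {a b} ha hb h => by
      have ha1 : a ≠ 1 := by rintro rfl; exact hb (by simpa using h)
      have hb3 : b ^ 3 = 1 := by
        obtain ⟨i, rfl⟩ := h
        simp only
        rw [← zpow_natCast, zpow_comm, zpow_natCast, ha, one_zpow]
      rw [eq_of_le_of_card_ge (zpowers_le.2 h) (by
        rw [Nat.card_zpowers, Nat.card_zpowers, orderOf_eq_prime ha ha1, orderOf_eq_prime hb3 hb])]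
      exact mem_zpowers a
    have : IsMulCommutative (closure {e, x} : Subgroup G) := Misc.isMulCommutative_iff'.2 fun a ha b hb => by
      obtain ⟨i, j, rfl⟩ := hA a ha
      obtain ⟨i', j', rfl⟩ := hA b hb
      exact (((Commute.pow_pow_self e i i').mul_right (hxe.pow_pow i j')).mul_left
        ((hxe.pow_pow i' j).symm.mul_right (Commute.pow_pow_self x j j'))).eq
    have hle := Solv.le_of_centralizers_le (closure {e, x}) Q (fun hc => by
        obtain ⟨⟨a, ha⟩, ha'⟩ := hc.exists_generator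
        have hm : ∀ b ∈ closure {e, x}, b ∈ zpowers a := fun b hb => by
          obtain ⟨i, hi⟩ := ha' ⟨b, hb⟩
          exact ⟨i, congrArg Subtype.val hi⟩
        have := hgen (hA3 a ha) hk1 (hm x (subset_closure (by simp)))
        exact heC (zpowers_le.2 hxC' (zpowers_le.2 this (hm e (subset_closure (by simp))))))
      (by rw [normalizer_eq_top]; exact le_top)
      (IsPGroup.coprime_card_of_ne 3 2 (by norm_num) _ _
        (fun a => ⟨1, Subtype.ext (hA3 a a.2)⟩) hQ2) (centralizer {x}) (fun a ha ha1 => by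
        by_cases haC : a ∈ C
        · obtain ⟨i, j, rfl⟩ := hA a ha
          have hi : e ^ i = 1 := by
            by_contra h
            exact heC (zpowers_le.2 ((mul_mem_cancel_right (pow_mem hxC' j)).1 haC)
              (hgen he3 h (npow_mem_zpowers e i)))
          rw [hi, one_mul] at ha1 ⊢
          obtain ⟨m, hm⟩ := hgen hk ha1 (npow_mem_zpowers x j)
          rintro u ⟨-, hu⟩
          rw [mem_centralizer_singleton_iff, ← hm]
          exact (Commute.zpow_right (mem_centralizer_singleton_iff.1 hu) m).eq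
        · rw [hfQ ⟨1, hA3 a ha⟩ haC]; exact bot_le)
    exact hk1 (h3Q ⟨1, hk⟩ (hchar fun u hu => mem_centralizer_singleton_iff.1 (hle hu)))
  · obtain ⟨w, hw, hw1, hwc⟩ := Misc.exists_mem_centralizer_of_isPGroup (p := 2)
      (P := zpowers (g ^ 3)) (N := W) (IsPGroup.of_card (n := 1) (by
        rw [Nat.card_zpowers, orderOf_eq_prime (p := 2) (by rw [sq]; exact ht2) ht1]; rfl)) hW2
      (by rw [normalizer_eq_top]; exact le_top) hW1
    have hc := hwc _ (mem_zpowers _)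
    have hw' := hWn.conj_mem w hw (g ^ 2)
    have hne : w ≠ g ^ 2 * w * (g ^ 2)⁻¹ := fun e =>
      hw1 (hfW hx3 hxC w hw (by rw [eq_mul_inv_iff_mul_eq] at e; exact e.symm))
    have hcl : closure {w, g ^ 2 * w * (g ^ 2)⁻¹} = W := by
      refine eq_of_le_of_card_ge ?_ (by
        rw [hW4, Misc.card_closure_pair (by rw [← sq]; exact hW.2 w hw) (by rw [← sq]; exact hW.2 _ hw')
          (hWc _ hw _ hw') hw1 (by simpa using hw1) hne])
      rw [closure_le]; rintro _ (rfl | rfl); exacts [hw, hw']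
    have hle : W ≤ centralizer {g ^ 3} := by
      rw [← hcl, closure_le]
      rintro _ (rfl | rfl)
      · exact mem_centralizer_singleton_iff.2 hc.symm
      · exact mem_centralizer_singleton_iff.2
          ((hxt.mul_left (show Commute w (g ^ 3) from hc.symm)).mul_left hxt.inv_left).eq
    have := inW _ ht2 fun v hv => (mem_centralizer_singleton_iff.1 (hle hv)).symm
    exact ht1 (hfW hx3 hxC _ this hxt.eq)

end Cfsg.Agent.S3739
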