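import Cfsg.Statements.S2933
import Mathlib
import Cfsg.Agent.TwoG.Delta
import Cfsg.Agent.Inv.Rank2Aut
import Cfsg.Agent.S3739

set_option autoImplicit false
open Cfsg

namespace Cfsg.Agent.S2933

open Subgroup TwoG Suz.Hig
open scoped commutatorElement

theorem abelian {G F : Type*} [Group G] [Finite G] [Field F] {α ρ : MulAut G} {C : Subgroup G}
    {ψ : G → F} {l : F} (H : Hyp α ρ C ψ l) (hC : ∀ c ∈ C, c * c = 1) (hc : ∀ x y : G, x * y = y * x)
    {e : G} (he : e * e = 1) (heC : e ∉ C) :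
    Nat.card G = Nat.card F * Nat.card F ∧ ∀ x : G, x * x = 1 := by
  obtain ⟨N, h, hN⟩ := H.exists_top
  obtain ⟨χ, hχ⟩ := H.exists_coord h
  rw [hN] at hχ
  have heN : e ∉ N := fun h' => heC (H.mem_C h h' he)
  have hN0 : N ≠ ⊥ := by
    rintro rfl
    exact heC ((H.up_bot.symm.trans hN).ge trivial)
  have hδ : e⁻¹ * α e ∈ N := hN.ge (mem_top e)
  have hNC : N = C := H.eq_C h hN0 fun k hk => mem_bot.1 (sq_le_iff.1 (le_of_eq (by
    by_contra h2
    refine heN ((H.up_sq h hN0).le (H.le_of_ne_bot (H.good_sq h) h2 (H.mem_C h hδ ?_)))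
    rw [Commute.mul_mul_mul_comm (hc _ _), ← map_mul, ← mul_inv_rev, he]
    simp)) k hk)
  subst hNC
  let Ω : Subgroup G :=
    { carrier := {x | x * x = 1}
      one_mem' := one_mul 1
      mul_mem' := fun {a b} ha hb => by
        change a * b * (a * b) = 1
        rw [Commute.mul_mul_mul_comm (hc _ _), ha, hb, one_mul]
      inv_mem' := fun {a} ha => by
        change a⁻¹ * a⁻¹ = 1
        rw [← mul_inv_rev, ha, inv_one] }
  rcases hχ.irred (B := Ω) (fun x hx => by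
    change ρ x * ρ x = 1
    rw [← map_mul, hx, map_one]) hC le_top with e | e
  · exact absurd (e.le he) heC
  · exact ⟨by rw [← card_top, hχ.card, H.coord.card, card_bot, mul_one], fun x => e.ge trivial⟩

/-- Let T be a 2-subgroup of a finite group G, V ≤ Z(T) a four-group, and t, ρ ∈ N_G(V) ∩ N_G(T) elements of order 2 and 3 with t commuting with ρ and with V. If [V, ρ] = V and C_T(t) = V, then T is elementary abelian of order 16, or homocyclic of rank 2 (ℤ/2ⁿ × ℤ/2ⁿ for some n ≥ 1), or isomorphic to a Sylow 2-subgroup of PSL₃(4) or of PSU₃(4). -/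
theorem result {G : Type*} [Group G] [Finite G] (T V : Subgroup G) (hT : IsPGroup 2 ↥T) (hVT : V ≤ T ⊓ Subgroup.centralizer (T : Set G)) (hV : Nat.card ↥V = 4 ∧ ∀ v ∈ V, v ^ 2 = 1) (t ρ : G) (ht : orderOf t = 2) (hρ : orderOf ρ = 3) (htn : t ∈ Subgroup.normalizer (V : Set G) ⊓ Subgroup.normalizer (T : Set G)) (hρn : ρ ∈ Subgroup.normalizer (V : Set G) ⊓ Subgroup.normalizer (T : Set G)) (htρ : t * ρ = ρ * t) (htV : t ∈ Subgroup.centralizer (V : Set G)) (hVρ : ⁅V, Subgroup.zpowers ρ⁆ = V) (hCt : T ⊓ Subgroup.centralizer ({t} : Set G) = V) : (Nat.card ↥T = 16 ∧ ∀ x ∈ T, x ^ 2 = 1) ∨ (∃ n : ℕ, 1 ≤ n ∧ Nonempty (↥T ≃* Multiplicative (ZMod (2 ^ n)) × Multiplicative (ZMod (2 ^ n)))) ∨ (∃ (F : Type) (_ : Field F) (_ : Fintype F), Fintype.card F = 4 ∧ ∀ P : Sylow 2 (Matrix.ProjectiveSpecialLinearGroup (Fin 3) F), Nonempty (↥T ≃* ↥(P : Subgroup (Matrix.ProjectiveSpecialLinearGroup (Fin 3) F)))) ∨ (∃ (F : Type) (_ : Field F) (_ : Fintype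 F), Fintype.card F = 16 ∧ ∀ P : Sylow 2 (Cfsg.PSU 3 F 4), Nonempty (↥T ≃* ↥(P : Subgroup (Cfsg.PSU 3 F 4)))) := by
  obtain ⟨hV4, hV2⟩ := hV
  have hK : IsKleinFour V := Misc.isKleinFour_iff.2 ⟨hV4, hV2⟩
  let α : MulAut T := T.normalizerMonoidHom ⟨t, htn.2⟩
  let r : MulAut T := T.normalizerMonoidHom ⟨ρ, hρn.2⟩
  have hα : ∀ x : T, (α x : G) = t * x * t⁻¹ := fun _ => rfl
  have hr : ∀ x : T, (r x : G) = ρ * x * ρ⁻¹ := fun _ => rfl
  have ht2 : t * t = 1 := by rw [← pow_two, ← ht, pow_orderOf_eq_one]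
  have hρ3 : ρ ^ 3 = 1 := by rw [← hρ, pow_orderOf_eq_one]
  have hr3 : r ^ 3 = 1 := by
    rw [← map_pow, show (⟨ρ, hρn.2⟩ : normalizer (T : Set G)) ^ 3 = 1 from Subtype.ext hρ3, map_one]
  have hr3' : ∀ x, r (r (r x)) = x := fun x => DFunLike.congr_fun hr3 x
  have hρV : ∀ v ∈ V, ρ * v * ρ⁻¹ ∈ V := fun v hv => (mem_normalizer_iff.1 hρn.1 v).1 hv
  set C := V.subgroupOf T with hC
  have hI : ∀ x ∈ C, r x ∈ C := fun x hx => hρV _ hx
  have h2 : ∀ x ∈ C, x * x = 1 := fun x hx => Subtype.ext ((pow_two _).symm.trans (hV2 _ hx))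
  have hfp : ∀ x ∈ C, r x = x → x = 1 := fun x hx e => by
    by_contra h1
    have h3 : ∀ v ∈ V, ρ * v = v * ρ := fun v hv => by
      have := S3739.four_fix hK hρV hx (fun e => h1 (Subtype.ext e))
        (mul_inv_eq_iff_eq_mul.1 ((hr x).symm.trans (congrArg Subtype.val e))) hv
      have e2 : ρ = ρ * ρ * (ρ * ρ) := by
        rw [show ρ * ρ * (ρ * ρ) = ρ ^ 3 * ρ by simp [pow_succ, mul_assoc], hρ3, one_mul]
      exact e2 ▸ (Commute.mul_left this this).eq
    have h4 : ⁅V, zpowers ρ⁆ = ⊥ := commutator_eq_bot_iff_le_centralizer.2 fun v hv => by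
      rintro _ ⟨i, rfl⟩
      exact (Commute.zpow_left (h3 v hv) i).eq
    rw [hVρ] at h4
    rw [h4, card_bot] at hV4
    omega
  have hcC : Nat.card C = 4 := by
    rw [← hV4]; exact Nat.card_congr (subgroupOfEquivOfLe (hVT.trans inf_le_left)).toEquiv
  have hcomm := Misc.comm_of_sq (A := C) fun a ha => by rw [pow_two]; exact h2 a ha
  have hcases : ∀ x ∈ C, x ≠ 1 → r (r x) = x * r x ∧ ∀ y ∈ C, y = 1 ∨ y = x ∨ y = r x ∨ y = x * r x := by
    intro x hx h1
    have hne : x ≠ r x := fun e => h1 (hfp x hx e.symm)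
    have hcl : closure {x, r x} = C := by
      refine eq_of_le_of_card_ge ?_ (by
        rw [hcC, Misc.card_closure_pair (h2 x hx) (h2 _ (hI x hx)) (hcomm _ hx _ (hI x hx)) h1
          (by simpa using h1) hne])
      rw [closure_le]; rintro _ (rfl | rfl); exacts [hx, hI _ hx]
    have hm : ∀ y ∈ C, y = 1 ∨ y = x ∨ y = r x ∨ y = x * r x := fun y hy =>
      (Misc.mem_closure_pair_iff (h2 x hx) (h2 _ (hI x hx)) (hcomm _ hx _ (hI x hx))).1 (hcl ▸ hy)
    refine ⟨?_, hm⟩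
    rcases hm _ (hI _ (hI x hx)) with e | e | e | e
    · exact absurd (by simpa using e) h1
    · exact absurd ((hr3' x).symm.trans (congrArg r e)) hne
    · exact absurd (r.injective e).symm hne
    · exact e
  let F := GaloisField 2 2
  let _ : Fintype F := Fintype.ofFinite _
  have hF : Fintype.card F = 4 := by
    rw [← Nat.card_eq_fintype_card, GaloisField.card 2 2 (by omega)]; rfl
  have hpow : r ^ (Fintype.card F - 1) = 1 := by rw [hF]; exact hr3
  obtain ⟨ψ, l, H⟩ := exists_hyp (F := F) (α := α) (ρ := r) (C := C) hT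
    (fun x => Subtype.ext (by
      rw [hα, hα, show t * (t * x * t⁻¹) * t⁻¹ = t * t * x * (t * t)⁻¹ by group, ht2]; simp))
    (fun x => Subtype.ext (by
      rw [hα, hr, hr, hα, show t * (ρ * x * ρ⁻¹) * t⁻¹ = t * ρ * x * (t * ρ)⁻¹ by group, htρ]; group))
    (fun x => by
      rw [hC, mem_subgroupOf, ← hCt, Subtype.ext_iff, hα, mem_inf, mem_centralizer_singleton_iff,
        mul_inv_eq_iff_eq_mul, eq_comm]
      exact and_iff_right x.2) h2 (hcC.trans hF.symm) hpow fun x hx y hy h1 hy1 => by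
      obtain ⟨e, hm⟩ := hcases x hx h1
      rcases hm y hy with rfl | rfl | rfl | rfl
      · exact absurd rfl hy1
      · exact ⟨0, rfl⟩
      · exact ⟨1, rfl⟩
      · exact ⟨2, e⟩
  by_cases hc : ∀ x y : T, x * y = y * x
  · by_cases he : ∀ e : T, e * e = 1 → e ∈ C
    · obtain ⟨z, hz, hz1⟩ := Misc.exists_ne_one_of_isKleinFour
        (Misc.isKleinFour_iff.2 ⟨hcC, fun x hx => by rw [pow_two]; exact h2 x hx⟩)
      obtain ⟨n, hn, ⟨e⟩⟩ := Inv.R3.homocyclic ⟨hT, fun x _ => hc x, hz1, h2 z hz,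
        fun e => hz1 (hfp z hz e), (hcases z hz hz1).1, fun x hx => (hcases z hz hz1).2 x (he x hx)⟩ hc
      exact Or.inr (Or.inl ⟨n, hn, ⟨e.trans (MulEquiv.prodMultiplicative _ _)⟩⟩)
    · push Not at he
      obtain ⟨e, he, heC⟩ := he
      obtain ⟨h3, h4⟩ := abelian H h2 hc he heC
      exact Or.inl ⟨by rw [h3, Nat.card_eq_fintype_card, hF], fun x hx => by
        rw [pow_two]; exact congrArg Subtype.val (h4 ⟨x, hx⟩)⟩
  · rcases H.main (by rw [hF]; norm_num) hpow (by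
      by_contra h
      push Not at h
      exact hc fun x y => commutatorElement_eq_one_iff_mul_comm.1 (h x y)) with ⟨E, _, _, hE, h⟩ | h
    · rw [hF] at hE h
      exact Or.inr (Or.inr (Or.inr ⟨E, _, _, hE, h⟩))
    · exact Or.inr (Or.inr (Or.inl ⟨F, _, _, hF, h⟩))

end Cfsg.Agent.S2933
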