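import Cfsg.Statements.S2934
import Cfsg.Agent.XG.Basic
import Cfsg.Agent.S0119
import Cfsg.Agent.Grp.ExtraspecialIso

set_option autoImplicit false
open Cfsg

namespace Cfsg.Agent.S2934

open Subgroup Cfsg.Agent.Solv Cfsg.Agent.Solv.Ext Cfsg.Agent.XG Cfsg.Agent.Grp.ES
open scoped commutatorElement

structure Hyp (A W : Type*) [Group A] [Group W] [MulDistribMulAction A W] (p : ℕ) : Prop where
  two : IsPGroup 2 W
  prime : p.Prime
  ne : p ≠ 2
  pgrp : IsPGroup p A
  comm : ∀ a b : A, a * b = b * a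
  nc : ¬ IsCyclic A
  faith : ∀ a : A, (⊤ : Subgroup W) ≤ Fx W a → a = 1
  fix : ∀ a : A, a ≠ 1 → ∀ x ∈ Fx W a, ∀ y ∈ Fx W a, orderOf x = 2 → orderOf y = 2 → x = y

namespace Hyp

variable {A W : Type*} [Group A] [Group W] [MulDistribMulAction A W] [Finite A] [Finite W] {p : ℕ}
  (h : Hyp A W p)
include h

theorem odd_card : Odd (Nat.card A) := by
  have := Fact.mk h.prime
  obtain ⟨k, hk⟩ := h.pgrp.exists_card_eq
  rw [hk]
  exact (h.prime.odd_of_ne_two h.ne).pow

theorem odd (a : A) : Odd (orderOf a) := h.odd_card.of_dvd_nat (orderOf_dvd_natCard a)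

theorem gen (B : Subgroup A) (hB : ¬ IsCyclic B) {K : Subgroup W} (hK : Inv A K) (L : Subgroup W)
    (hL : ∀ b ∈ B, b ≠ 1 → K ⊓ Fx W b ≤ L) : K ≤ L := by
  have : IsMulCommutative B := ⟨⟨fun a b => Subtype.ext (h.comm _ _)⟩⟩
  refine le_of_Fx_le B hB K (fun b _ => hK b) ?_ L hL
  obtain ⟨k, hk⟩ := (h.two.to_subgroup K).exists_card_eq
  rw [hk]
  exact Nat.Coprime.pow_right k (Nat.coprime_two_right.2
    (h.odd_card.of_dvd_nat (card_subgroup_dvd_card B)))

theorem gen_top {K : Subgroup W} (hK : Inv A K) (L : Subgroup W)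
    (hL : ∀ b : A, b ≠ 1 → K ⊓ Fx W b ≤ L) : K ≤ L :=
  h.gen ⊤ (fun hc => h.nc (isCyclic_of_surjective topEquiv topEquiv.surjective)) hK L
    fun b _ => hL b

/-- invariant abelian subgroups are fixed -/
theorem fix_of_comm {K : Subgroup W} (hK : Inv A K) (hc : IsMulCommutative K) (a : A) :
    K ≤ Fx W a := by
  refine h.gen_top hK _ fun b hb => ?_
  by_contra hn
  obtain ⟨e⟩ := Q8_of_unique_involution (hK.inf (inv_Fx h.comm b)) (h.two.to_subgroup _)
    (fun x hx y hy => h.fix b hb x hx.2 y hy.2) (h.odd a) hn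
  have h1 : ∀ x y : QuaternionGroup 2, x * y = y * x := by
    intro x y
    obtain ⟨x, rfl⟩ := e.surjective x
    obtain ⟨y, rfl⟩ := e.surjective y
    rw [← map_mul, ← map_mul]
    congr 1
    exact Subtype.ext (setLike_mul_comm (s := K) x.2.1 y.2.1)
  exact absurd (h1 (QuaternionGroup.a 1) (QuaternionGroup.xa 0)) (by decide)

theorem q8 {b : A} (hb : b ≠ 1) (hn : Ker A (Fx W b) ≠ ⊤) :
    Nonempty (Fx W b ≃* QuaternionGroup 2) := by
  obtain ⟨a, ha⟩ : ∃ a, a ∉ Ker A (Fx W b) := by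
    by_contra hc
    push Not at hc
    exact hn (eq_top_iff.2 fun a _ => hc a)
  exact Q8_of_unique_involution (inv_Fx h.comm b) (h.two.to_subgroup _) (h.fix b hb) (h.odd a) ha

theorem index_eq {b : A} (hb : b ≠ 1) (hn : Ker A (Fx W b) ≠ ⊤) :
    (Ker A (Fx W b)).index = 3 := by
  obtain ⟨e⟩ := h.q8 hb hn
  rcases (Nat.dvd_prime Nat.prime_three).1 (index_Ker_Q8 h.odd_card (inv_Fx h.comm b) e) with h1 | h1
  · exact absurd (index_eq_one.1 h1) hn
  · exact h1

theorem exists_moved : ∃ b : A, b ≠ 1 ∧ Ker A (Fx W b) ≠ ⊤ := by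
  by_contra hc
  push Not at hc
  apply h.nc
  have : Subsingleton A := ⟨fun a b => by
    have key : ∀ a : A, a = 1 := fun a => h.faith a (h.gen_top inv_top _ fun b hb =>
      inf_le_right.trans (mem_Ker.1 (hc b hb ▸ mem_top a)))
    rw [key a, key b]⟩
  infer_instance

theorem cube (a : A) : a ^ 3 = 1 := by
  refine h.faith _ (h.gen_top inv_top _ fun b hb => inf_le_right.trans (mem_Ker.1 ?_))
  by_cases hn : Ker A (Fx W b) = ⊤
  · rw [hn]; exact mem_top _
  · have : (Ker A (Fx W b)).Normal := ⟨fun x hx g => by rw [h.comm g, mul_inv_cancel_right]; exact hx⟩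
    rw [← h.index_eq hb hn]
    exact pow_index_mem _ a

theorem card_Fx {b : A} (hb : b ≠ 1) (hn : Ker A (Fx W b) ≠ ⊤) : Nat.card (Fx W b) = 8 := by
  obtain ⟨e⟩ := h.q8 hb hn
  rw [Nat.card_congr e.toEquiv, Nat.card_eq_fintype_card, QuaternionGroup.card]

theorem Fx_eq {b k : A} (hb : b ≠ 1) (hn : Ker A (Fx W b) ≠ ⊤) (hk : k ∈ Ker A (Fx W b))
    (hk1 : k ≠ 1) : Fx W k = Fx W b := by
  have hle : Fx W b ≤ Fx W k := hk
  have hn' : Ker A (Fx W k) ≠ ⊤ := fun hc => hn (eq_top_iff.2 fun a _ =>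
    mem_Ker.2 (hle.trans (mem_Ker.1 (hc ▸ mem_top a))))
  exact (eq_of_le_of_card_ge hle (by rw [h.card_Fx hb hn, h.card_Fx hk1 hn'])).symm

theorem ker_cyclic {b : A} (hb : b ≠ 1) (hn : Ker A (Fx W b) ≠ ⊤) : IsCyclic (Ker A (Fx W b)) := by
  by_contra hc
  have := h.gen _ hc inv_top (Fx W b) fun k hk hk1 => inf_le_right.trans (h.Fx_eq hb hn hk hk1).le
  exact hb (h.faith b this)

theorem ker_eq {b : A} (hb : b ≠ 1) (hn : Ker A (Fx W b) ≠ ⊤) : Ker A (Fx W b) = zpowers b := by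
  have hc := h.ker_cyclic hb hn
  have hb3 : orderOf b = 3 := orderOf_eq_prime (h.cube b) hb
  have hle : zpowers b ≤ Ker A (Fx W b) := zpowers_le.2 (mem_Ker.2 le_rfl)
  refine (eq_of_le_of_card_ge hle ?_).symm
  rw [Nat.card_zpowers, hb3, ← IsCyclic.exponent_eq_card]
  exact Nat.le_of_dvd (by norm_num) (Monoid.exponent_dvd_of_forall_pow_eq_one fun g =>
    Subtype.ext (h.cube g))

theorem card_eq : Nat.card A = 9 := by
  obtain ⟨b, hb, hn⟩ := h.exists_moved
  have := (Ker A (Fx W b)).card_mul_index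
  rw [h.index_eq hb hn, h.ker_eq hb hn, Nat.card_zpowers, orderOf_eq_prime (h.cube b) hb] at this
  omega

/-- the fixed points of the whole group -/
theorem exists_z : ∃ z : W, orderOf z = 2 ∧ FixedPoints.subgroup A W = zpowers z := by
  obtain ⟨b, hb, hn⟩ := h.exists_moved
  have hle : FixedPoints.subgroup A W ≤ Fx W b := fun x hx => hx b
  have h8 := h.card_Fx hb hn
  have hne : Fx W b ≠ ⊥ := fun hc => by rw [hc, card_bot] at h8; omega
  obtain ⟨z, hz, hz2, -⟩ := Inv.exists_central_involution_of_isPGroup (h.two.to_subgroup _) hne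
  have hzf : z ∈ FixedPoints.subgroup A W := fun a =>
    h.fix b hb _ (inv_Fx h.comm b a z hz) z hz
      (by rw [← hom_apply, orderOf_injective _ (hom_injective a), hz2]) hz2
  refine ⟨z, hz2, (eq_of_le_of_card_ge (zpowers_le.2 hzf) ?_).symm⟩
  rw [Nat.card_zpowers, hz2]
  have hm : Nat.card (FixedPoints.subgroup A W) * (FixedPoints.subgroup A W).relIndex (Fx W b) = 8 := by
    rw [← h8, ← (Subgroup.card_mul_index ((FixedPoints.subgroup A W).subgroupOf (Fx W b))),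
      Nat.card_congr (subgroupOfEquivOfLe hle).toEquiv]
    rfl
  have h1 : (FixedPoints.subgroup A W).relIndex (Fx W b) ≠ 1 := fun hc =>
    hn (eq_top_iff.2 fun a _ => fun x hx => (relIndex_eq_one.1 hc hx) a)
  have h2 : (FixedPoints.subgroup A W).relIndex (Fx W b) ≠ 2 := fun hc =>
    hn (eq_top_iff.2 fun a _ => fix_of_relIndex_two h.two (inv_Fx h.comm b) hc (h.odd a)
      fun x hx => hx a)
  have h3 : (FixedPoints.subgroup A W).relIndex (Fx W b) ∣ 2 ^ 3 := Dvd.intro_left _ hm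
  obtain ⟨i, hi, hi'⟩ := (Nat.dvd_prime_pow Nat.prime_two).1 h3
  rw [hi'] at hm h1 h2
  interval_cases i <;> simp at h1 h2 hm ⊢ <;> omega

theorem comm_eq_top : Ext.comm A (⊤ : Subgroup W) = ⊤ := by
  obtain ⟨z, hz, hC⟩ := h.exists_z
  have hcop : (Nat.card A).Coprime (Nat.card (⊤ : Subgroup W)) := by
    obtain ⟨k, hk⟩ := (h.two.to_subgroup ⊤).exists_card_eq
    rw [hk]
    exact Nat.Coprime.pow_right k (Nat.coprime_two_right.2 h.odd_card)
  have hs := comm_sup_fixedPoints (A := A) inv_top hcop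
    (Or.inr (isSolvable_of_isPGroup (h.two.to_subgroup ⊤)))
  have hne : Ext.comm A (⊤ : Subgroup W) ≠ ⊥ := by
    intro hc
    obtain ⟨b, hb, hn⟩ := h.exists_moved
    exact hb (h.faith b fun x hx => comm_eq_bot_iff.1 hc b x hx)
  obtain ⟨t, ht, ht2, htc⟩ := Inv.exists_central_involution_of_isPGroup (h.two.to_subgroup _) hne
  have hI : Inv A (Ext.comm A (⊤ : Subgroup W) ⊓ centralizer (Ext.comm A (⊤ : Subgroup W) : Set W)) :=
    (inv_comm _).inf (inv_comm _).centralizer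
  have hab : IsMulCommutative (Ext.comm A (⊤ : Subgroup W) ⊓
      centralizer (Ext.comm A (⊤ : Subgroup W) : Set W) : Subgroup W) :=
    ⟨⟨fun x y => Subtype.ext (y.2.2 _ x.2.1)⟩⟩
  have htf : t ∈ FixedPoints.subgroup A W := fun a => h.fix_of_comm hI hab a ⟨ht, htc⟩
  have hzt : zpowers t = zpowers z := by
    rw [hC] at htf
    exact eq_of_le_of_card_ge (zpowers_le.2 htf) (by rw [Nat.card_zpowers, Nat.card_zpowers, hz, ht2])
  rwa [hC, ← hzt, top_inf_eq, sup_eq_left.2 (zpowers_le.2 ht)] at hs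

/-- every `Fx b` is generated by two elements and the fixed points -/
theorem exists_gens {z : W} (hC : FixedPoints.subgroup A W = zpowers z) {b : A} (hb : b ≠ 1) :
    ∃ u v : W, ∀ L : Subgroup W, u ∈ L → v ∈ L → z ∈ L → Fx W b ≤ L := by
  by_cases hn : Ker A (Fx W b) = ⊤
  · refine ⟨1, 1, fun L _ _ hz => le_trans ?_ (hC ▸ zpowers_le.2 hz : FixedPoints.subgroup A W ≤ L)⟩
    intro x hx a
    exact (mem_Ker.1 (hn ▸ mem_top a)) hx
  obtain ⟨e⟩ := h.q8 hb hn
  refine ⟨e.symm (QuaternionGroup.a 1), e.symm (QuaternionGroup.xa 0), fun L hu hv _ x hx => ?_⟩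
  let M : Subgroup (QuaternionGroup 2) := (L.comap (Fx W b).subtype).comap e.symm.toMonoidHom
  have ha : QuaternionGroup.a 1 ∈ M := hu
  have hxa : QuaternionGroup.xa 0 ∈ M := hv
  have hM : ∀ q, q ∈ M := by
    have h1 : ∀ q : QuaternionGroup 2, ∃ i : Fin 4, q = QuaternionGroup.a 1 ^ (i : ℕ) ∨
        q = QuaternionGroup.xa 0 * QuaternionGroup.a 1 ^ (i : ℕ) := by decide
    intro q
    obtain ⟨i, rfl | rfl⟩ := h1 q
    · exact M.pow_mem ha _
    · exact M.mul_mem hxa (M.pow_mem ha _)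
  have := hM (e ⟨x, hx⟩)
  change ((e.symm (e ⟨x, hx⟩) : Fx W b) : W) ∈ L at this
  rwa [e.symm_apply_apply] at this

theorem exists_reps : ∃ r : Fin 4 → A, (∀ i, r i ≠ 1) ∧ ∀ a : A, a ≠ 1 → ∃ i, r i ∈ zpowers a := by
  obtain ⟨b, hb, hn⟩ := h.exists_moved
  have hb3 : orderOf b = 3 := orderOf_eq_prime (h.cube b) hb
  obtain ⟨c, hc⟩ : ∃ c, c ∉ zpowers b := by
    by_contra hc
    push Not at hc
    exact h.nc ⟨b, hc⟩
  have hc1 : c ≠ 1 := fun e => hc (e ▸ one_mem _)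
  have hsup : zpowers b ⊔ zpowers c = ⊤ := by
    have hlt : zpowers b < zpowers b ⊔ zpowers c :=
      lt_of_le_of_ne le_sup_left fun e => hc (e ▸ mem_sup_right (mem_zpowers c))
    have h1 := Grp.card_lt_of_lt hlt
    have h2 := card_subgroup_dvd_card (zpowers b ⊔ zpowers c)
    rw [Nat.card_zpowers, hb3] at h1
    rw [h.card_eq] at h2
    refine eq_top_of_card_eq _ ?_
    rw [h.card_eq]
    obtain ⟨i, hi, hi'⟩ := (Nat.dvd_prime_pow Nat.prime_three).1 (show _ ∣ 3 ^ 2 from h2)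
    rw [hi'] at h1 ⊢
    interval_cases i <;> simp at h1 ⊢
  have hN : (zpowers c).Normal := ⟨fun x hx g => by rw [h.comm g, mul_inv_cancel_right]; exact hx⟩
  have hred : ∀ (a : A) (i : ℤ), a ^ i = 1 ∨ a ^ i = a ∨ a ^ i = a⁻¹ := by
    intro a i
    have h3 : a ^ (3 : ℤ) = 1 := by exact_mod_cast h.cube a
    obtain ⟨k, hk | hk | hk⟩ : ∃ k, i = 3 * k ∨ i = 3 * k + 1 ∨ i = 3 * k - 1 :=
      ⟨(i + 1) / 3, by omega⟩
    · left; rw [hk, zpow_mul, h3, one_zpow]
    · right; left; rw [hk, zpow_add, zpow_mul, h3, one_zpow, one_mul, zpow_one]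
    · right; right; rw [hk, zpow_sub, zpow_mul, h3, one_zpow, one_mul, zpow_one]
  refine ⟨![b, c, b * c, b * c⁻¹], fun i => ?_, fun a ha => ?_⟩
  · fin_cases i
    · exact hb
    · exact hc1
    · intro e
      apply hc
      have : c = b⁻¹ := eq_inv_of_mul_eq_one_right e
      rw [this]; exact inv_mem (mem_zpowers b)
    · intro e
      apply hc
      have : b = c := mul_inv_eq_one.1 e
      rw [← this]; exact mem_zpowers b
  · have hm : a ∈ ((zpowers b ⊔ zpowers c : Subgroup A) : Set A) := by rw [hsup]; trivial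
    rw [Subgroup.mul_normal] at hm
    obtain ⟨_, ⟨i, rfl⟩, _, ⟨j, rfl⟩, rfl⟩ := hm
    dsimp only at ha ⊢
    rcases hred b i with h1 | h1 | h1 <;> rcases hred c j with h2 | h2 | h2 <;> rw [h1, h2] at ha ⊢
    · exact absurd (one_mul _) ha
    · exact ⟨1, by simp⟩
    · exact ⟨1, by simp⟩
    · exact ⟨0, by simp⟩
    · exact ⟨2, mem_zpowers _⟩
    · exact ⟨3, mem_zpowers _⟩
    · exact ⟨0, by simp⟩
    · refine ⟨3, ?_⟩
      have : b * c⁻¹ = (b⁻¹ * c)⁻¹ := by rw [mul_inv_rev, inv_inv, h.comm]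
      change b * c⁻¹ ∈ _
      rw [this]; exact inv_mem (mem_zpowers _)
    · refine ⟨2, ?_⟩
      have : b * c = (b⁻¹ * c⁻¹)⁻¹ := by rw [mul_inv_rev, inv_inv, inv_inv, h.comm]
      change b * c ∈ _
      rw [this]; exact inv_mem (mem_zpowers _)

theorem card_cases {z : W} (hC : FixedPoints.subgroup A W = zpowers z) (hE : IsES 2 z ⊤) :
    Nat.card W = 2 ^ 5 ∨ Nat.card W = 2 ^ 7 ∨ Nat.card W = 2 ^ 9 := by
  obtain ⟨r, hr1, hr⟩ := h.exists_reps
  choose u v huv using fun i => h.exists_gens hC (hr1 i)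
  let g : Fin 4 × Bool → W := fun x => if x.2 then u x.1 else v x.1
  have hd := card_closure_le (p := 2) two_pos g z (fun i => hE.central _ (mem_top _))
    (fun i j => hE.comm _ (mem_top _) _ (mem_top _)) (fun i => hE.pow_mem (mem_top _))
  have htop : closure (Set.range g ∪ {z}) = ⊤ := by
    refine eq_top_iff.2 (h.gen_top inv_top _ fun a ha => inf_le_right.trans ?_)
    obtain ⟨i, hi⟩ := hr a ha
    refine (Fx_le_of_mem_zpowers hi).trans (huv i _ ?_ ?_ ?_)
    · exact subset_closure (Or.inl ⟨(i, true), rfl⟩)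
    · exact subset_closure (Or.inl ⟨(i, false), rfl⟩)
    · exact subset_closure (Or.inr rfl)
  rw [htop, card_top, hE.ord] at hd
  obtain ⟨n, x, y, hB⟩ := hE.exists_sympBasis
  have hc := hB.card
  rw [card_top] at hc
  obtain ⟨b, hb, hn⟩ := h.exists_moved
  have hlt : Fx W b < ⊤ := lt_top_iff_ne_top.2 fun e => hb (h.faith b e.ge)
  have h8 := Grp.card_lt_of_lt hlt
  rw [h.card_Fx hb hn, card_top, hc] at h8
  rw [hc] at hd ⊢
  have h9 : 2 * n + 1 ≤ 9 := by
    have : (2 : ℕ) ^ (2 * n + 1) ∣ 2 ^ 9 := by simpa using hd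
    exact (Nat.pow_dvd_pow_iff_le_right one_lt_two).1 this
  have h3 : 3 < 2 * n + 1 := (Nat.pow_lt_pow_iff_right one_lt_two).1 (by simpa using h8)
  obtain rfl | rfl | rfl : n = 2 ∨ n = 3 ∨ n = 4 := by omega
  all_goals simp

end Hyp

/-- Let p be an odd prime, W a finite 2-group and E a non-cyclic abelian p-subgroup of Aut(W) such that, for every nontrivial e ∈ E, the fixed points of e in W contain at most one involution. Then E has order 9, W is extraspecial of order 2⁵, 2⁷ or 2⁹, and the common fixed points of E in W form exactly the centre Z(W). -/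
theorem result {W : Type*} [Group W] [Finite W] (hW : IsPGroup 2 W) {p : ℕ} [Fact p.Prime] (hp : p ≠ 2) (E : Subgroup (MulAut W)) (hE : IsPGroup p ↥E) (hab : IsMulCommutative ↥E) (hnc : ¬ IsCyclic ↥E) (hfix : ∀ e ∈ E, e ≠ 1 → ∀ x y : W, orderOf x = 2 → orderOf y = 2 → e x = x → e y = y → x = y) : Nat.card ↥E = 9 ∧ Cfsg.IsExtraspecial 2 W ∧ (Nat.card W = 2 ^ 5 ∨ Nat.card W = 2 ^ 7 ∨ Nat.card W = 2 ^ 9) ∧ {x : W | ∀ e ∈ E, e x = x} = (Subgroup.center W : Set W) := by
  have hfin : Finite (MulAut W) := Finite.of_injective _ DFunLike.coe_injective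
  have h : Hyp E W p := ⟨hW, Fact.out, hp, hE, fun a b => hab.is_comm.comm a b, hnc,
    fun a ha => Subtype.ext (MulEquiv.ext fun x => ha (mem_top x)),
    fun a ha x hx y hy hx2 hy2 => hfix a a.2 (fun e => ha (Subtype.ext e)) x y hx2 hy2 hx hy⟩
  have hS := S0119.result hW E (Nat.coprime_two_right.2 h.odd_card) ?_ ?_
  · obtain ⟨z, hz, hC⟩ := h.exists_z
    have hZ : center W = FixedPoints.subgroup E W := by
      ext g
      rw [hS.2]
      exact ⟨fun hg a => hg a a.2, fun hg a ha => hg ⟨a, ha⟩⟩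
    have hX : IsExtraspecial 2 W := ⟨hS.1, by rw [hZ, hC, Nat.card_zpowers, hz]⟩
    obtain ⟨z', hE', -, hz'⟩ := isES_top_of_isExtraspecial hX
    refine ⟨h.card_eq, hX, h.card_cases (by rw [← hZ, hz']) hE', ?_⟩
    ext g
    exact (hS.2 g).symm
  · rw [eq_top_iff, ← h.comm_eq_top, comm_le_iff]
    intro a g _
    exact subset_closure ⟨g, a, a.2, rfl⟩
  · intro H hH hH' a ha x hx
    exact h.fix_of_comm (inv_of_characteristic H) hH' ⟨a, ha⟩ hx

end Cfsg.Agent.S2934
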