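import Cfsg.Statements.S2962
import Mathlib
import Cfsg.Agent.PLocal.IsolatedP
import Cfsg.Agent.Inv.ZStarElem
import Cfsg.Agent.S0205
import Cfsg.Agent.Grp.Cores

set_option autoImplicit false
open Cfsg

namespace Cfsg.Agent.S2962


open Subgroup PLocal PLocal.Amb
open scoped commutatorElement

section
variable {G : Type*} [Group G]

theorem comm_le_cent {Q A : Subgroup G} {x : G} (hA : ∀ q ∈ Q, x⁻¹ * q * x * q⁻¹ ∈ A)
    (h1 : ∀ a ∈ A, ∀ q ∈ Q, a * q = q * a)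
    (h2 : ∀ a ∈ A, ∀ q ∈ Q, a * (x⁻¹ * q * x) = (x⁻¹ * q * x) * a) :
    ⁅Q, Q⁆ ≤ centralizer ({x} : Set G) := by
  rw [commutator_le]
  intro q hq q' hq'
  rw [mem_centralizer_singleton_iff]
  have ha := hA q hq
  have ha' := hA q' hq'
  set a := x⁻¹ * q * x * q⁻¹ with hae
  set a' := x⁻¹ * q' * x * q'⁻¹ with hae'
  have e1 : x⁻¹ * q * x = a * q := by rw [hae]; group
  have e2 : x⁻¹ * q' * x = a' * q' := by rw [hae']; group
  have c1 : Commute a q := h1 a ha q hq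
  have c2 : Commute a q' := h1 a ha q' hq'
  have c3 : Commute a' q := h1 a' ha' q hq
  have c4 : Commute a' q' := h1 a' ha' q' hq'
  have c5 : Commute a (a' * q') := by rw [← e2]; exact h2 a ha q' hq'
  have e3 : x⁻¹ * ⁅q, q'⁆ * x = ⁅a * q, a' * q'⁆ := by
    rw [← e1, ← e2, commutatorElement_def, commutatorElement_def]; group
  have e4 : ⁅a * q, a' * q'⁆ = ⁅q, q'⁆ := by
    rw [commutatorElement_def, commutatorElement_def]
    calc a * q * (a' * q') * (a * q)⁻¹ * (a' * q')⁻¹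
        = a * (q * (a' * q') * q⁻¹) * a⁻¹ * (a' * q')⁻¹ := by group
      _ = (q * (a' * q') * q⁻¹) * (a' * q')⁻¹ := by
          rw [((c1.mul_right c5).mul_right c1.inv_right).eq]; group
      _ = (q * a') * q' * q⁻¹ * q'⁻¹ * a'⁻¹ := by group
      _ = a' * (q * q' * q⁻¹ * q'⁻¹) * a'⁻¹ := by rw [← c3.eq]; group
      _ = q * q' * q⁻¹ * q'⁻¹ := by
          rw [(((c3.mul_right c4).mul_right c3.inv_right).mul_right c4.inv_right).eq]; group
  rw [e4] at e3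
  calc ⁅q, q'⁆ * x = x * (x⁻¹ * ⁅q, q'⁆ * x) := by group
    _ = x * ⁅q, q'⁆ := by rw [e3]

theorem exists_dec {N Q : Subgroup G} [N.Normal] (hG : Q ⊔ N = ⊤) (g : G) :
    ∃ n ∈ N, ∃ q ∈ Q, g = n * q := by
  have : g ∈ N ⊔ Q := by rw [sup_comm, hG]; trivial
  exact (mem_sup_of_le_normalizer_left (by rw [normalizer_eq_top]; exact le_top)).1 this

theorem inf_le_cent [Finite G] {N Q : Subgroup G} [hN : N.Normal] (hG : Q ⊔ N = ⊤)
    (hdisj : Q ⊓ N = ⊥) {t : G} (htQ : t ∈ ⁅Q, Q⁆)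
    (hC : N ⊓ centralizer (Q : Set G) = N ⊓ centralizer ({t} : Set G)) {P : Subgroup G}
    (hP : IsPGroup 2 P) (hQP : Q ≤ P) : P ⊓ N ≤ centralizer (Q : Set G) := by
  haveI : Fact (Nat.Prime 2) := ⟨Nat.prime_two⟩
  let T : Subgroup G := P ⊓ N ⊓ centralizer (Q : Set G)
  have hQT : Q ≤ normalizer (T : Set G) :=
    (le_centralizer_iff.1 (inf_le_right : T ≤ _)).trans (centralizer_le_normalizer' T)
  have hRN : ∀ y ∈ T ⊔ Q, y ∈ N → y ∈ T := by
    intro y hy hyN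
    obtain ⟨a, ha, q, hq, rfl⟩ := (mem_sup_of_le_normalizer_left hQT).1 hy
    have : q ∈ Q ⊓ N := ⟨hq, by simpa using N.mul_mem (N.inv_mem ha.1.2) hyN⟩
    rw [hdisj, mem_bot] at this
    rw [this, mul_one]; exact ha
  have hle : T ⊔ Q ≤ P := sup_le (inf_le_left.trans inf_le_left) hQP
  have key : T ⊔ Q = P := by
    refine eq_of_inf_normalizer_le hP hle fun y hy => ?_
    obtain ⟨x, hx, q₀, hq₀, rfl⟩ := exists_dec hG y
    have hq₀' : q₀ ∈ T ⊔ Q := mem_sup_right hq₀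
    have hxP : x ∈ P := by simpa using P.mul_mem hy.1 (inv_mem (hQP hq₀))
    have hxn : x ∈ normalizer ((T ⊔ Q : Subgroup G) : Set G) := by
      simpa using (normalizer ((T ⊔ Q : Subgroup G) : Set G)).mul_mem hy.2 (inv_mem (le_normalizer hq₀'))
    have hxt : t ∈ centralizer ({x} : Set G) := by
      refine comm_le_cent (A := T) (fun q hq => hRN _ (mul_mem
        (inv_conj_mem_of_mem_normalizer hxn (mem_sup_right hq)) (mem_sup_right (inv_mem hq))) ?_)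
        (fun a ha q hq => (mem_centralizer_iff.1 ha.2 q hq).symm) (fun a ha q hq => ?_) htQ
      · have := mul_mem (inv_mem hx) (hN.conj_mem x hx q)
        simpa only [mul_assoc] using this
      · have h1 : x * a * x⁻¹ ∈ T := hRN _ (conj_mem_of_mem_normalizer hxn (mem_sup_left ha))
          (hN.conj_mem a ha.1.2 x)
        have := mem_centralizer_iff.1 h1.2 q hq
        calc a * (x⁻¹ * q * x) = x⁻¹ * (x * a * x⁻¹ * q) * x := by group
          _ = x⁻¹ * q * x * a := by rw [← this]; group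
    have hxC : x ∈ N ⊓ centralizer (Q : Set G) := by
      rw [hC]
      exact ⟨hx, mem_centralizer_singleton_iff.2 (mem_centralizer_singleton_iff.1 hxt).symm⟩
    exact mul_mem (mem_sup_left ⟨⟨hxP, hx⟩, hxC.2⟩) hq₀'
  intro y hy
  exact (hRN y (key ▸ hy.1) hy.2).2

theorem commute_of_le [Finite G] {N Q : Subgroup G} [hN : N.Normal] (hG : Q ⊔ N = ⊤)
    (hdisj : Q ⊓ N = ⊥) {t : G} (htQ : t ∈ ⁅Q, Q⁆)
    (hC : N ⊓ centralizer (Q : Set G) = N ⊓ centralizer ({t} : Set G)) {P : Subgroup G}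
    (hP : IsPGroup 2 P) (hQP : Q ≤ P) {x : G} (hx : x ∈ N) (hxP : ∀ q ∈ Q, x⁻¹ * q * x ∈ P) :
    t * x = x * t := by
  refine mem_centralizer_singleton_iff.1 (comm_le_cent (A := P ⊓ N)
    (fun q hq => ⟨P.mul_mem (hxP q hq) (inv_mem (hQP hq)), ?_⟩)
    (fun a ha q hq => (mem_centralizer_iff.1 (inf_le_cent hG hdisj htQ hC hP hQP ha) q hq).symm)
    (fun a ha q hq => ?_) htQ)
  · have := mul_mem (inv_mem hx) (hN.conj_mem x hx q)
    simp only [← mul_assoc] at this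
    exact this
  · have h1 := inf_le_cent hG hdisj htQ hC (isPGroup_cj x hP) (fun q hq => mem_cj.2 (hxP q hq))
      (show x * a * x⁻¹ ∈ _ from ⟨conj_mem_cj x ha.1, hN.conj_mem a ha.2 x⟩)
    have := mem_centralizer_iff.1 h1 q hq
    calc a * (x⁻¹ * q * x) = x⁻¹ * (x * a * x⁻¹ * q) * x := by group
      _ = x⁻¹ * q * x * a := by rw [← this]; group

end

/-- Let G be a finite group with G = QN, where N is a normal subgroup of G and Q is a non-abelian 2-subgroup with Q ∩ N = 1. Suppose that some nontrivial element t of Z(Q) ∩ [Q, Q] satisfies C_N(Q) = C_N(t). Then [N, Q] is solvable of odd order. -/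
theorem result {G : Type*} [Group G] [Finite G] (N Q : Subgroup G) [N.Normal] (hG : Q ⊔ N = ⊤) (hQ : IsPGroup 2 ↥Q) (hQna : ¬ IsMulCommutative ↥Q) (hdisj : Q ⊓ N = ⊥) (t : G) (ht1 : t ≠ 1) (htZ : t ∈ Q ⊓ Subgroup.centralizer (Q : Set G)) (htQ : t ∈ ⁅Q, Q⁆) (hC : N ⊓ Subgroup.centralizer (Q : Set G) = N ⊓ Subgroup.centralizer ({t} : Set G)) : Group.IsSolvable ↥⁅N, Q⁆ ∧ Odd (Nat.card ↥⁅N, Q⁆) := by
  haveI : Fact (Nat.Prime 2) := ⟨Nat.prime_two⟩
  have hN : N.Normal := inferInstance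
  have hqt : ∀ q ∈ Q, q * t = t * q := fun q hq => mem_centralizer_iff.1 htZ.2 q hq
  have hQC : Q ≤ centralizer ({t} : Set G) := fun q hq => mem_centralizer_singleton_iff.2 (hqt q hq)
  have hdecC : ∀ c ∈ centralizer ({t} : Set G), ∃ n ∈ N ⊓ centralizer (Q : Set G), ∃ q ∈ Q,
      c = n * q := by
    intro c hc
    obtain ⟨n, hn, q, hq, rfl⟩ := exists_dec hG c
    refine ⟨n, ?_, q, hq, rfl⟩
    rw [hC]
    exact ⟨hn, by simpa using mul_mem hc (inv_mem (hQC hq))⟩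
  obtain ⟨S, hS, hQS⟩ := exists_isSyl_ge hQ (le_top : Q ≤ ⊤)
  have hiso : IsIsolated t := by
    refine iso_of_isSyl hS (hQS htZ.1) fun g hg => ?_
    obtain ⟨n, hn, q, hq, rfl⟩ := exists_dec hG g
    have e0 : n * q * t * (n * q)⁻¹ = n * t * n⁻¹ := by rw [mul_assoc n q, hqt q hq]; group
    rw [e0] at hg ⊢
    have hτ : n * t * n⁻¹ * t⁻¹ ∈ S ⊓ N := ⟨S.mul_mem hg (inv_mem (hQS htZ.1)), by
      have := mul_mem hn (hN.conj_mem _ (inv_mem hn) t)
      simp only [← mul_assoc] at this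
      exact this⟩
    have hτC := inf_le_cent hG hdisj htQ hC hS.pgrp hQS hτ
    have hQ1 : cj(n⁻¹, Q) ≤ centralizer ({t} : Set G) := by
      rw [cj_le_iff_forall]
      intro y hy
      rw [mem_centralizer_singleton_iff]
      have h1 := mem_centralizer_iff.1 hτC y hy
      have h2 : y * (n * t * n⁻¹) = (n * t * n⁻¹) * y := by
        calc y * (n * t * n⁻¹) = y * (n * t * n⁻¹ * t⁻¹) * t := by group
          _ = n * t * n⁻¹ * t⁻¹ * (y * t) := by rw [h1]; group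
          _ = (n * t * n⁻¹) * y := by rw [hqt y hy]; group
      calc n⁻¹ * y * n⁻¹⁻¹ * t = n⁻¹ * (y * (n * t * n⁻¹)) * n := by group
        _ = t * (n⁻¹ * y * n⁻¹⁻¹) := by rw [h2]; group
    obtain ⟨P, hP, hQP⟩ := exists_isSyl_ge hQ hQC
    obtain ⟨c, hc, hcP⟩ := hP.exists_cj_le (isPGroup_cj n⁻¹ hQ) hQ1
    obtain ⟨c₀, hc₀, q₀, hq₀, e⟩ := hdecC c⁻¹ (inv_mem hc)
    have hc₀t : c₀ * t = t * c₀ := (mem_centralizer_iff.1 hc₀.2 t htZ.1).symm
    have key := commute_of_le hG hdisj htQ hC hP.pgrp hQP (mul_mem hn hc₀.1) fun y hy => by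
      have h1 : c * (n⁻¹ * y * n⁻¹⁻¹) * c⁻¹ ∈ P := hcP (conj_mem_cj c (conj_mem_cj n⁻¹ hy))
      have h2 := P.mul_mem (P.mul_mem (hQP hq₀) h1) (inv_mem (hQP hq₀))
      have h3 : c = (c₀ * q₀)⁻¹ := by rw [← e, inv_inv]
      rw [h3] at h2
      convert h2 using 1
      group
    calc n * t * n⁻¹ = n * (t * c₀) * c₀⁻¹ * n⁻¹ := by group
      _ = (n * c₀ * t) * c₀⁻¹ * n⁻¹ := by rw [← hc₀t]; group
      _ = t := by rw [← key]; group
  have ht2 : ∃ k : ℕ, t ^ 2 ^ k = 1 := isPGroup_iff.1 hQ t htZ.1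
  have hle : ⁅N, Q⁆ ≤ oddCore G := by
    rw [commutator_le]
    intro n hn q hq
    obtain ⟨o, ho, c, hc, e⟩ := Inv.exists_oddCore_mul_of_isIsolated hiso ht2 n
    obtain ⟨n₁, hn₁, q₁, hq₁, rfl⟩ := hdecC c hc
    have hq1 : q₁ = 1 := by
      have h1 : (QuotientGroup.mk' N q₁) = (QuotientGroup.mk' N o)⁻¹ := by
        have h2 : QuotientGroup.mk' N n = 1 := (QuotientGroup.eq_one_iff n).2 hn
        have h3 : QuotientGroup.mk' N n₁ = 1 := (QuotientGroup.eq_one_iff n₁).2 hn₁.1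
        rw [e, map_mul, map_mul, h3, one_mul] at h2
        exact (eq_inv_of_mul_eq_one_right h2)
      have h4 : QuotientGroup.mk' N q₁ = 1 := by
        refine eq_one_of_isPGroup_of_coprime (hQ.map (QuotientGroup.mk' N)) ⟨q₁, hq₁, rfl⟩ ?_
        rw [h1, orderOf_inv]
        exact Nat.Coprime.coprime_dvd_left ((orderOf_map_dvd _ o).trans (orderOf_dvd_natCard _ ho))
          (Grp.pPrimeCore_coprime 2 G)
      have : q₁ ∈ Q ⊓ N := ⟨hq₁, (QuotientGroup.eq_one_iff q₁).1 h4⟩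
      rwa [hdisj, mem_bot] at this
    rw [hq1, mul_one] at e
    have h5 := mem_centralizer_iff.1 hn₁.2 q hq
    have : ⁅n, q⁆ = o * (q * o⁻¹ * q⁻¹) := by
      rw [commutatorElement_def, e]
      calc o * n₁ * q * (o * n₁)⁻¹ * q⁻¹ = o * (n₁ * q) * n₁⁻¹ * o⁻¹ * q⁻¹ := by group
        _ = o * (q * o⁻¹ * q⁻¹) := by rw [← h5]; group
    rw [this]
    exact mul_mem ho ((inferInstance : (oddCore G).Normal).conj_mem _ (inv_mem ho) q)
  have hodd : Odd (Nat.card ↥⁅N, Q⁆) :=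
    Nat.coprime_two_right.1
      (Nat.Coprime.coprime_dvd_left (card_dvd_of_le hle) (Grp.pPrimeCore_coprime 2 G))
  exact ⟨S0205.result hodd, hodd⟩

end Cfsg.Agent.S2962
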