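import Cfsg.Statements.S2964
import Cfsg.Agent.K.Coprime

set_option autoImplicit false
open Cfsg

namespace Cfsg.Agent.S2964

/-- Let K be a finite simple group all of whose simple sections are known finite simple groups, and let r be a prime not dividing the order of K. Then the Sylow r-subgroups of the automorphism group of K are cyclic. -/
theorem result (K : Type*) [Group K] [Finite K] [IsSimpleGroup K] (hK : Cfsg.IsKGroup K) (r : ℕ) [Fact r.Prime] (hr : ¬ r ∣ Nat.card K) (R : Sylow r (MulAut K)) : IsCyclic ↥(R : Subgroup (MulAut K)) := by
  by_cases hna : IsMulCommutative K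
  · let _ : CommGroup K := { (inferInstance : Group K) with mul_comm := hna.1.1 }
    have h1 : IsCyclic K := IsSimpleGroup.isCyclic
    have h2 : Fact (Nat.card K).Prime := ⟨IsSimpleGroup.prime_card⟩
    have h3 : IsCyclic (MulAut K) :=
      isCyclic_of_injective (IsCyclic.mulAutMulEquiv K).toMonoidHom (IsCyclic.mulAutMulEquiv K).injective
    infer_instance
  · exact (Cfsg.Agent.K.copFacts_of_isKGroup hna hK).cyc r Fact.out hr _ R.isPGroup'

end Cfsg.Agent.S2964
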