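import Cfsg.Statements.S2966
import Cfsg.Agent.K.CopMain

set_option autoImplicit false
open Cfsg

namespace Cfsg.Agent.S2966

/-- Let r be a prime and let A and G be subgroups of a finite group, with A an elementary abelian r-group normalizing G and the orders of A and G coprime. Suppose that every non-abelian simple section of G is a known finite simple group and that C_G(A) is solvable. Then every non-abelian composition factor of G is isomorphic to PSL₂(2^r), PSL₂(3^r), PSU₃(2^r) or, when r is odd, the Suzuki group over the field with 2^r elements. -/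
theorem result {X : Type*} [Group X] [Finite X] {r : ℕ} [Fact r.Prime] (A G : Subgroup X) (hA : Cfsg.IsElementaryAbelian r A) (hAG : A ≤ Subgroup.normalizer (G : Set X)) (hcop : (Nat.card ↥A).Coprime (Nat.card ↥G)) (hK : Cfsg.IsKGroup ↥G) (hC : Group.IsSolvable ↥(G ⊓ Subgroup.centralizer (A : Set X))) : Cfsg.IsCompositionKGroupWith (Cfsg.IsRankOneOverDegreeRField r) ↥G := by
  intro H hH N _ hs hna
  rcases K.exists_coprime_act hA hAG hcop with h | ⟨_, h1, h2, h3, h4⟩
  · rw [h] at hC
    exact absurd (Group.isSolvable_of_surjective (QuotientGroup.mk'_surjective N))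
      (PLocal.qs_not_solvable (PLocal.qs_of_simple hs hna))
  · have e := h4 ▸ Subgroup.subgroupOfEquivOfLe (inf_le_left (b := Subgroup.centralizer (A : Set X)))
    obtain ⟨M, _, hM, hF, L, hL, ⟨e'⟩⟩ := K.exists_comp_quot (A := A) hna hH _
      (QuotientGroup.mk'_surjective N)
    exact K.isRankOne_congr e' (K.isRankOne_of_fixed_solvable h1 h3 hK h2
      (Group.isSolvable_of_isSolvable_injective (f := e.toMonoidHom) e.injective) hM hF hL).1

end Cfsg.Agent.S2966
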