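import Cfsg.Statements.S2967
import Cfsg.Agent.K.CopMain

set_option autoImplicit false
open Cfsg

namespace Cfsg.Agent.S2967

/-- Let r be a prime and let A and G be subgroups of a finite group, with A an elementary abelian r-group normalizing G and the orders of A and G coprime. Suppose that every non-abelian simple section of G is a known finite simple group. Then the centre of C_G(A) lies in the largest solvable normal subgroup of G; equivalently, the normal closure in G of Z(C_G(A)) is solvable. -/
theorem result {X : Type*} [Group X] [Finite X] {r : ℕ} [Fact r.Prime] (A G : Subgroup X) (hA : Cfsg.IsElementaryAbelian r A) (hAG : A ≤ Subgroup.normalizer (G : Set X)) (hcop : (Nat.card ↥A).Coprime (Nat.card ↥G)) (hK : Cfsg.IsKGroup ↥G) : Group.IsSolvable ↥(Subgroup.normalClosure (((G ⊓ Subgroup.centralizer (A : Set X)) ⊓ Subgroup.centralizer ((G ⊓ Subgroup.centralizer (A : Set X) : Subgroup X) : Set X)).subgroupOf G : Set ↥G)) := by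
  refine FGS.isSolvable_of_le (Subgroup.normalClosure_le_normal fun z hz => ?_)
    (FGS.isSolvable_solvableRadical G)
  rcases K.exists_coprime_act hA hAG hcop with h | ⟨_, h1, -, h3, h4⟩
  · rw [h] at hz
    exact FGS.le_solvableRadical (N := Subgroup.center G) inferInstance K.solvable_center
      (Subgroup.mem_center_iff.2 fun g => Subtype.ext (hz.2 g g.2))
  · refine K.mem_solvRad_of_fixed_center h1 h3 hK (h4.ge hz.1) fun x hx => ?_
    exact Subtype.ext (hz.2 x (h4.le hx)).symm

end Cfsg.Agent.S2967
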