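import Mathlib
import Cfsg.Statements.S2968
import Cfsg.Agent.PLocal.IsolatedP
-- import your own Cfsg.Agent.* helpers here

set_option autoImplicit false
open Cfsg

namespace Cfsg.Agent.S2968



/-- Let G be a finite group, p a prime, P a Sylow p-subgroup of G and x ∈ P an element of p-power order which is isolated in G (the only conjugate of x commuting with x is x itself). Then x lies in the centre of P, and the subgroup generated by x is both strongly closed and weakly closed in P with respect to G. -/
theorem result {G : Type*} [Group G] [Finite G] {p : ℕ} [Fact p.Prime] (P : Sylow p G) (x : G) (hxP : x ∈ (P : Subgroup G)) (hx : ∃ k : ℕ, orderOf x = p ^ k) (hiso : Cfsg.IsIsolated x) : x ∈ (P : Subgroup G) ⊓ Subgroup.centralizer ((P : Subgroup G) : Set G) ∧ Cfsg.IsStronglyClosed (Subgroup.zpowers x) (P : Subgroup G) ∧ Cfsg.IsWeaklyClosed (Subgroup.zpowers x) (P : Subgroup G) := by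
  have hx' := PLocal.pow_eq_one_of_orderOf_eq hx
  have h1 := PLocal.iso_le_centralizer hiso P.isPGroup' hxP
  refine ⟨Subgroup.mem_inf.2 ⟨hxP, fun y hy => Subgroup.mem_centralizer_singleton_iff.1 (h1 hy)⟩,
    ⟨(Subgroup.zpowers_le).2 hxP, fun y hy g hg => ?_⟩, (Subgroup.zpowers_le).2 hxP, fun g hg => ?_⟩
  · rw [PLocal.iso_conj_eq_of_mem_zpowers hiso hx' hy (h1 hg)]
    exact hy
  · have h2 := PLocal.iso_conj_eq hiso P.isPGroup' hxP
      (PLocal.Amb.cj_le_iff_forall.1 hg x (Subgroup.mem_zpowers x))
    rw [MonoidHom.map_zpowers]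
    congr 1

end Cfsg.Agent.S2968
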