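import Cfsg.Statements.S2980
import Cfsg.Agent.PLocal.BkMainD

set_option autoImplicit false
open Cfsg

namespace Cfsg.Agent.S2980

/-- The local C(G,T)-Theorem. Let G be a finite group of characteristic p (C_G(O_p(G)) ≤ O_p(G)), p prime, T a Sylow p-subgroup, and suppose G ≠ C(G,T), the subgroup generated by the normalizers of the nontrivial characteristic subgroups of T. Then G has a set of B(T)-blocks with the block structure of the local C*(G,T)-Theorem, and in addition every block E with E/O_p(E) alternating of degree 2m+1 (p = 2) has 2m + 1 = 2ⁿ + 1 for some n. -/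
theorem result {G : Type*} [Group G] [Finite G] {p : ℕ} [Fact p.Prime] (hG : Subgroup.centralizer (Cfsg.pCore p G : Set G) ≤ Cfsg.pCore p G) (T : Sylow p G) (hne : Cfsg.charNormalizersJoin (T : Subgroup G) ≠ ⊤) : ∃ 𝓑 : Set (Subgroup G), Cfsg.HasBaumannBlockStructure p (T : Subgroup G) 𝓑 ∧ ∀ E ∈ 𝓑, ∀ m : ℕ, Nonempty (↥E ⧸ Cfsg.pCore p ↥E ≃* ↥(alternatingGroup (Fin (2 * m + 1)))) → ∃ n : ℕ, 2 * m + 1 = 2 ^ n + 1 := by
  have hT := PLocal.Amb.isSyl_top T
  have hC : ∀ K, Fus.ChF (T : Subgroup G) K →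
      Subgroup.normalizer (K : Set G) ≤ charNormalizersJoin (T : Subgroup G) := fun K hK =>
    le_iSup (fun C : {C : Subgroup G // C ≤ (T : Subgroup G) ∧ C ≠ ⊥ ∧
      (C.subgroupOf (T : Subgroup G)).Characteristic} =>
        Subgroup.normalizer ((C : Subgroup G) : Set G)) ⟨K, hK⟩
  by_cases hb : (T : Subgroup G) = ⊥
  · have h0 : pCore p G ≤ ⊥ := hb ▸ PLocal.Amb.pCoreOf_top (G := G) p ▸ hT.pCoreOf_le
    refine absurd (top_le_iff.1 (le_trans ?_ (hG.trans (h0.trans bot_le)))) hne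
    intro x _ y hy
    rw [Subgroup.mem_bot.1 (h0 hy), one_mul, mul_one]
  have hle := PLocal.BlockTr.cStarOf_le hT.pgrp hb hC
  have hne' : cStarOf p (T : Subgroup G) ≠ ⊤ := fun k => hne (top_le_iff.1 (k ▸ hle))
  exact ⟨_, PLocal.Bk.hasStructure hG hT hne', fun E hE m e =>
    (PLocal.Bk.ms_cStar hG hT hne').deg hT rfl hle hne (fun C h1 h2 _ => hC C ⟨h1.le, h2, h1.char⟩)
      hE m e⟩

end Cfsg.Agent.S2980
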