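import Mathlib
import Cfsg.Statements.S2981
import Cfsg.Agent.PLocal.TVQuot
-- import your own Cfsg.Agent.* helpers here

set_option autoImplicit false
open Cfsg

namespace Cfsg.Agent.S2981

open Subgroup Cfsg.Agent.PLocal Cfsg.Agent.PLocal.Amb Cfsg.Agent.PLocal.TV

/-- The local C**(G,T)-Theorem for minimal parabolic groups. Let G be a finite p-minimal group (a Sylow p-subgroup T is not normal and lies in exactly one maximal subgroup) of characteristic p (C_G(O_p(G)) ≤ O_p(G)), and suppose G ≠ C**(G,T), the subgroup generated by C_G(Ω₁(Z(T))) and N_G(J(T)) (J(T) generated by the elementary abelian p-subgroups of T of largest order). Put V = Ω₁(Z(O_p(G))) and C = C_G(V). Then there are subgroups E₁, …, E_r of G containing C such that: J(G)TC = G and the E_i C/C form an internal direct product equal to J(G)C/C; any two of the E_i are conjugate by an element of T; V = C_V(⟨E_i⟩)·∏[V, E_i] with [V, E_i, E_j] = 1 for i ≠ j; for some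 n ≥ 1, each E_i/C is isomorphic to SL₂(pⁿ), or p = 2 and to the symmetric group of degree 2ⁿ + 1; and E_i acts on [V, E_i]/C_{[V,E_i]}(E_i) as the natural two-dimensional SL₂(pⁿ)-module, respectively as the symmetric group of degree 2ⁿ+1 on its even-weight permutation module. -/
theorem result {G : Type*} [Group G] [Finite G] {p : ℕ} [Fact p.Prime] (hmin : Cfsg.IsPMinimal p G) (hG : Subgroup.centralizer (Cfsg.pCore p G : Set G) ≤ Cfsg.pCore p G) (T : Sylow p G) (hne : Cfsg.cStarStarOf p (T : Subgroup G) ≠ ⊤) : ∃ (r : ℕ) (E : Fin r → Subgroup G), (∀ i, Subgroup.centralizer (Cfsg.omegaOneCenter p (Cfsg.pCore p G) : Set G) ≤ E i) ∧ Cfsg.thompsonSubgroup p G ⊔ (T : Subgroup G) ⊔ Subgroup.centralizer (Cfsg.omegaOneCenter p (Cfsg.pCore p G) : Set G) = ⊤ ∧ (⨆ i, E i) = Cfsg.thompsonSubgroup p G ⊔ Subgroup.centralizer (Cfsg.omegaOneCenter p (Cfsg.pCore p G) : Set G) ∧ (∀ i j, i ≠ j → ⁅E i, E j⁆ ≤ Subgroup.centralizer (Cfsg.omegaOneCenter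 p (Cfsg.pCore p G) : Set G)) ∧ (∀ i, E i ⊓ (⨆ j ∈ {j | j ≠ i}, E j) ≤ Subgroup.centralizer (Cfsg.omegaOneCenter p (Cfsg.pCore p G) : Set G)) ∧ (∀ i j, ∃ t ∈ (T : Subgroup G), (E i).map (MulAut.conj t).toMonoidHom = E j) ∧ (Cfsg.omegaOneCenter p (Cfsg.pCore p G) ⊓ Subgroup.centralizer ((⨆ i, E i : Subgroup G) : Set G)) ⊔ (⨆ i, ⁅Cfsg.omegaOneCenter p (Cfsg.pCore p G), E i⁆) = Cfsg.omegaOneCenter p (Cfsg.pCore p G) ∧ (∀ i j, i ≠ j → ⁅⁅Cfsg.omegaOneCenter p (Cfsg.pCore p G), E i⁆, E j⁆ = ⊥) ∧ ∀ i, ∃ n : ℕ, 1 ≤ n ∧ ((∃ (F : Type) (_ : Field F) (_ : Fintype F), Fintype.card F = p ^ n ∧ (∃ _ : ((Subgroup.centralizer (Cfsg.omegaOneCenter p (Cfsg.pCore p G) : Set G)).subgroupOf (E i)).Normal, Nonempty (↥(E i) ⧸ (Subgroup.centralizer (Cfsg.omegaOneCenter p (Cfsg.pCore p G) : Set G)).subgroupOf (E i) ≃* Matrix.SpecialLinearGroup (Fin 2) F)) ∧ Cfsg.ActsAsSL2OnSection F ⊤ (E i) ⁅Cfsg.omegaOneCenter p (Cfsg.pCore p G), E i⁆ (⁅Cfsg.omegaOneCenter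 p (Cfsg.pCore p G), E i⁆ ⊓ Subgroup.centralizer ((E i : Subgroup G) : Set G))) ∨ (p = 2 ∧ (∃ _ : ((Subgroup.centralizer (Cfsg.omegaOneCenter p (Cfsg.pCore p G) : Set G)).subgroupOf (E i)).Normal, Nonempty (↥(E i) ⧸ (Subgroup.centralizer (Cfsg.omegaOneCenter p (Cfsg.pCore p G) : Set G)).subgroupOf (E i) ≃* Equiv.Perm (Fin (2 ^ n + 1)))) ∧ Cfsg.ActsAsOddPermModuleOnSection (2 ^ n + 1) ⊤ (E i) ⁅Cfsg.omegaOneCenter p (Cfsg.pCore p G), E i⁆ (⁅Cfsg.omegaOneCenter p (Cfsg.pCore p G), E i⁆ ⊓ Subgroup.centralizer ((E i : Subgroup G) : Set G)))) := by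
  have : NeZero p := ⟨(Fact.out : p.Prime).ne_zero⟩
  set V := omegaOneCenter p (pCore p G) with hVe
  have hV : IsElementaryAbelian p V := omegaOne_center_isEA _
  have : V.Normal := omegaOne_normal _
  let _ := quoAct hV
  have hT := isSyl_top T
  obtain ⟨M, hM⟩ := (CP.isPMinimal_iff_top hT).1 hmin
  have hOT : pCore p G ≤ T := by have := hT.pCoreOf_le; rwa [pCoreOf_top] at this
  have hVO : V ≤ pCore p G ⊓ 𝐂[pCore p G] := omegaOne_le _
  have hTZ : (T : Subgroup G) ≤ 𝐂[omegaOneCenter p (T : Subgroup G)] :=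
    cent_symm ((omegaOne_le _).trans inf_le_right)
  have hC : cStarStarOf p (T : Subgroup G) ≤ M :=
    hM.max _ (hTZ.trans le_sup_left) (lt_top_iff_ne_top.2 hne)
  have eZ : V ⊓ 𝐂[(T : Subgroup G)] = omegaOneCenter p (T : Subgroup G) := le_antisymm
    (isEA_le_omegaOne (isEA_mono hV inf_le_left)
      (inf_le_inf_right _ (hVO.trans (inf_le_left.trans hOT))))
    (le_inf (omegaOne_mono (le_inf ((inf_le_right.trans (Amb.centralizer_anti hOT)).trans hG)
      (inf_le_right.trans (Amb.centralizer_anti hOT)))) ((omegaOne_le _).trans inf_le_right))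
  have hCM : 𝐂[V] ≤ M := (Amb.centralizer_anti (eZ.ge.trans inf_le_left)).trans
    (le_sup_left.trans hC)
  have hOC : pCore p G ≤ 𝐂[V] := cent_symm (hVO.trans inf_le_right)
  set f := QuotientGroup.mk' 𝐂[V] with hf
  have hfs : Function.Surjective f := QuotientGroup.mk'_surjective _
  have hk : f.ker = 𝐂[V] := QuotientGroup.ker_mk' _
  have hT' := hT.map f
  have hM' := hM.map f (inf_le_right.trans (hk.le.trans hCM))
  rw [Subgroup.map_top_of_surjective f hfs] at hT' hM'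
  obtain ⟨A, hA, hAC⟩ : ∃ A ∈ maxEA p (T : Subgroup G), ¬ A ≤ 𝐂[V] := by
    by_contra k
    push Not at k
    have k1 := hM.le_normalizer_inf_syl hT le_rfl hCM (normalizer_eq_top _).ge
    have k2 := thompsonSubgroupOf_eq_of_le (U := (T : Subgroup G) ⊓ 𝐂[V])
      (le_inf (thompsonSubgroupOf_le _) (thompsonSubgroupOf_le_iff.2 k)) inf_le_left
    have k3 := k1.trans (normalizer_le_normalizer_thompsonSubgroupOf (p := p) _)
    rw [k2] at k3
    exact hM.lt.not_ge (k3.trans (le_sup_right.trans hC))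
  obtain ⟨r, E, -, e2, e3, e4, e5, e6, e7, e8, -, e9, e10, e11, -⟩ :=
    min_parabolic quo_faith EA.p_nsmul hT' hM' (pCore_quot_eq_bot hT hM hCM hOC)
      (fun g hg => by
        obtain ⟨g, rfl⟩ := hfs g
        have := mk_mem_cent_fx.1 hg
        rw [eZ] at this
        exact ⟨g, hC (mem_sup_left this), rfl⟩)
      (isEA_map hA.2.1 f) (fun e => hAC (by rwa [Subgroup.map_eq_bot_iff, hk] at e))
      (quo_off (isBestOffenderOn_of_mem_maxEA hV (hVO.trans (inf_le_left.trans hOT)) hA))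
  have : (thompsonSubgroup p G).Normal := thompsonSubgroup_normal
  have eJ : (⨆ i, E i) = (thompsonSubgroup p G).map f := le_antisymm
    (e11 _ (Normal.map inferInstance f hfs)
      (Subgroup.map_mono (le_thompsonSubgroup (maxEA_sylow_subset T hA))))
    (map_le_iff_le_comap.2 (thompsonSubgroup_le_iff.2 fun B hB => map_le_iff_le_comap.1
      (e10 _ (isEA_map hB.1 f) (quo_off (isBestOffenderOn_of_mem_maxEA hV le_top
        (by rwa [maxEA_top]))))))
  have r0 : Nonempty (Fin r) := by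
    by_contra k
    rw [not_nonempty_iff] at k
    rw [iSup_of_empty, eq_comm, Subgroup.map_eq_bot_iff, hk] at eJ
    exact hAC ((le_thompsonSubgroup (maxEA_sylow_subset T hA)).trans eJ)
  have hle : ∀ i, 𝐂[V] ≤ (E i).comap f := fun i => hk.ge.trans (ker_le_comap f _)
  have mc : ∀ X : Subgroup (G ⧸ 𝐂[V]), (X.comap f).map f = X := fun X =>
    map_comap_eq_self_of_surjective hfs X
  have eS : (⨆ i, (E i).comap f) = (⨆ i, E i).comap f := by
    obtain ⟨i⟩ := r0
    rw [← comap_map_eq_self (f := f) (H := ⨆ i, (E i).comap f)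
      (hk.le.trans ((hle i).trans (le_iSup (fun i => (E i).comap f) i))), Subgroup.map_iSup]
    simp only [mc]
  refine ⟨r, fun i => (E i).comap f, hle, ?_, ?_, fun i j hij => ?_, fun i => ?_, fun i j => ?_,
    ?_, fun i j hij => (rel_quo' _).comm_eq_bot (rel_quo' _) (e7 i j hij), fun i => ?_⟩
  · rw [← hk, ← comap_map_eq, Subgroup.map_sup, ← eJ, e4, comap_top]
  · rw [eS, eJ, comap_map_eq, hk]
  · refine le_trans ?_ hk.le
    rw [← Subgroup.map_eq_bot_iff, map_commutator, mc, mc]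
    exact commutator_eq_bot_iff_le_centralizer.2 (e2 i j hij)
  · refine le_trans ?_ hk.le
    rw [← Subgroup.map_eq_bot_iff, eq_bot_iff, ← e3 i]
    refine (Subgroup.map_inf_le _ _ _).trans ?_
    simp only [Subgroup.map_iSup, mc, le_rfl]
  · obtain ⟨_, ⟨t, ht, rfl⟩, e⟩ := e5 i j
    refine ⟨t, ht, ?_⟩
    dsimp only
    rw [← e]
    ext x
    rw [mem_cj, mem_comap, mem_comap, mem_cj, map_mul, map_mul, map_inv]
  · rw [eS]; exact sup_eq_of_top (rel_quo' _) (fun i => rel_quo' _) e6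
  · obtain ⟨π, hs, hπ, iso⟩ := exists_quo_hom 𝐂[V] (E i)
    have ha : ∀ e : (E i).comap f, Acts hV (e : G) (π e : G ⧸ 𝐂[V]) := fun e => by
      rw [hπ]; exact acts_quo _
    obtain ⟨n, hn, ⟨F, _, _, hF, -, k⟩ | ⟨hp, k⟩⟩ := e9 i
    · exact ⟨n, hn, Or.inl ⟨F, _, _, hF, ⟨inferInstance, iso.map2 MulEquiv.trans k.nonempty⟩,
        k.actsAs π hs ha (e8 i)⟩⟩
    · exact ⟨n, hn, Or.inr ⟨hp, ⟨inferInstance, iso.map2 MulEquiv.trans k.nonempty⟩,
        k.actsAs π hs ha (e8 i)⟩⟩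

end Cfsg.Agent.S2981
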