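import Cfsg.Statements.S2982
import Cfsg.Agent.PLocal.BkMainD

set_option autoImplicit false
open Cfsg

namespace Cfsg.Agent.S2982

/-- Pushing up for minimal parabolic groups. Let G be a finite p-minimal group (a Sylow p-subgroup T is not normal and lies in exactly one maximal subgroup) of characteristic p (C_G(O_p(G)) ≤ O_p(G)). Suppose that no nontrivial characteristic subgroup of the Baumann subgroup B(T) is normal in G and that Ω₁(Z(T)) is not normal in G. Then G has a set of B(T)-blocks with the block structure of the local C*(G,T)-Theorem, every block E with E/O_p(E) alternating of degree 2m+1 (p = 2) has 2m+1 = 2ⁿ+1, and C*(G,T) = (C*(G,T) ∩ ⟨blocks⟩)·T. -/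
theorem result {G : Type*} [Group G] [Finite G] {p : ℕ} [Fact p.Prime] (hmin : Cfsg.IsPMinimal p G) (hG : Subgroup.centralizer (Cfsg.pCore p G : Set G) ≤ Cfsg.pCore p G) (T : Sylow p G) (hchar : ∀ C : Subgroup G, C ≤ Cfsg.baumannSubgroupOf p (T : Subgroup G) → C ≠ ⊥ → (C.subgroupOf (Cfsg.baumannSubgroupOf p (T : Subgroup G))).Characteristic → ¬ C.Normal) (hz : ¬ (Cfsg.omegaOneCenter p (T : Subgroup G)).Normal) : ∃ 𝓑 : Set (Subgroup G), Cfsg.HasBaumannBlockStructure p (T : Subgroup G) 𝓑 ∧ (∀ E ∈ 𝓑, ∀ m : ℕ, Nonempty (↥E ⧸ Cfsg.pCore p ↥E ≃* ↥(alternatingGroup (Fin (2 * m + 1)))) → ∃ n : ℕ, 2 * m + 1 = 2 ^ n + 1) ∧ Cfsg.cStarOf p (T : Subgroup G) = (Cfsg.cStarOf p (T : Subgroup G) ⊓ sSup 𝓑) ⊔ (T : Subgroup G) := by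
  have hT := PLocal.Amb.isSyl_top T
  obtain ⟨-, P, ⟨hP, -⟩, hu⟩ := hmin T
  have k : ∀ X : Subgroup G, (T : Subgroup G) ≤ X → X ≠ ⊤ → X ≤ P := fun X h1 h2 => by
    obtain ⟨Q, hQ, h3⟩ := (eq_top_or_exists_le_coatom X).resolve_left h2
    exact hu Q ⟨hQ, h1.trans h3⟩ ▸ h3
  have k2 : ∀ C B : Subgroup G, PLocal.Bk.Ch B C → (T : Subgroup G) ≤ Subgroup.normalizer (B : Set G) →
      ¬ C.Normal → Subgroup.normalizer (C : Set G) ≤ P := fun C B h1 h2 h3 =>
    k _ (h2.trans h1.normalizer_le) fun e => h3 (Subgroup.normalizer_eq_top_iff.1 e)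
  have hTM : (T : Subgroup G) ≤ cStarOf p (T : Subgroup G) :=
    (PLocal.CP.le_centralizer_omegaZ (p := p) (T : Subgroup G)).trans le_sup_left
  have hle : cStarOf p (T : Subgroup G) ≤ P := sup_le
    ((Subgroup.centralizer_le_normalizer _).trans
      (k2 _ _ (PLocal.Bk.ch_omegaZ (T : Subgroup G)) Subgroup.le_normalizer hz))
    (iSup_le fun C => k2 _ _ ⟨C.2.1, C.2.2.2⟩
      (Subgroup.le_normalizer.trans (PLocal.Bk.normalizer_le_normalizer_baumann _))
      (hchar C C.2.1 C.2.2.1 C.2.2.2))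
  have hne : cStarOf p (T : Subgroup G) ≠ ⊤ := fun e => hP.1 (top_le_iff.1 (e ▸ hle))
  have ms := PLocal.Bk.ms_cStar hG hT hne
  refine ⟨_, PLocal.Bk.hasStructure hG hT hne, fun E hE m e =>
    ms.deg hT rfl hle hP.1 (fun C h1 _ h3 => k2 C _ h1 Subgroup.le_normalizer h3) hE m e, ?_⟩
  have := ms.normal_bb
  have e : (T : Subgroup G) ⊔ sSup (PLocal.Bk.BB p (baumannSubgroupOf p (T : Subgroup G))
      (cStarOf p (T : Subgroup G))) = ⊤ := by
    by_contra h
    exact hP.1 (top_le_iff.1 ((ms.sup_bb hT (PLocal.Bk.baumann_le _)).ge.trans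
      (sup_le hle (le_sup_right.trans (k _ le_sup_left h)))))
  rw [sup_comm, inf_comm, ← PLocal.Amb.sup_inf_of_le_normalizer hTM
    Subgroup.le_normalizer_of_normal, e, top_inf_eq]

end Cfsg.Agent.S2982
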