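import Mathlib
import Cfsg.Statements.S2984
import Cfsg.Agent.PLocal.BkBas
import Cfsg.Agent.PLocal.BkConv
-- import your own Cfsg.Agent.* helpers here

set_option autoImplicit false
open Cfsg

namespace Cfsg.Agent.S2984

open Cfsg.Agent.PLocal

/-- Let G be a finite group of characteristic p (C_G(O_p(G)) ≤ O_p(G)), T a Sylow p-subgroup and E a B(T)-block of G, with W_E = [Ω₁(Z(O_p(E))), E]. Then E = O^p(E·O_p(G)), W_E ≤ Ω₁(Z(O_p(G))), and [W_E, J(T)] ≠ 1, where J(T) is generated by the elementary abelian p-subgroups of T of largest order. -/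
theorem result {G : Type*} [Group G] [Finite G] {p : ℕ} [Fact p.Prime] (hG : Subgroup.centralizer (Cfsg.pCore p G : Set G) ≤ Cfsg.pCore p G) (T : Sylow p G) (E : Subgroup G) (hE : Cfsg.IsBaumannBlock p (T : Subgroup G) E) : Cfsg.pResidualOf p (E ⊔ Cfsg.pCore p G) = E ∧ ⁅Cfsg.omegaOneCenter p (Cfsg.pCoreOf p E), E⁆ ≤ Cfsg.omegaOneCenter p (Cfsg.pCore p G) ∧ ⁅⁅Cfsg.omegaOneCenter p (Cfsg.pCoreOf p E), E⁆, Cfsg.thompsonSubgroupOf p (T : Subgroup G)⁆ ≠ ⊥ := by
  have hT := Amb.isSyl_top T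
  obtain ⟨h, hz⟩ := (Bk.isBlock_iff hT le_top).1 hE
  have hB := Bk.bau_baumann hT
  have hc : CP.IsCharP p (⊤ : Subgroup G) := by
    show _ ⊓ _ ≤ _
    rw [Amb.pCoreOf_top]; exact inf_le_right.trans hG
  have hO := hc.omegaZ_le hT
  rw [Amb.pCoreOf_top] at hO
  refine ⟨(Amb.pRes_sup_eq (Amb.isPGroup_pCore' p G) (h.core_le_norm hB)).trans h.res,
    h.W_le_V hB fun k => hz (k.trans (Amb.centralizer_anti hO)), fun k => h.not_J_le ?_⟩
  rw [← hB.J_eq T.isPGroup' (Bk.baumann_le _) le_top, Subgroup.le_centralizer_iff]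
  exact Subgroup.commutator_eq_bot_iff_le_centralizer.1 k

end Cfsg.Agent.S2984
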