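import Cfsg.Statements.S2986
import Cfsg.Agent.PLocal.BkSub
import Cfsg.Agent.PLocal.BkConv

set_option autoImplicit false
open Cfsg

namespace Cfsg.Agent.S2986

open Subgroup Cfsg.Agent.PLocal.Amb Cfsg.Agent.PLocal Cfsg.Agent.PLocal.Bk Cfsg.Agent.Grp
open scoped Cfsg.Agent.PLocal.CP

/-- Let G be a finite group of characteristic p (C_G(O_p(G)) ≤ O_p(G)). If E and F are subnormal subgroups of G each of which is a B(T)-block of G for some Sylow p-subgroup T of G (possibly different ones), then E = F or [E, F] = 1. -/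
theorem result {G : Type*} [Group G] [Finite G] {p : ℕ} [Fact p.Prime] (hG : Subgroup.centralizer (Cfsg.pCore p G : Set G) ≤ Cfsg.pCore p G) (E F : Subgroup G) (hE : ∃ T : Sylow p G, Cfsg.IsBaumannBlock p (T : Subgroup G) E) (hF : ∃ T : Sylow p G, Cfsg.IsBaumannBlock p (T : Subgroup G) F) (hEs : E.IsSubnormal) (hFs : F.IsSubnormal) : E = F ∨ ⁅E, F⁆ = ⊥ := by
  obtain ⟨T, hT⟩ := hE
  obtain ⟨T', hT'⟩ := hF
  have hc : CP.IsCharP p (⊤ : Subgroup G) := CP.isCharP_top_iff.2 hG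
  have key : ∀ (T : Sylow p G) (E : Subgroup G), ¬ E ≤ 𝐂[ΩZ[p, (T : Subgroup G)]] →
      ¬ E ≤ 𝐂[ΩZ[p, pCore p G]] := fun T E h k => h (k.trans (Amb.centralizer_anti (by
    have := hc.omegaZ_le (isSyl_top T); rwa [pCoreOf_top] at this)))
  obtain ⟨a, b⟩ := (isBlock_iff (isSyl_top T) le_top).1 hT
  obtain ⟨a', b'⟩ := (isBlock_iff (isSyl_top T') le_top).1 hT'
  exact (a.eq_or_comm a' hc (bau_baumann (isSyl_top T)) (bau_baumann (isSyl_top T')) (key T E b)
    (key T' F b') (snIn_top_iff.2 hEs) (snIn_top_iff.2 hFs)).imp_right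
      commutator_eq_bot_iff_le_centralizer.2

end Cfsg.Agent.S2986
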