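import Cfsg.Statements.S2987
import Cfsg.Agent.PLocal.BkSub
import Cfsg.Agent.PLocal.BkConv

set_option autoImplicit false
open Cfsg

namespace Cfsg.Agent.S2987

open Subgroup Cfsg.Agent.PLocal.Amb Cfsg.Agent.PLocal Cfsg.Agent.PLocal.Bk Cfsg.Agent.Grp
open scoped Cfsg.Agent.PLocal.CP

/-- Let G be a finite group of characteristic p (C_G(O_p(G)) ≤ O_p(G)) and E a subnormal subgroup of G which is a B(T)-block for some Sylow p-subgroup T of G. Then E is a normal subgroup of the Baumann subgroup B(G) (generated by the B(T) over all Sylow p-subgroups T), E is a B(T')-block for every Sylow p-subgroup T' of G, and every subgroup F that is a B(T')-block for some Sylow p-subgroup T' satisfies F ≤ E or [F, E] = 1. -/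
theorem result {G : Type*} [Group G] [Finite G] {p : ℕ} [Fact p.Prime] (hG : Subgroup.centralizer (Cfsg.pCore p G : Set G) ≤ Cfsg.pCore p G) (E : Subgroup G) (hE : ∃ T : Sylow p G, Cfsg.IsBaumannBlock p (T : Subgroup G) E) (hEs : E.IsSubnormal) : E ≤ Cfsg.baumannSubgroup p G ∧ Cfsg.baumannSubgroup p G ≤ Subgroup.normalizer (E : Set G) ∧ (∀ T' : Sylow p G, Cfsg.IsBaumannBlock p (T' : Subgroup G) E) ∧ ∀ F : Subgroup G, (∃ T' : Sylow p G, Cfsg.IsBaumannBlock p (T' : Subgroup G) F) → F ≤ E ∨ ⁅F, E⁆ = ⊥ := by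
  obtain ⟨T, hT⟩ := hE
  have hc : CP.IsCharP p (⊤ : Subgroup G) := CP.isCharP_top_iff.2 hG
  have key : ∀ (T : Sylow p G) (E : Subgroup G), ¬ E ≤ 𝐂[ΩZ[p, (T : Subgroup G)]] →
      ¬ E ≤ 𝐂[ΩZ[p, pCore p G]] := fun T E h k => h (k.trans (Amb.centralizer_anti (by
    have := hc.omegaZ_le (isSyl_top T); rwa [pCoreOf_top] at this)))
  obtain ⟨a, b⟩ := (isBlock_iff (isSyl_top T) le_top).1 hT
  have s := snIn_top_iff.2 hEs
  have hB := bau_baumann (isSyl_top T)
  have blk : ∀ T' : Sylow p G, Blk p 𝐁[p, (T' : Subgroup G)] E := fun T' =>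
    a.of_bau hc hB (key T E b) s (bau_baumann (isSyl_top T'))
  refine ⟨?_, iSup_le fun T' => (blk T').B_le_norm, fun T' =>
    (isBlock_iff (isSyl_top T') le_top).2 ⟨blk T', fun k => b ?_⟩, ?_⟩
  · rw [← a.comm, Subgroup.commutator_comm]
    refine (CP.commutator_le_ncl _ _).trans (CP.ncl_le_iff.2 fun g _ => ?_)
    rw [← baumann_cj, ← coe_smul_sylow]
    exact le_iSup (fun T : Sylow p G => 𝐁[p, (T : Subgroup G)]) (g • T)
  · obtain ⟨e, he, h⟩ := (CP.isSyl_inf_of_snIn (isSyl_top T) s).exists_cj_eq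
      (CP.isSyl_inf_of_snIn (isSyl_top T') s)
    have k1 := le_inf le_rfl k
    rw [hc.kieler (isSyl_top T') s] at k1
    have k2 := cj_mono e (k1.trans inf_le_right)
    rw [cj_of_mem he, ← centralizer_cj, ← CP.omegaZ_cj, h] at k2
    have k3 := le_inf le_rfl k2
    rw [← hc.kieler (isSyl_top T) s] at k3
    exact k3.trans inf_le_right
  · rintro F ⟨T', hT'⟩
    obtain ⟨a', b'⟩ := (isBlock_iff (isSyl_top T') le_top).1 hT'
    exact ((blk T').le_or_comm a' hc (bau_baumann (isSyl_top T')) (key T E b) (key T' F b')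
      s).imp_right commutator_eq_bot_iff_le_centralizer.2

end Cfsg.Agent.S2987
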