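import Mathlib
import Cfsg.Statements.S3000
import Cfsg.Agent.PLocal.TVAmb2
-- import your own Cfsg.Agent.* helpers here

set_option autoImplicit false
open Cfsg

namespace Cfsg.Agent.S3000

open Subgroup Cfsg.Agent.PLocal Cfsg.Agent.PLocal.Amb Cfsg.Agent.PLocal.TV

/-- Let p be a prime and let P and V be subgroups of a finite group with V elementary abelian, P normalizing V and acting faithfully on it (P ∩ C(V) = 1). Suppose P is p-minimal (a Sylow p-subgroup T of P is not normal and lies in a unique maximal subgroup M of P), O_p(P) = 1, C_P(C_V(T)) ≤ M, and P has a best offender on V: a subgroup A not centralizing V, with A/C_A(V) elementary abelian, such that |B|·|C_V(B)| ≤ |A|·|C_V(A)| for every subgroup B of A. Then there are subgroups E₁, …, E_r of P (r ≥ 1), pairwise commuting and forming with T a product P = (E₁ × ⋯ × E_r)T (internal direct product of the E_i), any two of which are conjugate by an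 element of T, such that V = C_V(E₁⋯E_r)·∏[V, E_i] with [V, E_i, E_j] = 1 for i ≠ j, and for each i there is n ≥ 1 with either E_i ≅ SL₂(pⁿ) acting on [V, E_i]/C_{[V,E_i]}(E_i) as on its natural two-dimensional module, or p = 2 and E_i isomorphic to the symmetric group of degree 2ⁿ + 1 acting on [V, E_i]/C_{[V,E_i]}(E_i) as on its even-weight permutation module. -/
theorem result {G : Type*} [Group G] [Finite G] {p : ℕ} [Fact p.Prime] (V P : Subgroup G) (hV : Cfsg.IsElementaryAbelian p V) (hPV : P ≤ Subgroup.normalizer (V : Set G)) (hfaith : P ⊓ Subgroup.centralizer (V : Set G) = ⊥) (hmin : Cfsg.IsPMinimal p ↥P) (T : Sylow p ↥P) (M : Subgroup ↥P) (hM : IsCoatom M) (hTM : (T : Subgroup ↥P) ≤ M) (hOp : Cfsg.pCore p ↥P = ⊥) (hoff : ∃ A : Subgroup G, A ≤ P ∧ ¬ A ≤ Subgroup.centralizer (V : Set G) ∧ Cfsg.IsBestOffenderOn p V A) (hCT : P ⊓ Subgroup.centralizer ((V ⊓ Subgroup.centralizer ((((T : Subgroup ↥P).map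 P.subtype) : Subgroup G) : Set G)) : Set G) ≤ M.map P.subtype) : ∃ (r : ℕ) (E : Fin r → Subgroup G), 1 ≤ r ∧ (∀ i, E i ≤ P) ∧ (∀ i j, i ≠ j → ⁅E i, E j⁆ = ⊥) ∧ (∀ i, E i ⊓ (⨆ j ∈ {j | j ≠ i}, E j) = ⊥) ∧ (⨆ i, E i) ⊔ ((T : Subgroup ↥P).map P.subtype) = P ∧ (∀ i j, ∃ t ∈ ((T : Subgroup ↥P).map P.subtype), (E i).map (MulAut.conj t).toMonoidHom = E j) ∧ (V ⊓ Subgroup.centralizer (((⨆ i, E i) : Subgroup G) : Set G)) ⊔ (⨆ i, ⁅V, E i⁆) = V ∧ (∀ i j, i ≠ j → ⁅⁅V, E i⁆, E j⁆ = ⊥) ∧ ∀ i, ∃ n : ℕ, 1 ≤ n ∧ ((∃ (F : Type) (_ : Field F) (_ : Fintype F), Fintype.card F = p ^ n ∧ Nonempty (↥(E i) ≃* Matrix.SpecialLinearGroup (Fin 2) F) ∧ Cfsg.ActsAsSL2OnSection F ⊤ (E i) ⁅V, E i⁆ (⁅V, E i⁆ ⊓ Subgroup.centralizer ((E i : Subgroup G) : Set G))) ∨ (p = 2 ∧ Nonempty (↥(E i) ≃* Equiv.Perm (Fin (2 ^ n + 1))) ∧ Cfsg.ActsAsOddPermModuleOnSection (2 ^ n + 1) ⊤ (E i) ⁅V, E i⁆ (⁅V, E i⁆ ⊓ Subgroup.centralizer ((E i : Subgroup G) :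 Set G)))) := by
  have : NeZero p := ⟨(Fact.out : p.Prime).ne_zero⟩
  let _ := subAct hV P hPV
  obtain ⟨M', hM'⟩ := (CP.isPMinimal_iff_top (isSyl_top T)).1 hmin
  obtain rfl : M = M' := hM.le_iff_eq hM'.lt.ne |>.1 (hM'.max M hTM hM.lt_top) |>.symm
  obtain ⟨X, h1, h2, h3⟩ := sub_off (hV := hV) hPV hfaith hoff
  have hC : cent P (fx (EA hV) (T : Subgroup P)) ≤ M := fun g hg => by
    refine mem_map_subtype.1 (hCT ⟨g.2, mem_centralizer_iff.2 fun x hx => ?_⟩)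
    have hx' : x ∈ V ⊓ 𝐂[(T : Subgroup P).map P.subtype] := hx
    rw [← (rel_sub (hV := hV) hPV _).toG_fx] at hx'
    obtain ⟨v, hv, rfl⟩ := mem_toG.1 hx'
    exact ((acts_sub hPV g).smul_eq_iff.1 (hg v hv)).symm
  obtain ⟨r, E, e1, e2, e3, e4, e5, e6, e7, e8, -, e9, -⟩ :=
    min_parabolic (sub_faith hPV hfaith) EA.p_nsmul (isSyl_top T) hM' hOp hC h1 h2 h3
  have inj := P.subtype_injective
  have π : ∀ i, ∃ π : (E i).map P.subtype ≃* E i, ∀ e : (E i).map P.subtype, Acts hV (e : G) (π e : P) := fun i =>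
    ⟨((E i).equivMapOfInjective _ inj).symm, fun e => by
      obtain ⟨e, rfl⟩ := ((E i).equivMapOfInjective _ inj).surjective e
      rw [MulEquiv.symm_apply_apply]
      exact acts_sub hPV _⟩
  refine ⟨r, fun i => (E i).map P.subtype, e1, fun i => map_subtype_le _, fun i j hij => ?_,
    fun i => ?_, ?_, fun i j => ?_, ?_, fun i j hij => ?_, fun i => ?_⟩
  · rw [← map_commutator, commutator_eq_bot_iff_le_centralizer.2 (e2 i j hij), Subgroup.map_bot]
  · have := congrArg (Subgroup.map P.subtype) (e3 i)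
    rw [Subgroup.map_inf _ _ _ inj, Subgroup.map_bot] at this
    simpa only [Subgroup.map_iSup] using this
  · rw [← Subgroup.map_iSup, ← Subgroup.map_sup, e4, ← MonoidHom.range_eq_map, range_subtype]
  · obtain ⟨t, ht, e⟩ := e5 i j
    exact ⟨t, ⟨t, ht, rfl⟩, by dsimp only; rw [← e, map_subtype_cj]⟩
  · rw [← Subgroup.map_iSup]
    exact sup_eq_of_top (rel_sub hPV _) (fun i => rel_sub hPV _) e6
  · exact (rel_sub hPV _).comm_eq_bot (rel_sub hPV _) (e7 i j hij)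
  · obtain ⟨π, hπ⟩ := π i
    obtain ⟨n, hn, ⟨F, _, _, hF, -, k⟩ | ⟨hp, k⟩⟩ := e9 i
    · exact ⟨n, hn, Or.inl ⟨F, _, _, hF, k.nonempty.map π.trans,
        k.actsAs π.toMonoidHom π.surjective hπ (e8 i)⟩⟩
    · exact ⟨n, hn, Or.inr ⟨hp, k.nonempty.map π.trans,
        k.actsAs π.toMonoidHom π.surjective hπ (e8 i)⟩⟩

end Cfsg.Agent.S3000
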