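import Mathlib
import Cfsg.Statements.S3017
import Cfsg.Agent.PLocal.ExtClosed
import Cfsg.Agent.PLocal.PSolv
import Cfsg.Agent.PLocal.StrongPEmb
import Cfsg.Agent.Inv.ZStarCor
import Cfsg.Agent.Inv.Isolated
-- import your own Cfsg.Agent.* helpers here

set_option autoImplicit false
open Cfsg

namespace Cfsg.Agent.S3017

open Cfsg.Agent.PLocal Cfsg.Agent.PLocal.Amb Subgroup

universe u

section
variable {G : Type*} [Group G]

/-- odd product relation -/
def Rel (s t : G) : Prop := Odd (orderOf (s * t))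

theorem Rel.symm' {s t : G} (h : Rel s t) : Rel t s := by
  unfold Rel at *
  rwa [show t * s = t * (s * t) * t⁻¹ by group, Inv.orderOf_conj_eq]

theorem Rel.conj {s t : G} (h : Rel s t) (g : G) : Rel (g * s * g⁻¹) (g * t * g⁻¹) := by
  unfold Rel at *
  rwa [show g * s * g⁻¹ * (g * t * g⁻¹) = g * (s * t) * g⁻¹ by group, Inv.orderOf_conj_eq]

theorem odd_of_mem {Q : Subgroup G} (hQ : (Nat.card Q).Coprime 2) {x : G} (hx : x ∈ Q) :
    Odd (orderOf x) := Nat.coprime_two_right.1 (Transfer.coprime_orderOf_of_mem hQ hx)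

theorem rel_of_mem {Q : Subgroup G} (hQ : (Nat.card Q).Coprime 2) {u y : G} (hu : u * u = 1)
    (hn : u ∈ 𝐍[Q]) (hy : y ∈ Q) : Rel (y * u * y⁻¹) u := by
  apply odd_of_mem hQ
  have h1 := mul_mem hy (conj_mem_of_mem_normalizer hn (inv_mem hy))
  rwa [inv_eq_of_mul_eq_one_right hu, ← mul_assoc, ← mul_assoc] at h1

/-- `a ≡ b` modulo `Q` implies `a ^ n ≡ b ^ n` -/
theorem pow_mod {Q : Subgroup G} {a b : G} (hb : b ∈ 𝐍[Q]) (h : b⁻¹ * a ∈ Q) (n : ℕ) :
    (b ^ n)⁻¹ * a ^ n ∈ Q := by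
  induction n with
  | zero => simp
  | succ n ih =>
    have := mul_mem (inv_conj_mem_of_mem_normalizer hb ih) h
    rw [pow_succ', pow_succ]
    convert this using 1
    group

theorem odd_pow_invol {w : G} (hw : w * w = 1) {n : ℕ} (hn : Odd n) : w ^ n = w := by
  obtain ⟨k, rfl⟩ := hn
  rw [pow_succ, pow_mul, pow_two, hw, one_pow, one_mul]

/-- conjugates of involutions of `H` -/
def DD (H : Subgroup G) : Set G := {d | ∃ g : G, ∃ u ∈ H, orderOf u = 2 ∧ d = g * u * g⁻¹}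

theorem DD.conj {H : Subgroup G} {d : G} (h : d ∈ DD H) (g : G) : g * d * g⁻¹ ∈ DD H := by
  obtain ⟨a, u, hu, hu2, rfl⟩ := h
  exact ⟨g * a, u, hu, hu2, by group⟩

theorem DD.ord {H : Subgroup G} {d : G} (h : d ∈ DD H) : orderOf d = 2 := by
  obtain ⟨a, u, hu, hu2, rfl⟩ := h
  rwa [Inv.orderOf_conj_eq]

theorem DD.self {H : Subgroup G} {u : G} (hu : u ∈ H) (h2 : orderOf u = 2) : u ∈ DD H :=
  ⟨1, u, hu, h2, by simp⟩

variable [Finite G] {H : Subgroup G} (hH2 : IsPGroup 2 H) (hHab : IsMulCommutative H)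
  (hcl : IsExtremelyClosed H)

omit [Finite G] in
include hHab in
theorem hcomm {a b : G} (ha : a ∈ H) (hb : b ∈ H) : a * b = b * a :=
  congrArg Subtype.val (mul_comm' (⟨a, ha⟩ : H) ⟨b, hb⟩)

include hH2 hHab hcl in
theorem F1 {d : G} (hd : d ∈ DD H) : ∃ Q : Subgroup G, (Nat.card Q).Coprime 2 ∧ H ≤ 𝐍[Q] ∧
    (∀ x ∈ H ⊔ Q, Odd (orderOf x) → x ∈ Q) ∧ IsSyl 2 H (H ⊔ Q) ∧
    ∃ y ∈ Q, ∃ w ∈ H, orderOf w = 2 ∧ d = y * w * y⁻¹ := by
  obtain ⟨g, u, hu, hu2, rfl⟩ := hd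
  have h1 := ext_hasNormalPComplement hH2 hHab hcl g
  have h2 := ext_isSyl hH2 hcl g
  have h3 := h2.pRes_sup
  have hn : H ≤ 𝐍[𝐎[2, H ⊔ cj(g, H)]] := le_sup_left.trans (le_normalizer_pRes 2 _)
  refine ⟨_, coprime_card_pRes h1, hn, fun x hx hx2 => mem_pRes ?_ (Nat.coprime_two_right.2 hx2),
    ?_, ?_⟩
  · rwa [sup_comm, h3] at hx
  · rwa [sup_comm, h3]
  · obtain ⟨c, hc, hc2⟩ := h2.exists_le_cj (isPGroup_cj g hH2) le_sup_right
    rw [← h3] at hc
    obtain ⟨y, hy, a, ha, rfl⟩ := (mem_sup_of_le_normalizer_left hn).1 hc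
    rw [cj_mul, cj_of_mem ha] at hc2
    obtain ⟨w, hw, hw2⟩ := mem_cj_iff_exists.1 (hc2 (conj_mem_cj g hu))
    refine ⟨y, hy, w, hw, ?_, hw2.symm⟩
    rw [← Inv.orderOf_conj_eq y, hw2, Inv.orderOf_conj_eq, hu2]

omit hHab in
include hH2 in
theorem eq_one_of_mem {Q : Subgroup G} (hQ : (Nat.card Q).Coprime 2) {x : G} (h1 : x ∈ H)
    (h2 : x ∈ Q) : x = 1 := by
  rw [← mem_bot, ← Grp.inf_eq_bot_of_isPGroup_of_coprime hH2 hQ]
  exact mem_inf.2 ⟨h1, h2⟩

omit hHab in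
include hH2 in
theorem F2aux {Q : Subgroup G} (hQ : (Nat.card Q).Coprime 2) (hn : H ≤ 𝐍[Q])
    (hodd : ∀ x ∈ H ⊔ Q, Odd (orderOf x) → x ∈ Q) {y w u : G} (hy : y ∈ Q) (hw : w ∈ H)
    (hu : u ∈ H) (hu2 : u * u = 1) (h : Rel (y * w * y⁻¹) u) : w = u := by
  have h1 := hodd _ (mul_mem (mul_mem (mul_mem (mem_sup_right hy) (mem_sup_left hw))
    (mem_sup_right (inv_mem hy))) (mem_sup_left hu)) h
  have h2 : w * u ∈ Q := by
    have := mul_mem (inv_mem (mul_mem hy (conj_mem_of_mem_normalizer (hn hw) (inv_mem hy)))) h1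
    convert this using 1
    group
  have h3 := eq_one_of_mem hH2 hQ (mul_mem hw hu) h2
  rw [← hu2] at h3
  exact mul_right_cancel h3

include hH2 hHab hcl in
theorem F2 {d u v : G} (hd : d ∈ DD H) (hu : u ∈ H) (hu2 : u * u = 1) (hv : v ∈ H)
    (hv2 : v * v = 1) (h1 : Rel d u) (h2 : Rel d v) : u = v := by
  obtain ⟨Q, hQ, hn, hodd, -, y, hy, w, hw, -, rfl⟩ := F1 hH2 hHab hcl hd
  rw [← F2aux hH2 hQ hn hodd hy hw hu hu2 h1, ← F2aux hH2 hQ hn hodd hy hw hv hv2 h2]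

include hH2 hHab hcl in
theorem F3 {d : G} (hd : d ∈ DD H) : ∃ u ∈ H, orderOf u = 2 ∧ Rel d u := by
  obtain ⟨Q, hQ, hn, -, -, y, hy, w, hw, hw2, rfl⟩ := F1 hH2 hHab hcl hd
  exact ⟨w, hw, hw2, rel_of_mem hQ (Inv.mul_self_of_orderOf_eq_two hw2) (hn hw) hy⟩

variable (O : G → Subgroup G) (hO : ∀ t ∈ H, orderOf t = 2 → (Nat.card (O t)).Coprime 2 ∧
  O t ≤ centralizer ({t} : Set G) ∧ H ≤ 𝐍[O t] ∧
  ∀ c ∈ centralizer ({t} : Set G), ∃ o ∈ O t, cj(c, H) = cj(o, H))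

include hH2 hHab hcl hO in
theorem L1 {t d : G} (ht : t ∈ H) (ht2 : orderOf t = 2) (hd : d ∈ DD H)
    (hc : d ∈ centralizer ({t} : Set G)) : ∃ o ∈ O t, ∃ w ∈ H, orderOf w = 2 ∧ d = o * w * o⁻¹ := by
  have hHC : H ≤ centralizer ({t} : Set G) := fun x hx =>
    mem_centralizer_singleton_iff.2 (hcomm hHab hx ht)
  obtain ⟨S, hS, hHS⟩ := exists_isSyl_ge hH2 hHC
  have hd2 := DD.ord hd
  obtain ⟨c, hc1, hc2⟩ := hS.exists_cj_le (isPGroup_zpowers (x := d)
    ⟨1, by rw [pow_one, ← hd2, pow_orderOf_eq_one]⟩) ((zpowers_le).2 hc)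
  have h1 : c * d * c⁻¹ ∈ 𝐍[H] := ext_normalizer_le hH2 hcl hS.pgrp hHS
    (le_normalizer (cj_le_iff_forall.1 hc2 d (mem_zpowers d)))
  obtain ⟨g, u, hu, -, rfl⟩ := hd
  have h2 := ext_conj_mem hcl hu (g := c * g) (by convert h1 using 1; group)
  obtain ⟨o, ho, ho2⟩ := (hO t ht ht2).2.2.2 c⁻¹ (inv_mem hc1)
  have h3 : g * u * g⁻¹ ∈ cj(o, H) := by
    rw [← ho2, mem_cj]
    convert h2 using 1
    group
  obtain ⟨w, hw, hw2⟩ := mem_cj_iff_exists.1 h3
  exact ⟨o, ho, w, hw, by rw [← Inv.orderOf_conj_eq o, hw2, hd2], hw2.symm⟩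

include hH2 hHab hcl hO in
theorem L2 {t u s : G} (ht : t ∈ H) (ht2 : orderOf t = 2) (hu : u ∈ H) (hu2 : orderOf u = 2)
    (htu : t ≠ u) (hs : s ∈ DD H) (h : Rel s u) :
    ∃ o ∈ O t, ∃ o' ∈ O (t * u), s = o * (o' * u * o'⁻¹) * o⁻¹ := by
  have htt := Inv.mul_self_of_orderOf_eq_two ht2
  have huu := Inv.mul_self_of_orderOf_eq_two hu2
  have hss := Inv.mul_self_of_orderOf_eq_two (DD.ord hs)
  have hwH : t * u ∈ H := mul_mem ht hu
  have hww : t * u * (t * u) = 1 := by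
    rw [mul_assoc, ← mul_assoc u, hcomm hHab hu ht, mul_assoc, huu, mul_one, htt]
  have hw2 : orderOf (t * u) = 2 := Inv.orderOf_eq_two_of_mul_self
    (fun h0 => htu (by rw [← huu] at h0; exact mul_right_cancel h0)) hww
  obtain ⟨Q, hQ, hn, hodd, hS, y, hy, w, hw, -, hsy⟩ := F1 hH2 hHab hcl hs
  obtain rfl := F2aux hH2 hQ hn hodd hy hw hu huu (hsy ▸ h)
  have h1 : (t * w)⁻¹ * (t * s) ∈ Q := by
    have := mul_mem (inv_conj_mem_of_mem_normalizer (hn hw) hy) (inv_mem hy)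
    rw [hsy]
    convert this using 1
    group
  have h2 : (t * s) ^ 2 ∈ Q := by
    simpa [pow_two (t * w), hww] using pow_mod (hn hwH) h1 2
  set n := orderOf ((t * s) ^ 2) with hn'
  have hn2 : Odd n := odd_of_mem hQ h2
  set z := (t * s) ^ n with hz
  have hzz : z * z = 1 := by
    rw [hz, ← pow_two, ← pow_mul, mul_comm, pow_mul, pow_orderOf_eq_one]
  have hzQ : (t * w)⁻¹ * z ∈ Q := by
    have := pow_mod (hn hwH) h1 n
    rwa [odd_pow_invol hww hn2] at this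
  have hzt : t * z * t⁻¹ = z := by
    rw [hz, Inv.conj_pow_of_inverts (Inv.invol_conj_mul htt hss), ← hz,
      inv_eq_of_mul_eq_one_right hzz]
  have hzs : s * z * s⁻¹ = z := by
    rw [hz, Inv.conj_pow_of_inverts (Inv.invol_conj_mul' htt hss), ← hz,
      inv_eq_of_mul_eq_one_right hzz]
  have hz1 : z ≠ 1 := by
    intro h0
    rw [h0, mul_one, inv_mem_iff] at hzQ
    exact Inv.ne_one_of_orderOf_eq_two hw2 (eq_one_of_mem hH2 hQ hwH hzQ)
  have hzD : z ∈ DD H := by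
    have h3 : z ∈ H ⊔ Q := by
      have := mul_mem (mem_sup_left hwH : _ ∈ H ⊔ Q) (mem_sup_right hzQ)
      rwa [mul_inv_cancel_left] at this
    obtain ⟨c, -, hc⟩ := hS.exists_cj_le (isPGroup_zpowers (x := z)
      ⟨1, by rw [pow_one, pow_two, hzz]⟩) ((zpowers_le).2 h3)
    exact ⟨c⁻¹, _, cj_le_iff_forall.1 hc z (mem_zpowers z), by
      rw [Inv.orderOf_conj_eq, Inv.orderOf_eq_two_of_mul_self hz1 hzz], by group⟩
  obtain ⟨o, ho, w', hw', hw'2, hzo⟩ := L1 hH2 hHab hcl O hO ht ht2 hzD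
    (mem_centralizer_singleton_iff.2 (mul_inv_eq_iff_eq_mul.1 hzt).symm)
  obtain ⟨hO1, hO2, hO3, -⟩ := hO t ht ht2
  have h4 : w' = t * w := by
    have hw'w := Inv.mul_self_of_orderOf_eq_two hw'2
    refine F2 hH2 hHab hcl hzD hw' hw'w hwH hww (hzo ▸ rel_of_mem hO1 hw'w (hO3 hw') ho) ?_
    apply Rel.symm'
    rw [inv_eq_of_mul_eq_one_right hww] at hzQ
    exact odd_of_mem hQ hzQ
  subst h4
  have hot : o⁻¹ * t * o = t := by
    rw [mul_assoc, ← mem_centralizer_singleton_iff.1 (hO2 ho), inv_mul_cancel_left]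
  obtain ⟨o', ho', u', hu', hu'2, h5⟩ := L1 hH2 hHab hcl O hO hwH hw2 (DD.conj hs o⁻¹) (by
    rw [mem_cent1]
    calc o⁻¹ * s * o⁻¹⁻¹ * (t * w) * (o⁻¹ * s * o⁻¹⁻¹)⁻¹
        = o⁻¹ * (s * (o * (t * w) * o⁻¹) * s⁻¹) * o := by group
      _ = t * w := by rw [← hzo, hzs, hzo]; group)
  obtain ⟨hO1', -, hO3', -⟩ := hO _ hwH hw2
  have h6 : (t * u')⁻¹ * (t * (o' * u' * o'⁻¹)) ∈ O (t * w) := by
    have := mul_mem (inv_conj_mem_of_mem_normalizer (hO3' hu') ho') (inv_mem ho')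
    convert this using 1
    group
  have h7 := pow_mod (hO3' (mul_mem ht hu')) h6 n
  have h8 : (t * (o' * u' * o'⁻¹)) ^ n = t * w := by
    rw [← h5]
    nth_rewrite 1 [← hot]
    rw [show o⁻¹ * t * o * (o⁻¹ * s * o⁻¹⁻¹) = o⁻¹ * (t * s) * o⁻¹⁻¹ by group, conj_pow, ← hz, hzo]
    group
  have h9 : t * u' * (t * u') = 1 := by
    rw [mul_assoc, ← mul_assoc u', hcomm hHab hu' ht, mul_assoc,
      Inv.mul_self_of_orderOf_eq_two hu'2, mul_one, htt]
  rw [h8, odd_pow_invol h9 hn2] at h7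
  have h10 := eq_one_of_mem hH2 hO1' (mul_mem (inv_mem (mul_mem ht hu')) hwH) h7
  rw [inv_mul_eq_one, mul_right_inj] at h10
  subst h10
  exact ⟨o, ho, o', ho', by rw [← h5]; group⟩

include hH2 hHab hcl hO in
theorem L3 {t u o o' : G} (ht : t ∈ H) (ht2 : orderOf t = 2) (hu : u ∈ H) (hu2 : orderOf u = 2)
    (htu : t ≠ u) (ho : o ∈ O t) (ho' : o' ∈ O (t * u)) : Rel (o * (o' * u * o'⁻¹) * o⁻¹) u := by
  have htt := Inv.mul_self_of_orderOf_eq_two ht2
  have huu := Inv.mul_self_of_orderOf_eq_two hu2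
  have hwH : t * u ∈ H := mul_mem ht hu
  have hww : t * u * (t * u) = 1 := by
    rw [mul_assoc, ← mul_assoc u, hcomm hHab hu ht, mul_assoc, huu, mul_one, htt]
  have hw2 : orderOf (t * u) = 2 := Inv.orderOf_eq_two_of_mul_self
    (fun h0 => htu (by rw [← huu] at h0; exact mul_right_cancel h0)) hww
  have hs := DD.conj (DD.conj (DD.self hu hu2) o') o
  obtain ⟨Q, hQ, hn, hodd, hS, y, hy, u', hu', hu'2, hsy⟩ := F1 hH2 hHab hcl hs
  have hu'u := Inv.mul_self_of_orderOf_eq_two hu'2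
  suffices h : u' = u by
    rw [hsy, h]
    exact rel_of_mem hQ huu (hn hu) hy
  obtain ⟨hO1, hO2, hO3, -⟩ := hO t ht ht2
  obtain ⟨hO1', hO2', hO3', -⟩ := hO _ hwH hw2
  set r := u⁻¹ * o' * u * o'⁻¹ with hr
  have hrO : r ∈ O (t * u) := mul_mem (inv_conj_mem_of_mem_normalizer (hO3' hu) ho') (inv_mem ho')
  have hn2 : Odd (orderOf r) := odd_of_mem hO1' hrO
  have h1 : (t * (o' * u * o'⁻¹)) ^ orderOf r = t * u := by
    have hc : Commute (t * u) r := (mem_centralizer_singleton_iff.1 (hO2' hrO)).symm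
    rw [show t * (o' * u * o'⁻¹) = t * u * r by rw [hr]; group, hc.mul_pow, pow_orderOf_eq_one,
      mul_one, odd_pow_invol hww hn2]
  have hot : o * t * o⁻¹ = t := mem_cent1.1 (hO2 ho)
  have h2 : (t * (y * u' * y⁻¹)) ^ orderOf r = o * (t * u) * o⁻¹ := by
    rw [← hsy, ← h1, ← conj_pow]
    congr 1
    nth_rewrite 1 [← hot]
    group
  have h3 : (t * u')⁻¹ * (t * (y * u' * y⁻¹)) ∈ Q := by
    have := mul_mem (inv_conj_mem_of_mem_normalizer (hn hu') hy) (inv_mem hy)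
    convert this using 1
    group
  have h9 : t * u' * (t * u') = 1 := by
    rw [mul_assoc, ← mul_assoc u', hcomm hHab hu' ht, mul_assoc, hu'u, mul_one, htt]
  have h4 := pow_mod (hn (mul_mem ht hu')) h3 (orderOf r)
  rw [h2, odd_pow_invol h9 hn2, inv_eq_of_mul_eq_one_right h9] at h4
  have h5 := F2 hH2 hHab hcl (DD.conj (DD.self hwH hw2) o) (mul_mem ht hu') h9 hwH hww
    (Rel.symm' (odd_of_mem hQ h4)) (rel_of_mem hO1 hww (hO3 hwH) ho)
  exact mul_left_cancel h5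

include hH2 hHab hcl hO in
theorem L4 {t u s x : G} (ht : t ∈ H) (ht2 : orderOf t = 2) (hu : u ∈ H) (hu2 : orderOf u = 2)
    (htu : t ≠ u) (hs : s ∈ DD H) (h : Rel s u) (hx : x ∈ O t) : Rel (x * s * x⁻¹) u := by
  obtain ⟨o, ho, o', ho', rfl⟩ := L2 hH2 hHab hcl O hO ht ht2 hu hu2 htu hs h
  have := L3 hH2 hHab hcl O hO ht ht2 hu hu2 htu (mul_mem hx ho) ho'
  convert this using 1
  group

include hH2 hHab hcl hO in
theorem L5 {u s r : G} (hu : u ∈ H) (hu2 : orderOf u = 2) (hs : s ∈ DD H) (hr : r ∈ DD H)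
    (h1 : Rel s u) (h2 : Rel r u) : Rel r s := by
  by_cases h : ∃ t ∈ H, orderOf t = 2 ∧ t ≠ u
  · obtain ⟨t, ht, ht2, htu⟩ := h
    have htt := Inv.mul_self_of_orderOf_eq_two ht2
    have huu := Inv.mul_self_of_orderOf_eq_two hu2
    have hwH : t * u ∈ H := mul_mem ht hu
    have hww : t * u * (t * u) = 1 := by
      rw [mul_assoc, ← mul_assoc u, hcomm hHab hu ht, mul_assoc, huu, mul_one, htt]
    have hw2 : orderOf (t * u) = 2 := Inv.orderOf_eq_two_of_mul_self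
      (fun h0 => htu (by rw [← huu] at h0; exact mul_right_cancel h0)) hww
    obtain ⟨o, ho, o', ho', rfl⟩ := L2 hH2 hHab hcl O hO ht ht2 hu hu2 htu hs h1
    have h3 := L4 hH2 hHab hcl O hO ht ht2 hu hu2 htu hr h2 (inv_mem ho)
    have h4 := L4 hH2 hHab hcl O hO hwH hw2 hu hu2
      (fun h0 => Inv.ne_one_of_orderOf_eq_two ht2 (by simpa using h0)) (DD.conj hr _) h3
      (inv_mem ho')
    have h5 := (h4.conj o').conj o
    convert h5 using 1
    group
  · push Not at h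
    obtain ⟨a, v, hv, hv2, rfl⟩ := hs
    obtain ⟨w, hw, hw2, h3⟩ := F3 hH2 hHab hcl (DD.conj hr a⁻¹)
    rw [h w hw hw2, ← h v hv hv2] at h3
    have h5 := h3.conj a
    convert h5 using 1
    group

include hH2 hHab hcl hO in
theorem L6 {d s r : G} (hd : d ∈ DD H) (hs : s ∈ DD H) (hr : r ∈ DD H)
    (h1 : Rel s d) (h2 : Rel r d) : Rel r s := by
  obtain ⟨a, u, hu, hu2, rfl⟩ := hd
  have h3 := L5 hH2 hHab hcl O hO hu hu2 (DD.conj hs a⁻¹) (DD.conj hr a⁻¹)
    (by convert h1.conj a⁻¹ using 1; group) (by convert h2.conj a⁻¹ using 1; group)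
  convert h3.conj a using 1 <;> group

include hH2 hHab hcl hO in
theorem L7 : ∃ K : Subgroup G, K.Normal ∧ H ≤ K ∧ ∀ g ∈ K, ∀ d ∈ DD H, Rel (g * d * g⁻¹) d := by
  refine ⟨{ carrier := {g | ∀ d ∈ DD H, Rel (g * d * g⁻¹) d}
            one_mem' := fun d hd => ?_
            mul_mem' := fun {a b} ha hb d hd => ?_
            inv_mem' := fun {a} ha d hd => ?_ }, ⟨fun a ha g d hd => ?_⟩, fun h hh d hd => ?_,
    fun g hg => hg⟩
  · refine L6 hH2 hHab hcl O hO (DD.conj hd b) hd (DD.conj hd _) (hb d hd).symm' ?_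
    convert ha _ (DD.conj hd b) using 1
    group
  · simp [Rel, Inv.mul_self_of_orderOf_eq_two (DD.ord hd)]
  · convert (ha _ (DD.conj hd a⁻¹)).symm' using 1
    group
  · convert (ha _ (DD.conj hd g⁻¹)).conj g using 1 <;> group
  · obtain ⟨u, hu, hu2, h1⟩ := F3 hH2 hHab hcl hd
    refine L5 hH2 hHab hcl O hO hu hu2 hd (DD.conj hd h) h1 ?_
    convert h1.conj h using 1
    rw [hcomm hHab hh hu, mul_inv_cancel_right]

end

theorem aux (n : ℕ) : ∀ {G : Type u} [Group G] [Finite G] (H : Subgroup G), Nat.card G = n →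
    IsPGroup 2 H → IsMulCommutative H → IsExtremelyClosed H → 𝐍[H] ⊔ pPrimeCore 2 G = ⊤ := by
  induction n using Nat.strong_induction_on with
  | _ n ih =>
  intro G _ _ H hn hH2 hHab hcl
  have hquot : ∀ (N : Subgroup G) [N.Normal], N ≠ ⊥ →
      𝐍[H.map (QuotientGroup.mk' N)] ⊔ pPrimeCore 2 (G ⧸ N) = ⊤ := by
    intro N _ hN
    refine ih _ ?_ _ rfl (hH2.map _) (by infer_instance)
      (ext_map hH2 hcl _ (QuotientGroup.mk'_surjective N))
    rw [← hn, card_eq_card_quotient_mul_card_subgroup N]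
    exact lt_mul_of_one_lt_right Nat.card_pos ((one_lt_card_iff_ne_bot N).2 hN)
  have hsub : ∀ L : Subgroup G, L ≠ ⊤ → H ≤ L →
      ∀ c ∈ L, ∃ o ∈ (pPrimeCore 2 L).map L.subtype, cj(c, H) = cj(o, H) := by
    intro L hL hHL c hc
    have h1 := ih _ (by
      rw [← hn]
      exact lt_of_le_of_ne (card_le_card_group L) fun h => hL (eq_top_of_card_eq L h))
      (H.subgroupOf L) rfl (Amb.isPGroup_subgroupOf hH2 L) (by infer_instance) (ext_subgroupOf hcl hHL)
    rw [sup_comm] at h1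
    obtain ⟨o, ho, x, hx, h2⟩ := (mem_sup_of_le_normalizer_left
      (le_top.trans (normalizer_eq_top _).ge)).1 (h1.ge (mem_top (⟨c, hc⟩ : L)))
    rw [← subgroupOf_normalizer_eq hHL, mem_subgroupOf] at hx
    refine ⟨o, mem_map_of_mem _ ho, ?_⟩
    rw [show c = o * x from congrArg Subtype.val h2, cj_mul, cj_of_mem_normalizer hx]
  have hcomap : ∀ (N : Subgroup G) [N.Normal], 𝐍[H.map (QuotientGroup.mk' N)] = ⊤ →
      𝐍[H ⊔ N] = ⊤ := by
    intro N _ h
    have h1 := (normalizer_eq_top_iff.1 h).comap (QuotientGroup.mk' N)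
    rw [comap_map_eq, QuotientGroup.ker_mk'] at h1
    exact normalizer_eq_top_iff.2 h1
  by_cases hO : pPrimeCore 2 G = ⊥
  swap
  · have h1 := hquot _ hO
    rw [Grp.pPrimeCore_quotient_pPrimeCore, sup_bot_eq] at h1
    have h2 := hcomap _ h1
    have h3 : IsSyl 2 H (H ⊔ pPrimeCore 2 G) := by
      refine isSyl_of_not_dvd_relIndex hH2 le_sup_left fun h => ?_
      have h4 := Grp.card_mul_card_eq_of_normal H (pPrimeCore 2 G)
      rw [Grp.inf_eq_bot_of_isPGroup_of_coprime hH2 (Grp.pPrimeCore_coprime 2 G), card_bot, one_mul,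
        ← Grp.card_mul_relIndex_of_le (le_sup_left : H ≤ H ⊔ pPrimeCore 2 G)] at h4
      rw [← Nat.eq_of_mul_eq_mul_left Nat.card_pos h4] at h
      exact Grp.not_dvd_card_pPrimeCore 2 G h
    have h4 := h3.frattini_sup le_top h2.ge
    rw [top_inf_eq] at h4
    rw [eq_top_iff, ← h4]
    exact sup_le (sup_le (le_normalizer.trans le_sup_left) le_sup_right) le_sup_left
  rw [hO, sup_bot_eq]
  by_contra hN
  have hB : ∀ t ∈ H, orderOf t = 2 → t ∉ center G := by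
    intro t ht ht2 htc
    have hZ : zpowers t ≤ center G := (zpowers_le).2 htc
    have hZn : (zpowers t).Normal := ⟨fun x hx g => by
      rw [mem_center_iff.1 (hZ hx) g, mul_inv_cancel_right]; exact hx⟩
    have h1 := hquot (zpowers t) (by
      rw [Ne, zpowers_eq_bot]; exact Inv.ne_one_of_orderOf_eq_two ht2)
    have h2 : pPrimeCore 2 (G ⧸ zpowers t) = ⊥ := by
      set K := (pPrimeCore 2 (G ⧸ zpowers t)).comap (QuotientGroup.mk' (zpowers t)) with hK
      have h3 : K ≤ zpowers t ⊔ pPrimeCore 2 G := by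
        refine le_sup_pPrimeCore_of_central (hH2.to_le ((zpowers_le).2 ht))
          (fun g _ x hx => (mem_center_iff.1 (hZ hx) g).symm) ?_
        have h4 := relIndex_ker K (QuotientGroup.mk' (zpowers t))
        rw [QuotientGroup.ker_mk', hK,
          map_comap_eq_self_of_surjective (QuotientGroup.mk'_surjective _)] at h4
        rw [h4]
        exact Grp.pPrimeCore_coprime 2 _
      rw [hO, sup_bot_eq] at h3
      rw [← map_comap_eq_self_of_surjective (QuotientGroup.mk'_surjective (zpowers t))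
        (pPrimeCore 2 _), Subgroup.map_eq_bot_iff, QuotientGroup.ker_mk']
      exact h3
    rw [h2, sup_bot_eq] at h1
    have h3 := hcomap _ h1
    rw [sup_eq_left.2 ((zpowers_le).2 ht)] at h3
    exact hN h3
  obtain ⟨K, hKn, hHK, hK⟩ := L7 hH2 hHab hcl
    (fun t => (pPrimeCore 2 (centralizer ({t} : Set G))).map (centralizer ({t} : Set G)).subtype)
    (fun t ht ht2 => by
      have hHC : H ≤ centralizer ({t} : Set G) := fun x hx =>
        mem_centralizer_singleton_iff.2 (hcomm hHab hx ht)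
      refine ⟨Grp.map_pPrimeCore_coprime 2 _, map_subtype_le _,
        hHC.trans (le_normalizer_map_subtype _), hsub _ (fun h => hB t ht ht2 ?_) hHC⟩
      rw [mem_center_iff]
      exact fun g => mem_centralizer_singleton_iff.1 (h.ge (mem_top g)))
  by_cases hKt : K = ⊤
  · have hH1 : H ≠ ⊥ := by
      rintro rfl
      exact hN (normalizer_eq_top _)
    obtain ⟨u, hu, hu2⟩ := exists_orderOf_eq_of_ne_bot hH2 hH1
    obtain ⟨P, hP⟩ := hH2.exists_le_sylow
    refine hB u hu hu2 (Inv.ZStar.mem_center_of_oddCore_eq_bot hO P hu2 (hP hu) fun g hg => ?_)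
    have h1 : g * u * g⁻¹ ∈ H := ext_conj_mem hcl hu
      (ext_normalizer_le hH2 hcl P.isPGroup' hP (le_normalizer hg))
    have huu := Inv.mul_self_of_orderOf_eq_two hu2
    exact F2 hH2 hHab hcl (DD.self hu hu2) h1 (Inv.conj_mul_self huu g) hu huu
      (hK g (hKt.ge (mem_top g)) u (DD.self hu hu2)).symm' (by simp [Rel, huu])
  · have h1 : K ≤ 𝐍[H] := by
      intro c hc
      obtain ⟨o, ho, h2⟩ := hsub K hKt hHK c hc
      have h3 := Grp.map_pPrimeCore_le_of_normal 2 K ho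
      rw [hO, mem_bot] at h3
      rw [← cj_eq_iff, h2, h3, cj_one]
    have h2 := (Grp.le_map_pCore hHK h1 hH2).trans (Grp.map_pCore_le_of_normal 2 K)
    exact hN (top_le_iff.1 ((normalizer_eq_top _).ge.trans
      (ext_normalizer_le hH2 hcl (Grp.pCore_isPGroup 2 G) h2)))

/-- Let G be a finite group and H an abelian 2-subgroup of G that is extremely closed (for every g, the subgroup generated by H and g H g⁻¹ meets N_G(H) exactly in H). Then G = N_G(H) O(G), where O(G) is the largest normal subgroup of odd order. For H of order 2 this is Glauberman's Z*-statement. -/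
theorem result {G : Type*} [Group G] [Finite G] (H : Subgroup G) (hH2 : IsPGroup 2 H) (hHab : IsMulCommutative H) (hcl : Cfsg.IsExtremelyClosed H) : Subgroup.normalizer (H : Set G) ⊔ Cfsg.oddCore G = ⊤ := by
  exact aux _ H rfl hH2 hHab hcl

end Cfsg.Agent.S3017
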