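import Cfsg.Statements.S3019
import Cfsg.Agent.TSy.Grp2
import Cfsg.Agent.TSy.Chr3
import Cfsg.Agent.S0215
import Cfsg.Agent.Block.ModExists
-- import your own Cfsg.Agent.* helpers here

set_option autoImplicit false
open Cfsg

namespace Cfsg.Agent.S3019

open Cfsg.Agent Subgroup Cfsg.Agent.PLocal Cfsg.Agent.PLocal.Amb Cfsg.Agent.Block Cfsg.Agent.TSy

universe u

theorem two_mul_le {G : Type*} [Group G] [Finite G] {A P : Subgroup G} (h : A ≤ P) (hne : A ≠ P) :
    2 * (Nat.card A : ℝ) ≤ Nat.card P := by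
  obtain ⟨k, hk⟩ := card_dvd_of_le h
  have h0 : k ≠ 0 := by
    rintro rfl
    exact Nat.card_pos.ne' hk
  have h1 : k ≠ 1 := by
    rintro rfl
    exact hne (eq_of_le_of_card_ge h (by rw [hk, mul_one]))
  have : 2 * Nat.card A ≤ Nat.card P := by
    rw [hk, mul_comm]
    exact Nat.mul_le_mul_left _ (by omega)
  exact_mod_cast this

theorem ce_false {G : Type*} [Group G] [Finite G] [IsSimpleGroup G] {p : ℕ} [hp : Fact p.Prime]
    (hG : _root_.commutator G = ⊤) {P : Subgroup G} (h : Ce p P) (hP : P ≠ ⊥) : False := by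
  classical
  have := Fintype.ofFinite G
  obtain ⟨M, hM⟩ := exists_isPModular hp.out
  have hγ : ∀ z ∈ Zc P, (Nat.card P : ℝ) ≤ gam M z := fun z hz =>
    card_le_gam hM h.syl.pgrp fun x hx => mem_centralizer_singleton_iff.2 (hz.2 x hx)
  by_cases hW : Wc P ≤ Zc P
  · obtain ⟨u, u1, u2, u3⟩ := Glau.exists_center_ne_one h.syl.pgrp hP
    have hu : u ∈ Wc P := zc_le_wc P ⟨u1, u2⟩
    have hu1 : u ≠ 1 := fun e => hp.out.one_lt.ne (by rw [← u3, e, orderOf_one])
    by_cases h3 : 3 ≤ Nat.card (Wc P)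
    · refine case1 hM h.wc_pg (h.cl hM hW) h3 fun z hz z1 => ?_
      have k := hγ z (hW hz)
      have k0 : (0 : ℝ) ≤ Nat.card P := Nat.cast_nonneg _
      by_cases e : Wc P = P
      · obtain ⟨c, hc, hcz, hzc⟩ := exists_conj_ne hG h.syl (e.ge.trans (hW.trans inf_le_right))
          (wc_le P hz) z1
        have h2 : 2 ≤ cnt (Wc P) z := by
          rw [← Set.ncard_pair hcz]
          refine Set.ncard_le_ncard ?_ (Set.toFinite _)
          rintro x (rfl | rfl)
          · exact ⟨e.ge hc, fun e' => z1 (by simpa [e'] using hzc), hzc⟩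
          · exact ⟨hz, z1, IsConj.refl _⟩
        have h2' : (2 : ℝ) ≤ cnt (Wc P) z := by exact_mod_cast h2
        rw [e] at *
        nlinarith
      · have h1 : 1 ≤ cnt (Wc P) z :=
          (Set.ncard_pos (Set.toFinite _)).2 ⟨z, hz, z1, IsConj.refl _⟩
        have h1' : (1 : ℝ) ≤ cnt (Wc P) z := by exact_mod_cast h1
        have := two_mul_le (wc_le P) e
        nlinarith
    · have hd : p ∣ Nat.card (Wc P) := u3 ▸ orderOf_dvd_natCard _ hu
      have h2 := Nat.le_of_dvd Nat.card_pos hd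
      have h2' := hp.out.two_le
      obtain rfl : p = 2 := by omega
      have hz : zpowers u = Wc P :=
        eq_of_le_of_card_ge (zpowers_le.2 hu) (by rw [Nat.card_zpowers, u3]; omega)
      obtain ⟨S, rfl⟩ := h.syl.exists_sylow_top
      obtain ⟨N, hN, ho, hc⟩ := S0215.result S u u3 u1 fun g hg => by
        have h4 : g * u * g⁻¹ ∈ zpowers u := hz ▸ mem_wc hg (conj_mem_cj g ⟨u1, u2⟩)
        obtain ⟨k, hk, e⟩ := (mem_zpowers_iff_mem_range_orderOf.trans Finset.mem_image).1 h4
        rw [u3, Finset.mem_range] at hk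
        interval_cases k
        · exact absurd (by simpa using e.symm) hu1
        · simpa using e.symm
      rcases hN.eq_bot_or_eq_top with rfl | rfl
      · refine h.cent_ne_top u1 hu1 (eq_top_iff.2 fun g _ => mem_centralizer_singleton_iff.2 ?_)
        have := hc g
        rw [mem_bot, mul_inv_eq_one, mul_inv_eq_iff_eq_mul] at this
        exact this.symm
      · exact (Nat.not_even_iff_odd.2 ho) (even_iff_two_dvd.2 (u3 ▸ orderOf_dvd_natCard _ (mem_top u)))
  · obtain ⟨c, c1, ⟨g, c2⟩, c3⟩ : ∃ c, c ∈ P ∧ (∃ g : G, c ∈ cj(g, Zc P)) ∧ c ∉ 𝐂[P] := by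
      by_contra k
      push Not at k
      exact hW ((closure_le _).2 fun c hc => ⟨hc.1, k c hc.1 hc.2⟩)
    obtain ⟨b, hb, rfl⟩ := mem_cj_iff_exists.1 c2
    obtain ⟨x, hx, hxc⟩ : ∃ x ∈ P, x * (g * b * g⁻¹) * x⁻¹ ≠ g * b * g⁻¹ := by
      by_contra k
      push Not at k
      exact c3 fun x hx => mul_inv_eq_iff_eq_mul.1 (k x hx)
    have b1 : b ≠ 1 := by
      rintro rfl
      simp at hxc
    have hcW := mem_wc c1 c2
    have i1 : IsConj b (g * b * g⁻¹) := isConj_iff.2 ⟨g, rfl⟩
    have i2 : IsConj b (x * (g * b * g⁻¹) * x⁻¹) := i1.trans (isConj_iff.2 ⟨x, rfl⟩)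
    have n1 : b ≠ g * b * g⁻¹ := fun e => c3 (e ▸ hb.2)
    have n2 : b ≠ x * (g * b * g⁻¹) * x⁻¹ := fun e => n1 (by
      have := hb.2 x⁻¹ (inv_mem hx)
      calc b = x⁻¹ * b * x := by rw [this]; group
        _ = x⁻¹ * (x * (g * b * g⁻¹) * x⁻¹) * x := by rw [← e]
        _ = g * b * g⁻¹ := by group)
    refine case2 hM h.wc_pg (h.cl hM le_rfl) hb (zc_le_wc P hb) b1 ?_
      ((two_mul_le (wc_le P) fun e => c3 (e ▸ h.wc_comm hcW)).trans (hγ b hb))
    have h3 : Set.ncard {b, g * b * g⁻¹, x * (g * b * g⁻¹) * x⁻¹} = 3 :=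
      Set.ncard_eq_three.2 ⟨_, _, _, n1, n2, hxc.symm, rfl⟩
    rw [← h3]
    refine Set.ncard_le_ncard ?_ (Set.toFinite _)
    rintro y (rfl | rfl | rfl)
    · exact ⟨zc_le_wc P hb, b1, IsConj.refl _⟩
    · exact ⟨hcW, fun e => b1 (by simpa [e] using i1), i1⟩
    · exact ⟨conj_mem_of_mem_normalizer (le_normalizer_wc' P hx) hcW,
        fun e => b1 (by simpa [e] using i2), i2⟩

theorem aux {p : ℕ} [hp : Fact p.Prime] (G : Type u) [Group G] [Finite G]
    (H : ∀ P Q : Subgroup G, IsPGroup p P → IsPGroup p Q → IsPSolvable p ↥(P ⊔ Q)) :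
    IsPSolvable p G := by
  induction hn : Nat.card G using Nat.strong_induction_on generalizing G with | _ n ih => ?_
  subst hn
  have sub : ∀ K : Subgroup G, K ≠ ⊤ → IsPSolvable p K := fun K hK =>
    ih _ (Grp.card_lt_of_ne_top hK) _ (fun P Q hP hQ => by
      have := H _ _ (hP.map K.subtype) (hQ.map K.subtype)
      rw [← Subgroup.map_sup] at this
      exact IsPSolvable.of_mulEquiv this ((P ⊔ Q).equivMapOfInjective _ K.subtype_injective).symm) rfl
  by_contra hG
  have hs : IsSimpleGroup G := by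
    have : Nontrivial G := by
      by_contra k
      have := not_nontrivial_iff_subsingleton.1 k
      exact hG isPSolvable_of_subsingleton
    refine ⟨fun N hN => ?_⟩
    by_contra k
    push Not at k
    refine hG (isPSolvable_of_normal_of_quotient N (sub N k.2) (ih _ ?_ _ (fun P Q hP hQ => ?_) rfl))
    · rw [card_eq_card_quotient_mul_card_subgroup N]
      exact lt_mul_of_one_lt_right Nat.card_pos ((one_lt_card_iff_ne_bot N).2 k.1)
    · obtain ⟨P', hP'⟩ := hP.exists_le_sylow
      obtain ⟨Q', hQ'⟩ := hQ.exists_le_sylow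
      obtain ⟨P'', rfl⟩ := Sylow.mapSurjective_surjective (QuotientGroup.mk'_surjective N) p P'
      obtain ⟨Q'', rfl⟩ := Sylow.mapSurjective_surjective (QuotientGroup.mk'_surjective N) p Q'
      have := IsPSolvable.map (H _ _ P''.isPGroup' Q''.isPGroup') (QuotientGroup.mk' N)
      rw [Subgroup.map_sup] at this
      exact IsPSolvable.of_le this (sup_le_sup hP' hQ')
  obtain ⟨P, hP⟩ := exists_isSyl p (⊤ : Subgroup G)
  refine ce_false (p := p) (P := P) ?_ ⟨hP, sub, fun g k => H _ _ (isPGroup_cj g hP.pgrp)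
    (isPGroup_cj k hP.pgrp), fun A hA hn => ?_⟩ fun e => ?_
  · refine ((inferInstance : (_root_.commutator G).Normal).eq_bot_or_eq_top).resolve_left fun e => ?_
    have : Group.IsSolvable G := ⟨1, e⟩
    exact hG isPSolvable_of_isSolvable
  · refine ((normalizer_eq_top_iff.1 hn).eq_bot_or_eq_top).resolve_right fun e => ?_
    subst e
    exact hG (isPSolvable_top_iff.1 (isPSolvable_of_isPGroup hA))
  · exact hG (isPSolvable_of_coprime (not_dvd_iff_coprime.1 (by
      rw [← card_top]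
      exact hP.eq_bot_iff.1 e)))

/-- Let G be a finite group, p a prime and P a Sylow p-subgroup of G. Then G is p-solvable if and only if, for every g ∈ G, the subgroup generated by P and g P g⁻¹ is p-solvable. -/
theorem result {G : Type*} [Group G] [Finite G] {p : ℕ} [Fact p.Prime] (P : Sylow p G) : Cfsg.IsPSolvable p G ↔ ∀ g : G, Cfsg.IsPSolvable p ↥((P : Subgroup G) ⊔ (P : Subgroup G).map (MulAut.conj g).toMonoidHom) := by
  refine ⟨fun h _ => IsPSolvable.subgroup h _, fun h => aux G fun A B hA hB => ?_⟩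
  obtain ⟨g, -, hg⟩ := (isSyl_top P).exists_le_cj hA le_top
  obtain ⟨k, -, hk⟩ := (isSyl_top P).exists_le_cj hB le_top
  have := IsPSolvable.map (h (g⁻¹ * k)) (MulAut.conj g).toMonoidHom
  rw [Subgroup.map_sup, ← cj_mul, mul_inv_cancel_left] at this
  exact IsPSolvable.of_le this (sup_le_sup hg hk)

end Cfsg.Agent.S3019
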