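import Cfsg.Statements.S3032
import Mathlib
import Cfsg.Agent.FGS.HSub
import Cfsg.Agent.S3031
import Cfsg.Agent.S1250
import Cfsg.Agent.Solv.Huppert
import Cfsg.Agent.Grp.Cores
import Cfsg.Agent.Block.Klein

set_option autoImplicit false
open Cfsg

namespace Cfsg.Agent.S3032

set_option linter.unusedVariables false
set_option linter.style.haveILetI false
section
open Subgroup Cfsg.Agent.FGS.HSub Cfsg.Agent.PLocal.CF Cfsg.Agent.Fus.AC

universe u

def Hyp {G : Type*} [Group G] (E : Subgroup G) : Prop :=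
  ∀ (p : ℕ), p.Prime → ∀ P : Subgroup G, Syl p P E → ¬ IsCyclic P →
    ∃ D : Subgroup G, D ≤ P ∧ 1 < Nat.card D ∧ Nat.card D < Nat.card P ∧
      ∀ F : Subgroup G, F ≤ P → (Nat.card F = Nat.card D ∨ (Nat.card D = 2 ∧ Nat.card F = 4)) → IsH F

variable {G : Type*} [Group G] [Finite G]

theorem isH_subgroupOf {E F : Subgroup G} (h : IsH F) (hFE : F ≤ E) : IsH (F.subgroupOf E) := by
  refine isH_of_mem fun x hx g hg => ?_
  refine h.mem hx g (mem_normalizer_fintype (S := (F : Set G)) fun y hy => ?_)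
  exact conj_mem_of_mem_nm hg (a := ⟨y, hFE hy⟩) hy

theorem isH_map_mk {p : ℕ} [Fact p.Prime] {F : Subgroup G} (h : IsH F) (hF : IsPGroup p F)
    (N : Subgroup G) [N.Normal] : IsH (F.map (QuotientGroup.mk' N)) := by
  obtain ⟨S, hS⟩ := hF.exists_le_sylow
  exact isH_of_stronglyClosed (S.mapSurjective (QuotientGroup.mk'_surjective N))
    (S1250.result S F (h.stronglyClosed S.isPGroup' hS) N)

theorem npc {E : Subgroup G} (h : Hyp E) {p : ℕ} [hp : Fact p.Prime] (hd : p ∣ Nat.card E)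
    (hmin : ∀ q : ℕ, q.Prime → q ∣ Nat.card E → p ≤ q) : HasNormalPComplement p E := by
  obtain ⟨P, hP⟩ := exists_syl' p E
  obtain ⟨S, hS⟩ := hP.subgroupOf.exists_sylow
  have hc : ∀ X : Subgroup G, X ≤ E → Nat.card (X.subgroupOf E) = Nat.card X := fun X hX =>
    Nat.card_congr (subgroupOfEquivOfLe hX).toEquiv
  refine S3031.result hd hmin S ?_
  by_cases hcy : IsCyclic P
  · left
    rw [hS]
    exact isCyclic_of_surjective _ (subgroupOfEquivOfLe hP.le).symm.surjective
  · right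
    obtain ⟨D, h1, h2, h3, h4⟩ := h p hp.out P hP hcy
    refine ⟨D.subgroupOf E, hS ▸ comap_mono h1, by rwa [hc D (h1.trans hP.le)],
      by rwa [hS, hc D (h1.trans hP.le), hc P hP.le], fun F hF hcard => ?_⟩
    rw [hc D (h1.trans hP.le), ← card_map_of_injective (K := F) E.subtype_injective] at hcard
    have := isH_subgroupOf (h4 (F.map E.subtype) (by
      rw [hS] at hF; exact map_le_iff_le_comap.2 hF) hcard) (map_subtype_le F)
    rwa [subgroupOf, comap_map_eq_self_of_injective E.subtype_injective] at this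

theorem tower (n : ℕ) : ∀ E : Subgroup G, Nat.card E = n → E.Normal → E ≠ ⊥ → Hyp E →
    ∃ (q : ℕ) (Q : Subgroup G), q.Prime ∧ Q.Normal ∧ Q ≠ ⊥ ∧ Syl q Q E := by
  induction n using Nat.strong_induction_on with
  | _ n ih =>
  intro E hn hE hne h
  have hne1 : Nat.card E ≠ 1 := fun e => hne (eq_bot_of_card_eq E e)
  haveI hp : Fact (Nat.card E).minFac.Prime := ⟨Nat.minFac_prime hne1⟩
  set p := (Nat.card E).minFac with hpdef
  obtain ⟨k, hk⟩ := Block.index_pPrimeCore_of_hasNormalPComplement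
    (npc h (p := p) (Nat.minFac_dvd _) fun q hq hd => Nat.minFac_le_of_dvd hq.two_le hd)
  set R := (pPrimeCore p E).map E.subtype with hR
  have hRE : R ≤ E := map_subtype_le _
  have hRi : R.relIndex E = p ^ k := by
    rw [← hk, relIndex, hR, subgroupOf, comap_map_eq_self_of_injective E.subtype_injective]
  have hRc : ¬ p ∣ Nat.card R := by
    rw [hR, card_map_of_injective E.subtype_injective]
    exact Grp.not_dvd_card_pPrimeCore p E
  haveI : R.Normal := inferInstance
  have key : ∀ (q : ℕ) (Q : Subgroup G), q.Prime → Q ≠ ⊥ → Syl q Q R → Syl q Q E := by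
    intro q Q hq hQ hS
    haveI : Fact q.Prime := ⟨hq⟩
    refine ⟨hS.le.trans hRE, hS.pg, fun hd => ?_⟩
    rw [← relIndex_mul_relIndex Q R E hS.le hRE, hRi] at hd
    rcases hq.dvd_mul.1 hd with hd | hd
    · exact hS.nd hd
    · have hqp : q = p := (Nat.prime_dvd_prime_iff_eq hq hp.out).1 (hq.dvd_of_dvd_pow hd)
      obtain ⟨j, hj⟩ := IsPGroup.iff_card.1 hS.pg
      have hj0 : j ≠ 0 := by
        rintro rfl
        exact hQ (eq_bot_of_card_eq Q (by simpa using hj))
      exact hRc (hqp ▸ (dvd_pow_self q hj0).trans (hj ▸ card_dvd_of_le hS.le))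
  by_cases hR0 : R = ⊥
  · refine ⟨p, E, hp.out, hE, hne, syl_self (IsPGroup.of_card (n := k) ?_)⟩
    rw [← hRi, hR0, relIndex_bot_left]
  · have hlt : Nat.card R < n := hn ▸ card_lt_of_lt' (lt_of_le_of_ne hRE fun e =>
      hRc (e ▸ Nat.minFac_dvd _))
    obtain ⟨q, Q, hq, hQ, hQ0, hS⟩ := ih _ hlt R rfl inferInstance hR0 fun r hr P hP hcy =>
      h r hr P (key r P hr (by rintro rfl; exact hcy inferInstance) hP) hcy
    exact ⟨q, Q, hq, hQ, hQ0, key q Q hq hQ0 hS⟩

theorem hyp_quot {E Q : Subgroup G} [Q.Normal] {q : ℕ} (hq : q.Prime) (hS : Syl q Q E)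
    (h : Hyp E) : Hyp (E.map (QuotientGroup.mk' Q)) := by
  intro r hr P' hP' hcy
  haveI : Fact r.Prime := ⟨hr⟩
  haveI : Fact q.Prime := ⟨hq⟩
  obtain ⟨P₀, hP₀⟩ := exists_syl' r E
  obtain ⟨_, ⟨g, hg, rfl⟩, e⟩ := hP'.exists_cj_eq (hP₀.map (QuotientGroup.mk' Q))
  have hP := hP₀.cj_of_mem hg
  set P := cj g P₀
  have hPm : P.map (QuotientGroup.mk' Q) = P' := by
    rw [← e, map_map, cj, map_map]
    congr 1
  have hrq : r ≠ q := by
    rintro rfl
    have : Q = P := (hS.eq_of_le hP.pg (hP.le_of_nm hS.pg hS.le (by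
      rw [Nm, normalizer_eq_top]; exact le_top)) hP.le).symm
    refine hcy ?_
    rw [← hPm, ← this, (Subgroup.map_eq_bot_iff _).2 (by rw [QuotientGroup.ker_mk'])]
    infer_instance
  have hdisj : ∀ X : Subgroup G, X ≤ P →
      Nat.card (X.map (QuotientGroup.mk' Q)) = Nat.card X := fun X hX => by
    have hd : Disjoint X Q := IsPGroup.disjoint_of_ne r q hrq _ _ (hP.pg.to_le hX) hS.pg
    have := card_map_mul_card_inf_ker_aux X (QuotientGroup.mk' Q)
    rwa [QuotientGroup.ker_mk', disjoint_iff.1 hd, card_bot, mul_one] at this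
  obtain ⟨D, h1, h2, h3, h4⟩ := h r hr P hP fun hc => hcy (by
    rw [← hPm]; exact isCyclic_of_surjective _ ((QuotientGroup.mk' Q).subgroupMap_surjective P))
  refine ⟨D.map (QuotientGroup.mk' Q), hPm ▸ map_mono h1, by rwa [hdisj D h1],
    by rwa [hdisj D h1, ← hPm, hdisj P le_rfl], fun F hF hc => ?_⟩
  have hFm : (F.comap (QuotientGroup.mk' Q) ⊓ P).map (QuotientGroup.mk' Q) = F := by
    refine le_antisymm ((map_mono inf_le_left).trans (map_comap_le _ _)) fun x hx => ?_
    obtain ⟨y, hy, rfl⟩ := (hPm ▸ hF hx : x ∈ P.map (QuotientGroup.mk' Q))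
    exact ⟨y, ⟨hx, hy⟩, rfl⟩
  rw [← hFm]
  refine isH_map_mk (h4 _ inf_le_right ?_) (hP.pg.to_le inf_le_right) Q
  rwa [← hdisj _ (inf_le_right : F.comap (QuotientGroup.mk' Q) ⊓ P ≤ P), hFm, ← hdisj D h1]
where
  card_map_mul_card_inf_ker_aux {G' : Type _} [Group G'] (X : Subgroup G) (f : G →* G') :
      Nat.card (X.map f) * Nat.card (X ⊓ f.ker : Subgroup G) = Nat.card X := by
    rw [← relIndex_ker, ← inf_relIndex_right f.ker X, inf_comm]
    exact fix_of_card.relIndex_mul_card_of_le_aux inf_le_left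

theorem final {Q : Subgroup G} [Q.Normal] {q : ℕ} [hq : Fact q.Prime] (hQ : IsPGroup q Q)
    (hG : IsSupersolvable (G ⧸ Q)) {D : Subgroup G} (h1 : D ≤ Q) (h2 : 1 < Nat.card D)
    (h3 : Nat.card D < Nat.card Q)
    (h4 : ∀ F : Subgroup G, F ≤ Q → (Nat.card F = Nat.card D ∨ (Nat.card D = 2 ∧ Nat.card F = 4)) →
      IsH F) : IsSupersolvable G := by
  obtain ⟨k, hk⟩ := IsPGroup.iff_card.1 (hQ.to_le h1)
  have hk1 : 1 ≤ k := by
    rcases k with _ | k
    · simp [hk] at h2
    · omega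
  let 𝒜 : Subgroup (MulAut Q) := (MulAut.conjNormal (G := G) (H := Q)).range
  have hK : IsPGroup q (flagKer q 𝒜) := by
    refine isPGroup_flagKer_of_card hQ hk1 (hk ▸ h3) fun F hF => ?_
    rintro _ ⟨g, rfl⟩ x hx
    have hsc := (h4 (F.map Q.subtype) (map_subtype_le F)
      (by rwa [card_map_of_injective Q.subtype_injective, hk])).stronglyClosed hQ (map_subtype_le F)
    obtain ⟨y, hy, e⟩ := hsc.2 x ⟨x, hx, rfl⟩ g ((inferInstance : Q.Normal).conj_mem _ x.2 g)
    have : y = MulAut.conjNormal g x := Subtype.ext e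
    exact this ▸ hy
  refine Solv.isSupersolvable_of_forall_step fun N hN hne => ?_
  by_cases hQN : Q ≤ N
  · obtain ⟨g, -, hg, hn, -⟩ := Solv.exists_prime_step_of_isSupersolvable_quotient N ⊤
      (Solv.isSupersolvable_quotient_of_le hQN hG) (fun h => hne (top_le_iff.1 h))
    exact ⟨g, hg, hn⟩
  · obtain ⟨x, hx, hi⟩ := exists_step_of_flagKer (𝒜 := 𝒜) hQ (by
        rintro _ ⟨y, rfl⟩
        exact ⟨y, by ext; simp⟩) hK (U := N.subgroupOf Q) (by
        rintro _ ⟨g, rfl⟩ x hx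
        exact hN.conj_mem _ hx g) (fun e => hQN (subgroupOf_eq_top.1 e))
    refine ⟨x, hx, ⟨fun y hy g => ?_⟩⟩
    have hle : (N ⊔ zpowers (x : G)).map (MulAut.conj g).toMonoidHom ≤ N ⊔ zpowers (x : G) := by
      rw [Subgroup.map_sup, MonoidHom.map_zpowers]
      refine sup_le ?_ (zpowers_le.2 ?_)
      · rintro _ ⟨z, hz, rfl⟩
        exact mem_sup_left (hN.conj_mem z hz g)
      · have := hi _ ⟨g, rfl⟩ x (mem_sup_right (mem_zpowers x))
        have h' : (N.subgroupOf Q ⊔ zpowers x).map Q.subtype ≤ N ⊔ zpowers (x : G) := by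
          rw [Subgroup.map_sup, MonoidHom.map_zpowers]
          exact sup_le_sup (map_le_iff_le_comap.2 le_rfl) le_rfl
        exact h' ⟨_, this, rfl⟩
    exact hle ⟨y, hy, rfl⟩

theorem main (G : Type u) [Group G] [Finite G] : ∀ (E : Subgroup G) [E.Normal],
    IsSupersolvable (G ⧸ E) → Hyp E → IsSupersolvable G := by
  refine Solv.finite_group_induction (P := fun G _ _ => ∀ (E : Subgroup G) [E.Normal],
    IsSupersolvable (G ⧸ E) → Hyp E → IsSupersolvable G) G ?_
  intro G _ _ ih E _ hGE h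
  by_cases hE : E = ⊥
  · subst hE
    exact Solv.isSupersolvable_of_mulEquiv hGE QuotientGroup.quotientBot
  obtain ⟨q, Q, hq, hQn, hQ0, hS⟩ := tower _ E rfl inferInstance hE h
  haveI : Fact q.Prime := ⟨hq⟩
  have hGQ : IsSupersolvable (G ⧸ Q) :=
    ih (G ⧸ Q) (Solv.card_quotient_lt_of_ne_bot Q hQ0) (E.map (QuotientGroup.mk' Q))
      (Solv.isSupersolvable_of_mulEquiv hGE
        (QuotientGroup.quotientQuotientEquivQuotient Q E hS.le).symm) (hyp_quot hq hS h)
  by_cases hcy : IsCyclic Q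
  · exact Solv.isSupersolvable_of_cyclic_normal Q hGQ
  · obtain ⟨D, h1, h2, h3, h4⟩ := h q hq Q hS hcy
    exact final hS.pg hGQ h1 h2 h3 h4
end


/-- Let G be a finite group and E a normal subgroup with G/E supersolvable. Suppose that for every prime p and every non-cyclic Sylow p-subgroup P of E there is a subgroup D of P with 1 < |D| < |P| such that every subgroup F of P of order |D|, and also every subgroup F of P of order 4 when |D| = 2, satisfies g F g⁻¹ ∩ N_G(F) ≤ F for all g ∈ G. Then G is supersolvable. -/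
theorem result {G : Type*} [Group G] [Finite G] (E : Subgroup G) [E.Normal] (hGE : Cfsg.IsSupersolvable (G ⧸ E))
    (h : ∀ (p : ℕ), p.Prime → ∀ P : Subgroup G, P ≤ E → IsPGroup p P → ¬ p ∣ P.relIndex E → ¬ IsCyclic ↥P →
      ∃ D : Subgroup G, D ≤ P ∧ 1 < Nat.card D ∧ Nat.card D < Nat.card P ∧
        ∀ F : Subgroup G, F ≤ P → (Nat.card F = Nat.card D ∨ (Nat.card D = 2 ∧ Nat.card F = 4)) →
          ∀ g : G, F.map (MulAut.conj g).toMonoidHom ⊓ Subgroup.normalizer (F : Set G) ≤ F) :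
    Cfsg.IsSupersolvable G := by
  exact main G E hGE fun p hp P hP hcy => h p hp P hP.le hP.pg hP.nd hcy

end Cfsg.Agent.S3032
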