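import Cfsg.Statements.S3038
import Mathlib
import Cfsg.Agent.ZP.Rk2C
import Cfsg.Agent.ZP.Base
import Cfsg.Agent.S3049

set_option autoImplicit false
open Cfsg

namespace Cfsg.Agent.S3038

open Subgroup

/-- Let G be a finite group and p an odd prime with O_{p'}(G) = 1. Suppose that G has p-rank at most 2 and that some element x of order p is isolated in G and not central. Then F*(G) is a non-abelian simple group, and for every Sylow p-subgroup P of F*(G), either no conjugate of x lies in P and P is cyclic, or some conjugate of x lies in P and either P is extraspecial of order p³ and exponent p, or p = 3 and P has order 3^{2k+1} for some k ≥ 2 and is of maximal class (nilpotency class 2k). Since O_{p'}(G) = 1, such an x is not central modulo O_{p'}(G): the hypotheses describe a counterexample to the Z*_p statement in p-rank at most 2, and the conclusion records the structure it would have. -/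
theorem result {G : Type*} [Group G] [Finite G] {p : ℕ} [Fact p.Prime] (hp : p ≠ 2) (hcore : Cfsg.pPrimeCore p G = ⊥)
    (hrank : Cfsg.PRankLE p 2 G) (x : G) (hx : orderOf x = p) (hiso : Cfsg.IsIsolated x) (hnc : x ∉ Subgroup.center G) :
    IsSimpleGroup ↥(Cfsg.generalizedFittingSubgroup G) ∧ ¬ IsMulCommutative ↥(Cfsg.generalizedFittingSubgroup G) ∧
    ∀ P : Sylow p ↥(Cfsg.generalizedFittingSubgroup G),
      ((∀ g : G, g * x * g⁻¹ ∉ ((P : Subgroup ↥(Cfsg.generalizedFittingSubgroup G)).map (Cfsg.generalizedFittingSubgroup G).subtype)) ∧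
          IsCyclic ↥(P : Subgroup ↥(Cfsg.generalizedFittingSubgroup G))) ∨
      ((∃ g : G, g * x * g⁻¹ ∈ ((P : Subgroup ↥(Cfsg.generalizedFittingSubgroup G)).map (Cfsg.generalizedFittingSubgroup G).subtype)) ∧
        ((Cfsg.IsExtraspecial p ↥(P : Subgroup ↥(Cfsg.generalizedFittingSubgroup G)) ∧
            Nat.card (P : Subgroup ↥(Cfsg.generalizedFittingSubgroup G)) = p ^ 3 ∧
            ∀ y ∈ (P : Subgroup ↥(Cfsg.generalizedFittingSubgroup G)), y ^ p = 1) ∨
         (p = 3 ∧ ∃ k : ℕ, 2 ≤ k ∧ Nat.card (P : Subgroup ↥(Cfsg.generalizedFittingSubgroup G)) = 3 ^ (2 * k + 1) ∧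
            ∃ _ : Group.IsNilpotent ↥(P : Subgroup ↥(Cfsg.generalizedFittingSubgroup G)),
              Group.nilpotencyClass ↥(P : Subgroup ↥(Cfsg.generalizedFittingSubgroup G)) = 2 * k))) := by
  obtain ⟨h1, h2⟩ := S3049.result hp hcore hrank x hx hiso hnc
  have hL : (Cfsg.generalizedFittingSubgroup G).Normal := inferInstance
  generalize Cfsg.generalizedFittingSubgroup G = L at h1 h2 hL ⊢
  refine ⟨h1, h2, fun P => ?_⟩
  by_cases hc : ∃ g : G, g * x * g⁻¹ ∈ (P : Subgroup L).map L.subtype
  · refine .inr ⟨hc, ?_⟩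
    obtain ⟨g, y, hy, e⟩ := hc
    refine ZP.Rk2.inner hp (ZP.commutator_eq_top_of_simple h2)
      (FT.R2.pRankLE_of_injective _ L.subtype_injective hrank) P hy ?_ ?_
    · rw [← orderOf_coe, show (y : G) = g * x * g⁻¹ from e, ← MulAut.conj_apply,
        MulEquiv.orderOf_eq, hx]
    · exact PLocal.iso_subgroup ((show (y : G) = g * x * g⁻¹ from e) ▸ PLocal.iso_conj hiso g) L y.2
  push Not at hc
  refine .inl ⟨hc, by_contra fun hn => ?_⟩
  obtain ⟨Q, hQ⟩ := (P.isPGroup'.map L.subtype).exists_le_sylow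
  have hx1 : x ^ p = 1 := by rw [← hx, pow_orderOf_eq_one]
  obtain ⟨R, hR⟩ := (PLocal.Amb.isPGroup_zpowers ⟨1, by rwa [pow_one]⟩ :
    IsPGroup p (zpowers x)).exists_le_sylow
  obtain ⟨g, rfl⟩ := MulAction.exists_smul_eq G R Q
  set Q := g • R
  have hy : g * x * g⁻¹ ∈ (Q : Subgroup G) := ⟨x, hR (mem_zpowers x), rfl⟩
  have hP : (Q : Subgroup G).subgroupOf L = P :=
    P.is_maximal' Q.isPGroup'.comap_subtype (map_le_iff_le_comap.1 hQ)
  obtain ⟨A, hA, hAn, hAe, hAc⟩ := FT.R2.exists_normal_elem_le hp Q.isPGroup'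
    (L.subgroupOf Q) fun h => hn (by
      rw [← show (Q : Subgroup G).subgroupOf L = (P : Subgroup L) from hP]
      exact isCyclic_of_injective (G' := L.subgroupOf (Q : Subgroup G))
        { toFun := fun a => ⟨⟨a.1.1, a.2⟩, a.1.2⟩, map_one' := rfl, map_mul' := fun _ _ => rfl }
        fun a b h => Subtype.ext (Subtype.ext (congrArg (fun t => t.1.1) h)))
  have := Fus.MC.mem_of_rank Q.isPGroup'
    (FT.R2.pRankLE_of_injective _ (Q : Subgroup G).subtype_injective hrank) hAc hAe.2
    (w := ⟨_, hy⟩) (fun a _ => Subtype.ext (mem_centralizer_singleton_iff.1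
      (PLocal.iso_le_centralizer (PLocal.iso_conj hiso g) Q.isPGroup' hy a.2)))
    (Subtype.ext (by simp [conj_pow, hx1]))
  exact hc g ⟨⟨_, hA this⟩, by rw [← hP]; exact hy, rfl⟩

end Cfsg.Agent.S3038
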