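import Mathlib
import Cfsg.Statements.S3052
import Cfsg.Agent.PLocal.CsBe
-- import your own Cfsg.Agent.* helpers here

set_option autoImplicit false
open Cfsg

namespace Cfsg.Agent.S3052

open Subgroup PLocal PLocal.Amb PLocal.Bk
open scoped commutatorElement

theorem class_two {G : Type*} [Group G] [Finite G] {T : Subgroup G} [Group.IsNilpotent T]
    (h : ⁅T, T⁆ ≤ centralizer (T : Set G)) (h' : ¬ T ≤ centralizer (T : Set G)) :
    Group.nilpotencyClass T = 2 := by
  refine le_antisymm (Subgroup.lowerCentralSeries_eq_bot_iff_nilpotencyClass_le.1 ?_)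
    (not_le.1 fun k : _ ≤ 1 => h' ?_)
  · refine eq_bot_iff.2 (commutator_le.2 fun a ha b _ => Subtype.ext ?_)
    have : (a : G) ∈ ⁅T, T⁆ := by
      have := mem_map_of_mem T.subtype (show a ∈ ⁅(⊤ : Subgroup T), (⊤ : Subgroup T)⁆ from ha)
      rwa [map_commutator, ← MonoidHom.range_eq_map, T.range_subtype] at this
    exact BM.comm_eq_one_of_cent (h this) b.2
  · have := Group.IsNilpotent.nilpotencyClass_le_one_iff.1 k
    exact fun a ha => mem_centralizer_iff.2 fun b hb =>
      congrArg Subtype.val (this.is_comm.comm (⟨b, hb⟩ : T) ⟨a, ha⟩)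

/-- Let G be a finite group of local characteristic 2 (every 2-local subgroup N has C_N(O₂(N)) ≤ O₂(N)) with T a Sylow 2-subgroup, O₂(G) = 1, O²(G) = G, and G ≠ C*(G,T), the subgroup generated by the centralizer of Ω₁(Z(T)) and the normalizers of the nontrivial characteristic subgroups of the Baumann subgroup B(T). Then one of the following holds: G has a strongly embedded subgroup; T is dihedral or quasi-dihedral; T has order at most 2¹⁰; or T equals its Baumann subgroup, T has nilpotency class 2, and G has a B(T)-block E not contained in C*(G,T) with E/O₂(E) isomorphic to SL(2,2ⁿ) for some n ≥ 3. -/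
theorem result {G : Type*} [Group G] [Finite G] (hloc : Cfsg.IsOfLocalCharacteristic 2 G) (T : Sylow 2 G)
    (hO : Cfsg.pCore 2 G = ⊥) (hO2 : Cfsg.pResidual 2 G = ⊤) (hC : Cfsg.cStarOf 2 (T : Subgroup G) ≠ ⊤)
    [Group.IsNilpotent ↥(T : Subgroup G)] :
    (∃ H : Subgroup G, Cfsg.IsStronglyEmbedded H) ∨
      ((∃ m : ℕ, Nonempty (↥(T : Subgroup G) ≃* DihedralGroup m)) ∨ Cfsg.IsQuasiDihedral ↥(T : Subgroup G)) ∨
      Nat.card (T : Subgroup G) ≤ 2 ^ 10 ∨
      (Cfsg.baumannSubgroupOf 2 (T : Subgroup G) = T ∧ Group.nilpotencyClass ↥(T : Subgroup G) = 2 ∧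
        ∃ (E : Subgroup G) (hE : ((Cfsg.pCoreOf 2 E).subgroupOf E).Normal) (F : Type) (_ : Field F) (_ : Fintype F) (n : ℕ),
          3 ≤ n ∧ Fintype.card F = 2 ^ n ∧ Cfsg.IsBaumannBlock 2 (T : Subgroup G) E ∧ ¬ E ≤ Cfsg.cStarOf 2 (T : Subgroup G) ∧
          Nonempty (↥E ⧸ (Cfsg.pCoreOf 2 E).subgroupOf E ≃* Matrix.SpecialLinearGroup (Fin 2) F)) := by
  by_cases hse : ∃ H : Subgroup G, IsStronglyEmbedded H
  · exact Or.inl hse
  refine Or.inr ?_
  by_cases h1 : (T : Subgroup G) = ⊥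
  · exact Or.inr (Or.inl (by rw [h1, card_bot]; norm_num))
  have hG : ∀ H : Subgroup G, H.index ≠ 2 := fun H hH => by
    have : H = ⊤ := top_le_iff.1 (hO2 ▸ pRes_top (G := G) 2 ▸ pRes_le_of_pow fun g _ =>
      ⟨1, sq_mem_of_index_two hH g⟩)
    rw [this, index_top] at hH
    omega
  refine (cs_main (fun R a b => CP.isCharP_iff.2 (hloc.2 R a b)) hO hG (isSyl_top T) h1
    (not_exists.1 hse) hC).imp_right (Or.imp_right ?_)
  rintro ⟨E, F, _, _, e, hF, h8, hE, hc⟩
  have eB := e.bau.self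
  have := hF.char
  obtain ⟨n, -, hn⟩ := FiniteField.card F 2
  obtain ⟨φ⟩ := hF.quot
  have hN : ((pCoreOf 2 E).subgroupOf E).Normal := normal_subgroupOf' (le_normalizer_pCoreOf 2 E)
  refine ⟨eB, class_two hc fun k => e.bas_not_B_le (k.trans (Amb.centralizer_anti e.W_le_B)), E, hN, F,
    _, _, n, ?_, hn, (isBlock_iff (isSyl_top T) le_top).2 ⟨eB.symm ▸ e, fun k => hE
      (k.trans (cs_cen _))⟩, hE, ⟨(QuotientGroup.quotientMulEquivOfEq (pCoreOf_subgroupOf 2 E)).trans
      (φ.trans ((MulEquiv.subgroupCongr (PL.comm_eq_top (by omega))).trans topEquiv))⟩⟩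
  rw [Nat.card_eq_fintype_card, hn] at h8
  exact (Nat.pow_le_pow_iff_right one_lt_two).1 (show 2 ^ 3 ≤ _ from h8)

end Cfsg.Agent.S3052
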