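import Mathlib
import Cfsg.Statements.S5234
import Cfsg.Agent.Fus.Resist
import Cfsg.Agent.FT.PRankTwo
-- import your own Cfsg.Agent.* helpers here

set_option autoImplicit false
open Cfsg

namespace Cfsg.Agent.S5234

open Cfsg.Agent.Fus Cfsg.FusionSystem

/-- Let p be an odd prime, F a saturated fusion system over a finite p-group S and P a metacyclic subgroup of S strongly closed in F. Then P is normal in F. -/
theorem result {Ω : Type*} [Group Ω] {S : Subgroup Ω} [Finite S] (p : ℕ) [Fact p.Prime] (hS : IsPGroup p S) (F : Cfsg.FusionSystem S) (hF : F.IsSaturated p) (P : Subgroup Ω) (hP : F.StronglyClosed P) (hp : p ≠ 2) (hm : Cfsg.IsMetacyclic ↥P) : F.IsNormal P := by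
  have : Finite P := finite_of_le hP.1
  by_cases hc : IsCyclic P
  · exact isNormal_of_abelian hS hF hP fun x hx y hy =>
      congrArg Subtype.val (hc.isMulCommutative.is_comm.comm (⟨x, hx⟩ : P) ⟨y, hy⟩)
  obtain ⟨h1, h2⟩ := FT.R2.omega_metacyclic hp (isPGroup_of_le hS hP.1) hm hc
  refine isNormal_of_omega_sq hS hF hp hP (C := (omegaOne p (⊤ : Subgroup P)).map P.subtype)
    (fun x => ⟨?_, fun h => ⟨⟨x, h.1⟩, Subgroup.subset_closure ⟨trivial, Subtype.ext h.2⟩, rfl⟩⟩)
    (by rwa [Subgroup.card_subtype])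
  rintro ⟨y, hy, rfl⟩
  exact ⟨y.2, congrArg Subtype.val (h1.2 y hy)⟩

end Cfsg.Agent.S5234
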