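import Cfsg.Statements.S3053
import Mathlib
import Cfsg.Agent.S5234
import Cfsg.Agent.Fus.GroupQuot
import Cfsg.Agent.Fus.Normal

set_option autoImplicit false
open Cfsg

namespace Cfsg.Agent.S3053

/-- Let p be an odd prime and G a finite group with a Sylow p-subgroup P that is extraspecial of order p³ and exponent p². Then the centre of P is strongly closed in P with respect to G: a G-conjugate of an element of Z(P) that lies in P already lies in Z(P). In particular a nontrivial central element of P is conjugate in G to no noncentral element of P. -/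
theorem result {G : Type*} [Group G] [Finite G]
    {p : ℕ} [Fact p.Prime] (hp : p ≠ 2) (P : Sylow p G) (hE : Cfsg.IsExtraspecial p ↥P)
    (hcard : Nat.card P = p ^ 3) (hexp : Monoid.exponent ↥P = p ^ 2) :
    Cfsg.IsStronglyClosed ((Subgroup.center ↥P).map (P : Subgroup G).subtype) (P : Subgroup G) := by
  have hp1 := (Fact.out : p.Prime)
  have hcard' : Nat.card ↥P = p ^ 3 := hcard
  have hm : IsMetacyclic ↥P := by
    obtain ⟨y, hy⟩ : ∃ y : ↥P, orderOf y = p ^ 2 := by
      by_contra h
      push Not at h
      have : Monoid.exponent ↥P ∣ p ^ 1 := by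
        refine Monoid.exponent_dvd_of_forall_pow_eq_one fun y => ?_
        obtain ⟨j, hj, e⟩ := (Nat.dvd_prime_pow hp1).1 (hexp ▸ Monoid.order_dvd_exponent y)
        refine orderOf_dvd_iff_pow_eq_one.1 (e ▸ pow_dvd_pow _ ?_)
        rcases Nat.lt_or_eq_of_le hj with h1 | h1
        · omega
        · exact absurd (h1 ▸ e) (h y)
      rw [hexp, Nat.pow_dvd_pow_iff_le_right hp1.one_lt] at this
      omega
    have hi : (Subgroup.zpowers y).index = p := by
      have := (Subgroup.zpowers y).card_mul_index
      rw [Nat.card_zpowers, hy, hcard', pow_succ p 2] at this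
      exact Nat.eq_of_mul_eq_mul_left (pow_pos hp1.pos 2) this
    have hn : (Subgroup.zpowers y).Normal :=
      Subgroup.normal_of_index_eq_minFac_card (by
        rw [hi, hcard', Nat.Prime.pow_minFac hp1 (by omega)])
    exact ⟨_, hn, inferInstance, isCyclic_of_prime_card (p := p) hi⟩
  have h := S5234.result p P.isPGroup' (groupFusionSystem (P : Subgroup G))
    (Fus.isSaturated_group P) P (Fus.stronglyClosed_top _) hp hm
  exact Fus.stronglyClosed_group_iff.1 (Fus.stronglyClosed_of_isNormal
    (Fus.isNormal_map_of_characteristic h _))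

end Cfsg.Agent.S3053
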