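import Mathlib
import Cfsg.Statements.S3061
import Cfsg.Agent.PLocal.DStar
-- import your own Cfsg.Agent.* helpers here

set_option autoImplicit false
open Cfsg

namespace Cfsg.Agent.S3061

open Cfsg.Agent.PLocal Cfsg.Agent.PLocal.Amb Subgroup

theorem top_mem {S : Type*} [Group S] (A : Subgroup S) : DStarMem ⊤ A ↔ A ∈ dStarFamily S :=
  ⟨fun h => ⟨h.2.1, fun x hx a ha => h.2.2 x (mem_top x) hx a ha⟩,
    fun h => ⟨le_top, h.1, fun x _ hx a ha => h.2 x hx a ha⟩⟩

theorem top_eq {S : Type*} [Group S] : dStarOf (⊤ : Subgroup S) = dStar S := by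
  rw [dStarOf_eq_sSup, dStar]
  congr 1
  ext A
  exact top_mem A

/-- Let S be a finite p-group. Then D*(S) itself belongs to the family that generates it: D*(S) is abelian, and every x ∈ S with ⟨D*(S), x⟩ of class at most two centralizes D*(S). Hence D*(S) is the unique maximal member of that family. -/
theorem result {S : Type*} [Group S] [Finite S] {p : ℕ} [Fact p.Prime] (hS : IsPGroup p S) :
    Cfsg.dStar S ∈ Cfsg.dStarFamily S := by
  rw [← top_mem, ← top_eq]
  exact dStarMem_dStarOf (hS.to_subgroup ⊤)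

end Cfsg.Agent.S3061
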