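import Mathlib
import Cfsg.Statements.S3062
import Cfsg.Agent.PLocal.DStar
import Cfsg.Agent.S3061
import Cfsg.Agent.Grp.PChain
-- import your own Cfsg.Agent.* helpers here

set_option autoImplicit false
open Cfsg

namespace Cfsg.Agent.S3062

open Cfsg.Agent.PLocal Cfsg.Agent.PLocal.Amb Subgroup

/-- Let S be a finite p-group, J(S) the subgroup generated by the abelian subgroups of S of largest order and Z(J(S)) its centre. Then Z(S) ≤ D*(S) ≤ Z(J(S)), and every maximal normal abelian subgroup of S contains D*(S). -/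
theorem result {S : Type*} [Group S] [Finite S] {p : ℕ} [Fact p.Prime]
    (hS : IsPGroup p S) :
    Subgroup.center S ≤ Cfsg.dStar S ∧
    Cfsg.dStar S ≤ Cfsg.thompsonSubgroupA S ⊓ Subgroup.centralizer (Cfsg.thompsonSubgroupA S : Set S) ∧
    ∀ A : Subgroup S, A.Normal → IsMulCommutative A →
      (∀ B : Subgroup S, B.Normal → IsMulCommutative B → A ≤ B → B = A) → Cfsg.dStar S ≤ A := by
  have hT := hS.to_subgroup ⊤
  rw [← S3061.top_eq]
  refine ⟨le_trans ?_ (center_le_dStarOf ⊤), ?_, fun A hA hAc hmax => ?_⟩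
  · rw [top_inf_eq, coe_top, centralizer_univ]
  · rw [← thompsonSubgroupAOf_top]
    exact dStarOf_le_centerThompsonAOf hT
  · have : Group.IsNilpotent S := hS.isNilpotent
    exact (dStarOf_le_centralizer hT le_top hAc (normalizer_eq_top A).ge).trans
      (Grp.PChain.centralizer_le_of_max_abelian_normal A hAc hmax)

end Cfsg.Agent.S3062
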