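import Cfsg.Statements.S3065
import Cfsg.Agent.Inv.OutSolv

set_option autoImplicit false
open Cfsg

namespace Cfsg.Agent.S3065

theorem result {G : Type*} [Group G] [Finite G] [IsSimpleGroup G]
    (hG : ¬ IsMulCommutative G) (S : Sylow 2 G) (hS1 : (S : Subgroup G) ≠ ⊥) (hS : Group.IsSolvable (MulAut ↥S)) :
    Group.IsSolvable (Cfsg.Out G) := by
  exact Inv.OutSolv.out_solvable (Inv.OutSolv.odd_normal_eq_bot S hS1) S inferInstance

end Cfsg.Agent.S3065
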