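import Cfsg.Statements.S3068
import Mathlib
import Cfsg.Agent.PLocal.JDegree
import Cfsg.Agent.Fus.FunctorInst
import Cfsg.Agent.PLocal.KInfControl
import Cfsg.Agent.Transfer.Tate

set_option autoImplicit false
open Cfsg

namespace Cfsg.Agent.S3068

open Subgroup Cfsg.Agent.Fus Cfsg.Agent.FGS Cfsg.Agent.PLocal Cfsg.Agent.PLocal.CF in
theorem transfer_eq.{u} {G : Type u} [Group G] [Finite G] {p : ℕ} [Fact p.Prime]
    (hp : 7 ≤ p) (S : Sylow p G) :
    (S : Subgroup G) ⊓ _root_.commutator G ≤
      ⁅normalizer (thompsonSubgroupAOf (S : Subgroup G) : Set G),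
        normalizer (thompsonSubgroupAOf (S : Subgroup G) : Set G)⁆ := by
  have h𝓦 : ∀ V ∈ ({thompsonSubgroupA} : Set (∀ (Q : Type u) [Group Q], Subgroup Q)),
      IsCharPFunctor.{u} p V := by
    rintro _ rfl; exact isCharPFunctor_jFun
  have h1 : ControlsTransferIn p (inducedFunctor (G := G) thompsonSubgroupA) ⊤ := by
    rw [controlsT_iff_family, ← fam_singleton]
    refine familyT_of_engel (G := G) h𝓦 ⟨_, rfl⟩ (fun K R _ hc T h => ?_) _ sec_refl
    obtain ⟨g, h1, h2, h3, -⟩ := JDeg.exists_low_degree (by omega) T (h _ rfl)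
    refine ⟨g, h1, h2, fun U V h4 h5' => le_trans ?_ (h3 U V h4 h5')⟩
    have := h4.2.1
    exact CommMod.iter_antitone le_normalizer_of_normal (by omega)
  have h := ft_of_family (by rintro _ rfl; exact induced_cf isCharPFunctor_jFun)
    (controlsT_iff_family.1 h1) (syl_top S)
  rw [FT, famTr_singleton, top_inf_eq] at h
  exact h.trans inf_le_right

/-- Let p ≥ 7 be a prime, S a Sylow p-subgroup of the finite group G, J(S) the subgroup generated by the abelian subgroups of S of largest order and M = N_G(J(S)). Then G/O^p(G) ≅ M/O^p(M): the largest p-factor group of G is that of M (here O^p(X) is the subgroup generated by the elements of X of order prime to p). -/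
theorem result {G : Type*} [Group G] [Finite G] {p : ℕ} [Fact p.Prime]
    (hp : 7 ≤ p) (S : Sylow p G)
    [hn : (Cfsg.pResidual p G).Normal]
    [hm : (Cfsg.pResidual p ↥(Subgroup.normalizer (Cfsg.thompsonSubgroupAOf (S : Subgroup G) : Set G))).Normal] :
    Nonempty (G ⧸ Cfsg.pResidual p G ≃*
      ↥(Subgroup.normalizer (Cfsg.thompsonSubgroupAOf (S : Subgroup G) : Set G)) ⧸
        Cfsg.pResidual p ↥(Subgroup.normalizer (Cfsg.thompsonSubgroupAOf (S : Subgroup G) : Set G))) := by
  set M := Subgroup.normalizer (Cfsg.thompsonSubgroupAOf (S : Subgroup G) : Set G) with hM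
  have hSM : (S : Subgroup G) ≤ M :=
    Subgroup.le_normalizer.trans (PLocal.normalizer_le_normalizer_thompsonSubgroupAOf _)
  have hi : ¬ p ∣ M.index := fun h => S.not_dvd_index (h.trans (Subgroup.index_dvd_of_le hSM))
  have hZp : IsPGroup p (Multiplicative (ZMod p)) :=
    IsPGroup.of_card (n := 1) (by simp)
  have ht := Transfer.tate hi fun μ x hx => by
    obtain ⟨u, v, hu, hv, ⟨k, hk⟩, hv', rfl⟩ := Transfer.exists_pPart_mul (p := p) x
    have hv1 : μ v = 1 := Transfer.pResidual_le_ker μ hZp (Transfer.mem_pResidual_of_coprime hv')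
    have hu' : (u : G) ∈ pResidual p G := by
      obtain ⟨n, hn⟩ := hu
      rw [← hn]
      exact Subgroup.zpow_mem _ hx n
    have hup : IsPGroup p (Subgroup.zpowers u) := by
      rw [IsPGroup.iff_card]
      obtain ⟨j, -, hj⟩ := (Nat.dvd_prime_pow Fact.out).1 (orderOf_dvd_of_pow_eq_one hk)
      exact ⟨j, by rw [Nat.card_zpowers, hj]⟩
    obtain ⟨T, hT⟩ := hup.exists_le_sylow
    obtain ⟨m, hm⟩ := MulAction.exists_smul_eq M T (S.subtype hSM)
    have h1 : m * u * m⁻¹ ∈ (S.subtype hSM : Subgroup M) := by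
      rw [← hm]
      exact Subgroup.smul_mem_pointwise_smul _ (MulAut.conj m) _ (hT (Subgroup.mem_zpowers u))
    have h2 : ((m * u * m⁻¹ : M) : G) ∈ commutator G := by
      rw [← Abelianization.ker_of, MonoidHom.mem_ker]
      have h3 : ∀ y ∈ pResidual p G, (orderOf (Abelianization.of y)).Coprime p := by
        intro y hy
        refine (Transfer.HasNormalPComplement.mem_pResidual_iff ?_).1
          (Transfer.map_pResidual_le Abelianization.of (Subgroup.mem_map_of_mem _ hy))
        refine Transfer.hasNormalPComplement_iff_mul.2 fun a b ha hb => ?_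
        exact Nat.Coprime.coprime_dvd_left (Commute.all a b).orderOf_mul_dvd_mul_orderOf
          (Nat.Coprime.mul_left ha hb)
      have h4 := h3 _ ((Transfer.pResidual_normal p G).conj_mem _ hu' m)
      have h5 : (Abelianization.of ((m : G) * u * (m : G)⁻¹)) ^ p ^ k = 1 := by
        rw [← map_pow, conj_pow, ← Subgroup.coe_pow, hk]; simp
      exact orderOf_eq_one_iff.1 (Nat.eq_one_of_dvd_coprimes (h4.pow_right k) dvd_rfl
        (orderOf_dvd_of_pow_eq_one h5))
    have h3 := transfer_eq hp S ⟨h1, h2⟩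
    rw [← hM, ← Subgroup.map_subtype_commutator] at h3
    obtain ⟨y, hy, e⟩ := h3
    have h4 : y = m * u * m⁻¹ := Subtype.ext e
    have h5 := Abelianization.commutator_subset_ker μ hy
    rw [MonoidHom.mem_ker, h4, map_mul, map_mul, map_inv, mul_inv_cancel_comm] at h5
    rw [map_mul, h5, hv1, one_mul]
  let f : M →* G ⧸ pResidual p G := (QuotientGroup.mk' _).comp M.subtype
  have hf : Function.Surjective f := by
    intro q
    obtain ⟨g, rfl⟩ := QuotientGroup.mk_surjective q
    obtain ⟨n, hn, s, hs, rfl⟩ := Transfer.exists_pResidual_mul_sylow S g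
    refine ⟨⟨s, hSM hs⟩, ?_⟩
    simp [f, (QuotientGroup.eq_one_iff n).2 hn]
  have hk : f.ker = pResidual p M := by
    apply Subgroup.map_injective M.subtype_injective
    rw [← ht]
    ext x
    simp only [f, Subgroup.mem_map, MonoidHom.mem_ker, MonoidHom.comp_apply, Subgroup.mem_inf,
      QuotientGroup.mk'_apply, QuotientGroup.eq_one_iff]
    exact ⟨fun ⟨y, hy, e⟩ => e ▸ ⟨hy, y.2⟩, fun h => ⟨⟨x, h.2⟩, h.1, rfl⟩⟩
  exact ⟨(QuotientGroup.quotientKerEquivOfSurjective f hf).symm.trans
    (QuotientGroup.quotientMulEquivOfEq hk)⟩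

end Cfsg.Agent.S3068
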