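import Cfsg.Statements.S3070
import Mathlib
import Cfsg.Agent.PLocal.JDegree
import Cfsg.Agent.Fus.FunctorInst
import Cfsg.Agent.S2006
import Cfsg.Agent.S2007
import Cfsg.Agent.Transfer.PCompl

set_option autoImplicit false
open Cfsg

namespace Cfsg.Agent.S3070

/-- Let p ≥ 5 be a prime, S a Sylow p-subgroup of the finite group G and J(S) the subgroup generated by the abelian subgroups of S of largest order. Then G has a normal p-complement if and only if N_G(J(S))/C_G(J(S)) is a p-group (every element of N_G(J(S)) of order prime to p centralizes J(S)). -/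
theorem result {G : Type*} [Group G] [Finite G] {p : ℕ} [Fact p.Prime]
    (hp : 5 ≤ p) (S : Sylow p G) :
    Cfsg.HasNormalPComplement p G ↔
      ∀ g ∈ Subgroup.normalizer (Cfsg.thompsonSubgroupAOf (S : Subgroup G) : Set G), (orderOf g).Coprime p →
        g ∈ Subgroup.centralizer (Cfsg.thompsonSubgroupAOf (S : Subgroup G) : Set G) := by
  have hp2 : p ≠ 2 := by omega
  constructor
  · intro h g hg hc x hx
    have h1 : g * x * g⁻¹ * x⁻¹ ∈ pResidual p G ⊓ (S : Subgroup G) := by
      refine ⟨?_, PLocal.thompsonSubgroupAOf_le _ (PLocal.JDeg.comm_mem_of_normalizer hg hx)⟩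
      have := (Transfer.pResidual_normal p G).conj_mem _
        (Subgroup.inv_mem _ (Transfer.mem_pResidual_of_coprime hc)) x
      simpa [mul_assoc] using
        Subgroup.mul_mem _ (Transfer.mem_pResidual_of_coprime hc) this
    rw [(Transfer.hasNormalPComplement_iff_inf_eq_bot S).1 h, Subgroup.mem_bot] at h1
    exact (commutatorElement_eq_one_iff_mul_comm.1 h1).symm
  · intro h
    obtain ⟨A, hA⟩ := PLocal.maxAb_nonempty (S : Subgroup G)
    have hN := S2007.result S _ (PLocal.thompsonSubgroupAOf_le _)
      (Subgroup.le_normalizer.trans (PLocal.normalizer_le_normalizer_thompsonSubgroupAOf _))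
      ((PLocal.inf_centralizer_thompsonSubgroupAOf_le hA).trans (PLocal.le_thompsonSubgroupAOf hA)) h
    refine S2006.result _ Fus.isCharPFunctor_jFun S hN fun K R hR hC T hT => ?_
    obtain ⟨g, hgT, hg, -, h4⟩ := PLocal.JDeg.exists_low_degree hp2 T hT
    obtain ⟨U, V, hUV, hU, hq, hnt⟩ := h4 hC
    have := hUV.2.1
    exact ⟨g, hgT, hg, U, V, hUV, hU, (PLocal.CommMod.iter_antitone
      Subgroup.le_normalizer_of_normal (by omega)).trans hq, hnt⟩

end Cfsg.Agent.S3070
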