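import Mathlib
import Cfsg.Statements.S3071
import Cfsg.Agent.PLocal.SCControl
import Cfsg.Agent.PLocal.PStableSL2
-- import your own Cfsg.Agent.* helpers here

set_option autoImplicit false
open Cfsg

namespace Cfsg.Agent.S3071

open Cfsg.Agent.PLocal Cfsg.Agent.PLocal.CF Subgroup Cfsg.Agent.Fus

universe u

theorem local_global {G : Type*} [Group G] [Finite G] {p : ℕ} [Fact p.Prime]
    {W : Subgroup G → Subgroup G} (hW : IsConjugacyFunctor p W)
    (hZ : ∀ P : Subgroup G, P ⊓ Ce P ≤ W P) {S H : Subgroup G} (hS : Syl p S H)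
    (hloc : ∀ U, WP p W S H U → S ⊓ Ce S ≤ U → FSF {W} (S ⊓ Nm U) (H ⊓ Nm U)) : FSF {W} S H := by
  refine gen_alperin hS _ (wp_family hW hS) _ famSet_inv fun U hU hUS _ hc _ => ?_
  have key := WP.ind (H := H) hW hS.pg (fun V => S ⊓ Ce S ≤ V → ∀ (A : Set G) y, y ∈ H ⊓ Nm V →
      A ⊆ (S ⊓ Nm V : Subgroup G) → im y A ⊆ (S ⊓ Nm V : Subgroup G) → Gen (famSet {W} S H) S A y)
    (by
      intro V hV ih hV0 A y hy hA hA'
      have h1 := hloc V hV hV0 A y hy hA hA'
      by_cases hP : S ⊓ Nm V = S
      · rw [hP] at h1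
        exact h1.mono_left (famSet_mono inf_le_left) le_rfl
      refine h1.bind inf_le_left ?_
      rintro B x ⟨W', rfl, hx⟩ hB hB'
      have hlt := cf_lt_inf_nm hW hS.pg (lt_of_le_of_ne inf_le_left hP)
      refine ih hP (le_trans ?_ (hZ _)) B x ⟨hx.1.1, hx.2⟩ (hB.trans hlt.le) (hB'.trans hlt.le)
      exact le_inf (le_inf inf_le_left (hV0.trans le_normalizer))
        (inf_le_right.trans (Amb.centralizer_anti inf_le_left)))
  intro x hx
  have hle : U ≤ S ⊓ Nm U := le_inf hUS le_normalizer
  refine key U hU ((inf_le_inf_left S (Amb.centralizer_anti hUS)).trans hc) U x hx hle ?_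
  rw [← coe_cj, show cj x U = U from Amb.cj_of_mem_normalizer hx.2]; exact hle

theorem scf_of_free {L : Type u} [Group L] [Finite L] {p : ℕ} [Fact p.Prime] (hp : p ≠ 2)
    (h : TransvFree p L) : SCF p zjA L := by
  refine scf_of_constrained zjA_charP fun H _ _ hH hc S E hE => ?_
  obtain ⟨K, f, hf⟩ := hH
  exact IsZJ.normal (Or.inl rfl) hp hc (stableOnNormal_of_isPStableOn fun B _ hB =>
    ((h.subgroup K).of_surjective f hf).isPStableOn B hB) S hE

/-- Let p be an odd prime and S a Sylow p-subgroup of the finite group G such that, for every subgroup P with Z(S) ≤ P ≤ S, the normalizer N_G(P) has no section isomorphic to SL₂(p). Let J(S) be the subgroup generated by the abelian subgroups of S of largest order. Then two elements of S are conjugate in G if and only if they are conjugate in N_G(Z(J(S))). -/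
theorem result {G : Type*} [Group G] [Finite G] {p : ℕ} [Fact p.Prime]
    (hp : p ≠ 2) (S : Sylow p G)
    (hfree : ∀ P : Subgroup G, (S : Subgroup G) ⊓ Subgroup.centralizer ((S : Subgroup G) : Set G) ≤ P → P ≤ S →
      ¬ ∃ (H K : Subgroup G) (hK : (K.subgroupOf H).Normal), H ≤ Subgroup.normalizer (P : Set G) ∧
        Nonempty ((H ⧸ K.subgroupOf H) ≃* Matrix.SpecialLinearGroup (Fin 2) (ZMod p))) :
    ∀ x ∈ S, ∀ y ∈ S, (∃ g : G, g * x * g⁻¹ = y) ↔
      ∃ n ∈ Subgroup.normalizer (Cfsg.centerThompsonAOf (S : Subgroup G) : Set G), n * x * n⁻¹ = y := by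
  have key : FSF {inducedFunctor zjA} (S : Subgroup G) ⊤ := by
    refine local_global (induced_cf zjA_charP) (fun P => ?_) (syl_top S) fun U hU hZ => ?_
    · rw [induced_zjA]
      exact center_le_centerThompsonAOf P
    · have h1 := hU.syl
      rw [top_inf_eq] at h1 ⊢
      have hsc : IsStronglyClosed (S : Subgroup G) S := ⟨le_rfl, fun _ _ _ h => h⟩
      have h2 := (scf_of_free hp (transvFree_of_not_section_sl2 hp (G := Nm U) ?_)).subgroup
        zjA_charP hsc inf_le_left h1
      · rw [inf_eq_right.2 inf_le_left] at h2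
        exact fsf_singleton_iff.2 (fz_iff.1 h2)
      · intro h3
        obtain ⟨K, f, hf⟩ := sec_iff_involves.2 h3
        let e := (K.equivMapOfInjective (Nm U).subtype (Nm U).subtype_injective).symm
        let g := f.comp e.toMonoidHom
        have hg : Function.Surjective g := hf.comp e.surjective
        have hR : (g.ker.map (K.map (Nm U).subtype).subtype).subgroupOf _ = g.ker :=
          Amb.map_subtype_subgroupOf _
        have hRn : ((g.ker.map (K.map (Nm U).subtype).subtype).subgroupOf
            (K.map (Nm U).subtype)).Normal := by rw [hR]; infer_instance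
        refine hfree U hZ hU.le ⟨K.map (Nm U).subtype, g.ker.map (Subgroup.subtype _),
          hRn, map_subtype_le _, ⟨?_⟩⟩
        exact (QuotientGroup.quotientMulEquivOfEq hR).trans
          (QuotientGroup.quotientKerEquivOfSurjective g hg)
  rw [fsf_singleton_iff, induced_zjA] at key
  intro x hx y hy
  constructor
  · rintro ⟨g, rfl⟩
    obtain ⟨n, hn, e⟩ := key {x} g trivial (by simpa using hx) (by simpa [im] using hy)
    exact ⟨n, hn.2, e x rfl⟩
  · rintro ⟨n, -, e⟩
    exact ⟨n, e⟩

end Cfsg.Agent.S3071
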