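import Mathlib
import Cfsg.Statements.S3078
import Cfsg.Agent.PLocal.ZJ
import Cfsg.Agent.PLocal.Amb
-- import your own Cfsg.Agent.* helpers here

set_option autoImplicit false
open Cfsg

namespace Cfsg.Agent.S3078

open Cfsg.Agent.PLocal Cfsg.Agent.PLocal.Amb Subgroup

/-- A replacement Theorem for abelian subgroups of p-groups, p odd. Let G be a finite p-group with p odd, A an abelian subgroup of G, and B a subgroup of nilpotency class at most 2 with [B, B] ≤ A, such that A normalizes B but B does not normalize A. Then there is an abelian subgroup A* of G of the same order as A with A ∩ B strictly contained in A* ∩ B, A* contained in N_G(A) and in the normal closure of A, the exponent of A* dividing the exponent of A, and with the subgroup generated by the elements of order dividing p in A of order at most that of the corresponding subgroup of A* (the rank of A is at most the rank of A*). -/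
theorem result {G : Type*} [Group G] [Finite G] {p : ℕ} [Fact p.Prime] (hp : p ≠ 2) (hG : IsPGroup p G) (A B : Subgroup G) (hA : IsMulCommutative A) (hB2 : ⁅⁅B, B⁆, B⁆ = ⊥) (hBA : ⁅B, B⁆ ≤ A) (hAB : A ≤ Subgroup.normalizer (B : Set G)) (hBnA : ¬ B ≤ Subgroup.normalizer (A : Set G)) : ∃ Astar : Subgroup G, IsMulCommutative Astar ∧ Nat.card Astar = Nat.card A ∧ A ⊓ B < Astar ⊓ B ∧ Astar ≤ Subgroup.normalizer (A : Set G) ∧ Astar ≤ Subgroup.normalClosure (A : Set G) ∧ Monoid.exponent Astar ∣ Monoid.exponent A ∧ Nat.card (Cfsg.omegaOne p A) ≤ Nat.card (Cfsg.omegaOne p Astar) := by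
  have hpp : p.Prime := Fact.out
  obtain ⟨b, h, hb⟩ := exists_replSetup (S := A ⊔ B) (hG.to_subgroup _) le_sup_left le_sup_right
    (sup_le hAB le_normalizer) hA hBA hBnA
  have hc := h.repl_comm (Or.inr (sq_eq_one_imp_of_isPGroup hp (hG.to_subgroup B)))
  refine ⟨repl A b, hc, h.card_repl, h.inf_lt_repl_inf hb, h.repl_le_N.trans h.hNA,
    ReplSetup.repl_le_of_le le_normalClosure (by rw [normalizer_eq_top]; trivial), ?_, ?_⟩
  · rw [Monoid.exponent_dvd_iff_forall_pow_eq_one]
    intro y
    obtain ⟨k, hk⟩ := (hG.to_subgroup A).exists_card_eq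
    obtain ⟨j, -, hj⟩ := (Nat.dvd_prime_pow hpp).1
      (hk ▸ Group.exponent_dvd_nat_card : Monoid.exponent A ∣ p ^ k)
    refine Subtype.ext (h.pow_eq_one_of_mem_repl (hj ▸ (hpp.odd_of_ne_two hp).pow)
      (fun a ha => ?_) y.2)
    exact congrArg Subtype.val (Monoid.pow_exponent_eq_one (⟨a, ha⟩ : A))
  · set A1 := omegaOne p A with hA1
    have hA1A : A1 ≤ A := omegaOne_le A
    have hpow : ∀ a ∈ A1, a ^ p = 1 := fun a ha => ((mem_omegaOne_iff_of_comm h.hA).1 ha).2
    have hle : repl A1 b ≤ repl A b := by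
      refine sup_le_sup (inf_le_inf hA1A (Subgroup.map_mono hA1A)) (closure_mono ?_)
      rintro _ ⟨a, ha, rfl⟩
      exact ⟨a, hA1A ha, rfl⟩
    have h1 : repl A1 b ≤ omegaOne p (repl A b) := by
      refine sup_le (fun x hx => mem_omegaOne (hle (ReplSetup.Z_le_repl hx)) (hpow x hx.1))
        ((closure_le _).2 ?_)
      rintro _ ⟨a, ha, rfl⟩
      exact mem_omegaOne (ReplSetup.gen_mem_repl (hA1A ha))
        (h.gen_pow (hpp.odd_of_ne_two hp) (hA1A ha) (hpow a ha))
    refine le_trans ?_ (card_le_of_le h1)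
    have hN : 𝐍[A] ≤ 𝐍[A1] := normalizer_le_normalizer_omegaOne A
    have h2 := Grp.card_sup_mul_card_inf_of_le_normalizer
      ((hle.trans (h.repl_le_N.trans h.hNA)).trans hN)
    have hX : A1.map (MulAut.conj (b⁻¹)).toMonoidHom ≤ 𝐍[A1] := by
      intro x hx
      have := h.conj_mem (hA1A (mem_map_conj_inv_iff.mp hx))
      exact hN (h.hNA (by simpa [mul_assoc] using this))
    have h3 := Grp.card_sup_mul_card_inf_of_le_normalizer hX
    rw [ReplSetup.repl_sup_A] at h2
    rw [Subgroup.card_map_of_injective (MulAut.conj (b⁻¹)).injective] at h3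
    have h4 : Nat.card ↥(A1.map (MulAut.conj (b⁻¹)).toMonoidHom ⊓ A1) ≤
        Nat.card ↥(repl A1 b ⊓ A1) :=
      card_le_of_le (le_inf ((inf_comm _ _).le.trans ReplSetup.Z_le_repl) inf_le_right)
    have h5 : Nat.card A1 * Nat.card A1 ≤ Nat.card (repl A1 b) * Nat.card A1 := by
      rw [← h2, ← h3]
      exact Nat.mul_le_mul_left _ h4
    exact Nat.le_of_mul_le_mul_right h5 Nat.card_pos

end Cfsg.Agent.S3078
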