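import Mathlib
import Cfsg.Statements.S3080
import Cfsg.Agent.PLocal.SCControl
-- import your own Cfsg.Agent.* helpers here

set_option autoImplicit false
open Cfsg

namespace Cfsg.Agent.S3080

open Cfsg.Agent.PLocal Cfsg.Agent.PLocal.CF Subgroup

universe u

theorem aux {G : Type u} [Group G] [Finite G] {p : ℕ} [Fact p.Prime] (hp : p ≠ 2) (P : Sylow p G)
    (D : Subgroup G) (hD : IsStronglyClosed D (P : Subgroup G)) (hst : IsNormalizerPStable p G)
    (hc : ∀ U : Subgroup G, U ≤ (P : Subgroup G) → U ≠ ⊥ →
      IsPConstrained p ↥(Subgroup.normalizer (U : Set G)))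
    {W : ∀ (Q : Type u) [Group Q], Subgroup Q} (hW : IsZJ p W) :
    FZ (inducedFunctor W D) (P : Subgroup G) ⊤ := by
  by_cases h0 : D = ⊥
  · subst h0
    exact fz_of_normal (induced_normal_of_normal hW.charP IsPGroup.of_bot).ge
  refine fz_local_global (induced_cf hW.charP) (syl_top P) hD h0 fun U hU hU0 h => ?_
  refine SCF.subgroup hW.charP ?_ hD inf_le_left h
  have hs := QuotientGroup.mk'_surjective (pPrimeCore p (Nm U))
  have hk : (Nat.card (QuotientGroup.mk' (pPrimeCore p (Nm U))).ker).Coprime p := by
    rw [QuotientGroup.ker_mk']; exact Grp.pPrimeCore_coprime p _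
  refine SCF.of_coprime_ker hW.charP _ hs hk fun S E hS hE => ?_
  obtain ⟨S, rfl⟩ := hS.exists_sylow
  have := hW.normal hp (isPConstrained_iff.1 (hc U hU hU0)) (stableOnNormal_of_nstable
    (nstable_of_coprime_ker _ hs hk (nstable_subgroup hst _))) S hE
  exact fz_of_normal le_normalizer_of_normal

/-- Let p be an odd prime, G a finite group that is p-stable in the normalizer form, P a Sylow p-subgroup such that N_G(U) is p-constrained for every nontrivial subgroup U of P, and D a subgroup of P strongly closed in P with respect to G. Then N_G(Z(J(D))) controls strong G-fusion in P (for every subset A of P and every g ∈ G with gAg⁻¹ ⊆ P, some element of that normalizer acts on A exactly as g does; J(D) is generated by the abelian subgroups of D of largest order), and so does N_G(Ω₁(Z(J_e(D)))) (J_e(D) generated by the elementary abelian subgroups of largest order). -/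
theorem result {G : Type*} [Group G] [Finite G] {p : ℕ} [Fact p.Prime] (hp : p ≠ 2) (P : Sylow p G) (D : Subgroup G) (hD : Cfsg.IsStronglyClosed D (P : Subgroup G)) (hst : Cfsg.IsNormalizerPStable p G) (hc : ∀ U : Subgroup G, U ≤ (P : Subgroup G) → U ≠ ⊥ → Cfsg.IsPConstrained p ↥(Subgroup.normalizer (U : Set G))) : (∀ A : Set G, A ⊆ (P : Subgroup G) → Cfsg.ControlsStrongFusionOf (Subgroup.normalizer ((Cfsg.centerThompsonAOf D) : Set G)) (P : Subgroup G) A) ∧ (∀ A : Set G, A ⊆ (P : Subgroup G) → Cfsg.ControlsStrongFusionOf (Subgroup.normalizer ((Cfsg.omegaOne p (Cfsg.centerThompsonOf p D)) : Set G)) (P : Subgroup G) A) := by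
  refine ⟨fun A hA => ?_, fun A hA => ?_⟩
  · rw [← induced_zjA]
    exact (aux hp P D hD hst hc (Or.inl rfl)).controls A hA
  · rw [← induced_zjE]
    exact (aux hp P D hD hst hc (Or.inr rfl)).controls A hA

end Cfsg.Agent.S3080
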