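import Cfsg.Statements.S3117
import Cfsg.Agent.XG.Basic
import Cfsg.Agent.MacW.Main
import Cfsg.Agent.Grp.CritExp
import Cfsg.Agent.Grp.Extraspecial
import Cfsg.Agent.Char.Burnside
import Cfsg.Agent.Proj.Plane

set_option autoImplicit false
open Cfsg

namespace Cfsg.Agent.S3117

open Subgroup Cfsg.Agent.Solv Cfsg.Agent.Solv.Ext Cfsg.Agent.XG
open scoped commutatorElement IsMulCommutative

/-- An anisotropic quadratic map from a group of order at most 16 to a group of order at most 4. -/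
structure QM (V U : Type*) [CommGroup V] [CommGroup U] (q : V → U) : Prop where
  sqV : ∀ v : V, v * v = 1
  sqU : ∀ u : U, u * u = 1
  one : q 1 = 1
  ani : ∀ v, q v = 1 → v = 1
  p3 : ∀ x y w, q (x * y * w) * q (x * y) * q (x * w) * q (y * w) * q x * q y * q w = 1
  cV : Nat.card V ≤ 16
  cU : Nat.card U ≤ 4

theorem iter_eq {V : Type*} [Group V] (α : MulAut V) (n : ℕ) (x : V) : (⇑α)^[n] x = (α ^ n) x := by
  induction n generalizing x with
  | zero => rfl
  | succ n ih => rw [Function.iterate_succ_apply, ih, pow_succ, MulAut.mul_apply]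

theorem p3_aux {U : Type*} [CommGroup U] (h : ∀ u : U, u * u = 1) (a b c d e f : U) :
    a * b * (c * d) * a * (e * b * c) * (f * b * d) * e * f * b = 1 := by
  have h' : ∀ u v : U, u * (u * v) = v := fun u v => by rw [← mul_assoc, h, one_mul]
  simp only [mul_comm, mul_left_comm, mul_assoc, h, h']

namespace QM

variable {V U : Type*} [CommGroup V] [CommGroup U] {q : V → U} (h : QM V U q)
include h

theorem sqV' (a b : V) : a * (a * b) = b := by rw [← mul_assoc, h.sqV, one_mul]

theorem sqU' (a b : U) : a * (a * b) = b := by rw [← mul_assoc, h.sqU, one_mul]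

theorem seven {a b : U} (ha : a ≠ 1) (hb : b ≠ 1) {x y w : V}
    (H : ∀ v, v = x * y * w ∨ v = x * y ∨ v = x * w ∨ v = y * w ∨ v = x ∨ v = y ∨ v = w →
      q v = a ∨ q v = b) : False := by
  have PP : ∀ g k : U, g = a ∨ g = b → k = a ∨ k = b → g * k = 1 ∨ g * k = a * b := by
    rintro g k (rfl | rfl) (rfl | rfl)
    · exact Or.inl (h.sqU _)
    · exact Or.inr rfl
    · exact Or.inr (mul_comm _ _)
    · exact Or.inl (h.sqU _)
  have QP : ∀ g k : U, g = 1 ∨ g = a * b → k = a ∨ k = b → g * k = a ∨ g * k = b := by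
    rintro g k (rfl | rfl) (rfl | rfl)
    · exact Or.inl (one_mul _)
    · exact Or.inr (one_mul _)
    · right; rw [mul_comm, h.sqU']
    · left; rw [mul_assoc, h.sqU, mul_one]
  have := QP _ _ (PP _ _ (QP _ _ (PP _ _ (QP _ _ (PP _ _ (H (x * y * w) (by simp))
    (H (x * y) (by simp))) (H (x * w) (by simp))) (H (y * w) (by simp))) (H x (by simp)))
    (H y (by simp))) (H w (by simp))
  rw [h.p3] at this
  rcases this with e | e
  · exact ha e.symm
  · exact hb e.symm

theorem not_seven {α : MulAut V} (hq : ∀ v, q (α v) = q v) (h7 : α ^ 7 = 1) : α = 1 := by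
  by_contra hne
  obtain ⟨v, hv⟩ : ∃ v, α v ≠ v := by
    by_contra hc
    push Not at hc
    exact hne (MulEquiv.ext hc)
  have hv7 : α (α (α (α (α (α (α v)))))) = v := by
    have := congrArg (fun β : MulAut V => β v) h7
    simpa [pow_succ] using this
  have hq2 : ∀ v, q (α (α v)) = q v := fun v => by rw [hq, hq]
  have hq3 : ∀ v, q (α (α (α v))) = q v := fun v => by rw [hq, hq2]
  have hq4 : ∀ v, q (α (α (α (α v)))) = q v := fun v => by rw [hq, hq3]
  have hq5 : ∀ v, q (α (α (α (α (α v))))) = q v := fun v => by rw [hq, hq4]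
  have hq6 : ∀ v, q (α (α (α (α (α (α v)))))) = q v := fun v => by rw [hq, hq5]
  obtain ⟨w, hw⟩ : ∃ w, w = v * α v := ⟨_, rfl⟩
  have hw1 : w ≠ 1 := fun e => hv (by
    have := congrArg (fun t => v * t) (hw.symm.trans e)
    simpa [h.sqV'] using this)
  by_cases hc : α (α (α w)) = w * α w
  · have e4 : α (α (α (α w))) = α w * α (α w) := by rw [hc, map_mul]
    have e5 : α (α (α (α (α w)))) = w * α w * α (α w) := by
      rw [e4, map_mul, hc, mul_comm]
    have e6 : α (α (α (α (α (α w))))) = w * α (α w) := by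
      rw [e5, map_mul, map_mul, hc]
      simp only [mul_comm, mul_left_comm, mul_assoc, h.sqV, h.sqV']
    have hne1 : q w ≠ 1 := fun e => hw1 (h.ani _ e)
    refine h.seven hne1 hne1 (x := w) (y := α w) (w := α (α w)) ?_
    rintro _ (rfl | rfl | rfl | rfl | rfl | rfl | rfl) <;> left
    · rw [← e5, hq5]
    · rw [← hc, hq3]
    · rw [← e6, hq6]
    · rw [← e4, hq4]
    · rfl
    · rw [hq]
    · rw [hq2]
  · obtain ⟨s, hs⟩ : ∃ s, s = w * α w * α (α (α w)) := ⟨_, rfl⟩
    have hs1 : s ≠ 1 := fun e => hc (by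
      have := congrArg (fun t => w * α w * t) (hs.symm.trans e)
      rwa [h.sqV', mul_one] at this)
    have e3 : α (α (α s)) = s * α (α s) := by
      rw [hs, hw]
      simp only [map_mul, hv7]
      simp only [mul_comm, mul_left_comm, mul_assoc, h.sqV, h.sqV', mul_one]
    have e4 : α (α (α (α s))) = s * α s * α (α s) := by
      rw [e3, map_mul, e3]
      simp only [mul_comm, mul_left_comm, mul_assoc]
    have e5 : α (α (α (α (α s)))) = s * α s := by
      rw [e4, map_mul, map_mul, e3]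
      simp only [mul_comm, mul_left_comm, mul_assoc, h.sqV, h.sqV', mul_one]
    have e6 : α (α (α (α (α (α s))))) = α s * α (α s) := by rw [e5, map_mul]
    have hne1 : q s ≠ 1 := fun e => hs1 (h.ani _ e)
    refine h.seven hne1 hne1 (x := s) (y := α s) (w := α (α s)) ?_
    rintro _ (rfl | rfl | rfl | rfl | rfl | rfl | rfl) <;> left
    · rw [← e4, hq4]
    · rw [← e5, hq5]
    · rw [← e3, hq3]
    · rw [← e6, hq6]
    · rfl
    · rw [hq]
    · rw [hq2]

variable [Finite V]

theorem counts {α : MulAut V} (hne : α ≠ 1) {r : ℕ} (hr : r.Prime) (hα : α ^ r = 1) :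
    ∃ n m : ℕ, m < n ∧ n ≤ 4 ∧ Nat.card V = 2 ^ n ∧ Nat.card (Fx V α) = 2 ^ m ∧
      2 ^ n ≡ 2 ^ m [MOD r] := by
  have h2 : IsPGroup 2 V := fun v => ⟨1, by rw [pow_one, sq, h.sqV]⟩
  obtain ⟨n, hn⟩ := h2.exists_card_eq
  obtain ⟨m, hm⟩ := (h2.to_subgroup (Fx V α)).exists_card_eq
  have hlt : Fx V α < ⊤ := lt_top_iff_ne_top.2 fun e =>
    hne (MulEquiv.ext fun x => (e.ge (mem_top x) : x ∈ Fx V α))
  have h1 := Grp.card_lt_of_lt hlt
  rw [card_top, hn, hm] at h1
  have h16 := h.cV
  rw [hn] at h16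
  refine ⟨n, m, (Nat.pow_lt_pow_iff_right one_lt_two).1 h1,
    (Nat.pow_le_pow_iff_right one_lt_two).1 (by simpa using h16), hn, hm, ?_⟩
  have := Proj.ncard_modEq_fixed (Z := (Set.univ : Set V)) (f := α) hr (fun _ _ => trivial)
    (fun x _ => by rw [iter_eq, hα]; rfl)
  rw [Set.ncard_univ, hn] at this
  rw [← hm]
  convert this using 1
  rw [← Nat.card_coe_set_eq]
  exact Nat.card_congr (Equiv.subtypeEquivRight fun x => by simp [mem_Fx])

theorem prime_cases {α : MulAut V} (hq : ∀ v, q (α v) = q v) (hne : α ≠ 1) {r : ℕ} (hr : r.Prime)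
    (hα : α ^ r = 1) : r = 2 ∨ r = 3 ∨ r = 5 := by
  obtain ⟨n, m, h1, h2, -, -, h3⟩ := h.counts hne hr hα
  have h4 : r ∣ 2 ^ n - 2 ^ m := (Nat.modEq_iff_dvd' (Nat.pow_le_pow_right two_pos h1.le)).1 h3.symm
  have h5 : r ∣ 2 ^ 3 * 3 * 5 * 7 := by
    refine h4.trans ?_
    interval_cases n <;> interval_cases m <;> norm_num
  rcases (Nat.Prime.dvd_mul hr).1 h5 with h5 | h5
  · rcases (Nat.Prime.dvd_mul hr).1 h5 with h5 | h5
    · rcases (Nat.Prime.dvd_mul hr).1 h5 with h5 | h5
      · exact Or.inl ((Nat.prime_dvd_prime_iff_eq hr Nat.prime_two).1 (hr.dvd_of_dvd_pow h5))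
      · exact Or.inr (Or.inl ((Nat.prime_dvd_prime_iff_eq hr Nat.prime_three).1 h5))
    · exact Or.inr (Or.inr ((Nat.prime_dvd_prime_iff_eq hr Nat.prime_five).1 h5))
  · obtain rfl := (Nat.prime_dvd_prime_iff_eq hr (by norm_num)).1 h5
    exact absurd (h.not_seven hq hα) hne

theorem exists_value (h8 : 8 ≤ Nat.card V) {a b : U} (ha : a ≠ 1) (hb : b ≠ 1) :
    ∃ v, v ≠ 1 ∧ q v ≠ a ∧ q v ≠ b := by
  classical
  have := Fintype.ofFinite V
  rw [Nat.card_eq_fintype_card] at h8
  have ex : ∀ s : Finset V, s.card ≤ 4 → ∃ v, v ∉ s := fun s hs =>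
    (Finset.exists_mem_notMem_of_card_lt_card (s := s) (t := Finset.univ)
      (by rw [Finset.card_univ]; omega)).imp fun _ h => h.2
  obtain ⟨x, hx⟩ := ex {1} (by simp)
  obtain ⟨y, hy⟩ := ex {1, x} (Finset.card_le_two.trans (by norm_num))
  obtain ⟨w, hw⟩ := ex {1, x, y, x * y} Finset.card_le_four
  simp only [Finset.mem_insert, Finset.mem_singleton, not_or] at hx hy hw
  have key : ∀ s t : V, s * t = 1 → t = s := fun s t e => by
    have := congrArg (fun z => s * z) e
    simpa [h.sqV'] using this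
  by_contra hc
  push Not at hc
  refine h.seven ha hb (x := x) (y := y) (w := w) fun v hv => ?_
  have hv1 : v ≠ 1 := by
    rcases hv with rfl | rfl | rfl | rfl | rfl | rfl | rfl
    · exact fun e => hw.2.2.2 (key _ _ e)
    · exact fun e => hy.2 (key _ _ e)
    · exact fun e => hw.2.1 (key _ _ e)
    · exact fun e => hw.2.2.1 (key _ _ e)
    · exact hx
    · exact hy.1
    · exact hw.1
  by_cases e : q v = a
  · exact Or.inl e
  · exact Or.inr (hc v hv1 e)

theorem not_fifteen [Finite U] {α β : MulAut V} (hqα : ∀ v, q (α v) = q v) (hqβ : ∀ v, q (β v) = q v)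
    (hα : α ^ 5 = 1) (hα1 : α ≠ 1) (hβ : β ^ 3 = 1) : β = 1 := by
  classical
  by_contra hβ1
  obtain ⟨n, m, h1, h2, hn, hm, h3⟩ := h.counts hα1 Nat.prime_five hα
  obtain ⟨rfl, rfl⟩ : n = 4 ∧ m = 0 := by
    interval_cases n <;> interval_cases m <;> simp_all [Nat.ModEq]
  obtain ⟨n', m', h1', -, hn', hm', h3'⟩ := h.counts hβ1 Nat.prime_three hβ
  obtain rfl : n' = 4 := Nat.pow_right_injective le_rfl (hn'.symm.trans hn)
  have hF4 : Nat.card (Fx V β) ≤ 4 := by
    rw [hm']
    interval_cases m' <;> simp_all [Nat.ModEq]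
  have hfix : ∀ v, α v = v → v = 1 := by
    intro v hv
    have : Fx V α = ⊥ := card_eq_one.1 hm
    exact mem_bot.1 (this ▸ hv)
  have h8 : 8 ≤ Nat.card V := by rw [hn]; norm_num
  obtain ⟨x, hx⟩ : ∃ x : V, x ≠ 1 := by
    have : Nontrivial V := Finite.one_lt_card_iff_nontrivial.1 (by omega)
    exact exists_ne 1
  have hx' : q x ≠ 1 := fun e => hx (h.ani _ e)
  obtain ⟨y, hy, hyx, -⟩ := h.exists_value h8 hx' hx'
  have hy' : q y ≠ 1 := fun e => hy (h.ani _ e)
  obtain ⟨w, hw, hwx, hwy⟩ := h.exists_value h8 hx' hy'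
  have hw' : q w ≠ 1 := fun e => hw (h.ani _ e)
  have := Fintype.ofFinite V
  have := Fintype.ofFinite U
  have c4 : ({1, q x, q y, q w} : Finset U).card = 4 := by
    rw [Finset.card_insert_of_notMem (by simp [hx'.symm, hy'.symm, hw'.symm]),
      Finset.card_insert_of_notMem (by simp [hyx.symm, hwx.symm]),
      Finset.card_insert_of_notMem (by simp [hwy.symm]), Finset.card_singleton]
  have hU : ({1, q x, q y, q w} : Finset U) = Finset.univ :=
    Finset.eq_univ_of_card _ (le_antisymm (Finset.card_le_univ _) (by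
      rw [c4, ← Nat.card_eq_fintype_card]; exact h.cU))
  have hsum : ∀ s : Finset V, 1 ∈ s → s.card = 1 + (s.filter (q · = q x)).card +
      (s.filter (q · = q y)).card + (s.filter (q · = q w)).card := by
    intro s hs
    rw [Finset.card_eq_sum_card_fiberwise (f := q) (t := {1, q x, q y, q w})
      (fun v _ => by rw [hU]; exact Finset.mem_univ _),
      Finset.sum_insert (by simp [hx'.symm, hy'.symm, hw'.symm]),
      Finset.sum_insert (by simp [hyx.symm, hwx.symm]),
      Finset.sum_insert (by simp [hwy.symm]), Finset.sum_singleton]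
    have : s.filter (q · = 1) = {1} := by
      ext v
      simp only [Finset.mem_filter, Finset.mem_singleton]
      exact ⟨fun hv => h.ani _ hv.2, fun hv => hv ▸ ⟨hs, h.one⟩⟩
    rw [this, Finset.card_singleton]
    omega
  have key : ∀ v : V, v ≠ 1 → 0 < (Finset.univ.filter (q · = q v)).card ∧
      5 ∣ (Finset.univ.filter (q · = q v)).card ∧
      (Finset.univ.filter (q · = q v)).card ≡
        ((Finset.univ.filter (fun t => β t = t)).filter (q · = q v)).card [MOD 3] := by
    intro v hv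
    refine ⟨Finset.card_pos.2 ⟨v, by simp⟩, ?_, ?_⟩
    · by_contra hd
      obtain ⟨t, ht, ht'⟩ := Proj.exists_fixed_of_not_dvd (Z := {t | q t = q v}) (f := α)
        Nat.prime_five (fun t ht => (hqα t).trans ht)
        (fun x _ => by rw [iter_eq, hα]; rfl)
        (by rwa [← Set.ncard_coe_finset, Finset.coe_filter_univ] at hd)
      rw [hfix t ht', Set.mem_ofPred_eq, h.one] at ht
      exact hv (h.ani _ ht.symm)
    · have := Proj.ncard_modEq_fixed (Z := {t | q t = q v}) (f := β)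
        Nat.prime_three (fun t ht => (hqβ t).trans ht)
        (fun x _ => by rw [iter_eq, hβ]; rfl)
      rw [← Set.ncard_coe_finset, ← Set.ncard_coe_finset, Finset.coe_filter_univ]
      convert this using 2
      ext t
      simp [and_comm]
  have s1 := hsum Finset.univ (Finset.mem_univ _)
  have s2 := hsum (Finset.univ.filter (fun t => β t = t)) (by simp)
  have s3 : (Finset.univ.filter (fun t => β t = t)).card ≤ 4 := by
    refine le_trans (le_of_eq ?_) hF4
    rw [← Fintype.card_subtype, ← Nat.card_eq_fintype_card]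
    rfl
  rw [Finset.card_univ, ← Nat.card_eq_fintype_card, hn] at s1
  obtain ⟨a1, a2, a3⟩ := key x hx
  obtain ⟨b1, b2, b3⟩ := key y hy
  obtain ⟨c1, c2, c3⟩ := key w hw
  unfold Nat.ModEq at a3 b3 c3
  have e1 : (Finset.univ.filter (q · = q x)).card = 5 := by omega
  have e2 : (Finset.univ.filter (q · = q y)).card = 5 := by omega
  have e3 : (Finset.univ.filter (q · = q w)).card = 5 := by omega
  rw [e1] at a3
  rw [e2] at b3
  rw [e3] at c3
  omega

end QM

theorem solvable_of_primes {G : Type*} [Group G] [Finite G] {r : ℕ} (hr : r.Prime)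
    (h : ∀ s : ℕ, s.Prime → s ∣ Nat.card G → s = 2 ∨ s = r) : Group.IsSolvable G := by
  refine Char.isSolvable_of_card_dvd_pow_mul_pow (a := Nat.card G) (b := Nat.card G)
    Nat.prime_two hr G ?_
  rw [← mul_pow]
  refine (Nat.dvd_pow_self_iff (Nat.card_pos (α := G)).ne' (mul_ne_zero two_ne_zero hr.ne_zero)).2 ?_
  intro s hs
  have hs' := Nat.prime_of_mem_primeFactors hs
  refine Nat.mem_primeFactors.2 ⟨hs', ?_, mul_ne_zero two_ne_zero hr.ne_zero⟩
  rcases h s hs' (Nat.dvd_of_mem_primeFactors hs) with rfl | rfl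
  · exact dvd_mul_right _ _
  · exact dvd_mul_left _ _

section

variable {X : Type*} [Group X] [Finite X] (h2 : IsPGroup 2 X)
  (h3 : Nat.card {x : X // orderOf x = 2} = 3)
include h2 h3

omit h2 in
theorem mem_three {z x : X} (hz : orderOf z = 2) (hx : orderOf x = 2) (hc : z * x = x * z)
    (hne : x ≠ z) {y : X} (hy : y * y = 1) : y = 1 ∨ y = z ∨ y = x ∨ y = x * z := by
  have hz2 : z * z = 1 := by rw [← sq, ← hz, pow_orderOf_eq_one]
  have hx2 : x * x = 1 := by rw [← sq, ← hx, pow_orderOf_eq_one]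
  have hz1 : z ≠ 1 := by rintro rfl; simp at hz
  have hx1 : x ≠ 1 := by rintro rfl; simp at hx
  have hxz : orderOf (x * z) = 2 := by
    refine orderOf_eq_prime ?_ fun e => hne ?_
    · rw [sq, mul_assoc, ← mul_assoc z, hc, mul_assoc, hz2, mul_one, hx2]
    · rw [← mul_one x, ← hz2, ← mul_assoc, e, one_mul]
  by_cases hy1 : y = 1
  · exact Or.inl hy1
  right
  have hs : ({z, x, x * z} : Set X) ⊆ {x | orderOf x = 2} := by
    rintro _ (rfl | rfl | rfl) <;> assumption
  have hc3 : ({z, x, x * z} : Set X).ncard = 3 := Set.ncard_eq_three.2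
    ⟨z, x, x * z, hne.symm, by simpa using hx1, by simpa using hz1, rfl⟩
  have := Set.eq_of_subset_of_ncard_le hs (by rw [hc3, ← h3]; exact le_of_eq (Nat.card_coe_set_eq _).symm)
  have hy' : y ∈ ({z, x, x * z} : Set X) := by
    rw [this]; exact orderOf_eq_prime (by rw [sq, hy]) hy1
  simpa using hy'

theorem comm_inv {x y : X} (hx : x * x = 1) (hy : y * y = 1) : x * y = y * x := by
  have hne : (⊤ : Subgroup X) ≠ ⊥ := by
    intro e
    obtain ⟨⟨t, ht⟩⟩ := (Nat.card_pos_iff.1 (h3 ▸ by norm_num : 0 < Nat.card {x : X // orderOf x = 2})).1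
    have : t = 1 := mem_bot.1 (e ▸ mem_top t)
    simp [this] at ht
  obtain ⟨z, -, hz, hzc⟩ := Inv.exists_central_involution_of_isPGroup (h2.to_subgroup ⊤) hne
  by_cases hx1 : x = 1
  · simp [hx1]
  by_cases hxz : x = z
  · rw [hxz, hzc y (mem_top y)]
  rcases mem_three h3 hz (orderOf_eq_prime (by rw [sq, hx]) hx1) (hzc x (mem_top x)).symm hxz hy
    with rfl | rfl | rfl | rfl
  · simp
  · exact hzc x (mem_top x)
  · rfl
  · rw [mul_assoc, ← hzc x (mem_top x)]

/-- The elements of order at most two. -/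
def om : Subgroup X where
  carrier := {x | x * x = 1}
  one_mem' := one_mul 1
  mul_mem' := fun {x y} hx hy => by
    change x * y * (x * y) = 1
    rw [mul_assoc, ← mul_assoc y, ← comm_inv h2 h3 hx hy, mul_assoc, hy, mul_one, hx]
  inv_mem' := fun {x} hx => by
    change x⁻¹ * x⁻¹ = 1
    rw [← mul_inv_rev, hx, inv_one]

theorem card_om : Nat.card (om h2 h3) ≤ 4 := by
  have hs : (om h2 h3 : Set X) ⊆ insert 1 {x | orderOf x = 2} := by
    intro x hx
    by_cases hx1 : x = 1
    · exact Or.inl hx1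
    · exact Or.inr (orderOf_eq_prime (by rw [sq]; exact hx) hx1)
  have h1 := Set.ncard_le_ncard hs
  have h4 := Set.ncard_insert_le (1 : X) {x | orderOf x = 2}
  have h5 : {x : X | orderOf x = 2}.ncard = 3 := by rw [← h3]; exact (Nat.card_coe_set_eq _).symm
  rw [h5] at h4
  exact (le_of_eq (Nat.card_coe_set_eq _)).trans (h1.trans h4)

theorem primes : ∃ r : ℕ, r.Prime ∧ ∀ α : MulAut X, (∀ x, x * x = 1 → α x = x) →
    (orderOf α).Prime → orderOf α = 2 ∨ orderOf α = r := by
  obtain ⟨D, hDc, hD4, hDD, hDf⟩ := Grp.CritExp.exists_char h2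
  rw [Grp.CritExp.expQ_two] at hD4
  have hcm : ∀ a ∈ D, ∀ b, ⁅a, b⁆ ∈ D ⊓ centralizer (D : Set X) := fun a ha b =>
    hDD (commutator_mem_commutator ha (mem_top b))
  have hcc : ∀ c ∈ D, ∀ a ∈ D, ∀ b, Commute c ⁅a, b⁆ := fun c hc a ha b => (hcm a ha b).2 c hc
  have hc2 : ∀ a ∈ D, ∀ b ∈ D, ⁅a, b⁆ * ⁅a, b⁆ = 1 := by
    intro a ha b hb
    have e := Grp.ES.mul_pow_of_comm_central (hcc b hb a ha b) (hcc a ha a ha b) 4
    rw [hD4 _ (D.mul_mem hb ha), hD4 _ hb, hD4 _ ha, one_mul, one_mul,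
      show Nat.choose 4 2 = 4 + 2 from rfl, pow_add, hD4 _ (hcm a ha b).1, one_mul, sq] at e
    exact e.symm
  have hsq : ∀ a ∈ D, a * a * (a * a) = 1 := fun a ha => by
    rw [← hD4 a ha]; simp [pow_succ, mul_assoc]
  have hmul : ∀ a ∈ D, ∀ b ∈ D, a * b * (a * b) = a * a * (b * b) * ⁅b, a⁆ := by
    intro a ha b hb
    have e := Grp.ES.mul_pow_of_comm_central (hcc a ha b hb a) (hcc b hb b hb a) 2
    simpa [sq] using e
  have hcen : ∀ t ∈ D, t * t = 1 → ∀ d ∈ D, ⁅t, d⁆ = 1 := by
    intro t ht ht2 d hd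
    by_contra hc
    have hco : orderOf ⁅t, d⁆ = 2 := orderOf_eq_prime (by rw [sq, hc2 t ht d hd]) hc
    have ht1 : t ≠ 1 := by rintro rfl; simp at hc
    have hne : t ≠ ⁅t, d⁆ := fun e =>
      hc (commutatorElement_eq_one_iff_commute.2 (e ▸ (hcc d hd t ht d).symm))
    rcases mem_three h3 hco (orderOf_eq_prime (by rw [sq, ht2]) ht1) (hcc t ht t ht d).symm hne
      (hsq d hd) with e | e | e | e
    · exact hc (commutatorElement_eq_one_iff_mul_comm.2 (comm_inv h2 h3 ht2 e))
    · have := hmul d hd t ht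
      rw [e, ht2, mul_one, hc2 t ht d hd] at this
      have := comm_inv h2 h3 ht2 this
      rw [← mul_assoc, mul_left_inj] at this
      exact hc (commutatorElement_eq_one_iff_mul_comm.2 this)
    · exact hc (commutatorElement_eq_one_iff_mul_comm.2 (by rw [← e, mul_assoc]))
    · have h1 : Commute d (t * ⁅t, d⁆) := e ▸ (Commute.refl d).mul_right (Commute.refl d)
      have h4 := h1.mul_right (hcc d hd t ht d).inv_right
      rw [mul_inv_cancel_right] at h4
      exact hc (commutatorElement_eq_one_iff_commute.2 h4.symm)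
  obtain ⟨U, hU⟩ : ∃ U : Subgroup X, U = om h2 h3 := ⟨_, rfl⟩
  have mU : ∀ x, x ∈ U ↔ x * x = 1 := fun x => by rw [hU]; rfl
  have hUc : IsMulCommutative U := ⟨⟨fun x y => Subtype.ext
    (comm_inv h2 h3 ((mU _).1 x.2) ((mU _).1 y.2))⟩⟩
  have hUn : U.Normal := ⟨fun x hx g => (mU _).2 (by
    have := (mU _).1 hx
    calc g * x * g⁻¹ * (g * x * g⁻¹) = g * (x * x) * g⁻¹ := by group
      _ = 1 := by rw [this]; group)⟩
  have hVc : IsMulCommutative (D ⧸ U.subgroupOf D) := by
    refine ⟨⟨fun x y => ?_⟩⟩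
    obtain ⟨x, rfl⟩ := QuotientGroup.mk_surjective x
    obtain ⟨y, rfl⟩ := QuotientGroup.mk_surjective y
    rw [← commutatorElement_eq_one_iff_mul_comm]
    change ((⁅x, y⁆ : D) : D ⧸ U.subgroupOf D) = 1
    rw [QuotientGroup.eq_one_iff]
    exact (mU _).2 (hc2 x x.2 y y.2)
  let sqr : D → U := fun d => ⟨d * d, (mU _).2 (hsq d d.2)⟩
  let cmm : D → D → U := fun a b => ⟨⁅(a : X), b⁆, (mU _).2 (hc2 a a.2 b b.2)⟩
  have m1 : ∀ a b : D, sqr (a * b) = sqr a * sqr b * cmm b a := fun a b =>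
    Subtype.ext (hmul a a.2 b b.2)
  have m2 : ∀ a b c : D, cmm a (b * c) = cmm a b * cmm a c := fun a b c =>
    Subtype.ext (Grp.ES.comm_mul_right (hcc b b.2 a a.2 c))
  have sU : ∀ u : U, u * u = 1 := fun u => Subtype.ext ((mU _).1 u.2)
  let q : D ⧸ U.subgroupOf D → U := Quotient.lift sqr (by
    intro a b hab
    have hab' : a⁻¹ * b ∈ U.subgroupOf D := QuotientGroup.leftRel_apply.1 hab
    obtain ⟨t, rfl⟩ : ∃ t, b = a * t := ⟨a⁻¹ * b, by group⟩
    rw [inv_mul_cancel_left] at hab'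
    have ht2 := (mU _).1 hab'
    have e1 : sqr t = 1 := Subtype.ext ht2
    have e2 : cmm t a = 1 := Subtype.ext (hcen t t.2 ht2 a a.2)
    rw [m1, e1, e2, mul_one, mul_one])
  have hq : ∀ d : D, q d = sqr d := fun _ => rfl
  have no : MacW.NoE8 X := fun A _ _ hA => le_trans (card_le_of_le fun a ha => by
    change a * a = 1
    rw [← sq]; exact hA a ha) (card_om h2 h3)
  have H : QM (D ⧸ U.subgroupOf D) U q := by
    refine ⟨fun v => ?_, sU, Subtype.ext (one_mul 1), fun v hv => ?_, fun x y w => ?_, ?_,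
      hU ▸ card_om h2 h3⟩
    · obtain ⟨x, rfl⟩ := QuotientGroup.mk_surjective v
      rw [← QuotientGroup.mk_mul, QuotientGroup.eq_one_iff]
      exact (mU _).2 (hsq x x.2)
    · obtain ⟨x, rfl⟩ := QuotientGroup.mk_surjective v
      rw [QuotientGroup.eq_one_iff]
      exact (mU _).2 (congrArg Subtype.val hv)
    · obtain ⟨x, rfl⟩ := QuotientGroup.mk_surjective x
      obtain ⟨y, rfl⟩ := QuotientGroup.mk_surjective y
      obtain ⟨w, rfl⟩ := QuotientGroup.mk_surjective w
      simp only [← QuotientGroup.mk_mul, hq]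
      rw [m1 (x * y), m1 x w, m1 y w, m2]
      exact p3_aux sU _ _ _ _ _ _
    · have h16 := MacW.card_le h2 no (H := D) (N := U ⊓ D) inf_le_right
        (fun x hx y hy => ⟨(mU _).2 (hc2 x hx y hy), (hcm x hx y).1⟩)
        (fun x hx => ⟨(mU _).2 (by rw [sq]; exact hsq x hx), D.pow_mem hx 2⟩)
      have e := (U.subgroupOf D).card_mul_index
      rw [← inf_subgroupOf_right, Nat.card_congr (subgroupOfEquivOfLe inf_le_right).toEquiv,
        inf_subgroupOf_right] at e
      rw [← e, mul_comm] at h16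
      exact Nat.le_of_mul_le_mul_right h16 Nat.card_pos
  obtain ⟨iD, hiD⟩ := exists_subAction (A := MulAut X) (inv_of_characteristic D)
  have hI : Inv (MulAut X) (U.subgroupOf D) := fun α x hx => by
    rw [mem_subgroupOf, hiD, mU, ← smul_mul', (mU x).1 hx, smul_one]
  obtain ⟨iV, hiV⟩ := exists_quotAction hI
  let φ := MulDistribMulAction.toMulAut (MulAut X) (D ⧸ U.subgroupOf D)
  have hφq : ∀ α : MulAut X, (∀ x, x * x = 1 → α x = x) → ∀ v, q (φ α v) = q v := by
    intro α hα v
    obtain ⟨x, rfl⟩ := QuotientGroup.mk_surjective v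
    change q (α • (x : D ⧸ U.subgroupOf D)) = _
    rw [hiV, hq, hq]
    apply Subtype.ext
    change ((α • x : D) : X) * ((α • x : D) : X) = x * x
    rw [hiD, ← smul_mul']
    exact hα _ (hsq x x.2)
  have hφ1 : ∀ α : MulAut X, (∀ x, x * x = 1 → α x = x) → (orderOf α).Prime → orderOf α ≠ 2 →
      φ α ≠ 1 := by
    intro α hα hp hp2 e
    have hodd := hp.odd_of_ne_two hp2
    have : α = 1 := hDf α (Nat.coprime_two_right.2 hodd) fun d hd => by
      refine fix_of_fix_diff (A := MulAut X) h2 hodd (hα _ ((mU _).1 ?_))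
      have h1 : α • ((⟨d, hd⟩ : D) : D ⧸ U.subgroupOf D) = (⟨d, hd⟩ : D) :=
        congrArg (fun β : MulAut (D ⧸ U.subgroupOf D) => β ((⟨d, hd⟩ : D) : D ⧸ U.subgroupOf D)) e
      rw [hiV, eq_comm, QuotientGroup.eq, mem_subgroupOf, coe_mul, hiD] at h1
      exact h1
    rw [this, orderOf_one] at hp
    exact Nat.not_prime_one hp
  have hφp : ∀ α : MulAut X, φ α ^ orderOf α = 1 := fun α => by
    rw [← map_pow, pow_orderOf_eq_one, map_one]
  by_cases h5 : ∃ α : MulAut X, (∀ x, x * x = 1 → α x = x) ∧ orderOf α = 5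
  · obtain ⟨α, hα, hα5⟩ := h5
    refine ⟨5, Nat.prime_five, fun β hβ hp => ?_⟩
    by_cases hp2 : orderOf β = 2
    · exact Or.inl hp2
    rcases H.prime_cases (hφq β hβ) (hφ1 β hβ hp hp2) hp (hφp β) with e | e | e
    · exact Or.inl e
    · exact absurd (H.not_fifteen (hφq α hα) (hφq β hβ) (hα5 ▸ hφp α)
        (hφ1 α hα (hα5 ▸ Nat.prime_five) (by omega)) (e ▸ hφp β)) (hφ1 β hβ hp hp2)
    · exact Or.inr e
  · refine ⟨3, Nat.prime_three, fun β hβ hp => ?_⟩
    by_cases hp2 : orderOf β = 2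
    · exact Or.inl hp2
    rcases H.prime_cases (hφq β hβ) (hφ1 β hβ hp hp2) hp (hφp β) with e | e | e
    · exact Or.inl e
    · exact Or.inr e
    · exact absurd ⟨β, hβ, e⟩ h5

end

/-- If X is a finite 2-group containing exactly three involutions, then the automorphism group of X is solvable. -/
theorem result {X : Type*} [Group X] [Finite X] (h2 : IsPGroup 2 X) (h3 : Nat.card {x : X // orderOf x = 2} = 3) : Group.IsSolvable (MulAut X) := by
  have hfin : Finite (MulAut X) := Finite.of_injective _ DFunLike.coe_injective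
  obtain ⟨r, hr, H⟩ := primes h2 h3
  let T : SubMulAction (MulAut X) X := ⟨{x | orderOf x = 2}, fun α {x} hx =>
    (α.orderOf_eq x).trans hx⟩
  let ψ := MulAction.toPermHom (MulAut X) T
  have hT : Nat.card T = 3 := h3
  have s1 : Group.IsSolvable (Equiv.Perm T) := by
    refine Char.isSolvable_of_card_dvd_pow_mul_pow (a := 1) (b := 1) Nat.prime_two Nat.prime_three
      _ ?_
    rw [Nat.card_perm, hT]
    rfl
  have s2 : Group.IsSolvable ψ.ker := by
    refine solvable_of_primes hr fun s hs hd => ?_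
    have := Fact.mk hs
    obtain ⟨α, hα⟩ := exists_prime_orderOf_dvd_card' s hd
    rw [← orderOf_coe] at hα
    rw [← hα] at hs ⊢
    refine H α (fun x hx => ?_) hs
    by_cases hx1 : x = 1
    · rw [hx1, map_one]
    · have := congrArg (fun σ : Equiv.Perm T =>
        (σ ⟨x, orderOf_eq_prime (by rw [sq, hx]) hx1⟩ : X)) (MonoidHom.mem_ker.1 α.2)
      exact this
  exact Group.isSolvable_of_ker_le_range ψ.ker.subtype ψ (by rw [range_subtype])

end Cfsg.Agent.S3117
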