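import Cfsg.Statements.S4073
import Mathlib
import Cfsg.Agent.Inv.CTI
import Cfsg.Agent.Transfer.Frobenius
import Cfsg.Agent.Transfer.AbelianHall
import Cfsg.Agent.Grp.MinNormal
import Cfsg.Agent.FT.FeitCoh
import Cfsg.Agent.KSG.SL2Borel
import Cfsg.Agent.PLocal.Sym4Rec
import Cfsg.Agent.Perm.ZassEven

set_option autoImplicit false
open Cfsg

namespace Cfsg.Agent.S4073

open Subgroup Cfsg.Agent.FT Cfsg.Agent.Inv.CCInv Cfsg.Agent.Inv.CTI Cfsg.Agent.Transfer
open scoped IsMulCommutative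

section SN
variable {G G' : Type*} [Group G] [Group G']

/-- Every subgroup that is properly contained in its normalizer is abelian. -/
def SN (G : Type*) [Group G] : Prop :=
  ∀ (H : Subgroup G) (g : G), g ∈ 𝒩(H) → g ∉ H → ∀ a ∈ H, ∀ b ∈ H, a * b = b * a

theorem SN.of_injective (h : SN G) (f : G' →* G) (hf : Function.Injective f) : SN G' :=
  fun H g hg hn a ha b hb => hf (by
    rw [map_mul, map_mul]
    exact h (H.map f) (f g) (le_normalizer_map f ⟨g, hg, rfl⟩)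
      (fun hm => hn ((mem_map_iff_mem hf).1 hm)) _ ⟨a, ha, rfl⟩ _ ⟨b, hb, rfl⟩)

variable [Finite G]

theorem exists_primary {H : Subgroup G} {g : G} (hg : g ∉ H) :
    ∃ q : ℕ, q.Prime ∧ q ∣ orderOf g ∧ ∃ u ∈ zpowers g, u ∉ H ∧ ∃ k, u ^ q ^ k = 1 := by
  induction hm : orderOf g using Nat.strong_induction_on generalizing g with
  | _ m ih =>
  subst hm
  have h1 : orderOf g ≠ 1 := fun e => hg (orderOf_eq_one_iff.1 e ▸ H.one_mem)
  obtain ⟨q, hq, hd⟩ := Nat.exists_prime_and_dvd h1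
  have := Fact.mk hq
  obtain ⟨u, v, hu, hv, hk, hvc, e⟩ := exists_pPart_mul (p := q) g
  by_cases hu' : u ∈ H
  · have hvd : orderOf v ∣ orderOf g := orderOf_dvd_of_mem_zpowers hv
    obtain ⟨r, hr, hrd, w, hw, h2⟩ := ih (orderOf v) (lt_of_le_of_ne
      (Nat.le_of_dvd (orderOf_pos g) hvd) fun e' => hq.one_lt.ne'
        (Nat.Coprime.eq_one_of_dvd (e' ▸ hvc).symm hd)) (fun hv' => hg (e ▸ H.mul_mem hu' hv')) rfl
    exact ⟨r, hr, hrd.trans hvd, w, zpowers_le.2 hv hw, h2⟩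
  · exact ⟨q, hq, hd, u, hu, hu', hk⟩

theorem SN.key_normal (h : SN G) {Q : Subgroup G} [Q.Normal] {q : ℕ} [Fact q.Prime] {x : G}
    {k : ℕ} (hx : x ^ q ^ k = 1) (hxQ : x ∉ Q) {y : G} (hy : y ∈ Q) (hxy : x * y ≠ y * x) :
    ∃ L : Subgroup G, Q ≤ L ∧ (∀ a ∈ L, ∀ b ∈ L, a * b = b * a) ∧
      (∀ a b : G, a * b * a⁻¹ * b⁻¹ ∈ L) ∧ ∀ g : G, (orderOf g).Coprime q → g ∈ L := by
  set π := QuotientGroup.mk' Q
  have hX : IsPGroup q (zpowers (π x)) := by
    rintro ⟨_, n, rfl⟩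
    refine ⟨k, Subtype.ext ?_⟩
    show (π x ^ n) ^ q ^ k = 1
    rw [← zpow_natCast, ← zpow_mul, mul_comm, zpow_mul, zpow_natCast, ← map_pow, hx, map_one,
      one_zpow]
  have hN : 𝒩(zpowers (π x)) ≤ zpowers (π x) := fun g hg => by
    obtain ⟨g, rfl⟩ := QuotientGroup.mk'_surjective Q g
    by_contra hn
    exact hxy (h ((zpowers (π x)).comap π) g (le_normalizer_comap π hg) hn x (mem_zpowers _) y
      (by
        rw [mem_comap, show π y = 1 from (QuotientGroup.eq_one_iff y).2 hy]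
        exact one_mem _))
  obtain ⟨S, hS⟩ := hX.exists_le_sylow
  have hSX : (S : Subgroup (G ⧸ Q)) = zpowers (π x) := by
    by_contra hne
    have := S.isPGroup'.isNilpotent
    have h1 := Group.normalizerCondition_of_isNilpotent (G := S) ((zpowers (π x)).subgroupOf S)
      (lt_top_iff_ne_top.2 fun e => hne (le_antisymm (subgroupOf_eq_top.1 e) hS))
    obtain ⟨g, hg, hg'⟩ := SetLike.exists_of_lt h1
    rw [← subgroupOf_normalizer_eq hS] at hg
    exact hg' (hN hg)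
  have hC : 𝒩((S : Subgroup (G ⧸ Q))) ≤ 𝒞((S : Subgroup (G ⧸ Q))) := by
    rw [hSX]
    exact hN.trans (le_centralizer_self_of_comm inferInstance)
  obtain ⟨N, hNn, hc⟩ := (hasNormalPComplement_iff_sylow S).1
    (hasNormalPComplement_of_normalizer_le_centralizer S hC)
  have hxN : π x ∉ N := fun hm => hxQ ((QuotientGroup.eq_one_iff x).1
    (mem_bot.1 (hc.disjoint.le_bot ⟨hm, hS (mem_zpowers _)⟩)))
  refine ⟨N.comap π, fun z hz => ?_, h _ x (by rw [normalizer_eq_top]; trivial) hxN,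
    fun a b => ?_, fun g hg => ?_⟩
  · rw [mem_comap, show π z = 1 from (QuotientGroup.eq_one_iff z).2 hz]
    exact one_mem _
  · have h1 := commutator_le_sup_of_sup_eq_top hc.sup_eq_top
    rw [commutator_eq_bot_iff_le_centralizer.2 (le_normalizer.trans hC), sup_bot_eq] at h1
    rw [mem_comap, map_mul, map_mul, map_mul, map_inv, map_inv]
    exact h1 (commutator_mem_commutator (mem_top _) (mem_top _))
  · rw [mem_comap, eq_pResidual_of_isComplement' hc]
    exact mem_pResidual_of_coprime (coprime_orderOf_map π hg)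

theorem SN.key (h : SN G) {Q : Subgroup G} {q : ℕ} (hq : q.Prime) {x : G}
    {k : ℕ} (hx : x ^ q ^ k = 1) (hxN : x ∈ 𝒩(Q)) (hxQ : x ∉ Q) {y : G} (hy : y ∈ Q)
    (hxy : x * y ≠ y * x) :
    ∃ L : Subgroup G, Q ≤ L ∧ (∀ a ∈ L, ∀ b ∈ L, a * b = b * a) ∧
      (∀ a ∈ 𝒩(Q), ∀ b ∈ 𝒩(Q), a * b * a⁻¹ * b⁻¹ ∈ L) ∧
      ∀ g ∈ 𝒩(Q), (orderOf g).Coprime q → g ∈ L := by
  have := Fact.mk hq
  obtain ⟨L, h1, h2, h3, h4⟩ := (h.of_injective _ 𝒩(Q).subtype_injective).key_normal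
    (Q := Q.subgroupOf 𝒩(Q)) (x := ⟨x, hxN⟩) (k := k) (q := q) (Subtype.ext hx) hxQ
    (y := ⟨y, le_normalizer hy⟩) hy (fun e => hxy (congrArg Subtype.val e))
  refine ⟨L.map 𝒩(Q).subtype, fun z hz => ⟨⟨z, le_normalizer hz⟩, h1 hz, rfl⟩, ?_,
    fun a ha b hb => ⟨_, h3 ⟨a, ha⟩ ⟨b, hb⟩, rfl⟩,
    fun g hg hc => ⟨⟨g, hg⟩, h4 _ (by rwa [orderOf_mk]), rfl⟩⟩
  rintro _ ⟨a, ha, rfl⟩ _ ⟨b, hb, rfl⟩
  exact congrArg Subtype.val (h2 a ha b hb)

omit [Finite G] in
theorem coprime_of_mem_pgroup {p q : ℕ} (hp : p.Prime) (hq : q.Prime) (hne : p ≠ q)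
    {P : Subgroup G} (hP : IsPGroup p P) {g : G} (hg : g ∈ P) : (orderOf g).Coprime q := by
  have := Fact.mk hp
  obtain ⟨k, hk⟩ := IsPGroup.iff_orderOf.1 hP ⟨g, hg⟩
  rw [orderOf_mk] at hk
  rw [hk]
  exact ((Nat.coprime_primes hp hq).2 hne).pow_left k

variable [IsSimpleGroup G] {p : ℕ} [hp : Fact p.Prime]

theorem pResidual_eq_top (hG : ¬ IsMulCommutative G) : pResidual p G = ⊤ :=
  (pResidual_normal p G).eq_bot_or_eq_top.resolve_left fun e => by
    have := (pResidual_eq_bot_iff.1 e).isNilpotent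
    exact hG ⟨⟨IsSimpleGroup.comm_iff_isSolvable.2 inferInstance⟩⟩

theorem SN.sylow_comm (h : SN G) (hG : ¬ IsMulCommutative G) (P : Sylow p G) :
    IsMulCommutative (P : Subgroup G) := by
  by_contra hP
  have h0 := (hasNormalPComplement_iff_inf_eq_bot P).1
    (hasNormalPComplement_of_local_centric P fun B hB _ _ hc g hg hco => ?_)
  · rw [pResidual_eq_top hG, top_inf_eq] at h0
    exact hP (h0 ▸ inferInstance)
  by_contra hn
  obtain ⟨q, hq, hd, u, hu, hu', k, hk⟩ := exists_primary hn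
  have hpq : p ≠ q := by
    rintro rfl
    exact hq.one_lt.ne' (Nat.Coprime.eq_one_of_dvd hco.symm hd)
  obtain ⟨y, hy, hxy⟩ : ∃ y ∈ B, u * y ≠ y * u := by
    by_contra hn'
    push Not at hn'
    exact hu' (mem_centralizer_iff.2 fun y hy => (hn' y hy).symm)
  have huB : u ∉ B := fun hm => hxy (by
    rw [eq_one_of_mem_isPGroup_of_coprime P.isPGroup' (hB hm)
      (hco.coprime_dvd_left (orderOf_dvd_of_mem_zpowers hu)), mul_one, one_mul])
  obtain ⟨L, h1, h2, -, h4⟩ := h.key hq hk (zpowers_le.2 hg hu) huB hy hxy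
  have h5 : (P : Subgroup G) ≤ B := by
    by_contra hne
    have := P.isPGroup'.isNilpotent
    obtain ⟨a, ha, ha'⟩ := SetLike.exists_of_lt (Group.normalizerCondition_of_isNilpotent (G := P)
      (B.subgroupOf P) (lt_top_iff_ne_top.2 fun e => hne (subgroupOf_eq_top.1 e)))
    rw [← subgroupOf_normalizer_eq hB] at ha
    exact ha' (hc ⟨a.2, mem_centralizer_iff.2 fun b hb => h2 b (h1 hb) _
      (h4 _ ha (coprime_of_mem_pgroup hp.out hq hpq P.isPGroup' a.2))⟩)
  exact hP ⟨⟨fun a b => Subtype.ext (h2 _ (h1 (h5 a.2)) _ (h1 (h5 b.2)))⟩⟩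

theorem SN.cent_comm (h : SN G) (hG : ¬ IsMulCommutative G) {y : G} (hy : orderOf y = p) :
    ∀ a ∈ 𝒞[y], ∀ b ∈ 𝒞[y], a * b = b * a := by
  by_contra hC
  have hy1 : y ≠ 1 := fun e => hp.out.one_lt.ne (by rw [← hy, e, orderOf_one])
  obtain ⟨P, hP⟩ := (IsPGroup.of_card (G := zpowers y) (n := 1)
    (by rw [Nat.card_zpowers, hy, pow_one])).exists_le_sylow
  have hyP : y ∈ (P : Subgroup G) := hP (mem_zpowers y)
  have hPc := h.sylow_comm hG P
  have hPC : (P : Subgroup G) ≤ 𝒞[y] := fun a ha =>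
    mem_cent1_iff.2 (setLike_mul_comm (s := (P : Subgroup G)) ha hyP)
  obtain ⟨z, hz, hzC⟩ : ∃ z ∈ 𝒩((P : Subgroup G)), z ∉ 𝒞[y] := by
    by_contra hn
    push Not at hn
    have h1 := isComplement'_pResidual_of_comm P hPc
    rw [pResidual_eq_top hG, isComplement'_top_left] at h1
    exact hy1 (mem_bot.1 (h1.le ⟨hyP, mem_centralizer_iff.2 fun g hg =>
      mem_cent1_iff.1 (hn g hg)⟩))
  obtain ⟨q, hq, -, u, hu, huC, k, hk⟩ := exists_primary hzC
  have huN := zpowers_le.2 hz hu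
  obtain ⟨L, h1, h2, h3, -⟩ := h.key hq hk huN (fun hm => huC (hPC hm)) hyP
    (fun e => huC (mem_cent1_iff.2 e))
  have hLC : L ≤ 𝒞[y] := fun a ha => mem_cent1_iff.2 (h2 a ha y (h1 hyP))
  have h4 := h (𝒞[y] ⊓ 𝒩((P : Subgroup G))) u (mem_normalizer_fintype fun a ha => ⟨by
    rw [show u * a * u⁻¹ = u * a * u⁻¹ * a⁻¹ * a by group]
    exact mul_mem (hLC (h3 u huN a ha.2)) ha.1,
    𝒩((P : Subgroup G)).mul_mem (𝒩((P : Subgroup G)).mul_mem huN ha.2)
      (𝒩((P : Subgroup G)).inv_mem huN)⟩) (fun hm => huC hm.1)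
  obtain ⟨B, hB, hc⟩ := (hasNormalPComplement_iff_sylow (P.subtype hPC)).1
    (hasNormalPComplement_of_normalizer_le_centralizer (P.subtype hPC) fun g hg =>
      mem_centralizer_iff.2 fun a ha => Subtype.ext (h4 _ ⟨a.2, le_normalizer ha⟩ _ ⟨g.2, by
        rw [Sylow.coe_subtype, ← subgroupOf_normalizer_eq hPC] at hg
        exact hg⟩))
  have hs := h.of_injective _ (𝒞[y]).subtype_injective
  have hdec : ∀ c : 𝒞[y], ∃ b ∈ B, ∃ a : 𝒞[y], (a : G) ∈ (P : Subgroup G) ∧ b * a = c :=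
    fun c => by
      obtain ⟨⟨b, a⟩, e⟩ := (hc.existsUnique c).exists
      exact ⟨b, b.2, a, a.2, e⟩
  have hBP : ∀ a : 𝒞[y], a ∈ B → (a : G) ∈ (P : Subgroup G) → a = 1 := fun a h1 h2 =>
    mem_bot.1 (hc.disjoint.le_bot ⟨h1, h2⟩)
  have hBc := hs B ⟨y, mem_cent1_self y⟩ (by rw [normalizer_eq_top]; trivial)
    (fun hm => hy1 (congrArg Subtype.val (hBP _ hm hyP)))
  have hPP : ∀ a b : 𝒞[y], (a : G) ∈ (P : Subgroup G) → (b : G) ∈ (P : Subgroup G) →
      a * b = b * a := fun a b ha hb => Subtype.ext (setLike_mul_comm (s := (P : Subgroup G)) ha hb)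
  obtain ⟨x, hx, b, hb, hxb⟩ : ∃ x : 𝒞[y], (x : G) ∈ (P : Subgroup G) ∧ ∃ b ∈ B, x * b ≠ b * x := by
    by_contra hn
    push Not at hn
    refine hC fun c hc d hd => congrArg Subtype.val
      (show (⟨c, hc⟩ * ⟨d, hd⟩ : 𝒞[y]) = ⟨d, hd⟩ * ⟨c, hc⟩ from ?_)
    obtain ⟨b, hb, a, ha, e⟩ := hdec ⟨c, hc⟩
    obtain ⟨b', hb', a', ha', e'⟩ := hdec ⟨d, hd⟩
    rw [← e, ← e']
    exact (Commute.mul_left (Commute.mul_right (hBc b hb b' hb') (hn a' ha' b hb).symm)
      (Commute.mul_right (hn a ha b' hb') (hPP a a' ha ha')))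
  have hcyc : ∀ a : 𝒞[y], (a : G) ∈ (P : Subgroup G) → a ∈ zpowers x := fun a ha => by
    have hm : a ∈ B ⊔ zpowers x := by
      by_contra hn
      refine hxb (hs (B ⊔ zpowers x) a (mem_normalizer_fintype fun c hc => ?_) hn x
        (mem_sup_right (mem_zpowers x)) b (mem_sup_left hb))
      obtain ⟨b', hb', w, hw, rfl⟩ := mem_sup_of_normal_left.1 hc
      have e := hPP a w ha ((zpowers_le (H := (P : Subgroup G).subgroupOf _)).2 hx hw)
      rw [show a * (b' * w) * a⁻¹ = a * b' * a⁻¹ * (a * w) * a⁻¹ by group, e, ← mul_assoc,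
        mul_inv_cancel_right]
      exact mul_mem (mem_sup_left (hB.conj_mem _ hb' a)) (mem_sup_right hw)
    obtain ⟨b', hb', w, hw, e⟩ := mem_sup_of_normal_left.1 hm
    have hw' : (w : G) ∈ (P : Subgroup G) :=
      (zpowers_le (H := (P : Subgroup G).subgroupOf _)).2 hx hw
    rw [← e, hBP b' hb' (by
      rw [eq_mul_inv_of_mul_eq e]
      exact (P : Subgroup G).mul_mem ha ((P : Subgroup G).inv_mem hw')), one_mul]
    exact hw
  have hPcyc : IsCyclic (P : Subgroup G) := ⟨⟨x, hx⟩, fun a => by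
    obtain ⟨n, hn⟩ := hcyc ⟨a, hPC a.2⟩ a.2
    exact ⟨n, Subtype.ext (congrArg Subtype.val hn :)⟩⟩
  have h5 : ∀ g ∈ 𝒩((P : Subgroup G)), g * y * g⁻¹ ∈ zpowers y := fun g hg => by
    obtain ⟨n, hn⟩ := mem_zpowers_of_isCyclic (G := (P : Subgroup G))
      (x := ⟨g * y * g⁻¹, (mem_normalizer_iff.1 hg y).1 hyP⟩) (y := ⟨y, hyP⟩)
      (by rw [orderOf_mk, orderOf_mk, ← MulAut.conj_apply, MulEquiv.orderOf_eq])
    exact ⟨n, (congrArg Subtype.val hn :)⟩
  refine hC (h _ z (mem_normalizer_fintype fun c hc => mem_cent1_iff.2 ?_) hzC)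
  obtain ⟨n, hn⟩ := h5 z⁻¹ (inv_mem hz)
  have e := (Commute.zpow_right (mem_cent1_iff.1 hc) n).eq
  simp only at hn
  rw [hn] at e
  calc z * c * z⁻¹ * y = z * (c * (z⁻¹ * y * z⁻¹⁻¹)) * z⁻¹ := by group
    _ = _ := by rw [e]; group

theorem SN.isCT (h : SN G) (hG : ¬ IsMulCommutative G) : IsCT G := fun a b c _ hb _ h1 h2 => by
  obtain ⟨q, hq, hd⟩ := Nat.exists_prime_and_dvd (mt orderOf_eq_one_iff.1 hb)
  have := Fact.mk hq
  exact h.cent_comm hG (orderOf_pow_orderOf_div (orderOf_pos b).ne' hd) a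
    (mem_cent1_iff.2 (h1.pow_right _)) c (mem_cent1_iff.2 (h2.symm.pow_right _))

end SN

section SL
open Cfsg.Agent.KSG.M2 Matrix
variable {F : Type*} [Field F] [Finite F] [CharP F 2]
local notation "SL₂" => Matrix.SpecialLinearGroup (Fin 2) F
local notation "M₂" => Matrix (Fin 2) (Fin 2) F

theorem prime_of_SN (h : SN SL₂) (h4 : 4 ≤ Nat.card F) : (Nat.card F - 1).Prime := by
  by_contra hp
  obtain ⟨a, ha⟩ := IsCyclic.exists_ofOrder_eq_natCard (α := Fˣ)
  rw [Nat.card_units] at ha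
  set e := (Nat.card F - 1).minFac
  have he : e.Prime := Nat.minFac_prime (by omega)
  have hed : e ∣ orderOf a := ha ▸ Nat.minFac_dvd _
  have hlt : e < orderOf a := ha ▸ (Nat.not_prime_iff_minFac_lt (by omega)).1 hp
  have hdet : ∀ g : SL₂, (g : M₂) 1 0 = 0 → (g : M₂) 0 0 * (g : M₂) 1 1 = 1 := fun g hg => by
    have := g.det_coe
    rwa [det_fin_two, hg, mul_zero, sub_zero] at this
  let H : Subgroup SL₂ :=
    { carrier := {g | (g : M₂) 1 0 = 0 ∧ (g : M₂) 0 0 ^ e = 1}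
      mul_mem' := fun {g k} hg hk => by
        simp [mul_apply2, hg.1, hk.1, hg.2, hk.2, mul_pow]
      one_mem' := by simp
      inv_mem' := fun {g} hg => by
        have := congrArg (· ^ e) (hdet g hg.1)
        simp only [mul_pow, hg.2, one_mul, one_pow] at this
        simp [adjugate_fin_two, hg.1, this] }
  set b := a ^ (orderOf a / e)
  have hb : orderOf b = e := orderOf_pow_orderOf_div (orderOf_pos a).ne' hed
  have h1 := h H (dg a) (mem_normalizer_fintype fun g hg => ?_) (fun hm => ?_) (dg b) ⟨by simp, by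
    rw [coe_dg, ← hb]
    simp [← Units.val_pow_eq_pow_val]⟩ (upar 1 (one_pow 2) 1) ⟨by simp, by simp⟩
  · have h2 := congrArg (fun g : SL₂ => (g : M₂) 0 1) h1
    replace h2 : (b : F) = (b : F)⁻¹ := by simpa using h2
    have h3 : ((b : F) - 1) ^ 2 = 0 := by
      have := b.mul_inv
      rw [Units.val_inv_eq_inv_val, ← h2] at this
      linear_combination this + (1 - (b : F)) * (CharTwo.two_eq_zero (R := F))
    have h5 : b = 1 := Units.ext (sub_eq_zero.1 (pow_eq_zero_iff two_ne_zero |>.1 h3))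
    rw [h5, orderOf_one] at hb
    exact he.one_lt.ne hb
  · have h2 : (a : F) * (g : M₂) 0 0 * (a : F)⁻¹ = (g : M₂) 0 0 := by field_simp
    refine ⟨?_, ?_⟩ <;>
      simp [adjugate_fin_two, mul_apply2, vecMul, dotProduct, hg.1, h2, hg.2]
  · have h2 : a ^ e = 1 := Units.ext (by simpa using hm.2)
    exact absurd (Nat.le_of_dvd he.pos (orderOf_dvd_of_pow_eq_one h2)) (not_le.2 hlt)

omit [Finite F] in
theorem not_isScal {x : SL₂} (hx : x ≠ 1) : ¬ IsScal (x : M₂) := fun h =>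
  hx ((SL_isScal_iff.1 h).elim id fun e =>
    e.trans (neg_eq_self_of_two_eq_zero CharTwo.two_eq_zero 1))

omit [Finite F] in
theorem isCT_SL2 : IsCT SL₂ := fun _ _ _ _ hb _ h1 h2 =>
  cent_comm (not_isScal hb) (mem_cent1_iff.2 h1) (mem_cent1_iff.2 h2.symm)

theorem SN_of_prime (hp : (Nat.card F - 1).Prime) : SN SL₂ := by
  intro U g hg hgU
  by_contra hU
  have hUV : U ≤ 𝒩(U) := le_normalizer
  have hct : IsCT 𝒩(U) := isCT_SL2.of_injective _ 𝒩(U).subtype_injective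
  have hU1 : U ≠ ⊥ := by
    rintro rfl
    exact hU fun a ha b _ => by rw [mem_bot.1 ha, mul_one, one_mul]
  have : Nontrivial 𝒩(U) := (nontrivial_iff_ne_bot _).2 fun e => hU1 (eq_bot_iff.2 (e ▸ hUV))
  by_cases hF : fittingSubgroup 𝒩(U) = ⊥
  · obtain ⟨t, ht⟩ := exists_involution_of_not_solvable (G := 𝒩(U))
      fun hs => Grp.fitting_ne_bot _ hF
    have hs := (IsCC.zass hF (s := t) (fun x hx h1 y hy => mem_cent1_iff.2
      (hct.trans h1 (mem_cent1_iff.1 hy) (mem_cent1_iff.1 hx))) ht).1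
    rcases (inferInstance : (U.subgroupOf 𝒩(U)).Normal).eq_bot_or_eq_top with h | h
    · exact hU1 (by rwa [subgroupOf_eq_bot, disjoint_iff, inf_eq_left.2 hUV] at h)
    · exact hgU (subgroupOf_eq_top.1 h hg)
  obtain ⟨-, A, -, hA, hA1, -, hAc, -⟩ := Grp.exists_minNormal_elementaryAbelian_le _ hF
  obtain ⟨⟨x, hx⟩, hx1⟩ := ne_bot_iff_exists_ne_one.1 hA1
  have hx1' : (x : SL₂) ≠ 1 := fun e => hx1 (Subtype.ext (Subtype.ext e))
  set C := 𝒞[(x : SL₂)]
  have hCC : IsCC C := fun y hy h1 z hz => mem_cent1_iff.2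
    (isCT_SL2.trans h1 (mem_cent1_iff.1 hz) (mem_cent1_iff.1 hy))
  have hVN : 𝒩(U) ≤ 𝒩(C) := fun v hv => hCC.mem_normalizer hx1' (mem_cent1_self _) hx1'
    (mem_cent1_iff.2 (congrArg Subtype.val
      (setLike_mul_comm (s := A) (hA.conj_mem x hx ⟨v, hv⟩) hx)))
  obtain ⟨w, hw, hwC⟩ : ∃ w ∈ U, w ∉ C := by
    by_contra hn
    push Not at hn
    exact hU fun a ha b hb => cent_comm (not_isScal hx1') (hn a ha) (hn b hb)
  have hwN := hVN (hUV hw)
  have hev := even_card_of_two_eq (F := F) CharTwo.two_eq_zero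
  by_cases ht : ((x : SL₂) : M₂).trace ^ 2 = 4
  · obtain ⟨ε, hε, e⟩ := exists_eps_of_trace_sq ht
    have hC : Nat.card C = Nat.card F := by
      rw [SL_card_centralizer_par (not_isScal hx1') hε e,
        card_sq_eq_one_of_two_eq CharTwo.two_eq_zero, one_mul]
    have h1 : C.relIndex 𝒩(C) ∣ Nat.card F - 1 := by
      have := P6.index_dvd_of_frob (hCC.subgroupOf 𝒩(C))
      rwa [Nat.card_congr (subgroupOfEquivOfLe le_normalizer).toEquiv, hC] at this
    have hUN := hUV.trans hVN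
    have hn : (C.subgroupOf U).Normal := normal_subgroupOf_of_le_normalizer hUN
    have h2 : C.relIndex U ∣ C.relIndex 𝒩(C) := by
      rw [← relIndex_subgroupOf hUN]
      exact relIndex_dvd_index_of_normal _ _
    have h3 : C.relIndex U = Nat.card F - 1 := ((Nat.dvd_prime hp).1 (h2.trans h1)).resolve_left
      fun e => hwC (relIndex_eq_one.1 e hw)
    have h4 : C.relIndex U ∣ _ := P6.index_dvd_of_frob (hCC.subgroupOf U)
    have h5 : Nat.card (C.subgroupOf U) * C.relIndex U = Nat.card U := card_mul_index _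
    have h6 : Nat.card (C.subgroupOf 𝒩(C)) * C.relIndex 𝒩(C) = Nat.card 𝒩(C) := card_mul_index _
    rw [Nat.card_congr (subgroupOfEquivOfLe le_normalizer).toEquiv, hC] at h6
    rw [h3] at h4 h5
    have h7 : Nat.card (C.subgroupOf U) ≠ 1 := fun e => by
      rw [e, one_mul] at h5
      have := Fact.mk hp
      have := isCyclic_of_prime_card h5.symm
      exact hU fun a ha b hb => setLike_mul_comm (s := U) ha hb
    have h8 : 0 < Nat.card (C.subgroupOf U) := Nat.card_pos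
    have h9 := Nat.le_of_dvd (by omega) h4
    refine hgU (eq_of_le_of_card_ge hUN ?_ ▸ hVN hg)
    rw [← h5, ← h6]
    exact Nat.mul_le_mul (by omega) (Nat.le_of_dvd hp.pos h1)
  · have hodd : Odd (Nat.card C) := by
      have hpos : 1 ≤ Nat.card F := Nat.card_pos
      rcases card_cent_cases ht with ⟨-, e⟩ | ⟨-, e⟩ <;> rw [e]
      · exact Nat.Even.sub_odd hpos hev odd_one
      · exact hev.add_one
    have key : ∀ c ∈ 𝒩(U), c ∈ C → c ∈ U := fun c hc hcC => by
      refine PLocal.Sym4Rec.mem_of_sq_mem_of_odd (hodd.of_dvd_nat (C.orderOf_dvd_natCard hcC)) ?_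
      have := conj_eq_inv_of_mem_normalizer ht hwN hwC (C.inv_mem hcC)
      rw [inv_inv] at this
      rw [show c * c = c * w * c⁻¹ * w⁻¹ by nth_rewrite 2 [← this]; group]
      exact U.mul_mem ((mem_normalizer_iff.1 hc w).1 hw) (U.inv_mem hw)
    by_cases hgC : g ∈ C
    · exact hgU (key g hg hgC)
    refine hgU ((mul_mem_cancel_right hw).1 (key _ (mul_mem hg (hUV hw)) (mem_cent1_iff.2 ?_)))
    have h1 := conj_eq_inv_of_mem_normalizer ht hwN hwC (mem_cent1_self _)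
    have h2 := conj_eq_inv_of_mem_normalizer ht (hVN hg) hgC (C.inv_mem (mem_cent1_self _))
    calc g * w * x = g * (w * x * w⁻¹) * g⁻¹ * (g * w) := by group
      _ = _ := by rw [h1, h2, inv_inv]

end SL


/-- Let G be a finite non-abelian simple group. Every non-abelian subgroup of G is self-normalizing if and only if G is isomorphic to PSL₂(2ⁿ) for some n ≥ 2 with 2ⁿ − 1 prime (this includes the alternating group of degree 5 as PSL₂(4)). -/
theorem result {G : Type*} [Group G] [Finite G] [IsSimpleGroup G]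
    (hna : ¬ IsMulCommutative G) :
    (∀ H : Subgroup G, ¬ IsMulCommutative H → Subgroup.normalizer (H : Set G) = H) ↔
    ∃ n : ℕ, 2 ≤ n ∧ (2 ^ n - 1).Prime ∧ Nonempty (G ≃* Matrix.ProjectiveSpecialLinearGroup (Fin 2) (GaloisField 2 n)) := by
  have hsn : (∀ H : Subgroup G, ¬ IsMulCommutative H → Subgroup.normalizer (H : Set G) = H) ↔
      SN G := by
    refine ⟨fun h H g hg hn a ha b hb => ?_, fun h H hH => le_antisymm (fun g hg => ?_)
      le_normalizer⟩
    · by_contra hab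
      exact hn (h H (fun _ => hab (setLike_mul_comm (s := H) ha hb)) ▸ hg)
    · by_contra hn
      exact hH ⟨⟨fun a b => Subtype.ext (h H g hg hn a a.2 b b.2)⟩⟩
  have hev : ∀ n, 2 ≤ n → Even (Nat.card (GaloisField 2 n)) := fun n hn => by
    rw [GaloisField.card 2 n (by omega)]
    exact (Nat.even_pow' (by omega)).mpr even_two
  rw [hsn]
  constructor
  · intro h
    obtain ⟨n, hn, ⟨e⟩⟩ := IsL2Even.galois ((h.isCT hna).isCTI.simple hna)
    refine ⟨n, hn, ?_, ⟨e⟩⟩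
    have e' := (Perm.ZassPSL.slEquivPsl (hev n hn)).trans e.symm
    rw [← GaloisField.card 2 n (by omega)]
    refine prime_of_SN (h.of_injective e'.toMonoidHom e'.injective) ?_
    rw [GaloisField.card 2 n (by omega)]
    exact Nat.pow_le_pow_right two_pos hn
  · rintro ⟨n, hn, hp, ⟨e⟩⟩
    have e' := e.trans (Perm.ZassPSL.slEquivPsl (hev n hn)).symm
    rw [← GaloisField.card 2 n (by omega)] at hp
    exact (SN_of_prime hp).of_injective e'.toMonoidHom e'.injective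

end Cfsg.Agent.S4073
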