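import Cfsg.Statements.S3144
import Mathlib
import Cfsg.Agent.Std.O8I

set_option autoImplicit false
open Cfsg

namespace Cfsg.Agent.S3144


/-- Let G be a finite group with no nontrivial normal subgroup of odd order and L a standard subgroup of G which is a double cover of the simple orthogonal group PΩ⁺ of dimension 8 over the field with 2 elements (the centre of L has order 2 and L modulo its centre is isomorphic to that group), and suppose the centralizer of L in G has cyclic Sylow 2-subgroups. Then L is normal in G. -/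
theorem result {G : Type*} [Group G] [Finite G] (hO : Cfsg.oddCore G = ⊥) (L : Subgroup G) (hL : Cfsg.IsStandardSubgroup L)
    {F : Type*} [Field F] [Fintype F] (hF : Fintype.card F = 2)
    (hZ : Nat.card ↥(Subgroup.center ↥L) = 2) (hLX : Nonempty ((↥L ⧸ Subgroup.center ↥L) ≃* Cfsg.POmega F (Cfsg.quadFormPlus 4 F)))
    (hR : ∀ R : Sylow 2 ↥(Subgroup.centralizer (L : Set G)), IsCyclic ↥(R : Subgroup ↥(Subgroup.centralizer (L : Set G)))) :
    L.Normal := by
  by_contra hn
  obtain ⟨t, ht, h0, h1, h2⟩ := Std.exists_center_inv hZ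
  obtain ⟨E, Δ, c, h⟩ := Std.O8.exists_st hL hF hLX.some hR ht h0 h1 h2
  obtain ⟨g, h3, h4⟩ := Std.exists_conj hO hL hn ht h1
  exact h3 (Std.O8.main c (z := t) (fun s hs => by
    obtain ⟨a, rfl⟩ := isConj_iff.1 hs
    exact ⟨_, h.conj c a 1⟩) (IsConj.refl t) (isConj_iff.2 ⟨g, rfl⟩) h4.symm)

end Cfsg.Agent.S3144
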