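import Cfsg.Statements.S3150
import Mathlib
import Cfsg.Agent.Std.CoMain
import Cfsg.Agent.Spor.OutCo1

set_option autoImplicit false
open Cfsg

namespace Cfsg.Agent.S3150


/-- Let G be a finite group with no nontrivial normal subgroup of odd order and A a standard subgroup of G isomorphic to the automorphism group of the Leech lattice (the double cover of the first Conway group). If the centralizer of A in G has cyclic Sylow 2-subgroups, then A is normal in G. -/
theorem result {G : Type*} [Group G] [Finite G] (hO : Cfsg.oddCore G = ⊥) (A : Subgroup G) (hA : Cfsg.IsStandardSubgroup A)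
    (hAX : Nonempty (↥A ≃* ↥Cfsg.Co0)) (hR : ∀ R : Sylow 2 ↥(Subgroup.centralizer (A : Set G)), IsCyclic ↥(R : Subgroup ↥(Subgroup.centralizer (A : Set G)))) : A.Normal := by
  obtain ⟨e⟩ := hAX
  have hp : commutator Cfsg.Co0 = ⊤ := by
    haveI := hA.1.1
    haveI : Group.IsPerfect Cfsg.Co0 := Group.IsPerfect.ofSurjective (f := e.toMonoidHom) e.surjective
    exact Group.IsPerfect.commutator_eq_top
  exact Std.normal_of_centSys hO hA hR e (τ := Spor.Leech.negOne)
    (orderOf_eq_prime (by rw [pow_two, Spor.Leech.negOne_mul_self]) Spor.Leech.negOne_ne_one)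
    (Spor.Leech.mem_center_iff.2 (Or.inr rfl)) (fun x hx => Spor.Leech.mem_center_iff.1 hx)
    (Std.inner_of_out hp Spor.OutCo1.out_card) Std.Co.rootFact Std.Co.not_centSys

end Cfsg.Agent.S3150
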