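import Cfsg.Statements.S3153
import Mathlib
import Cfsg.Agent.PLocal.Standard

set_option autoImplicit false
open Cfsg

namespace Cfsg.Agent.S3153

/-- Let X be a finite group and P a standard subgroup of X whose centralizer has 2-rank at most 1 and whose centre has odd order. Let S be a Sylow 2-subgroup of N_X(P) and t an involution of S centralizing P. Suppose some element g of X normalizes S, does not lie in S, has its square in S, and conjugates t into P·C_X(P). Then P commutes elementwise with the largest normal odd-order subgroup O(X) of X; consequently every t-invariant 2-component of X containing P is quasisimple. -/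
theorem result {X : Type*} [Group X] [Finite X] (P : Subgroup X) (hP : Cfsg.IsStandardSubgroup P)
    (hr : Cfsg.PRankLE 2 1 ↥(Subgroup.centralizer (P : Set X))) (hZ : Odd (Nat.card ↥(Subgroup.center ↥P)))
    (S : Sylow 2 ↥(Subgroup.normalizer (P : Set X))) (t : X) (ht : orderOf t = 2) (htS : t ∈ (S : Subgroup ↥(Subgroup.normalizer (P : Set X))).map (Subgroup.normalizer (P : Set X)).subtype)
    (htP : t ∈ Subgroup.centralizer (P : Set X))
    (g : X) (hgN : ∀ s ∈ (S : Subgroup ↥(Subgroup.normalizer (P : Set X))).map (Subgroup.normalizer (P : Set X)).subtype, g * s * g⁻¹ ∈ (S : Subgroup ↥(Subgroup.normalizer (P : Set X))).map (Subgroup.normalizer (P : Set X)).subtype)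
    (hgS : g ∉ (S : Subgroup ↥(Subgroup.normalizer (P : Set X))).map (Subgroup.normalizer (P : Set X)).subtype) (hg2 : g ^ 2 ∈ (S : Subgroup ↥(Subgroup.normalizer (P : Set X))).map (Subgroup.normalizer (P : Set X)).subtype)
    (hgt : g * t * g⁻¹ ∈ P ⊔ Subgroup.centralizer (P : Set X)) :
    ⁅P, Cfsg.oddCore X⁆ = ⊥ ∧
      ∀ L : Subgroup X, Cfsg.IsPComponent 2 L → P ≤ L → (∀ l ∈ L, t * l * t⁻¹ ∈ L) → Cfsg.IsQuasisimple ↥L := by
  open Subgroup PLocal PLocal.Amb in
  open scoped commutatorElement in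
  have hS := isSyl_map_subtype S
  set T := (S : Subgroup ↥(normalizer (P : Set X))).map (normalizer (P : Set X)).subtype
  have hgT : g ∈ 𝐍[T] := mem_normalizer_of_cj_le (cj_le_iff_forall.2 hgN)
  have hgP : g ∉ 𝐍[P] := fun h => hgS (hS.le_of_normalizes (isPGroup_zpowers (by
    obtain ⟨k, hk⟩ := isPGroup_iff.1 hS.pgrp _ hg2
    exact ⟨k + 1, by rwa [pow_succ', pow_mul]⟩)) (zpowers_le.2 h) (zpowers_le.2 hgT) (mem_zpowers g))
  set u := g * t * g⁻¹ with hu
  have hu2 : orderOf u = 2 := by rw [hu, orderOf_conj', ht]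
  have huC : u ∉ 𝐂[P] := fun h => hgP (Std.mem_normalizer hP ht htP h)
  have hcen : ∀ s ∈ T, s * t * s⁻¹ = t := by
    intro s hs
    have hT : IsPGroup 2 ↥(T ⊓ 𝐂[P]) := hS.pgrp.to_le inf_le_left
    obtain ⟨z, hz, hz2, hzc⟩ := Inv.exists_central_involution_of_isPGroup hT fun h =>
      Inv.ne_one_of_orderOf_two ht (mem_bot.1 (h.le ⟨htS, htP⟩))
    have h1 : s * t * s⁻¹ ∈ T ⊓ 𝐂[P] := mem_inf.2 ⟨mul_mem (mul_mem hs htS) (inv_mem hs),
      conj_mem_of_mem_normalizer (normalizer_le_normalizer_centralizer P (hS.le hs)) htP⟩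
    rw [eq_of_commute_of_pRankLE_one hr h1.2 hz.2 (by rwa [orderOf_conj']) hz2 (hzc _ h1),
      eq_of_commute_of_pRankLE_one hr htP hz.2 ht hz2 (hzc _ ⟨htS, htP⟩)]
  have hut : u * t = t * u := mul_inv_eq_iff_eq_mul.1 (hcen u (hgN t htS))
  have hgu : g * u * g⁻¹ = t := by rw [← hcen _ hg2, hu, sq]; group
  have hne : u ≠ t := fun h => huC (h ▸ htP)
  obtain ⟨a, ha, c, hc, e⟩ := (mem_sup_of_le_normalizer_right
    (le_normalizer.trans (normalizer_le_normalizer_centralizer P))).1 hgt
  have hac : Commute a c := hc a ha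
  have hO := Inv.odd_card_pPrimeCore_two X
  have hn : ∀ B : Subgroup X, B ≤ 𝐍[oddCore X] := fun B => by rw [normalizer_eq_top]; exact le_top
  have key : ∃ b ∈ P, b = u ∨ b = u * t := by
    have h1 : a ^ 2 * c ^ 2 = 1 := by rw [← hac.mul_pow, ← e, ← hu2, pow_orderOf_eq_one]
    have h2 : a ^ 2 ∈ P ⊓ 𝐂[P] :=
      mem_inf.2 ⟨pow_mem ha 2, eq_inv_of_mul_eq_one_left h1 ▸ inv_mem (pow_mem hc 2)⟩
    rw [← map_center_subtype] at h2
    obtain ⟨m, hm⟩ : Odd (Nat.card ((center P).map P.subtype)) := by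
      rwa [card_map_of_injective P.subtype_injective]
    have h3 : (a ^ 2) ^ (2 * m + 1) = 1 := by
      rw [← hm]; exact congrArg Subtype.val (pow_card_eq_one' (x := (⟨_, h2⟩ : (center P).map _)))
    have h4 : u = a ^ (2 * m + 1) * c ^ (2 * m + 1) := by
      rw [← hac.mul_pow, ← e, pow_succ, pow_mul, ← hu2, pow_orderOf_eq_one, one_pow, one_mul]
    have h5 : (c ^ (2 * m + 1)) ^ 2 = 1 := by
      have : (a ^ 2 * c ^ 2) ^ (2 * m + 1) = 1 := by rw [h1, one_pow]
      rwa [(hac.pow_pow 2 2).mul_pow, h3, one_mul, ← pow_mul, mul_comm, pow_mul] at this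
    refine ⟨a ^ (2 * m + 1), pow_mem ha _, ?_⟩
    by_cases h6 : c ^ (2 * m + 1) = 1
    · exact Or.inl (by rw [h4, h6, mul_one])
    · have h7 : c ^ (2 * m + 1) * t = t * c ^ (2 * m + 1) := by
        have h8 : a ^ (2 * m + 1) * t = t * a ^ (2 * m + 1) := htP _ (pow_mem ha _)
        rw [h4, mul_assoc, ← mul_assoc t, ← h8, mul_assoc] at hut
        exact mul_left_cancel hut
      rw [eq_of_commute_of_pRankLE_one hr (pow_mem hc _) htP (orderOf_eq_prime h5 h6) ht h7] at h4
      exact Or.inr (by rw [h4, mul_assoc, Inv.mul_self_of_orderOf_two ht, mul_one])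
  obtain ⟨b, hb, hb'⟩ := key
  have h1 : oddCore X ≤ centralizer {u * t} := by
    refine le_of_four hO hu2 ht hut hne (hn ⊤ (mem_top _)) (hn ⊤ (mem_top _)) (fun x hx => ?_)
      (fun x hx => ?_) inf_le_right
    · have h2 := Std.inf_centralizer_le (Std.cj hP g) hu2
        (by rw [centralizer_cj]; exact conj_mem_cj g htP) hO (hn _) hx _ (conj_mem_cj g hb)
      have h3 : Commute x u := mem_centralizer_singleton_iff.1 hx.2
      rw [mem_centralizer_singleton_iff]
      rcases hb' with rfl | rfl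
      · rw [hgu] at h2
        exact h3.mul_right h2.symm
      · rw [show g * (u * t) * g⁻¹ = g * u * g⁻¹ * u by rw [hu]; group, hgu, ← hut] at h2
        exact h2.symm
    · have h2 := Std.inf_centralizer_le hP ht htP hO (hn _) hx _ hb
      have h3 : Commute x t := mem_centralizer_singleton_iff.1 hx.2
      rw [mem_centralizer_singleton_iff]
      rcases hb' with rfl | rfl
      · exact Commute.mul_right h2.symm h3
      · exact h2.symm
  have h2 : P ≤ 𝐂[oddCore X] := Std.le_of_mem_normal hP.1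
    (mul_mem (hS.le (hgN t htS)) (hS.le htS)) (fun h => huC ((mul_mem_cancel_right htP).1 h))
    fun x hx => mem_centralizer_singleton_iff.1 (h1 hx)
  refine ⟨commutator_eq_bot_iff_le_centralizer.2 h2, fun L hL hPL _ => ?_⟩
  refine (pcomp_qs_iff hL).2 (inf_le_left.trans (le_centralizer_iff.1
    ((pcomp_le_or_commutator_le hL (Normal.isSubnormal inferInstance)).resolve_right fun h => ?_)))
  exact hO.not_two_dvd_nat ((qsS_two_dvd_card hP.1).trans (card_dvd_of_le
    ((qsS_commutator hP.1).ge.trans ((commutator_mono hPL h2).trans (h.trans inf_le_left)))))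

end Cfsg.Agent.S3153
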