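import Cfsg.Statements.S3171
import Cfsg.Agent.Spor.SylM24UT
-- import your own Cfsg.Agent.* helpers here

set_option autoImplicit false
open Cfsg

namespace Cfsg.Agent.S3171

/-- Let P be a Sylow 2-subgroup of the Mathieu group of degree 24 and S the quotient of P by its centre. Then the centre of every maximal subgroup of S has order at most 8; S has an elementary abelian subgroup of order 64; and S has only one abelian subgroup of order 64. -/
theorem result (P : Sylow 2 ↥Cfsg.M24) :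
    (∀ M : Subgroup (↥(P : Subgroup ↥Cfsg.M24) ⧸ Subgroup.center ↥(P : Subgroup ↥Cfsg.M24)), IsCoatom M →
        Nat.card ↥(Subgroup.center ↥M) ≤ 8) ∧
      (∃ A : Subgroup (↥(P : Subgroup ↥Cfsg.M24) ⧸ Subgroup.center ↥(P : Subgroup ↥Cfsg.M24)),
        Cfsg.IsElementaryAbelian 2 A ∧ Nat.card ↥A = 64) ∧
      ∀ A B : Subgroup (↥(P : Subgroup ↥Cfsg.M24) ⧸ Subgroup.center ↥(P : Subgroup ↥Cfsg.M24)),
        IsMulCommutative ↥A → Nat.card ↥A = 64 → IsMulCommutative ↥B → Nat.card ↥B = 64 → A = B := by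
  obtain ⟨e⟩ := Spor.SylM24UT.exists_equiv_quot P
  have key : ∀ A : Subgroup (↥(P : Subgroup ↥Cfsg.M24) ⧸ Subgroup.center ↥(P : Subgroup ↥Cfsg.M24)),
      IsMulCommutative ↥A → Nat.card ↥A = 64 →
        A.comap e.toMonoidHom = SylT.UT.E.map Spor.SylM24UT.π := fun A hA hc =>
    Spor.SylM24UT.eq_map ⟨⟨fun x y => Subtype.ext (e.injective (by
      rw [Subgroup.coe_mul, Subgroup.coe_mul, map_mul, map_mul]
      exact congrArg Subtype.val (hA.is_comm.comm ⟨_, x.2⟩ ⟨_, y.2⟩)))⟩⟩ (by
        rw [← hc, Subgroup.comap_equiv_eq_map_symm', Subgroup.card_map_of_injective e.symm.injective])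
  refine ⟨fun M hM => ?_, ⟨(SylT.UT.E.map Spor.SylM24UT.π).map e.toMonoidHom, ⟨?_, ?_⟩, ?_⟩,
    fun A B hA cA hB cB => ?_⟩
  · have h1 := Spor.SylM24UT.card_center_le (Subgroup.isCoatom_comap_of_surjective
      (φ := e.toMonoidHom) e.surjective hM)
    rw [Subgroup.comap_equiv_eq_map_symm'] at h1
    rwa [Nat.card_congr (Subgroup.centerCongr (e.symm.subgroupMap M)).toEquiv]
  · have := Spor.SylM24UT.elem_E.1
    infer_instance
  · rintro _ ⟨x, hx, rfl⟩
    rw [← map_pow, Spor.SylM24UT.elem_E.2 x hx, map_one]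
  · rw [Subgroup.card_map_of_injective e.injective, Spor.SylM24UT.card_map_E]
  · exact Subgroup.comap_injective (f := e.toMonoidHom) e.surjective
      ((key A hA cA).trans (key B hB cB).symm)

end Cfsg.Agent.S3171
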