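import Cfsg.Statements.S3184
import Mathlib
import Cfsg.Agent.S3183
import Cfsg.Agent.S0215
import Cfsg.Agent.Inv.SylowTwo
import Cfsg.Agent.Grp.Cores

set_option autoImplicit false
open Cfsg

namespace Cfsg.Agent.S3184

open Subgroup Cfsg.Agent.PLocal.Amb


/-- Let G be a finite group in which the intersection of any two distinct Sylow 2-subgroups is contained in the centre of some Sylow 2-subgroup, and let S be a Sylow 2-subgroup. If C is a nontrivial cyclic characteristic subgroup of S, then the involution of C is central modulo the largest normal subgroup of odd order of G: each of its conjugates has the same image in G/O(G). -/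
theorem result {G : Type*} [Group G] [Finite G]
    (hCI : ∀ S T : Sylow 2 G, S ≠ T → ∃ U : Sylow 2 G,
      (S : Subgroup G) ⊓ (T : Subgroup G) ≤ (Subgroup.center ↥(U : Subgroup G)).map (U : Subgroup G).subtype)
    (S : Sylow 2 G) (C : Subgroup ↥(S : Subgroup G)) (hC : C ≠ ⊥) (hCc : IsCyclic ↥C) (hCh : C.Characteristic)
    (c : ↥(S : Subgroup G)) (hc : c ∈ C) (hc2 : orderOf c = 2) :
    ∀ g : G, (QuotientGroup.mk (s := Cfsg.oddCore G) (g * (c : G) * g⁻¹)) =
      QuotientGroup.mk (s := Cfsg.oddCore G) (c : G) := by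
  have hco : orderOf (c : G) = 2 := by rw [Subgroup.orderOf_coe, hc2]
  -- elements of the normalizer of S fix c
  have hN : ∀ n ∈ 𝐍[(S : Subgroup G)], n * (c : G) * n⁻¹ = c := by
    intro n hn
    have h1 := Grp.normalizer_le_normalizer_map_of_characteristic (S : Subgroup G) C hn
    have hcm : (c : G) ∈ C.map (S : Subgroup G).subtype := ⟨c, hc, rfl⟩
    have hcyc : IsCyclic (C.map (S : Subgroup G).subtype) :=
      (MulEquiv.isCyclic (C.equivMapOfInjective _ (Subgroup.subtype_injective _))).mp hCc
    exact Inv.eq_of_orderOf_two_of_mem_cyclic hcyc (conj_mem_of_mem_normalizer h1 hcm) hcm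
      (by rw [orderOf_conj', hco]) hco
  have hcZ : (c : G) ∈ 𝐂[(S : Subgroup G)] := by
    rw [mem_centralizer_iff]
    intro s hs
    have := hN s (le_normalizer hs)
    rw [mul_inv_eq_iff_eq_mul] at this
    exact this
  have hiso : ∀ g : G, g * (c : G) * g⁻¹ ∈ S → g * (c : G) * g⁻¹ = c := by
    intro g hg
    by_cases hgS : g • S = S
    · exact hN g (Sylow.smul_eq_iff_mem_normalizer.mp hgS)
    · have h1 := (S3183.result hCI S).2 (g • S) hgS
        (x := g * (c : G) * g⁻¹) ⟨hg, by rw [coe_smul_sylow]; exact conj_mem_cj g c.2⟩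
      have h2 := (S3183.mem_center_map_iff.mp h1.1).2
      have h3 : g⁻¹⁻¹ * (c : G) * g⁻¹ ∈ 𝐂[(S : Subgroup G)] := by
        rw [inv_inv, mem_centralizer_iff]
        intro s hs
        exact mem_centralizer_singleton_iff.mp (h2 hs)
      obtain ⟨n, hn, hn2⟩ := S.conj_eq_normalizer_conj_of_mem_centralizer c g⁻¹ hcZ h3
      rw [inv_inv] at hn2
      rw [hn2]
      simpa using hN n⁻¹ (inv_mem hn)
  obtain ⟨N, hNn, hNo, hNc⟩ := S0215.result S (c : G) hco c.2 hiso
  have hle : N ≤ oddCore G := Grp.le_pPrimeCore hNn (Nat.coprime_two_right.mpr hNo)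
  intro g
  rw [eq_comm, QuotientGroup.eq]
  have h1 := hNn.conj_mem _ (hNc g) (c : G)⁻¹
  have hcc : (c : G)⁻¹ = c := Inv.inv_of_orderOf_two hco
  apply hle
  have := hNc g
  rw [hcc] at this ⊢
  simpa [mul_assoc] using this

end Cfsg.Agent.S3184
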