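import Cfsg.Statements.S3192
import Mathlib
import Cfsg.Agent.Inv.ClsIdx
import Cfsg.Agent.Perm.ZassEven

set_option autoImplicit false
open Cfsg

namespace Cfsg.Agent.S3192

open Subgroup Cfsg.Agent.FT Cfsg.Agent.Inv.ClsIdx Cfsg.Agent.KSG.M2

theorem index_map {G G' : Type*} [Group G] [Group G'] (e : G ≃* G') (x : G) :
    (𝒞[e x]).index = (𝒞[x]).index := by
  rw [← index_comap_of_surjective 𝒞[e x] (f := e.toMonoidHom) e.surjective]
  congr 1
  ext y
  rw [mem_comap, mem_cent1_iff, mem_cent1_iff]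
  exact ⟨fun h => e.injective (by simpa using h), fun h => by simpa using congrArg e h⟩

theorem indices {F : Type*} [Field F] [Finite F] [CharP F 2] (h4 : 4 ≤ Nat.card F) :
    {m : ℕ | ∃ x : Matrix.SpecialLinearGroup (Fin 2) F, x ≠ 1 ∧ m = (𝒞[x]).index} =
      {Nat.card F ^ 2 - 1, Nat.card F * (Nat.card F + 1), Nat.card F * (Nat.card F - 1)} := by
  have h2 : (2 : F) = 0 := CharTwo.two_eq_zero
  have hs : ∀ x : Matrix.SpecialLinearGroup (Fin 2) F, x ≠ 1 ↔ ¬ IsScal x.1 := fun x => by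
    rw [SL_isScal_iff, neg_eq_self_of_two_eq_zero h2, or_self]
  ext m
  constructor
  · rintro ⟨x, hx, rfl⟩
    by_cases ht : x.1.trace ^ 2 = 4
    · rw [index_cent_par ((hs x).1 hx) ht, gcd_two_of_two_eq h2, Nat.div_one]
      exact Or.inl rfl
    by_cases hn : NoEig x.1
    · exact Or.inr (Or.inr (index_cent_noEig hn))
    · exact Or.inr (Or.inl (index_cent_split ht hn))
  · rintro (rfl | rfl | rfl)
    · have h := upar_not_isScal (1 : F) (one_pow 2) one_ne_zero
      refine ⟨_, (hs _).2 h, ?_⟩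
      rw [index_cent_par h (by rw [trace_upar]; ring), gcd_two_of_two_eq h2, Nat.div_one]
    · obtain ⟨a, ha⟩ := exists_units_sq_ne_one h4
      have ht : (dg a).1.trace ^ 2 ≠ 4 := by
        rw [trace_dg]; exact add_inv_sq_ne_four a.ne_zero ha
      refine ⟨_, (hs _).2 (SL_not_isScal_of_trace ht), (index_cent_split ht fun h => h a ?_).symm⟩
      rw [trace_dg, (dg a).det_coe]
      field_simp
      ring
    · obtain ⟨g, hg⟩ := exists_noEig (F := F)
      exact ⟨g, (hs _).2 hg.not_isScal, (index_cent_noEig hg).symm⟩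


/-- Simple groups of conjugate type rank three. For a finite group G consider the set of indices of the centralizers of the non-central elements of G. Then G is a non-abelian simple group for which this set has exactly three members if and only if G is isomorphic to PSL(2, 2^m) for some m ≥ 2. -/
theorem result (G : Type*) [Group G] [Finite G] :
    (IsSimpleGroup G ∧ ¬ IsMulCommutative G ∧
        Set.ncard {m : ℕ | ∃ x : G, x ∉ Subgroup.center G ∧ m = (Subgroup.centralizer ({x} : Set G)).index} = 3) ↔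
      ∃ (m : ℕ) (F : Type) (_ : Field F) (_ : Fintype F), 2 ≤ m ∧ Fintype.card F = 2 ^ m ∧
        Nonempty (G ≃* Matrix.ProjectiveSpecialLinearGroup (Fin 2) F) := by
  have hset : IsSimpleGroup G → ¬ IsMulCommutative G →
      {m : ℕ | ∃ x : G, x ∉ center G ∧ m = (𝒞[x]).index} =
        {m : ℕ | ∃ x : G, x ≠ 1 ∧ m = (𝒞[x]).index} := fun _ hG => by
    rw [(inferInstance : (center G).Normal).eq_bot_or_eq_top.resolve_right
      fun e => hG (center_eq_top_iff.1 e)]
    simp only [mem_bot]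
  constructor
  · rintro ⟨hs, hG, h⟩
    rw [hset hs hG] at h
    obtain ⟨F, i1, i2, m, hm, hF, e⟩ := isL2Even_of_ncard_le hG h.le
    exact ⟨m, F, i1, i2, hm, hF, e⟩
  · rintro ⟨m, F, _, _, hm, hF, ⟨e⟩⟩
    have : CharP F 2 := charP_of_card_eq_prime_pow (p := 2) hF
    have h4 : 4 ≤ Nat.card F := by
      rw [Nat.card_eq_fintype_card, hF]
      exact Nat.pow_le_pow_right two_pos hm
    have := Matrix.ProjectiveSpecialLinearGroup.rank_two_simple (F := F) h4
    have hs := e.isSimpleGroup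
    replace e := e.trans (Perm.ZassPSL.slEquivPsl (even_card_of_two_eq CharTwo.two_eq_zero)).symm
    have h1 : {m : ℕ | ∃ x : G, x ≠ 1 ∧ m = (𝒞[x]).index} =
        {m : ℕ | ∃ x : Matrix.SpecialLinearGroup (Fin 2) F, x ≠ 1 ∧ m = (𝒞[x]).index} :=
      Set.ext fun n =>
      ⟨fun ⟨x, hx, h⟩ => ⟨e x, by simpa using hx, h.trans (index_map e x).symm⟩,
        fun ⟨x, hx, h⟩ => ⟨e.symm x, by simpa using hx, h.trans (index_map e.symm x).symm⟩⟩
    rw [indices h4] at h1
    obtain ⟨k, hk⟩ : ∃ k, Nat.card F = k + 4 := ⟨Nat.card F - 4, by omega⟩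
    have h2 : Nat.card F ^ 2 - 1 = k * k + 8 * k + 15 := by
      rw [hk]; exact Nat.sub_eq_of_eq_add (by ring)
    have h3 : Nat.card F * (Nat.card F + 1) = k * k + 9 * k + 20 := by rw [hk]; ring
    have h5 : Nat.card F * (Nat.card F - 1) = k * k + 7 * k + 12 := by
      rw [hk, show k + 4 - 1 = k + 3 from rfl]; ring
    rw [h2, h3, h5] at h1
    have hG : ¬ IsMulCommutative G := fun hc => by
      obtain ⟨x, -, hx⟩ : k * k + 8 * k + 15 ∈ {m : ℕ | ∃ x : G, x ≠ 1 ∧ m = (𝒞[x]).index} :=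
        h1 ▸ Or.inl rfl
      rw [show 𝒞[x] = ⊤ from eq_top_iff.2 fun y _ => mem_cent1_iff.2 (hc.is_comm.comm y x),
        index_top] at hx
      omega
    refine ⟨hs, hG, ?_⟩
    rw [hset hs hG, h1]
    exact Set.ncard_eq_three.2 ⟨_, _, _, by omega, by omega, by omega, rfl⟩

end Cfsg.Agent.S3192
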