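import Cfsg.Statements.S3206
import Mathlib
import Cfsg.Agent.Inv.AbelSylAut
import Cfsg.Agent.Misc.SL2Central

set_option autoImplicit false
open Cfsg

namespace Cfsg.Agent.S3206


/-- Let G be a non-abelian finite simple group with abelian Sylow 2-subgroups, and let t be an involution of G whose centralizer is a maximal subgroup of G and is the direct product of the subgroup generated by t with a subgroup E having a normal subgroup isomorphic to PSL(2, q), q odd and greater than 3, with trivial centralizer in E. Then every finite perfect group having a central 2-subgroup with quotient isomorphic to G has that central subgroup trivial (G has no nontrivial perfect central extension by a 2-group), and every automorphism of G of 2-power order that fixes every element of some Sylow 2-subgroup of G is inner. -/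
theorem result {G : Type*} [Group G] [Finite G] [IsSimpleGroup G]
    (hG : ¬ IsMulCommutative G) (hab : ∀ S : Sylow 2 G, IsMulCommutative ↥(S : Subgroup G))
    (t : G) (ht : orderOf t = 2) (hmax : IsCoatom (Subgroup.centralizer ({t} : Set G)))
    (E : Subgroup G) (hE : Cfsg.IsInternalDirectProduct (Subgroup.zpowers t) E (Subgroup.centralizer ({t} : Set G)))
    {F : Type*} [Field F] [Fintype F] (hFo : Odd (Fintype.card F)) (hF3 : 3 < Fintype.card F)
    (N : Subgroup ↥E) [N.Normal] (hN : Nonempty (↥N ≃* Matrix.ProjectiveSpecialLinearGroup (Fin 2) F))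
    (hNc : Subgroup.centralizer (N : Set ↥E) = ⊥) :
    (∀ (L : Type) (_ : Group L) (_ : Finite L) (Z : Subgroup L) (_ : Z.Normal), commutator L = ⊤ → Z ≤ Subgroup.center L →
        IsPGroup 2 ↥Z → Nonempty (L ⧸ Z ≃* G) → Z = ⊥) ∧
    (∀ (φ : G ≃* G) (k : ℕ), φ ^ (2 ^ k) = 1 → (∃ S : Sylow 2 G, ∀ s ∈ (S : Subgroup G), φ s = s) →
        ∃ g : G, ∀ x : G, φ x = g * x * g⁻¹) := by
  open Cfsg.Agent.Inv Cfsg.Agent.Inv.AbelSylAut Cfsg.Agent.PLocal.Amb Subgroup in
  refine ⟨fun L _ _ Z _ hL hZ hZ2 ⟨e⟩ => ?_, fun φ k hφ ⟨S, hS⟩ =>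
    inner_of_fix hG (ht ▸ orderOf_dvd_natCard t) S (hab S) φ hφ hS⟩
  obtain ⟨T, hT⟩ := (isPGroup_zpowers_of_orderOf_two ht).exists_le_sylow
  have htT : t ∈ (T : Subgroup G) := hT (mem_zpowers t)
  have hTc := hab T
  have hTC : (T : Subgroup G) ≤ centralizer ({t} : Set G) := fun g hg =>
    mem_centralizer_singleton_iff.2 (setLike_mul_comm hg htT)
  obtain ⟨-, hEC, hcomm, hinf, hsup⟩ := hE
  have htt := mul_self_of_orderOf_two ht
  have hdec : ∀ g ∈ centralizer ({t} : Set G), g ∈ E ∨ t * g ∈ E := by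
    intro g hg
    obtain ⟨a, ha, b, hb, rfl⟩ := Misc.SL2C.exists_mul_of_mem_sup hcomm (hsup ▸ hg)
    rcases (Misc.SL2C.mem_zpowers_iff_of_sq htt).1 ha with rfl | rfl
    · left; simpa using hb
    · right; rwa [← mul_assoc, htt, one_mul]
  have htE : t ∉ E := fun h => ne_one_of_orderOf_two ht
    (mem_bot.1 (hinf ▸ (⟨mem_zpowers t, h⟩ : t ∈ zpowers t ⊓ E)))
  have hidx : ∀ K : Subgroup G, t ∈ K → K ≤ centralizer ({t} : Set G) → E.relIndex K = 2 := by
    intro K h1 h2
    refine index_eq_two_iff'.2 ⟨⟨t, h1⟩, fun b => ?_⟩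
    simp only [mem_subgroupOf, Subgroup.coe_mul]
    rcases hdec b (h2 b.2) with h | h
    · exact Or.inr ⟨h, fun h' => htE (by simpa using mul_mem h' (inv_mem h))⟩
    · exact Or.inl ⟨h, fun h' => htE (by simpa using mul_mem h (inv_mem h'))⟩
  have hEn : centralizer ({t} : Set G) ≤ normalizer (E : Set G) :=
    (normal_subgroupOf_iff_le_normalizer hEC).1 (normal_of_index_eq_two
      (hidx _ (mem_centralizer_singleton_iff.2 rfl) le_rfl))
  obtain ⟨U, hU⟩ := ((isSyl_of_le T hTC).inf_of_le hEC hEn).exists_sylow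
  obtain ⟨f⟩ := hN
  have hs : IsSimpleGroup (Matrix.ProjectiveSpecialLinearGroup (Fin 2) F) :=
    Matrix.ProjectiveSpecialLinearGroup.rank_two_simple (by rw [Nat.card_eq_fintype_card]; omega)
  have := f.isSimpleGroup
  have hV := (isSyl_top U).inf_of_le (N := N) le_top (normalizer_eq_top N).ge
  have hUc : ∀ a ∈ (U : Subgroup E), ∀ b ∈ (U : Subgroup E), a * b = b * a := fun a ha b hb => by
    rw [hU] at ha hb
    exact Subtype.ext (setLike_mul_comm (s := (T : Subgroup G)) ha.1 hb.1)
  obtain ⟨P, hP⟩ := hV.exists_sylow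
  have hK := klein_of_comm hFo (P.mapSurjective (f := f.toMonoidHom) f.surjective) ⟨⟨by
    rintro ⟨_, a, ha, rfl⟩ ⟨_, b, hb, rfl⟩
    rw [hP] at ha hb
    refine Subtype.ext ?_
    simp only [Subgroup.coe_mul, ← map_mul]
    congr 1
    exact Subtype.ext (hUc _ ha.1 _ hb.1)⟩⟩
  have hP4 : Nat.card (P : Subgroup N) = 4 := by
    rw [← hK.card_four]
    exact (card_map_of_injective (f := f.toMonoidHom) f.injective).symm
  have hUN : (U : Subgroup E) ≤ N := fun x hx => by
    obtain ⟨k, hk⟩ := U.isPGroup' ⟨x, hx⟩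
    exact mem_of_centralizes hNc (dvd_trans (by rw [hP4]; norm_num) (card_subgroup_dvd_card P.1)) hV
      (fun a ha b hb => hUc a ha.1 b hb.1) (congrArg Subtype.val hk) fun s hs => hUc s hs.1 x hx
  rw [hP, Nat.card_congr (subgroupOfEquivOfLe inf_le_right).toEquiv, inf_eq_left.2 hUN, hU,
    Nat.card_congr (subgroupOfEquivOfLe inf_le_right).toEquiv] at hP4
  have h8 : Nat.card (T : Subgroup G) = 8 := by
    have := (E.subgroupOf T).card_mul_index
    rw [← relIndex, hidx _ htT hTC, ← inf_subgroupOf_left,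
      Nat.card_congr (subgroupOfEquivOfLe inf_le_left).toEquiv, hP4] at this
    exact this.symm
  have hker : (e.toMonoidHom.comp (QuotientGroup.mk' Z)).ker = Z := by
    ext x; simp
  rw [← hker]
  refine ker_eq_bot _ (e.surjective.comp (QuotientGroup.mk'_surjective Z)) (hker.symm ▸ hZ)
    (hker.symm ▸ hZ2) hL T hTc h8 (inf_centralizer_eq_bot (ZStar.oddCore_eq_bot_of_simple ht)
    (fun z hz h2 => hG ⟨⟨fun a b => ?_⟩⟩) T hTc)
  have h3 := (inferInstance : (center G).Normal).eq_bot_or_eq_top.resolve_left fun h =>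
    ne_one_of_orderOf_two h2 (mem_bot.1 (h ▸ hz))
  exact mem_center_iff.1 (h3 ▸ mem_top b : b ∈ center G) a

end Cfsg.Agent.S3206
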