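import Cfsg.Statements.S3211
import Mathlib
import Cfsg.Agent.Misc.SL2Central
import Cfsg.Agent.Inv.ZStarCor

set_option autoImplicit false
open Cfsg

namespace Cfsg.Agent.S3211

open Cfsg.Agent.Misc.SL2C Cfsg.Agent.KSG.M2 Cfsg.Agent.Class.Dickson Matrix MatrixGroups in
theorem sq_of_inverts {G : Type*} [Group G] {F : Type*} [Field F] [Fintype F]
    (hF : Odd (Fintype.card F)) {L : Subgroup G} (e : L ≃* SL(2, F)) {j : G} (hL : Like L j)
    {c x : G} (hc : c ∈ L) (hx : x ∈ L) (h : c * x * c⁻¹ = x * j) : c * c = j := by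
  have h2 : (2 : F) ≠ 0 := Class.Dickson.two_ne_zero_of_odd_card hF
  have hej : e ⟨j, hL.mem⟩ = -1 := by
    refine ((SL_sq_eq_one_iff h2).1 ?_).resolve_left fun h => hL.ne ?_
    · rw [pow_two, ← map_mul, show (⟨j, hL.mem⟩ : L) * ⟨j, hL.mem⟩ = 1 from Subtype.ext hL.sq,
        map_one]
    · exact congrArg Subtype.val (e.injective (h.trans e.map_one.symm))
  have h3 : (⟨c, hc⟩ : L) * ⟨x, hx⟩ * (⟨c, hc⟩ : L)⁻¹ = ⟨x, hx⟩ * ⟨j, hL.mem⟩ := Subtype.ext h
  have h4 := congrArg e h3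
  simp only [map_mul, map_inv, hej] at h4
  have h5 : (e ⟨x, hx⟩)⁻¹ * e ⟨c, hc⟩ * e ⟨x, hx⟩ = -e ⟨c, hc⟩ := by
    rw [mul_assoc, mul_inv_eq_iff_eq_mul.1 h4]; simp
  have h6 := congrArg (fun g : SL(2, F) => (g : Matrix (Fin 2) (Fin 2) F).trace) h5
  simp only [SpecialLinearGroup.coe_neg, trace_neg] at h6
  rw [Matrix.SpecialLinearGroup.coe_mul, Matrix.SpecialLinearGroup.coe_mul, trace_mul_cycle,
    ← Matrix.SpecialLinearGroup.coe_mul, mul_inv_cancel, Matrix.SpecialLinearGroup.coe_one,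
    one_mul] at h6
  have h7 : (e ⟨c, hc⟩ : Matrix (Fin 2) (Fin 2) F).trace = 0 :=
    (mul_eq_zero.1 (by linear_combination h6)).resolve_left h2
  have h8 := SL_sq_eq_neg_one_iff.2 h7
  rw [← map_mul, ← hej] at h8
  exact congrArg Subtype.val (e.injective h8)


/-- Let G be a finite group with subgroups L₁ ≅ SL₂(q₁) and L₂ ≅ SL₂(q₂), q₁ and q₂ odd prime powers, which commute elementwise and meet in ⟨j⟩ for an involution j, and suppose L₁L₂ has index 2 in C_G(j). If some n ∈ C_G(j) with n² = j interchanges L₁ and L₂ under conjugation (so that C_G(j) = L₁L₂⟨n⟩), then G = C_G(j)O(G). -/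
theorem result {G : Type*} [Group G] [Finite G]
    {F₁ : Type*} [Field F₁] [Fintype F₁] {F₂ : Type*} [Field F₂] [Fintype F₂]
    (hF₁ : Odd (Fintype.card F₁)) (hF₂ : Odd (Fintype.card F₂)) (L₁ L₂ : Subgroup G)
    (e₁ : ↥L₁ ≃* Matrix.SpecialLinearGroup (Fin 2) F₁) (e₂ : ↥L₂ ≃* Matrix.SpecialLinearGroup (Fin 2) F₂)
    (hc : ∀ x ∈ L₁, ∀ y ∈ L₂, x * y = y * x) (j : G) (hj : orderOf j = 2) (hm : L₁ ⊓ L₂ = Subgroup.zpowers j)
    (hle : L₁ ⊔ L₂ ≤ Subgroup.centralizer ({j} : Set G)) (hi : (L₁ ⊔ L₂).relIndex (Subgroup.centralizer ({j} : Set G)) = 2) (n : G) (hn : n ∈ Subgroup.centralizer ({j} : Set G))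
    (hn2 : n ^ 2 = j) (hswap : L₁.map (MulAut.conj n).toMonoidHom = L₂) :
    Subgroup.centralizer ({j} : Set G) ⊔ Cfsg.oddCore G = ⊤ := by
  open Cfsg.Agent.Misc.SL2C Cfsg.Agent.Inv Subgroup in
  have P := pair_of_equiv hF₁ hF₂ e₁ e₂ hc hj hm
  have hjj := P.left.sq
  have hcj : ∀ y ∈ centralizer ({j} : Set G), y * j = j * y := fun y hy =>
    mem_centralizer_singleton_iff.1 hy
  have c1 : ∀ y ∈ L₁, y * j = j * y := fun y hy => hcj y (hle (mem_sup_left hy))
  have c2 : ∀ y ∈ L₂, y * j = j * y := fun y hy => hcj y (hle (mem_sup_right hy))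
  have hnj := hcj n hn
  rw [sq] at hn2
  have n12 : ∀ a ∈ L₁, n * a * n⁻¹ ∈ L₂ := fun a ha => hswap ▸ ⟨a, ha, rfl⟩
  have nn : ∀ a ∈ L₁, n * (n * a * n⁻¹) * n⁻¹ = a := fun a ha => by
    calc n * (n * a * n⁻¹) * n⁻¹ = n * n * a * (n * n)⁻¹ := by group
      _ = a := by rw [hn2, ← c1 a ha]; group
  have n21 : ∀ b ∈ L₂, n * b * n⁻¹ ∈ L₁ := by
    rw [← hswap]
    rintro _ ⟨a, ha, rfl⟩
    exact (nn a ha).symm ▸ ha
  obtain ⟨x, hx, hxx⟩ := P.left.ex
  have hxL : x ∉ L₂ := fun h => by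
    rcases P.inf x hx h with rfl | rfl
    · exact P.left.ne (by simpa using hxx.symm)
    · exact P.left.ne (hxx.symm.trans hjj)
  have hnY : n ∉ L₁ ⊔ L₂ := fun h => by
    have h1 := P.symm.conj_mem_left (sup_comm L₁ L₂ ▸ inv_mem h) (n12 x hx)
    exact hxL (by simpa [mul_assoc] using h1)
  have hout : ∀ u ∈ centralizer ({j} : Set G), u ∉ L₁ ⊔ L₂ → ∀ p ∈ L₁,
      u * u = p * (n * p * n⁻¹) → u * (n * p * n⁻¹) * u⁻¹ = p * j := by
    intro u hu huY p hp h
    have h1 : u * n⁻¹ ∈ L₁ ⊔ L₂ := by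
      have := (mul_mem_iff_of_index_two hi (a := ⟨u, hu⟩) (b := ⟨n, hn⟩⁻¹)).2 (by
        simp only [mem_subgroupOf, inv_mem_iff, huY, hnY])
      exact this
    obtain ⟨a, ha, b, hb, hab⟩ := exists_mul_of_mem_sup hc h1
    obtain rfl : u = a * b * n := by rw [← hab]; group
    have e1 : a * b * n * (a * b * n) = a * (n * b * n⁻¹) * j * (b * (n * a * n⁻¹)) := by
      calc a * b * n * (a * b * n) = a * (b * (n * a * n⁻¹) * (n * b * n⁻¹)) * (n * n) := by group
        _ = a * (n * b * n⁻¹) * (b * (n * a * n⁻¹) * j) := by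
          rw [← hc _ (n21 b hb) _ (mul_mem hb (n12 a ha)), hn2]; group
        _ = _ := by rw [c2 _ (mul_mem hb (n12 a ha))]; group
    have e2 : p⁻¹ * (a * (n * b * n⁻¹) * j) = n * p * n⁻¹ * (b * (n * a * n⁻¹))⁻¹ := by
      rw [inv_mul_eq_iff_eq_mul, ← mul_assoc p, ← h, e1]; group
    have e3 := P.inf _ (mul_mem (inv_mem hp) (mul_mem (mul_mem ha (n21 b hb)) P.left.mem))
      (e2 ▸ mul_mem (n12 p hp) (inv_mem (mul_mem hb (n12 a ha))))
    have e4 : a * b * n * (n * p * n⁻¹) * (a * b * n)⁻¹ = a * p * a⁻¹ := by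
      calc a * b * n * (n * p * n⁻¹) * (a * b * n)⁻¹
          = a * (b * (n * (n * p * n⁻¹) * n⁻¹)) * b⁻¹ * a⁻¹ := by group
        _ = _ := by rw [nn p hp, ← hc p hp b hb]; group
    have e5 : n * (b * (n * a * n⁻¹)) * n⁻¹ = n * b * n⁻¹ * a := by
      conv_rhs => rw [← nn a ha]
      group
    rw [e4]
    rcases e3 with e3 | e3
    · rw [e3, eq_mul_inv_iff_mul_eq, one_mul] at e2
      rw [e2, nn p hp] at e5
      rw [inv_mul_eq_one] at e3
      calc a * p * a⁻¹ = a * (n * b * n⁻¹ * a) * a⁻¹ := by rw [← e5]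
        _ = a * (n * b * n⁻¹) * (j * j) := by rw [hjj]; group
        _ = a * (n * b * n⁻¹) * j * j := by group
        _ = p * j := by rw [← e3]
    · rw [e3, eq_mul_inv_iff_mul_eq] at e2
      have e6 : j * (n * b * n⁻¹ * a) = p := by
        rw [← e5, ← nn p hp, ← e2]
        calc j * (n * (b * (n * a * n⁻¹)) * n⁻¹) = j * n * (b * (n * a * n⁻¹)) * n⁻¹ := by group
          _ = _ := by rw [← hnj]; group
      rw [inv_mul_eq_iff_eq_mul, mul_left_inj] at e3
      calc a * p * a⁻¹ = a * (j * (n * b * n⁻¹ * a)) * a⁻¹ := by rw [e6]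
        _ = a * j * (n * b * n⁻¹) := by group
        _ = p * j := by rw [c1 a ha, mul_assoc, e3, c1 p hp]
  have hinY : ∀ s ∈ centralizer ({j} : Set G), s * s = 1 → s ∈ L₁ ⊔ L₂ := by
    intro s hs h
    by_contra hY
    exact P.left.ne (by simpa using (hout s hs hY 1 (one_mem _) (by simpa using h)).symm)
  set y := n * x * n⁻¹ with hy
  have hyL : y ∈ L₂ := n12 x hx
  have hyy : y * y = j := by
    calc y * y = n * (x * x) * n⁻¹ := by rw [hy]; group
      _ = j := by rw [hxx, hnj]; group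
  have hdich : ∀ a ∈ L₁, ∀ b ∈ L₂, a * b * (x * y) = x * y * (a * b) →
      (a * x = x * a ∧ b * y = y * b) ∨ (a * x * a⁻¹ = x * j ∧ b * y * b⁻¹ = y * j) := by
    intro a ha b hb h
    have e1 : x⁻¹ * (a * x * a⁻¹) = y * (b * y * b⁻¹)⁻¹ := by
      have : a * x * a⁻¹ * (b * y * b⁻¹) = x * y := by
        calc a * x * a⁻¹ * (b * y * b⁻¹) = a * (x * (b * y * b⁻¹)) * a⁻¹ := by
              rw [mul_assoc (a * x), hc _ (inv_mem ha) _ (mul_mem (mul_mem hb hyL) (inv_mem hb))]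
              group
          _ = a * b * (x * y) * (a * b)⁻¹ := by
              rw [← mul_assoc x, ← mul_assoc x, hc x hx b hb]; group
          _ = _ := by rw [h]; group
      rw [inv_mul_eq_iff_eq_mul, ← mul_assoc, ← this]; group
    rcases P.inf _ (mul_mem (inv_mem hx) (mul_mem (mul_mem ha hx) (inv_mem ha)))
      (e1 ▸ mul_mem hyL (inv_mem (mul_mem (mul_mem hb hyL) (inv_mem hb)))) with e2 | e2
    · left
      rw [e2, eq_comm, mul_inv_eq_one] at e1
      rw [inv_mul_eq_one] at e2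
      exact ⟨mul_inv_eq_iff_eq_mul.1 e2.symm, mul_inv_eq_iff_eq_mul.1 e1.symm⟩
    · right
      rw [e2, eq_mul_inv_iff_mul_eq] at e1
      refine ⟨inv_mul_eq_iff_eq_mul.1 e2, ?_⟩
      rw [c2 y hyL, ← one_mul (b * y * b⁻¹), ← hjj, mul_assoc, e1]
  have hxy : x * y * (x * y) = 1 := by rw [P.mul_sq hx hyL, hxx, hyy, hjj]
  have htL : x * y ∉ L₂ := fun h => hxL (by simpa using mul_mem h (inv_mem hyL))
  have ht1 : x * y ≠ 1 := fun h => htL (h ▸ one_mem _)
  have htj : x * y ≠ j := fun h => htL (h ▸ P.right.mem)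
  refine ZStar.centralizer_sup_oddCore_of_isolated ⟨hj, fun g hg => ?_⟩
  by_contra hne
  obtain ⟨t₀, -, -, -, -, hcl⟩ := P.two_classes
  have hcls : ∀ g : G, Commute j (g * j * g⁻¹) → g * j * g⁻¹ ≠ j →
      ∃ k ∈ centralizer ({j} : Set G), k * (x * y) * k⁻¹ = g * j * g⁻¹ := by
    intro g hg hne
    have h1 : g * j * g⁻¹ * (g * j * g⁻¹) = 1 := by
      calc g * j * g⁻¹ * (g * j * g⁻¹) = g * (j * j) * g⁻¹ := by group
        _ = 1 := by rw [hjj]; group
    obtain ⟨k, hk, e1⟩ := (hcl _ (hinY _ (mem_centralizer_singleton_iff.2 hg.eq.symm) h1) h1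
      (by simpa using P.left.ne)).resolve_left hne
    obtain ⟨k', hk', e2⟩ := (hcl _ (mul_mem_sup hx hyL) hxy ht1).resolve_left htj
    exact ⟨k * k'⁻¹, hle (mul_mem hk (inv_mem hk')), by rw [← e1, ← e2]; group⟩
  obtain ⟨k, hk, e1⟩ := hcls g hg hne
  have htc : x * y * j = j * (x * y) := hcj _ (hle (mul_mem_sup hx hyL))
  have e2 : k⁻¹ * g * j * (k⁻¹ * g)⁻¹ = x * y := by
    calc k⁻¹ * g * j * (k⁻¹ * g)⁻¹ = k⁻¹ * (g * j * g⁻¹) * k := by group
      _ = _ := by rw [← e1]; group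
  generalize k⁻¹ * g = g at e2
  obtain ⟨k', hk', e3⟩ := hcls g⁻¹ (by
    calc j * (g⁻¹ * j * g⁻¹⁻¹) = g⁻¹ * (g * j * g⁻¹ * j) * g := by group
      _ = g⁻¹ * (j * (g * j * g⁻¹)) * g := by rw [e2, htc]
      _ = _ := by group) (fun h => htj (by
      rw [← e2]
      calc g * j * g⁻¹ = g * (g⁻¹ * j * g⁻¹⁻¹) * g⁻¹ := by rw [h]
        _ = j := by group))
  have e4 : g * k' * j * (g * k')⁻¹ = x * y := by
    rw [mul_assoc g, hcj k' hk', ← e2]; group
  have e5 : g * k' * (x * y) * (g * k')⁻¹ = j := by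
    calc g * k' * (x * y) * (g * k')⁻¹ = g * (k' * (x * y) * k'⁻¹) * g⁻¹ := by group
      _ = j := by rw [e3]; group
  generalize g * k' = h at e4 e5
  obtain ⟨w, hw, hwx⟩ := P.left.conj x hx (x * j) (mul_mem hx P.left.mem) hxx (by
    rw [mul_assoc, ← mul_assoc j, ← c1 x hx, mul_assoc, hjj, mul_one, hxx])
  have hww := sq_of_inverts hF₁ e₁ P.left hw hx hwx
  have hw' : n * w * n⁻¹ ∈ L₂ := n12 w hw
  have hwy : n * w * n⁻¹ * y * (n * w * n⁻¹)⁻¹ = y * j := by
    calc n * w * n⁻¹ * y * (n * w * n⁻¹)⁻¹ = n * (w * x * w⁻¹) * n⁻¹ := by rw [hy]; group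
      _ = n * x * (n⁻¹ * (n * j)) * n⁻¹ := by rw [hwx]; group
      _ = _ := by rw [hnj, hy]; group
  set W := w * (n * w * n⁻¹) with hW
  have hWW : W * W = 1 := by
    rw [hW, P.mul_sq hw hw', hww, sq_of_inverts hF₂ e₂ P.right hw' hyL hwy, hjj]
  have hWn : n * W = W * n := by
    rw [← mul_inv_eq_iff_eq_mul]
    calc n * W * n⁻¹ = n * w * n⁻¹ * (n * (n * w * n⁻¹) * n⁻¹) := by rw [hW]; group
      _ = W := by rw [nn w hw, hW, hc w hw _ hw']
  have hWx : W * x * W⁻¹ = x * j := by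
    rw [hW, mul_assoc w, ← hc x hx _ hw', ← hwx]; group
  have hWy : W * y * W⁻¹ = y * j := by
    calc W * y * W⁻¹ = w * (n * w * n⁻¹ * y * (n * w * n⁻¹)⁻¹) * w⁻¹ := by rw [hW]; group
      _ = _ := by rw [hwy, hc w hw _ (mul_mem hyL P.right.mem)]; group
  have hWt : W * (x * y) = x * y * W := by
    rw [← mul_inv_eq_iff_eq_mul]
    calc W * (x * y) * W⁻¹ = W * x * W⁻¹ * (W * y * W⁻¹) := by group
      _ = x * (j * y) * j := by rw [hWx, hWy]; group
      _ = _ := by rw [← c2 y hyL, mul_assoc, mul_assoc, hjj, mul_one]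
  have hWj : W * j = j * W := hcj _ (hle (mul_mem_sup hw hw'))
  have hnt : n * (x * y) = x * y * n := by
    rw [← mul_inv_eq_iff_eq_mul, hc x hx y hyL]
    conv_rhs => rw [← nn x hx]
    rw [← hc x hx y hyL, hy]; group
  have hcomm : ∀ a b : G, a * b = b * a → h * a * h⁻¹ * (h * b * h⁻¹) = h * b * h⁻¹ * (h * a * h⁻¹) := by
    intro a b e
    calc h * a * h⁻¹ * (h * b * h⁻¹) = h * (a * b) * h⁻¹ := by group
      _ = _ := by rw [e]; group
  have hu : h * n * h⁻¹ ∈ centralizer ({j} : Set G) :=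
    mem_centralizer_singleton_iff.2 (e5 ▸ hcomm _ _ hnt)
  have hW' : h * W * h⁻¹ ∈ centralizer ({j} : Set G) :=
    mem_centralizer_singleton_iff.2 (e5 ▸ hcomm _ _ hWt)
  have hW'W' : h * W * h⁻¹ * (h * W * h⁻¹) = 1 := by
    calc h * W * h⁻¹ * (h * W * h⁻¹) = h * (W * W) * h⁻¹ := by group
      _ = 1 := by rw [hWW]; group
  have hW'Y := hinY _ hW' hW'W'
  have hWne : ∀ z : G, z * x = x * z → W ≠ z := by
    rintro z hz rfl
    rw [hz, mul_inv_cancel_right] at hWx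
    exact P.left.ne (by simpa using hWx)
  have hxt : x * y * x = x * (x * y) := by rw [mul_assoc, ← hc x hx y hyL]
  have hW'y : h * W * h⁻¹ * y * (h * W * h⁻¹)⁻¹ = y * j := by
    obtain ⟨a, ha, b, hb, hab⟩ := exists_mul_of_mem_sup hc hW'Y
    have e6 := hcomm _ _ hWj
    rw [e4, hab] at e6
    rw [hab] at hW'W' ⊢
    rcases hdich a ha b hb e6 with ⟨h1, h2⟩ | ⟨-, h2⟩
    · exfalso
      have f1 : a * b ≠ 1 := fun e => hWne 1 (by simp) (by simpa using hab.trans e)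
      have f2 : a * b ≠ j := fun e => hWne _ hxt (by simpa using hab.trans (e.trans e5.symm))
      have f3 : a * b ≠ x * y := fun e =>
        hWne _ (c1 x hx).symm (by simpa using hab.trans (e.trans e4.symm))
      have f4 : a * b ≠ x * y * j := fun e => hWne (j * (x * y))
        (by rw [mul_assoc, hxt, ← mul_assoc, ← c1 x hx, mul_assoc]) (by
          have : h * W * h⁻¹ = h * (j * (x * y)) * h⁻¹ := by
            calc h * W * h⁻¹ = h * j * h⁻¹ * (h * (x * y) * h⁻¹) := by rw [hab, e, e4, e5]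
              _ = _ := by group
          simpa using this)
      have hxj : x⁻¹ * x⁻¹ = j := by rw [← mul_inv_rev, hxx, inv_eq_iff_mul_eq_one, hjj]
      have hyj : y⁻¹ * y⁻¹ = j := by rw [← mul_inv_rev, hyy, inv_eq_iff_mul_eq_one, hjj]
      rcases P.sq_cases ha hb (one_mem _) hW'W' with g1 | g1
      · rw [P.mul_sq ha hb, g1, one_mul] at hW'W'
        rcases P.left.sq_one a ha g1 with g2 | g2 <;>
          rcases P.right.sq_one b hb hW'W' with g3 | g3 <;> rw [g2, g3] at f1 f2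
        · exact f1 (one_mul 1)
        · exact f2 (one_mul j)
        · exact f2 (mul_one j)
        · exact f1 hjj
      · rw [P.mul_sq ha hb, g1] at hW'W'
        have g2 : b * b = j := by
          rw [eq_inv_of_mul_eq_one_right hW'W', inv_eq_iff_mul_eq_one, hjj]
        have g3 := P.left.sq_one (a * x⁻¹) (mul_mem ha (inv_mem hx)) (by
          rw [((show Commute a x from h1).inv_right).symm.mul_mul_mul_comm, g1, hxj, hjj])
        have g4 := P.right.sq_one (b * y⁻¹) (mul_mem hb (inv_mem hyL)) (by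
          rw [((show Commute b y from h2).inv_right).symm.mul_mul_mul_comm, g2, hyj, hjj])
        simp only [mul_inv_eq_iff_eq_mul, one_mul] at g3 g4
        rcases g3 with rfl | rfl <;> rcases g4 with rfl | rfl
        · exact f3 rfl
        · exact f4 (by rw [← c2 y hyL]; exact (mul_assoc _ _ _).symm)
        · exact f4 (by rw [htc, mul_assoc])
        · exact f3 (by rw [← c1 x hx, mul_assoc, ← mul_assoc j, hjj, one_mul])
    · calc a * b * y * (a * b)⁻¹ = a * (b * y * b⁻¹) * a⁻¹ := by group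
        _ = _ := by rw [h2, hc a ha _ (mul_mem hyL P.right.mem)]; group
  have hin : ∀ u ∈ L₁ ⊔ L₂, u * u = x * y → u * y * u⁻¹ = y := by
    intro u hu e
    obtain ⟨a, ha, b, hb, rfl⟩ := exists_mul_of_mem_sup hc hu
    rcases hdich a ha b hb (by rw [← e]; group) with ⟨-, h2⟩ | ⟨h1, h2⟩
    · rw [mul_assoc a, h2, ← mul_assoc, hc a ha y hyL]; group
    · rw [P.mul_sq ha hb, sq_of_inverts hF₁ e₁ P.left ha hx h1,
        sq_of_inverts hF₂ e₂ P.right hb hyL h2, hjj] at e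
      exact absurd e.symm ht1
  have huu : h * n * h⁻¹ * (h * n * h⁻¹) = x * y := by rw [← e4, ← hn2]; group
  have hvv : h * n * h⁻¹ * (h * W * h⁻¹) * (h * n * h⁻¹ * (h * W * h⁻¹)) = x * y := by
    calc h * n * h⁻¹ * (h * W * h⁻¹) * (h * n * h⁻¹ * (h * W * h⁻¹))
        = h * (n * (W * n) * W) * h⁻¹ := by group
      _ = h * (n * n * (W * W)) * h⁻¹ := by rw [← hWn]; group
      _ = _ := by rw [hWW, hn2, mul_one, e4]
  generalize h * n * h⁻¹ = u at hu huu hvv
  generalize h * W * h⁻¹ = W' at hW' hW'Y hW'y hvv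
  have key : u * W' * y * (u * W')⁻¹ = u * y * u⁻¹ := by
    by_cases huY : u ∈ L₁ ⊔ L₂
    · rw [hin u huY huu, hin _ (mul_mem huY hW'Y) hvv]
    · rw [hout u hu huY x hx huu, hout _ (mul_mem hu hW')
        (fun h => huY (by simpa using mul_mem h (inv_mem hW'Y))) x hx hvv]
  have : u * (y * j) * u⁻¹ = u * y * u⁻¹ := by rw [← key, ← hW'y]; group
  exact P.left.ne (by simpa using this)

end Cfsg.Agent.S3211
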