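import Cfsg.Statements.S3215
import Cfsg.Agent.PLocal.ConstrAmb
import Cfsg.Agent.FGS.ClassSize
import Cfsg.Agent.Solv.Misc1
import Cfsg.Agent.Solv.FrobeniusAction
import Cfsg.Agent.Grp.Fitting
import Cfsg.Agent.Inv.Basic
import Cfsg.Agent.Transfer.PCompl
import Cfsg.Agent.Solv.Coprime2
-- import your own Cfsg.Agent.* helpers here

set_option autoImplicit false
open Cfsg

namespace Cfsg.Agent.S3215

open Subgroup Cfsg.Agent.PLocal Cfsg.Agent.PLocal.Amb
open scoped commutatorElement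

theorem core {Q : Type*} [Group Q] [Finite Q] [Group.IsSolvable Q] (h2 : pCore 2 Q = ⊥)
    {X : Subgroup Q} (hX : IsZGroup X) {k : ℕ} (hk : X.index = 2 ^ k)
    (h : ∀ u x : Q, (∃ k, u ^ 2 ^ k = 1) → u ≠ 1 → (orderOf x).Coprime 2 → x * u = u * x → x = 1) :
    commutator Q ≤ X ∧ ∀ T : Sylow 2 Q, IsCyclic T := by
  have : Fact (Nat.Prime 2) := ⟨Nat.prime_two⟩
  set F := fittingSubgroup Q with hF
  have hFo : (Nat.card F).Coprime 2 :=
    Grp.coprime_of_le_pPrimeCore (Grp.fitting_le_pPrimeCore_of_pCore_eq_bot h2)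
  have hFX : F ≤ X := Grp.le_of_coprime_card_index (by rw [hk]; exact hFo.pow_right k)
  have : IsZGroup F := IsZGroup.of_injective (inclusion_injective hFX)
  have hc : commutator Q ≤ F :=
    (Solv.commutator_le_centralizer_of_isCyclic F).trans (Grp.centralizer_fitting_le Q)
  refine ⟨hc.trans hFX, fun T => ?_⟩
  by_cases h0 : F = ⊥
  · have : Subsingleton Q := by
      by_contra hn
      rw [not_subsingleton_iff_nontrivial] at hn
      exact Grp.fitting_ne_bot Q h0
    infer_instance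
  have hT : IsMulCommutative T := by
    refine ⟨⟨fun a b => Subtype.ext ?_⟩⟩
    have h1 : ⁅(a : Q), (b : Q)⁆ ∈ (T : Subgroup Q) ⊓ F :=
      ⟨(⁅a, b⁆ : (T : Subgroup Q)).2, hc (commutator_mem_commutator (mem_top _) (mem_top _))⟩
    rw [Grp.inf_eq_bot_of_isPGroup_of_coprime T.isPGroup' hFo, mem_bot] at h1
    exact commutatorElement_eq_one_iff_mul_comm.1 h1
  refine Solv.Frob.isCyclic_of_fpf_of_comm (A := T) h0 le_normalizer_of_normal fun a ha ha1 => ?_
  rw [eq_bot_iff]
  intro x hx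
  exact h a x (isPGroup_iff.1 T.isPGroup' a ha) ha1 (Transfer.coprime_orderOf_of_mem hFo hx.1)
    (mem_centralizer_singleton_iff.1 hx.2)

/-- Let H be a finite solvable group with no nontrivial normal subgroup of odd order in which the centralizer of every involution has a normal 2-complement. Let X be a Hall 2'-subgroup of H (odd order, index a power of 2) and Y = O₂(H). Then no non-identity element of X commutes with a non-identity element of Y (so for X ≠ 1 the group XY is a Frobenius group with kernel Y), every Sylow subgroup of X is cyclic, XY is normal in H, and H/XY is a cyclic 2-group. -/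
theorem result {H : Type*} [Group H] [Finite H] (hsol : Group.IsSolvable H)
    (hO : Cfsg.oddCore H = ⊥)
    (hI : ∀ t : H, orderOf t = 2 → Cfsg.HasNormalPComplement 2 ↥(Subgroup.centralizer ({t} : Set H)))
    (X : Subgroup H) (hXodd : Odd (Nat.card X)) (hXidx : ∃ k : ℕ, X.index = 2 ^ k) :
    (∀ x ∈ X, x ≠ 1 → ∀ y ∈ Cfsg.pCore 2 H, y ≠ 1 → x * y ≠ y * x) ∧
      (∀ (p : ℕ) [Fact p.Prime] (P : Sylow p ↥X), IsCyclic ↥(P : Subgroup ↥X)) ∧
      (X ⊔ Cfsg.pCore 2 H).Normal ∧
      ∀ hN : (X ⊔ Cfsg.pCore 2 H).Normal, IsCyclic (H ⧸ (X ⊔ Cfsg.pCore 2 H)) ∧ IsPGroup 2 (H ⧸ (X ⊔ Cfsg.pCore 2 H)) := by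
  have : Fact (Nat.Prime 2) := ⟨Nat.prime_two⟩
  have hch : CP.IsCharP 2 (⊤ : Subgroup H) := CP.isCharP_top_iff.2 (Grp.centralizer_pCore_le hO)
  have key : ∀ u x : H, (∃ k, u ^ 2 ^ k = 1) → u ≠ 1 → (orderOf x).Coprime 2 → x * u = u * x → x = 1 := by
    intro u x hu hu1 hx hc
    obtain ⟨t, ht, ot⟩ := Inv.exists_involution_of_isPGroup (isPGroup_zpowers hu)
      (by rwa [Ne, zpowers_eq_bot])
    have h1 := hch.inf_centralizer (Inv.isPGroup_zpowers_of_orderOf_two ot) le_normalizer_of_normal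
    rw [top_inf_eq, centralizer_zpowers] at h1
    have h2 := (CA.isCharP_iff_constr.1 h1).2
    have h3 := Grp.le_pPrimeCore inferInstance (Transfer.hasNormalPComplement_iff_coprime.1 (hI t ot))
    have hxt : x ∈ centralizer {t} := by
      obtain ⟨n, rfl⟩ := ht
      exact mem_centralizer_singleton_iff.2 (Commute.zpow_right hc n).eq
    have h4 := h3 (Transfer.mem_pResidual_of_coprime (x := ⟨x, hxt⟩) (by rwa [orderOf_mk]))
    rw [h2, mem_bot] at h4
    exact congrArg Subtype.val h4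
  have hXc : (Nat.card X).Coprime 2 := Nat.coprime_two_right.2 hXodd
  have hY := Grp.pCore_isPGroup 2 H
  have h1 : ∀ x ∈ X, x ≠ 1 → ∀ y ∈ pCore 2 H, y ≠ 1 → x * y ≠ y * x := fun x hx hx1 y hy hy1 e =>
    hx1 (key y x (isPGroup_iff.1 hY y hy) hy1 (Transfer.coprime_orderOf_of_mem hXc hx) e)
  have hZ : IsZGroup X := by
    by_cases h0 : pCore 2 H = ⊥
    · have : Subsingleton H := by
        by_contra hn
        rw [not_subsingleton_iff_nontrivial] at hn
        exact Grp.pCore_ne_bot_of_pPrimeCore_eq_bot hO h0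
      infer_instance
    · refine Solv.Frob.isZGroup_of_fpf_of_odd hXodd h0 le_normalizer_of_normal fun a ha ha1 => ?_
      rw [eq_bot_iff]
      intro y hy
      by_contra hy1
      exact h1 a ha ha1 y hy.1 hy1 (mem_centralizer_singleton_iff.1 hy.2).symm
  set π := QuotientGroup.mk' (pCore 2 H) with hπ
  have hs : Function.Surjective π := QuotientGroup.mk'_surjective _
  obtain ⟨k, hk⟩ := hXidx
  obtain ⟨j, -, hj⟩ := (Nat.dvd_prime_pow Nat.prime_two).1 (hk ▸ X.index_map_dvd hs)
  obtain ⟨h2, h3⟩ := core (Grp.pCore_quotient_pCore 2 H) (X := X.map π)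
    (IsZGroup.of_surjective (π.subgroupMap_surjective X)) hj (by
      intro u x hu hu1 hx hc
      obtain ⟨x, rfl, hx'⟩ := FGS.exists_lift_coprime π hs x hx
      obtain ⟨u, rfl⟩ := hs u
      obtain ⟨n, hn, e⟩ := Solv.coprime_fixed_coset' (zpowers x) (pCore 2 H) le_normalizer_of_normal
        (Solv.coprime_card_of_isPGroup hY (by rwa [Nat.card_zpowers]))
        (Or.inr (Solv.isSolvable_of_isPGroup hY)) u (by
          rintro _ ⟨m, rfl⟩
          refine (QuotientGroup.eq_one_iff _).1 ?_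
          change π _ = 1
          simp only [map_mul, map_inv, map_zpow]
          rw [(Commute.zpow_left hc m).eq]; group)
      have e1 : π (u * n) = π u := by
        rw [map_mul, show π n = 1 from (QuotientGroup.eq_one_iff _).2 hn, mul_one]
      rw [key (u * n) x ?_ ?_ hx' (mem_centralizer_iff.1 e x (mem_zpowers x)), map_one]
      · obtain ⟨a, ha⟩ := hu
        obtain ⟨b, hb⟩ := isPGroup_iff.1 hY ((u * n) ^ 2 ^ a)
          ((QuotientGroup.eq_one_iff _).1 (by change π _ = 1; rw [map_pow, e1, ha]))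
        exact ⟨a + b, by rw [pow_add, pow_mul, hb]⟩
      · intro e2
        exact hu1 (by rw [← e1, e2, map_one]))
  have h4 : X ⊔ pCore 2 H = (X.map π).comap π := by rw [comap_map_eq, hπ, QuotientGroup.ker_mk']
  refine ⟨h1, fun p _ P => inferInstance, ?_, fun hN => ?_⟩
  · rw [h4]
    exact (Subgroup.Normal.of_commutator_le _ h2).comap π
  · have h5 : IsPGroup 2 (H ⧸ (X ⊔ pCore 2 H)) := by
      obtain ⟨i, -, hi⟩ := (Nat.dvd_prime_pow Nat.prime_two).1
        (hk ▸ index_dvd_of_le (le_sup_left : X ≤ X ⊔ pCore 2 H))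
      exact Transfer.isPGroup_quotient_iff_index.2 ⟨i, hi⟩
    refine ⟨?_, h5⟩
    obtain ⟨T⟩ : Nonempty (Sylow 2 (H ⧸ pCore 2 H)) := inferInstance
    have := h3 T
    let φ : H ⧸ pCore 2 H →* H ⧸ (X ⊔ pCore 2 H) :=
      QuotientGroup.map _ _ (MonoidHom.id H) (le_sup_right : pCore 2 H ≤ X ⊔ pCore 2 H)
    have hφ : Function.Surjective φ := by
      intro y
      obtain ⟨y, rfl⟩ := QuotientGroup.mk_surjective y
      exact ⟨y, rfl⟩
    have h6 : (T : Subgroup _).map φ = ⊤ := ((T.mapSurjective hφ).3 (h5.to_subgroup ⊤) le_top).symm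
    refine isCyclic_of_surjective (φ.comp (T : Subgroup _).subtype) fun y => ?_
    obtain ⟨t, ht, rfl⟩ := h6.ge (mem_top y)
    exact ⟨⟨t, ht⟩, rfl⟩

end Cfsg.Agent.S3215
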