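import Mathlib
import Cfsg.Statements.S3218
import Cfsg.Agent.AltC.Main
-- import your own Cfsg.Agent.* helpers here

set_option autoImplicit false
open Cfsg

namespace Cfsg.Agent.S3218

open Subgroup Cfsg.Agent.Fus

/-- Let m ≥ 7 with m ≡ 2 or 3 (mod 4), and let z̃ be any involution of the alternating group A_m. If G is a finite group that has no subgroup of index 2 and contains an involution z whose centralizer C_G(z) is isomorphic to C_{A_m}(z̃), then G is isomorphic to A_m. -/
theorem result {G : Type*} [Group G] [Finite G]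
    (hG : ∀ H : Subgroup G, H.index ≠ 2) (m : ℕ) (hm : 7 ≤ m) (hmod : m % 4 = 2 ∨ m % 4 = 3)
    (zt : ↥(alternatingGroup (Fin m))) (hzt : orderOf zt = 2) (z : G) (hz : orderOf z = 2)
    (e : ↥(Subgroup.centralizer ({z} : Set G)) ≃* ↥(Subgroup.centralizer ({zt} : Set ↥(alternatingGroup (Fin m))))) :
    Nonempty (G ≃* ↥(alternatingGroup (Fin m))) := by
  obtain ⟨n, r, hr, rfl⟩ : ∃ n r, (r = 2 ∨ r = 3) ∧ m = 4 * n + r := ⟨m / 4, m % 4, hmod, by omega⟩
  exact (AltC.main hG hr hzt hz e).resolve_left (by rintro ⟨rfl, rfl, -⟩; omega)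

end Cfsg.Agent.S3218
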