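import Cfsg.Statements.S3221
import Cfsg.Agent.PS4.Model

set_option autoImplicit false
open Cfsg

namespace Cfsg.Agent.S3221

/-- Let F be the field with 3 elements and t₀ an involution of PSp₄(3) = PSp₄(F) lying in the centre of a Sylow 2-subgroup. If G is a finite group of even order that has no subgroup of index 2 and contains an involution t whose centralizer C_G(t) is isomorphic to C_{PSp₄(3)}(t₀), then G ≅ PSp₄(3). -/
theorem result {G : Type*} [Group G] [Finite G] (hev : Even (Nat.card G))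
    (hG : ∀ H : Subgroup G, H.index ≠ 2) {F : Type*} [Field F] [Fintype F] (hF : Fintype.card F = 3)
    (U : Sylow 2 (Cfsg.PSp 2 F)) (t₀ : Cfsg.PSp 2 F) (ht₀ : orderOf t₀ = 2) (ht₀U : t₀ ∈ (U : Subgroup (Cfsg.PSp 2 F)))
    (ht₀c : ∀ u ∈ (U : Subgroup (Cfsg.PSp 2 F)), u * t₀ = t₀ * u) (t : G) (ht : orderOf t = 2)
    (e : ↥(Subgroup.centralizer ({t} : Set G)) ≃* ↥(Subgroup.centralizer ({t₀} : Set (Cfsg.PSp 2 F)))) :
    Nonempty (G ≃* Cfsg.PSp 2 F) := by
  have := Fact.mk Nat.prime_three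
  have : Finite (Matrix.symplecticGroup (Fin 2) F) := inferInstance
  have f := Class.pspCongr 2 (Class.ringEquivZMod hF)
  obtain ⟨ψ, h⟩ := PS4.setup43
  have h' := h.equiv f.symm
  have hZ : ∀ k : PS4.K, (∀ c ∈ PS4.TT, Commute k c) → k = 1 ∨ k = X32.TG.e 9 :=
    X32.BD.of (by decide +kernel)
  obtain ⟨c, hc⟩ := h'.conj_of_central PS4.TT_p PS4.TT_z.1 hZ ⟨ht₀, U, ht₀U, ht₀c⟩
  obtain ⟨φ, hφ, -⟩ := (h'.equiv (MulAut.conj c)).transport (fun k hk => hZ k fun c _ => hk c)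
    (fun e => by rw [e, orderOf_one] at ht; omega) hc e
  obtain ⟨g⟩ := PS4.iso_of_setup hφ hG
  exact ⟨g.trans f.symm⟩

end Cfsg.Agent.S3221
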