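import Cfsg.Statements.S3222
import Cfsg.Agent.S3035
import Cfsg.Agent.S0678
import Cfsg.Agent.S0144
import Cfsg.Agent.KSG.AutS6
import Cfsg.Agent.TT.XS
import Cfsg.Agent.Transfer.ThompsonTransfer

set_option autoImplicit false
open Cfsg

namespace Cfsg.Agent.S3222

open Subgroup Equiv
open scoped commutatorElement

set_option synthInstance.maxSize 2000

abbrev K0 := Multiplicative (ZMod 2) × Perm (Fin 4)

def c0 : K0 := (Multiplicative.ofAdd 1, 1)
def z4 : Perm (Fin 4) := swap 0 1 * swap 2 3
def z0 : K0 := (1, z4)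
def v0 : K0 := (1, swap 0 2 * swap 1 3)
def u0 : K0 := (1, swap 0 1)
def r0 : K0 := (1, swap 0 1 * swap 1 2)

theorem d_center : ∀ k : K0, k * u0 = u0 * k → k * r0 = r0 * k → k * v0 = v0 * k →
    k = 1 ∨ k = c0 := by decide +kernel
theorem d_comm : ∀ a b : K0, a * z0 = z0 * a → b * z0 = z0 * b → ⁅a, b⁆ = 1 ∨ ⁅a, b⁆ = z0 := by
  decide +kernel
theorem d_inv : ∀ k : K0, k * k = 1 → k = 1 ∨ k = c0 ∨ ∃ j : K0, j * k * j⁻¹ = z0 ∨
    j * k * j⁻¹ = c0 * z0 ∨ j * k * j⁻¹ = u0 ∨ j * k * j⁻¹ = c0 * u0 := by decide +kernel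
theorem d_type : ∀ b d : K0, (∃ j : K0, j * b * j⁻¹ = z0) → (∃ j : K0, j * d * j⁻¹ = c0 * z0) →
    d * b = c0 ∨ ∃ j : K0, j * (d * b) * j⁻¹ = c0 * z0 := by decide +kernel
theorem d_Q1 : ∀ k : K0, k * k = 1 → k * z0 = z0 * k → k.1 = 1 → k = 1 ∨ ∃ j : K0,
    j * k * j⁻¹ = z0 ∨ j * k * j⁻¹ = u0 := by decide +kernel

def sg : Perm (Fin 4) →* Multiplicative (ZMod 2) where
  toFun σ := if Perm.sign σ = 1 then 1 else Multiplicative.ofAdd 1
  map_one' := by simp
  map_mul' := by decide +kernel

theorem d_Q2 : ∀ k : K0, k * k = 1 → k * z0 = z0 * k → k.1 * sg k.2 = 1 → k = 1 ∨ ∃ j : K0,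
    j * k * j⁻¹ = z0 ∨ j * k * j⁻¹ = c0 * u0 := by decide +kernel
theorem d_normal : ∀ k : K0, k ≠ 1 → k = c0 ∨ ∃ i j : K0, (i * k * i⁻¹) * (j * k⁻¹ * j⁻¹) = z0 := by
  decide +kernel
theorem d_A : ∀ k : K0, k * z0 = z0 * k → (r0 * k * r0⁻¹) * z0 = z0 * (r0 * k * r0⁻¹) →
    k = 1 ∨ k = c0 ∨ (∃ j : K0, j * k * j⁻¹ = z0) ∨ ∃ j : K0, j * k * j⁻¹ = c0 * z0 := by
  decide +kernel
theorem d_A' : ∀ k : K0, k * k = 1 → (∀ j : K0, k * (j * k * j⁻¹) = (j * k * j⁻¹) * k) →
    k = 1 ∨ k = c0 ∨ (∃ j : K0, j * k * j⁻¹ = z0) ∨ ∃ j : K0, j * k * j⁻¹ = c0 * z0 := by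
  decide +kernel
theorem d_o1 : (r0 * z0 * r0⁻¹ * z0⁻¹) ^ 2 = 1 := by decide +kernel
theorem d_o2 : r0 * z0 * r0⁻¹ * z0⁻¹ ≠ 1 := by decide +kernel
theorem d_V : ∀ k : K0, (∃ j : K0, j * k * j⁻¹ = z0) → k = z0 ∨ k = v0 ∨ k = v0 * z0 := by
  decide +kernel
theorem d_card : Nat.card (centralizer ({z0} : Set K0)) = 16 := by
  rw [← Nat.card_congr (Equiv.subtypeEquivRight (p := fun k : K0 => k * z0 = z0 * k)
    fun k => mem_centralizer_singleton_iff.symm), Nat.card_eq_fintype_card]
  decide +kernel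
theorem d_cardK : Nat.card K0 = 48 := by
  rw [Nat.card_eq_fintype_card]; decide +kernel

theorem cent_z4 : Nonempty (centralizer ({z4} : Set (Perm (Fin 4))) ≃* DihedralGroup 4) := by
  classical
  let x : Perm (Fin 4) := swap 0 2 * swap 1 3 * swap 0 1
  let y : Perm (Fin 4) := swap 0 1
  have hx : orderOf x = 4 := by
    haveI : Fact (Nat.Prime 2) := ⟨Nat.prime_two⟩
    exact orderOf_eq_prime_pow (p := 2) (n := 1) (by decide +kernel) (by decide +kernel)
  have hy : y ∉ zpowers x := by
    rw [mem_zpowers_iff_mem_range_orderOf, hx]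
    simp only [Finset.mem_image, Finset.mem_range, not_exists, not_and]
    intro k hk
    interval_cases k <;> decide +kernel
  obtain ⟨e⟩ := Inv.nonempty_dihedral_of_gens hx (y := y) (by decide +kernel) (by decide +kernel) hy
  have h8 : Nat.card (centralizer ({z4} : Set (Perm (Fin 4)))) = 8 := by
    rw [← Nat.card_congr (Equiv.subtypeEquivRight (p := fun k => k * z4 = z4 * k)
      fun k => mem_centralizer_singleton_iff.symm), Nat.card_eq_fintype_card]
    decide +kernel
  have : closure {x, y} = centralizer ({z4} : Set (Perm (Fin 4))) := by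
    apply Subgroup.eq_of_le_of_card_ge
    · rw [closure_le]
      rintro σ (rfl | rfl) <;>
        (rw [SetLike.mem_coe, mem_centralizer_singleton_iff]; decide +kernel)
    · rw [h8, Nat.card_congr e.toEquiv, DihedralGroup.nat_card]
  rw [← this]; exact ⟨e⟩

/-- An index-two extension of `A₆` in which the outer coset contains an element centralizing an
element of order three and the centralizer of `A₆` is trivial is `S₆`. -/
theorem sym6 {G : Type*} [Group G] [Finite G] {H : Subgroup G} (hH : H.index = 2)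
    (e : H ≃* alternatingGroup (Fin 6)) {t : G} (ht : t ∉ H) {r : H} (hr : orderOf r = 3)
    (htr : t * r = r * t) (hC : ∀ w : G, (∀ x ∈ H, w * x = x * w) → w = 1) :
    Nonempty (G ≃* Perm (Fin 6)) := by
  haveI : H.Normal := normal_of_index_eq_two hH
  -- arrange that `r` is a 3-cycle
  obtain ⟨e, he⟩ : ∃ e : H ≃* alternatingGroup (Fin 6), Perm.IsThreeCycle (e r).1 := by
    have ho : orderOf (e r).1 = 3 := by rw [orderOf_coe, MulEquiv.orderOf_eq, hr]
    rcases KSG.cycleType_of_orderOf_three_of_card_six (Fintype.card_fin 6) ho with h | h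
    · exact ⟨e, h⟩
    · obtain ⟨θ, hθ⟩ := KSG.exists_outer_fin_six
      exact ⟨e.trans (MulAut.characteristic (alternatingGroup (Fin 6)) θ),
        KSG.isThreeCycle_map_of_outer (Fintype.card_fin 6) θ hθ h⟩
  let ψ : G →* MulAut (alternatingGroup (Fin 6)) :=
    (MulAut.congr e).toMonoidHom.comp (MulAut.conjNormal (H := H))
  have hψ : ∀ g (x : H), ψ g (e x) = e (MulAut.conjNormal g x) := fun g x => by
    simp [ψ, MulAut.congr]
  let χ : Perm (Fin 6) →* MulAut (alternatingGroup (Fin 6)) := MulAut.conjNormal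
  have hχ : Function.Injective χ := by
    rw [injective_iff_map_eq_one]
    intro g hg
    refine KSG.eq_one_of_commute_threeCycles (by simp) fun σ hσ => ?_
    have := congrArg Subtype.val (DFunLike.congr_fun hg ⟨σ, hσ.mem_alternatingGroup⟩)
    simp only [χ, MulAut.conjNormal_apply, MulAut.one_apply] at this
    calc g * σ = (g * σ * g⁻¹) * g := by group
      _ = σ * g := by rw [this]
  have hin : ∀ g ∈ H, ψ g ∈ χ.range := fun g hg => ⟨(e ⟨g, hg⟩).1, by
    ext1 x
    obtain ⟨x, rfl⟩ := e.surjective x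
    rw [hψ]
    have : MulAut.conjNormal g x = ⟨g, hg⟩ * x * ⟨g, hg⟩⁻¹ := Subtype.ext (by simp)
    rw [this, map_mul, map_mul, map_inv]
    exact Subtype.ext (by simp [χ])⟩
  have htin : ψ t ∈ χ.range := by
    have h3 : ∀ x : alternatingGroup (Fin 6), Perm.IsThreeCycle x.1 →
        Perm.IsThreeCycle ((ψ t).toMonoidHom x).1 := by
      intro x hx
      obtain ⟨g, hg⟩ := isConj_iff.1 (alternatingGroup.isThreeCycle_isConj (by simp) he hx)
      have hfix : ψ t (e r) = e r := by
        rw [hψ]; congr 1; exact Subtype.ext (by simp [htr])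
      have : (ψ t).toMonoidHom x = ψ t g * e r * (ψ t g)⁻¹ := by
        rw [← hg]; simp [hfix]
      rw [this]
      show Perm.cycleType ((ψ t g).1 * (e r).1 * (ψ t g).1⁻¹) = _
      rw [Perm.cycleType_conj]; exact he
    obtain ⟨g, hg⟩ := KSG.exists_conj_of_map_threeCycle (by simp) _ (ψ t).injective h3
    exact ⟨g, by ext1 x; exact Subtype.ext (hg x).symm⟩
  have hall : ∀ g, ψ g ∈ χ.range := fun g => by
    by_cases hg : g ∈ H
    · exact hin g hg
    · have : g * t ∈ H := by rw [mul_mem_iff_of_index_two hH]; simp [hg, ht]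
      have h := hin _ this
      rw [map_mul] at h
      exact (mul_mem_cancel_right htin).1 h
  have hψi : Function.Injective ψ := by
    rw [injective_iff_map_eq_one]
    intro w hw
    refine hC w fun x hx => ?_
    have := hψ w ⟨x, hx⟩
    rw [hw, MulAut.one_apply, e.injective.eq_iff] at this
    have := congrArg Subtype.val this
    simp only [MulAut.conjNormal_apply] at this
    calc w * x = (w * x * w⁻¹) * w := by group
      _ = x * w := by rw [← this]
  let Φ : G →* Perm (Fin 6) :=
    (MonoidHom.ofInjective hχ).symm.toMonoidHom.comp (ψ.codRestrict _ hall)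
  have hΦ : Function.Injective Φ :=
    (MonoidHom.ofInjective hχ).symm.injective.comp fun a b h => hψi (congrArg Subtype.val h)
  refine ⟨MulEquiv.ofBijective Φ ((Nat.bijective_iff_injective_and_card _).2 ⟨hΦ, ?_⟩)⟩
  rw [← H.card_mul_index, hH, Nat.card_congr e.toEquiv, mul_comm, two_mul_nat_card_alternatingGroup]


/-- Let G be a finite group of even order such that (1) some involution t lying in the centre of a Sylow 2-subgroup of G has C_G(t) ≅ Z₂ × S₄, and (2) every Sylow 2-subgroup S of G satisfies C_G(S′) = S, where S′ is the derived subgroup of S. Then G = C_G(t) if G is solvable, and G ≅ S₆ otherwise. -/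
theorem result {G : Type*} [Group G] [Finite G] (hev : Even (Nat.card G))
    (t : G) (ht : orderOf t = 2) (T : Sylow 2 G) (htT : t ∈ (T : Subgroup G)) (htc : ∀ s ∈ (T : Subgroup G), s * t = t * s)
    (e : ↥(Subgroup.centralizer ({t} : Set G)) ≃* (Multiplicative (ZMod 2) × Equiv.Perm (Fin 4)))
    (h2 : ∀ S : Sylow 2 G, Subgroup.centralizer ((⁅(S : Subgroup G), (S : Subgroup G)⁆ : Subgroup G) : Set G) = (S : Subgroup G)) :
    (Group.IsSolvable G → Subgroup.centralizer ({t} : Set G) = ⊤) ∧
      (¬ Group.IsSolvable G → Nonempty (G ≃* Equiv.Perm (Fin 6))) := by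
  classical
  set C := centralizer ({t} : Set G) with hC
  let ι : K0 →* G := C.subtype.comp e.symm.toMonoidHom
  have hι : Function.Injective ι := C.subtype_injective.comp e.symm.injective
  have hιC : ∀ k, ι k ∈ C := fun k => (e.symm k).2
  have hCι : ∀ x ∈ C, ∃ k, ι k = x := fun x hx => ⟨e ⟨x, hx⟩, by simp [ι]⟩
  have hCcard : Nat.card C = 48 := by rw [Nat.card_congr e.toEquiv, d_cardK]
  have htC : t ∈ C := mem_centralizer_singleton_iff.2 rfl
  have hct : ι c0 = t := by
    obtain ⟨k, hk⟩ := hCι t htC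
    have : ∀ j, k * j = j * k := fun j => hι (by
      rw [map_mul, map_mul, hk]; exact (mem_centralizer_singleton_iff.1 (hιC j)).symm)
    rcases d_center k (this _) (this _) (this _) with rfl | rfl
    · rw [map_one] at hk; rw [← hk, orderOf_one] at ht; omega
    · exact hk
  set z := ι z0 with hz
  set S := (centralizer ({z0} : Set K0)).map ι with hS
  have hmemS : ∀ k, ι k ∈ S ↔ k * z0 = z0 * k := fun k => by
    rw [hS, mem_map_iff_mem hι, mem_centralizer_singleton_iff]
  have hScard : Nat.card S = 16 := by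
    rw [← d_card]; exact Nat.card_congr (equivMapOfInjective _ _ hι).toEquiv.symm
  have hSC : S ≤ C := by rintro _ ⟨k, -, rfl⟩; exact hιC k
  obtain ⟨P, hP⟩ : ∃ P : Sylow 2 G, (P : Subgroup G) = S := by
    have hS2 : IsPGroup 2 S := IsPGroup.of_card (n := 4) hScard
    obtain ⟨P, hP⟩ := hS2.exists_le_sylow
    refine ⟨P, (Subgroup.eq_of_le_of_card_ge hP ?_).symm⟩
    have hT : (T : Subgroup G) ≤ C := fun s hs => mem_centralizer_singleton_iff.2 (htc s hs)
    have d := card_dvd_of_le hT
    obtain ⟨k, hk⟩ := T.isPGroup'.exists_card_eq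
    rw [Nat.card_congr (Sylow.equiv P T).toEquiv, hScard, hk]
    rw [hk, hCcard] at d
    by_contra hlt
    have : 5 ≤ k := by
      by_contra h
      exact hlt ((Nat.pow_le_pow_right (by norm_num) (by omega : k ≤ 4)))
    have := (Nat.pow_dvd_pow 2 this).trans d
    omega
  have hz2 : orderOf z = 2 := by
    rw [hz, orderOf_injective ι hι]
    haveI : Fact (Nat.Prime 2) := ⟨Nat.prime_two⟩
    exact orderOf_eq_prime (by decide +kernel) (by decide +kernel)
  have hzz : z * z = 1 := by rw [← pow_two, ← hz2, pow_orderOf_eq_one]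
  have hSS : ∀ x ∈ (⁅S, S⁆ : Subgroup G), x = 1 ∨ x = z := by
    intro x hx
    rw [← TT.mem_zpowers_invol hzz]
    refine (commutator_le.2 ?_ : ⁅S, S⁆ ≤ zpowers z) hx
    rintro _ ⟨a, ha, rfl⟩ _ ⟨b, hb, rfl⟩
    rw [← map_commutatorElement, TT.mem_zpowers_invol hzz]
    rcases d_comm a b (mem_centralizer_singleton_iff.1 ha) (mem_centralizer_singleton_iff.1 hb)
      with h | h <;> rw [h]
    · exact Or.inl (map_one _)
    · exact Or.inr rfl
  have hzSS : z ∈ (⁅S, S⁆ : Subgroup G) := by
    have : z = ⁅ι v0, ι u0⁆ := by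
      rw [← map_commutatorElement, hz]; congr 1; decide +kernel
    rw [this]
    exact commutator_mem_commutator ((hmemS _).2 (by decide +kernel))
      ((hmemS _).2 (by decide +kernel))
  have hCz : ∀ x, x * z = z * x ↔ x ∈ S := fun x => by
    constructor
    · intro hx
      have := h2 P
      rw [hP] at this
      rw [← this]
      intro y hy
      rcases hSS y hy with rfl | rfl
      · simp
      · exact hx.symm
    · rintro ⟨k, hk, rfl⟩
      rw [hz, ← map_mul, ← map_mul, mem_centralizer_singleton_iff.1 hk]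
  have fus : ∀ a b : K0, (∀ k, k * z0 = z0 * k → k * a = a * k) →
      (∀ k, k * z0 = z0 * k → k * b = b * k) → IsConj (ι a) (ι b) → a = b := by
    intro a b ha hb hab
    have hc : ∀ a : K0, (∀ k, k * z0 = z0 * k → k * a = a * k) →
        ι a ∈ centralizer ((P : Subgroup G) : Set G) := by
      intro a ha
      rw [hP]
      rintro _ ⟨k, hk, rfl⟩
      rw [← map_mul, ← map_mul, ha k (mem_centralizer_singleton_iff.1 hk)]
    obtain ⟨g, hg⟩ := isConj_iff.1 hab
    have e1 : g⁻¹⁻¹ * ι a * g⁻¹ = ι b := by rw [inv_inv, hg]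
    obtain ⟨n, hn, hn'⟩ := P.conj_eq_normalizer_conj_of_mem_centralizer (ι a) g⁻¹ (hc a ha)
      (by rw [e1]; exact hc b hb)
    rw [e1] at hn'
    have hnS : n ∈ normalizer (S : Set G) := by rw [← hP]; exact hn
    have h1 : n * z * n⁻¹ ∈ (⁅S, S⁆ : Subgroup G) := by
      have : (⁅S, S⁆ : Subgroup G).map (MulAut.conj n).toMonoidHom = ⁅S, S⁆ := by
        have : S.map (MulAut.conj n).toMonoidHom = S := by
          ext x
          rw [mem_map_equiv, mem_normalizer_iff.1 hnS]
          simp [mul_assoc]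
        rw [map_commutator, this]
      rw [← this]; exact ⟨z, hzSS, rfl⟩
    have h3 : n ∈ S := by
      rw [← hCz]
      rcases hSS _ h1 with h | h
      · have : z = 1 := by simpa using h
        rw [this, orderOf_one] at hz2; omega
      · calc n * z = (n * z * n⁻¹) * n := by group
          _ = z * n := by rw [h]
    have h4 := hc a ha n (by rw [hP]; exact h3)
    apply hι
    rw [hn', mul_assoc, ← h4]; group
  have n_tz : ¬ IsConj (ι c0) (ι z0) := fun h =>
    absurd (fus _ _ (by decide +kernel) (by decide +kernel) h) (by decide +kernel)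
  have n_ttz : ¬ IsConj (ι c0) (ι (c0 * z0)) := fun h =>
    absurd (fus _ _ (by decide +kernel) (by decide +kernel) h) (by decide +kernel)
  have n_ztz : ¬ IsConj (ι z0) (ι (c0 * z0)) := fun h =>
    absurd (fus _ _ (by decide +kernel) (by decide +kernel) h) (by decide +kernel)
  have cj : ∀ {j k l : K0}, j * k * j⁻¹ = l → IsConj (ι k) (ι l) := fun {j k l} h =>
    isConj_iff.2 ⟨ι j, by rw [← h]; simp⟩
  have sq : ∀ {k l : K0}, IsConj (ι l) (ι k) → l * l = 1 → k * k = 1 := fun {k l} h hl => by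
    obtain ⟨g, hg⟩ := isConj_iff.1 h
    apply hι
    rw [map_mul, ← hg, map_one]
    calc g * ι l * g⁻¹ * (g * ι l * g⁻¹) = g * ι (l * l) * g⁻¹ := by rw [map_mul]; group
      _ = 1 := by rw [hl]; simp
  have ne1 : ∀ {l : K0}, IsConj (ι l) (ι 1) → l = 1 := fun {l} h => by
    rw [map_one, isConj_one_left] at h; exact hι (by rw [h, map_one])
  -- `t` is not conjugate to both `u` and `t u`
  have step4 : ¬ IsConj (ι c0) (ι u0) ∨ ¬ IsConj (ι c0) (ι (c0 * u0)) := by
    by_contra hcon
    push Not at hcon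
    obtain ⟨hu, htu⟩ := hcon
    obtain ⟨g, hg⟩ := isConj_iff.1 hu.symm
    have hin : ∀ k : K0, k * u0 = u0 * k → ∃ l, ι l = g * ι k * g⁻¹ := fun k hk => hCι _ (by
      rw [hC, mem_centralizer_singleton_iff, ← hct, ← hg]
      calc g * ι k * g⁻¹ * (g * ι u0 * g⁻¹) = g * ι (k * u0) * g⁻¹ := by rw [map_mul]; group
        _ = _ := by rw [hk, map_mul]; group)
    obtain ⟨b, hb⟩ := hin z0 (by decide +kernel)
    obtain ⟨d, hd⟩ := hin (c0 * z0) (by decide +kernel)
    have hb' : IsConj (ι z0) (ι b) := isConj_iff.2 ⟨g, hb.symm⟩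
    have hd' : IsConj (ι (c0 * z0)) (ι d) := isConj_iff.2 ⟨g, hd.symm⟩
    have b1 : ∃ j : K0, j * b * j⁻¹ = z0 := by
      rcases d_inv b (sq hb' (by decide +kernel)) with rfl | rfl | ⟨j, h | h | h | h⟩
      · exact absurd (ne1 hb') (by decide +kernel)
      · exact absurd hb'.symm n_tz
      · exact ⟨j, h⟩
      · exact absurd (hb'.trans (cj h)) n_ztz
      · exact absurd (hu.trans (hb'.trans (cj h)).symm) n_tz
      · exact absurd (htu.trans (hb'.trans (cj h)).symm) n_tz
    have d1 : ∃ j : K0, j * d * j⁻¹ = c0 * z0 := by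
      rcases d_inv d (sq hd' (by decide +kernel)) with rfl | rfl | ⟨j, h | h | h | h⟩
      · exact absurd (ne1 hd') (by decide +kernel)
      · exact absurd hd'.symm n_ttz
      · exact absurd (hd'.trans (cj h)).symm n_ztz
      · exact ⟨j, h⟩
      · exact absurd (hu.trans (hd'.trans (cj h)).symm) n_ttz
      · exact absurd (htu.trans (hd'.trans (cj h)).symm) n_ttz
    have e1 : ι (d * b) = g * ι c0 * g⁻¹ := by
      rw [map_mul, hb, hd, show c0 = c0 * z0 * z0 by decide +kernel, map_mul ι (c0 * z0) z0,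
        show c0 * z0 * z0 * z0 = c0 * z0 by decide +kernel]
      group
    rcases d_type b d b1 d1 with h | ⟨j, h⟩
    · rw [h] at e1
      rw [e1] at hg
      exact absurd (hι (mul_left_cancel (mul_right_cancel hg))) (by decide +kernel)
    · exact n_ttz ((isConj_iff.2 ⟨g, e1.symm⟩).trans (cj h))
  -- Thompson transfer
  obtain ⟨H, hHn, hH2, htH⟩ : ∃ H : Subgroup G, H.Normal ∧ H.index = 2 ∧ t ∉ H := by
    have main : ∀ (f : K0 →* Multiplicative (ZMod 2)) (y : K0), f c0 ≠ 1 →
        ¬ IsConj (ι c0) (ι y) → (∀ k : K0, k * k = 1 → k * z0 = z0 * k → f k = 1 → k = 1 ∨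
          ∃ j : K0, j * k * j⁻¹ = z0 ∨ j * k * j⁻¹ = y) →
        ∃ H : Subgroup G, H.Normal ∧ H.index = 2 ∧ t ∉ H := by
      intro f y hf hy hk
      have hrel : ((centralizer ({z0} : Set K0) ⊓ f.ker).map ι).relIndex (P : Subgroup G) = 2 := by
        rw [hP, hS, relIndex_map_map_of_injective _ _ hι, inf_relIndex_left, Subgroup.relIndex,
          index_eq_two_iff]
        refine ⟨⟨c0, mem_centralizer_singleton_iff.2 (by decide +kernel)⟩, fun b => ?_⟩
        simp only [mem_subgroupOf, MonoidHom.mem_ker, coe_mul, map_mul]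
        revert hf
        generalize f c0 = p; generalize f b = q
        revert p q; decide
      rcases Transfer.thompson_transfer (Transfer.odd_index_sylow P) hrel ht with h | ⟨g, k, hk', hg⟩
      · exact h
      · exfalso
        have h1 : IsConj (ι c0) (ι k) := isConj_iff.2 ⟨g, by rw [hct, hg]⟩
        rcases hk k (sq h1 (by decide +kernel)) (mem_centralizer_singleton_iff.1 hk'.1) hk'.2 with
          rfl | ⟨j, h | h⟩
        · exact absurd (ne1 h1) (by decide +kernel)
        · exact n_tz (h1.trans (cj h))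
        · exact hy (h1.trans (cj h))
    rcases step4 with h | h
    · exact main (MonoidHom.fst _ _) u0 (by decide +kernel) h d_Q1
    · exact main (MonoidHom.fst _ _ * sg.comp (MonoidHom.snd _ _)) (c0 * u0) (by decide +kernel)
        h d_Q2
  have hzH : z ∈ H := by
    rw [hz, show z0 = (v0 * u0) * (v0 * u0) by decide +kernel, map_mul ι (v0 * u0)]
    exact mul_self_mem_of_index_two hH2 _
  have hrH : ι r0 ∈ H := by
    rw [show r0 = (r0 * r0) * (r0 * r0) by decide +kernel, map_mul ι (r0 * r0)]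
    exact mul_self_mem_of_index_two hH2 _
  have hGH : Nat.card G = Nat.card H * 2 := by rw [← H.card_mul_index, hH2]
  -- the centralizer of `z` in `H` is dihedral of order 8
  have hD : Nonempty (centralizer ({⟨z, hzH⟩} : Set H) ≃* DihedralGroup 4) := by
    obtain ⟨e4⟩ := cent_z4
    have hx : ∀ x : centralizer ({⟨z, hzH⟩} : Set H), ((x : H) : G) ∈ S := fun x =>
      (hCz _).1 (congrArg Subtype.val (mem_centralizer_singleton_iff.1 x.2))
    let f0 : centralizer ({⟨z, hzH⟩} : Set H) →* K0 := e.toMonoidHom.comp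
      ((H.subtype.comp (centralizer ({⟨z, hzH⟩} : Set H)).subtype).codRestrict C
        fun x => hSC (hx x))
    have hf0 : ∀ x, ι (f0 x) = ((x : H) : G) := fun x => by simp [ι, f0]
    let f : centralizer ({⟨z, hzH⟩} : Set H) →* centralizer ({z4} : Set (Perm (Fin 4))) :=
      ((MonoidHom.snd _ _).comp f0).codRestrict _ fun x => by
        rw [mem_centralizer_singleton_iff]
        exact congrArg Prod.snd ((hmemS _).1 (hf0 x ▸ hx x))
    refine ⟨(MulEquiv.ofBijective f ⟨?_, ?_⟩).trans e4⟩
    · rw [injective_iff_map_eq_one]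
      intro x hx1
      have h1 : (f0 x).2 = 1 := congrArg Subtype.val hx1
      have h3 : ∀ k : K0, k.2 = 1 → k = 1 ∨ k = c0 := by decide +kernel
      have h4 := hf0 x
      rcases h3 _ h1 with h | h <;> rw [h] at h4
      · exact Subtype.ext (Subtype.ext (by rw [← h4, map_one]; rfl))
      · exact absurd (hct ▸ h4 ▸ (x : H).2) htH
    · rintro ⟨σ, hσ⟩
      rw [mem_centralizer_singleton_iff] at hσ
      have main : ∀ a : Multiplicative (ZMod 2), ι (a, σ) ∈ H →
          ∃ x, f x = ⟨σ, mem_centralizer_singleton_iff.2 hσ⟩ := fun a ha => by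
        have h1 : (a, σ) * z0 = z0 * (a, σ) := Prod.ext (by simp [z0]) hσ
        refine ⟨⟨⟨_, ha⟩, mem_centralizer_singleton_iff.2
          (Subtype.ext ((hCz _).2 ((hmemS _).2 h1)))⟩, Subtype.ext ?_⟩
        have := hf0 ⟨⟨_, ha⟩, mem_centralizer_singleton_iff.2
          (Subtype.ext ((hCz _).2 ((hmemS _).2 h1)))⟩
        exact congrArg Prod.snd (hι this)
      by_cases h : ι (1, σ) ∈ H
      · exact main _ h
      · refine main (Multiplicative.ofAdd 1) ?_
        rw [show ((Multiplicative.ofAdd 1, σ) : K0) = c0 * (1, σ) from Prod.ext (by simp [c0])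
          (by simp [c0]), map_mul, hct, mul_mem_iff_of_index_two hH2]
        simp [h, htH]
  -- a nontrivial normal subgroup inside `C` forces `C = G`
  have hcore : C ≠ ⊤ → C.normalCore = ⊥ := by
    intro hne
    by_contra hK
    apply hne
    set K := C.normalCore with hKdef
    have hKC : K ≤ C := normalCore_le C
    have fin : (∀ g : G, ∃ k, ι k = g * t * g⁻¹ ∧ (k = 1 ∨ k = c0 ∨ (∃ j : K0, j * k * j⁻¹ = z0) ∨
        ∃ j : K0, j * k * j⁻¹ = c0 * z0)) → C = ⊤ := by
      intro h
      rw [eq_top_iff]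
      intro g _
      obtain ⟨k, hk, h⟩ := h g
      have h1 : IsConj (ι c0) (ι k) := isConj_iff.2 ⟨g, by rw [hct, hk]⟩
      rcases h with rfl | rfl | ⟨j, h⟩ | ⟨j, h⟩
      · exact absurd (ne1 h1) (by decide +kernel)
      · rw [hC, mem_centralizer_singleton_iff]
        rw [hct] at hk
        calc g * t = (g * t * g⁻¹) * g := by group
          _ = t * g := by rw [← hk]
      · exact absurd (h1.trans (cj h)) n_tz
      · exact absurd (h1.trans (cj h)) n_ttz
    obtain ⟨⟨x, hxK⟩, hx1⟩ := ne_bot_iff_exists_ne_one.1 hK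
    obtain ⟨k, rfl⟩ := hCι x (hKC hxK)
    have hk1 : k ≠ 1 := fun h => hx1 (Subtype.ext (by simp [h]))
    rcases d_normal k hk1 with rfl | ⟨i, j, hij⟩
    · rw [hct] at hxK
      have hall : ∀ g : G, g * t * g⁻¹ ∈ C := fun g =>
        hKC ((normalCore_normal C).conj_mem _ hxK g)
      refine fin fun g => ?_
      obtain ⟨k, hk⟩ := hCι _ (hall g)
      refine ⟨k, hk, d_A' k (sq (isConj_iff.2 ⟨g, by rw [hct, hk]⟩ : IsConj (ι c0) (ι k))
        (by decide +kernel)) fun j => hι ?_⟩
      have := mem_centralizer_singleton_iff.1 (hall (g⁻¹ * ι j * g))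
      simp only [map_mul, map_inv, hk]
      calc g * t * g⁻¹ * (ι j * (g * t * g⁻¹) * (ι j)⁻¹)
          = g * (t * (g⁻¹ * ι j * g * t * (g⁻¹ * ι j * g)⁻¹)) * g⁻¹ := by group
        _ = _ := by rw [← this]; group
    · have hzK : z ∈ K := by
        rw [hz, ← hij]
        simp only [map_mul, map_inv]
        exact K.mul_mem ((normalCore_normal C).conj_mem _ hxK _)
          ((normalCore_normal C).conj_mem _ (K.inv_mem hxK) _)
      have hall : ∀ g h : G, (g * t * g⁻¹) * (h * z * h⁻¹) = (h * z * h⁻¹) * (g * t * g⁻¹) := by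
        intro g h
        have := mem_centralizer_singleton_iff.1
          (hKC ((normalCore_normal C).conj_mem _ hzK (g⁻¹ * h)))
        calc (g * t * g⁻¹) * (h * z * h⁻¹) = g * (t * (g⁻¹ * h * z * (g⁻¹ * h)⁻¹)) * g⁻¹ := by group
          _ = _ := by rw [← this]; group
      refine fin fun g => ?_
      obtain ⟨k, hk, hk'⟩ := (hCz (g * t * g⁻¹)).1 (by simpa using hall g 1)
      refine ⟨k, hk', d_A k (mem_centralizer_singleton_iff.1 hk) (hι ?_)⟩
      have := hall g (ι r0)⁻¹
      simp only [map_mul, map_inv, hk', ← hz]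
      calc ι r0 * (g * t * g⁻¹) * (ι r0)⁻¹ * z
          = ι r0 * ((g * t * g⁻¹) * ((ι r0)⁻¹ * z * (ι r0)⁻¹⁻¹)) * (ι r0)⁻¹ := by group
        _ = _ := by rw [this]; group
  have hCi := C.card_mul_index
  rw [hCcard, hGH] at hCi
  have hzH2 : orderOf (⟨z, hzH⟩ : H) = 2 := by rw [← orderOf_coe]; exact hz2
  have hncomm : ¬ ∀ a b : H, a * b = b * a := fun h => by
    have := congrArg Subtype.val (h ⟨_, hrH⟩ ⟨z, hzH⟩)
    exact absurd ((hmemS _).1 ((hCz _).1 this)) (by decide +kernel)
  have nsol : IsSimpleGroup H → ¬ Group.IsSolvable G := fun hs hG =>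
    hncomm (IsSimpleGroup.comm_iff_isSolvable.2 inferInstance)
  rcases S3035.result _ hzH2 hD with h | ⟨⟨f⟩⟩ | ⟨⟨f⟩⟩ | ⟨⟨f⟩⟩ | ⟨⟨f⟩⟩
  · exfalso
    have hm : (⟨ι r0, hrH⟩ : H) ∈ centralizer ({⟨z, hzH⟩} : Set H) ⊔ oddCore H := h ▸ mem_top _
    obtain ⟨s, hs, o, ho, hso⟩ := mem_sup_of_normal_right.1 hm
    have hs' := mem_centralizer_singleton_iff.1 hs
    set z' : H := ⟨z, hzH⟩
    have hN : (oddCore H).Normal := inferInstance
    have h1 : (s * o) * z' * (s * o)⁻¹ * z'⁻¹ ∈ oddCore H := by
      have : (s * o) * z' * (s * o)⁻¹ * z'⁻¹ = s * (o * (z' * o⁻¹ * z'⁻¹)) * s⁻¹ := by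
        calc (s * o) * z' * (s * o)⁻¹ * z'⁻¹ = s * o * z' * o⁻¹ * (z' * s)⁻¹ := by group
          _ = _ := by rw [← hs']; group
      rw [this]
      exact hN.conj_mem _ (mul_mem ho (hN.conj_mem _ (inv_mem ho) _)) _
    have h3 := Grp.orderOf_coprime_of_mem_pPrimeCore h1
    rw [hso, ← orderOf_coe] at h3
    have h4 : (((⟨ι r0, hrH⟩ : H) * z' * (⟨ι r0, hrH⟩ : H)⁻¹ * z'⁻¹ : H) : G) =
        ι (r0 * z0 * r0⁻¹ * z0⁻¹) := by simp [z', hz]
    haveI : Fact (Nat.Prime 2) := ⟨Nat.prime_two⟩
    rw [h4, orderOf_injective ι hι, orderOf_eq_prime (p := 2) d_o1 d_o2] at h3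
    exact absurd h3 (by decide)
  · rw [Nat.card_congr f.toEquiv, Nat.card_perm, Nat.card_fin] at hCi
    have hCt : C = ⊤ := by
      rw [← index_eq_one]; simp only [Nat.factorial] at hCi; omega
    refine ⟨fun _ => hCt, fun h => absurd ?_ h⟩
    exact S0144.result (p := 2) (q := 3) (a := 4) (b := 1) Nat.prime_two Nat.prime_three
      (by rw [← card_top, ← hCt, hCcard]; rfl)
  · exfalso
    rw [Nat.card_congr f.toEquiv, Nat.card_perm, Nat.card_fin] at hCi hGH
    simp only [Nat.factorial] at hCi hGH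
    have h5 : C.index = 5 := by omega
    have := Class.SmallIso.card_dvd_factorial_of_core
      (hcore fun h => by rw [h, index_top] at h5; omega)
    rw [h5, hGH] at this
    exact absurd this (by decide)
  · exfalso
    rw [Nat.card_congr f.toEquiv, S0255.card_SL32] at hCi hGH
    have h7 : C.index = 7 := by omega
    have hinj := Class.SmallIso.toPermHom_injective_of_core
      (hcore fun h => by rw [h, index_top] at h7; omega)
    obtain ⟨e2⟩ := S0255.model
    haveI : Fact (Nat.Prime 7) := ⟨by norm_num⟩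
    haveI : IsSimpleGroup (Matrix.ProjectiveSpecialLinearGroup (Fin 2) (ZMod 7)) :=
      Matrix.ProjectiveSpecialLinearGroup.rank_two_simple (by rw [Nat.card_zmod]; norm_num)
    have hns := nsol (f.trans e2.symm).isSimpleGroup
    letI : Fintype (G ⧸ C) := Fintype.ofFinite _
    have hc7 : Fintype.card (G ⧸ C) = 7 := by rw [← Nat.card_eq_fintype_card]; exact h7
    have eR := MonoidHom.ofInjective hinj
    have hR : Nat.card (MulAction.toPermHom G (G ⧸ C)).range = 336 := by
      rw [← Nat.card_congr eR.toEquiv, hGH]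
    haveI : MulAction.IsPretransitive (MulAction.toPermHom G (G ⧸ C)).range (G ⧸ C) :=
      ⟨fun a b => by
        obtain ⟨g, hg⟩ := MulAction.exists_smul_eq G a b
        exact ⟨⟨_, g, rfl⟩, hg⟩⟩
    have := (S0678.result hc7 (MulAction.toPermHom G (G ⧸ C)).range
      (fun h => hns (Group.isSolvable_of_surjective (f := eR.symm.toMonoidHom) eR.symm.surjective))
      (fun h => by
        have h1 := card_le_of_le h
        haveI : Nontrivial (G ⧸ C) := Fintype.one_lt_card_iff_nontrivial.1 (by omega)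
        have h3 := two_mul_nat_card_alternatingGroup (α := G ⧸ C)
        rw [Nat.card_perm, Nat.card_eq_fintype_card (α := G ⧸ C), hc7] at h3
        simp only [Nat.factorial] at h3
        omega)).1
    omega
  · have h360 : Nat.card H = 360 := by
      have h3 := two_mul_nat_card_alternatingGroup (α := Fin 6)
      rw [Nat.card_perm, Nat.card_fin] at h3
      rw [Nat.card_congr f.toEquiv]
      simp only [Nat.factorial] at h3
      omega
    haveI : IsSimpleGroup (alternatingGroup (Fin 6)) := alternatingGroup.isSimpleGroup (by simp)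
    have hsim : IsSimpleGroup H := f.isSimpleGroup
    refine ⟨fun h => absurd h (nsol hsim), fun _ => ?_⟩
    have hbot := hcore fun h => by rw [h, index_top, h360] at hCi; omega
    refine sym6 hH2 f htH (r := ⟨ι r0, hrH⟩) ?_ (mem_centralizer_singleton_iff.1 (hιC r0)).symm ?_
    · rw [← orderOf_coe]
      show orderOf (ι r0) = 3
      haveI : Fact (Nat.Prime 3) := ⟨Nat.prime_three⟩
      rw [orderOf_injective ι hι]
      exact orderOf_eq_prime (by decide +kernel) (by decide +kernel)
    · intro w hw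
      have : centralizer (H : Set G) ≤ C := by
        intro y hy
        rw [hC, mem_centralizer_singleton_iff]
        by_cases hyH : y ∈ H
        · have h1 : (⟨y, hyH⟩ : H) ∈ center H :=
            mem_center_iff.2 fun x => Subtype.ext (hy x x.2)
          rcases (inferInstance : (center H).Normal).eq_bot_or_eq_top with h | h
          · rw [h, mem_bot] at h1
            rw [show y = 1 from congrArg Subtype.val h1]; simp
          · exact absurd (fun a b => mem_center_iff.1 (h ▸ mem_top b) a) hncomm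
        · have h1 : y * t ∈ H := by rw [mul_mem_iff_of_index_two hH2]; simp [hyH, htH]
          have := hy _ h1
          rw [mul_assoc] at this
          exact (mul_left_cancel this).symm
      have h1 : w ∈ C.normalCore :=
        (normal_le_normalCore.2 this) fun x hx => (hw x hx).symm
      rwa [hbot, mem_bot] at h1

end Cfsg.Agent.S3222
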