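import Cfsg.Statements.S3230
import Mathlib
import Cfsg.Agent.U6R.Top

set_option autoImplicit false
open Cfsg

namespace Cfsg.Agent.S3230

/-- Let G be a finite group with an involution z, H = C_G(z), such that J = O₂(H) is extraspecial of order 2⁹ with C_H(J) ≤ J and H/J ≅ PSp₄(3). Then G ≅ U₆(2) or G = H·O(G). -/
theorem result {G : Type*} [Group G] [Finite G] (z : G) (hz : orderOf z = 2)
    {F : Type*} [Field F] [Fintype F] (hF : Fintype.card F = 3) {K : Type*} [Field K] [Fintype K] (hK : Fintype.card K = 4)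
    (hJ : Cfsg.IsExtraspecial 2 ↥(Cfsg.pCore 2 ↥(Subgroup.centralizer ({z} : Set G)))) (hJc : Nat.card ↥(Cfsg.pCore 2 ↥(Subgroup.centralizer ({z} : Set G))) = 2 ^ 9)
    (hCJ : Subgroup.centralizer ((Cfsg.pCore 2 ↥(Subgroup.centralizer ({z} : Set G))) : Set ↥(Subgroup.centralizer ({z} : Set G))) ≤ Cfsg.pCore 2 ↥(Subgroup.centralizer ({z} : Set G))) [hJn : (Cfsg.pCore 2 ↥(Subgroup.centralizer ({z} : Set G))).Normal]
    (e : (↥(Subgroup.centralizer ({z} : Set G)) ⧸ Cfsg.pCore 2 ↥(Subgroup.centralizer ({z} : Set G))) ≃* Cfsg.PSp 2 F) :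
    Nonempty (G ≃* Cfsg.PSU 6 K 2) ∨ Subgroup.centralizer ({z} : Set G) ⊔ Cfsg.oddCore G = ⊤ := by
  obtain ⟨ι⟩ := U6R.nonempty_K4_equiv hF
  have hr : ∀ a, a ∈ ι.toMonoidHom.range := ι.surjective
  refine (U6R.exists_U4S_of_quot hz hJ hJc hCJ e ι.toMonoidHom ι.injective (fun _ _ _ _ => hr _)
    fun a ha => ?_).symm.imp_left fun ⟨π, ρ, h, hn, h1⟩ => ?_
  · obtain ⟨a, rfl⟩ := ι.surjective a
    rw [show a = 1 from Subtype.ext (U6R.eq_one_of_commute_tv a.2 fun c hc => congrArg Subtype.val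
      (ι.injective (by simpa using (ha ⟨_, Subgroup.subset_closure ⟨c, hc, rfl⟩⟩).eq) :
        a * ⟨_, Subgroup.subset_closure ⟨c, hc, rfl⟩⟩ = ⟨_, Subgroup.subset_closure ⟨c, hc, rfl⟩⟩ * a)), map_one]
  · exact (h.nonempty_equiv hn fun g hg => h1 ⟨g, Subgroup.mem_centralizer_singleton_iff.2 hg⟩
      (hr _)).map fun e' =>
        e'.trans (Class.psuCongr 6 2 (FiniteField.ringEquivOfCardEq (Class.card_GF4.trans hK.symm)))

end Cfsg.Agent.S3230
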