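import Cfsg.Statements.S3231
import Mathlib
import Cfsg.Agent.U6R.Top
import Cfsg.Agent.S0814
import Cfsg.Agent.TT.R22Sub

set_option autoImplicit false
open Cfsg

namespace Cfsg.Agent.S3231

/-- Let G be a finite group with an involution z, H = C_G(z), such that J = O₂(H) is extraspecial of order 2⁹ with C_H(J) ≤ J and H/J ≅ Aut(PSp₄(3)). Then either G has a subgroup G₀ of index 2 with G₀ ≅ U₆(2) and C_G(G₀) = 1 (so that G embeds in Aut(G₀)), or G = H·O(G). -/
theorem result {G : Type*} [Group G] [Finite G] (z : G) (hz : orderOf z = 2)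
    {F : Type*} [Field F] [Fintype F] (hF : Fintype.card F = 3) {K : Type*} [Field K] [Fintype K] (hK : Fintype.card K = 4)
    (hJ : Cfsg.IsExtraspecial 2 ↥(Cfsg.pCore 2 ↥(Subgroup.centralizer ({z} : Set G)))) (hJc : Nat.card ↥(Cfsg.pCore 2 ↥(Subgroup.centralizer ({z} : Set G))) = 2 ^ 9)
    (hCJ : Subgroup.centralizer ((Cfsg.pCore 2 ↥(Subgroup.centralizer ({z} : Set G))) : Set ↥(Subgroup.centralizer ({z} : Set G))) ≤ Cfsg.pCore 2 ↥(Subgroup.centralizer ({z} : Set G))) [hJn : (Cfsg.pCore 2 ↥(Subgroup.centralizer ({z} : Set G))).Normal]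
    (e : (↥(Subgroup.centralizer ({z} : Set G)) ⧸ Cfsg.pCore 2 ↥(Subgroup.centralizer ({z} : Set G))) ≃* MulAut (Cfsg.PSp 2 F)) :
    (∃ G₀ : Subgroup G, G₀.index = 2 ∧ Nonempty (↥G₀ ≃* Cfsg.PSU 6 K 2) ∧ Subgroup.centralizer (G₀ : Set G) = ⊥) ∨
      Subgroup.centralizer ({z} : Set G) ⊔ Cfsg.oddCore G = ⊤ := by
  obtain ⟨ι⟩ := U6R.nonempty_K4_equiv hF
  have h0 : Function.Injective (MulAut.conj.comp ι.toMonoidHom) :=
    (injective_iff_map_eq_one _).2 fun a ha =>
      Subtype.ext (U6R.eq_one_of_commute_tv a.2 fun c hc => congrArg Subtype.val (ι.injective (by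
        simpa [mul_inv_eq_iff_eq_mul] using
          DFunLike.congr_fun ha (ι ⟨_, Subgroup.subset_closure ⟨c, hc, rfl⟩⟩)) :
        a * ⟨_, Subgroup.subset_closure ⟨c, hc, rfl⟩⟩ = ⟨_, Subgroup.subset_closure ⟨c, hc, rfl⟩⟩ * a))
  have : Fact (Nat.Prime 3) := ⟨Nat.prime_three⟩
  have c1 := S0814.result (F := F) 3 1 le_rfl hF 2 le_rfl fun _ => le_rfl
  rw [← Nat.card_congr ι.toEquiv, U6R.card_closure_T4] at c1
  replace c1 : Nat.card (MulAut (Cfsg.PSp 2 F)) = 51840 := c1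
  have c2 : (MulAut.conj.comp ι.toMonoidHom).range.index = 2 := by
    have := (MulAut.conj.comp ι.toMonoidHom).range.card_mul_index
    rw [← Nat.card_congr (MonoidHom.ofInjective h0).toEquiv, U6R.card_closure_T4, c1] at this
    omega
  have two : ∀ a b, a ∉ (MulAut.conj.comp ι.toMonoidHom).range →
      b ∉ (MulAut.conj.comp ι.toMonoidHom).range → a * b ∈ (MulAut.conj.comp ι.toMonoidHom).range :=
    fun a b ha hb => (Subgroup.mul_mem_iff_of_index_two c2).2 (iff_of_false ha hb)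
  refine (U6R.exists_U4S_of_quot hz hJ hJc hCJ e _ h0 two
    fun a ha => MulEquiv.ext fun x => ?_).symm.imp_left fun ⟨π, ρ, h, hn, h1⟩ => ?_
  · obtain ⟨x, rfl⟩ := ι.surjective x
    obtain ⟨y, hy⟩ := ι.surjective (a (ι x))
    rw [← hy, h0 (a₁ := y) (a₂ := x) (MulEquiv.ext fun v => ?_)]; rfl
    obtain ⟨v, rfl⟩ := a.surjective v
    simpa [hy] using DFunLike.congr_fun (ha x).eq v
  obtain ⟨e'⟩ := h.nonempty_equiv_closure hn
  refine ⟨_, ?_, ⟨e'.trans (Class.psuCongr 6 2 (FiniteField.ringEquivOfCardEq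
    (Class.card_GF4.trans hK.symm)))⟩, eq_bot_iff.2 fun g hg =>
      h.eq_one_of_commute hn fun d hd => (hg d (Subgroup.subset_closure hd)).symm⟩
  have h2 : ∀ g : Subgroup.centralizer ({z} : Set G), e g ∈ (MulAut.conj.comp ι.toMonoidHom).range →
      (g : G) ∈ Subgroup.closure (conjugatesOf z) := fun g hg =>
    h.mem_closure hn (Subgroup.mem_centralizer_singleton_iff.1 g.2) (h1 g hg)
  by_cases h3 : ∀ g : Subgroup.centralizer ({z} : Set G), (g : G) ∈ Subgroup.closure (conjugatesOf z)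
  · have h4 := Subgroup.card_dvd_of_le (H := Subgroup.centralizer {z}) fun g hg => h3 ⟨g, hg⟩
    rw [Nat.card_congr e'.toEquiv, TT.card_psu6, Subgroup.card_eq_card_quotient_mul_card_subgroup
      (Cfsg.pCore 2 _), hJc, Nat.card_congr e.toEquiv, c1] at h4
    exact absurd h4 (by decide)
  push Not at h3
  obtain ⟨a, ha⟩ := h3
  refine Subgroup.index_eq_two_iff_exists_notMem_and.2 ⟨a, ha, fun b => ?_⟩
  obtain ⟨k, hk, h4⟩ := h.exists_mul hn b
  let c : Subgroup.centralizer ({z} : Set G) := ⟨_, Subgroup.mem_centralizer_singleton_iff.2 h4⟩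
  by_cases hc : e c ∈ (MulAut.conj.comp ι.toMonoidHom).range
  · exact Or.inr (by simpa [c] using mul_mem hk (h2 c hc))
  · exact Or.inl (by simpa [c, mul_assoc] using mul_mem hk (h2 (c * a) (by
      rw [QuotientGroup.mk_mul, map_mul]; exact two _ _ hc (mt (h2 a) ha))))

end Cfsg.Agent.S3231
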