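import Cfsg.Statements.S3232
import Mathlib
import Cfsg.Agent.ZJ.Top

set_option autoImplicit false
open Cfsg

namespace Cfsg.Agent.S3232

/-- Let G be a finite group with an involution z, H = C_G(z), such that J = O₂(H) is an (internal) direct product of a group of order 2 and an extraspecial group of order 2⁹, with derived subgroup J′ = ⟨z⟩, C_H(J) ≤ J and H/J ≅ Aut(PSp₄(3)). Then G = H·O(G); or some involution z₁ ∈ Z(J) outside ⟨z⟩ generates a normal subgroup of G and G has a subgroup G₀ of index 2 containing z₁ with G₀/⟨z₁⟩ ≅ U₆(2); or G is isomorphic to the Fischer group Fi₂₂. -/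
theorem result {G : Type*} [Group G] [Finite G] (z : G) (hz : orderOf z = 2)
    {F : Type*} [Field F] [Fintype F] (hF : Fintype.card F = 3) {K : Type*} [Field K] [Fintype K] (hK : Fintype.card K = 4)
    (A E : Subgroup ↥(Subgroup.centralizer ({z} : Set G))) (hAE : Cfsg.IsInternalDirectProduct A E (Cfsg.pCore 2 ↥(Subgroup.centralizer ({z} : Set G)))) (hA : Nat.card ↥A = 2)
    (hE : Cfsg.IsExtraspecial 2 ↥E) (hEc : Nat.card ↥E = 2 ^ 9)
    (zc : ↥(Subgroup.centralizer ({z} : Set G))) (hzc : (zc : G) = z) (hJ' : ⁅(Cfsg.pCore 2 ↥(Subgroup.centralizer ({z} : Set G))), (Cfsg.pCore 2 ↥(Subgroup.centralizer ({z} : Set G)))⁆ = Subgroup.zpowers zc)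
    (hCJ : Subgroup.centralizer ((Cfsg.pCore 2 ↥(Subgroup.centralizer ({z} : Set G))) : Set ↥(Subgroup.centralizer ({z} : Set G))) ≤ Cfsg.pCore 2 ↥(Subgroup.centralizer ({z} : Set G))) [hJn : (Cfsg.pCore 2 ↥(Subgroup.centralizer ({z} : Set G))).Normal]
    (e : (↥(Subgroup.centralizer ({z} : Set G)) ⧸ Cfsg.pCore 2 ↥(Subgroup.centralizer ({z} : Set G))) ≃* MulAut (Cfsg.PSp 2 F)) :
    Subgroup.centralizer ({z} : Set G) ⊔ Cfsg.oddCore G = ⊤ ∨
      (∃ z₁ : G, orderOf z₁ = 2 ∧ z₁ ∉ Subgroup.zpowers z ∧ (∃ h₁ : z₁ ∈ Subgroup.centralizer ({z} : Set G), (⟨z₁, h₁⟩ : ↥(Subgroup.centralizer ({z} : Set G))) ∈ Cfsg.pCore 2 ↥(Subgroup.centralizer ({z} : Set G)) ∧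
          ∀ j ∈ Cfsg.pCore 2 ↥(Subgroup.centralizer ({z} : Set G)), j * ⟨z₁, h₁⟩ = ⟨z₁, h₁⟩ * j) ∧ (Subgroup.zpowers z₁).Normal ∧
        ∃ (G₀ : Subgroup G) (hz₁ : z₁ ∈ G₀), G₀.index = 2 ∧
          ∃ hn : ((Subgroup.zpowers z₁).subgroupOf G₀).Normal,
            Nonempty ((↥G₀ ⧸ (Subgroup.zpowers z₁).subgroupOf G₀) ≃* Cfsg.PSU 6 K 2)) ∨
      Cfsg.Spor.IsoFi22 G := by
  classical
  open Subgroup ZJ TT U6R Class.Orth in
  obtain ⟨ι, hι⟩ := exists_AK hF
  obtain ⟨a, a1, hA1⟩ : ∃ a : A, a ≠ 1 ∧ ∀ b, b ≠ 1 → b = a := (Nat.card_eq_two_iff' 1).1 hA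
  have hA2 : ∀ b ∈ A, b * b = 1 := fun b hb => by
    simpa [hA, pow_two] using congrArg Subtype.val (pow_card_eq_one' (x := (⟨b, hb⟩ : A)))
  have hA3 : ∀ b ∈ A, b = 1 ∨ b = a := fun b hb =>
    (em _).imp (congrArg Subtype.val) fun c => congrArg Subtype.val (hA1 ⟨b, hb⟩ c)
  have aE : a.1 ∉ E := fun c => a1 (Subtype.ext (hAE.2.2.2.1.le ⟨a.2, c⟩))
  have z2 : zc * zc = 1 := Subtype.ext (by simpa [hzc] using mul_self_of_orderOf_two hz)
  obtain ⟨z', hX⟩ := exists_XS_of_isExtraspecial hE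
  obtain rfl : z' = zc := by
    obtain ⟨x, hx, y, hy, c⟩ := hX.exists_noncomm_pair
    have := hJ'.le (commutator_mem_commutator (inv_mem (hAE.2.1 hx)) (inv_mem (hAE.2.1 hy)))
    rw [commutatorElement_def, inv_inv, inv_inv, mul_assoc, c, show x⁻¹ * y⁻¹ * (y * x * z') = z' by group]
      at this
    exact ((mem_zpowers_invol z2).1 this).resolve_left hX.z_ne
  have hZ := fun {a e} => mem_ZZ' hAE hA2 hX (a := a) (e := e)
  have hZ' : ∀ y ∈ ZZ (O2C z), y = 1 ∨ y = z ∨ y = a ∨ y = a * z := fun y hy => by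
    obtain ⟨_, ⟨b, hb, rfl⟩, _, ⟨d, hd, rfl⟩, rfl⟩ := (idp_mem hAE y).1 hy.1
    rcases hA3 b hb with rfl | rfl <;> rcases (hZ hb hd).1 hy with rfl | rfl <;> simp [hzc]
  have ha : a.1.1 ∈ ZZ (O2C z) := by simpa using (hZ a.2 (one_mem _)).2 (.inl rfl)
  have a1' : a.1.1 ≠ 1 := fun c => a1 (Subtype.ext (Subtype.ext c))
  have az : a.1.1 ≠ z := fun c => aE (by rw [show a.1 = z' from Subtype.ext (c.trans hzc.symm)]; exact hX.z_mem)
  have zz := mul_self_of_orderOf_two hz
  have h4 : Four z (ZZ (O2C z)) := fun y hy y1 yz x hx => by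
    rcases hZ' y hy with c | c | c | c
    exacts [absurd c y1, absurd c yz, c ▸ hZ' x hx, by
      rw [c, mul_assoc, zz, mul_one]; have := hZ' x hx; tauto]
  have hsq : ∀ g, Commute g z → CZ (ZZ (O2C z)) (g ^ 2) := fun g hg y hy => by
    have h1 := conj_mem_ZZ (fun _ h => conj_mem_O2C h hg) (fun _ h => conj_mem_O2C h hg.inv_left) ha
    have h2 : Commute (g ^ 2) a := by
      rcases hZ' _ h1 with c | c | c | c
      · exact absurd (by simpa using c) a1'
      · exact absurd ((conj_inj g).1 (c.trans (conj_eq_of_commute hg).symm)) az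
      · exact (commute_of_conj_eq c).pow_left 2
      · refine commute_of_conj_eq ?_
        rw [show g ^ 2 * a * (g ^ 2)⁻¹ = g * (g * a * g⁻¹) * g⁻¹ by rw [pow_two]; group, c, ← conj_mul, c,
          conj_eq_of_commute hg, mul_assoc, zz, mul_one]
    rcases hZ' y hy with rfl | rfl | rfl | rfl
    exacts [Commute.one_right _, hg.pow_left 2, h2, h2.mul_right (hg.pow_left 2)]
  obtain ⟨V, _, _, q, π, r, h, cV⟩ := exists_OZ' hAE hA2 hX hzc hEc fun g hg =>
    (QuotientGroup.eq_one_iff g).1 (e.injective ((hι.eq_bot (n := 4) ((NN_normal z).map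
      (e.toMonoidHom.comp (QuotientGroup.mk' _)) (e.surjective.comp (QuotientGroup.mk'_surjective _)))
      (by decide) (by
        rintro _ ⟨k, hk, rfl⟩
        rw [← map_pow, show k ^ 4 = k ^ 2 * k ^ 2 by group]
        refine (congrArg e ((QuotientGroup.eq_one_iff _).2 (sq_mem hCJ (pow_mem hk 2) (hsq k (cc k))
          fun y hy => ?_))).trans e.map_one
        rcases hZ' y hy with c | c | c | c <;> rw [c]
        exacts [one_mul 1, zz, congrArg Subtype.val (hA2 a a.2), by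
          rw [(cc a.1).symm.mul_mul_mul_comm, zz, mul_one]; exact congrArg Subtype.val (hA2 a a.2)])).le
      (mem_map_of_mem _ hg) |>.trans e.map_one.symm))
  have : Finite V := Nat.finite_of_card_ne_zero (by omega)
  refine (em (NI z)).symm.imp (top_of_not_ni hz) fun hn => ?_
  have h1 : ∀ g, r g = 1 ↔ g ∈ pCore 2 (centralizer ({z} : Set G)) := fun g =>
    (h.r_eq_one_iff g).trans LES.coe_mem_map_subtype
  let s := (QuotientGroup.lift _ r fun g => (h1 g).2).comp e.symm.toMonoidHom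
  have h2 : ∀ g : centralizer ({z} : Set G), s (e g) = r g := fun g => by simp [s]; rfl
  have h3 : ∀ l, ∃ g : centralizer ({z} : Set G), e g = l := fun l =>
    (QuotientGroup.mk_surjective (e.symm l)).imp fun g hg => by rw [hg, e.apply_symm_apply]
  have s1 : Function.Injective s := (injective_iff_map_eq_one s).2 fun l hl => by
    obtain ⟨g, rfl⟩ := h3 l
    rw [(QuotientGroup.eq_one_iff g).2 ((h1 g).1 ((h2 g).symm.trans hl)), map_one]
  have h5 : ∀ g : centralizer ({z} : Set G), r g ∈ (s.comp ι).range ↔ e g ∈ ι.range := fun g => by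
    rw [← h2, ← MonoidHom.map_range, mem_map_iff_mem s1]
  have h6 : (s.comp ι).range ≤ r.range := by
    rintro _ ⟨k, rfl⟩
    exact (h3 (ι k)).imp fun g hg => by rw [← h2, hg]; rfl
  have two : ∀ g k, r g ∉ (s.comp ι).range → r k ∉ (s.comp ι).range → r (g * k) ∈ (s.comp ι).range :=
    fun g k hg hk => by
      rw [h5] at hg hk ⊢
      rw [QuotientGroup.mk_mul, map_mul]
      exact hι.two _ _ hg hk
  have czk := h.czk r (fun g => (h.r_eq_one_iff g).1) h6 (by decide) hsq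
  by_cases fixs : ∀ v, ac (s.comp ι) (sK 0) v = v → ac (s.comp ι) (sK 1) v = v
  · obtain ⟨u, w, h7⟩ := six_case cV fixs h.nd (s1.comp hι.inj)
    refine absurd hn (SZ.not_ni ⟨h, h7, h4, ⟨a, ha, a1', az⟩, cV, s1.comp hι.inj, h6, two, fun g hg => ?_,
      fixs, czk, fun x => if x ∈ E.map (centralizer {z}).subtype then 0 else 1, fun x hx y hy => ?_,
      fun y hy => ?_⟩)
    · rw [← h2, hι.cent (e g) fun k => s1 (by rw [map_mul, map_mul, h2]; exact hg k), map_one]
    · have key : ∀ x ∈ O2C z, x ∉ E.map (centralizer {z}).subtype →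
          a * x ∈ E.map (centralizer {z}).subtype := fun x hx c => by
        obtain ⟨_, ⟨b, hb, rfl⟩, _, ⟨d, hd, rfl⟩, rfl⟩ := (idp_mem hAE x).1 hx
        rcases hA3 b hb with rfl | rfl
        exacts [absurd ⟨d, hd, by simp⟩ c, ⟨d, hd, by
          rw [← mul_assoc, show a.1.1 * (centralizer {z}).subtype a.1 = 1 from
            congrArg Subtype.val (hA2 a a.2), one_mul]⟩]
      by_cases c : x ∈ E.map (centralizer {z}).subtype
      · simp [c, mul_mem_cancel_left]
      by_cases c' : y ∈ E.map (centralizer {z}).subtype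
      · simp [c', mul_mem_cancel_right]
      have := mul_mem (key x hx c) (key y hy c')
      rw [(h.cent _ ha x hx).mul_mul_mul_comm, h.zsq _ ha, one_mul] at this
      simp [c, c', this]
      rfl
    · have : a.1.1 ∉ E.map (centralizer {z}).subtype := mt LES.coe_mem_map_subtype.1 aE
      have hz' : z ∈ E.map (centralizer {z}).subtype := ⟨z', hX.z_mem, hzc⟩
      rcases hZ' y hy with rfl | rfl | rfl | rfl <;> simp [this, hz', a1', az, mul_mem_cancel_right, h.mul_ne az]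
  push Not at fixs
  obtain ⟨v, v1, v2⟩ := fixs
  obtain ⟨φ, f1, f2, f3⟩ := nat_case h.nd cV (s1.comp hι.inj) v1 v2
  obtain ⟨π, ρ, h7, h8⟩ := h.toNS φ f1 (fun g => by
    rw [← h2]
    refine f3 _ ?_
    have := hι.normal
    rw [← MonoidHom.map_range, coe_map]
    exact le_normalizer_map s ⟨_, (normalizer_eq_top _).ge (mem_top _), rfl⟩) fun c hc => by
      obtain ⟨x, hx, e⟩ := f2.ge (subset_closure ⟨c, hc, rfl⟩)
      obtain ⟨g, rfl⟩ := h6 hx
      exact ⟨g, czk g hx, e⟩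
  have h9 : ∀ g, r g ∈ (s.comp ι).range → ρ g ∈ K4 := fun g hg => f2.le ⟨_, hg, (h8 g).symm⟩
  by_cases hI : ∀ g, Commute g z → CZ (ZZ (O2C z)) g
  swap
  · push Not at hI
    obtain ⟨t, t1, t2⟩ := hI
    refine .inr (h7.case_two (fun g hg => h9 ⟨g, mem_centralizer_singleton_iff.2 (hg z h.zmem)⟩
      (by_contra fun c => t2 ?_)) h4 h7.nc t1 t2 hn)
    simpa using hg.inv.mul (czk _ (two _ ⟨t, mem_centralizer_singleton_iff.2 t1⟩ c (mt (czk _) t2)))
  obtain ⟨b, hb, b1, bz, hc⟩ := h7.case_one h4 h7.nc hI ha a1' az hn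
  have b2 := h.zsq b hb
  have hN : (zpowers b).Normal := ⟨fun x ⟨n, c⟩ g => by
    rw [← c, conj_eq_of_commute ((hc g).zpow_right n)]; exact ⟨n, rfl⟩⟩
  have hk : (QuotientGroup.mk' (zpowers b)).ker ≤ ZZ (O2C z) := by
    rw [QuotientGroup.ker_mk']; exact zpowers_le.2 hb
  have hl := h7.nc.lift' h.zmem hk
  have hs := QuotientGroup.mk'_surjective (zpowers b)
  obtain ⟨π', ρ', n1, -, n2⟩ := h7.map _ hs hk (fun c => ((mem_zpowers_invol b2).1
    ((QuotientGroup.eq_one_iff z).1 c)).elim h.z1 bz.symm) hl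
  have hb1 : QuotientGroup.mk' (zpowers b) b = 1 := (QuotientGroup.eq_one_iff b).2 (mem_zpowers b)
  have n3 := n1.u4s (by
    rintro _ ⟨y, hy, rfl⟩
    rcases h4 b hb b1 bz y hy with rfl | rfl | rfl | rfl <;> simp only [map_one, map_mul, hb1] <;> simp)
  replace hn := hn.map h7.nc h.zmem hk
  obtain ⟨e'⟩ := n3.nonempty_equiv_closure hn
  set φ' := QuotientGroup.mk' (zpowers b)
  set K' := closure (conjugatesOf (φ' z))
  have e1 : (K'.comap φ' ⧸ (zpowers b).subgroupOf (K'.comap φ')) ≃* K' :=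
    (QuotientGroup.quotientMulEquivOfEq (by
      ext x
      rw [mem_subgroupOf, MonoidHom.mem_ker, Subtype.ext_iff]
      exact (QuotientGroup.eq_one_iff x.1).symm)).trans
      (QuotientGroup.quotientKerEquivOfSurjective _ (φ'.subgroupComap_surjective_of_surjective K' hs))
  have hbK : b ∈ K'.comap φ' := by rw [mem_comap, hb1]; exact one_mem _
  refine .inl ⟨b, orderOf_eq_two_of b1 b2, fun c => ((mem_zpowers_invol zz).1 c).elim b1 bz,
    ⟨mem_centralizer_singleton_iff.2 (hc z).symm, LES.coe_mem_map_subtype.1 hb.1, fun j _ =>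
      Subtype.ext (hc j)⟩, hN, K'.comap φ', hbK, ?_, inferInstance, ⟨(e1.trans e').trans
        (Class.psuCongr 6 2 (FiniteField.ringEquivOfCardEq (Class.card_GF4.trans hK.symm)))⟩⟩
  have m2 : ∀ g : centralizer ({z} : Set G), r g ∈ (s.comp ι).range → (g : G) ∈ K'.comap φ' :=
    fun g hg => n3.mem_closure hn ((cc g).map φ') (n2 g (cc g) ▸ h9 g hg)
  by_cases m3 : ∀ g : centralizer ({z} : Set G), (g : G) ∈ K'.comap φ'
  · have m4 := card_dvd_of_le (H := centralizer {z}) fun g hg => m3 ⟨g, hg⟩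
    rw [card_eq_card_quotient_mul_card_subgroup ((zpowers b).subgroupOf (K'.comap φ')),
      Nat.card_congr (e1.trans e').toEquiv, card_psu6,
      Nat.card_congr (subgroupOfEquivOfLe (zpowers_le.2 hbK)).toEquiv, Nat.card_zpowers,
      orderOf_eq_two_of b1 b2, card_eq_card_quotient_mul_card_subgroup (pCore 2 _), idp_card hAE, hA, hEc,
      Nat.card_congr e.toEquiv, hι.card] at m4
    exact absurd m4 (by decide)
  push Not at m3
  obtain ⟨t, ht⟩ := m3
  refine index_eq_two_iff_exists_notMem_and.2 ⟨t, ht, fun x => ?_⟩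
  obtain ⟨k, k1, k2⟩ := n3.exists_mul hn (φ' x)
  obtain ⟨k, rfl⟩ := hs k
  let c : centralizer ({z} : Set G) := ⟨k⁻¹ * x, mem_centralizer_singleton_iff.2
    (hl _ (by rwa [map_mul, map_inv]))⟩
  replace k1 : k ∈ K'.comap φ' := k1
  by_cases hc : r c ∈ (s.comp ι).range
  · exact Or.inr (by simpa only [c, mul_inv_cancel_left] using mul_mem k1 (m2 c hc))
  · have := mul_mem k1 (m2 (c * t) (two _ _ hc (mt (m2 t) ht)))
    exact Or.inl (by simpa only [c, coe_mul, mul_assoc, mul_inv_cancel_left] using this)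

end Cfsg.Agent.S3232
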