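import Cfsg.Statements.S3233
import Mathlib
import Cfsg.Agent.ZJ.Mk8

set_option autoImplicit false
open Cfsg

namespace Cfsg.Agent.S3233

/-- Let G be a finite group with an involution z, H = C_G(z), such that (i) J = O₂(H) is an (internal) direct product of a four-group and an extraspecial group of order 2⁹, with C_H(J) ≤ J, and (ii) H contains an element c of order 3 such that J⟨c⟩ is normal in H with H/J⟨c⟩ ≅ Aut(PSp₄(3)) and C_H(c)/⟨c, z⟩ ≅ PSp₄(3). Then G = H·O(G), or G is isomorphic to the Fischer group Fi₂₃, or G has a normal four-group V with G/V ≅ Aut(U₆(2)). -/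
theorem result {G : Type*} [Group G] [Finite G] (z : G) (hz : orderOf z = 2)
    {F : Type*} [Field F] [Fintype F] (hF : Fintype.card F = 3) {K : Type*} [Field K] [Fintype K] (hK : Fintype.card K = 4)
    (V E : Subgroup ↥(Subgroup.centralizer ({z} : Set G))) (hVE : Cfsg.IsInternalDirectProduct V E (Cfsg.pCore 2 ↥(Subgroup.centralizer ({z} : Set G)))) (hV : Nat.card ↥V = 4) (hV2 : ∀ v ∈ V, v ^ 2 = 1)
    (hE : Cfsg.IsExtraspecial 2 ↥E) (hEc : Nat.card ↥E = 2 ^ 9)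
    (hCJ : Subgroup.centralizer ((Cfsg.pCore 2 ↥(Subgroup.centralizer ({z} : Set G))) : Set ↥(Subgroup.centralizer ({z} : Set G))) ≤ Cfsg.pCore 2 ↥(Subgroup.centralizer ({z} : Set G)))
    (zc c : ↥(Subgroup.centralizer ({z} : Set G))) (hzc : (zc : G) = z) (hc : orderOf c = 3)
    [hJc : (Cfsg.pCore 2 ↥(Subgroup.centralizer ({z} : Set G)) ⊔ Subgroup.zpowers c).Normal] (e : (↥(Subgroup.centralizer ({z} : Set G)) ⧸ (Cfsg.pCore 2 ↥(Subgroup.centralizer ({z} : Set G)) ⊔ Subgroup.zpowers c)) ≃* MulAut (Cfsg.PSp 2 F))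
    [hcz : ((Subgroup.zpowers c ⊔ Subgroup.zpowers zc).subgroupOf (Subgroup.centralizer ({c} : Set ↥(Subgroup.centralizer ({z} : Set G))))).Normal]
    (e' : (↥(Subgroup.centralizer ({c} : Set ↥(Subgroup.centralizer ({z} : Set G)))) ⧸ (Subgroup.zpowers c ⊔ Subgroup.zpowers zc).subgroupOf (Subgroup.centralizer ({c} : Set ↥(Subgroup.centralizer ({z} : Set G))))) ≃* Cfsg.PSp 2 F) :
    Subgroup.centralizer ({z} : Set G) ⊔ Cfsg.oddCore G = ⊤ ∨ Cfsg.Spor.IsoFi23 G ∨
      (∃ (W : Subgroup G) (hW : W.Normal), Nat.card ↥W = 4 ∧ (∀ w ∈ W, w ^ 2 = 1) ∧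
        Nonempty ((G ⧸ W) ≃* MulAut (Cfsg.PSU 6 K 2))) := by
  classical
  open Subgroup ZJ TT U6R Class.Orth in
  obtain ⟨ι, hι⟩ := exists_AK hF
  obtain ⟨ι'⟩ := nonempty_K4_equiv hF
  have hJn := pCore_normal 2 (centralizer ({z} : Set G))
  have hA2 : ∀ b ∈ V, b * b = 1 := fun b hb => by simpa [pow_two] using hV2 b hb
  have zz := mul_self_of_orderOf_two hz
  have z2 : zc * zc = 1 := Subtype.ext (by simpa [hzc] using zz)
  have c3 : c ^ 3 = 1 := hc ▸ pow_orderOf_eq_one c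
  have cz : ∀ g, Commute g zc := fun g => Subtype.ext (by simpa [hzc] using (cc g).eq)
  obtain ⟨z', hX⟩ := exists_XS_of_isExtraspecial hE
  have dec : ∀ x ∈ pCore 2 (centralizer ({z} : Set G)), ∃ a ∈ V, ∃ d ∈ E, x = a * d := fun x hx => by
    obtain ⟨_, ⟨a, ha, rfl⟩, _, ⟨d, hd, rfl⟩, e⟩ := (idp_mem hVE x).1 (mem_map_of_mem _ hx)
    exact ⟨a, ha, d, hd, Subtype.ext e⟩
  have mm : ∀ {a d b f}, d ∈ E → b ∈ V → a * d * (b * f) = a * b * (d * f) := fun hd hb =>
    (show Commute _ _ from (hVE.2.2.1 _ hb _ hd).symm).mul_mul_mul_comm _ _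
  have fix : ∀ x ∈ pCore 2 (centralizer ({z} : Set G)), Commute c x → x = 1 ∨ x = zc := fun x hx h => by
    have h4 : ∀ x ∈ pCore 2 (centralizer ({z} : Set G)), x ^ 4 = 1 := fun x hx => by
      obtain ⟨a, ha, d, hd, rfl⟩ := dec x hx
      rw [show 4 = 2 * 2 from rfl, pow_mul, pow_two (a * d), mm hd ha, hA2 a ha, one_mul, pow_two]
      exact (hX.sq hd).elim (fun e => by rw [e, one_mul]) fun e => by rw [e, hX.z_sq]
    let φ := (e'.trans ι'.symm).toMonoidHom.comp (QuotientGroup.mk' _)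
    have h1 := (eq_bot_of_pow (N := ((pCore 2 _).subgroupOf _).map φ) (Normal.map inferInstance _
      ((e'.trans ι'.symm).surjective.comp (QuotientGroup.mk'_surjective _))) (n := 4) (by decide) (by
        rintro _ ⟨k, hk, rfl⟩
        rw [← map_pow, show k ^ 4 = 1 from Subtype.ext (h4 k hk), map_one])).le
      (mem_map_of_mem φ (show ⟨x, mem_centralizer_singleton_iff.2 h.symm⟩ ∈ _ from hx))
    have : (zpowers zc).Normal := ⟨fun x ⟨n, e⟩ g => by
      rw [← e, conj_eq_of_commute ((cz g).zpow_right n)]; exact ⟨n, rfl⟩⟩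
    obtain ⟨u, hu, y, hy, rfl⟩ := mem_sup_of_normal_right.1 (mem_subgroupOf.1 ((QuotientGroup.eq_one_iff _).1
      ((e'.trans ι'.symm).injective (h1.trans (map_one _).symm))))
    have h3 := h4 _ hx
    have h5 : u ^ 3 = 1 := by
      obtain ⟨n, rfl⟩ := hu
      rw [← zpow_natCast, ← zpow_mul, mul_comm, zpow_mul, zpow_natCast, c3, one_zpow]
    rcases (mem_zpowers_invol z2).1 hy with rfl | rfl
    · exact .inl (by simpa [pow_succ u 3, h5] using h3)
    · rw [(cz u).mul_pow, show y ^ 4 = y * y * (y * y) by simp [pow_succ, mul_assoc], z2, pow_succ u, h5] at h3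
      exact .inr (by simpa using h3)
  obtain rfl : z' = zc := by
    refine (fix z' (hVE.2.1 hX.z_mem) (commute_of_conj_eq ?_)).resolve_left hX.z_ne
    obtain ⟨x, hx, y, hy, e⟩ := hX.exists_noncomm_pair
    obtain ⟨a, ha, d, hd, e1⟩ := dec _ (hJn.conj_mem x (hVE.2.1 hx) c)
    obtain ⟨b, hb, f, hf, e2⟩ := dec _ (hJn.conj_mem y (hVE.2.1 hy) c)
    have e3 := congrArg (fun x => c * x * c⁻¹) e
    simp only [← conj_mul (a := x), ← conj_mul (a := y), ← conj_mul (c := z'), e1, e2] at e3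
    rw [mm hd hb, mm hf ha, comm_of_sq_eq_one hA2 ha hb, mul_assoc (b * a), mul_right_inj] at e3
    rcases hX.comm d hd f hf with h | h <;> rw [h] at e3
    · exact absurd (by simpa using e3) hX.z_ne
    · exact (mul_left_cancel e3).symm
  have hZ := fun {a e} => mem_ZZ' hVE hA2 hX (a := a) (e := e)
  have hZ' : ∀ y ∈ ZZ (O2C z), ∃ a ∈ V, y = a ∨ y = a * z := fun y hy => by
    obtain ⟨_, ⟨b, hb, rfl⟩, _, ⟨d, hd, rfl⟩, rfl⟩ := (idp_mem hVE y).1 hy.1
    exact ⟨b, hb, by rcases (hZ hb hd).1 hy with rfl | rfl <;> simp [hzc]⟩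
  have zsq : ∀ y ∈ ZZ (O2C z), y * y = 1 := fun y hy => by
    obtain ⟨a, ha, c | c⟩ := hZ' y hy <;> rw [c]
    exacts [congrArg Subtype.val (hA2 a ha), by
      rw [(cc a).symm.mul_mul_mul_comm, zz, mul_one]; exact congrArg Subtype.val (hA2 a ha)]
  have hzZ : z ∈ ZZ (O2C z) := by simpa [hzc] using (hZ (one_mem _) hX.z_mem).2 (.inr rfl)
  have z1 : z ≠ 1 := fun c => hX.z_ne (Subtype.ext (hzc.trans c))
  have nZ : ∀ g, Commute g z → ∀ y ∈ ZZ (O2C z), g * y * g⁻¹ ∈ ZZ (O2C z) := fun g hg y =>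
    conj_mem_ZZ (fun _ h => conj_mem_O2C h hg) fun _ h => conj_mem_O2C h hg.inv_left
  have c3' : (c : G) ^ 3 = 1 := congrArg Subtype.val c3
  have fix' : ∀ y ∈ O2C z, Commute c.1 y → y = 1 ∨ y = z := by
    rintro _ ⟨y, hy, rfl⟩ h
    exact (fix y hy (Subtype.ext h)).imp (congrArg Subtype.val) fun e => (congrArg Subtype.val e).trans hzc
  have hQ : ∀ g ∈ pCore 2 (centralizer ({z} : Set G)) ⊔ zpowers c, ∃ n < 3,
      (c ^ n)⁻¹ * g ∈ pCore 2 (centralizer ({z} : Set G)) := fun g hg => by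
    rw [sup_comm] at hg
    obtain ⟨u, hu, y, hy, rfl⟩ := mem_sup_of_normal_right.1 hg
    obtain ⟨n, hn, rfl⟩ := Finset.mem_image.1 (mem_zpowers_iff_mem_range_orderOf.1 hu)
    exact ⟨n, by simpa [hc] using hn, by simpa using hy⟩
  have hQ' := fun g => hQ _ (hJc.conj_mem c (mem_sup_right (mem_zpowers c)) g)
  obtain ⟨W, w1, w2, w3, w4⟩ := exists_W zsq c3' (nZ c (cc c)) hzZ z1 (cc c) fun y hy => fix' y hy.1
  replace w4 : ∀ g, Commute g z → ∀ w ∈ W, g * w * g⁻¹ ∈ W := fun g hg => w4 g (nZ g hg) (by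
    obtain ⟨n, -, h⟩ := hQ' ⟨g, mem_centralizer_singleton_iff.2 hg⟩
    exact ⟨n, fun y hy => hy.2 _ (mem_map_of_mem _ h)⟩)
  have key : ∀ A ≤ ZZ (O2C z), z ∉ A → (∀ y ∈ ZZ (O2C z), y ∈ A ∨ y * z ∈ A) →
      Nat.card (ZZ (O2C z)) = Nat.card A * 2 := fun A h1 h2 h3 => by
    rw [← hz, ← Nat.card_zpowers]
    exact idp_card ⟨h1, zpowers_le.2 hzZ, fun a ha b hb => comm_of_sq_eq_one zsq (h1 ha) (zpowers_le.2 hzZ hb),
      eq_bot_iff.2 fun x hx => ((mem_zpowers_invol zz).1 hx.2).resolve_right fun e => h2 (e ▸ hx.1),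
      (sup_le h1 (zpowers_le.2 hzZ)).antisymm fun y hy => (h3 y hy).elim (mem_sup_left ·) fun h =>
        (mul_mem_cancel_right (mem_sup_right (mem_zpowers z))).1 (mem_sup_left h)⟩
  have w5 : Nat.card W = 4 := by
    have h1 := key _ (show V.map (centralizer {z}).subtype ≤ _ by
      rintro _ ⟨a, ha, rfl⟩; simpa using (hZ ha (one_mem _)).2 (.inl rfl))
      (fun ⟨a, ha, e⟩ => hX.z_ne (hVE.2.2.2.1.le ⟨(Subtype.ext (e.trans hzc.symm) : a = z') ▸ ha, hX.z_mem⟩))
      fun y hy => (hZ' y hy).elim fun a ⟨ha, e⟩ => e.imp (fun e => ⟨a, ha, e.symm⟩) fun e =>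
        ⟨a, ha, by rw [e, mul_assoc, zz, mul_one]; rfl⟩
    rw [key W w1 w2 w3, LES.card_map_subtype, hV] at h1
    omega
  have hcz : ∀ g, Commute g z → CZ W g → CZ (ZZ (O2C z)) g := fun g hg h y hy =>
    (w3 y hy).elim (h y) fun c => by simpa using (h _ c).mul_right hg.inv_right
  have h24 : ∀ g, Commute g z → CZ (ZZ (O2C z)) (g ^ 24) := fun g hg => hcz _ (hg.pow_left _) (by
    simpa [w5, Nat.factorial] using commute_pow_factorial (mem_normalizer_fintype (w4 g hg)))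
  have fpf := fun x => mem_of_fix (x := x) zsq c3' (nZ c (cc c)) hzZ inf_le_left fix'
  have hcn : ∀ n < 3, ∀ N : Subgroup (centralizer ({z} : Set G)), c ∉ N → c ^ n ∈ N → n = 0 :=
    fun n hn N h1 h2 => by
      interval_cases n
      exacts [rfl, absurd (by simpa using h2) h1, absurd (by
        simpa [← pow_add, show 2 + 2 = 3 + 1 from rfl, pow_succ c 3, c3] using mul_mem h2 h2) h1]
  obtain ⟨V', _, _, q, π, r, h, cV⟩ := exists_OZ' hVE hA2 hX hzc hEc fun g hg => by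
    obtain ⟨n, hn, h1⟩ := hQ g ((QuotientGroup.eq_one_iff g).1 (e.injective ((hι.eq_bot (n := 48)
      ((NN_normal z).map (e.toMonoidHom.comp (QuotientGroup.mk' _))
        (e.surjective.comp (QuotientGroup.mk'_surjective _))) (by decide) (by
          rintro _ ⟨k, hk, rfl⟩
          rw [← map_pow, show k ^ 48 = k ^ 24 * k ^ 24 by group]
          exact (congrArg e ((QuotientGroup.eq_one_iff _).2 (mem_sup_left (sq_mem hCJ (pow_mem hk 24)
            (h24 k (cc k)) zsq)))).trans e.map_one)).le (mem_map_of_mem _ hg) |>.trans e.map_one.symm)))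
    suffices n = 0 by simpa [this] using h1
    refine hcn n hn (NN z) (fun h => ?_) ?_
    · obtain ⟨x, hx, y, hy, e⟩ := hX.exists_noncomm_pair
      have h2 := mem_map_of_mem (centralizer {z}).subtype (hVE.2.1 hx)
      refine hX.z_ne (mul_left_cancel (e.symm.trans ((Subtype.ext ((fpf _ h2 (h _ h2)).2 _
        (mem_map_of_mem _ (hVE.2.1 hy))).symm).trans (mul_one _).symm)))
    · refine (mul_mem_cancel_right (x := (c ^ n)⁻¹ * g) ?_).1 (by simpa using hg)
      rintro _ ⟨x, hx, rfl⟩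
      obtain ⟨a, ha, d, hd, e1⟩ := dec _ h1
      obtain ⟨b, hb, f, hf, rfl⟩ := dec _ hx
      have e2 : a * d * (b * f) * (a * d)⁻¹ * (b * f)⁻¹ = d * f * d⁻¹ * f⁻¹ := by
        rw [mul_inv_eq_iff_eq_mul, mul_inv_eq_iff_eq_mul, mm hd hb, mul_assoc _ (b * f), mm hf ha,
          comm_of_sq_eq_one hA2 ha hb, ← one_mul (d * f * d⁻¹ * f⁻¹), mm (mul_mem (mul_mem (mul_mem hd hf)
            (inv_mem hd)) (inv_mem hf)) (mul_mem hb ha)]
        group
      have e3 := (hZ (one_mem _) (mul_mem (mul_mem (mul_mem hd hf) (inv_mem hd)) (inv_mem hf))).2 (by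
        rcases hX.comm d hd f hf with c | c <;> rw [c]
        exacts [.inl (by group), .inr (by
          rw [(cz (f * d)).eq]; group)])
      rw [← e2, ← e1] at e3
      simpa using e3
  refine (em (NI z)).symm.imp (top_of_not_ni hz) fun hn => ?_
  have cr : r c * r c * r c = 1 := by rw [← map_mul, ← map_mul, ← pow_three', c3, map_one]
  obtain ⟨φ, f1, f2⟩ := exists_phi h.nd cV (c := r c) fun v => by
    obtain ⟨x, hx, e⟩ := h.surj (v + (r c).1 v + (r c).1 ((r c).1 v))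
    have h1 := h.pi_Z (fpf x hx (h.comm_mem_Z c hx (by
      rw [e, map_add, map_add, show (r c).1 ((r c).1 ((r c).1 v)) = v from congrArg (·.1 v) cr]; abel)))
    exact (two_eq_of_add (e.symm.trans h1)).symm
  let ρ₀ := (trp φ).comp r
  have k1 : ∀ g, ρ₀ g = 1 ↔ g ∈ pCore 2 (centralizer ({z} : Set G)) := fun g =>
    (map_eq_one_iff _ (trp_inj φ)).trans ((h.r_eq_one_iff g).trans LES.coe_mem_map_subtype)
  have k2 : ρ₀ c = sc4 := f2
  have k3 : c ∉ pCore 2 (centralizer ({z} : Set G)) := fun h => by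
    have := sc4_order
    rw [← k2, (k1 c).2 h, orderOf_one] at this
    omega
  have ga : ∀ g, IsGa (ρ₀ g) := fun g => by
    obtain ⟨n, hn, h1⟩ := hQ' g
    have h2 := (k1 _).2 h1
    rw [map_mul, map_inv, inv_mul_eq_one, map_pow, map_mul, map_mul, map_inv, k2,
      eq_mul_inv_iff_mul_eq] at h2
    refine isGa_trp φ f1 ?_
    interval_cases n
    exacts [absurd (by simpa [mul_assoc] using hJn.conj_mem _ h1 g⁻¹) k3, .inl (pow_one sc4 ▸ h2.symm),
      .inr (pow_two sc4 ▸ h2.symm)]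
  have cJ : Nat.card (centralizer ({z} : Set G)) =
      51840 * 3 * Nat.card (pCore 2 (centralizer ({z} : Set G))) := by
    have h1 : zpowers c ⊓ pCore 2 (centralizer ({z} : Set G)) = ⊥ := eq_bot_iff.2 fun x hx => by
      obtain ⟨n, hn, e⟩ := Finset.mem_image.1 ((mem_zpowers_iff_mem_range_orderOf (y := x)).1 hx.1)
      rw [← e, hcn n (by simpa [hc] using hn) _ k3 (e ▸ hx.2), pow_zero, mem_bot]
    rw [card_eq_card_quotient_mul_card_subgroup (pCore 2 _ ⊔ zpowers c), Nat.card_congr e.toEquiv, hι.card,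
      sup_comm, Grp.card_sup_of_disjoint _ _ h1, Nat.card_zpowers, hc, ← mul_assoc]
  obtain ⟨k4, _, ⟨s, rfl⟩, k5⟩ := LG_le (A := ρ₀.range) (by rintro _ ⟨g, rfl⟩; exact ga g) (by
    have := ρ₀.ker.card_mul_index
    rw [index_ker, cJ, show ρ₀.ker = pCore 2 _ from ext k1, mul_comm] at this
    exact Nat.eq_of_mul_eq_mul_right Nat.card_pos this)
  have czk := h.czk ρ₀ (fun g e => mem_map_of_mem _ ((k1 g).1 e)) (κ := K4.subtype)
    (by rintro _ ⟨k, rfl⟩; exact k4 (lin_of_mem_closure k.2)) (by decide) h24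
  obtain ⟨π, ρ, h7, h8⟩ := h.toNS φ f1 ga fun v hv => let ⟨g, e⟩ := k4 (tv_lin hv)
    ⟨g, czk g ⟨⟨_, subset_closure ⟨v, hv, rfl⟩⟩, e.symm⟩, e⟩
  let N := (centralizer (ZZ (O2C z) : Set G)).subgroupOf (centralizer {z})
  have hN : ∀ {g : centralizer ({z} : Set G)}, g ∈ N ↔ CZ (ZZ (O2C z)) g := cz_iff
  have k6 : ∀ a ∈ W, Commute c.1 a → a = 1 := fun a ha e =>
    (fix' a (w1 ha).1 e).resolve_right fun c => w2 (c ▸ ha)
  obtain ⟨a, ha, a1⟩ : ∃ a ∈ W, a ≠ 1 := by
    by_contra! c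
    rw [(eq_bot_iff (a := W)).2 c, card_bot] at w5
    omega
  have k7 : c ∉ N := fun h => a1 (k6 a ha (hN.1 h a (w1 ha)))
  have k8 : ∀ g ∈ N, ρ₀ g ∈ K4 := fun g hg => by
    rcases ga g with e | e
    · obtain ⟨n, h1⟩ := IsLin.exists_mul e
      obtain ⟨m, hm, e1⟩ := Finset.mem_image.1 (mem_zpowers_iff_mem_range_orderOf.1 (zpow_mem_zpowers c n))
      have h2 := (mul_mem_cancel_right hg).1 (hN.2 (czk (c ^ m * g) ⟨⟨_, h1⟩, by
        rw [e1, map_mul, map_zpow, k2]; rfl⟩))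
      rw [← k2, ← map_zpow, ← e1, hcn m (by simpa [hc] using hm) N k7 h2] at h1
      simpa using h1
    · refine absurd ?_ k7
      have h1 : c⁻¹ * g * c⁻¹⁻¹ ∈ N := hN.2 fun y hy => comm_conj_inv.2 (hN.1 hg _ (nZ _ (cc c⁻¹⁻¹) y hy))
      refine (mul_mem_cancel_right (hN.2 (h.cz (mem_map_of_mem _ ((k1 (c⁻¹ * (c⁻¹ * g * c⁻¹⁻¹ * g⁻¹))).1
        ?_))))).1 (by simpa using mul_mem h1 (inv_mem hg))
      simp only [map_mul, map_inv, k2, inv_inv]
      rw [mul_assoc, mul_assoc, ← mul_assoc, ← mul_inv_rev, inv_mul_eq_one, ← mul_assoc,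
        eq_mul_inv_iff_mul_eq]
      exact Equiv.ext fun v => ((e.smul TT.UQ.om v).trans (by rw [pow_two, mul_smul]; rfl)).symm
  have h9 : ∀ {g}, CZ (ZZ (O2C z)) g → ρ g ∈ K4 := fun {g} hg =>
    (h8 ⟨g, mem_centralizer_singleton_iff.2 (hg z hzZ)⟩).symm ▸ k8 _ (hN.2 hg)
  have hE : EZ z (ZZ (O2C z)) (O2C z) W π ρ := by
    refine ⟨h7, fun _ => h9, w1, w2, w3, w4, w5, fun a ha a1 => ?_⟩
    obtain ⟨n, e⟩ : ∃ n : ℕ, c.1 ^ n * (s * a * s.1⁻¹) * (c.1 ^ n)⁻¹ = a := by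
      have hb := w4 s (cc s) a ha
      have b1 : s * a * s.1⁻¹ ≠ 1 := mt conj_eq_one_iff.1 a1
      generalize s * a * s.1⁻¹ = b at hb b1
      have hb' := w4 c (cc c) b hb
      have b2 : c * b * c.1⁻¹ ≠ b := fun e => b1 (k6 b hb (commute_of_conj_eq e))
      have := fun {x} hx => four_eq_mul w5 (fun y hy => zsq y (w1 hy)) hb hb' (x := x) hx b1
        (mt conj_eq_one_iff.1 b1) b2
      by_cases e : a = b
      · exact ⟨0, by simp [e]⟩
      by_cases e' : a = c * b * c.1⁻¹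
      · exact ⟨1, by simp [e']⟩
      refine ⟨2, Eq.trans (by rw [pow_two]; group) ((this (w4 c (cc c) _ hb') (by simpa using b1)
        (fun e => b2 ?_) (mt (conj_inj _).1 b2)).trans (this ha a1 e e').symm)⟩
      exact (congrArg (c * · * c.1⁻¹) e).symm.trans (conj3 c3' b)
    refine ⟨(c ^ n * s).1, cc _, commute_of_conj_eq (by simpa [mul_assoc] using e), fun h =>
      (lin_of_mem_closure (k8 _ (hN.2 h))).not_semi ?_⟩
    rw [map_mul, map_pow, k2]
    exact IsLin.mul_semi (pow_mem (show sc4 ∈ LG from sc4_lin) n) k5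
  refine (hE.main hn).imp_right fun hW => ⟨W, hW, w5, fun w hw => by rw [pow_two, zsq w (w1 hw)], ?_⟩
  have := hW
  have hk : (QuotientGroup.mk' W).ker ≤ ZZ (O2C z) := by rwa [QuotientGroup.ker_mk']
  have hl := h7.nc.lift' hzZ hk
  have hs := QuotientGroup.mk'_surjective W
  obtain ⟨π', ρ', n1, -⟩ := h7.map _ hs hk (mt (QuotientGroup.eq_one_iff z).1 w2) hl
  obtain ⟨e1⟩ := exists_aut (n1.u4s (by
    rintro _ ⟨y, hy, rfl⟩
    exact (w3 y hy).imp (QuotientGroup.eq_one_iff y).2 fun c => (eq_inv_of_mul_eq_one_left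
      ((QuotientGroup.eq_one_iff (y * z)).2 c)).trans (n1.zinv n1.zmem))) (hn.map h7.nc hzZ hk) (by
    have h1 : (centralizer {QuotientGroup.mk' W z}).comap (QuotientGroup.mk' W) = centralizer {z} :=
      ext fun g => by
        simp only [mem_comap, mem_centralizer_singleton_iff]
        exact ⟨hl g, fun c => Commute.map c _⟩
    have h2 := (centralizer {QuotientGroup.mk' W z}).card_mul_index
    have h3 := (centralizer ({z} : Set G)).card_mul_index
    rw [← index_comap_of_surjective _ hs, h1] at h2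
    rw [card_eq_card_quotient_mul_card_subgroup W, ← h2, cJ, idp_card hVE, hV, hEc, w5, mul_right_comm _ _ 4] at h3
    have := Nat.eq_of_mul_eq_mul_right (Nat.pos_of_ne_zero index_ne_zero_of_finite) h3
    omega)
  exact ⟨e1.trans (MulAut.congr (Class.psuCongr 6 2
    (FiniteField.ringEquivOfCardEq (Class.card_GF4.trans hK.symm))))⟩

end Cfsg.Agent.S3233
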