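import Cfsg.Statements.S3234
import Cfsg.Agent.F24.GTop
import Cfsg.Agent.F24.Virt
import Cfsg.Agent.F24.Ext
import Cfsg.Agent.Block.ZStar
import Cfsg.Agent.Class.FieldTransport
-- import your own Cfsg.Agent.* helpers here

set_option autoImplicit false
open Cfsg

namespace Cfsg.Agent.S3234

/-- Let G be a finite group with an involution z, H = C_G(z), such that (i) J = O₂(H) is extraspecial of order 2¹³ with C_H(J) ≤ J, and (ii) H has normal subgroups J ≤ M ≤ K where M/J has order 3 and is the largest normal 3-subgroup of H/J (that is, M = O_{2,3}(H)) and K/M ≅ U₄(3). Then G = H·O(G); or H/K has order 2 and G is isomorphic to the Fischer group Fi₂₄′; or H/K is a four-group and G ≅ Fi₂₄. -/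
theorem result {G : Type*} [Group G] [Finite G] (z : G) (hz : orderOf z = 2)
    {L : Type*} [Field L] [Fintype L] (hL : Fintype.card L = 9)
    (hJ : Cfsg.IsExtraspecial 2 ↥(Cfsg.pCore 2 ↥(Subgroup.centralizer ({z} : Set G)))) (hJc : Nat.card ↥(Cfsg.pCore 2 ↥(Subgroup.centralizer ({z} : Set G))) = 2 ^ 13)
    (hCJ : Subgroup.centralizer ((Cfsg.pCore 2 ↥(Subgroup.centralizer ({z} : Set G))) : Set ↥(Subgroup.centralizer ({z} : Set G))) ≤ Cfsg.pCore 2 ↥(Subgroup.centralizer ({z} : Set G)))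
    (M K : Subgroup ↥(Subgroup.centralizer ({z} : Set G))) [hMn : M.Normal] [hKn : K.Normal] (hJM : Cfsg.pCore 2 ↥(Subgroup.centralizer ({z} : Set G)) ≤ M) (hMK : M ≤ K)
    (hM3 : Nat.card ↥M = 3 * Nat.card ↥(Cfsg.pCore 2 ↥(Subgroup.centralizer ({z} : Set G))))
    (hMmax : ∀ M' : Subgroup ↥(Subgroup.centralizer ({z} : Set G)), M'.Normal → Cfsg.pCore 2 ↥(Subgroup.centralizer ({z} : Set G)) ≤ M' → (∃ a : ℕ, Nat.card ↥M' = 3 ^ a * Nat.card ↥(Cfsg.pCore 2 ↥(Subgroup.centralizer ({z} : Set G)))) → M' ≤ M)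
    (e : (↥K ⧸ M.subgroupOf K) ≃* Cfsg.PSU 4 L 3) :
    Subgroup.centralizer ({z} : Set G) ⊔ Cfsg.oddCore G = ⊤ ∨
      (K.index = 2 ∧ Cfsg.Spor.IsoFi24' G) ∨
      (K.index = 4 ∧ (∀ x : ↥(Subgroup.centralizer ({z} : Set G)) ⧸ K, x ^ 2 = 1) ∧ Nonempty (G ≃* Cfsg.Spor.Fi24)) := by
  by_cases hiso : IsIsolatedInvolution z
  · refine Or.inl (eq_top_iff.2 fun g _ => ?_)
    obtain ⟨k, hk⟩ := Inv.isolated_exists_pow_conj hiso (IsConj.refl z) (isConj_iff.2 ⟨g, rfl⟩)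
    have h1 := Block.zstar hiso g
    rw [TT.inv_eq_of_mul_self (TT.mul_self_of_orderOf_two hz), mul_assoc z, mul_assoc z] at h1
    have h2 : ((z * (g * z * g⁻¹)) ^ k)⁻¹ * g ∈ Subgroup.centralizer ({z} : Set G) :=
      Subgroup.mem_centralizer_singleton_iff.2 (TT.comm_of_conj_eq (by
        calc _ = ((z * (g * z * g⁻¹)) ^ k)⁻¹ * (g * z * g⁻¹) * (z * (g * z * g⁻¹)) ^ k := by group
          _ = z := by
            conv_lhs => arg 1; arg 2; rw [← hk]
            group))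
    simpa using mul_mem (Subgroup.mem_sup_right (pow_mem h1 k)) (Subgroup.mem_sup_left h2)
  right
  have hlx : TT.LX (TT.O2C z) z := TT.LX_O2C hz ((TT.exists_XS_of_isExtraspecial hJ).elim
    fun y hy => (hy.map _ fun _ _ e => Subtype.ext e).isExtraspecial) fun c hc =>
    ⟨⟨c, Subgroup.mem_centralizer_singleton_iff.2
      (hc z (TT.self_mem_O2C (TT.mul_self_of_orderOf_two hz))).symm⟩,
      hCJ fun x hx => Subtype.ext (hc x ⟨x, hx, rfl⟩), rfl⟩
  obtain ⟨x, σ, ρ, h, hK⟩ := F24.exists_F24G hz hlx hJc hJM hMK hM3 Class.card_GF9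
    (e.trans (Class.psuCongr 4 3 (FiniteField.ringEquivOfCardEq (hL.trans Class.card_GF9.symm))))
  obtain ⟨s, hs, hsQ, hne⟩ : ∃ s, IsConj z s ∧ s ∈ TT.O2C z ∧ s ≠ z := by
    by_contra hn
    push Not at hn
    exact hiso ⟨hz, fun g hg => h.eq_of_weaklyClosed
      (t := ⟨_, Subgroup.mem_centralizer_singleton_iff.2 hg.symm⟩) hn (isConj_iff.2 ⟨g, rfl⟩)⟩
  have iso : ∀ {X : Type _} [Group X] [Finite X] {z : X} {Q x σ ρ}, F24.F24S z Q x σ ρ →
      Spor.IsoFi24' X := fun h =>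
    let ⟨_, h1, h2, _⟩ := h.exists_equiv
    ⟨(MonoidHom.ofInjective h1).trans (MulEquiv.subgroupCongr h2)⟩
  have c1 : K.index = (F24.KT TT.UQ.om).relIndex ρ.range := by
    rw [← Subgroup.index_comap]
    exact congrArg _ (Subgroup.ext hK)
  have c2 := Grp.card_mul_relIndex h.ge
  have c3 := Grp.card_mul_relIndex h.le
  rw [← c1, F24.card_KT F24.om_ne] at c2
  rw [F24.card_GT, ← c2, mul_assoc, mul_comm, mul_left_inj' (by norm_num)] at c3
  obtain ⟨i, h2, c4⟩ := (Nat.dvd_prime_pow Nat.prime_two (m := 2)).1 ⟨_, c3.symm⟩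
  interval_cases i
  · rw [c1, pow_zero, Subgroup.relIndex_eq_one] at c4
    exact absurd (F24.psi_semi 0) (F24.KT_lin F24.om_ne
      (c4 (h.psi_mem (h.isConj_s1 hs hsQ hne)))).not_semi
  · exact Or.inl ⟨c4, iso (h.toS (by omega) hs hsQ hne)⟩
  · obtain ⟨N, h3, h4, _, _, _, _, _, h5⟩ := h.exists_sub
      (Subgroup.relIndex_eq_one.1 (by rw [c4] at c3; omega)) hs hsQ hne
    obtain ⟨e'⟩ := iso h5
    refine Or.inr ⟨c4, ?_, (TT.exists_equiv_fi24_of_index_two N h3 e' h4).elim fun ψ _ => ⟨ψ⟩⟩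
    rintro ⟨y⟩
    exact (pow_two _).trans ((QuotientGroup.eq_one_iff (y * y)).2
      ((hK _).2 (map_mul ρ y y ▸ F24.sq_mem_KT (h.le ⟨y, rfl⟩))))

end Cfsg.Agent.S3234
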