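import Cfsg.Statements.S3239
import Cfsg.Agent.JTW.WCMain

set_option autoImplicit false
open Cfsg

namespace Cfsg.Agent.S3239


/-- Let t be an involution of a finite group G lying in the centre of a Sylow 2-subgroup of G, and suppose the weak closure of t in C_G(t) — the subgroup generated by all G-conjugates of t that commute with t — is isomorphic to Z₂ × A₅. Then the normal closure ⟨t^G⟩ of t in G is isomorphic to the first Janko group J₁. -/
theorem result {G : Type*} [Group G] [Finite G]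
    (t : G) (ht : orderOf t = 2) (S : Sylow 2 G) (htS : t ∈ (S : Subgroup G)) (htc : ∀ s ∈ (S : Subgroup G), s * t = t * s)
    (hW : Nonempty (↥(Subgroup.closure {x : G | ∃ g : G, x = g * t * g⁻¹ ∧ x * t = t * x}) ≃*
      (Multiplicative (ZMod 2) × ↥(alternatingGroup (Fin 5))))) :
    Cfsg.Spor.IsoJ1 ↥(Subgroup.normalClosure ({t} : Set G)) := by
  obtain ⟨e⟩ := hW
  set W := Subgroup.closure {x : G | ∃ g : G, x = g * t * g⁻¹ ∧ x * t = t * x} with hWd
  let φ : JTW.KK →* G := W.subtype.comp e.symm.toMonoidHom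
  have hφ : ∀ x ∈ W, ∃ y, φ y = x := fun x hx => ⟨e ⟨x, hx⟩, by simp [φ]⟩
  have hφ' : ∀ y, φ y ∈ W := fun y => (e.symm y).2
  have hC : W ≤ Subgroup.centralizer {t} := (Subgroup.closure_le _).2 fun x ⟨_, _, hx⟩ =>
    Subgroup.mem_centralizer_singleton_iff.2 hx
  have htW : t ∈ W := Subgroup.subset_closure ⟨1, by simp, rfl⟩
  have hc : ∀ y, e ⟨t, htW⟩ * y = y * e ⟨t, htW⟩ := fun y => by
    obtain ⟨z, rfl⟩ := e.surjective y
    rw [← map_mul, ← map_mul]
    exact congrArg e (Subtype.ext (Subgroup.mem_centralizer_singleton_iff.1 (hC z.2)).symm)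
  have h1 : φ JTW.t0 = t := by
    rcases JTW.center_KK _ (hc _) (hc _) (hc _) with h | h
    · exact absurd (congrArg Subtype.val (e.injective (h.trans (map_one e).symm)))
        (Inv.ne_one_of_orderOf_two ht)
    · simp [φ, ← h]
  have hinj : Function.Injective φ := (Subgroup.subtype_injective _).comp e.symm.injective
  rw [← h1]
  refine JTW.WC.isoJ1 _ G rfl φ ⟨hinj, fun s hs hc => ?_, fun c hc y => hφ _ ?_ |>.imp
    fun _ => Eq.symm, ?_, fun P hP => ?_⟩
  · obtain ⟨g, rfl⟩ := isConj_iff.1 hs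
    rw [h1] at hc ⊢
    exact hφ _ (Subgroup.subset_closure ⟨g, rfl, hc⟩)
  · rw [h1] at hc
    have h2 : W ≤ W.comap (MulAut.conj c⁻¹).toMonoidHom := (Subgroup.closure_le _).2 (by
      rintro _ ⟨g, rfl, hg⟩
      refine Subgroup.subset_closure ⟨c⁻¹ * g, by simp [mul_assoc], ?_⟩
      simpa [mul_assoc, ← hc] using
        (Commute.map (show Commute (g * t * g⁻¹) t from hg) (MulAut.conj c⁻¹)).eq)
    simpa using h2 (hφ' y)
  · by_contra h2
    push Not at h2
    have h3 : W ≤ Subgroup.centralizer {φ JTW.r0} := (Subgroup.closure_le _).2 (by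
      rintro _ ⟨g, rfl, hg⟩
      rw [← h1] at hg ⊢
      rw [h2 _ (isConj_iff.2 ⟨g, rfl⟩) hg]
      exact Subgroup.mem_centralizer_singleton_iff.2 (by rw [← map_mul, ← map_mul, JTW.t0_comm]))
    have h4 := JTW.τ_cent_r 2 (hinj (by
      simpa using Subgroup.mem_centralizer_singleton_iff.1 (h3 (hφ' (JTW.τ0 2)))))
    omega
  · obtain ⟨g, -, hg⟩ := (PLocal.Amb.isSyl_top S).exists_cj_le hP le_top
    refine ⟨g⁻¹, fun x hx => ?_⟩
    have h2 := htc _ (hg (PLocal.Amb.conj_mem_cj g hx))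
    rw [h1]
    calc _ = g⁻¹ * (g * x * g⁻¹ * t) * g := by group
      _ = _ := by rw [h2]; group

end Cfsg.Agent.S3239
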