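import Cfsg.Statements.S3244
import Mathlib
import Cfsg.Agent.S3110
import Cfsg.Agent.S0215
import Cfsg.Agent.PLocal.ConstrAmb
import Cfsg.Agent.Misc.Four


set_option autoImplicit false
open Cfsg

namespace Cfsg.Agent.S3244

open Subgroup Cfsg.Agent.PLocal Cfsg.Agent.PLocal.CA Cfsg.Agent.PLocal.Amb Cfsg.Agent.Inv.CoreSig

variable {G : Type*} [Group G] [Finite G]

theorem key (hc : ∀ t : G, orderOf t = 2 → CP.IsCharP 2 (centralizer ({t} : Set G)))
    (h : ∀ M : Subgroup G, IsMaximalTwoLocal M → IsCyclic (center (pCore 2 M)))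
    {R : Subgroup G} (hR : IsPGroup 2 R) (h1 : R ≠ ⊥) :
    ∃ w : G, orderOf w = 2 ∧ 𝐍[R] ≤ centralizer {w} ∧ ∀ T, IsSyl 2 T (centralizer {w}) →
      ∀ u ∈ centralizer {w}, orderOf u = 2 → T ≤ centralizer {u} → u = w := by
  obtain ⟨M, hM, hRM, hmax⟩ := exists_maximal_ge IsTwoLocal (K := 𝐍[R]) ⟨R, hR, h1, rfl⟩
  have hcyc := h M ⟨hM, hmax⟩
  obtain ⟨Q, hQ, hQ1, e⟩ := hM
  have hQM : Q ≤ pCoreOf 2 M := le_pCoreOf hQ (e ▸ le_normalizer) e.le
  obtain ⟨w, hw, hwc, hw2⟩ := exists_central_prime (isPGroup_pCoreOf 2 M)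
    fun h => hQ1 (le_bot_iff.1 (h ▸ hQM))
  let f : center (pCore 2 M) →* G := M.subtype.comp ((pCore 2 M).subtype.comp (center _).subtype)
  have : IsCyclic f.range := isCyclic_of_surjective _ f.rangeRestrict_surjective
  have hf : ∀ u ∈ pCoreOf 2 M, u ∈ 𝐂[pCoreOf 2 M] → u ∈ f.range := by
    rintro _ ⟨u, hu, rfl⟩ huc
    exact ⟨⟨⟨u, hu⟩, mem_center_iff.2 fun y => Subtype.ext (Subtype.ext
      (huc _ ⟨y, y.2, rfl⟩))⟩, rfl⟩
  have huniq : ∀ u ∈ pCoreOf 2 M, u ∈ 𝐂[pCoreOf 2 M] → orderOf u = 2 → u = w :=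
    fun u hu huc hu2 => Misc.eq_of_isCyclic_of_orderOf_two (hf u hu huc) (hf w hw hwc) hu2 hw2
  have hMw : M ≤ centralizer {w} := fun g hg => by
    have hn := le_normalizer_pCoreOf 2 M hg
    have := huniq (g * w * g⁻¹) (conj_mem_of_mem_normalizer hn hw)
      (conj_mem_of_mem_normalizer (normalizer_le_normalizer_centralizer _ hn) hwc)
      (by rw [orderOf_conj', hw2])
    exact mem_centralizer_singleton_iff.2 (mul_inv_eq_iff_eq_mul.1 this)
  have hM : centralizer {w} = M := hmax _ ⟨zpowers w, isPGroup_zpowers ⟨1, by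
    rw [pow_one, ← hw2, pow_orderOf_eq_one]⟩, fun h => by
      rw [zpowers_eq_bot] at h
      simp [h] at hw2, (normalizer_zpowers_involution hw2).symm⟩ hMw
  refine ⟨w, hw2, hRM.trans hMw, fun T hT u hu hu2 hTu => ?_⟩
  have hcw := hc w hw2
  rw [hM] at hT hu hcw
  have huc : u ∈ 𝐂[pCoreOf 2 M] := fun y hy =>
    mem_centralizer_singleton_iff.1 (hTu (hT.pCoreOf_le hy))
  exact huniq u (hcw ⟨hu, huc⟩) huc hu2

omit [Finite G] in
theorem mem_centralizer_comm {a b : G} (h : a ∈ centralizer {b}) : b ∈ centralizer {a} :=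
  mem_centralizer_singleton_iff.2 (mem_centralizer_singleton_iff.1 h).symm

theorem main (hc : ∀ t : G, orderOf t = 2 → CP.IsCharP 2 (centralizer ({t} : Set G)))
    (h : ∀ M : Subgroup G, IsMaximalTwoLocal M → IsCyclic (center (pCore 2 M)))
    {R : Subgroup G} (hR : IsPGroup 2 R) (h1 : R ≠ ⊥) {y z : G} (hy : orderOf y = 2)
    (hz : orderOf z = 2) (hy' : ∃ T, IsSyl 2 T ⊤ ∧ T ≤ centralizer {y})
    (hz' : ∃ T, IsSyl 2 T ⊤ ∧ T ≤ centralizer {z}) (hRy : R ≤ centralizer {y})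
    (hRz : R ≤ centralizer {z}) : y = z := by
  induction R using WellFoundedGT.induction generalizing y z with | ind R ih => ?_
  obtain ⟨w, hw, hRw, hwu⟩ := key hc h hR h1
  have hw' : ∃ T, IsSyl 2 T ⊤ ∧ T ≤ centralizer {w} := by
    obtain ⟨T, hT, hwT⟩ := exists_isSyl_ge (p := 2) (R := zpowers w) (L := centralizer {w})
      (isPGroup_zpowers ⟨1, by rw [pow_one, ← hw, pow_orderOf_eq_one]⟩)
      (zpowers_le.2 (mem_centralizer_singleton_iff.2 rfl))
    obtain ⟨S, hS, hTS⟩ := exists_isSyl_ge hT.pgrp le_top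
    have hwS := hTS (hwT (mem_zpowers w))
    obtain ⟨u, -, huc, hu2⟩ := exists_central_prime hS.pgrp fun h => by
      rw [h, mem_bot] at hwS
      simp [hwS] at hw
    have hSu : S ≤ centralizer {u} := fun s hs => mem_centralizer_singleton_iff.2 (huc s hs)
    exact ⟨S, hS, hwu T hT u (mem_centralizer_comm (hSu hwS)) hu2 (hTS.trans hSu) ▸ hSu⟩
  have step : ∀ z : G, orderOf z = 2 → (∃ T, IsSyl 2 T ⊤ ∧ T ≤ centralizer {z}) →
      R ≤ centralizer {z} → z = w := by
    rintro z hz ⟨T, hT, hTz⟩ hRz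
    obtain ⟨S, hS, hRS⟩ := exists_isSyl_ge hR hRz
    have hS' := hS.of_le_of_isSyl le_top hT hTz
    rcases hRS.eq_or_lt with rfl | hlt
    · refine hwu R (hS'.mono (le_normalizer.trans hRw) le_top) z (hRw ?_) hz hRz
      exact centralizer_le_normalizer' R fun s hs => mem_centralizer_singleton_iff.1 (hRz hs)
    · have h2 := lt_inf_normalizer hS.pgrp hlt
      exact ih _ h2 (hS.pgrp.to_le inf_le_left) (fun h => h1 (le_bot_iff.1 (h ▸ h2.le))) hz hw
        ⟨T, hT, hTz⟩ hw' (inf_le_left.trans hS.le) (inf_le_right.trans hRw)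
  rw [step y hy hy' hRy, step z hz hz' hRz]


/-- Say that a finite group G is of characteristic 2 type in the early sense when a Sylow 2-subgroup S of G has a self-centralizing normal subgroup of rank at least 3, S normalizes no nontrivial subgroup of odd order, and every 2-local subgroup of G is 2-constrained. If G is a non-abelian simple group of characteristic 2 type in this sense, then for some maximal 2-local subgroup M of G the centre of O₂(M) is not cyclic. -/
theorem result {G : Type*} [Group G] [Finite G] [IsSimpleGroup G]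
    (hG : ¬ IsMulCommutative G) (S : Sylow 2 G) (A : Subgroup G) (hA : Cfsg.IsSCN (S : Subgroup G) A) (hA3 : ¬ Cfsg.PRankLE 2 2 ↥A)
    (hinv : ∀ X : Subgroup G, Odd (Nat.card ↥X) → (S : Subgroup G) ≤ Subgroup.normalizer (X : Set G) → X = ⊥)
    (hcon : ∀ T : Subgroup G, IsPGroup 2 ↥T → T ≠ ⊥ → Cfsg.IsPConstrained 2 ↥(Subgroup.normalizer (T : Set G))) :
    ∃ M : Subgroup G, Cfsg.IsMaximalTwoLocal M ∧ ¬ IsCyclic ↥(Subgroup.center ↥(Cfsg.pCore 2 ↥M)) := by
  by_contra hne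
  push Not at hne
  have hA3' : ¬ PRankLE 2 2 (A.subgroupOf S) := by
    obtain ⟨E, h1, h2, h3⟩ := exists_ea_of_not_pRankLE hA3
    refine not_pRankLE_of_ea (E := E.subgroupOf S) ⟨⟨⟨fun a b => Subtype.ext (Subtype.ext
      (ea_comm h2 a.2 b.2))⟩⟩, fun a ha => Subtype.ext (h2.2 a ha)⟩ (comap_mono h1) ?_
    rw [Nat.card_congr (subgroupOfEquivOfLe (h1.trans hA.1)).toEquiv]
    omega
  have hAC : 𝐂[A.subgroupOf S] = A.subgroupOf S := by
    rw [centralizer_subgroupOf hA.1, ← inf_subgroupOf_left, hA.2.2]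
  have hS1 : ¬ PRankLE 2 1 (S : Subgroup G) := by
    obtain ⟨E, h1, h2, h3⟩ := exists_ea_of_not_pRankLE hA3
    exact not_pRankLE_of_ea h2 (h1.trans hA.1) (by omega)
  obtain ⟨W, hW, hW'⟩ := S3110.result hcon S (A.subgroupOf S) (normal_subgroupOf' hA.2.1)
    ⟨⟨fun a b => Subtype.ext ((hAC.ge b.2) a a.2)⟩⟩ hAC hA3' S
  obtain ⟨h1, h2⟩ := hW' S le_rfl hS1
  rw [hinv W hW (le_normalizer.trans h2)] at h1
  have hc : ∀ t : G, orderOf t = 2 → CP.IsCharP 2 (centralizer ({t} : Set G)) := fun t ht => by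
    have ht1 : t ≠ 1 := fun h => by simp [h] at ht
    obtain ⟨g, -, hg⟩ := (isSyl_top S).exists_cj_le (R := zpowers t) (isPGroup_zpowers ⟨1, by
      rw [pow_one, ← ht, pow_orderOf_eq_one]⟩) le_top
    have h3 : centralizerPPrimeCore 2 (g * t * g⁻¹) ≤ ⊥ := h1 ▸ le_iSup
      (fun b : {b : G // b ∈ (S : Subgroup G) ∧ b ≠ 1} => centralizerPPrimeCore 2 (b : G))
      ⟨_, hg (conj_mem_cj g (mem_zpowers t)), by simpa using ht1⟩
    rw [le_bot_iff, centralizerPPrimeCore_conj, cj_eq_bot] at h3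
    exact isCharP_iff_constr.2 ⟨constrained_centralizer hcon ht,
      (map_eq_bot_iff_of_injective _ (subtype_injective _)).1 h3⟩
  obtain ⟨z, hz, hzc, hz2⟩ := exists_central_prime S.isPGroup' fun h => hS1 (by
    intro B _ _
    have := card_le_card_group B
    rw [card_eq_one.2 h] at this
    omega)
  have hSz : (S : Subgroup G) ≤ centralizer {z} := fun s hs =>
    mem_centralizer_singleton_iff.2 (hzc s hs)
  obtain ⟨N, hN, hodd, hzN⟩ := S0215.result S z hz2 hz fun g hg => by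
    have hy : orderOf (g * z * g⁻¹) = 2 := by rw [orderOf_conj', hz2]
    refine main hc hne (R := zpowers (g * z * g⁻¹)) (S.isPGroup'.to_le (zpowers_le.2 hg))
      (fun h => ?_) hy hz2 ⟨_, cj_top g ▸ (isSyl_top S).cj g, ?_⟩ ⟨_, isSyl_top S, hSz⟩
      (zpowers_le.2 (mem_centralizer_singleton_iff.2 rfl)) (zpowers_le.2 (hSz hg))
    · rw [zpowers_eq_bot] at h
      simp [h] at hy
    · rw [centralizer_singleton_conj]
      exact cj_mono g hSz
  rcases hN.eq_bot_or_eq_top with rfl | rfl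
  · have hz' : z ∈ center G := mem_center_iff.2 fun g => by
      have := mem_bot.1 (hzN g)
      rw [mul_inv_eq_one, mul_inv_eq_iff_eq_mul] at this
      exact this.symm
    rcases (inferInstance : (center G).Normal).eq_bot_or_eq_top with h | h
    · rw [h, mem_bot] at hz'
      simp [hz'] at hz2
    · exact hG ⟨⟨fun a b => mem_center_iff.1 (h.ge (mem_top b)) a⟩⟩
  · exact (Nat.not_even_iff_odd.2 hodd) (even_iff_two_dvd.2
      (hz2 ▸ Subgroup.orderOf_dvd_natCard _ (mem_top z)))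

end Cfsg.Agent.S3244
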