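import Cfsg.Statements.S3245
import Cfsg.Agent.Bender.Cor
import Cfsg.Agent.Inv.CCInv
import Cfsg.Agent.PLocal.AmbSyl

set_option autoImplicit false
open Cfsg

namespace Cfsg.Agent.S3245

open Subgroup Cfsg.Agent.PLocal Cfsg.Agent.PLocal.Amb

/-- A finite non-abelian simple group in which all maximal 2-local subgroups are conjugate is isomorphic to L₂(2ⁿ), Sz(2ⁿ) or U₃(2ⁿ) for some n ≥ 2. -/
theorem result {G : Type*} [Group G] [Finite G] [IsSimpleGroup G] (hG : ¬ IsMulCommutative G)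
    (h1 : ∀ M M' : Subgroup G, Cfsg.IsMaximalTwoLocal M → Cfsg.IsMaximalTwoLocal M' → ∃ g : G, M' = M.map (MulAut.conj g).toMonoidHom) :
    (∃ (F : Type) (_ : Field F) (_ : Fintype F) (n : ℕ), 2 ≤ n ∧ Fintype.card F = 2 ^ n ∧
        Nonempty (G ≃* Matrix.ProjectiveSpecialLinearGroup (Fin 2) F)) ∨
      Cfsg.Lie.IsoSuzuki G ∨
      (∃ (F : Type) (_ : Field F) (_ : Fintype F) (n : ℕ), 2 ≤ n ∧ Fintype.card F = (2 ^ n) ^ 2 ∧ Nonempty (G ≃* Cfsg.PSU 3 F (2 ^ n))) := by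
  have hns : ¬ Group.IsSolvable G := fun hs => hG ⟨⟨IsSimpleGroup.comm_iff_isSolvable.2 hs⟩⟩
  have hex : ∀ X : Subgroup G, IsPGroup 2 X → X ≠ ⊥ → ∃ M, IsMaximalTwoLocal M ∧ 𝐍[X] ≤ M := by
    intro X hX hX1
    obtain ⟨M, h1, h2, h3⟩ := (Set.toFinite {M : Subgroup G | IsTwoLocal M}).exists_le_maximal
      (a := 𝐍[X]) ⟨X, hX, hX1, rfl⟩
    exact ⟨M, ⟨h2, fun N hN h => le_antisymm (h3 hN h) h⟩, h1⟩
  obtain ⟨t, ht⟩ := Inv.CCInv.exists_involution_of_not_solvable hns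
  obtain ⟨S, hS, htS⟩ := exists_isSyl_ge (p := 2) (L := ⊤) (R := zpowers t)
    (isPGroup_zpowers ⟨1, by rw [pow_one, ← ht, pow_orderOf_eq_one]⟩) le_top
  have hS1 : S ≠ ⊥ := fun e => CIT.ne_one_of_orderOf ht (mem_bot.1 (e ▸ htS (mem_zpowers t)))
  obtain ⟨M, hM, hSM⟩ := hex S hS.pgrp hS1
  have hSM' : S ≤ M := le_normalizer.trans hSM
  have key : ∀ X : Subgroup G, IsPGroup 2 X → X ≠ ⊥ → ∀ M₁ M₂ : Subgroup G, IsMaximalTwoLocal M₁ →
      IsMaximalTwoLocal M₂ → X ≤ M₁ → X ≤ M₂ → M₁ = M₂ := by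
    intro X
    induction X using WellFoundedGT.induction with | ind X ih => ?_
    intro hX hX1 M₁ M₂ hM₁ hM₂ hl₁ hl₂
    by_cases hs : IsSyl 2 X ⊤
    · have aux : ∀ M' : Subgroup G, IsMaximalTwoLocal M' → X ≤ M' →
          ∃ g : G, cj(g, S) = X ∧ cj(g, M) = M' := by
        intro M' hM' hl
        obtain ⟨g, rfl⟩ := h1 M M' hM hM'
        obtain ⟨m, hm, e⟩ := (hs.mono hl le_top).exists_cj_eq ((hS.mono hSM' le_top).cj g)
        exact ⟨m * g, by rw [cj_mul, e], by rw [cj_mul, cj_of_mem hm]⟩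
      obtain ⟨g₁, e₁, rfl⟩ := aux M₁ hM₁ hl₁
      obtain ⟨g₂, e₂, rfl⟩ := aux M₂ hM₂ hl₂
      have : g₁⁻¹ * g₂ ∈ M := hSM (cj_eq_iff.1 (by rw [cj_mul, e₂, ← e₁, cj_inv_cj]))
      rw [← cj_of_mem this, ← cj_mul, mul_inv_cancel_left, cj_of_mem this]
    · obtain ⟨M₃, hM₃, hl₃⟩ := hex X hX hX1
      have aux : ∀ M' : Subgroup G, IsMaximalTwoLocal M' → X ≤ M' → M' = M₃ := by
        intro M' hM' hl
        obtain ⟨T, hT, hXT⟩ := exists_isSyl_ge hX hl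
        obtain ⟨g, rfl⟩ := h1 M M' hM hM'
        have hT' := hT.of_le_of_isSyl le_top (by simpa only [cj_top] using hS.cj g) (cj_mono g hSM')
        have hlt := lt_inf_normalizer hT.pgrp (lt_of_le_of_ne hXT fun e => hs (e ▸ hT'))
        exact ih _ hlt (hT.pgrp.to_le inf_le_left) (ne_bot_of_gt hlt) _ _ hM' hM₃
          (inf_le_left.trans hT.le) (inf_le_right.trans hl₃)
      rw [aux M₁ hM₁ hl₁, aux M₂ hM₂ hl₂]
  refine Bender.ident_simple (Bender.exists_ne_of_not_comm hG) (H := M)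
    (Inv.isStronglyEmbedded_of_normalizers ?_ (even_iff_two_dvd.2
      (ht ▸ orderOf_dvd_natCard M (hSM' (htS (mem_zpowers t))))) fun X hXM hX hX1 => ?_)
  · obtain ⟨T, hT, hT1, rfl⟩ := hM.1
    intro e
    obtain rfl := (normalizer_eq_top_iff.1 e).eq_bot_or_eq_top.resolve_left hT1
    have := (hT.of_equiv topEquiv).isNilpotent
    exact hns inferInstance
  · obtain ⟨M', hM', hl⟩ := hex X hX hX1
    rwa [key X hX hX1 M M' hM hM' hXM (le_normalizer.trans hl)]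

end Cfsg.Agent.S3245
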