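import Cfsg.Statements.S3246
import Cfsg.Agent.PLocal.ConstrAmb
import Cfsg.Agent.Inv.CoreSig
import Cfsg.Agent.Grp.PChain
import Cfsg.Agent.Solv.Coprime3
import Cfsg.Agent.PLocal.ThompsonBender
-- import your own Cfsg.Agent.* helpers here

set_option autoImplicit false
open Cfsg

namespace Cfsg.Agent.S3246

open Subgroup Cfsg.Agent.PLocal Cfsg.Agent.PLocal.CA Cfsg.Agent.PLocal.Amb
open scoped commutatorElement

theorem centralizer_eq_bot {G : Type*} [Group G] [Finite G] (S : Sylow 2 G) {v : G}
    (hv : CP.IsCharP 2 (centralizer ({v} : Set G)))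
    (hi : (centralizer ({v} : Set G)).relIndex (S : Subgroup G) ≤ 2)
    {X : Subgroup G} (hX : Odd (Nat.card X)) (hSX : (S : Subgroup G) ≤ 𝐍[X]) :
    X ⊓ centralizer {v} = ⊥ := by
  have : Fact (Nat.Prime 2) := ⟨Nat.prime_two⟩
  set H := centralizer ({v} : Set G) with hH
  set K := X ⊓ H with hK
  set S₀ := (S : Subgroup G) ⊓ H with hS₀
  have hS₀K : S₀ ≤ 𝐍[K] := le_normalizer_inf (inf_le_left.trans hSX) (inf_le_right.trans le_normalizer)
  obtain ⟨T, hT, hS₀T⟩ := exists_isSyl_ge (S.isPGroup'.to_le (inf_le_left : S₀ ≤ S)) (inf_le_right : S₀ ≤ H)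
  set R := pCoreOf 2 H with hR
  have hRT : R ≤ T := hT.pCoreOf_le
  have hTS : Nat.card T ≤ Nat.card (S : Subgroup G) := (isSyl_top S).card_le hT.pgrp le_top
  have hi1 : S₀.relIndex T ≤ 2 := by
    have e1 : S₀.relIndex T * Nat.card S₀ = Nat.card T := by
      rw [← Nat.card_congr (subgroupOfEquivOfLe hS₀T).toEquiv]
      exact index_mul_card _
    have e2 : S₀.relIndex S * Nat.card S₀ = Nat.card (S : Subgroup G) := by
      rw [← Nat.card_congr (subgroupOfEquivOfLe (inf_le_left : S₀ ≤ S)).toEquiv]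
      exact index_mul_card _
    rw [hS₀, inf_relIndex_left] at e2
    have hpos : 0 < Nat.card S₀ := Nat.card_pos
    have : S₀.relIndex T * Nat.card S₀ ≤ 2 * Nat.card S₀ := by
      rw [e1]; refine hTS.trans ?_
      rw [← e2]; exact Nat.mul_le_mul_right _ hi
    exact Nat.le_of_mul_le_mul_right this hpos
  have hi2 : S₀.relIndex R ≤ 2 := (relIndex_le_of_le_right hRT index_ne_zero_of_finite).trans hi1
  have hKodd : (Nat.card K).Coprime 2 :=
    Nat.Coprime.of_dvd_left (card_dvd_of_le inf_le_left) (Nat.coprime_two_right.2 hX)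
  have hKR : K ≤ 𝐍[R] := inf_le_right.trans (le_normalizer_pCoreOf 2 H)
  have hRp : IsPGroup 2 R := isPGroup_pCoreOf 2 H
  have hc0 : ∀ r ∈ R, r ∈ S₀ → r ∈ 𝐂[K] := fun r hr hr0 =>
    TB.mem_centralizer_of_mem_normalizer hRp hKodd hKR hr (hS₀K hr0)
  rw [eq_bot_iff]
  intro k hk
  have hko : (orderOf k).Coprime 2 := Nat.Coprime.of_dvd_left (K.orderOf_dvd_natCard hk) hKodd
  refine hv.eq_one hk.2 hko ?_
  refine CP.mem_centralizer_of_commutator_mem (U := R ⊓ S₀) (hRp.to_le inf_le_left) hko ?_ ?_
  · rw [mem_centralizer_iff]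
    intro r hr
    exact (mem_centralizer_iff.1 (hc0 r hr.1 hr.2) k hk).symm
  · intro r hr
    have hr' : k * r * k⁻¹ ∈ R := conj_mem_of_mem_normalizer (hKR hk) hr
    refine ⟨R.mul_mem hr' (inv_mem hr), ?_⟩
    by_cases h0 : r ∈ S₀
    · have := mem_centralizer_iff.1 (hc0 r hr h0) k hk
      rw [commutatorElement_eq_one_iff_mul_comm.2 this]
      exact one_mem _
    · have h1 : k * r * k⁻¹ ∉ S₀ := by
        intro h1
        have := mem_centralizer_iff.1 (hc0 _ hr' h1) k hk
        apply h0
        have e : k * r * k⁻¹ = r := by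
          have e2 : k * (k * r * k⁻¹) = k * r := by rw [this]; group
          exact mul_left_cancel e2
        exact e ▸ h1
      have hi3 : (S₀.subgroupOf R).index = 2 := by
        have a1 : (S₀.subgroupOf R).index ≠ 0 := index_ne_zero_of_finite
        have a2 : (S₀.subgroupOf R).index ≠ 1 := by
          rw [Ne, index_eq_one]
          intro e
          exact h0 (mem_subgroupOf.1 (e ▸ mem_top (⟨r, hr⟩ : R)))
        have a3 : (S₀.subgroupOf R).index ≤ 2 := hi2
        omega
      have := (mul_mem_iff_of_index_two hi3 (a := ⟨_, hr'⟩) (b := ⟨_, inv_mem hr⟩)).2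
        ⟨fun h => absurd (mem_subgroupOf.1 h) h1, fun h => absurd ((inv_mem_iff (x := r)).1 (mem_subgroupOf.1 h)) h0⟩
      exact mem_subgroupOf.1 this

/-- Let G be a finite group whose Sylow 2-subgroup S has a self-centralizing normal subgroup of rank at least 3. Suppose that either every maximal 2-local subgroup of G is 2-constrained with no nontrivial normal subgroup of odd order, or the centralizer of every involution of G is 2-constrained with no nontrivial normal subgroup of odd order. Then S normalizes no nontrivial subgroup of G of odd order and every 2-local subgroup of G is 2-constrained. -/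
theorem result {G : Type*} [Group G] [Finite G]
    (S : Sylow 2 G) (A : Subgroup G) (hA : Cfsg.IsSCN (S : Subgroup G) A) (hA3 : ¬ Cfsg.PRankLE 2 2 ↥A)
    (h : (∀ M : Subgroup G, Cfsg.IsMaximalTwoLocal M → Cfsg.IsPConstrained 2 ↥M ∧ Cfsg.oddCore ↥M = ⊥) ∨
      (∀ t : G, orderOf t = 2 → Cfsg.IsPConstrained 2 ↥(Subgroup.centralizer ({t} : Set G)) ∧
        Cfsg.oddCore ↥(Subgroup.centralizer ({t} : Set G)) = ⊥)) :
    (∀ X : Subgroup G, Odd (Nat.card ↥X) → (S : Subgroup G) ≤ Subgroup.normalizer (X : Set G) → X = ⊥) ∧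
      (∀ T : Subgroup G, IsPGroup 2 ↥T → T ≠ ⊥ → Cfsg.IsPConstrained 2 ↥(Subgroup.normalizer (T : Set G))) := by
  have : Fact (Nat.Prime 2) := ⟨Nat.prime_two⟩
  have key : ∀ t : G, orderOf t = 2 → CP.IsCharP 2 (centralizer ({t} : Set G)) := by
    intro t ht
    rcases h with h | h
    · have hp : IsPGroup 2 (zpowers t) := isPGroup_zpowers ⟨1, by rw [pow_one, ← ht, pow_orderOf_eq_one]⟩
      have h1 : zpowers t ≠ ⊥ := by
        rw [Ne, zpowers_eq_bot]
        rintro rfl
        simp at ht
      obtain ⟨M, hM, hle, hmax⟩ := exists_maximal_ge (fun M : Subgroup G => IsTwoLocal M)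
        (K := 𝐍[zpowers t]) ⟨_, hp, h1, rfl⟩
      have hc := isCharP_iff_constr.2 (h M ⟨hM, hmax⟩)
      have := hc.inf_normalizer hp ((le_normalizer.trans hle).trans le_normalizer)
      rwa [inf_eq_right.2 hle, Inv.CoreSig.normalizer_zpowers_involution ht] at this
    · exact isCharP_iff_constr.2 (h t ht)
  refine ⟨fun X hX hSX => ?_, fun T hT h1 =>
    (isCharP_iff_constr.1 (isCharP_normalizer_of_forall_centralizer key hT h1)).1⟩
  have hAc : IsMulCommutative A := by
    apply Grp.PChain.isMulCommutative_of_commute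
    intro a ha b hb
    rw [← hA.2.2] at hb
    exact mem_centralizer_iff.1 hb.2 a ha
  have hAn : (A.subgroupOf (S : Subgroup G)).Normal := normal_subgroupOf' hA.2.1
  obtain ⟨E, hEn, -, hE, h8⟩ := Inv.CoreSig.exists_normal_ea (A.subgroupOf (S : Subgroup G)) hAn
    (by
      apply Grp.PChain.isMulCommutative_of_commute
      intro a ha b hb
      exact Subtype.ext (Grp.PChain.commute_of_mem hAc (mem_subgroupOf.1 ha) (mem_subgroupOf.1 hb)))
    (by
      intro h3
      apply hA3
      intro B hB hB2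
      have e := subgroupOfEquivOfLe hA.1
      have := h3 (B.map e.symm.toMonoidHom) (by have := hB; infer_instance) (by
        rintro _ ⟨b, hb, rfl⟩
        rw [← map_pow, hB2 b hb, map_one])
      rwa [Subgroup.card_map_of_injective e.symm.injective] at this)
  obtain ⟨V, hVn, hVE, hV⟩ := Grp.PChain.exists_normal_le_card S.isPGroup' E 2 (by omega)
  have hi := Grp.PChain.index_centralizer_le_of_card_sq S.isPGroup' V hV
  set W := V.map (S : Subgroup G).subtype with hW
  have hWS : W ≤ S := map_subtype_le _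
  have hWc : Nat.card W = 2 ^ 2 := by rw [hW, Subgroup.card_map_of_injective (subtype_injective _), hV]
  have hW2 : ∀ w ∈ W, w ^ 2 = 1 := by
    rintro _ ⟨v, hv, rfl⟩
    rw [← map_pow, hE.2 v (hVE hv), map_one]
  have hWab : IsMulCommutative W := by
    have := Grp.PChain.isMulCommutative_of_le hE.1 hVE
    infer_instance
  have hnc : ¬ IsCyclic W := by
    intro hc
    obtain ⟨g, hg⟩ := hc.exists_generator
    have h1 : orderOf g = 2 ^ 2 := by
      rw [← hWc]; exact orderOf_eq_card_of_forall_mem_zpowers hg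
    have h2 : orderOf g ∣ 2 := orderOf_dvd_of_pow_eq_one (Subtype.ext (hW2 g g.2))
    rw [h1] at h2
    omega
  rw [eq_bot_iff]
  refine Solv.le_of_centralizers_le W X hnc (hWS.trans hSX) ?_ ⊥ ?_
  · rw [hWc]
    exact Nat.Coprime.pow_left _ (Nat.coprime_two_left.2 hX)
  · intro w hw hw1
    refine (centralizer_eq_bot S (key w (orderOf_eq_prime (hW2 w hw) hw1)) ?_ hX hSX).le
    refine le_trans ?_ hi
    rw [centralizer_eq_subgroupOf]
    exact relIndex_le_of_le_left (centralizer_le (Set.singleton_subset_iff.2 hw)) index_ne_zero_of_finite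

end Cfsg.Agent.S3246
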