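import Cfsg.Statements.S3250
import Cfsg.Agent.Len.N5
import Cfsg.Agent.GW.Main
import Cfsg.Agent.MaxN.Cases

set_option autoImplicit false
open Cfsg

namespace Cfsg.Agent.S3250

/-- With the length of a finite group defined as the maximum n for which there is a chain G = G₀ > G₁ > ⋯ > G_n = 1 of subgroups: a finite non-abelian simple group of length exactly 8 whose Sylow 2-subgroups have order 2⁷ is isomorphic to PSL₂(127). -/
theorem result {G : Type*} [Group G] [Finite G] [IsSimpleGroup G]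
    (hG : ¬ IsMulCommutative G) (h8 : ∃ c : Fin 9 → Subgroup G, StrictAnti c) (h9 : ∀ c : Fin 10 → Subgroup G, ¬ StrictAnti c)
    (S : Sylow 2 G) (hS : Nat.card ↥(S : Subgroup G) = 2 ^ 7) :
    ∃ (F : Type) (_ : Field F) (_ : Fintype F), Fintype.card F = 127 ∧ Nonempty (G ≃* Matrix.ProjectiveSpecialLinearGroup (Fin 2) F) := by
  have key : ∀ T : Subgroup G, PLocal.Amb.IsSyl 2 T ⊤ → Nat.card T = 2 ^ 7 := fun T hT =>
    (hT.card_eq (PLocal.Amb.isSyl_top S)).trans hS
  have h : Len.Hy G := ⟨inferInstance, hG, fun h => by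
    obtain ⟨c, hc, -⟩ := Len.Ch.exists_anti h
    exact h9 c hc, key⟩
  obtain ⟨T, n, hT, hn, e⟩ := h.dihedral
  obtain ⟨P, rfl⟩ := hT.exists_sylow_top
  rcases GW.Mn.known_of_dihSyl hG ⟨P, n, hn, e⟩ with ⟨q, F, i, j, rfl, ho, -, ⟨e⟩⟩ | ⟨⟨e⟩⟩
  · refine ⟨F, i, j, ?_, ⟨e⟩⟩
    obtain ⟨z, hz, z1, zz, hc⟩ := h.exists_z hT
    obtain ⟨p, hp⟩ := CharP.exists F
    obtain ⟨k, pp, hk⟩ := FiniteField.card F p
    have p2 : ¬ 2 ∣ p := fun e => Nat.not_even_iff_odd.2 ho
      (hk ▸ even_iff_two_dvd.2 (e.trans (dvd_pow_self p k.ne_zero)))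
    have o2 : orderOf z = 2 := orderOf_eq_prime (by rw [sq, zz]) z1
    obtain ⟨c, -, -, -, -, -, h1, h2⟩ := MaxN.exists_torus' (x := e z)
      (Ring.two_ne_zero fun e => p2 (by rw [← ringChar.eq F p, e]))
      (by rw [MulEquiv.orderOf_eq, o2, ringChar.eq F p]; exact p2)
    have h3 : Subgroup.normalizer (Subgroup.zpowers z : Set G) = P :=
      h.nor_eq hT (by simpa using z1) (Subgroup.zpowers_le.2 hz) (by
        rw [← hc, ← PLocal.Amb.centralizer_zpowers]
        exact PLocal.Amb.centralizer_le_normalizer' _)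
    have h4 := Subgroup.map_equiv_normalizer_eq (Subgroup.zpowers z) e
    rw [MonoidHom.map_zpowers, h3] at h4
    change _ = Subgroup.normalizer (SetLike.coe (Subgroup.zpowers (e z))) at h4
    rw [← h4, Subgroup.card_map_of_injective e.injective, key _ hT] at h2
    rcases h1 with h1 | h1
    · exfalso
      have h5 : p ^ (k : ℕ) = 3 * 43 := by omega
      have h6 := (Nat.prime_dvd_prime_iff_eq Nat.prime_three pp).1
        (Nat.prime_three.dvd_of_dvd_pow (h5 ▸ dvd_mul_right 3 43))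
      have h7 := (Nat.prime_dvd_prime_iff_eq (by norm_num : Nat.Prime 43) pp).1
        ((by norm_num : Nat.Prime 43).dvd_of_dvd_pow (h5 ▸ dvd_mul_left 43 3))
      omega
    · omega
  · exfalso
    have h1 := Subgroup.card_subgroup_dvd_card (P : Subgroup G)
    have h2 := two_mul_nat_card_alternatingGroup (α := Fin 7)
    rw [Nat.card_perm, Nat.card_fin, ← Nat.card_congr e.toEquiv] at h2
    rw [key _ hT, show Nat.card G = 2520 by simp [Nat.factorial] at h2; omega] at h1
    norm_num at h1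

end Cfsg.Agent.S3250
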