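import Cfsg.Statements.S3254
import Mathlib
import Cfsg.Agent.Char.DihTwoP
import Cfsg.Agent.Perm.ThreeP
import Cfsg.Agent.Char.TI
import Cfsg.Agent.Perm.PrimRel
import Cfsg.Agent.Small.Ord2520b
import Cfsg.Agent.Bender.Cor
import Cfsg.Agent.JTW.PSLFactsAux
import Cfsg.Agent.Class.U.Simple
import Cfsg.Agent.Class.U.Count
import Cfsg.Agent.Inv.ZStarCor
import Cfsg.Agent.S0483
import Cfsg.Agent.S0219
import Cfsg.Agent.S0497
import Cfsg.Agent.S1163
import Cfsg.Agent.S4706

set_option autoImplicit false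
open Cfsg

namespace Cfsg.Agent.S3254

open Subgroup MulAction Cfsg.Agent.Grp Cfsg.Agent.Grp.SelfCent Cfsg.Agent.Char Cfsg.Agent.Char.SelfC Cfsg.Agent.Small
open Matrix MatrixGroups
set_option linter.style.haveILetI false
set_option linter.unusedSectionVars false

theorem se_false {G : Type*} [Group G] [Finite G] [IsSimpleGroup G] (hG : ¬ IsMulCommutative G)
    {H : Subgroup G} (hH : IsStronglyEmbedded H) {p d c : ℕ} (hd : d + 1 = 3 * p) (hp : 5 ≤ p)
    (h1 : (d + 1) * d * (d - 1) ∣ Nat.card G) (h2 : ∀ k, 2 ^ k ∣ Nat.card G → 2 ^ k ∣ d)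
    (h3 : (d - 1) * p * c ^ 2 = Nat.card G * d) : False := by
  have hle := Nat.le_of_dvd Nat.card_pos h1
  rcases Bender.ident_simple (Bender.exists_ne_of_not_comm hG) hH with
    ⟨F, _, _, n, hn, hF, ⟨e⟩⟩ | ⟨F, _, _, m, hm, hF, ⟨e⟩⟩ | ⟨F, _, _, n, hn, hF, ⟨e⟩⟩
  · have h4 := Class.gcd_mul_card_PSL2 (F := F)
    have h5 : 4 ≤ 2 ^ n := Bender.four_le_two_pow hn
    have h6 : 2 ∣ 2 ^ n := dvd_pow_self 2 (by omega)
    rw [hF, ← Nat.card_congr e.toEquiv,
      show Nat.gcd 2 (2 ^ n - 1) = 1 from (Nat.coprime_two_left.2 (by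
        rw [Nat.odd_iff]; omega)), one_mul] at h4
    have h7 := Nat.le_of_dvd (by omega) (h2 n (h4 ▸ dvd_mul_right _ _))
    generalize hq : 2 ^ n = q at *
    obtain ⟨q, rfl⟩ : ∃ r, q = r + 1 := ⟨q - 1, by omega⟩
    obtain ⟨d, rfl⟩ : ∃ r, d = r + 1 := ⟨d - 1, by omega⟩
    rw [show (q + 1) ^ 2 - 1 = (q + 2) * q by
      rw [show (q + 1) ^ 2 = (q + 2) * q + 1 by ring, Nat.add_sub_cancel]] at h4
    rw [h4, Nat.add_sub_cancel] at hle h3
    obtain rfl : d = q := by
      by_contra hne
      have h8 : q + 1 ≤ d := by omega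
      have := Nat.mul_le_mul (Nat.mul_le_mul (show q + 3 ≤ d + 1 + 1 by omega)
        (show q + 2 ≤ d + 1 by omega)) h8
      nlinarith
    have h8 : c ^ 2 = 3 * (d + 1) ^ 2 := by
      apply Nat.eq_of_mul_eq_mul_left (show 0 < d * p from Nat.mul_pos (by omega) (by omega))
      rw [h3, show d + 2 = 3 * p by omega]; ring
    obtain ⟨c, rfl⟩ : 3 ∣ c := Nat.prime_three.dvd_of_dvd_pow (h8 ▸ dvd_mul_right _ _)
    have h9 : 3 ∣ (d + 1) ^ 2 := ⟨c ^ 2, by nlinarith⟩
    have := Nat.prime_three.dvd_of_dvd_pow h9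
    omega
  · have h4 : 3 ∣ Nat.card G := (show 3 ∣ (d + 1) * d * (d - 1) by
      rw [hd, mul_assoc, mul_assoc]; exact dvd_mul_right _ _).trans h1
    rw [Nat.card_congr e.toEquiv, (S1163.result hm hF).1] at h4
    have h1 : 2 ^ (2 * m + 1) % 3 = 2 := by
      rw [pow_succ, pow_mul, Nat.mul_mod, Nat.pow_mod]; simp
    obtain ⟨k, hk⟩ : ∃ k, 2 ^ (2 * m + 1) = 3 * k + 2 := ⟨2 ^ (2 * m + 1) / 3, by omega⟩
    rw [hk, show 3 * k + 2 - 1 = 3 * k + 1 by omega, Nat.dvd_iff_mod_eq_zero] at h4
    simp [Nat.mul_mod, Nat.add_mod, Nat.pow_mod] at h4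
  · haveI := Class.U.UF.of_card hF
    have h4 := Class.U.card_PSU_mul (F := F) (q := 2 ^ n) (n := 3) (by norm_num)
    have h5 := Class.U.card_SU_mul (F := F) (q := 2 ^ n) (n := 3) (by norm_num)
    rw [Class.U.card_GU, ← h4, ← Nat.card_congr e.toEquiv] at h5
    simp only [Finset.prod_range_succ, Finset.range_zero, Finset.prod_empty] at h5
    norm_num at h5
    have h6 : 4 ≤ 2 ^ n := Bender.four_le_two_pow hn
    have h7 : Nat.gcd 3 (2 ^ n + 1) * Nat.card G =
        (2 ^ n) ^ 3 * (((2 ^ n) ^ 2 - 1) * ((2 ^ n) ^ 3 + 1)) := by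
      apply Nat.eq_of_mul_eq_mul_left (show 0 < 2 ^ n + 1 by omega)
      rw [h5]; ring
    have h8 : 2 ^ (n * 3) ∣ Nat.card G := by
      refine Nat.Coprime.dvd_of_dvd_mul_left (m := Nat.gcd 3 (2 ^ n + 1)) ?_ ?_
      · exact (Nat.Coprime.coprime_dvd_right (Nat.gcd_dvd_left _ _) (by norm_num :
          Nat.Coprime 2 3)).pow_left _
      · rw [h7, pow_mul]; exact dvd_mul_right _ _
    have h9 := Nat.le_of_dvd (by omega) (h2 _ h8)
    rw [pow_mul] at h9
    have h10 : Nat.card G ≤ Nat.gcd 3 (2 ^ n + 1) * Nat.card G :=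
      Nat.le_mul_of_pos_left _ (Nat.gcd_pos_of_pos_left _ (by norm_num))
    rw [h7] at h10
    generalize 2 ^ n = q at *
    have h11 : q ^ 2 < q ^ 3 := Nat.pow_lt_pow_right (by omega) (by norm_num)
    have h12 := Nat.mul_le_mul (Nat.mul_le_mul (show q ^ 3 + 1 ≤ d + 1 by omega) h9)
      (show q ^ 2 ≤ d - 1 by omega)
    have h13 : 0 < q ^ 2 := by positivity
    obtain ⟨u, hu⟩ : ∃ u, q ^ 2 = u + 1 := ⟨q ^ 2 - 1, by omega⟩
    rw [hu] at h12 h10 h11
    rw [Nat.add_sub_cancel] at h10
    have h14 : 0 < q ^ 3 := by positivity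
    nlinarith

theorem gw_false {G : Type*} [Group G] [Finite G] [IsSimpleGroup G] (hG : ¬ IsMulCommutative G)
    (S : Sylow 2 G) (hS : Nonempty ((S : Subgroup G) ≃* DihedralGroup 4)) {t : G}
    (ht : orderOf t = 2) {p : ℕ} (hpp : p.Prime) (hp : 5 ≤ p) {x : G} (hx : orderOf x = p)
    (hC : centralizer ({x} : Set G) = zpowers x) (h1 : 3 * p - 1 ∣ Nat.card G)
    (h2 : 3 * p - 2 ∣ Nat.card G) : False := by
  haveI : Group.IsPerfect G := ⟨commutator_eq_top hG⟩
  have e0 := (QuotientGroup.quotientMulEquivOfEq (Inv.ZStar.oddCore_eq_bot_of_simple ht)).trans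
    QuotientGroup.quotientBot
  rcases S0483.result S 4 (by norm_num) hS with ⟨F, _, _, hodd, -, ⟨e⟩⟩ | ⟨⟨e⟩⟩
  · replace e := e0.symm.trans e
    have h2F : (2 : F) ≠ 0 := JTW.PA.two_ne_of_odd (by
      rw [Nat.card_eq_fintype_card]; exact Nat.odd_iff.1 hodd)
    have h3 := JTW.PA.two_mul_card_PSL2 h2F
    have h4 := JTW.PA.card_cent_cases h2F (w := e x) (fun h => by
      rw [← map_mul, map_eq_one_iff _ e.injective, ← sq, ← orderOf_dvd_iff_pow_eq_one, hx] at h
      have := Nat.le_of_dvd two_pos h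
      omega)
    have h5 : Nat.card (centralizer ({e x} : Set PSL(2, F))) = p := by
      rw [← hx, ← Nat.card_zpowers, ← hC]
      refine Nat.card_congr (e.toEquiv.subtypeEquiv fun g => ?_).symm
      simp only [mem_centralizer_singleton_iff, MulEquiv.toEquiv_eq_coe, EquivLike.coe_coe,
        ← map_mul, e.injective.eq_iff]
    rw [← Nat.card_congr e.toEquiv] at h3
    rw [h5] at h4
    obtain ⟨a, ha⟩ := h1
    obtain ⟨b, hb⟩ := h2
    generalize Nat.card F = q at *
    have hq : 1 ≤ q ^ 2 := Nat.one_le_pow _ _ (by omega)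
    zify [hq, show 1 ≤ 3 * p by omega, show 2 ≤ 3 * p by omega] at h3 ha hb
    have k1 : ∀ m : ℕ, 0 < m → ((3 * p - 1 : ℤ) ∣ m * p) → 3 * p - 1 ∣ m := fun m _ h => by
      have hc : Nat.Coprime (3 * p - 1) p := by
        rw [Nat.coprime_comm, Nat.Prime.coprime_iff_not_dvd hpp]
        intro h
        have := (Nat.dvd_sub_iff_right (show 1 ≤ 3 * p by omega) (dvd_mul_left p 3)).1 h
        have := Nat.le_of_dvd one_pos this
        omega
      refine hc.dvd_of_dvd_mul_right ?_
      zify [show 1 ≤ 3 * p by omega]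
      exact h
    have k2 : ∀ m : ℕ, 0 < m → ((3 * p - 2 : ℤ) ∣ m * p) → 3 * p - 2 ∣ m := fun m _ h => by
      have hc : Nat.Coprime (3 * p - 2) p := by
        rw [Nat.coprime_comm, Nat.Prime.coprime_iff_not_dvd hpp]
        intro h
        have := (Nat.dvd_sub_iff_right (show 2 ≤ 3 * p by omega) (dvd_mul_left p 3)).1 h
        have := Nat.le_of_dvd two_pos this
        omega
      refine hc.dvd_of_dvd_mul_right ?_
      zify [show 2 ≤ 3 * p by omega]
      exact h
    rcases h4 with rfl | rfl | h4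
    · have := Nat.le_of_dvd (by norm_num) (k1 8 (by norm_num) ⟨p * (3 * p + 1) - 18 * a, by
        push_cast; linear_combination 9 * h3 - 18 * ha⟩)
      omega
    · have h6 := k1 40 (by norm_num) ⟨9 * a - p * (12 * p + 22), by
        push_cast at h3 ⊢; linarith⟩
      have h7 := k2 70 (by norm_num) ⟨9 * b - p * (12 * p + 26), by
        push_cast at h3 ⊢; linarith⟩
      have := Nat.le_of_dvd (by norm_num) h6
      have : p ≤ 13 := by omega
      interval_cases p <;> simp_all
    · have h6 : (q : ℤ) = 2 * p - 1 := by omega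
      rw [h6] at h3
      have := Nat.le_of_dvd (by norm_num) (k1 4 (by norm_num) ⟨9 * a - p * (12 * p - 14), by
        push_cast; linarith⟩)
      omega
  · replace e := e0.symm.trans e
    have h3 : Nat.card G = 2520 := by
      rw [Nat.card_congr e.toEquiv, nat_card_alternatingGroup]; simp [Nat.factorial]
    have h4 := orderOf_dvd_natCard x
    rw [h3] at h2 h4
    rw [hx] at h4
    have h5 : p ∣ 2 ^ 3 * 3 ^ 2 * 5 * 7 := h4
    have h6 : p ≤ 7 := by
      rcases (Nat.Prime.dvd_mul hpp).1 h5 with h | h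
      · rcases (Nat.Prime.dvd_mul hpp).1 h with h | h
        · rcases (Nat.Prime.dvd_mul hpp).1 h with h | h <;>
            have := Nat.le_of_dvd (by norm_num) (hpp.dvd_of_dvd_pow h) <;> omega
        · have := Nat.le_of_dvd (by norm_num) h; omega
      · exact Nat.le_of_dvd (by norm_num) h
    interval_cases p <;> simp_all

theorem imprim {G : Type*} [Group G] [Finite G] [IsSimpleGroup G]
    {p : ℕ} (hp : p.Prime) (hp3 : 3 < p) {Ω : Type*} [Fintype Ω] [MulAction G Ω]
    (htr : MulAction.IsPretransitive G Ω) (hΩ : Fintype.card Ω = 3 * p)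
    (P : Sylow p G) (hN : Nat.card ↥(Subgroup.normalizer ((P : Subgroup G) : Set G)) = 2 * p)
    (h : ¬ MulAction.IsPreprimitive G Ω) : ∃ (F : Type) (_ : Field F) (_ : Fintype F) (m : ℕ),
      Fintype.card F = 2 ^ m ∧ p = 2 ^ m + 1 ∧ Nonempty (G ≃* PSL(2, F)) := by
  classical
  haveI := Fact.mk hp
  haveI : Nontrivial Ω := Fintype.one_lt_card_iff_nontrivial.1 (by omega)
  obtain ⟨a⟩ : Nonempty Ω := inferInstance
  have hi : (stabilizer G a).index = 3 * p := by
    rw [index_stabilizer_of_transitive, Nat.card_eq_fintype_card, hΩ]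
  have hG3 : 3 * p ∣ Nat.card G := hi ▸ index_dvd_card _
  rw [← isCoatom_stabilizer_iff_preprimitive G a] at h
  obtain ⟨K, hK1, hK2⟩ : ∃ K, stabilizer G a < K ∧ K ≠ ⊤ := by
    by_contra e
    push Not at e
    exact h ⟨fun e' => by rw [e', index_top] at hi; omega, e⟩
  have hinj : Function.Injective (MulAction.toPermHom G (G ⧸ K)) := by
    rw [← MonoidHom.ker_eq_bot_iff, ← normalCore_eq_ker]
    exact Bender.normalCore_eq_bot_of_simple hK2
  haveI := Fintype.ofFinite (G ⧸ K)
  have hKi : K.index = Fintype.card (G ⧸ K) := by rw [index, Nat.card_eq_fintype_card]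
  have h1 : K.index ∣ 3 * p := hi ▸ index_dvd_of_le hK1.le
  have h2 : K.index ≠ 3 * p := fun e => hK1.ne (by
    have := relIndex_mul_index hK1.le
    rw [hi, e] at this
    exact le_antisymm hK1.le (relIndex_eq_one.1 (Nat.eq_of_mul_eq_mul_right (by omega)
      (this.trans (one_mul _).symm))))
  have h3 : p ∣ K.index := by
    have h4 := card_dvd_of_injective _ hinj
    rw [Nat.card_perm, ← index] at h4
    have h5 := (hp.dvd_factorial.1 (((dvd_mul_left p 3).trans hG3).trans h4))
    by_contra e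
    have := Nat.le_of_dvd (by norm_num)
      (((Nat.Prime.coprime_iff_not_dvd hp).2 e).symm.dvd_of_dvd_mul_right h1)
    omega
  have h4 : K.index = p := by
    obtain ⟨k, hk⟩ := h3
    rw [hk, mul_comm] at h1 h2
    rcases (Nat.dvd_prime Nat.prime_three).1 (Nat.dvd_of_mul_dvd_mul_right hp.pos h1) with rfl | rfl
    · rw [hk, mul_one]
    · exact absurd rfl h2
  let e := MonoidHom.ofInjective hinj
  let P' := P.mapSurjective (f := e.toMonoidHom) e.surjective
  have hN' : Nat.card (normalizer ((P' : Subgroup (toPermHom G (G ⧸ K)).range) :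
      Set (toPermHom G (G ⧸ K)).range)) =
      2 * p := by
    rw [← hN, show (P' : Subgroup (toPermHom G (G ⧸ K)).range) = (P : Subgroup G).map e.toMonoidHom from rfl,
      ← map_equiv_normalizer_eq, card_map_of_injective (f := e.toMonoidHom) e.injective]
  rcases S4706.result (by omega) (hKi ▸ h4) _ P' hN' with h5 | ⟨m, F, _, _, h5, h6, ⟨f⟩⟩
  · exfalso
    rw [normalizer_eq_top, card_top, ← Nat.card_congr e.toEquiv] at hN'
    rw [hN'] at hG3
    have := Nat.le_of_dvd (by omega) hG3
    omega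
  · have hm : m ≠ 0 := by rintro rfl; omega
    have h2 : (2 : F) = 0 := by
      have := FiniteField.cast_card_eq_zero F
      rw [h6] at this
      exact pow_eq_zero_iff hm |>.1 (by exact_mod_cast this)
    exact ⟨F, inferInstance, inferInstance, m, h6, h5, ⟨(e.trans f).trans
      (MulEquiv.ofBijective (Class.Dickson.pslMk F) ⟨(injective_iff_map_eq_one _).2 fun g hg =>
        (Class.Dickson.pslMk_eq_one_iff.1 hg).elim id fun e => e.trans (Subtype.ext (by
          ext i j
          simp only [SpecialLinearGroup.coe_neg, Matrix.neg_apply]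
          linear_combination -(1 : SL(2, F)).1 i j * h2)), Class.Dickson.pslMk_surjective⟩)⟩⟩

theorem theta_false {G : Type*} [Group G] [Fintype G] {Ω : Type*} [Fintype Ω] [MulAction G Ω]
    [FaithfulSMul G Ω] (hprim : IsPreprimitive G Ω) {p : ℕ} [hp : Fact p.Prime]
    (hΩ : Nat.card Ω = 3 * p) {x : G} {θ : G → ℂ} {w : ℂ} (T : Theta p x θ w)
    (hf : ∀ g, θ g = θ 1 → g = 1) {t : G} (ht : orderOf t = 2)
    (hc : ∀ u : G, orderOf u = 2 → Nat.card (centralizer ({u} : Set G)) = p - 1) : False := by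
  classical
  have h5 := T.hp5
  have hodd : Odd p := hp.out.odd_of_ne_two (by omega)
  have hp2 : ¬ p ∣ (zpowers x).index := not_dvd_index T.hx T.hC
  have hI : ∀ a : Ω, (Finset.univ.filter fun u : stabilizer G a => orderOf u = 2).card ≤ p - 2 := by
    intro a
    have hH : ¬ p ∣ Nat.card (stabilizer G a) := fun h => hp2 (by
      have h1 := (stabilizer G a).card_mul_index
      rw [index_stabilizer_of_transitive, hΩ, ← (zpowers x).card_mul_index, card_zp T.hx,
        ← mul_assoc, mul_comm p] at h1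
      rw [← Nat.eq_of_mul_eq_mul_right hp.out.pos h1]
      exact h.mul_right 3)
    obtain ⟨m, hm⟩ := T.irr.isCharacter.exists_nat_inner (isCharacter_permChar (G := G) Ω)
    rw [← show indFun (stabilizer G a) (fun _ => 1) = permChar G Ω from
      funext fun g => (card_fixedBy_eq_indFun Ω a g).symm] at hm
    have hsum := card_mul_inner_ind (stabilizer G a) T.irr.isClassFunction
    have h9 : ∀ h : stabilizer G a, θ h =
        (if h = 1 then (p - 2 : ℂ) else 0) - if orderOf h = 2 then 1 else 0 := fun h => by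
      by_cases h1 : h = 1
      · simp [h1, T.deg]
      by_cases h2 : orderOf h = 2
      · simp [h1, h2, T.apply_invol hf ((orderOf_coe h).trans h2)]
      · rw [if_neg h1, if_neg h2, T.apply_eq_zero' hf (fun hd => hH ?_)
          (fun h3 => h1 (Subtype.ext h3)) (by rwa [orderOf_coe]), sub_zero]
        exact hd.trans (orderOf_coe h ▸ orderOf_dvd_natCard h)
    simp only [h9, Finset.sum_sub_distrib, Finset.sum_ite_eq', Finset.mem_univ, if_true,
      Finset.sum_boole, hm] at hsum
    have : Nat.card (stabilizer G a) * m +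
        (Finset.univ.filter fun u : stabilizer G a => orderOf u = 2).card + 2 = p := by
      exact_mod_cast (by linear_combination hsum : (Nat.card (stabilizer G a) : ℂ) * m +
        (Finset.univ.filter fun u : stabilizer G a => orderOf u = 2).card + 2 = p)
    omega
  have hsq : ∀ u v : G, orderOf u = 2 → v ∈ centralizer ({u} : Set G) → v * v = 1 :=
    fun u v hu hv => T.mul_self_of_comm hf hu (mem_centralizer_singleton_iff.1 hv)
  have h2g : ∀ u : G, orderOf u = 2 → IsPGroup 2 (centralizer ({u} : Set G)) := fun u hu v =>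
    ⟨1, Subtype.ext (by simpa [sq] using hsq u v hu v.2)⟩
  have hz : ∀ a : Ω, ∃ z : G, orderOf z = 2 ∧ centralizer ({z} : Set G) ≤ stabilizer G a := by
    intro a
    obtain ⟨b, hb⟩ := (h2g t ht).nonempty_fixed_point_of_prime_not_dvd_card Ω (by
      rw [hΩ, ← even_iff_two_dvd, Nat.not_even_iff_odd]; exact (by decide : Odd 3).mul hodd)
    obtain ⟨g, rfl⟩ := exists_smul_eq G b a
    refine ⟨g * t * g⁻¹, by rw [← ht]; exact (ord_of_isConj (isConj_iff.2 ⟨g, rfl⟩)).symm,
      fun v hv => ?_⟩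
    have h1 : g⁻¹ * v * g ∈ centralizer ({t} : Set G) := by
      rw [mem_centralizer_singleton_iff] at hv ⊢
      calc g⁻¹ * v * g * t = g⁻¹ * (v * (g * t * g⁻¹)) * g := by group
        _ = t * (g⁻¹ * v * g) := by rw [hv]; group
    have h2 : (g⁻¹ * v * g) • b = b := hb ⟨_, h1⟩
    rw [mul_smul, mul_smul, inv_smul_eq_iff] at h2
    exact h2
  have key : ∀ a : Ω, ∃ C : Subgroup G, C ≤ stabilizer G a ∧
      ∀ u : G, orderOf u = 2 → u • a = a → u ∈ C ∧ centralizer {u} = C := by
    intro a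
    obtain ⟨z, hz2, hz⟩ := hz a
    refine ⟨_, hz, fun u hu hua => ?_⟩
    have h1 : u ∈ centralizer ({z} : Set G) := by
      by_contra e
      have h2 := hI a
      have h3 : Nat.card (centralizer ({z} : Set G)) ≤
          (Finset.univ.filter fun u : stabilizer G a => orderOf u = 2).card := by
        rw [← Fintype.card_coe, ← Nat.card_eq_fintype_card]
        refine Nat.card_le_card_of_injective (fun v => if h : (v : G) = 1 then
          ⟨⟨u, hua⟩, Finset.mem_filter.2 ⟨Finset.mem_univ _, (orderOf_coe _).symm.trans hu⟩⟩ else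
          ⟨⟨v, hz v.2⟩, Finset.mem_filter.2 ⟨Finset.mem_univ _, (orderOf_coe _).symm.trans
            (orderOf_eq_prime ((sq _).trans (hsq z v hz2 v.2)) h)⟩⟩) ?_
        intro v v' h
        by_cases e1 : (v : G) = 1 <;> by_cases e2 : (v' : G) = 1 <;>
          simp only [e1, e2, dif_pos, dif_neg, not_false_eq_true, Subtype.mk.injEq] at h
        · exact Subtype.ext (e1.trans e2.symm)
        · exact absurd ((show u = v' from congrArg Subtype.val h) ▸ v'.2) e
        · exact absurd ((show (v : G) = u from congrArg Subtype.val h) ▸ v.2) e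
        · exact Subtype.ext (by simpa using h)
      rw [hc z hz2] at h3
      omega
    refine ⟨h1, (eq_of_le_of_card_ge (fun v hv => ?_) (by rw [hc u hu, hc z hz2])).symm⟩
    rw [mem_centralizer_singleton_iff]
    have e1 := hsq z _ hz2 (mul_mem hv h1)
    calc v * u = (v * u)⁻¹ := (inv_eq_of_mul_eq_one_right e1).symm
      _ = u * v := by
        rw [_root_.mul_inv_rev, inv_eq_of_mul_eq_one_right (hsq z _ hz2 hv),
          inv_eq_of_mul_eq_one_right (hsq z _ hz2 h1)]
  have key2 : ∀ a b : Ω, t • a = a → t • b = b → ∀ u : G, orderOf u = 2 → u • a = a → u • b = b := by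
    intro a b ha hb u hu hua
    obtain ⟨C, -, h1⟩ := key a
    obtain ⟨D, h2, h3⟩ := key b
    exact h2 ((h3 t ht hb).2 ▸ (h1 t ht ha).2.symm ▸ (h1 u hu hua).1)
  obtain ⟨a, ha⟩ := (h2g t ht).nonempty_fixed_point_of_prime_not_dvd_card Ω (by
    rw [hΩ, ← even_iff_two_dvd, Nat.not_even_iff_odd]; exact (by decide : Odd 3).mul hodd)
  have hta : t • a = a := ha ⟨t, mem_centralizer_singleton_iff.2 rfl⟩
  rcases Perm.rel_trivial_of_isPreprimitive hprim
    (fun a b => ∀ u : G, orderOf u = 2 → (u • a = a ↔ u • b = b))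
    ⟨fun _ _ _ => Iff.rfl, fun h u hu => (h u hu).symm,
      fun h h' u hu => (h u hu).trans (h' u hu)⟩ (fun g a b h u hu => by
      have := h (g⁻¹ * u * g) (by
        rw [← hu]; exact (ord_of_isConj (isConj_iff.2 ⟨g⁻¹, by simp⟩)).symm)
      simpa only [mul_smul, inv_smul_eq_iff] using this) with h | h
  · have h1 : ∀ b, t • b = b → b = a := fun b hb => h b a fun u hu =>
      ⟨key2 b a hb hta u hu, key2 a b hta hb u hu⟩
    have h2 := Perm.Der.dvd_ncard_of_invariant (centralizer ({t} : Set G)) ({a}ᶜ : Set Ω)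
      (fun s hs y hy e => hy (smul_left_cancel s (e.trans (ha ⟨s, hs⟩).symm)))
      (Nat.card (centralizer ({t} : Set G))) fun y hy => by
        have h2 : stabilizer G y ⊓ centralizer ({t} : Set G) = ⊥ := by
          by_contra e
          obtain ⟨u, hu, hu2⟩ := Perm.ThreeP.exists_invol ((h2g t ht).to_le inf_le_right) e
          obtain ⟨C, -, h3⟩ := key a
          obtain ⟨D, h4, h5⟩ := key y
          exact hy (h1 y (h4 ((h5 u hu2 hu.1).2 ▸ (h3 u hu2 (ha ⟨u, hu.2⟩)).2.symm ▸
            (h3 t ht hta).1)))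
        rw [← inf_relIndex_right, h2, relIndex_bot_left]
    have h3 := Set.ncard_add_ncard_compl ({a} : Set Ω)
    rw [Set.ncard_singleton, hΩ] at h3
    rw [hc t ht, show ({a}ᶜ : Set Ω).ncard = 3 * (p - 1) + 2 by omega] at h2
    have := Nat.le_of_dvd two_pos ((Nat.dvd_add_right (dvd_mul_left _ _)).1 h2)
    omega
  · have : t = 1 := eq_of_smul_eq_smul (α := Ω) fun y => by
      rw [one_smul]; exact (h a y t ht).1 hta
    simp [this] at ht

theorem two_part {G : Type*} [Group G] [Finite G] {t : G} (ht : orderOf t = 2)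
    (h : ∀ u : G, orderOf u = 2 → IsConj t u) : ∃ n u v : ℕ, 1 ≤ n ∧ Odd u ∧ Odd v ∧
      Nat.card G = 2 ^ n * u ∧ Nat.card (centralizer ({t} : Set G)) = 2 ^ n * v := by
  obtain ⟨S⟩ : Nonempty (Sylow 2 G) := inferInstance
  have h2 : 2 ∣ Nat.card G := ht ▸ orderOf_dvd_natCard t
  obtain ⟨n, hn⟩ := S.isPGroup'.exists_card_eq
  have hS := S.ne_bot_of_dvd_card h2
  haveI : Nontrivial (S : Subgroup G) := (nontrivial_iff_ne_bot _).2 hS
  obtain ⟨z, hz, hz2⟩ := Perm.ThreeP.exists_invol (G := (S : Subgroup G))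
    (S.isPGroup'.to_subgroup (center _)) ((nontrivial_iff_ne_bot _).1 S.isPGroup'.center_nontrivial)
  have h3 : (S : Subgroup G) ≤ centralizer {(z : G)} := fun s hs =>
    mem_centralizer_singleton_iff.2 (congrArg Subtype.val (mem_center_iff.1 hz ⟨s, hs⟩))
  have h4 : Nat.card (centralizer ({t} : Set G)) = Nat.card (centralizer ({(z : G)} : Set G)) := by
    obtain ⟨g, hg⟩ := isConj_iff.1 (h z (by rw [orderOf_coe, hz2]))
    refine Nat.card_congr ((MulAut.conj g).toEquiv.subtypeEquiv fun y => ?_)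
    rw [← hg, mem_centralizer_singleton_iff, mem_centralizer_singleton_iff]
    exact (MulAut.conj g).injective.eq_iff.symm.trans (by simp only [map_mul]; rfl)
  obtain ⟨v, hv⟩ := card_dvd_of_le h3
  have h5 := (S : Subgroup G).card_mul_index
  have h6 : Odd (S : Subgroup G).index := by
    rw [← Nat.not_even_iff_odd, even_iff_two_dvd]; exact S.not_dvd_index
  have h7 := card_subgroup_dvd_card (centralizer ({(z : G)} : Set G))
  rw [hv, ← h5] at h7
  refine ⟨n, (S : Subgroup G).index, v, ?_, h6, h6.of_dvd_nat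
    (Nat.dvd_of_mul_dvd_mul_left Nat.card_pos h7), by rw [← h5, hn], by rw [h4, hv, hn]⟩
  rcases n with _ | n
  · exact absurd (card_eq_one.1 hn) hS
  · omega

theorem arith_two {p n u v : ℕ} (hp : Odd p) (h5 : 5 ≤ p) (hn : 1 ≤ n) (hu : Odd u) (hv : Odd v)
    (h : (3 * p - 1) * (3 * p - 2) * p * (2 ^ n * v) ^ 2 = 2 ^ n * u * (3 * p - 3) ^ 2)
    (hd : 2 ^ n ∣ 2 * (3 * p - 3)) : n = 3 ∧ ¬ 8 ∣ 3 * p - 3 := by
  obtain ⟨a, b, hb, hab⟩ := Nat.exists_eq_two_pow_mul_odd (show 3 * p - 3 ≠ 0 by omega)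
  obtain ⟨c, e, he, hce⟩ := Nat.exists_eq_two_pow_mul_odd (show 3 * p - 1 ≠ 0 by omega)
  have ho : Odd (3 * p - 2) := by rw [Nat.odd_iff] at hp ⊢; omega
  have h1 : 2 ^ (c + 2 * n) * (e * (3 * p - 2) * p * v ^ 2) = 2 ^ (n + 2 * a) * (u * b ^ 2) := by
    rw [hab, hce] at h
    rw [pow_add, pow_add, mul_comm 2 n, mul_comm 2 a, pow_mul, pow_mul]
    linear_combination h
  have h2 : c + 2 * n = n + 2 * a := by
    have o1 : Odd (e * (3 * p - 2) * p * v ^ 2) := ((he.mul ho).mul hp).mul hv.pow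
    have o2 : Odd (u * b ^ 2) := hu.mul hb.pow
    have := congrArg (fun k => k.factorization 2) h1
    simpa [Nat.factorization_mul, o1.pos.ne', o2.pos.ne', Nat.prime_two.factorization_pow,
      Nat.factorization_eq_zero_of_not_dvd o1.not_two_dvd_nat,
      Nat.factorization_eq_zero_of_not_dvd o2.not_two_dvd_nat] using this
  have h3 : n ≤ a + 1 := by
    rw [hab, ← mul_assoc, ← pow_succ'] at hd
    exact (Nat.pow_dvd_pow_iff_le_right (by norm_num)).1
      ((Nat.Coprime.pow_left _ (Nat.coprime_two_left.2 hb)).dvd_of_dvd_mul_right hd)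
  rw [Nat.odd_iff] at hp hb he
  have h4 : a = 1 ∧ 2 ≤ c ∨ 2 ≤ a ∧ c = 1 := by
    rcases a with _ | _ | a
    · omega
    · rcases c with _ | _ | c <;> omega
    · rcases c with _ | _ | c
      · rw [pow_succ, pow_succ, mul_assoc, mul_assoc] at hab; omega
      · omega
      · exfalso
        rw [show 2 ^ (a + 1 + 1) * b = 4 * (2 ^ a * b) by ring] at hab
        rw [show 2 ^ (c + 1 + 1) * e = 4 * (2 ^ c * e) by ring] at hce
        omega
  obtain rfl : a = 2 := by omega
  omega

theorem prim {G : Type*} [Group G] [Finite G] [IsSimpleGroup G] (hG : ¬ IsMulCommutative G)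
    {p : ℕ} [hp : Fact p.Prime] (h5 : 5 ≤ p) {Ω : Type*} [Fintype Ω] [MulAction G Ω]
    [FaithfulSMul G Ω] (hΩ : Fintype.card Ω = 3 * p) {x : G} (hx : orderOf x = p)
    (hC : centralizer ({x} : Set G) = zpowers x)
    (he : (zpowers x).relIndex (normalizer ((zpowers x : Subgroup G) : Set G)) = 2)
    (hprim : IsPreprimitive G Ω) : p = 5 ∧ Nonempty (G ≃* alternatingGroup (Fin 6)) := by
  classical
  haveI := Fintype.ofFinite G
  have hpp := hp.out
  have hodd : Odd p := hpp.odd_of_ne_two (by omega)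
  haveI : Nontrivial Ω := Fintype.one_lt_card_iff_nontrivial.1 (by omega)
  have hΩ' : Nat.card Ω = 3 * p := by rw [Nat.card_eq_fintype_card, hΩ]
  obtain ⟨χ, θ, ε, w, Y, T⟩ := exists_two (commutator_eq_top hG) hx hC he h5
  have faith : ∀ φ, IsIrrCharacter G φ → φ ≠ (fun _ => 1) → ∀ g, φ g = φ 1 → g = 1 :=
    fun φ h1 h2 g hg => O2520.faithful (χ := ⟨φ, h1⟩) (fun e => h2 (congrArg Subtype.val e)) hg
  have hf := faith χ T.irrχ T.neχ
  obtain ⟨t, ht⟩ := exists_prime_orderOf_dvd_card'
    (G := normalizer ((zpowers x : Subgroup G) : Set G)) 2 (by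
      rw [card_normalizer hx, he]; exact dvd_mul_left 2 p)
  obtain ⟨t, htN⟩ := t
  replace ht : orderOf t = 2 := (orderOf_coe _).trans ht
  have htP := not_mem_zp_of_two hx (by omega) ht
  have ht2 : t ^ 2 = 1 := by rw [← ht, pow_orderOf_eq_one]
  have htp : ¬ p ∣ orderOf t := ht ▸ not_dvd_of_lt two_pos (by omega)
  have hcj : ∀ u : G, orderOf u = 2 → IsConj t u := fun u hu => T.isConj_invol hf ht hu
  obtain ⟨n, u, v, hn, hu, hv, hGn, hCn⟩ := two_part ht hcj
  have hp2 : ¬ p ∣ (zpowers x).index := not_dvd_index hx hC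
  have hπ0 : ∀ z ∈ zpowers x, z ≠ 1 → permChar G Ω z = 0 := fun z hz hz1 => by
    rw [permChar_apply, Nat.cast_eq_zero, Nat.card_eq_zero]
    refine Or.inl ⟨fun ⟨a, ha⟩ => hp2 ?_⟩
    have h1 := orderOf_dvd_natCard (⟨z, ha⟩ : stabilizer G a)
    rw [← orderOf_coe, orderOf_of_mem_zp hx hz hz1] at h1
    have h2 := (stabilizer G a).card_mul_index
    rw [index_stabilizer_of_transitive, hΩ', ← (zpowers x).card_mul_index, card_zp hx,
      ← mul_assoc, mul_comm p] at h2
    rw [← Nat.eq_of_mul_eq_mul_right hpp.pos h2]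
    exact h1.mul_right 3
  have hπ0' : ∀ j ∈ Finset.Ico 1 p, permChar G Ω (x ^ j) = 0 := fun j hj =>
    hπ0 _ (npow_mem_zpowers x j) (pow_ne_one_of_mem hx hj)
  have hπc := isCharacter_permChar (G := G) Ω
  have hfx : ∀ g : G, permChar G Ω g = {y : Ω | g • y = y}.ncard := fun g => rfl
  have hfix : {y : Ω | t • y = y}.ncard = 1 ∨ {y : Ω | t • y = y}.ncard = 3 := by
    have h1 := norm_le_of_val hx hC hπc hπ0 (m := 3) (by
      rw [permChar_one, hΩ']; push_cast; ring) htN htP
    rw [hfx, Complex.norm_natCast, Nat.cast_le] at h1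
    have h2 := Perm.ThreeP.odd_ncard_fix ht2 (Set.univ : Set Ω) (fun _ _ => trivial) (by
      rw [Set.ncard_univ, hΩ']; exact (by decide : Odd 3).mul hodd)
    simp only [Set.mem_univ, true_and, Nat.odd_iff] at h2
    omega
  have hfixu : ∀ u : G, orderOf u = 2 →
      {y : Ω | u • y = y}.ncard = {y : Ω | t • y = y}.ncard := fun u hu => by
    have := hπc.isClassFunction.eq_of_isConj (hcj u hu)
    rw [hfx, hfx] at this
    exact_mod_cast this.symm
  have hφ := isCharacter_permChar_sub_one (G := G) Ω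
  set φ := permChar G Ω - fun _ => 1 with hφd
  have hφ1 : φ 1 = 3 * p - 1 := by simp [hφd, permChar_one, hΩ]
  have h6 : ∀ ψ, IsIrrCharacter G ψ → ψ ≠ (fun _ => 1) → classInner (permChar G Ω) ψ =
      classInner φ ψ := fun ψ hψ h1 => by
    rw [hφd, classInner_sub_left, isIrrCharacter_one.inner_eq_zero hψ h1.symm, sub_zero]
  have hY : ∀ ψ ∈ Y, classInner φ ψ = classInner φ χ + ε := fun ψ hψ => by
    have := T.inner_Y hπc.isClassFunction hπ0' hψ
    rwa [h6 _ ψ.2 (T.regY ψ hψ).1, h6 χ T.irrχ T.neχ,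
      classInner_permChar_one_of_isPretransitive, mul_one] at this
  obtain ⟨m, hm⟩ := hφ.exists_nat_inner T.irrχ.isCharacter
  obtain ⟨d, hd0, hd⟩ := T.irrχ.exists_nat_one
  obtain ⟨c, hc⟩ := T.int t
  have h1m : 1 ∈ Finset.Ico 1 p := by simp; omega
  have h1p : ¬ p ∣ orderOf (1 : G) := not_dvd_orderOf_one
  have hdeg : (p : ℤ) ∣ ε - d := by
    have h1 := int_dvd_pow_sub T.irrχ.isCharacter hpp (g := x) (a := ε) (b := d)
      (by simpa using (T.val 1 h1m).1) (by rw [← hx, pow_orderOf_eq_one, hd]; rfl)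
    rcases T.sign with rfl | rfl
    · simpa using h1
    · rwa [hodd.neg_one_pow] at h1
  have hform := T.formula ht htN (d := d) (by simpa using hd) hc
  have hcY := T.cardY
  have hsY : ∀ g, ¬ p ∣ orderOf g → (∑ ψ ∈ Y, (ψ : G → ℂ)) g = Y.card * (χ g + ε) :=
    fun g hg => by
      rw [Finset.sum_apply, Finset.sum_congr rfl fun ψ hψ => (T.regY ψ hψ).2 g hg,
        Finset.sum_const, nsmul_eq_mul]
  have hd1 : d ≠ 1 := by
    rintro rfl
    exact O2520.deg_ne_one hG (χ := ⟨χ, T.irrχ⟩) (fun e => T.neχ (congrArg Subtype.val e))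
      (by simpa using hd)
  rcases T.sign with rfl | rfl
  · exfalso
    have h7 := isCharacter_sub_sum hφ Y fun ψ hψ => by
      rw [hY ψ hψ, hm]; exact_mod_cast (by omega : (m : ℤ) + 1 ≠ 0)
    have h8 := h7.one_re_nonneg
    rw [Pi.sub_apply, hsY 1 h1p, hd, hφ1] at h8
    simp at h8
    have h9 : Y.card * (d + 1) + 1 ≤ 3 * p := by
      exact_mod_cast (by linarith : (Y.card * (d + 1) + 1 : ℝ) ≤ 3 * p)
    have h10 : p + 1 ≤ d := by
      have h7 : (p : ℤ) ≤ d - 1 := Int.le_of_dvd (by omega) (by simpa using hdeg.neg_right)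
      omega
    obtain ⟨k, hk⟩ : ∃ k, Y.card = k := ⟨_, rfl⟩
    rw [hk] at h9 hcY hsY
    obtain rfl : p = 2 * k + 1 := by omega
    obtain rfl : k = 2 := by nlinarith
    obtain rfl : d = 6 := by omega
    have h11 := congrFun (h7.eq_zero_of_one (by
      rw [Pi.sub_apply, hsY 1 h1p, hd, hφ1]; norm_num)) t
    rw [Pi.sub_apply, hsY t htp, hc, hφd, Pi.sub_apply, hfx, Pi.zero_apply] at h11
    have h12 : ({y : Ω | t • y = y}.ncard : ℤ) - 1 - 2 * (c + 1) = 0 := by exact_mod_cast h11
    have h4 : 2 ≤ n := by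
      by_contra e
      obtain rfl : n = 1 := by omega
      obtain ⟨S⟩ : Nonempty (Sylow 2 G) := inferInstance
      have hS : Nat.card (S : Subgroup G) = 2 := by
        rw [S.card_eq_multiplicity, hGn]
        simp [Nat.factorization_mul, hu.pos.ne', Nat.prime_two.factorization_self,
          Nat.factorization_eq_zero_of_not_dvd hu.not_two_dvd_nat]
      obtain ⟨H, hH⟩ := S0219.result (even_iff_two_dvd.2 (ht ▸ _root_.orderOf_dvd_natCard t)) S
        (isCyclic_of_prime_card hS)
      rcases (normal_of_index_eq_two hH).eq_bot_or_eq_top with rfl | rfl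
      · have := _root_.orderOf_dvd_natCard x
        rw [hx, ← index_bot, hH] at this
        omega
      · simp at hH
    rw [hGn, hCn] at hform
    obtain ⟨n, rfl⟩ : ∃ k, n = k + 2 := ⟨n - 2, by omega⟩
    obtain ⟨u, rfl⟩ := hu
    have h13 : (2 : ℤ) ^ (n + 2) ≠ 0 := by positivity
    push_cast at hform
    have h14 : (210 : ℤ) * 2 ^ (n + 2) * v ^ 2 = (2 * u + 1) * (6 - c) ^ 2 :=
      mul_left_cancel₀ h13 (by linear_combination hform)
    rw [pow_add] at h14
    obtain rfl | rfl : c = -1 ∨ c = 0 := by omega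
    all_goals
      generalize (2 : ℤ) ^ n = q at h14
      ring_nf at h14
      omega
  have h7 : m ≠ 0 := by
    rintro rfl
    obtain ⟨ψ, hψ⟩ : Y.Nonempty := Finset.card_pos.1 (by omega)
    obtain ⟨k, hk⟩ := hφ.exists_nat_inner ψ.2.isCharacter
    rw [hY ψ hψ, hm] at hk
    have : ((0 : ℕ) : ℤ) + -1 = k := by exact_mod_cast hk
    omega
  have h8 : classInner φ χ ≠ 0 := by rw [hm]; exact_mod_cast h7
  have h9 := hφ.one_le_of_inner_ne_zero T.irrχ h8
  rw [hd, hφ1] at h9
  simp at h9
  have h10 : (d : ℤ) ≤ 3 * p - 1 := by exact_mod_cast h9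
  have h11 : d + 1 = p ∨ d + 1 = 2 * p ∨ d + 1 = 3 * p := by
    obtain ⟨k, hk⟩ := hdeg
    have h11 : (5 : ℤ) ≤ p := by exact_mod_cast h5
    have : k < 0 := by nlinarith
    have : -4 < k := by nlinarith
    rcases (by omega : k = -1 ∨ k = -2 ∨ k = -3) with rfl | rfl | rfl <;> omega
  have hval : ∀ z ∈ zpowers x, z ≠ 1 → χ z = -1 := fun z hz h1 => by
    obtain ⟨j, hj, rfl⟩ := exists_pow_of_mem hx hz h1
    simpa using (T.val j hj).1
  have hdG : d ∣ Nat.card G := by
    have := deg_dvd (⟨χ, T.irrχ⟩ : IrrCharacter G)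
    rwa [Block.charDegree_eq_of_eq hd] at this
  have hdG' : d - 1 ∣ Nat.card G := by
    have := deg_dvd (⟨θ, T.irrθ⟩ : IrrCharacter G)
    rwa [Block.charDegree_eq_of_eq (n := d - 1) (by
      rw [Nat.cast_sub hd0, ← hd]; simpa [sub_eq_add_neg] using T.reg 1 h1p)] at this
  rcases h11 with h11 | h11 | h11
  · exfalso
    have h12 : χ 1 = p - 1 := by rw [hd, ← h11]; push_cast; ring
    have T' := T.theta rfl h12
    have hfθ := faith θ T.irrθ T.neθ
    refine theta_false hprim hΩ' T' hfθ ht fun s hs => ?_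
    have h13 : c = -1 + 1 := by
      have := T.reg t htp
      rw [T'.apply_invol hfθ ht, hc] at this
      exact_mod_cast (by push_cast at this ⊢; linear_combination -this : (c : ℂ) = (-1 + 1 : ℤ))
    have h14 : Nat.card (centralizer ({s} : Set G)) = Nat.card (centralizer ({t} : Set G)) := by
      obtain ⟨g, hg⟩ := isConj_iff.1 (hcj s hs)
      refine (Nat.card_congr ((MulAut.conj g).toEquiv.subtypeEquiv fun y => ?_)).symm
      rw [← hg, mem_centralizer_singleton_iff, mem_centralizer_singleton_iff]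
      exact (MulAut.conj g).injective.eq_iff.symm.trans (by simp only [map_mul]; rfl)
    rw [h14]
    rw [(T'.card_eq hfθ).1, h13, ← h11] at hform
    obtain ⟨d, rfl⟩ : ∃ k, d = k + 1 := ⟨d - 1, by omega⟩
    rw [← h11]
    simp only [Nat.add_sub_cancel, show d + 1 + 1 - 2 = d by omega] at hform ⊢
    push_cast at hform
    have h15 : ((d : ℤ) + 1) * d * (d + 2) ≠ 0 := by
      have : 0 < d := by omega
      positivity
    have h16 : (Nat.card (centralizer ({t} : Set G)) : ℤ) ^ 2 = (d + 1) ^ 2 :=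
      mul_left_cancel₀ h15 (by linear_combination hform)
    exact_mod_cast (pow_left_inj₀ (by positivity) (by positivity) two_ne_zero).1 h16
  · have hψ := hφ.sub_irr T.irrχ h8
    have hψ1 : (φ - χ) 1 = p := by
      rw [Pi.sub_apply, hφ1, hd]
      exact_mod_cast (by omega : (3 * p - 1 - d : ℤ) = p)
    have h12 : classInner (φ - χ) χ = 0 := by
      by_contra e
      have := hψ.one_le_of_inner_ne_zero T.irrχ e
      rw [hd, hψ1] at this
      simp at this
      omega
    have h13 : classInner φ χ = 1 := by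
      rw [classInner_sub_left, T.irrχ.inner_self] at h12; linear_combination h12
    obtain ⟨ψ, hψi, hψn⟩ := hψ.isClassFunction.exists_irr_inner_ne_zero (fun e => by
      rw [e, Pi.zero_apply] at hψ1; exact hpp.ne_zero (by exact_mod_cast hψ1.symm))
    have n1 : ψ ≠ fun _ => 1 := by
      rintro rfl
      rw [classInner_sub_left, hφd, classInner_sub_left, classInner_permChar_one_of_isPretransitive,
        isIrrCharacter_one.inner_self, T.irrχ.inner_eq_zero isIrrCharacter_one T.neχ] at hψn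
      simp at hψn
    have n2 : ψ ≠ χ := by rintro rfl; exact hψn h12
    have h14 := T.out ⟨ψ, hψi⟩ n1 n2 fun e => hψn (by
      have := hY _ e
      rw [classInner_sub_left, T.irrχ.inner_eq_zero hψi n2.symm, sub_zero]
      rw [h13] at this
      simpa using this)
    obtain ⟨k, hk0, hk⟩ := hψi.exists_nat_one
    have h15 := hψ.one_le_of_inner_ne_zero hψi hψn
    rw [hk, hψ1] at h15
    simp at h15
    rw [Block.charDegree_eq_of_eq hk] at h14
    obtain rfl : k = p := le_antisymm h15 (Nat.le_of_dvd hk0 h14)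
    have h16 := hψ.eq_of_inner_ne_zero_of_one_eq hψi hψn (hψ1.trans hk.symm)
    obtain ⟨rfl, e, he⟩ := Perm.ThreeP.rank_three h5 hodd hΩ T.irrχ hψi T.neχ n1
      (by rw [← h16, hφd]; abel) (by rw [hd]; congr 1; omega) hk ht2 (by omega)
    obtain rfl : d = 9 := by omega
    refine ⟨rfl, S0497.result ?_⟩
    have h17 := norm_le_of_val hx hC T.irrχ.isCharacter hval (m := 1) (by
      rw [hd]; norm_num) htN htP
    rw [hc, Complex.norm_intCast] at h17
    have h18 : |c| ≤ 1 := by exact_mod_cast h17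
    have h19 : n = e + 1 := by
      have := congrArg (fun k => k.factorization 2) (hGn.symm.trans he)
      rw [show 90 * 2 ^ e = 2 ^ (e + 1) * 45 by ring] at this
      simpa [Nat.factorization_mul, hu.pos.ne', Nat.prime_two.factorization_pow,
        Nat.factorization_eq_zero_of_not_dvd hu.not_two_dvd_nat,
        Nat.factorization_eq_zero_of_not_dvd (show ¬ 2 ∣ 45 by norm_num)] using this
    subst h19
    rw [he, hCn] at hform
    push_cast at hform
    have h20 : (2 : ℤ) ^ e ≠ 0 := by positivity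
    have h21 : (16 : ℤ) * (2 ^ e * v ^ 2) = (9 - c) ^ 2 :=
      mul_left_cancel₀ (mul_ne_zero (by norm_num : (90 : ℤ) ≠ 0) h20) (by linear_combination hform)
    obtain rfl : c = 1 := by
      rcases (by rw [abs_le] at h18; omega : c = -1 ∨ c = 0 ∨ c = 1) with rfl | rfl | rfl <;> omega
    have h22 : 2 ^ e * v ^ 2 = 4 := by exact_mod_cast (by omega : (2 : ℤ) ^ e * v ^ 2 = 4)
    have h23 : v ^ 2 = 1 := by
      exact ((Nat.coprime_two_left.2 hv).symm.pow 2 2).eq_one_of_dvd (Dvd.intro_left (2 ^ e) h22)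
    rw [he, show 2 ^ e = 4 by rwa [h23, mul_one] at h22]
  · exfalso
    have h12 := hφ.eq_of_inner_ne_zero_of_one_eq T.irrχ h8 (by
      rw [hφ1, hd]; exact_mod_cast (by omega : (3 * p - 1 : ℤ) = d))
    have h13 : ({y : Ω | t • y = y}.ncard : ℤ) - 1 = c := by
      have := congrFun h12 t
      rw [hc, hφd, Pi.sub_apply, hfx] at this
      exact_mod_cast this
    rcases hfix with hfix | hfix
    · obtain rfl : c = 0 := by omega
      obtain ⟨a, ha⟩ := Set.ncard_eq_one.1 hfix
      have hta : t • a = a := (Set.ext_iff.1 ha a).2 rfl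
      have hi : (stabilizer G a).index = 3 * p := by rw [index_stabilizer_of_transitive, hΩ']
      have hf2 : (d - 1) * p * Nat.card (centralizer ({t} : Set G)) ^ 2 = Nat.card G * d := by
        zify [hd0]
        exact mul_left_cancel₀ (show (d : ℤ) ≠ 0 by omega) (by linear_combination hform)
      refine se_false hG (H := stabilizer G a) ⟨fun e => by rw [e, index_top] at hi; omega,
        even_iff_two_dvd.2 (ht ▸ Subgroup.orderOf_dvd_natCard _ hta), fun g hg => ?_⟩ h11 h5 ?_ (fun k hk => ?_) hf2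
      · rw [← Nat.not_even_iff_odd, even_iff_two_dvd]
        intro e
        obtain ⟨⟨s, hs1, s', hs2, rfl⟩, hs⟩ := exists_prime_orderOf_dvd_card' 2 e
        rw [← orderOf_coe] at hs
        obtain ⟨b, hb⟩ := Set.ncard_eq_one.1 ((hfixu _ hs).trans hfix)
        have e1 : a = b := (Set.ext_iff.1 hb a).1 hs1
        have e2 : g • a = b := (Set.ext_iff.1 hb (g • a)).1 (by
          have : s' • a = a := hs2
          simp [mul_smul, this])
        exact hg (e2.trans e1.symm)
      · refine Nat.Coprime.mul_dvd_of_dvd_of_dvd ?_ (Nat.Coprime.mul_dvd_of_dvd_of_dvd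
          (by simp) (h11 ▸ hi ▸ index_dvd_card _) hdG) hdG'
        obtain ⟨d, rfl⟩ : ∃ k, d = k + 1 := ⟨d - 1, by omega⟩
        rw [Nat.add_sub_cancel]
        refine Nat.Coprime.mul_left ?_ (by simp)
        rw [add_assoc, Nat.coprime_self_add_left, Nat.coprime_two_left, Nat.odd_iff]
        rw [Nat.odd_iff] at hodd
        omega
      · rw [hGn] at hk
        rw [hGn, hCn] at hf2
        have e1 : 2 ^ k ∣ 2 ^ n :=
          ((Nat.coprime_two_left.2 hu).pow_left k).dvd_of_dvd_mul_right hk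
        refine e1.trans (((Nat.coprime_two_left.2 hu).pow_left n).dvd_of_dvd_mul_left
          ⟨(d - 1) * p * v ^ 2, ?_⟩)
        apply Nat.eq_of_mul_eq_mul_left (show 0 < 2 ^ n by positivity)
        linear_combination -hf2
    · obtain rfl : c = 2 := by omega
      have hfix3 : ∀ u : G, orderOf u = 2 → {y : Ω | u • y = y}.ncard = 3 := fun u hu =>
        (hfixu u hu).trans hfix
      obtain ⟨S⟩ : Nonempty (Sylow 2 G) := inferInstance
      have hS : Nat.card (S : Subgroup G) = 2 ^ n := by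
        rw [S.card_eq_multiplicity, hGn]
        simp [Nat.factorization_mul, hu.pos.ne', Nat.prime_two.factorization_pow,
          Nat.factorization_eq_zero_of_not_dvd hu.not_two_dvd_nat]
      have hodd' : Odd (Nat.card Ω) := hΩ' ▸ (by decide : Odd 3).mul hodd
      have h14 := Perm.ThreeP.card_dvd_two_mul hfix3 hodd' S.isPGroup'
        (S.ne_bot_of_dvd_card (ht ▸ orderOf_dvd_natCard t))
      rw [hS, hΩ'] at h14
      obtain ⟨rfl, h15⟩ := arith_two hodd h5 hn hu hv (by
        rw [← hGn, ← hCn]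
        zify [show 1 ≤ 3 * p by omega, show 2 ≤ 3 * p by omega, show 3 ≤ 3 * p by omega]
        rw [show (d : ℤ) = 3 * p - 1 by omega] at hform
        linear_combination hform) h14
      exact gw_false hG S (Perm.ThreeP.dihedral hfix3 hodd' hS (hΩ' ▸ h15)) ht hpp h5 hx hC
        (by rwa [show 3 * p - 1 = d by omega]) (by rwa [show 3 * p - 2 = d - 1 by omega])

/-- Let p > 3 be a prime and G a finite non-abelian simple group acting faithfully and transitively on a set Ω of 3p points, such that the normalizer of a Sylow p-subgroup of G has order 2p. If the action is primitive then p = 5 and G ≅ A₆; if it is imprimitive then p = 2^m + 1 for some m and G ≅ PSL₂(2^m). -/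
theorem result {G : Type*} [Group G] [Finite G] [IsSimpleGroup G] (hG : ¬ IsMulCommutative G)
    (p : ℕ) (hp : p.Prime) (hp3 : 3 < p) {Ω : Type*} [Fintype Ω] [MulAction G Ω] [FaithfulSMul G Ω]
    (htr : MulAction.IsPretransitive G Ω) (hΩ : Fintype.card Ω = 3 * p)
    (P : Sylow p G) (hN : Nat.card ↥(Subgroup.normalizer ((P : Subgroup G) : Set G)) = 2 * p) :
    (MulAction.IsPreprimitive G Ω → p = 5 ∧ Nonempty (G ≃* ↥(alternatingGroup (Fin 6)))) ∧
      (¬ MulAction.IsPreprimitive G Ω → ∃ (F : Type) (_ : Field F) (_ : Fintype F) (m : ℕ), Fintype.card F = 2 ^ m ∧ p = 2 ^ m + 1 ∧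
        Nonempty (G ≃* Matrix.ProjectiveSpecialLinearGroup (Fin 2) F)) := by
  refine ⟨fun hprim => ?_, imprim hp hp3 htr hΩ P hN⟩
  haveI := Fact.mk hp
  have h5 : 5 ≤ p := hp.five_le_of_ne_two_of_ne_three (by omega) (by omega)
  have hG2 : 3 * p ∣ Nat.card G := by
    haveI : Nontrivial Ω := Fintype.one_lt_card_iff_nontrivial.1 (by omega)
    obtain ⟨a⟩ : Nonempty Ω := inferInstance
    rw [← hΩ, ← Nat.card_eq_fintype_card, ← index_stabilizer_of_transitive G a]
    exact index_dvd_card _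
  have hPc : Nat.card (P : Subgroup G) = p := by
    obtain ⟨k, hk⟩ := P.isPGroup'.exists_card_eq
    have h1 : p ^ k ∣ 2 * p := hk ▸ hN ▸ card_dvd_of_le le_normalizer
    have h2 := P.dvd_card_of_dvd_card ((dvd_mul_left p 3).trans hG2)
    rw [hk] at h2 ⊢
    rcases k with _ | _ | k
    · exact absurd (Nat.dvd_one.1 h2) hp.one_lt.ne'
    · exact pow_one p
    · exfalso
      have h3 : p * p ∣ 2 * p := (Dvd.intro (p ^ k) (by ring)).trans h1
      have := Nat.le_of_dvd two_pos (Nat.dvd_of_mul_dvd_mul_right hp.pos h3)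
      omega
  obtain ⟨x₀, hx₀⟩ := exists_prime_orderOf_dvd_card' (G := (P : Subgroup G)) p (by rw [hPc])
  have hx : orderOf (x₀ : G) = p := by rw [orderOf_coe, hx₀]
  set x : G := (x₀ : G)
  have hP : (P : Subgroup G) = zpowers x :=
    (eq_of_le_of_card_ge (zpowers_le.2 x₀.2) (by rw [card_zp hx, hPc])).symm
  have he : (zpowers x).relIndex (normalizer ((zpowers x : Subgroup G) : Set G)) = 2 := by
    rw [hP, card_normalizer hx, mul_comm] at hN
    exact Nat.eq_of_mul_eq_mul_right (by omega) hN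
  have hC : centralizer ({x} : Set G) = zpowers x := by
    have h1 : centralizer ((P : Subgroup G) : Set G) = centralizer {x} := by
      rw [hP, zpowers_eq_closure, centralizer_closure]
    have h2 : centralizer ({x} : Set G) ≤ normalizer ((P : Subgroup G) : Set G) :=
      h1 ▸ centralizer_le_normalizer _
    have h3 : zpowers x ≤ centralizer ({x} : Set G) :=
      zpowers_le.2 (mem_centralizer_singleton_iff.2 rfl)
    obtain ⟨k, hk⟩ := card_dvd_of_le h3
    have h4 := card_dvd_of_le h2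
    rw [card_zp hx] at hk
    rw [hN, hk, mul_comm] at h4
    rcases (Nat.dvd_prime Nat.prime_two).1 (Nat.dvd_of_mul_dvd_mul_right hp.pos h4) with rfl | rfl
    · exact (eq_of_le_of_card_ge h3 (by rw [card_zp hx, hk, mul_one])).symm
    · exfalso
      have h6 : normalizer ((P : Subgroup G) : Set G) ≤ centralizer ((P : Subgroup G) : Set G) := by
        rw [h1, eq_of_le_of_card_ge h2 (by rw [hN, hk, mul_comm])]
      have h7 := (MonoidHom.ker_transferSylow_isComplement' P h6).card_mul_card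
      rw [hPc] at h7
      rcases (inferInstance : (MonoidHom.transferSylow P h6).ker.Normal).eq_bot_or_eq_top with
        hK | hK
      · rw [hK, card_bot, one_mul] at h7
        rw [← h7] at hG2
        have := Nat.le_of_dvd hp.pos hG2
        omega
      · rw [hK, card_top] at h7
        have := Nat.card_pos (α := G)
        nlinarith
  exact prim hG h5 hΩ hx hC he hprim

end Cfsg.Agent.S3254
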