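import Cfsg.Statements.S3260
import Mathlib
import Cfsg.Agent.PLocal.CoprimeZJ

set_option autoImplicit false
open Cfsg

namespace Cfsg.Agent.S3260

open Cfsg.Agent.PLocal Cfsg.Agent.PLocal.CopZJ Cfsg.Agent.Solv.Ext

/-- Let p ≥ 5 be a prime, G a finite p-constrained group with Sylow p-subgroup S, and A a group of automorphisms of G of order coprime to |G| whose fixed-point subgroup has no section isomorphic to PSL₂(p). Then G = O_{p'}(G) · N_G(Z(J(S))), where J(S) is the subgroup generated by the abelian subgroups of S of largest order. -/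
theorem result {G : Type*} [Group G] [Finite G] (p : ℕ) [hp : Fact p.Prime] (hp5 : 5 ≤ p)
    (hG : Cfsg.IsPConstrained p G) (S : Sylow p G) (A : Subgroup (MulAut G)) (hA : (Nat.card ↥A).Coprime (Nat.card G))
    (C : Subgroup G) (hC : ∀ g : G, g ∈ C ↔ ∀ a ∈ A, a g = g)
    {F : Type*} [Field F] [Fintype F] (hF : Fintype.card F = p)
    (hfix : ¬ Cfsg.Involves (Matrix.ProjectiveSpecialLinearGroup (Fin 2) F) ↥C) :
    Cfsg.pPrimeCore p G ⊔ Subgroup.normalizer (Cfsg.centerThompsonAOf (S : Subgroup G) : Set G) = ⊤ := by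
  by_cases hpG : p ∣ Nat.card G
  swap
  · rw [eq_top_iff]
    refine le_sup_left.trans' (Grp.le_pPrimeCore inferInstance ?_)
    rw [Subgroup.card_top]
    exact ((Nat.Prime.coprime_iff_not_dvd hp.out).2 hpG).symm
  have hpA : ¬ p ∣ Nat.card A := fun h => hp.out.ne_one (Nat.eq_one_of_dvd_coprimes hA h hpG)
  have hN : Inv A (pPrimeCore p G) := inv_of_characteristic _
  obtain ⟨_, hq⟩ := exists_quotAction hN
  have : CharP F p := charP_of_card_eq_prime hF
  have hc : (Nat.card A).Coprime (Nat.card (pPrimeCore p G)) :=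
    hA.coprime_dvd_right (Subgroup.card_subgroup_dvd_card _)
  refine sup_normalizer_eq_top_of_map_normal _ (Grp.pPrimeCore_coprime p G)
    (S.isPGroup'.to_le (centerThompsonAOf_le _)) ?_
  rw [map_centerThompsonAOf_of_injOn _ (Transfer.injective_mk'_comp_subtype _
    (Grp.pPrimeCore_coprime p G) S.isPGroup')]
  refine normal_of_coprime (A := A) hp5 (isPConstrained_iff.mp hG)
    (hA.coprime_dvd_right (Subgroup.card_quotient_dvd_card _)) hpA
    (ZMod.ringEquiv F hF).symm.toRingHom (fun h => hfix (Sec.involves (Sec.of_map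
      (QuotientGroup.mk' (pPrimeCore p G)) (h.mono fun y hy => ?_))))
    (S.mapSurjective (QuotientGroup.mk'_surjective _))
  obtain ⟨c, hc1, rfl⟩ := exists_fixed_lift hq hN hc (or_solvable hc) y hy
  exact ⟨c, (hC c).2 fun a ha => hc1 ⟨a, ha⟩, rfl⟩

end Cfsg.Agent.S3260
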