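import Cfsg.Statements.S3261
import Cfsg.Agent.Inv.D8Cent
import Cfsg.Agent.S0495
import Cfsg.Agent.S0497

set_option autoImplicit false
open Cfsg

namespace Cfsg.Agent.S3261

open Equiv Equiv.Perm in
def a0 : Perm (Fin 6) := swap 0 1 * swap 2 3
open Equiv Equiv.Perm in
def x0 : Perm (Fin 6) := swap 0 2 * swap 0 1 * swap 0 3 * swap 4 5
open Equiv Equiv.Perm in
def y0 : Perm (Fin 6) := swap 0 1 * swap 4 5

theorem cent_a0 : ∀ σ : Equiv.Perm (Fin 6), σ * a0 = a0 * σ → Equiv.Perm.sign σ = 1 →
    σ = 1 ∨ σ = x0 ∨ σ = x0 * x0 ∨ σ = x0 * x0 * x0 ∨ σ = y0 ∨ σ = x0 * y0 ∨ σ = x0 * x0 * y0 ∨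
      σ = x0 * x0 * x0 * y0 := by
  decide +kernel

def a1 : alternatingGroup (Fin 6) := ⟨a0, Equiv.Perm.mem_alternatingGroup.2 (by decide +kernel)⟩
def x1 : alternatingGroup (Fin 6) := ⟨x0, Equiv.Perm.mem_alternatingGroup.2 (by decide +kernel)⟩
def y1 : alternatingGroup (Fin 6) := ⟨y0, Equiv.Perm.mem_alternatingGroup.2 (by decide +kernel)⟩

theorem cent_a1 : Nonempty (Subgroup.centralizer ({a1} : Set (alternatingGroup (Fin 6))) ≃*
    DihedralGroup 4) := by
  have hx : orderOf x1 = 4 := by
    rw [show (4 : ℕ) = 2 ^ (1 + 1) by norm_num]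
    haveI : Fact (Nat.Prime 2) := ⟨Nat.prime_two⟩
    exact orderOf_eq_prime_pow (by decide +kernel) (by decide +kernel)
  have e : Subgroup.centralizer ({a1} : Set (alternatingGroup (Fin 6))) =
      Subgroup.closure {x1, y1} := by
    apply le_antisymm
    · intro σ hσ
      have h1 : x1 ∈ Subgroup.closure {x1, y1} := Subgroup.subset_closure (by simp)
      have h2 : y1 ∈ Subgroup.closure {x1, y1} := Subgroup.subset_closure (by simp)
      rw [Subgroup.mem_centralizer_singleton_iff] at hσ
      rcases cent_a0 σ (congrArg Subtype.val hσ) σ.2 with h | h | h | h | h | h | h | h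
      · rw [show σ = 1 from Subtype.ext h]; exact one_mem _
      · rw [show σ = x1 from Subtype.ext h]; exact h1
      · rw [show σ = x1 * x1 from Subtype.ext h]; exact mul_mem h1 h1
      · rw [show σ = x1 * x1 * x1 from Subtype.ext h]; exact mul_mem (mul_mem h1 h1) h1
      · rw [show σ = y1 from Subtype.ext h]; exact h2
      · rw [show σ = x1 * y1 from Subtype.ext h]; exact mul_mem h1 h2
      · rw [show σ = x1 * x1 * y1 from Subtype.ext h]; exact mul_mem (mul_mem h1 h1) h2
      · rw [show σ = x1 * x1 * x1 * y1 from Subtype.ext h]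
        exact mul_mem (mul_mem (mul_mem h1 h1) h1) h2
    · rw [Subgroup.closure_le]
      rintro σ (rfl | rfl) <;>
        (rw [SetLike.mem_coe, Subgroup.mem_centralizer_singleton_iff]; decide +kernel)
  rw [e]
  refine Inv.nonempty_dihedral_of_gens hx (by decide +kernel) (by decide +kernel) ?_
  classical
  rw [mem_zpowers_iff_mem_range_orderOf, hx]
  simp only [Finset.mem_image, Finset.mem_range, not_exists, not_and]
  intro k hk
  interval_cases k <;> decide +kernel

theorem cent_dihedral (αt : alternatingGroup (Fin 6)) (hαt : orderOf αt = 2)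
    (hsupp : (αt : Equiv.Perm (Fin 6)).support.card = 4) :
    Nonempty (Subgroup.centralizer ({αt} : Set (alternatingGroup (Fin 6))) ≃* DihedralGroup 4) := by
  have ct : ∀ σ : Equiv.Perm (Fin 6), orderOf σ = 2 → σ.support.card = 4 →
      σ.cycleType = Multiset.replicate 2 2 := by
    intro σ h1 h2
    obtain ⟨n, hn⟩ := Equiv.Perm.cycleType_prime_order (σ := σ) (h1 ▸ Nat.prime_two)
    have := σ.sum_cycleType
    rw [hn, h1, h2, Multiset.sum_replicate, smul_eq_mul] at this
    rw [hn, h1, show n + 1 = 2 by omega]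
  have h0 : IsConj a0 (αt : Equiv.Perm (Fin 6)) := by
    haveI : Fact (Nat.Prime 2) := ⟨Nat.prime_two⟩
    rw [Equiv.Perm.isConj_iff_cycleType_eq, ct _ (by rw [Subgroup.orderOf_coe, hαt]) hsupp,
      ct a0 (orderOf_eq_prime (by decide +kernel) (by decide +kernel)) (by decide +kernel)]
  obtain ⟨g, hg⟩ := isConj_iff.1 h0
  let φ : MulAut (alternatingGroup (Fin 6)) := MulAut.conjNormal g
  have hφ : φ a1 = αt := Subtype.ext hg
  have e : (Subgroup.centralizer ({a1} : Set (alternatingGroup (Fin 6)))).map φ.toMonoidHom =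
      Subgroup.centralizer {αt} := by
    ext σ
    rw [Subgroup.mem_map_equiv, Subgroup.mem_centralizer_singleton_iff,
      Subgroup.mem_centralizer_singleton_iff, ← hφ, ← φ.injective.eq_iff, map_mul, map_mul,
      MulEquiv.apply_symm_apply]
  obtain ⟨e1⟩ := cent_a1
  rw [← e]
  exact ⟨(φ.subgroupMap _).symm.trans e1⟩


/-- Let α̃ be an involution of the alternating group A₆ that is a product of two disjoint transpositions (it lies in the centre of a Sylow 2-subgroup of A₆; its centralizer is dihedral of order 8). Let G be a finite group that has no subgroup of index 2 and contains an involution α, central in some Sylow 2-subgroup of G, with C_G(α) ≅ C_{A₆}(α̃). Then G is isomorphic to A₆ or to PSL₂(7). -/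
theorem result {G : Type*} [Group G] [Finite G]
    (hG : ∀ H : Subgroup G, H.index ≠ 2)
    (αt : ↥(alternatingGroup (Fin 6))) (hαt : orderOf αt = 2) (hsupp : (αt : Equiv.Perm (Fin 6)).support.card = 4)
    (α : G) (hα : orderOf α = 2) (S : Sylow 2 G) (hαS : α ∈ (S : Subgroup G)) (hαc : ∀ s ∈ (S : Subgroup G), s * α = α * s)
    (e : ↥(Subgroup.centralizer ({α} : Set G)) ≃* ↥(Subgroup.centralizer ({αt} : Set ↥(alternatingGroup (Fin 6))))) :
    Nonempty (G ≃* ↥(alternatingGroup (Fin 6))) ∨
      (∃ (F : Type) (_ : Field F) (_ : Fintype F), Fintype.card F = 7 ∧ Nonempty (G ≃* Matrix.ProjectiveSpecialLinearGroup (Fin 2) F)) := by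
  obtain ⟨e1⟩ := cent_dihedral αt hαt hsupp
  obtain ⟨P, c, hcz, hP⟩ := Inv.D8Cent.exists_sylow_DC hα (e.trans e1)
  have hone := Inv.D8Cent.one_class c hG
  haveI := Inv.D8Cent.isSimpleGroup hα (c.congr hP) hone
  rcases Inv.D8Cent.card_eq hα (e.trans e1) hone with h | h
  · haveI : Fact (Nat.Prime 7) := ⟨by norm_num⟩
    exact Or.inr ⟨ZMod 7, inferInstance, inferInstance, ZMod.card 7,
      S0495.result h (ZMod.card 7)⟩
  · exact Or.inl (S0497.result h)

end Cfsg.Agent.S3261
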