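import Mathlib
import Cfsg.Statements.S3264
import Cfsg.Agent.InvJ.Gen

set_option autoImplicit false
open Cfsg

namespace Cfsg.Agent.S3264

/-- Let G be a non-abelian finite simple group and X a conjugacy class of involutions of G. Form the graph on X in which two distinct involutions are joined when their product has odd order. Then this graph is connected. (By the Baer–Suzuki Theorem the graph has at least one edge; connectedness is the stronger statement.) -/
theorem result {G : Type*} [Group G] [Finite G] [IsSimpleGroup G]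
    (hG : ¬ IsMulCommutative G) (t : G) (ht : orderOf t = 2) :
    (SimpleGraph.fromRel fun x y : {x : G // IsConj t x} => Odd (orderOf (x.1 * y.1))).Connected := by
  have ht2 : t * t = 1 := by rw [← sq, ← ht, pow_orderOf_eq_one]
  have hti : t⁻¹ = t := inv_eq_of_mul_eq_one_right ht2
  have hN : (Subgroup.closure (Set.range (fun c : G => c * (MulAut.conj t c)⁻¹))).Normal := by
    constructor
    intro x hx g
    induction hx using Subgroup.closure_induction with
    | mem x hx =>
      obtain ⟨c, rfl⟩ := hx
      have e : g * (c * (MulAut.conj t c)⁻¹) * g⁻¹ =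
          ((g * c) * (MulAut.conj t (g * c))⁻¹) * (g * (MulAut.conj t g)⁻¹)⁻¹ := by
        simp only [MulAut.conj_apply]; group
      rw [e]
      exact mul_mem (Subgroup.subset_closure ⟨_, rfl⟩) (inv_mem (Subgroup.subset_closure ⟨_, rfl⟩))
    | one => simp
    | mul x y _ _ hx hy =>
      have e : g * (x * y) * g⁻¹ = (g * x * g⁻¹) * (g * y * g⁻¹) := by group
      rw [e]; exact mul_mem hx hy
    | inv x _ hx =>
      have e : g * x⁻¹ * g⁻¹ = (g * x * g⁻¹)⁻¹ := by group
      rw [e]; exact inv_mem hx
  have htop : Subgroup.closure (Set.range (fun c : G => c * (MulAut.conj t c)⁻¹)) = ⊤ := by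
    refine hN.eq_bot_or_eq_top.resolve_left fun hb => ?_
    have hc : t ∈ Subgroup.center G := by
      rw [Subgroup.mem_center_iff]
      intro c
      have : c * (MulAut.conj t c)⁻¹ ∈ (⊥ : Subgroup G) := hb ▸ Subgroup.subset_closure ⟨c, rfl⟩
      rw [Subgroup.mem_bot, mul_inv_eq_one, MulAut.conj_apply] at this
      calc c * t = (t * c * t⁻¹) * t := by rw [← this]
        _ = t * c := by group
    rcases (inferInstance : (Subgroup.center G).Normal).eq_bot_or_eq_top with h | h
    · rw [h, Subgroup.mem_bot] at hc
      rw [hc, orderOf_one] at ht; omega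
    · exact hG ⟨⟨fun a b => (Subgroup.mem_center_iff.mp (h ▸ Subgroup.mem_top b) a)⟩⟩
  have hJ := InvJ.closure_J (MulAut.conj t) (fun g => by
    simp only [MulAut.conj_apply, hti]
    calc t * (t * g * t) * t = (t * t) * g * (t * t) := by group
      _ = g := by rw [ht2]; simp) htop
  set Γ := SimpleGraph.fromRel fun x y : {x : G // IsConj t x} => Odd (orderOf (x.1 * y.1)) with hΓ
  let cj : G → {x : G // IsConj t x} → {x : G // IsConj t x} :=
    fun g x => ⟨g * x.1 * g⁻¹, x.2.trans (isConj_iff.mpr ⟨g, rfl⟩)⟩
  have hord : ∀ g x y : G, orderOf (g * x * g⁻¹ * (g * y * g⁻¹)) = orderOf (x * y) := by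
    intro g x y
    have e : g * x * g⁻¹ * (g * y * g⁻¹) = MulAut.conj g (x * y) := by
      simp only [MulAut.conj_apply]; group
    rw [e, MulEquiv.orderOf_eq]
  have hhom : ∀ g x y, Γ.Reachable x y → Γ.Reachable (cj g x) (cj g y) := by
    intro g x y h
    refine h.map (⟨cj g, ?_⟩ : Γ →g Γ)
    intro a b hab
    rw [hΓ, SimpleGraph.fromRel_adj] at hab ⊢
    refine ⟨fun e => hab.1 (Subtype.ext ?_), ?_⟩
    · simpa [cj] using congrArg Subtype.val e
    · simpa only [cj, hord] using hab.2
  let t0 : {x : G // IsConj t x} := ⟨t, IsConj.refl t⟩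
  have hall : ∀ g : G, Γ.Reachable t0 (cj g t0) := by
    intro g
    have hg : g ∈ Subgroup.closure {g : G | Odd (orderOf g) ∧ MulAut.conj t g = g⁻¹} :=
      hJ ▸ Subgroup.mem_top g
    induction hg using Subgroup.closure_induction with
    | mem j hj =>
      by_cases e : t0 = cj j t0
      · rw [← e]
      · apply SimpleGraph.Adj.reachable
        rw [hΓ, SimpleGraph.fromRel_adj]
        refine ⟨e, Or.inr ?_⟩
        have h2 : t * j * t⁻¹ = j⁻¹ := hj.2
        have h3 : j * t * j⁻¹ * t = j ^ 2 := by
          rw [← h2, hti]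
          calc j * t * (t * j * t) * t = j * (t * t) * j * (t * t) := by group
            _ = j ^ 2 := by rw [ht2]; simp [sq]
        show Odd (orderOf (j * t * j⁻¹ * t))
        rw [h3]
        exact hj.1.of_dvd_nat (orderOf_pow_dvd 2)
    | one =>
      have : cj 1 t0 = t0 := Subtype.ext (by simp [cj])
      rw [this]
    | mul x y _ _ hx hy =>
      have : cj (x * y) t0 = cj x (cj y t0) := Subtype.ext (by simp [cj, mul_assoc])
      rw [this]
      exact hx.trans (hhom x _ _ hy)
    | inv x _ hx =>
      have h1 := hhom x⁻¹ _ _ hx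
      have : cj x⁻¹ (cj x t0) = t0 := Subtype.ext (by simp [cj, mul_assoc])
      rw [this] at h1
      exact h1.symm
  have hpre : ∀ x, Γ.Reachable t0 x := by
    intro x
    obtain ⟨g, hg⟩ := isConj_iff.mp x.2
    have : x = cj g t0 := Subtype.ext hg.symm
    rw [this]; exact hall g
  haveI : Nonempty {x : G // IsConj t x} := ⟨t0⟩
  exact ⟨fun x y => (hpre x).symm.trans (hpre y)⟩

end Cfsg.Agent.S3264
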