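import Cfsg.Statements.S3279
import Mathlib
import Cfsg.Agent.Inv.ZStarCor
import Cfsg.Agent.Inv.SylowTwo

set_option autoImplicit false
open Cfsg

namespace Cfsg.Agent.S3279

open Subgroup Cfsg.Agent.PLocal.Amb

theorem three {G : Type*} [Group G] [Finite G] (x : G) (hx : orderOf x = 2)
    (h3 : Nat.card {u : ↥(Subgroup.centralizer ({x} : Set G)) // orderOf u = 2} ≤ 3)
    (y : G) (hy : orderOf y = 2) (hxy : Commute x y) (hne : y ≠ x)
    (t : G) (ht : orderOf t = 2) (hxt : Commute x t) : t = x ∨ t = y ∨ t = x * y := by
  by_contra h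
  push Not at h
  obtain ⟨h1, h2, h4⟩ := h
  have hxx := Inv.mul_self_of_orderOf_two hx
  have hyy := Inv.mul_self_of_orderOf_two hy
  have hz : orderOf (x * y) = 2 := by
    apply Inv.orderOf_two_of_mul_self
    · calc x * y * (x * y) = x * (y * x) * y := by group
        _ = (x * x) * (y * y) := by rw [← hxy.eq]; group
        _ = 1 := by rw [hxx, hyy, one_mul]
    · intro h
      apply hne
      rw [mul_eq_one_iff_inv_eq, Inv.inv_of_orderOf_two hx] at h
      exact h.symm
  have h5 : x * y ≠ x := by simpa using Inv.ne_one_of_orderOf_two hy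
  have h6 : x * y ≠ y := by simpa using Inv.ne_one_of_orderOf_two hx
  let mk : ∀ a : G, orderOf a = 2 → Commute x a →
      {u : ↥(Subgroup.centralizer ({x} : Set G)) // orderOf u = 2} := fun a ha hc =>
    ⟨⟨a, mem_centralizer_singleton_iff.mpr hc.eq.symm⟩, by rw [← Subgroup.orderOf_coe]; exact ha⟩
  let f : Fin 4 → {u : ↥(Subgroup.centralizer ({x} : Set G)) // orderOf u = 2} :=
    ![mk x hx (Commute.refl x), mk y hy hxy, mk (x * y) hz ((Commute.refl x).mul_right hxy),
      mk t ht hxt]
  have hf : Function.Injective f := by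
    intro i j hij
    have := congrArg (fun u => ((u.1 : ↥(Subgroup.centralizer ({x} : Set G))) : G)) hij
    fin_cases i <;> fin_cases j <;> simp only [f, mk] at this <;> first | rfl | (exfalso; simp_all)
  have := Nat.card_le_card_of_injective f hf
  simp at this
  omega


/-- Let G be a finite simple group and x an involution of G whose centralizer contains at most three involutions. Then C_G(x) contains a Sylow 2-subgroup of G, and all involutions of G are conjugate. -/
theorem result {G : Type*} [Group G] [Finite G] [IsSimpleGroup G] (x : G) (hx : orderOf x = 2)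
    (h3 : Nat.card {u : ↥(Subgroup.centralizer ({x} : Set G)) // orderOf u = 2} ≤ 3) :
    (∃ S : Sylow 2 G, (S : Subgroup G) ≤ Subgroup.centralizer ({x} : Set G)) ∧
      ∀ u v : G, orderOf u = 2 → orderOf v = 2 → IsConj u v := by
  classical
  by_cases hcomm : ∀ a b : G, a * b = b * a
  · have : IsMulCommutative G := ⟨⟨hcomm⟩⟩
    have hp := Group.is_simple_iff_prime_card.mp (inferInstance : IsSimpleGroup G)
    have := Fact.mk hp
    have : IsCyclic G := isCyclic_of_prime_card (p := Nat.card G) rfl
    refine ⟨⟨default, fun s _ => mem_centralizer_singleton_iff.mpr (hcomm _ _)⟩, ?_⟩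
    intro u v hu hv
    rw [Inv.eq_of_orderOf_two_of_isCyclic hu hv]
  have hni : ¬ IsIsolatedInvolution x := fun h => hcomm (Inv.ZStar.comm_of_simple_of_isolated h)
  have hni' : ∃ g : G, Commute x (g * x * g⁻¹) ∧ g * x * g⁻¹ ≠ x := by
    by_contra h
    push Not at h
    exact hni ⟨hx, h⟩
  obtain ⟨g, hxy, hne⟩ := hni'
  set y := g * x * g⁻¹ with hy
  have hyo : orderOf y = 2 := by rw [hy, orderOf_conj', hx]
  have hxyc : IsConj x y := isConj_iff.mpr ⟨g, rfl⟩
  have H := three x hx h3 y hyo hxy hne
  have hxx := Inv.mul_self_of_orderOf_two hx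
  have hyy := Inv.mul_self_of_orderOf_two hyo
  set z := x * y with hz
  have hzz : z * z = 1 := by
    calc x * y * (x * y) = x * (y * x) * y := by group
      _ = (x * x) * (y * y) := by rw [← hxy.eq]; group
      _ = 1 := by rw [hxx, hyy, one_mul]
  have hz1 : z ≠ 1 := by
    intro h
    apply hne
    rw [hz, mul_eq_one_iff_inv_eq, Inv.inv_of_orderOf_two hx] at h
    exact h.symm
  have hzo : orderOf z = 2 := Inv.orderOf_two_of_mul_self hzz hz1
  have hzx : IsConj x z := by
    by_contra hnc
    -- the only involution commuting with x and not conjugate to x is z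
    have H1 : ∀ t, orderOf t = 2 → Commute x t → ¬ IsConj x t → t = z := by
      intro t ht hc hn
      rcases H t ht hc with h | h | h
      · exact absurd (h ▸ IsConj.refl x) hn
      · exact absurd (h ▸ hxyc) hn
      · exact h
    have H2 : ∀ t, orderOf t = 2 → Commute y t → ¬ IsConj x t → g⁻¹ * t * g = z := by
      intro t ht hc hn
      apply H1 _ (by rw [Inv.orderOf_conj', ht])
      · have := hc.eq
        rw [hy] at this
        calc x * (g⁻¹ * t * g) = g⁻¹ * (g * x * g⁻¹ * t) * g := by group
          _ = _ := by rw [this]; group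
      · intro h
        exact hn (h.trans (isConj_iff.mpr ⟨g, by group⟩))
    have H3 : ∀ w, IsConj z w → Commute z w := by
      intro w hw
      have hwo : orderOf w = 2 := by rw [← Inv.orderOf_eq_of_isConj hw, hzo]
      have hnw : ¬ IsConj x w := fun h => hnc (h.trans hw.symm)
      have hww := Inv.mul_self_of_orderOf_two hwo
      have hev : Even (orderOf (w * x)) := by
        by_contra h
        exact hnw (Inv.isConj_of_odd_orderOf_mul hww hxx (Nat.not_even_iff_odd.mp h))
      obtain ⟨u, -, huo, huw, hux⟩ := Inv.exists_central_involution_of_even hww hxx hev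
      rcases H u huo hux.symm with h | h | h
      · rw [H1 w hwo (h ▸ huw) hnw]
      · have e1 := H2 w hwo (h ▸ huw) hnw
        have e2 := H2 z hzo (hxy.symm.mul_right (Commute.refl y)) hnc
        have : w = z := by
          have := e1.trans e2.symm
          simpa using this
        rw [this]
      · exact h ▸ huw
    have hN : (centralizer (conjugatesOf z)).Normal := by
      constructor
      intro n hn a
      rw [mem_centralizer_iff] at hn ⊢
      intro w hw
      have := hn (a⁻¹ * w * a) (IsConj.trans hw (isConj_iff.mpr ⟨a⁻¹, by group⟩))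
      calc w * (a * n * a⁻¹) = a * (a⁻¹ * w * a * n) * a⁻¹ := by group
        _ = _ := by rw [this]; group
    have hzN : z ∈ centralizer (conjugatesOf z) := by
      rw [mem_centralizer_iff]
      intro w hw
      exact (H3 w hw).eq.symm
    rcases hN.eq_bot_or_eq_top with h | h
    · rw [h, mem_bot] at hzN; exact hz1 hzN
    · have hzc : z ∈ center G := by
        rw [mem_center_iff]
        intro a
        have : a ∈ centralizer (conjugatesOf z) := h ▸ mem_top a
        exact (mem_centralizer_iff.mp this z mem_conjugatesOf_self).symm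
      rcases (inferInstance : (center G).Normal).eq_bot_or_eq_top with h | h
      · rw [h, mem_bot] at hzc; exact hz1 hzc
      · exact hcomm fun a b => mem_center_iff.mp (h ▸ mem_top b : b ∈ center G) a
  have H4 : ∀ t, orderOf t = 2 → Commute x t → IsConj x t := by
    intro t ht hc
    rcases H t ht hc with h | h | h
    · rw [h]
    · rw [h]; exact hxyc
    · rw [h]; exact hzx
  obtain ⟨S, hS⟩ := (Inv.isPGroup_zpowers_of_orderOf_two hx).exists_le_sylow
  have hxS : x ∈ (S : Subgroup G) := hS (mem_zpowers x)
  have hS1 : (S : Subgroup G) ≠ ⊥ := by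
    intro h; rw [h, mem_bot] at hxS; exact Inv.ne_one_of_orderOf_two hx hxS
  obtain ⟨c, hc, hco⟩ := Inv.exists_involution_of_isPGroup (S.2.to_inf_left)
    (inf_centralizer_ne_bot S.2 S.2 le_normalizer hS1)
  have hcx := H4 c hco (mem_centralizer_iff.mp hc.2 x hxS)
  obtain ⟨h, hh⟩ := isConj_iff.mp hcx.symm
  have hT : ((h • S : Sylow 2 G) : Subgroup G) ≤ centralizer ({x} : Set G) := by
    rw [coe_smul_sylow, ← hh, centralizer_singleton_conj]
    apply cj_mono
    intro s hs
    exact mem_centralizer_singleton_iff.mpr (mem_centralizer_iff.mp hc.2 s hs)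
  have H5 : ∀ u, orderOf u = 2 → IsConj x u := by
    intro u hu
    obtain ⟨a, -, ha⟩ := (isSyl_top (h • S)).exists_cj_le
      (Inv.isPGroup_zpowers_of_orderOf_two hu) le_top
    have h1 := hT (ha (conj_mem_cj a (mem_zpowers u)))
    have h2 := H4 _ (by rw [orderOf_conj', hu]) (mem_centralizer_singleton_iff.mp h1).symm
    exact h2.trans (isConj_iff.mpr ⟨a⁻¹, by group⟩)
  exact ⟨⟨_, hT⟩, fun u v hu hv => (H5 u hu).symm.trans (H5 v hv)⟩

end Cfsg.Agent.S3279
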