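import Cfsg.Statements.S3283
import Mathlib
import Cfsg.Agent.XSC.S6D

set_option autoImplicit false
open Cfsg

namespace Cfsg.Agent.S3283

open Subgroup Cfsg.Agent.LES Cfsg.Agent.XSC Equiv Equiv.Perm

/-- Let G be a finite group with an involution z whose centralizer M has Q = O₂(M) extraspecial of order 2⁹ with C_M(Q) ≤ Q, and M/Q isomorphic to S₃ × A₆ or to S₃ × S₆. Then G is not simple. -/
theorem result {G : Type*} [Group G] [Finite G] (z : G) (hz : orderOf z = 2)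
    (hQ : Cfsg.IsExtraspecial 2 ↥(Cfsg.pCore 2 ↥(Subgroup.centralizer ({z} : Set G)))) (hQ9 : Nat.card ↥(Cfsg.pCore 2 ↥(Subgroup.centralizer ({z} : Set G))) = 2 ^ 9)
    (hCQ : Subgroup.centralizer ((Cfsg.pCore 2 ↥(Subgroup.centralizer ({z} : Set G))) : Set ↥(Subgroup.centralizer ({z} : Set G))) ≤ Cfsg.pCore 2 ↥(Subgroup.centralizer ({z} : Set G)))
    (hMQ : Nonempty (↥(Subgroup.centralizer ({z} : Set G)) ⧸ Cfsg.pCore 2 ↥(Subgroup.centralizer ({z} : Set G)) ≃* (Equiv.Perm (Fin 3) × ↥(alternatingGroup (Fin 6)))) ∨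
      Nonempty (↥(Subgroup.centralizer ({z} : Set G)) ⧸ Cfsg.pCore 2 ↥(Subgroup.centralizer ({z} : Set G)) ≃* (Equiv.Perm (Fin 3) × Equiv.Perm (Fin 6)))) :
    ¬ IsSimpleGroup G := by
  have hL := LX_of_selfCent hz _ hQ hCQ
  rcases hMQ with ⟨⟨e⟩⟩ | ⟨⟨e⟩⟩
  · refine S6.st_of _ hL hQ9 (((MonoidHom.id _).prodMap (alternatingGroup (Fin 6)).subtype).comp
      (e.toMonoidHom.comp (QuotientGroup.mk' _))) (fun a => ?_) fun x y _ hy => ?_
    · rw [← QuotientGroup.eq_one_iff, ← map_eq_one_iff e e.injective]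
      show ((e a).1, ((e a).2 : Perm (Fin 6))) = (1, 1) ↔ _
      rw [Prod.ext_iff, Prod.ext_iff, OneMemClass.coe_eq_one]; rfl
    · obtain ⟨a, ha⟩ := QuotientGroup.mk'_surjective _ (e.symm (x, ⟨y, mem_alternatingGroup.2 hy⟩))
      exact ⟨a, by simp only [MonoidHom.comp_apply, ha]; simp⟩
  · refine S6.st_of _ hL hQ9 (e.toMonoidHom.comp (QuotientGroup.mk' _)) (fun a => ?_)
      fun x y _ _ => ?_
    · rw [← QuotientGroup.eq_one_iff, ← map_eq_one_iff e e.injective]; rfl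
    · obtain ⟨a, ha⟩ := QuotientGroup.mk'_surjective _ (e.symm (x, y))
      exact ⟨a, by simp only [MonoidHom.comp_apply, ha]; simp⟩

end Cfsg.Agent.S3283
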