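import Cfsg.Statements.S3284
import Mathlib
import Cfsg.Agent.XSC.S6D

set_option autoImplicit false
open Cfsg

namespace Cfsg.Agent.S3284

open Subgroup Cfsg.Agent.LES Cfsg.Agent.XSC Equiv Equiv.Perm

/-- There is no non-abelian finite simple group with an involution z whose centralizer M has generalized Fitting subgroup Q = F*(M) extraspecial of order 2⁹ and M/Q isomorphic to the subgroup of S₃ × S₆ consisting of the pairs of permutations with equal sign (a group (3 × A₆)·2 in which an involution outside 3 × A₆ induces S₃ on the first factor and S₆ on the second). -/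
theorem result {G : Type*} [Group G] [Finite G] [IsSimpleGroup G] (hG : ¬ IsMulCommutative G) (z : G) (hz : orderOf z = 2)
    [hn : (Cfsg.generalizedFittingSubgroup ↥(Subgroup.centralizer ({z} : Set G))).Normal]
    (hQ : Cfsg.IsExtraspecial 2 ↥(Cfsg.generalizedFittingSubgroup ↥(Subgroup.centralizer ({z} : Set G)))) (hQ9 : Nat.card ↥(Cfsg.generalizedFittingSubgroup ↥(Subgroup.centralizer ({z} : Set G))) = 2 ^ 9)
    (e : (↥(Subgroup.centralizer ({z} : Set G)) ⧸ Cfsg.generalizedFittingSubgroup ↥(Subgroup.centralizer ({z} : Set G))) ≃*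
      ↥(MonoidHom.ker (Equiv.Perm.sign.comp (MonoidHom.fst (Equiv.Perm (Fin 3)) (Equiv.Perm (Fin 6))) *
          Equiv.Perm.sign.comp (MonoidHom.snd (Equiv.Perm (Fin 3)) (Equiv.Perm (Fin 6)))))) :
    False := by
  refine S6.st_of _ (LX_of_fstar_eq hz _ rfl hQ) hQ9 ((Subgroup.subtype _).comp
      (e.toMonoidHom.comp (QuotientGroup.mk' _))) (fun a => ?_) (fun x y hx hy => ?_) ‹_›
  · rw [← QuotientGroup.eq_one_iff, ← map_eq_one_iff e e.injective]
    exact ⟨fun h => Subtype.ext h, fun h => by simp [h]⟩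
  · obtain ⟨a, ha⟩ := QuotientGroup.mk'_surjective _ (e.symm ⟨(x, y), by simp [hx, hy]⟩)
    exact ⟨a, by simp only [MonoidHom.comp_apply, ha]; simp⟩

end Cfsg.Agent.S3284
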