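import Cfsg.Statements.S3323
import Cfsg.Agent.S2F.Setup
import Cfsg.Agent.S2F.Fus
import Cfsg.Agent.S2F.Quo
import Cfsg.Agent.S2F.Lift
import Cfsg.Agent.S2F.Fin
import Cfsg.Agent.S2F.Ia
import Cfsg.Agent.S2F.Ib2
import Cfsg.Agent.S2F.Ic1
import Cfsg.Agent.S2F.Ic2
import Cfsg.Agent.S2F.Ic3
import Cfsg.Agent.S2F.IIa
import Cfsg.Agent.S2F.IIb2
import Cfsg.Agent.S2F.IId
import Cfsg.Agent.S2F.IIe3
import Cfsg.Agent.S2F.IIf
import Cfsg.Agent.S2F.WR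
import Cfsg.Agent.S2F.F4a
import Cfsg.Agent.S2F.F4b
import Cfsg.Agent.S2114

set_option autoImplicit false
open Cfsg

namespace Cfsg.Agent.S3323

/-- Let G be a finite group whose generalized Fitting subgroup F*(G) is a non-abelian simple group, and let L be a standard subgroup of G isomorphic to the Ree group ²F₄(q), q = 2^(2m+1) ≥ 8, such that the centralizer C_G(L) has cyclic Sylow 2-subgroups and L ≠ G. Then O²(G) has a subgroup of odd index isomorphic to the Chevalley group F₄(q) or to ²F₄(q) × ²F₄(q). -/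
theorem result
    {G : Type*} [Group G] [Finite G]
    (hFs : IsSimpleGroup ↥(Cfsg.generalizedFittingSubgroup G)) (hFna : ¬ IsMulCommutative ↥(Cfsg.generalizedFittingSubgroup G))
    (L : Subgroup G) (hL : Cfsg.IsStandardSubgroup L)
    {K : Type*} [Field K] [Fintype K] (m : ℕ) (hm : 1 ≤ m) (hK : Fintype.card K = 2 ^ (2 * m + 1))
    (e : ↥L ≃* ↥(Cfsg.Lie.twistedF4 K (2 ^ m)))
    (hcyc : ∀ R : Sylow 2 ↥(Subgroup.centralizer (L : Set G)), IsCyclic ↥R)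
    (hLG : L ≠ ⊤) :
    ∃ G₀ : Subgroup G, G₀ ≤ Cfsg.oddGenerated (⊤ : Subgroup G) ∧ Odd (G₀.relIndex (Cfsg.oddGenerated (⊤ : Subgroup G))) ∧
      (Nonempty (↥G₀ ≃* ↥(Cfsg.Lie.chevF4.group K)) ∨
        Nonempty (↥G₀ ≃* (↥(Cfsg.Lie.twistedF4 K (2 ^ m)) × ↥(Cfsg.Lie.twistedF4 K (2 ^ m))))) := by
  obtain ⟨_, R, rfl, h0⟩ := S2F.setup hFs hFna L hL hm hK e hcyc
  obtain ⟨G', _, _, F, P, π, hc⟩ := h0.fz.exists_cover
  obtain ⟨E, hE⟩ := F.exists_Ea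
  obtain ⟨Γ, hΓ⟩ := hE.exists_pre
  obtain ⟨κ, hκ⟩ := hΓ.exists_kap
  obtain ⟨H⟩ := hΓ.exists_hat hκ.c46 (hκ.cC hΓ)
  obtain ⟨H5, hβ⟩ := H.exists_hat5' fun H => H.exists_w1
  obtain ⟨μ, μ₄, h3⟩ := H5.exists_w3
  obtain rfl := h3.mu_zero hβ
  obtain ⟨H'⟩ := h3.rel hβ
  obtain ⟨H'', -⟩ := hc.lift H'
  rcases H''.hβ with h | h
  · obtain ⟨G₀, a, b, c⟩ := h0.fz.final (H''.out_wr h e (S2114.result hm hK))
    exact ⟨G₀, a, b, .inr c⟩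
  · obtain ⟨_, S, -⟩ := Chev.F4.exists_data hK
    obtain ⟨φ, h1, h2⟩ := H''.exists_hom h S
    obtain ⟨G₀, a, b, c⟩ := h0.fz.final (S2F.out_F4 S φ h1 h2)
    exact ⟨G₀, a, b, .inl c⟩

end Cfsg.Agent.S3323
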