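import Cfsg.Statements.S3329
import Cfsg.Agent.Loc3.Alt8

set_option autoImplicit false
open Cfsg

namespace Cfsg.Agent.S3329

open Cfsg.Agent.Loc3 Cfsg.Agent.PLocal.Amb

/-- A 3-local characterization of the alternating group of degree 8. Let G be a finite group whose Sylow 3-subgroup D is elementary abelian of order 9, generated by y and z, and suppose: (i) C_G(D) = D and N_G(D)/D is dihedral of order 8; (ii) D is normal in C_G(y), C_G(y) has order 18, D is normal in N_G(⟨y⟩) and N_G(⟨y⟩)/D is elementary abelian of order 4; (iii) C_G(z) is isomorphic to the direct product of a cyclic group of order 3 and the alternating group of degree 5, and N_G(⟨z⟩) is isomorphic to the subgroup of index 2 of Sym(3) × Sym(5) consisting of the pairs of permutations whose signs agree. Then G is isomorphic to the alternating group of degree 8. -/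
theorem result {G : Type*} [Group G] [Finite G]
    (P : Sylow 3 G) (D : Subgroup G) (hDP : D = P) (y z : G) (hgen : Subgroup.closure {y, z} = D)
    (hcomm : IsMulCommutative D) (hcard : Nat.card D = 9) (hexp : ∀ a ∈ D, a ^ 3 = 1)
    (hC : Subgroup.centralizer (D : Set G) = D)
    (eN : Subgroup.normalizer (D : Set G) ⧸ D.subgroupOf (Subgroup.normalizer (D : Set G)) ≃* DihedralGroup 4)
    (hyn : (D.subgroupOf (Subgroup.centralizer ({y} : Set G))).Normal)
    (hycard : Nat.card (Subgroup.centralizer ({y} : Set G)) = 18)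
    (Ny : Subgroup G) (hNy : Ny = Subgroup.normalizer (Subgroup.zpowers y : Set G))
    (hyN : D ≤ Ny) [hyNn : (D.subgroupOf Ny).Normal]
    (hyNcard : Nat.card (Ny ⧸ D.subgroupOf Ny) = 4) (hyNexp : ∀ g : Ny ⧸ D.subgroupOf Ny, g ^ 2 = 1)
    (eC : Subgroup.centralizer ({z} : Set G) ≃* Multiplicative (ZMod 3) × alternatingGroup (Fin 5))
    (eL : Subgroup.normalizer (Subgroup.zpowers z : Set G) ≃*
      (((Equiv.Perm.sign).comp (MonoidHom.fst (Equiv.Perm (Fin 3)) (Equiv.Perm (Fin 5)))) *
        ((Equiv.Perm.sign).comp (MonoidHom.snd (Equiv.Perm (Fin 3)) (Equiv.Perm (Fin 5))))).ker) :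
    Nonempty (G ≃* alternatingGroup (Fin 8)) := by
  have hy : y ∈ D := hgen ▸ Subgroup.subset_closure (by simp)
  have hz : z ∈ D := hgen ▸ Subgroup.subset_closure (by simp)
  obtain ⟨e⟩ := exists_eL8
  have hD : IsSyl 3 D ⊤ := hDP ▸ isSyl_top P
  subst hgen
  refine alt8_main (ψ := (Subgroup.subtype _).comp (e.trans eL.symm).toMonoidHom)
    (Subtype.val_injective.comp (e.trans eL.symm).injective)
    (congrArg Subtype.val (hcomm.1.1 ⟨y, hy⟩ ⟨z, hz⟩)) (hexp y hy) (hexp z hz) ?_ hD hcard hC.le
    hycard (fun h => ?_) ?_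
  · rw [MonoidHom.range_comp, MonoidHom.range_eq_top.2 (e.trans eL.symm).surjective,
      ← MonoidHom.range_eq_map, Subgroup.range_subtype]
  · have := card_cent_of_isConj h
    rw [hycard, Nat.card_congr eC.toEquiv, Nat.card_prod, nat_card_alternatingGroup] at this
    simp [Nat.factorial] at this
  · obtain ⟨⟨σ, hσ⟩, h⟩ := QuotientGroup.mk_surjective (eN.symm (DihedralGroup.r 1))
    refine ⟨σ, hσ, not_or.1 fun k => ?_⟩
    have y1 : y ≠ 1 := by
      rintro rfl
      exact not_mem_of_nine hcard (hexp z hz) (one_mem _)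
    have h1 : σ ∈ Ny := hNy ▸ (mem_norm_three (hexp y hy) y1).2 k
    have h2 := hyNexp (QuotientGroup.mk ⟨σ, h1⟩)
    rw [← QuotientGroup.mk_pow, QuotientGroup.eq_one_iff] at h2
    have h3 : eN.symm (DihedralGroup.r 1) ^ 2 = 1 := by
      rw [← h, ← QuotientGroup.mk_pow, QuotientGroup.eq_one_iff]; exact h2
    rw [← map_pow, MulEquiv.map_eq_one_iff] at h3
    exact absurd h3 (by decide)

end Cfsg.Agent.S3329
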