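import Cfsg.Statements.S3330
import Cfsg.Agent.Loc3.Sym8C
import Cfsg.Agent.Loc3.Sym8I
set_option autoImplicit false
open Cfsg

namespace Cfsg.Agent.S3330

open Subgroup Cfsg.Agent.PLocal.Amb Cfsg.Agent.Loc3

set_option synthInstance.maxSize 100000

theorem m8_z : ∀ x : M8, x ^ 3 = 1 → x ≠ 1 →
    (∀ g ∈ [aM, rM], g * x * g⁻¹ = x ∨ g * x * g⁻¹ = x⁻¹) →
    (∀ g ∈ [bM, pM], g * x * g⁻¹ = x ∨ g * x * g⁻¹ = x⁻¹) → x = zM ∨ x = zM⁻¹ := pd!

theorem m8_y : ∀ x : M8, x ^ 3 = 1 → Commute x zM → (x = 1 ∨ x = zM ∨ x = zM⁻¹) ∨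
    ∃ t ∈ [x, x * zM⁻¹, x⁻¹ * zM⁻¹], ∃ k, k * wM * k⁻¹ = t ∧ Commute k zM := pd!

theorem m8_cy : ∀ x : M8, Commute x (zM * wM) → x * zM * x⁻¹ ≠ zM⁻¹ := pd!

theorem main {G : Type*} [Group G] [Finite G] {ψ : M8 →* G} (inj : Function.Injective ψ)
    (nz : ∀ g, g * ψ zM * g⁻¹ = ψ zM ∨ g * ψ zM * g⁻¹ = (ψ zM)⁻¹ → g ∈ ψ.range)
    (syl : IsSyl 3 (closure {ψ zM, ψ wM}) ⊤)
    (cy : ∀ g, Commute g (ψ zM * ψ wM) → g ∈ 𝐍[closure {ψ zM, ψ wM}] ∧ g ^ 2 ∈ closure {ψ zM, ψ wM})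
    (nzy : ¬ IsConj (ψ zM) (ψ zM * ψ wM))
    (hc : ¬ centralizer {ψ zM * ψ wM} ≤ 𝐂[closure {ψ zM, ψ wM}]) :
    Nonempty (G ≃* S8) ∨ ∃ θ u, Two ψ θ u := by
  obtain ⟨v, hv, vD⟩ := SetLike.not_le_iff_exists.1 hc
  have vy := conj_of_comm (mem_cent.1 hv)
  obtain ⟨vn, v2⟩ := cy v (mem_cent.1 hv)
  have vw : v * ψ wM * v⁻¹ = (v * ψ zM * v⁻¹)⁻¹ * (ψ zM * ψ wM) := by
    rw [eq_inv_mul_iff_mul_eq]; exact Eq.trans (by group) vy
  have vz : v * ψ zM * v⁻¹ = ψ wM := by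
    obtain ⟨d, hd, e⟩ := mem_DM (conj_mem_of_mem_normalizer vn mem_l)
    rcases e with rfl | (rfl | rfl) | (rfl | rfl) | e
    · exact absurd (inj (show ψ zM = ψ 1 by simpa using hd.symm)) pd!
    · refine absurd (mem_centralizer_iff.2 fun a ha => (comm_pair ha (comm_of_conj hd.symm)
        (comm_of_conj ?_)).symm.eq) vD
      rw [vw, ← hd]; simp
    · obtain ⟨x, rfl⟩ := nz v (Or.inr (by rw [← hd, map_inv]))
      exact absurd (inj (by simpa using hd.symm)) (m8_cy x (inj (by simpa using mem_cent.1 hv |>.eq)))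
    · exact hd.symm
    · refine absurd ((isConj_iff.2 ⟨v, hd.symm⟩).trans ((ψ.map_isConj
        (show IsConj wM⁻¹ wM from pd!)).trans ((isConj_iff.2 ⟨v, rfl⟩).trans ?_))) nzy
      rw [vw, ← hd, ← map_inv, ← map_mul, ← map_mul]
      exact ψ.map_isConj pd!
    · exact absurd ((isConj_iff.2 ⟨v, hd.symm⟩).trans (by
        rw [← map_mul]; exact (ψ.map_isConj e.1).symm)) nzy
  obtain ⟨u, h, -⟩ := exists_coreS inj nz syl (fun g c => (cy g c).1) nzy vz (pow_two v ▸ v2)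
  exact h.ua.imp h.iso fun e => ⟨(MulAut.conj u).toMonoidHom.comp ψ, u, h, fun _ => rfl, e⟩

/-- A 3-local characterization of the symmetric group of degree 8, with one exceptional configuration. Let G be a finite group whose Sylow 3-subgroup D is elementary abelian of order 9, generated by y and z, and suppose: (i) C_G(D) has order 18, N_G(D)/D is isomorphic to the direct product of a dihedral group of order 8 and a group of order 2, and N_G(D)/C_G(D) is dihedral of order 8; (ii) D is normal in C_G(y), C_G(y) has order 36 with every square lying in D, D is normal in N_G(⟨y⟩), and N_G(⟨y⟩) has order 72 with every square lying in D; (iii) C_G(z) is isomorphic to the direct product of a cyclic group of order 3 and Sym(5), and N_G(⟨z⟩) is isomorphic to Sym(3) × Sym(5). Then either G is isomorphic to the symmetric group of degree 8, or the generalized Fitting subgroup of G is a minimal normal subgroup isomorphic to Alt(5)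 × Alt(5) of index 4 with every square of G lying in it. -/
theorem result {G : Type*} [Group G] [Finite G]
    (P : Sylow 3 G) (D : Subgroup G) (hDP : D = P) (y z : G) (hgen : Subgroup.closure {y, z} = D)
    (hcomm : IsMulCommutative D) (hcard : Nat.card D = 9) (hexp : ∀ a ∈ D, a ^ 3 = 1)
    (hC : Nat.card (Subgroup.centralizer (D : Set G)) = 18)
    (eN : Subgroup.normalizer (D : Set G) ⧸ D.subgroupOf (Subgroup.normalizer (D : Set G)) ≃* DihedralGroup 4 × Multiplicative (ZMod 2))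
    [hcn : ((Subgroup.centralizer (D : Set G)).subgroupOf (Subgroup.normalizer (D : Set G))).Normal]
    (eNC : Subgroup.normalizer (D : Set G) ⧸ (Subgroup.centralizer (D : Set G)).subgroupOf (Subgroup.normalizer (D : Set G)) ≃* DihedralGroup 4)
    (hyn : (D.subgroupOf (Subgroup.centralizer ({y} : Set G))).Normal)
    (hycard : Nat.card (Subgroup.centralizer ({y} : Set G)) = 36)
    (hysq : ∀ g ∈ Subgroup.centralizer ({y} : Set G), g ^ 2 ∈ D)
    (Ny : Subgroup G) (hNy : Ny = Subgroup.normalizer (Subgroup.zpowers y : Set G))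
    (hyNn : (D.subgroupOf Ny).Normal) (hyNcard : Nat.card Ny = 72) (hyNsq : ∀ g ∈ Ny, g ^ 2 ∈ D)
    (eC : Subgroup.centralizer ({z} : Set G) ≃* Multiplicative (ZMod 3) × Equiv.Perm (Fin 5))
    (eL : Subgroup.normalizer (Subgroup.zpowers z : Set G) ≃* Equiv.Perm (Fin 3) × Equiv.Perm (Fin 5)) :
    Nonempty (G ≃* Equiv.Perm (Fin 8)) ∨
      ∃ N : Subgroup G, N.Normal ∧ Cfsg.generalizedFittingSubgroup G = N ∧
        Nonempty (N ≃* alternatingGroup (Fin 5) × alternatingGroup (Fin 5)) ∧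
        (∀ K : Subgroup G, K.Normal → K ≤ N → K = ⊥ ∨ K = N) ∧
        N.index = 4 ∧ ∀ g : G, g ^ 2 ∈ N := by
  have hy : y ∈ D := hgen ▸ mem_l
  have hz : z ∈ D := hgen ▸ mem_r
  obtain ⟨e, -⟩ := exists_e35
  have hD : IsSyl 3 D ⊤ := hDP ▸ isSyl_top P
  have hDC : D ≤ 𝐂[D] := fun a ha => mem_centralizer_iff.2 fun b hb =>
    congrArg Subtype.val (hcomm.1.1 ⟨b, hb⟩ ⟨a, ha⟩)
  have z3 := hexp z hz
  have y3 := hexp y hy
  have nzy : ¬ IsConj z y := fun h => by
    have := card_cent_of_isConj h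
    rw [hycard, Nat.card_congr eC.toEquiv, Nat.card_prod, Nat.card_perm] at this
    simp [Nat.factorial] at this
  have cy : ∀ g, Commute g y → g ∈ 𝐍[D] ∧ g ^ 2 ∈ D := fun g c => ⟨mem_normalizer_of_cj_le
    (cj_le_iff_forall.2 fun a ha => hyn.conj_mem ⟨a, mem_cent.2 (mem_centralizer_iff.1 (hDC hy) a ha)⟩
      ha ⟨g, mem_cent.2 c⟩), hysq g (mem_cent.2 c)⟩
  have hc : ¬ centralizer {y} ≤ 𝐂[D] := fun k => by
    have := card_le_of_le k
    omega
  obtain ⟨σ, hσ, n1, n2⟩ : ∃ σ ∈ 𝐍[D], σ * y * σ⁻¹ ≠ y ∧ σ * y * σ⁻¹ ≠ y⁻¹ := by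
    obtain ⟨⟨σ, hσ⟩, h⟩ := QuotientGroup.mk_surjective (eNC.symm (DihedralGroup.r 1))
    refine ⟨σ, hσ, not_or.1 fun k => ?_⟩
    have y1 : y ≠ 1 := by
      rintro rfl
      exact not_mem_of_nine (hgen ▸ hcard) z3 (one_mem _)
    have h3 : eNC.symm (DihedralGroup.r 1) ^ 2 = 1 := by
      rw [← h, ← QuotientGroup.mk_pow, QuotientGroup.eq_one_iff]
      exact hDC (hyNsq σ (hNy ▸ (mem_norm_three y3 y1).2 k))
    rw [← map_pow, MulEquiv.map_eq_one_iff] at h3
    exact absurd h3 (by decide)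
  have c : Commute y z := (mem_centralizer_iff.1 (hDC hz) y hy)
  subst hgen
  have z1 : z ≠ 1 := by
    rintro rfl
    exact not_mem_of_nine (a := 1) (by rwa [Set.pair_comm]) y3 (one_mem _)
  obtain ⟨ψ, inj, hr, rfl, e⟩ := norm_gen (z0 := zM) (w0 := wM) (fun x x3 x1 k => by
    rcases m8_z x x3 x1 (fun g _ => k g) fun g _ => k g with rfl | rfl
    exacts [IsConj.refl _, pd!]) m8_y (ψ := (Subgroup.subtype _).comp (e.symm.trans eL.symm).toMonoidHom)
    (Subtype.val_injective.comp (e.symm.trans eL.symm).injective) z3 z1 (by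
      rw [MonoidHom.range_comp, MonoidHom.range_eq_top.2 (e.symm.trans eL.symm).surjective,
        ← MonoidHom.range_eq_map, Subgroup.range_subtype]) y3 c (not_mem_of_nine hcard z3)
  rw [closure_pair_eq e] at hD hσ cy hc
  have nz : ∀ g, g * ψ zM * g⁻¹ = ψ zM ∨ g * ψ zM * g⁻¹ = (ψ zM)⁻¹ → g ∈ ψ.range := fun g e =>
    hr ▸ (mem_norm_three z3 z1).2 e
  refine Or.imp_right (fun ⟨θ, u, h⟩ => Two.final h) (?_ : _ ∨ ∃ θ u, Two ψ θ u)
  rcases e with rfl | rfl | e
  · exfalso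
    obtain ⟨d, hd, e⟩ := mem_DM (conj_mem_of_mem_normalizer hσ mem_r)
    have c1 : IsConj (ψ wM) (ψ d) := isConj_iff.2 ⟨σ, hd.symm⟩
    have zz : IsConj (ψ zM) (ψ zM⁻¹) := ψ.map_isConj pd!
    rcases e with rfl | (rfl | rfl) | (rfl | rfl) | e
    · exact ne_one_of_isConj inj c1 pd! rfl
    · exact nzy c1.symm
    · exact nzy (zz.trans c1.symm)
    · exact n1 hd.symm
    · exact n2 (by rw [← hd, map_inv])
    obtain ⟨d', hd', e'⟩ := mem_DM (conj_mem_of_mem_normalizer hσ mem_l)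
    have c2 : IsConj (ψ zM) (ψ d') := isConj_iff.2 ⟨σ, hd'.symm⟩
    rcases e' with rfl | e' | (rfl | rfl) | e'
    · exact ne_one_of_isConj inj c2 pd! rfl
    · obtain ⟨x, rfl⟩ := nz σ (e'.imp (fun e => by rw [← hd', e]) fun e => by rw [← hd', e, map_inv])
      exact e.2 (isConj_iff.2 ⟨x, inj (by simpa using hd.symm)⟩)
    · exact nzy c2
    · exact nzy (c2.trans (ψ.map_isConj pd!))
    · exact nzy (c2.trans ((ψ.map_isConj (e'.1.symm.trans e.1)).trans c1.symm))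
  · exact main inj nz hD cy nzy hc
  · refine main inj nz hD (fun g c => cy g (by simpa [← e] using c)) (fun k => nzy (k.trans ?_)) ?_
    · rw [← inv_inv y, e, ← map_mul, ← map_inv]; exact ψ.map_isConj pd!
    · rwa [← e, ← centralizer_zpowers, zpowers_inv, centralizer_zpowers]

end Cfsg.Agent.S3330
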