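import Cfsg.Statements.S3339
import Cfsg.Agent.A9.Core9
import Cfsg.Agent.A9.CaseB

set_option autoImplicit false
open Cfsg

namespace Cfsg.Agent.S3339

open Subgroup Cfsg.Agent.A9 Cfsg.Agent.PLocal.Amb Cfsg.Agent.Loc3

/-- A 3-local characterization of the alternating group of degree 9. Let G be a finite group and J ≤ G an elementary abelian subgroup of order 27 whose normalizer H = N_G(J) is isomorphic to the normalizer, in the alternating group of degree 9, of the subgroup generated by three disjoint 3-cycles. If O_{3'}(C_G(x)) = 1 for every element x of order 3 in H, then either G = H or G is isomorphic to the alternating group of degree 9. -/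
theorem result {G : Type*} [Group G] [Finite G]
    (J : Subgroup G) (hJcomm : IsMulCommutative J) (hJexp : ∀ a ∈ J, a ^ 3 = 1) (hJcard : Nat.card J = 27)
    (H : Subgroup G) (hH : H = Subgroup.normalizer (J : Set G))
    (J₀ : Subgroup (Equiv.Perm (Fin 9)))
    (hJ₀ : J₀ = Subgroup.closure {Equiv.swap (0 : Fin 9) 1 * Equiv.swap 1 2, Equiv.swap (3 : Fin 9) 4 * Equiv.swap 4 5, Equiv.swap (6 : Fin 9) 7 * Equiv.swap 7 8})
    (eH : H ≃* ↥(alternatingGroup (Fin 9) ⊓ Subgroup.normalizer (J₀ : Set (Equiv.Perm (Fin 9)))))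
    (hcores : ∀ x ∈ H, orderOf x = 3 → Cfsg.pPrimeCore 3 (Subgroup.centralizer ({x} : Set G)) = ⊥) :
    H = ⊤ ∨ Nonempty (G ≃* alternatingGroup (Fin 9)) := by
  rw [hJ₀, J0_eq, norm_J0] at eH
  obtain ⟨φ, inj, r⟩ : ∃ φ : H9 →* G, Function.Injective φ ∧ φ.range = H :=
    ⟨H.subtype.comp eH.symm.toMonoidHom, H.subtype_injective.comp eH.symm.injective, by
      rw [MonoidHom.range_comp, MonoidHom.range_eq_top.2 eH.symm.surjective,
        ← MonoidHom.range_eq_map, range_subtype]⟩
  have e := map_comap_eq_self (f := φ) (H := J) (by rw [r, hH]; exact le_normalizer)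
  have eJ : J.comap φ = J9 := eq_J9 (by rw [← card_map_of_injective inj, e, hJcard])
    (fun x hx => inj (by simpa using hJexp _ hx)) fun x hx y hy => hcomm inj
      (congrArg Subtype.val (hJcomm.is_comm.comm (⟨φ x, hx⟩ : J) ⟨φ y, hy⟩))
  have h : Base φ := ⟨inj, by rw [← eJ, e, r, hH], fun x x3 x1 => by
    rw [Op', hcores (φ x) (r ▸ rng φ x) (orderOf_three (A9.hpow x3) (hne1 inj x1)), Subgroup.map_bot]⟩
  exact h.alt.imp (fun ca => r ▸ h.top ca) id

end Cfsg.Agent.S3339
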