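import Cfsg.Statements.S3342
import Mathlib
import Cfsg.Agent.Loc3.PrA
import Cfsg.Agent.PS4.Id2

set_option autoImplicit false
open Cfsg

namespace Cfsg.Agent.S3342

open Subgroup Cfsg.Agent.Loc3 Cfsg.Agent.Loc3.Pr Cfsg.Agent.PLocal.Amb


/-- Let G be a finite group and a ∈ G an element of order 3 whose centralizer C has O₃(C) extraspecial of order 27 and exponent 3 with C/O₃(C) isomorphic to SL(2,3), and suppose some elementary abelian J ≤ C of order 27 normalizes no non-trivial subgroup of G of order prime to 3. If a is not conjugate to its inverse, then G has a normal subgroup of index 3 or G is isomorphic to PSp(4,3). If a is conjugate to its inverse, then ⟨a⟩ is normal in G, or G is isomorphic to the full automorphism group of PSp(4,3), or G is isomorphic to Sp(6,2). -/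
theorem result {G : Type*} [Group G] [Finite G]
    (a : G) (ha : orderOf a = 3) (C : Subgroup G) (hC : C = Subgroup.centralizer ({a} : Set G))
    (hR : Cfsg.IsExtraspecial 3 (Cfsg.pCore 3 C)) (hRcard : Nat.card (Cfsg.pCore 3 C) = 27)
    (hRexp : ∀ r ∈ Cfsg.pCore 3 C, r ^ 3 = 1)
    (e : C ⧸ Cfsg.pCore 3 C ≃* Matrix.SpecialLinearGroup (Fin 2) (ZMod 3))
    (J : Subgroup G) (hJC : J ≤ C) (hJcomm : IsMulCommutative J) (hJexp : ∀ j ∈ J, j ^ 3 = 1) (hJcard : Nat.card J = 27)
    (hJsig : ∀ K : Subgroup G, (Nat.card K).Coprime 3 → (∀ j ∈ J, K.map (MulAut.conj j).toMonoidHom = K) → K = ⊥)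
    (F : Type*) [Field F] [Fintype F] (hF : Fintype.card F = 3)
    (F₂ : Type*) [Field F₂] [Fintype F₂] (hF₂ : Fintype.card F₂ = 2) :
    ((∀ g : G, g * a * g⁻¹ ≠ a⁻¹) →
      (∃ N : Subgroup G, N.Normal ∧ N.index = 3) ∨ Nonempty (G ≃* Cfsg.PSp 2 F)) ∧
    ((∃ g : G, g * a * g⁻¹ = a⁻¹) →
      Subgroup.normalizer (Subgroup.zpowers a : Set G) = ⊤ ∨ Nonempty (G ≃* MulAut (Cfsg.PSp 2 F)) ∨
        Nonempty (G ≃* Matrix.symplecticGroup (Fin 3) F₂)) := by
  have := Fact.mk Nat.prime_three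
  have := Fact.mk Nat.prime_two
  subst hC
  obtain ⟨z, hz, -, -⟩ := Grp.ES.isES_of_isExtraspecial hR
  have k : (e.toMonoidHom.comp (QuotientGroup.mk' _)).ker = pCore 3 _ := by ext a; simp
  have s : Function.Surjective (e.toMonoidHom.comp (QuotientGroup.mk' _)) :=
    e.surjective.comp (QuotientGroup.mk'_surjective _)
  generalize e.toMonoidHom.comp (QuotientGroup.mk' _) = π at k s
  have sig : Sig J := fun K a b => hJsig K a fun j hj => cj_eq_iff.2 (b hj)
  rw [← k] at hz hRcard hRexp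
  obtain ⟨φ, hφ, -, -, eJ⟩ := PS4.id2 s hz hRcard (fun t ht t2 => by
      by_contra! h
      have t2' : (t : G) * t = 1 := congrArg Subtype.val t2
      have := sig (zpowers (t : G)) (cop_of_isP (by decide)
        (isPGroup_zpowers (p := 2) ⟨1, by simpa [pow_two]⟩)) fun j hj => by
          have m : ⟨j, hJC hj⟩ * t * ⟨j, hJC hj⟩⁻¹ * t⁻¹ ∈ π.ker := by simp [ht]
          have c : Commute t (⟨j, hJC hj⟩ * t * ⟨j, hJC hj⟩⁻¹) := by
            simpa using (h _ m).mul_right (Commute.refl t)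
          have := eq_one_of_two_three (k := 1) (by
            rw [c.symm.inv_right.mul_pow, conj_pow, inv_pow, pow_one, pow_two, t2]; simp) (hRexp _ m)
          refine mem_normalizer_fintype fun x hx => ?_
          rcases (mem_zpowers_two t2').1 hx with rfl | rfl
          · simp
          · exact mem_zpowers_iff.2 ⟨1, by simpa using congrArg Subtype.val (mul_inv_eq_one.1 this).symm⟩
      rw [show t = 1 from Subtype.ext (mem_bot.1 (this.le (mem_zpowers _))), map_one] at ht
      exact absurd ht (by decide))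
    (E := J.subgroupOf _) (fun g hg => Subtype.ext (hJexp g hg))
    (fun g hg h hh => Subtype.ext (setLike_mul_comm (s := J) hg hh))
    (by rw [Nat.card_congr (subgroupOfEquivOfLe hJC).toEquiv, hJcard])
  obtain ⟨ψ, h, b⟩ := exists_PS' ha hφ hJC eJ sig
  have f := (Class.pspCongr 2 (Class.ringEquivZMod hF)).symm
  have i : ∀ g : G, g * ψ (X32.TG.e 1) * g⁻¹ = (ψ (X32.TG.e 1))⁻¹ ↔ g * a * g⁻¹ = a⁻¹ := fun g => by
    rcases b with b | b <;> rw [b]
    rw [conj_inv', inv_inj]
  refine ⟨fun c => (h.nonreal fun g d => c g ((i g).1 d)).imp_right fun ⟨d⟩ => ⟨d.trans f⟩,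
    fun ⟨g, c⟩ => (h.real' ((i g).2 c)).imp (fun d => ?_) (Or.imp (fun ⟨d⟩ =>
      ⟨d.trans (MulAut.congr f)⟩) fun ⟨d⟩ =>
        ⟨d.trans (Class.spCongr _ (Class.ringEquivZMod hF₂)).symm⟩)⟩
  rcases b with b | b <;> rw [b] at d
  exacts [d, zpowers_inv (g := a) ▸ d]

end Cfsg.Agent.S3342
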