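import Cfsg.Statements.S3348
import Cfsg.Agent.AGL.Main

set_option autoImplicit false
open Cfsg
open Subgroup Cfsg.Agent.X32 Cfsg.Agent.PS4 Cfsg.Agent.AGL

namespace Cfsg.Agent.S3348

/-- Let G be a finite group generated by isomorphic subgroups A and B such that C = A ∩ B contains a Sylow 3-subgroup of each of A and B and no non-trivial subgroup of C is normalized by both A and B. Suppose A/O₃(A) and B/O₃(B) are isomorphic to GL(2,3), that O₃(A) and O₃(B) are elementary abelian of order 9 and self-centralizing in A and B respectively (natural modules), and that for a Sylow 3-subgroup S of C the normalizer N_G(Z(S)) lies in A ∩ B. Then G is isomorphic to the Mathieu group M₁₂ or to PSL(3,3). -/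
theorem result {G : Type*} [Group G] [Finite G]
    (A B : Subgroup G) (eAB : Nonempty (A ≃* B)) (hgen : A ⊔ B = ⊤)
    (hSylA : ¬ 3 ∣ ((A ⊓ B).subgroupOf A).index) (hSylB : ¬ 3 ∣ ((A ⊓ B).subgroupOf B).index)
    (hcore : ∀ N : Subgroup G, N ≤ A ⊓ B → (∀ a ∈ A, N.map (MulAut.conj a).toMonoidHom = N) →
      (∀ b ∈ B, N.map (MulAut.conj b).toMonoidHom = N) → N = ⊥)
    (eA : A ⧸ Cfsg.pCore 3 A ≃* GL (Fin 2) (ZMod 3)) (eB : B ⧸ Cfsg.pCore 3 B ≃* GL (Fin 2) (ZMod 3))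
    (hOA : IsMulCommutative (Cfsg.pCore 3 A) ∧ (∀ x ∈ Cfsg.pCore 3 A, x ^ 3 = 1) ∧ Nat.card (Cfsg.pCore 3 A) = 9 ∧
      Subgroup.centralizer ((Cfsg.pCore 3 A : Subgroup A) : Set A) = Cfsg.pCore 3 A)
    (hOB : IsMulCommutative (Cfsg.pCore 3 B) ∧ (∀ x ∈ Cfsg.pCore 3 B, x ^ 3 = 1) ∧ Nat.card (Cfsg.pCore 3 B) = 9 ∧
      Subgroup.centralizer ((Cfsg.pCore 3 B : Subgroup B) : Set B) = Cfsg.pCore 3 B)
    (S : Sylow 3 ↥(A ⊓ B)) (Z : Subgroup G)
    (hZ : Z = ((S : Subgroup ↥(A ⊓ B)) ⊓ Subgroup.centralizer ((S : Subgroup ↥(A ⊓ B)) : Set ↥(A ⊓ B))).map (A ⊓ B).subtype)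
    (hNZ : Subgroup.normalizer (Z : Set G) ≤ A ⊓ B) :
    Cfsg.Spor.IsoM12 G ∨ Nonempty (G ≃* Matrix.ProjectiveSpecialLinearGroup (Fin 3) (ZMod 3)) := by
  have := Fact.mk Nat.prime_three
  have par : ∀ A : Subgroup G, (A ⧸ pCore 3 A ≃* GL (Fin 2) (ZMod 3)) → IsMulCommutative (pCore 3 A) ∧
      (∀ x ∈ pCore 3 A, x ^ 3 = 1) ∧ Nat.card (pCore 3 A) = 9 ∧
      centralizer ((pCore 3 A : Subgroup A) : Set A) = pCore 3 A →
      Par A ((pCore 3 A).map A.subtype) := fun A e ⟨a, b, c, d⟩ => by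
    refine ⟨map_subtype_le _, ?_, by rw [card_map_of_injective A.subtype_injective, c], ?_, ?_, ?_,
      fun g hg h => ⟨⟨g, hg⟩, d.le fun x hx => Subtype.ext (h x ⟨x, hx, rfl⟩).eq.symm, rfl⟩⟩
    · rw [card_eq_card_quotient_mul_card_subgroup (pCore 3 A), c, Nat.card_congr e.toEquiv,
        Matrix.card_GL_field]
      decide
    · rintro _ ⟨x, hx, rfl⟩; exact congrArg Subtype.val (b x hx)
    · rintro _ ⟨x, hx, rfl⟩ _ ⟨y, hy, rfl⟩
      exact congrArg Subtype.val (setLike_mul_comm (s := pCore 3 A) hx hy)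
    · rintro g hg _ ⟨x, hx, rfl⟩
      exact ⟨_, (inferInstance : (pCore 3 A).Normal).conj_mem x hx ⟨g, hg⟩, rfl⟩
  have h := par A eA hOA
  have h' := par B eB hOB
  generalize (pCore 3 A).map A.subtype = V at h
  generalize (pCore 3 B).map B.subtype = W at h'
  have syl : ∀ {A' V : Subgroup G} (l : A ⊓ B ≤ A'), Par A' V → ¬ 3 ∣ ((A ⊓ B).subgroupOf A').index →
      V ≤ (S : Subgroup ↥(A ⊓ B)).map (A ⊓ B).subtype := fun {A' V} l h i v hv => by
    have hi : ¬ 3 ∣ ((S : Subgroup _).map (inclusion l)).index := by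
      rw [index_map_of_injective _ (inclusion_injective l), inclusion_range]
      exact Nat.prime_three.not_dvd_mul S.not_dvd_index i
    have : (V.subgroupOf A').Normal := ⟨fun x hx g => h.nm g g.2 x hx⟩
    obtain ⟨s, hs, e⟩ := (show IsPGroup 3 (V.subgroupOf A') from (isP3 h.e3).comap_subtype
      ).le_sylow_of_normal ((S.2.map _).toSylow hi) (show (⟨v, h.le hv⟩ : A') ∈ _ from hv)
    exact ⟨s, hs, congrArg Subtype.val e⟩
  have sV := syl inf_le_left h hSylA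
  have sW := syl inf_le_right h' hSylB
  have lV := sV.trans (map_subtype_le _)
  have lW := sW.trans (map_subtype_le _)
  have nb : V ≠ ⊥ := fun e => by simpa [e] using h.cV
  have nm : ∀ {A V : Subgroup G}, Par A V → ∀ a ∈ A, V.map (MulAut.conj a).toMonoidHom = V :=
    fun h a ha => eq_of_le_of_card_ge (by rintro _ ⟨x, hx, rfl⟩; exact h.nm a ha x hx)
      (card_map_of_injective (MulAut.conj a).injective).ge
  have ne : V ≠ W := fun e => nb (hcore V lV (nm h) (e ▸ nm h'))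
  have zV : ∀ {A' V : Subgroup G}, A ⊓ B ≤ A' → Par A' V →
      V ≤ (S : Subgroup ↥(A ⊓ B)).map (A ⊓ B).subtype → Z ≤ V := fun l h s => by
    rw [hZ]
    rintro _ ⟨x, hx, rfl⟩
    refine h.sc x (l x.2) fun v hv => ?_
    obtain ⟨v, a, rfl⟩ := s hv
    exact (congrArg Subtype.val (hx.2 v a)).symm
  have z1 := zV inf_le_left h sV
  have z2 := zV inf_le_right h' sW
  have : Nontrivial (S : Subgroup ↥(A ⊓ B)) := (nontrivial_iff_ne_bot _).2 fun e =>
    nb (by simpa [e] using sV)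
  obtain ⟨⟨y, yc⟩, y1⟩ := @exists_ne _ S.2.center_nontrivial 1
  have yZ : (y : G) ∈ Z := hZ ▸ ⟨y, ⟨y.2, fun s hs =>
    congrArg Subtype.val (mem_center_iff.1 yc ⟨s, hs⟩)⟩, rfl⟩
  have y2 : (y : G) ≠ 1 := fun e => y1 (Subtype.ext (Subtype.ext (Subtype.ext e)))
  have eZ : zpowers (y : G) = Z := le_antisymm (zpowers_le.2 yZ) fun w hw => by
    rw [mem_zp3 (h.e3 _ (z1 yZ))]
    by_contra! c
    exact ne (h.eq_of_bas h' ⟨z1 yZ, z1 hw, y2, c⟩ ⟨z2 yZ, z2 hw, y2, c⟩)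
  refine h.main h' (lV.trans inf_le_right) (lW.trans inf_le_left) ne hgen (z1 yZ) (z2 yZ) y2
    fun g hg => hNZ ?_
  rw [← eZ]
  refine mem_normalizer_fintype fun p hp => ?_
  obtain ⟨i, rfl⟩ := mem_zpowers_iff.1 hp
  rw [← conj_zpow]; exact zpow_mem hg i

end Cfsg.Agent.S3348
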