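import Cfsg.Statements.S3359
import Cfsg.Agent.FGS.RankOneStruct2
import Cfsg.Agent.S0690

set_option autoImplicit false
open Cfsg

namespace Cfsg.Agent.S3359

open FGS.FrobCompl in
theorem exists_SL25 {G : Type*} [Group G] [Finite G] (hns : ¬ Group.IsSolvable G) (h : Occurs G) :
    ∃ S : Subgroup G, S.Normal ∧ ⁅S, S⁆ = S ∧ Nonempty (S ≃* SL25) := by
  obtain ⟨S, hS, hne, hp⟩ := exists_perfect_normal hns
  obtain ⟨V, _, _, _, φ, hφ, -⟩ := h.exists_isFpf
  have hinj : Function.Injective φ := by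
    rw [injective_iff_map_eq_one]
    intro a ha
    obtain ⟨v, hv⟩ := exists_ne (1 : V)
    exact (hφ a v (by rw [ha]; rfl)).resolve_right hv
  haveI : Group.IsPerfect S := Subgroup.isPerfect_iff.2 hp
  obtain ⟨e⟩ := S0690.result (S.map φ) (by
      rintro _ ⟨a, -, rfl⟩ ha k hk
      exact (hφ a k hk).resolve_left fun h => ha (by rw [h, map_one]))
    (Group.isPerfect_def.1 (Group.IsPerfect.map φ))
    (fun h => hne ((Subgroup.map_eq_bot_iff_of_injective S hinj).1 h))
  exact ⟨S, hS, hp, ⟨(S.equivMapOfInjective φ hinj).trans e⟩⟩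

open FGS.FrobCompl in

/-- Structure of non-solvable Frobenius complements. Let G be a finite non-solvable group that occurs as a Frobenius complement. Then G has a normal subgroup G₀ of index 1 or 2 which is the direct product of a subgroup isomorphic to SL(2,5) and a subgroup M of order prime to 30 all of whose Sylow subgroups are cyclic. -/
theorem result {G : Type*} [Group G] [Finite G] (hns : ¬ Group.IsSolvable G)
    (hFC : ∃ (L : Type) (_ : Group L) (_ : Finite L) (H : Subgroup L), Cfsg.IsFrobeniusComplement H ∧ Nonempty (G ≃* H)) :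
    ∃ G₀ : Subgroup G, G₀.Normal ∧ (G₀.index = 1 ∨ G₀.index = 2) ∧
      ∃ S M : Subgroup G, S ⊔ M = G₀ ∧ S ⊓ M = ⊥ ∧ (∀ s ∈ S, ∀ x ∈ M, s * x = x * s) ∧
        Nonempty (S ≃* Matrix.SpecialLinearGroup (Fin 2) (ZMod 5)) ∧
        (∀ (p : ℕ) [Fact p.Prime] (P : Sylow p M), IsCyclic P) ∧ (Nat.card M).Coprime 30 := by
  have hocc : Occurs G := hFC
  obtain ⟨S, hS, hp, ⟨e⟩⟩ := exists_SL25 hns hocc
  obtain ⟨G₀, h1, h2, M, h3, h4, h5, h6, h7⟩ := hocc.rankOne.structure_nonsolvable S hp e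
  exact ⟨G₀, h1, h2, S, M, h3, h4, h5, ⟨e⟩, fun p _ P => inferInstance, h7⟩

end Cfsg.Agent.S3359
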