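import Cfsg.Statements.S3366
import Cfsg.Agent.PS4.Id2
import Cfsg.Agent.PS4.Model3
import Cfsg.Agent.Grp.Cores

set_option autoImplicit false
set_option maxRecDepth 100000
open Cfsg
open Subgroup Cfsg.Agent.Comp Cfsg.Agent.LES Cfsg.Agent.X32 Cfsg.Agent.X32.TG Cfsg.Agent.PS4

namespace Cfsg.Agent.S3366

/-- Let X be a finite group with O₃(X) extraspecial of order 27 and exponent 3, X/O₃(X) isomorphic to SL(2,3), O₂(X) = 1, and a Sylow 3-subgroup of X containing an elementary abelian subgroup of order 27. Then X is isomorphic to the centralizer in PSp(4,3) of a 3-central element of order 3 (an element of order 3 in the centre of a Sylow 3-subgroup). -/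
theorem result {X : Type*} [Group X] [Finite X]
    (hR : Cfsg.IsExtraspecial 3 (Cfsg.pCore 3 X)) (hRcard : Nat.card (Cfsg.pCore 3 X) = 27)
    (hRexp : ∀ r ∈ Cfsg.pCore 3 X, r ^ 3 = 1)
    (e : X ⧸ Cfsg.pCore 3 X ≃* Matrix.SpecialLinearGroup (Fin 2) (ZMod 3))
    (hO2 : Cfsg.pCore 2 X = ⊥)
    (hE : ∃ E : Subgroup X, IsMulCommutative E ∧ (∀ a ∈ E, a ^ 3 = 1) ∧ Nat.card E = 27)
    (F : Type*) [Field F] [Fintype F] (hF : Fintype.card F = 3) :
    ∃ (c : Cfsg.PSp 2 F) (S : Sylow 3 (Cfsg.PSp 2 F)), orderOf c = 3 ∧ c ∈ (S : Subgroup (Cfsg.PSp 2 F)) ∧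
      c ∈ Subgroup.centralizer ((S : Subgroup (Cfsg.PSp 2 F)) : Set (Cfsg.PSp 2 F)) ∧
      Nonempty (X ≃* Subgroup.centralizer ({c} : Set (Cfsg.PSp 2 F))) := by
  have := Fact.mk Nat.prime_three
  have : Finite (Matrix.symplecticGroup (Fin 2) F) := inferInstance
  have f := (Class.pspCongr 2 (Class.ringEquivZMod hF)).symm
  obtain ⟨z, hz, -⟩ := Grp.ES.isES_of_isExtraspecial hR
  obtain ⟨E, Ec, E3, hE⟩ := hE
  have ek : (e.toMonoidHom.comp (QuotientGroup.mk' (pCore 3 X))).ker = pCore 3 X := by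
    ext a; simp
  generalize hπ : e.toMonoidHom.comp (QuotientGroup.mk' (pCore 3 X)) = π at ek
  have hs : Function.Surjective π := hπ ▸ e.surjective.comp (QuotientGroup.mk'_surjective _)
  rw [← ek] at hz hRcard hRexp
  obtain ⟨φ, hφ, -⟩ := id2 hs hz hRcard (fun t ht tt => by
    by_contra! h
    have n : (zpowers t).Normal := ⟨fun a ha g => by
      have m : t * (g * t * g⁻¹) ∈ π.ker := by
        rw [MonoidHom.mem_ker, map_mul, map_mul, map_mul, ht, map_inv]; simp
      have c : Commute t (g * t * g⁻¹) := by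
        have := (Commute.refl t).mul_right (h _ m)
        rwa [← mul_assoc, tt, one_mul] at this
      have d := He5.eq_one_of_odd_two (m := 1) (k := 1) (hRexp _ m) (by
        rw [pow_one, c.mul_pow, pow_two, pow_two, tt, conj_sq tt, one_mul])
      obtain ⟨i, rfl⟩ := mem_zpowers_iff.1 ha
      rw [← conj_zpow, ← inv_eq_of_mul_eq_one_right d]
      exact zpow_mem (inv_mem (mem_zpowers t)) i⟩
    have : t = 1 := mem_bot.1 (hO2 ▸ Grp.le_pCore n (isPGroup_zpowers tt) (mem_zpowers t))
    rw [this, map_one] at ht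
    exact absurd ht (by decide)) E3 (fun g hg h hh => setLike_mul_comm hg hh) hE
  obtain ⟨y, sat, -, y1, hi⟩ := model3
  have ev : ∀ W, Low 12 W → BN.ev (BN.subT y ((List.range 12).map ([·]))) W = BN.ev y W := by
    intro W hW
    induction W with
    | nil => rfl
    | cons k W ih =>
      have := (and'_eq_true _ _).1 hW
      have hk := (blt_iff _ _).1 this.1
      rw [BN.ev_cons, BN.ev_cons, ih this.2]
      congr 1
      interval_cases k <;> exact mul_one _
  have out : ∀ k, PS4.P2.inv.length ≤ k → BN.subT y ((List.range 12).map ([·])) k = 1 := fun k hk => by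
    rw [BN.subT, BN.nth_of_le [] _ k hk, BN.ev_nil]
  obtain ⟨ψ, hψ⟩ := link_hom link2 (x := BN.subT y ((List.range 12).map ([·]))) ⟨out,
    BN.inv_of_lt out fun k hk => by
      have c := (by decide +kernel : ∀ k < 12, Low 12 [PS4.P2.I k, k] ∧ PS4.P2.I k = PP.I k) k hk
      simpa [c.2, sat.inv] using ev _ c.1, fun r hr => by
      have c := (by decide +kernel : ∀ r ∈ PS4.P2.rels, Low 12 r ∧ r ∈ PP.rels) r hr
      rw [ev _ c.1, sat.rel r c.2]⟩
  have e1 : ψ (TG.e 1) = y 0 := by
    simpa [tup, l2, es] using (hψ [0]).trans (ev _ (by decide +kernel))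
  have inj := inj2 (φ := f.toMonoidHom.comp ψ) (by simpa [e1] using y1)
  have cG : Nat.card (PSp 2 F) = 25920 := by rw [← Nat.card_congr f.toEquiv, card43]
  have zc : ∀ k : PS4.K2, Commute k (TG.e 1) := BD.of (by decide +kernel)
  rw [← e1, show centralizer {ψ (TG.e 1)} = (centralizer {(f.toMonoidHom.comp ψ) (TG.e 1)}).comap
    f.toMonoidHom from ext fun g => ⟨fun h => mem_cent.2 ((mem_cent.1 h).map f),
      fun h => mem_cent.2 (Commute.of_map f.injective (mem_cent.1 h))⟩,
    index_comap_of_surjective _ f.surjective] at hi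
  generalize f.toMonoidHom.comp ψ = χ at inj hi
  have le : χ.range ≤ centralizer {χ (TG.e 1)} := by
    rintro _ ⟨k, rfl⟩; exact mem_cent.2 ((zc k).map χ)
  have cr : Nat.card χ.range = 648 := by
    rw [← Nat.card_congr (MonoidHom.ofInjective inj).toEquiv, TG.card]; rfl
  have e2 := χ.range.card_mul_index
  have e3 := (centralizer {χ (TG.e 1)}).card_mul_index
  obtain ⟨m, hm⟩ := index_dvd_of_le le
  have e4 : m = 1 := by
    rw [cr, cG, hm] at e2
    rcases m with _ | _ | m
    · omega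
    · rfl
    · nlinarith
  have eq : χ.range = centralizer {χ (TG.e 1)} := eq_of_le_of_card_ge le (by
    rw [← e2, hm, e4, mul_one] at e3
    exact (Nat.eq_of_mul_eq_mul_right (by omega) e3).le)
  refine ⟨χ (TG.e 1), Sylow.ofCard (PS4.S2.map χ) ?_, ord3 (by
      rw [← map_pow, (BD.of (by decide +kernel) : (TG.e 1 : PS4.K2) ^ 3 = 1), map_one])
      fun h => absurd (inj (h.trans (map_one χ).symm)) (BD.of (by decide +kernel)),
    mem_map_of_mem _ (BD.of (by decide +kernel)), ?_, ⟨(MulEquiv.ofBijective φ hφ).symm.trans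
      ((MonoidHom.ofInjective inj).trans (MulEquiv.subgroupCongr eq))⟩⟩
  · rw [card_map_of_injective inj, card_sub (· ∈ PS4.S2) fun _ => Iff.rfl, cG,
      show (25920 : ℕ).factorization 3 = 4 by decide +kernel]
    decide +kernel
  · rintro _ ⟨k, -, rfl⟩
    exact ((zc k).map χ).eq

end Cfsg.Agent.S3366
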