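import Cfsg.Statements.S5523
import Cfsg.Agent.Loc3.McH

set_option autoImplicit false
open Cfsg

namespace Cfsg.Agent.S5523
open Subgroup Cfsg.Agent.PLocal.Amb Cfsg.Agent.Loc3

/-- A 3-local characterization of the McLaughlin group and its automorphism group with the centraliser condition imposed only at the centre of a Sylow 3-subgroup. Let G be a finite group, S a Sylow 3-subgroup, Z = Z(S), and J ≤ S elementary abelian of order 3^4. Write M₀ for the subgroup generated by the 3-elements of N_G(J), L₀ for the subgroup generated by the 3-elements of N_G(Z), and Q = O₃(N_G(Z)). Assume: (i) J ≤ M₀ and M₀/J is isomorphic to the alternating group of degree 6; (ii) Q is extraspecial of order 3^5 and exponent 3, Q ≤ L₀, and L₀/Q is isomorphic to SL(2,5); (iii) C_G(O₃(C_G(Z))) ≤ O₃(C_G(Z)). Then G is isomorphic to the McLaughlin group or to its full automorphism group. -/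
theorem result {G : Type*} [Group G] [Finite G]
    (S : Sylow 3 G) (Z : Subgroup G) (hZ : Z = (S : Subgroup G) ⊓ Subgroup.centralizer ((S : Subgroup G) : Set G))
    (J : Subgroup G) (hJS : J ≤ S) (hJcomm : IsMulCommutative J) (hJexp : ∀ a ∈ J, a ^ 3 = 1) (hJcard : Nat.card J = 3 ^ 4)
    (M₀ : Subgroup G) (hM₀ : M₀ = Subgroup.closure {g : G | g ∈ Subgroup.normalizer (J : Set G) ∧ ∃ k : ℕ, orderOf g = 3 ^ k})
    (hJM : J ≤ M₀) [hJn : (J.subgroupOf M₀).Normal] (eM : M₀ ⧸ J.subgroupOf M₀ ≃* alternatingGroup (Fin 6))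
    (L₀ : Subgroup G) (hL₀ : L₀ = Subgroup.closure {g : G | g ∈ Subgroup.normalizer (Z : Set G) ∧ ∃ k : ℕ, orderOf g = 3 ^ k})
    (Q : Subgroup G) (hQ : Q = (Cfsg.pCore 3 (Subgroup.normalizer (Z : Set G))).map (Subgroup.normalizer (Z : Set G)).subtype)
    (hQex : Cfsg.IsExtraspecial 3 Q) (hQcard : Nat.card Q = 3 ^ 5) (hQexp : ∀ a ∈ Q, a ^ 3 = 1)
    (hQL : Q ≤ L₀) [hQn : (Q.subgroupOf L₀).Normal] (eL : L₀ ⧸ Q.subgroupOf L₀ ≃* Matrix.SpecialLinearGroup (Fin 2) (ZMod 5))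
    (hiii : Subgroup.centralizer (((Cfsg.pCore 3 (Subgroup.centralizer (Z : Set G))).map (Subgroup.centralizer (Z : Set G)).subtype : Subgroup G) : Set G)
        ≤ (Cfsg.pCore 3 (Subgroup.centralizer (Z : Set G))).map (Subgroup.centralizer (Z : Set G)).subtype) :
    Nonempty (G ≃* Cfsg.Spor.McL) ∨ Nonempty (G ≃* MulAut Cfsg.Spor.McL) := by
  obtain ⟨c3, QS, SZ, ZQ, e⟩ := pre3 (isSyl_top S) hZ hQ hQex
  obtain ⟨π, pm⟩ := PH.of_equiv hJM eM
  obtain ⟨lam, pl⟩ := PH.of_equiv hQL eL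
  refine MC0.aut ⟨isSyl_top S, hJS, fun x hx y hy => congrArg Subtype.val
    (hJcomm.is_comm.comm ⟨x, hx⟩ ⟨y, hy⟩), hJexp, hJcard, pm,
    fun g hg k => hM₀ ▸ subset_closure ⟨hg, ord3.2 k⟩, c3, SZ, ZQ.le.trans inf_le_left, QS, hQcard,
    hQexp, ZQ ▸ (es_amb hQex).2, (le_inf (e ▸ hiii) le_rfl).trans ZQ.ge, pl,
    hL₀ ▸ (closure_le _).2 fun g hg => cent_three c3 hg.1 (ord3.1 hg.2),
    fun g hg k => hL₀ ▸ subset_closure ⟨hg, ord3.2 k⟩, hQ ▸ le_normalizer_pCoreOf 3 _⟩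

end Cfsg.Agent.S5523
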