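import Cfsg.Statements.S3367
import Cfsg.Agent.S5523

set_option autoImplicit false
open Cfsg

namespace Cfsg.Agent.S3367
open Subgroup Cfsg.Agent.PLocal.Amb Cfsg.Agent.Loc3

/-- A 3-local characterization of the McLaughlin group and its automorphism group. Let G be a finite group, S a Sylow 3-subgroup, Z = Z(S), and J ≤ S elementary abelian of order 3^4. Write M₀ for the subgroup generated by the 3-elements of N_G(J), L₀ for the subgroup generated by the 3-elements of N_G(Z), and Q = O₃(N_G(Z)). Assume: (i) J ≤ M₀ and M₀/J is isomorphic to the alternating group of degree 6; (ii) Q is extraspecial of order 3^5 and exponent 3, Q ≤ L₀, and L₀/Q is isomorphic to SL(2,5); (iii) for every non-identity x in J, C_G(O₃(C_G(x))) ≤ O₃(C_G(x)). Then G is isomorphic to the McLaughlin group or to its full automorphism group. -/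
theorem result {G : Type*} [Group G] [Finite G]
    (S : Sylow 3 G) (Z : Subgroup G) (hZ : Z = (S : Subgroup G) ⊓ Subgroup.centralizer ((S : Subgroup G) : Set G))
    (J : Subgroup G) (hJS : J ≤ S) (hJcomm : IsMulCommutative J) (hJexp : ∀ a ∈ J, a ^ 3 = 1) (hJcard : Nat.card J = 3 ^ 4)
    (M₀ : Subgroup G) (hM₀ : M₀ = Subgroup.closure {g : G | g ∈ Subgroup.normalizer (J : Set G) ∧ ∃ k : ℕ, orderOf g = 3 ^ k})
    (hJM : J ≤ M₀) [hJn : (J.subgroupOf M₀).Normal] (eM : M₀ ⧸ J.subgroupOf M₀ ≃* alternatingGroup (Fin 6))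
    (L₀ : Subgroup G) (hL₀ : L₀ = Subgroup.closure {g : G | g ∈ Subgroup.normalizer (Z : Set G) ∧ ∃ k : ℕ, orderOf g = 3 ^ k})
    (Q : Subgroup G) (hQ : Q = (Cfsg.pCore 3 (Subgroup.normalizer (Z : Set G))).map (Subgroup.normalizer (Z : Set G)).subtype)
    (hQex : Cfsg.IsExtraspecial 3 Q) (hQcard : Nat.card Q = 3 ^ 5) (hQexp : ∀ a ∈ Q, a ^ 3 = 1)
    (hQL : Q ≤ L₀) [hQn : (Q.subgroupOf L₀).Normal] (eL : L₀ ⧸ Q.subgroupOf L₀ ≃* Matrix.SpecialLinearGroup (Fin 2) (ZMod 5))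
    (hiii : ∀ x ∈ J, x ≠ 1 →
      Subgroup.centralizer (((Cfsg.pCore 3 (Subgroup.centralizer ({x} : Set G))).map (Subgroup.centralizer ({x} : Set G)).subtype : Subgroup G) : Set G)
        ≤ (Cfsg.pCore 3 (Subgroup.centralizer ({x} : Set G))).map (Subgroup.centralizer ({x} : Set G)).subtype) :
    Nonempty (G ≃* Cfsg.Spor.McL) ∨ Nonempty (G ≃* MulAut Cfsg.Spor.McL) := by
  refine S5523.result S Z hZ J hJS hJcomm hJexp hJcard M₀ hM₀ hJM eM L₀ hL₀ Q hQ hQex hQcard hQexp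
    hQL eL ?_
  obtain ⟨c3, QS, SZ, ZQ, e⟩ := pre3 (isSyl_top S) hZ hQ hQex
  obtain ⟨π, pm⟩ := PH.of_equiv hJM eM
  obtain ⟨lam, pl⟩ := PH.of_equiv hQL eL
  obtain ⟨z, z3, z1, rfl⟩ := exists_gen c3
  rw [centralizer_zpowers]
  refine hiii z ?_ z1
  have zC : z ∈ 𝐂[J] := centralizer_anti hJS (hZ.le (mem_zpowers z)).2
  have zM : z ∈ M₀ := hM₀ ▸ subset_closure ⟨centralizer_le_normalizer' _ zC, ord3.2 ⟨1, z3⟩⟩
  have := alternatingGroup.isSimpleGroup (α := Fin 6) (by simp)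
  rcases ((normal_subgroupOf' (pm.norm.trans (normalizer_le_normalizer_centralizer J))).map pm.hom
    pm.hom_surj).eq_bot_or_eq_top with k | k
  · exact (pm.ker zM).1 (mem_bot.1 (k.le ⟨⟨z, zM⟩, zC, rfl⟩))
  have MC : M₀ ≤ 𝐂[J] := fun g hg => by
    obtain ⟨a, ha, e⟩ := k.ge (mem_top (π g))
    simpa using mul_mem (J.le_centralizer ((pm.eq_iff hg a.2).1 e.symm)) (mem_subgroupOf.1 ha)
  obtain ⟨T, hT, hJ⟩ := exists_isSyl_ge (S.2.to_le hJS) hJM
  have SL : S.1 ≤ L₀ := fun g hg => hL₀ ▸ subset_closure ⟨centralizer_le_normalizer' _ (SZ hg),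
    ord3.2 (isPGroup_iff.1 S.2 g hg)⟩
  obtain ⟨g, -, e⟩ := (isSyl_top S).exists_cj_eq ((isSyl_top S).of_card_ge hT.pgrp le_top (by
    rw [hT.card_eq_pow, ((isSyl_top S).mono SL le_top).card_eq_pow, ← pm.card_mul, ← pl.card_mul,
      card_A6, card_SL25, hJcard, hQcard]; exact le_rfl))
  have := card_le_of_le (show cj(g, J) ≤ zpowers z from (le_inf (e ▸ cj_mono _ hJ) (by
    rw [← e, centralizer_cj]; exact cj_mono _ (le_centralizer_iff.1 (hT.le.trans MC)))).trans hZ.ge)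
  rw [card_cj, c3, hJcard] at this
  omega

end Cfsg.Agent.S3367
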