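import Cfsg.Statements.S3390
import Mathlib
import Cfsg.Agent.Fxy.Base
import Cfsg.Agent.Transfer.ThompsonTransfer
import Cfsg.Agent.Solv.Frobenius

set_option autoImplicit false
open Cfsg

namespace Cfsg.Agent.S3390

/-- Let G be a finite group acting faithfully and transitively on a finite set Ω with fixity 2 (every non-identity element fixes at most two points, and some fixes exactly two). Let α ∈ Ω and S a Sylow 2-subgroup of G. Then one of the following holds: the stabilizer S_α of α in S is trivial; S is dihedral or semidihedral and either |S_α| = 2 or |S : S_α| = 2; |S| ≥ 4, S has exactly one orbit of size 2 on Ω, every other S-orbit is regular, and G has a normal subgroup of index 2 or of index |S| which is a Frobenius group; or S ≤ G_α. -/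
theorem result {G : Type*} [Group G] [Finite G] {Ω : Type*} [Fintype Ω] [MulAction G Ω] [FaithfulSMul G Ω] (htr : MulAction.IsPretransitive G Ω)
    (hfix : ∀ g : G, g ≠ 1 → Nat.card (MulAction.fixedBy Ω g) ≤ 2) (hex : ∃ g : G, g ≠ 1 ∧ Nat.card (MulAction.fixedBy Ω g) = 2) (α : Ω) (S : Sylow 2 G) :
    (S : Subgroup G) ⊓ MulAction.stabilizer G α = ⊥ ∨
    (((∃ n : ℕ, Nonempty (↥(S : Subgroup G) ≃* DihedralGroup n)) ∨ Cfsg.IsQuasiDihedral ↥(S : Subgroup G)) ∧
       (Nat.card ↥((S : Subgroup G) ⊓ MulAction.stabilizer G α) = 2 ∨ ((S : Subgroup G) ⊓ MulAction.stabilizer G α).relIndex (S : Subgroup G) = 2)) ∨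
    (4 ≤ Nat.card (S : Subgroup G) ∧
       (∃ ω : Ω, Nat.card (MulAction.orbit ↥(S : Subgroup G) ω) = 2 ∧
          ∀ ω' : Ω, ω' ∉ MulAction.orbit ↥(S : Subgroup G) ω → Nat.card (MulAction.orbit ↥(S : Subgroup G) ω') = Nat.card (S : Subgroup G)) ∧
       ∃ N : Subgroup G, N.Normal ∧ (N.index = 2 ∨ N.index = Nat.card (S : Subgroup G)) ∧ (∃ H : Subgroup ↥N, Cfsg.IsFrobeniusComplement H)) ∨
    (S : Subgroup G) ≤ MulAction.stabilizer G α := by
  open Subgroup MulAction PLocal.Amb MacW Fxy Pointwise in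
  by_cases h0 : (S : Subgroup G) ⊓ stabilizer G α = ⊥
  · exact Or.inl h0
  by_cases h4 : (S : Subgroup G) ≤ stabilizer G α
  · exact Or.inr (Or.inr (Or.inr h4))
  refine Or.inr (or_iff_not_imp_left.2 fun hn => Or.inl ?_)
  have hS := S.isPGroup'
  set R := (S : Subgroup G) ⊓ stabilizer G α
  have hR : IsPGroup 2 R := hS.to_le inf_le_left
  have hlt : R < S := lt_of_le_of_ne inf_le_left fun e => h4 (e.ge.trans inf_le_right)
  obtain ⟨s, ⟨hs, hs'⟩, hsR⟩ := SetLike.exists_of_lt (lt_inf_normalizer hS hlt)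
  have hne : α ≠ s • α := fun e => hsR ⟨hs, e.symm⟩
  set Δ : Set Ω := {α, s • α}
  have cΔ : Δ.ncard = 2 := Set.ncard_pair hne
  have hRQ : R ≤ fixingSubgroup G Δ := fun r hr => (mem_fixingSubgroup_iff G).2 (by
    rintro _ (rfl | rfl)
    · exact hr.2
    · rw [← inv_smul_eq_iff, smul_smul, smul_smul]
      exact (inv_conj_mem_of_mem_normalizer hs' hr).2)
  have hQ : fixingSubgroup G Δ ≤ stabilizer G α := fun x hx => mem_Q.1 hx (Or.inl rfl)
  have fx : ∀ x ∈ fixingSubgroup G Δ, x ≠ 1 → fixedBy Ω x = Δ := fun x hx x1 =>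
    (Set.eq_of_subset_of_ncard_le (mem_Q.1 hx) ((hfix x x1).trans cΔ.ge)).symm
  have ti : ∀ g x, x ∈ fixingSubgroup G Δ → x ≠ 1 → g * x * g⁻¹ ∈ fixingSubgroup G Δ →
      g ∈ stabilizer G Δ := fun g x hx x1 h => by
    rw [mem_stabilizer_iff, ← fx x hx x1, ← fx_conj, fx _ h (by simpa using x1), fx x hx x1]
  set T := (S : Subgroup G) ⊓ stabilizer G Δ
  have hT : IsPGroup 2 T := hS.to_le inf_le_left
  have q : PQ 2 T R := by
    have := pq_of_le cΔ (inf_le_right : T ≤ _)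
    rwa [show T ⊓ fixingSubgroup G Δ = R from le_antisymm (inf_le_inf inf_le_left hQ)
      (le_inf (le_inf inf_le_left (hRQ.trans (Q_le_H Δ))) hRQ)] at this
  have c1 := q.two (by norm_num) hT
  obtain ⟨t, ht, t1, t2, tc⟩ := exists_cent_inv hT hR q.norm h0
  have c2 := two_mul_le_of_lt (bot_le : ⊥ ≤ R) ht (by simpa using t1)
  rw [card_bot] at c2
  have hTS : T = S := by
    by_contra e
    obtain ⟨g, ⟨hg, hg'⟩, hgT⟩ := SetLike.exists_of_lt
      (lt_inf_normalizer hS (lt_of_le_of_ne inf_le_left e))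
    have hle : cj(g, R) ≤ T := cj_le_of_mem_normalizer q.1 hg'
    have hd : cj(g, R) ⊓ R = ⊥ := eq_bot_iff.2 fun x hx => mem_bot.2 (by_contra fun x1 => by
      obtain ⟨⟨y, hy, rfl⟩, hx⟩ := hx
      exact hgT ⟨hg, ti g y (hRQ hy) (by rintro rfl; simp at x1) (hRQ hx)⟩)
    have c3 := card_le_mul_inf hle q.1 c1
    rw [hd, card_bot, card_cj] at c3
    have hu := conj_mem_cj g ht
    refine hn ⟨dih_amb hS ht.1 (hle hu).1 t1 (by simpa using t1) t2 (by rw [conj_pow, t2]; simp)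
      (fun e => t1 (mem_bot.1 (hd.le (mem_inf.2 ⟨e ▸ hu, ht⟩)))) (tc _ (hle hu))
      ((card_le_of_le (inf_le_inf_left _ fun x hx => ti x t (hRQ ht) t1 ?_)).trans (by omega : Nat.card T ≤ 4)),
      Or.inl (by omega)⟩
    rw [mem_centralizer_singleton_iff.1 hx, mul_inv_cancel_right]; exact hRQ ht
  have hSH : (S : Subgroup G) ≤ stabilizer G Δ := hTS.ge.trans inf_le_right
  rw [hTS] at c1 tc
  have c3 := two_mul_le_of_lt hlt.le hs hsR
  have hi : R.relIndex S = 2 := by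
    have := Grp.card_mul_relIndex hlt.le
    exact Nat.eq_of_mul_eq_mul_left (by omega : 0 < Nat.card R) (by omega)
  have reg : ∀ γ ∉ Δ, ∀ u ∈ (S : Subgroup G), u • γ = γ → u = 1 := fun γ hγ w hw e => by
    by_contra w1
    obtain ⟨i, hi'⟩ := exists_ord (p := 2) w1 (isPGroup_iff.1 hS w hw)
    have hu : w ^ i ∈ stabilizer G γ := pow_mem (mem_stabilizer_iff.2 e) i
    have hu' := pow_mem hw i
    generalize w ^ i = u at hi' hu hu'
    have u1 : u ≠ 1 := fun e => by simp [e] at hi'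
    have hd : ∀ x ∈ R, x ∈ stabilizer G γ → x = 1 := fun x hx hx' =>
      by_contra fun x1 => hγ (fx x (hRQ hx) x1 ▸ hx')
    have c4 := card_le_ncard_mul ((S : Subgroup G) ⊓ centralizer {u}) (stabilizer G γ)
      (Set.toFinite (fixedBy Ω u)) (· • γ) (fun x hx => by
        rw [mem_fixedBy, smul_smul, ← mem_centralizer_singleton_iff.1 hx.2, mul_smul, hu])
      fun x _ y _ e => by rw [mem_stabilizer_iff, mul_smul, ← e, inv_smul_smul]
    have c5 := card_le_mul_inf (H := (S : Subgroup G) ⊓ centralizer {u} ⊓ stabilizer G γ)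
      (inf_le_left.trans inf_le_left) hlt.le c1
    rw [show (S : Subgroup G) ⊓ centralizer {u} ⊓ stabilizer G γ ⊓ R = ⊥ from
      eq_bot_iff.2 fun x hx => mem_bot.2 (hd x hx.2 hx.1.2), card_bot] at c5
    exact hn ⟨dih_amb hS hu' ht.1 u1 t1 (hi' ▸ pow_orderOf_eq_one u) t2
      (fun e => t1 (hd t ht (e ▸ hu))) (tc u hu').symm
      (c4.trans (Nat.mul_le_mul (hfix u u1) c5)), Or.inr hi⟩
  have orb : orbit (S : Subgroup G) α = Δ := by
    refine Set.Subset.antisymm ?_ ?_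
    · rintro _ ⟨g, rfl⟩
      exact mem_stabilizer_iff.1 (hSH g.2) ▸ Set.smul_mem_smul_set (Or.inl rfl)
    · rintro _ (rfl | rfl)
      exacts [mem_orbit_self _, ⟨⟨s, hs⟩, rfl⟩]
  have F : ∀ y ∈ (S : Subgroup G), ∀ γ : Ω, y • γ = γ → y ∈ R := fun y hy γ e => by
    by_cases hγ : γ ∈ Δ
    · rcases hγ with rfl | rfl
      · exact ⟨hy, e⟩
      · rcases (mem_stabilizer_iff.1 (hSH hy) ▸ Set.smul_mem_smul_set (Or.inl rfl) : y • α ∈ Δ)
          with e' | e'
        · exact ⟨hy, e'⟩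
        · exact absurd (smul_left_cancel y (e'.trans e.symm)) hne
    · exact reg γ hγ y hy e ▸ one_mem _
  have tr : ∀ x : S, MonoidHom.transfer (Transfer.signHom hi) x = Transfer.signHom hi x := fun x => by
    rw [Transfer.transfer_eq_pow_of_forall _ _ (Transfer.signHom hi x) fun g k hk => ?_]
    · obtain ⟨k, hk⟩ := Nat.not_even_iff_odd.1 (mt even_iff_two_dvd.1 S.not_dvd_index)
      rw [hk, pow_succ, pow_mul, Int.units_sq, one_pow, one_mul]
    rw [← map_pow]
    by_cases e : (x : G) ^ k ∈ R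
    · rw [Transfer.signHom_of_mem hi (x := x ^ k) e, Transfer.signHom_of_mem hi (F _ hk (g⁻¹ • α) ?_)]
      rw [mul_smul, mul_smul, smul_inv_smul, e.2]
    · rw [Transfer.signHom_of_not_mem hi (x := x ^ k) e, Transfer.signHom_of_not_mem hi fun e' =>
        e (F _ (pow_mem x.2 k) (g • α) ?_)]
      rw [← inv_smul_eq_iff, smul_smul, smul_smul]; exact e'.2
  refine ⟨by omega, ⟨α, by rw [orb]; exact cΔ, fun γ hγ => ?_⟩,
    (MonoidHom.transfer (Transfer.signHom hi)).ker, inferInstance,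
    Or.inl (Transfer.index_ker_eq_two ((tr ⟨s, hs⟩).trans (Transfer.signHom_of_not_mem hi hsR))),
    (fixingSubgroup G Δ).subgroupOf _, ?_⟩
  · rw [Nat.card_coe_set_eq, ← index_stabilizer, show stabilizer (S : Subgroup G) γ = ⊥ from
      eq_bot_iff.2 fun x hx => Subtype.ext (reg γ (orb ▸ hγ) x x.2 hx), index_bot]
  have tN : t ∈ (MonoidHom.transfer (Transfer.signHom hi)).ker :=
    (tr ⟨t, ht.1⟩).trans (Transfer.signHom_of_mem hi ht)
  refine Solv.Frob.isFrobeniusComplement_iff.2 ⟨fun e => t1 (congrArg Subtype.val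
    (mem_bot.1 (e.le (show (⟨t, tN⟩ : MonoidHom.ker _) ∈ _ from hRQ ht)))), fun e => t1 ?_,
    fun g x hx x1 hx' => ?_⟩
  · refine eq_of_smul_eq_smul (α := Ω) fun γ => ?_
    obtain ⟨g, rfl⟩ := htr.exists_smul_eq α γ
    rw [one_smul, ← inv_smul_eq_iff, smul_smul, smul_smul]
    exact hQ (e.ge (mem_top ⟨_, (MonoidHom.normal_ker _).conj_mem' t tN g⟩))
  have hH := ti g x hx (fun e => x1 (Subtype.ext e)) hx'
  obtain ⟨j, m, hm, e⟩ := Nat.exists_eq_two_pow_mul_odd (orderOf_pos (g : G)).ne'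
  obtain ⟨k, hk, e'⟩ := (isSyl_of_le S hSH).exists_cj_le (isPGroup_zpowers (x := (g : G) ^ m)
    ⟨j, by rw [← pow_mul, mul_comm, ← e, pow_orderOf_eq_one]⟩) (zpowers_le.2 (pow_mem hH m))
  have m1 := e' (conj_mem_cj k (mem_zpowers _))
  have m2 : k * (g : G) ^ m * k⁻¹ ∈ R := by_contra fun e'' => absurd ((Transfer.signHom_of_not_mem hi
    (x := ⟨_, m1⟩) e'').symm.trans ((tr _).symm.trans
      ((MonoidHom.normal_ker _).conj_mem _ (pow_mem g.2 m) k))) (by decide)
  have m3 : (g : G) ^ m ∈ fixingSubgroup G Δ := by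
    simpa [mul_assoc] using inv_conj_mem_of_mem_normalizer (H_le_norm Δ hk) (hRQ m2)
  obtain ⟨φ, hφ, -⟩ := exists_perm (G := G) cΔ
  obtain ⟨l, rfl⟩ := hm
  have := (hφ (⟨g, hH⟩ ^ (2 * l + 1))).2 m3
  rw [map_pow, pow_succ, pow_mul, (by decide : ∀ σ : Equiv.Perm (Fin 2), σ ^ 2 = 1), one_pow,
    one_mul] at this
  exact (hφ _).1 this

end Cfsg.Agent.S3390
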