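import Cfsg.Statements.S3396
import Mathlib
import Cfsg.Agent.CIT.SpecEPPO
import Cfsg.Agent.CIT.SpecM10
import Cfsg.Agent.CIT.General
import Cfsg.Agent.Class.FieldTransport

set_option autoImplicit false
open Cfsg

namespace Cfsg.Agent.S3396

/-- Let G be a finite group whose order has at least three distinct prime divisors, and suppose every nonidentity element of G has order a power of 2 or a prime other than 5. Then G is isomorphic to PSL₂(7) (here F is any field with 7 elements). In particular a finite group whose set of element orders is {1, 2, 3, 4, 7} is PSL₂(7). -/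
theorem result {G : Type*} [Group G] [Finite G]
    {F : Type*} [Field F] [Fintype F] (hF : Fintype.card F = 7)
    (h3 : 3 ≤ (Nat.card G).primeFactors.card)
    (hord : ∀ g : G, g ≠ 1 → (∃ k : ℕ, orderOf g = 2 ^ k) ∨ ((orderOf g).Prime ∧ orderOf g ≠ 5)) :
    Nonempty (G ≃* Matrix.ProjectiveSpecialLinearGroup (Fin 2) F) := by
  have hΩ : ∀ n ∈ CIT.Ω G, n ≠ 5 ∧ n ≠ 9 := by
    rintro _ ⟨g, rfl⟩
    by_cases h1 : g = 1
    · simp [h1]
    rcases hord g h1 with ⟨k, hk⟩ | ⟨h2, h5⟩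
    · rw [hk]
      constructor
      · intro h
        exact absurd (Nat.prime_five.dvd_of_dvd_pow (h ▸ dvd_rfl : 5 ∣ 2 ^ k)) (by norm_num)
      · intro h
        exact absurd (Nat.prime_three.dvd_of_dvd_pow (h ▸ by norm_num : 3 ∣ 2 ^ k)) (by norm_num)
    · exact ⟨h5, fun h => absurd (h ▸ h2) (by norm_num)⟩
  have he : CIT.EPPO G := CIT.eppo_of fun g h1 => by
    rcases hord g h1 with ⟨k, hk⟩ | ⟨h2, -⟩
    · rw [hk]
      refine Nat.prime_two.isPrimePow.pow ?_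
      rintro rfl
      exact h1 (orderOf_eq_one_iff.1 hk)
    · exact h2.isPrimePow
  have h5 : ¬ 5 ∣ Nat.card G := fun h => (hΩ 5 ((CIT.prime_mem_Ω Nat.prime_five).2 h)).1 rfl
  have hL2 : ∀ (H : Type _) [Group H], CIT.Ω H ⊆ CIT.Ω G → ¬ CIT.IsL2Even H := by
    intro H _ hs h1
    obtain ⟨F, _, _, hF, ⟨e⟩⟩ := (he.of_subset hs).L2Even h1
    rw [CIT.Ω, Misc.Spec.range_orderOf_congr e] at hs
    rcases hF with hF | hF
    · exact (hΩ 5 (hs ((CIT.mem_Ω_L2_even (n := 2) (by norm_num) hF 5).2 (by norm_num)))).1 rfl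
    · exact (hΩ 9 (hs ((CIT.mem_Ω_L2_even (n := 3) (by norm_num) hF 9).2 (by norm_num)))).2 rfl
  have hSz : ∀ (H : Type _) [Group H], CIT.Ω H ⊆ CIT.Ω G → ¬ Lie.IsoSuzuki H := by
    rintro H _ hs ⟨F, _, _, m, hm, hF, ⟨e⟩⟩
    rw [CIT.Ω, Misc.Spec.range_orderOf_congr e] at hs
    have h5 := CIT.five_dvd_q_sq_add_one m
    rw [Chev.Suz.q_sq_add_one_eq, Nat.Prime.dvd_mul Nat.prime_five] at h5
    exact (hΩ 5 (hs ((CIT.mem_Ω_Sz hm hF 5).2 (Or.inr (Or.inr h5))))).1 rfl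
  rcases CIT.cit_general (he.not_isSolvable h3) he.isCIT with
    (h1 | h1 | h1 | h1 | h1) | ⟨N, hn, hN, hL⟩ | ⟨Q, _, hQ, -, h1 | h1⟩
  · exact absurd h1 (hL2 G le_rfl)
  · exact absurd h1 (hSz G le_rfl)
  · obtain ⟨K, _, _, hK | hK, ⟨e⟩⟩ := he.L2Prime h1
    · exact ⟨e.trans (Class.pslCongr (Fin 2) (FiniteField.ringEquivOfCardEq (hK.trans hF.symm)))⟩
    · rw [CIT.Ω, Misc.Spec.range_orderOf_congr e] at hΩ
      exact absurd rfl (hΩ 9 ((CIT.mem_Ω_L2_odd (p := 17) (n := 1) (by norm_num) (by norm_num) hK 9).2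
        (by norm_num))).2
  · obtain ⟨F, _, _, hF, ⟨e⟩⟩ := h1
    rw [Nat.card_congr e.toEquiv, CIT.card_PSL2_of_card hF] at h5
    exact absurd (by norm_num) h5
  · obtain ⟨F, _, _, hF, ⟨e⟩⟩ := h1
    rw [Nat.card_congr e.toEquiv, CIT.card_L3_four hF] at h5
    exact absurd (by norm_num) h5
  · rw [CIT.card_of_index_two N hN hL] at h5
    exact absurd (by norm_num) h5
  · exact absurd h1 (hL2 _ (CIT.Ω_quot_subset Q))
  · exact absurd h1 (hSz _ (CIT.Ω_quot_subset Q))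

end Cfsg.Agent.S3396
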