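import Cfsg.Statements.S3433
import Mathlib
import Cfsg.Agent.CIT.SpecEPPO
import Cfsg.Agent.CIT.SpecM10
import Cfsg.Agent.CIT.General
import Cfsg.Agent.CIT.Higman
import Cfsg.Agent.S0252

set_option autoImplicit false
open Cfsg

namespace Cfsg.Agent.S3433

/-- A finite group whose set of element orders is exactly {1, 2, 3, 4, 5} is isomorphic to the alternating group of degree 6, or has a normal elementary abelian 2-subgroup with quotient isomorphic to the alternating group of degree 5. -/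
theorem result {G : Type*} [Group G] [Finite G] (h : Set.range (orderOf : G → ℕ) = {k : ℕ | 1 ≤ k ∧ k ≤ 5}) :
    Nonempty (G ≃* ↥(alternatingGroup (Fin 6))) ∨
      ∃ (N : Subgroup G) (_ : N.Normal), Cfsg.IsElementaryAbelian 2 N ∧ Nonempty (G ⧸ N ≃* ↥(alternatingGroup (Fin 5))) := by
  have hΩ : ∀ n, n ∈ CIT.Ω G ↔ 1 ≤ n ∧ n ≤ 5 := fun n => by rw [CIT.Ω, h]; rfl
  have he : CIT.EPPO G := by
    intro n hn h1
    obtain ⟨h2, h3⟩ := (hΩ n).1 hn
    interval_cases n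
    · exact absurd rfl h1
    · exact Nat.prime_two.isPrimePow
    · exact Nat.prime_three.isPrimePow
    · exact Nat.prime_two.isPrimePow.pow (k := 2) two_ne_zero
    · exact Nat.prime_five.isPrimePow
  have hns : ¬ Group.IsSolvable G :=
    CIT.not_isSolvable_of_coclique Nat.prime_two Nat.prime_three Nat.prime_five (by norm_num)
      (by norm_num) (by norm_num) (by simp [hΩ]) (by simp [hΩ]) (by simp [hΩ]) (by simp [hΩ])
      (by simp [hΩ]) (by simp [hΩ])
  have h7 : ¬ 7 ∣ Nat.card G := fun h => by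
    have := (hΩ 7).1 ((CIT.prime_mem_Ω (by norm_num)).2 h)
    omega
  have hL2 : ∀ (H : Type _) [Group H], CIT.Ω H ⊆ CIT.Ω G → CIT.IsL2Even H →
      Nonempty (H ≃* alternatingGroup (Fin 5)) := by
    intro H _ hs h1
    obtain ⟨F, _, _, hF, ⟨e⟩⟩ := (he.of_subset hs).L2Even h1
    rw [CIT.Ω, Misc.Spec.range_orderOf_congr e] at hs
    rcases hF with hF | hF
    · obtain ⟨f⟩ := S0252.result hF
      exact ⟨e.trans f⟩
    · have := (hΩ 9).1 (hs ((CIT.mem_Ω_L2_even (n := 3) (by norm_num) hF 9).2 (by norm_num)))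
      omega
  have hSz : ∀ (H : Type _) [Group H], CIT.Ω H ⊆ CIT.Ω G → ¬ Lie.IsoSuzuki H := by
    rintro H _ hs ⟨F, _, _, m, hm, hF, ⟨e⟩⟩
    rw [CIT.Ω, Misc.Spec.range_orderOf_congr e] at hs
    have h1 := (hΩ _).1 (hs ((CIT.mem_Ω_Sz hm hF _).2 (Or.inr (Or.inl dvd_rfl))))
    have : 2 ^ 3 ≤ 2 ^ (2 * m + 1) := Nat.pow_le_pow_right (by norm_num) (by omega)
    omega
  rcases CIT.cit_general hns he.isCIT with
    (h1 | h1 | h1 | h1 | h1) | ⟨N, hn, hN, hL⟩ | ⟨Q, _, hQ, -, h1 | h1⟩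
  · obtain ⟨e⟩ := hL2 G le_rfl h1
    have := (hΩ 4).2 (by norm_num)
    rw [CIT.Ω, Misc.Spec.range_orderOf_congr e, Misc.Spec.range_orderOf_alt5] at this
    simp at this
  · exact absurd h1 (hSz G le_rfl)
  · obtain ⟨K, _, _, hK | hK, ⟨e⟩⟩ := he.L2Prime h1
    · rw [Nat.card_congr e.toEquiv, CIT.card_PSL2_of_card hK] at h7
      exact absurd (by norm_num) h7
    · rw [CIT.Ω, Misc.Spec.range_orderOf_congr e] at hΩ
      have := (hΩ 9).1 ((CIT.mem_Ω_L2_odd (p := 17) (n := 1) (by norm_num) (by norm_num) hK 9).2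
        (by norm_num))
      omega
  · exact Or.inl h1.nonempty_alt
  · obtain ⟨F, _, _, hF, ⟨e⟩⟩ := h1
    rw [Nat.card_congr e.toEquiv, CIT.card_L3_four hF] at h7
    exact absurd (by norm_num) h7
  · have := (hΩ 8).1 (CIT.eight_mem_Ω he.isCIT N hN hL)
    omega
  · obtain ⟨h2, h3⟩ := CIT.elemAb_of_L2 he.isCIT Q (hQ ▸ Grp.pCore_isPGroup 2 G) h1
    exact Or.inr ⟨Q, inferInstance, ⟨h2, fun a ha => by rw [pow_two, h3 a ha]⟩,
      hL2 _ (CIT.Ω_quot_subset Q) h1⟩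
  · exact absurd h1 (hSz _ (CIT.Ω_quot_subset Q))

end Cfsg.Agent.S3433
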