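import Cfsg.Statements.S3680
import Cfsg.Agent.Perm.SimplePower
import Cfsg.Agent.Perm.Centralizer
import Cfsg.Agent.Perm.PrimRel
import Cfsg.Agent.Grp.MinNormal

set_option autoImplicit false
open Cfsg

namespace Cfsg.Agent.S3680

open MulAction

theorem semireg {G Ω : Type*} [Group G] [MulAction G Ω] [FaithfulSMul G Ω] (M : Subgroup G)
    [IsPretransitive M Ω] {c : G} (hc : ∀ m ∈ M, Commute c m) {a : Ω} (ha : c • a = a) :
    c = 1 := by
  refine eq_of_smul_eq_smul (α := Ω) fun x => ?_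
  obtain ⟨m, rfl⟩ := exists_smul_eq M a x
  change c • (m : G) • a = 1 • (m : G) • a
  rw [one_smul, smul_smul, (hc m m.2).eq, mul_smul, ha]

theorem equiv {G Ω : Type*} [Group G] [MulAction G Ω] [FaithfulSMul G Ω] (M L : Subgroup G)
    [IsPretransitive M Ω] [IsPretransitive L Ω] (hc : ∀ m ∈ M, ∀ l ∈ L, Commute m l) :
    Nonempty (M ≃* L) := by
  have hinj : Function.Injective (toPermHom G Ω) := toPerm_injective
  have tr : ∀ (K : Subgroup G) [IsPretransitive K Ω], IsPretransitive (K.map (toPermHom G Ω)) Ω :=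
    fun K _ => ⟨fun x y => by
      obtain ⟨k, hk⟩ := exists_smul_eq K x y
      exact ⟨⟨_, k, k.2, rfl⟩, hk⟩⟩
  have := tr M
  have := tr L
  obtain ⟨e⟩ := Perm.nonempty_mulEquiv_of_centralize (M.map (toPermHom G Ω))
    (L.map (toPermHom G Ω)) (by
      rintro _ ⟨l, hl, rfl⟩ _ ⟨m, hm, rfl⟩
      rw [← map_mul, ← map_mul, (hc m hm l hl).eq])
  exact ⟨((M.equivMapOfInjective _ hinj).trans e).trans (L.equivMapOfInjective _ hinj).symm⟩

/-- Concatenation of tuples. -/
def appendEquiv (T : Type*) [Group T] (m : ℕ) : ((Fin m → T) × (Fin m → T)) ≃* (Fin (m + m) → T) :=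
  ({ Equiv.sumArrowEquivProdArrow (Fin m) (Fin m) T with map_mul' := fun _ _ => rfl } :
    (Fin m ⊕ Fin m → T) ≃* _).symm.trans (MulEquiv.arrowCongr finSumFinEquiv (MulEquiv.refl T))


/-- The socle of a finite primitive permutation group. Let a finite group G act faithfully and primitively on a set Ω, and let N be the subgroup generated by the minimal normal subgroups of G. Then either N is an elementary abelian p-group for some prime p and acts regularly on Ω (transitively with trivial point stabilizers), or N is isomorphic to a direct product of m ≥ 1 copies of a non-abelian simple group. -/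
theorem result {G Ω : Type*} [Group G] [Finite G] [MulAction G Ω] [FaithfulSMul G Ω] [Finite Ω]
    (hprim : MulAction.IsPreprimitive G Ω) (N : Subgroup G)
    (hN : N = sSup {V : Subgroup G | V.Normal ∧ V ≠ ⊥ ∧ ∀ M : Subgroup G, M.Normal → M ≤ V → M = ⊥ ∨ M = V}) :
    (∃ p : ℕ, p.Prime ∧ IsMulCommutative N ∧ (∀ x : N, x ^ p = 1) ∧
      MulAction.IsPretransitive N Ω ∧ ∀ ω : Ω, MulAction.stabilizer N ω = ⊥) ∨
    (∃ (T : Type) (_ : Group T) (m : ℕ), 1 ≤ m ∧ IsSimpleGroup T ∧ ¬ IsMulCommutative T ∧ Nonempty (N ≃* (Fin m → T))) := by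
  rcases subsingleton_or_nontrivial G with hG | hG
  · refine Or.inl ⟨2, Nat.prime_two, inferInstance, fun x => Subsingleton.elim _ _, ⟨fun x y => ?_⟩,
      fun _ => Subsingleton.elim _ _⟩
    obtain ⟨g, hg⟩ := exists_smul_eq G x y
    exact ⟨⟨g, by rw [Subsingleton.elim g 1]; exact N.one_mem⟩, hg⟩
  obtain ⟨M, hMn, hM0, hM⟩ := Grp.exists_minNormal G
  have hMt := Perm.isPretransitive_of_normal_of_ne_bot hprim M hM0
  obtain ⟨T, _, m, hT, hm, ⟨e⟩⟩ := Perm.exists_simple_type_mulEquiv_pi M hM0 hM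
  have hTc : IsMulCommutative T → IsMulCommutative M := fun h => ⟨⟨fun a b => e.injective (by
    rw [map_mul, map_mul]; exact funext fun i => h.is_comm.comm _ _)⟩⟩
  have comm : ∀ L : Subgroup G, L.Normal → L ≠ ⊥ → (∀ K : Subgroup G, K.Normal → K ≤ L →
      K = ⊥ ∨ K = L) → L ≠ M → Disjoint M L := fun L h1 h2 h3 h4 => by
    rcases hM (M ⊓ L) inferInstance inf_le_left with h | h
    · exact disjoint_iff.2 h
    · exact absurd ((h3 M hMn (inf_eq_left.1 h)).resolve_left hM0).symm h4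
  by_cases huniq : ∀ L : Subgroup G, L.Normal → L ≠ ⊥ → (∀ K : Subgroup G, K.Normal → K ≤ L →
      K = ⊥ ∨ K = L) → L = M
  · have hNM : N = M := by
      rw [hN]
      exact le_antisymm (sSup_le fun L hL => (huniq L hL.1 hL.2.1 hL.2.2).le) (le_sSup ⟨hMn, hM0, hM⟩)
    subst hNM
    by_cases hc : IsMulCommutative N
    · have : Group.IsSolvable N := Group.isSolvable_of_comm hc.is_comm.comm
      obtain ⟨-, p, hp, h1⟩ := Grp.minNormal_elementaryAbelian N hM0 hM
      refine Or.inl ⟨p, hp, hc, fun x => Subtype.ext (h1 x x.2), hMt, fun ω => ?_⟩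
      refine (Subgroup.eq_bot_iff_forall _).2 fun x hx => Subtype.ext (semireg N (fun m hm => ?_) hx)
      exact congrArg Subtype.val (hc.is_comm.comm x ⟨m, hm⟩)
    · exact Or.inr ⟨T, inferInstance, m, hm, hT, fun h => hc (hTc h), ⟨e⟩⟩
  push Not at huniq
  obtain ⟨L, hLn, hL0, hL, hLM⟩ := huniq
  have hLt := Perm.isPretransitive_of_normal_of_ne_bot hprim L hL0
  have hd := comm L hLn hL0 hL hLM
  have hc := Subgroup.commute_of_normal_of_disjoint M L hMn hLn hd
  have cent : ∀ c : G, (∀ x ∈ M, Commute c x) → c ∈ L := fun c h => by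
    rcases isEmpty_or_nonempty Ω with h0 | ⟨⟨a⟩⟩
    · rw [eq_of_smul_eq_smul (α := Ω) (m₁ := c) (m₂ := 1) fun x => h0.elim x]; exact L.one_mem
    obtain ⟨l, hl⟩ := exists_smul_eq L a (c • a)
    have h1 := semireg M (c := (l : G)⁻¹ * c) (fun x hx =>
      ((hc x l hx l.2).symm.inv_left).mul_left (h x hx)) (a := a) (by
        rw [mul_smul, ← hl]; exact inv_smul_smul _ _)
    rw [← inv_mul_eq_one.1 h1]; exact l.2
  have hNM : N = M ⊔ L := by
    rw [hN]
    refine le_antisymm (sSup_le fun K hK => ?_)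
      (sup_le (le_sSup ⟨hMn, hM0, hM⟩) (le_sSup ⟨hLn, hL0, hL⟩))
    by_cases h : K = M
    · exact h ▸ le_sup_left
    · exact le_sup_of_le_right fun k hk => cent k fun x hx =>
        (Subgroup.commute_of_normal_of_disjoint M K hMn hK.1 (comm K hK.1 hK.2.1 hK.2.2 h)
          x k hx hk).symm
  obtain ⟨e₁⟩ := Perm.nonempty_sup_mulEquiv_prod M L (fun a ha b hb => hc a b ha hb) hd
  obtain ⟨e₂⟩ := equiv (Ω := Ω) M L fun a ha b hb => hc a b ha hb
  refine Or.inr ⟨T, inferInstance, m + m, by omega, hT, fun h => hM0 ?_, ⟨?_⟩⟩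
  · refine hd.eq_bot_of_le fun x hx => cent x fun y hy => ?_
    exact congrArg Subtype.val ((hTc h).is_comm.comm ⟨x, hx⟩ ⟨y, hy⟩)
  · exact ((MulEquiv.subgroupCongr hNM).trans e₁).trans
      ((e.prodCongr (e₂.symm.trans e)).trans (appendEquiv T m))

end Cfsg.Agent.S3680
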