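import Cfsg.Statements.S3501
import Cfsg.Agent.Perm.Derangement
import Cfsg.Agent.Perm.Sharp2
import Cfsg.Agent.Perm.SimplePower
import Cfsg.Agent.Perm.PrimRel
import Cfsg.Agent.Grp.MinNormal
import Cfsg.Agent.S0700
import Cfsg.Agent.S3680

set_option autoImplicit false
open Cfsg

namespace Cfsg.Agent.S3501

open MulAction

theorem exists_der {G Ω : Type*} [Group G] [Finite G] [MulAction G Ω] [Finite Ω] [Nontrivial Ω]
    (h : IsPretransitive G Ω) : ∃ g : G, ∀ ω : Ω, g • ω ≠ ω := by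
  by_contra h0
  obtain ⟨a, b, hab⟩ := exists_pair_ne Ω
  obtain ⟨⟨g, hg⟩, h1⟩ := (Perm.Der.derSub_main h).1.exists_smul_eq a b
  rw [Perm.Der.derSub, show {g : G | ∀ ω : Ω, g • ω ≠ ω} = ∅ from
    Set.eq_empty_of_forall_notMem fun g hg => h0 ⟨g, hg⟩, Subgroup.closure_empty,
    Subgroup.mem_bot] at hg
  subst hg
  exact hab ((one_smul G a).symm.trans h1)

theorem exists_not_conj {T : Type*} [Group T] [Finite T] (R : Subgroup T) (hR : R ≠ ⊤) :
    ∃ t : T, ∀ x : T, x⁻¹ * t * x ∉ R := by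
  have : Nontrivial (T ⧸ R) := QuotientGroup.nontrivial_iff.2 hR
  obtain ⟨t, ht⟩ := exists_der (G := T) (Ω := T ⧸ R) inferInstance
  refine ⟨t, fun x hx => ht (x : T ⧸ R) ?_⟩
  rw [Quotient.smul_coe, eq_comm, QuotientGroup.eq, smul_eq_mul, ← mul_assoc]
  exact hx

theorem comm {G : Type*} [Group G] [Finite G] {Ω : Type*} [MulAction G Ω] [FaithfulSMul G Ω]
    (hprim : IsPreprimitive G Ω) (hnas : ¬ ∃ T : Subgroup G, T.Normal ∧ IsSimpleGroup T ∧
      ¬ IsMulCommutative T ∧ Subgroup.centralizer (T : Set G) = ⊥)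
    (hconj : ∀ x y : G, (∀ ω : Ω, x • ω ≠ ω) → (∀ ω : Ω, y • ω ≠ ω) → IsConj x y)
    (N : Subgroup G) [N.Normal] (hN : N ≠ ⊥)
    (hmin : ∀ M : Subgroup G, M.Normal → M ≤ N → M = ⊥ ∨ M = N) : IsMulCommutative N := by
  classical
  have hNt := Perm.isPretransitive_of_normal_of_ne_bot hprim N hN
  obtain ⟨T, _, m, hT, hm, ⟨e⟩⟩ := Perm.exists_simple_type_mulEquiv_pi N hN hmin
  have : Finite (Fin m → T) := Finite.of_equiv _ e.toEquiv
  have : Finite T := Finite.of_injective (Pi.mulSingle (M := fun _ : Fin m => T) ⟨0, hm⟩)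
    (Pi.mulSingle_injective _)
  by_contra hc
  have hTc : ¬ IsMulCommutative T := fun h => hc ⟨⟨fun a b => e.injective (by
    rw [map_mul, map_mul]; exact funext fun i => h.is_comm.comm _ _)⟩⟩
  have hZ : Subgroup.center T = ⊥ := (hT.eq_bot_or_eq_top_of_normal _ inferInstance).resolve_right
    fun h => hTc ⟨⟨fun a b => Subgroup.mem_center_iff.1 (h ▸ Subgroup.mem_top b) a⟩⟩
  let i : Fin m := ⟨0, hm⟩
  let ι : T →* N := e.symm.toMonoidHom.comp (MonoidHom.mulSingle (fun _ : Fin m => T) i)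
  have hι : ∀ t, e (ι t) = Pi.mulSingle i t := fun t => e.apply_symm_apply _
  have hinj : Function.Injective ι := 
    e.symm.injective.comp (Pi.mulSingle_injective (M := fun _ : Fin m => T) i)
  have hcj : ∀ (x : N) t, x * ι t * x⁻¹ = ι (e x i * t * (e x i)⁻¹) := fun x t => e.injective (by
    rw [map_mul, map_mul, map_inv, hι, hι]
    funext j
    by_cases h : j = i
    · subst h; simp
    · simp [h])
  by_cases hA : ∀ t, t ≠ 1 → ∀ ω : Ω, ι t • ω ≠ ω
  · obtain ⟨p, hp, h⟩ := S0700.isPGroup_of_orderOf_eq (M := T) fun s t hs ht => by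
      obtain ⟨c, hc⟩ := hconj (ι s) (ι t) (hA s hs) (hA t ht)
      have h1 := hc.orderOf_eq
      rwa [Subgroup.orderOf_coe, Subgroup.orderOf_coe, orderOf_injective ι hinj,
        orderOf_injective ι hinj] at h1
    have := Fact.mk hp
    have := h.center_nontrivial
    rw [hZ] at this
    exact not_nontrivial _ this
  push Not at hA
  obtain ⟨t₀, ht₀, ω, hω⟩ := hA
  obtain ⟨j, hj⟩ : ∃ j, j ≠ i := by
    by_contra! h
    have : Unique (Fin m) := ⟨⟨i⟩, h⟩
    have hC : Subgroup.centralizer (N : Set G) ≠ ⊥ := fun h1 =>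
      hnas ⟨N, inferInstance, (e.trans (MulEquiv.funUnique _ _)).isSimpleGroup, hc, h1⟩
    have := Perm.isPretransitive_of_normal_of_ne_bot hprim _ hC
    exact ht₀ (hinj (Subtype.ext (by
      rw [map_one]
      exact S3680.semireg (Subgroup.centralizer (N : Set G)) (fun c hc => hc _ (ι t₀).2) hω)))
  let π : N →* T := (Pi.evalMonoidHom (fun _ : Fin m => T) i).comp e.toMonoidHom
  have hR : (stabilizer N ω).map π ≠ ⊤ := fun hR => by
    have hK : ((stabilizer N ω).comap ι).Normal := ⟨fun t ht r => by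
      obtain ⟨x, hx, rfl⟩ : r ∈ (stabilizer N ω).map π := hR ▸ Subgroup.mem_top r
      have := mul_mem (mul_mem hx ht) (inv_mem hx)
      rwa [hcj] at this⟩
    have h1 := (hT.eq_bot_or_eq_top_of_normal _ hK).resolve_left fun h =>
      ht₀ (Subgroup.mem_bot.1 (h ▸ hω))
    refine ht₀ (hinj (Subtype.ext (eq_of_smul_eq_smul (α := Ω) fun x => ?_)))
    obtain ⟨n, rfl⟩ := exists_smul_eq N ω x
    have h2 : n⁻¹ * ι t₀ * n⁻¹⁻¹ ∈ stabilizer N ω := by
      rw [hcj]; exact (h1 ▸ Subgroup.mem_top _ : _ ∈ (stabilizer N ω).comap ι)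
    rw [mem_stabilizer_iff, inv_inv, mul_smul, mul_smul, inv_smul_eq_iff] at h2
    rw [map_one]
    exact h2.trans (one_smul G _).symm
  obtain ⟨t, ht⟩ := exists_not_conj _ hR
  have hder : ∀ x : N, e x i = t → ∀ ω' : Ω, (x : G) • ω' ≠ ω' := fun x hx ω' h => by
    obtain ⟨n, rfl⟩ := exists_smul_eq N ω ω'
    refine ht (π n) ⟨n⁻¹ * x * n, ?_, by rw [map_mul, map_mul, map_inv, ← hx]; rfl⟩
    rw [SetLike.mem_coe, mem_stabilizer_iff, mul_smul, mul_smul, inv_smul_eq_iff]
    exact h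
  let y : N := e.symm (Pi.mulSingle i t * Pi.mulSingle j t₀)
  have hy : e y = Pi.mulSingle i t * Pi.mulSingle j t₀ := e.apply_symm_apply _
  obtain ⟨g, hg⟩ := isConj_iff.1 (hconj (ι t) y (hder _ (by simp [hι]))
    (hder _ (by simp [hy, hj.symm])))
  have h1 : Subgroup.centralizer {y} ≤ Subgroup.centralizer {ι t} := fun x hx => by
    rw [Subgroup.mem_centralizer_singleton_iff] at hx ⊢
    apply e.injective
    have h2 := congrFun (congrArg e hx) i
    rw [map_mul, map_mul, hι]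
    funext k
    by_cases h : k = i
    · subst h; simpa [hy, hj.symm] using h2
    · simp [h]
  have h2 : Subgroup.centralizer {ι t} = Subgroup.centralizer {y} := by
    refine (Subgroup.eq_of_le_of_card_ge h1 ?_).symm
    refine Nat.card_le_card_of_injective (fun x => ⟨MulAut.conjNormal g x.1, ?_⟩)
      fun a b h => Subtype.ext ((MulAut.conjNormal g).injective (congrArg Subtype.val h))
    have h3 : y = MulAut.conjNormal g (ι t) := Subtype.ext hg.symm
    rw [Subgroup.mem_centralizer_singleton_iff, h3, ← map_mul, ← map_mul,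
      Subgroup.mem_centralizer_singleton_iff.1 x.2]
  refine ht₀ (Subgroup.mem_bot.1 (hZ ▸ Subgroup.mem_center_iff.2 fun s => ?_))
  have h3 : e.symm (Pi.mulSingle j s) ∈ Subgroup.centralizer {ι t} := by
    rw [Subgroup.mem_centralizer_singleton_iff]
    apply e.injective
    rw [map_mul, map_mul, hι, e.apply_symm_apply]
    exact (Pi.mulSingle_commute (f := fun _ : Fin m => T) hj s t).eq
  rw [h2, Subgroup.mem_centralizer_singleton_iff] at h3
  simpa [hy, hj] using congrFun (congrArg e h3) j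


/-- Let a finite group G act faithfully and primitively on a finite set Ω with at least two points, and suppose G is not almost simple (it has no non-abelian simple normal subgroup with trivial centralizer). Then the derangements of G form a single conjugacy class if and only if G is sharply 2-transitive (2-transitive, and no non-identity element fixes two points). -/
theorem result {G : Type*} [Group G] [Finite G] {Ω : Type*} [Fintype Ω] [MulAction G Ω] [FaithfulSMul G Ω] (hΩ : 2 ≤ Fintype.card Ω) (hprim : MulAction.IsPreprimitive G Ω) (hnas : ¬ ∃ T : Subgroup G, T.Normal ∧ IsSimpleGroup T ∧ ¬ IsMulCommutative T ∧ Subgroup.centralizer (T : Set G) = ⊥) :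
    Nat.card {c : ConjClasses G // ∃ g : G, ConjClasses.mk g = c ∧ ∀ ω : Ω, g • ω ≠ ω} = 1 ↔ (MulAction.IsMultiplyPretransitive G Ω 2 ∧ ∀ g : G, g ≠ 1 → ∀ a b : Ω, a ≠ b → g • a = a → g • b ≠ b) := by
  have : Nontrivial Ω := Fintype.one_lt_card_iff_nontrivial.1 hΩ
  rw [Nat.card_eq_one_iff_unique]
  constructor
  · rintro ⟨h1, -⟩
    have hconj : ∀ x y : G, (∀ ω : Ω, x • ω ≠ ω) → (∀ ω : Ω, y • ω ≠ ω) → IsConj x y :=
      fun x y hx hy => ConjClasses.mk_eq_mk_iff_isConj.1
        (congrArg Subtype.val (h1.elim ⟨_, x, rfl, hx⟩ ⟨_, y, rfl, hy⟩))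
    obtain ⟨a, b, hab⟩ := exists_pair_ne Ω
    obtain ⟨g₀, hg₀⟩ := exists_smul_eq G a b
    have : Nontrivial G := ⟨g₀, 1, fun h => hab (by rw [← hg₀, h, one_smul])⟩
    obtain ⟨N, hNn, hN, hmin⟩ := Grp.exists_minNormal G
    have hc := comm hprim hnas hconj N hN hmin
    have hNt := Perm.isPretransitive_of_normal_of_ne_bot hprim N hN
    have hreg : ∀ x ∈ N, ∀ ω : Ω, x • ω = ω → x = 1 := fun x hx ω h =>
      S3680.semireg N (fun y hy => congrArg Subtype.val (hc.is_comm.comm ⟨x, hx⟩ ⟨y, hy⟩)) h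
    have hder : ∀ (x : N) (a : Ω), x • a ≠ a → ∀ ω : Ω, (x : G) • ω ≠ ω := fun x a h ω h1 =>
      h (by rw [show x = 1 from Subtype.ext (hreg x x.2 ω h1), one_smul])
    refine ⟨?_, fun g hg a b hab h1 h2 => hg (hreg g ?_ a h1)⟩
    · have key : ∀ a b c : Ω, a ≠ b → a ≠ c → ∃ g : G, g • a = a ∧ g • b = c := by
        intro a b c hb hc'
        obtain ⟨x, rfl⟩ := exists_smul_eq N a b
        obtain ⟨y, rfl⟩ := exists_smul_eq N a c
        obtain ⟨g, hg⟩ := isConj_iff.1 (hconj x y (hder x a hb.symm) (hder y a hc'.symm))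
        obtain ⟨n, hn⟩ := exists_smul_eq N (g • a) a
        refine ⟨n * g, by rw [mul_smul]; exact hn, ?_⟩
        have h3 : g * x = y * g := by rw [← hg, inv_mul_cancel_right]
        have h4 : (n : G) * y = y * n := congrArg Subtype.val (hc.is_comm.comm n y)
        change ((n : G) * g) • (x : G) • a = (y : G) • a
        rw [smul_smul, mul_assoc, h3, ← mul_assoc, h4, mul_smul, mul_smul]
        exact congrArg _ hn
      refine is_two_pretransitive_iff.2 fun {a b c d} hab hcd => ?_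
      obtain ⟨g, rfl⟩ := exists_smul_eq G a c
      obtain ⟨h, h3, h4⟩ := key (g • a) (g • b) d ((MulAction.injective g).ne hab) hcd
      exact ⟨h * g, by rw [mul_smul, h3], by rw [mul_smul, h4]⟩
    · refine (Subgroup.closure_le N).2 (fun y hy => ?_)
        (Perm.Der.mem_derSub_of_fix_two inferInstance hab h1 h2)
      obtain ⟨x, rfl⟩ := exists_smul_eq N a b
      obtain ⟨k, rfl⟩ := isConj_iff.1 (hconj x y (hder x a hab.symm) hy)
      exact hNn.conj_mem _ x.2 k
  · rintro ⟨h2, hs⟩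
    obtain ⟨K, hKn, hK, -, -, htr, -⟩ := Perm.exists_sharp_two_kernel h2
      (fun g a b hab h1 h3 => by by_contra h; exact hs g h a b hab h1 h3)
      (by rwa [Nat.card_eq_fintype_card])
    obtain ⟨g, hg⟩ := exists_der (G := G) (Ω := Ω) inferInstance
    refine ⟨⟨?_⟩, ⟨⟨_, g, rfl, hg⟩⟩⟩
    rintro ⟨_, x, rfl, hx⟩ ⟨_, y, rfl, hy⟩
    refine Subtype.ext (ConjClasses.mk_eq_mk_iff_isConj.2 ?_)
    obtain ⟨a⟩ : Nonempty Ω := inferInstance
    obtain ⟨h, h3, h4⟩ := is_two_pretransitive_iff.1 h2 (hx a).symm (hy a).symm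
    refine isConj_iff.2 ⟨h, (inv_mul_eq_one.1 (((hK (y⁻¹ * (h * x * h⁻¹))).1 (mul_mem
      (inv_mem ((hK y).2 (Or.inr hy))) (hKn.conj_mem _ ((hK x).2 (Or.inr hx)) h))).resolve_right
      fun h5 => h5 a ?_)).symm⟩
    rw [mul_smul, mul_smul, mul_smul, inv_smul_eq_iff.2 h3.symm, h4, inv_smul_smul]

end Cfsg.Agent.S3501
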