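import Cfsg.Statements.S3520
import Cfsg.Agent.Perm.Onl
import Cfsg.Agent.Perm.Derangement
import Cfsg.Agent.S0144
import Cfsg.Agent.Solv.SylowSystem

set_option autoImplicit false
open Cfsg

namespace Cfsg.Agent.S3520

open Cfsg.Agent.Perm Cfsg.Agent.Perm.Onl

section
variable {G : Type*} [Group G]

theorem order_conj (u x : G) : orderOf (u * x * u⁻¹) = orderOf x :=
  (MulAut.conj u).orderOf_eq x

theorem exists_two_sizes {M : Type*} [Group M] [Finite M] (h1 : Nontrivial M)
    (h2 : ∀ z : M, (∀ x, z * x = x * z) → z = 1) :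
    ∃ a b : M, Nat.card (Subgroup.centralizer {a}) ≠ Nat.card (Subgroup.centralizer {(1 : M)}) ∧
      Nat.card (Subgroup.centralizer {b}) ≠ Nat.card (Subgroup.centralizer {(1 : M)}) ∧
      Nat.card (Subgroup.centralizer {a}) ≠ Nat.card (Subgroup.centralizer {b}) := by
  have key : ∀ p : ℕ, p.Prime → p ∣ Nat.card M → ∃ a : M,
      (Subgroup.centralizer {a}).index ≠ 1 ∧ ¬ p ∣ (Subgroup.centralizer {a}).index := by
    intro p hp hd
    have := Fact.mk hp
    obtain ⟨P⟩ : Nonempty (Sylow p M) := inferInstance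
    have : Nontrivial P := by
      rw [Subgroup.nontrivial_iff_ne_bot]
      intro h
      have := P.not_dvd_index
      rw [h, Subgroup.index_bot] at this
      exact this hd
    have := P.isPGroup'.center_nontrivial
    obtain ⟨z, hz⟩ := exists_ne (1 : Subgroup.center P)
    refine ⟨z.1.1, fun h => hz (Subtype.ext (Subtype.ext (h2 _ fun x => ?_))), fun h =>
      P.not_dvd_index (h.trans (Subgroup.index_dvd_of_le fun x hx => ?_))⟩
    · rw [Subgroup.index_eq_one] at h
      exact (Subgroup.mem_centralizer_singleton_iff.1 (h ▸ Subgroup.mem_top x)).symm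
    · exact Subgroup.mem_centralizer_singleton_iff.2
        (congrArg Subtype.val (Subgroup.mem_center_iff.1 z.2 ⟨x, hx⟩))
  obtain ⟨p, hp, hd⟩ := Nat.exists_prime_and_dvd (n := Nat.card M) Finite.one_lt_card.ne'
  obtain ⟨a, ha, -⟩ := key p hp hd
  obtain ⟨q, hq, hqd⟩ := Nat.exists_prime_and_dvd ha
  obtain ⟨b, hb, hb'⟩ := key q hq (hqd.trans (Subgroup.index_dvd_card _))
  have h3 : ∀ x y : M, Nat.card (Subgroup.centralizer {x}) = Nat.card (Subgroup.centralizer {y}) →
      (Subgroup.centralizer {x}).index = (Subgroup.centralizer {y}).index := by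
    intro x y h
    have e1 := (Subgroup.centralizer {x}).card_mul_index
    rw [← (Subgroup.centralizer {y}).card_mul_index, h] at e1
    exact Nat.eq_of_mul_eq_mul_left Nat.card_pos e1
  have h4 : (Subgroup.centralizer {(1 : M)}).index = 1 := by
    rw [Subgroup.index_eq_one, eq_top_iff]
    exact fun x _ => Subgroup.mem_centralizer_singleton_iff.2 (by simp)
  exact ⟨a, b, fun h => ha ((h3 _ _ h).trans h4), fun h => hb ((h3 _ _ h).trans h4),
    fun h => hb' (h3 _ _ h ▸ hqd)⟩

theorem cent_nontrivial {N S S' : Subgroup G} (hS : Fac N S) (hS' : Fac N S') (hne : S' ≠ S) :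
    Nontrivial (N ⊓ Subgroup.centralizer (S : Set G) : Subgroup G) := by
  rw [Subgroup.nontrivial_iff_ne_bot]
  intro h
  refine hS'.ne_bot (eq_bot_iff.2 fun x hx => ?_)
  rw [← h]
  exact ⟨hS'.le hx, cm_iff.1 (hS.cm_of_ne hS' hne hx)⟩

theorem cent_center {N S : Subgroup G} (hS : Fac N S)
    (z : (N ⊓ Subgroup.centralizer (S : Set G) : Subgroup G)) (hz : ∀ x, z * x = x * z) :
    z = 1 := by
  have := hS.normal
  have h1 : (z : G) ∈ N ⊓ Subgroup.centralizer (N : Set G) := ⟨z.2.1, cm_iff.1 fun n hn => by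
    obtain ⟨s, hs, c, hc, hc', rfl⟩ := hS.decomp hn
    exact (cm_iff.2 z.2.2 s hs).mul_right (congrArg Subtype.val (hz ⟨c, hc, cm_iff.1 hc'⟩))⟩
  rcases hS.min (N ⊓ Subgroup.centralizer (N : Set G)) inferInstance inf_le_left with h | h
  · rw [h, Subgroup.mem_bot] at h1
    exact Subtype.ext h1
  · obtain ⟨a, ha, b, hb, hab⟩ := hS.exists_not_comm
    have : a ∈ N ⊓ Subgroup.centralizer (N : Set G) := h.symm ▸ hS.le ha
    exact absurd (cm_iff.2 this.2 b (hS.le hb)) hab

theorem card_cent_mul {N S : Subgroup G} (hS : Fac N S) {t : G} (ht : t ∈ S)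
    (m : (N ⊓ Subgroup.centralizer (S : Set G) : Subgroup G)) :
    Nat.card (N ⊓ Subgroup.centralizer {t * m} : Subgroup G) =
      Nat.card (S ⊓ Subgroup.centralizer {t} : Subgroup G) *
        Nat.card (Subgroup.centralizer {m}) := by
  rw [← Nat.card_prod]
  have hm : Cm S m := cm_iff.2 m.2.2
  symm
  refine Nat.card_congr (Equiv.ofBijective (fun x => ⟨x.1.1 * x.2.1.1,
    N.mul_mem (hS.le x.1.2.1) x.2.1.2.1, Subgroup.mem_centralizer_singleton_iff.2 ?_⟩) ⟨?_, ?_⟩)
  · have h1 : Commute (x.1.1 : G) t := Subgroup.mem_centralizer_singleton_iff.1 x.1.2.2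
    have h2 : Commute (x.2.1.1 : G) m :=
      congrArg Subtype.val (Subgroup.mem_centralizer_singleton_iff.1 x.2.2)
    exact ((h1.mul_right (hm _ x.1.2.1).symm).mul_left
      ((cm_iff.2 x.2.1.2.2 t ht).mul_right h2)).eq
  · rintro ⟨x, y⟩ ⟨x', y'⟩ h
    have h := congrArg Subtype.val h
    have h1 := hS.eq_of_mul_eq x.2.1 x'.2.1 (cm_iff.2 y.1.2.2) (cm_iff.2 y'.1.2.2) h
    simp only [h1, mul_right_inj] at h
    exact Prod.ext (Subtype.ext h1) (Subtype.ext (Subtype.ext h))
  · rintro ⟨n, hn, hn'⟩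
    obtain ⟨s, hs, c, hc, hc', rfl⟩ := hS.decomp hn
    have h1 := Subgroup.mem_centralizer_singleton_iff.1 hn'
    have h2 : s * t * (c * m) = t * s * (m * c) := by
      calc s * t * (c * m) = s * (t * c) * m := by group
        _ = s * c * (t * m) := by rw [← (hc' t ht).eq]; group
        _ = t * (m * s) * c := by rw [h1]; group
        _ = _ := by rw [(hm s hs).eq]; group
    have h3 := hS.eq_of_mul_eq (S.mul_mem hs ht) (S.mul_mem ht hs) (hc'.mul hm) (hm.mul hc') h2
    rw [h3, mul_right_inj] at h2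
    exact ⟨⟨⟨s, hs, Subgroup.mem_centralizer_singleton_iff.2 h3⟩, ⟨⟨c, hc, cm_iff.1 hc'⟩,
      Subgroup.mem_centralizer_singleton_iff.2 (Subtype.ext h2)⟩⟩, rfl⟩

theorem card_cent_conj (N : Subgroup G) [hN : N.Normal] {x y : G} (h : IsConj x y) :
    Nat.card (N ⊓ Subgroup.centralizer {x} : Subgroup G) =
      Nat.card (N ⊓ Subgroup.centralizer {y} : Subgroup G) := by
  obtain ⟨u, rfl⟩ := isConj_iff.1 h
  rw [← card_cj u]
  congr 2
  ext g
  rw [mem_cj, Subgroup.mem_inf, Subgroup.mem_inf, Subgroup.mem_centralizer_singleton_iff,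
    Subgroup.mem_centralizer_singleton_iff]
  refine and_congr ⟨fun h => by simpa [mul_assoc] using hN.conj_mem _ h u,
    fun h => hN.conj_mem' _ h u⟩ ⟨fun h => ?_, fun h => ?_⟩
  · calc g * (u * x * u⁻¹) = u * (u⁻¹ * g * u * x) * u⁻¹ := by group
      _ = _ := by rw [h]; group
  · calc u⁻¹ * g * u * x = u⁻¹ * (g * (u * x * u⁻¹)) * u := by group
      _ = _ := by rw [h]; group

end

/-- Let a finite group G act faithfully and primitively on a finite set Ω with at least two points, suppose G is not almost simple (no non-abelian simple normal subgroup with trivial centralizer), and suppose the derangements of G form exactly two conjugacy classes. Then either Ω has 3 points and G has order 3; or G has a non-trivial abelian normal subgroup N acting regularly, every non-identity element of G fixes at most one point (so, when n > 3, G is a Frobenius group with kernel N), the number n of points is odd and a point stabilizer has order (n − 1)/2; or G is 2-transitive with a non-trivial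 abelian regular normal subgroup and some non-identity element fixes at least two points (a non-Frobenius 2-transitive affine group). -/
theorem result {G : Type*} [Group G] [Finite G] {Ω : Type*} [Fintype Ω] [MulAction G Ω] [FaithfulSMul G Ω] (hΩ : 2 ≤ Fintype.card Ω) (hprim : MulAction.IsPreprimitive G Ω) (hnas : ¬ ∃ T : Subgroup G, T.Normal ∧ IsSimpleGroup T ∧ ¬ IsMulCommutative T ∧ Subgroup.centralizer (T : Set G) = ⊥)
    (hκ : Nat.card {c : ConjClasses G // ∃ g : G, ConjClasses.mk g = c ∧ ∀ ω : Ω, g • ω ≠ ω} = 2) (α : Ω) :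
    (Fintype.card Ω = 3 ∧ Nat.card G = 3) ∨
    ((∃ N : Subgroup G, N.Normal ∧ N ≠ ⊥ ∧ IsMulCommutative N ∧ ∀ ω : Ω, MulAction.stabilizer N ω = ⊥) ∧ (∀ g : G, g ≠ 1 → Nat.card (MulAction.fixedBy Ω g) ≤ 1) ∧ ¬ 2 ∣ Fintype.card Ω ∧
        2 * Nat.card (MulAction.stabilizer G α) = Fintype.card Ω - 1) ∨
    ((∃ N : Subgroup G, N.Normal ∧ N ≠ ⊥ ∧ IsMulCommutative N ∧ ∀ ω : Ω, MulAction.stabilizer N ω = ⊥) ∧ MulAction.IsMultiplyPretransitive G Ω 2 ∧ ∃ g : G, g ≠ 1 ∧ 2 ≤ Nat.card (MulAction.fixedBy Ω g)) := by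
  classical
  have : Nontrivial Ω := Fintype.one_lt_card_iff_nontrivial.1 hΩ
  have := Fintype.ofFinite G
  have := hprim.toIsPretransitive
  have three : ∀ a b c : G, (∀ ω : Ω, a • ω ≠ ω) → (∀ ω : Ω, b • ω ≠ ω) → (∀ ω : Ω, c • ω ≠ ω) →
      IsConj a b ∨ IsConj a c ∨ IsConj b c := by
    intro a b c ha hb hc
    obtain ⟨x, y, -, hxy⟩ := Nat.card_eq_two_iff.1 hκ
    have key : ∀ z : {c : ConjClasses G // ∃ g : G, ConjClasses.mk g = c ∧ ∀ ω : Ω, g • ω ≠ ω},
        z = x ∨ z = y := fun z => by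
      have : z ∈ ({x, y} : Set _) := hxy ▸ Set.mem_univ z
      simpa using this
    simp only [← ConjClasses.mk_eq_mk_iff_isConj]
    rcases key ⟨_, a, rfl, ha⟩ with h1 | h1 <;> rcases key ⟨_, b, rfl, hb⟩ with h2 | h2 <;>
      rcases key ⟨_, c, rfl, hc⟩ with h3 | h3 <;>
      first
        | exact Or.inl (congrArg Subtype.val (h1.trans h2.symm))
        | exact Or.inr (Or.inl (congrArg Subtype.val (h1.trans h3.symm)))
        | exact Or.inr (Or.inr (congrArg Subtype.val (h2.trans h3.symm)))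
  rcases exists_setup hprim with ⟨V, hn, hV, hc, htr, hmin, hst⟩ | h | ⟨N, S, hS, htr, hC⟩
  rotate_left
  · exact absurd h hnas
  · exfalso
    rcases hS.dichotomy' htr α hC with h | ⟨t, ht, S', hS', hne, h⟩
    · rcases Solv.eq_pow_mul_pow_or_three_primes (n := Nat.card S) Nat.card_pos.ne' with
        ⟨p, q, a, b, hp, hq, h1⟩ | ⟨p, q, r, hp, hq, hr, hpq, hpr, hqr, h1, h2, h3⟩
      · exact hS.not_isSolvable (S0144.result p q a b hp hq h1)
      have ex : ∀ p : ℕ, p.Prime → p ∣ Nat.card S →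
          ∃ x : G, orderOf x = p ∧ ∀ ω : Ω, x • ω ≠ ω := by
        intro p hp hd
        have := Fact.mk hp
        obtain ⟨x, hx⟩ := exists_prime_orderOf_dvd_card' p hd
        rw [← Subgroup.orderOf_coe] at hx
        exact ⟨x, hx, h x x.2 fun h1 => hp.one_lt.ne' (by rw [← hx, h1, orderOf_one])⟩
      obtain ⟨x, hx, hx'⟩ := ex p hp h1
      obtain ⟨y, hy, hy'⟩ := ex q hq h2
      obtain ⟨z, hz, hz'⟩ := ex r hr h3
      rcases three x y z hx' hy' hz' with h | h | h <;> obtain ⟨u, rfl⟩ := isConj_iff.1 h <;>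
        simp only [order_conj] at * <;> omega
    · obtain ⟨a, b, ha, hb, hab⟩ := exists_two_sizes (cent_nontrivial hS hS' hne) (cent_center hS)
      have e := fun m : (N ⊓ Subgroup.centralizer (S : Set G) : Subgroup G) =>
        card_cent_mul hS ht m
      have hpos : 0 < Nat.card (S ⊓ Subgroup.centralizer {t} : Subgroup G) := Nat.card_pos
      have hd := fun m : (N ⊓ Subgroup.centralizer (S : Set G) : Subgroup G) =>
        h m m.2.1 (cm_iff.2 m.2.2)
      have := hS.normal
      rcases three _ _ _ (hd 1) (hd a) (hd b) with h | h | h <;>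
        have h' := card_cent_conj N h <;> rw [e, e] at h' <;>
        have h'' := Nat.eq_of_mul_eq_mul_left hpos h'
      · exact ha h''.symm
      · exact hb h''.symm
      · exact hab h''
  have hVd : ∀ v ∈ V, v ≠ 1 → ∀ ω : Ω, v • ω ≠ ω := fun v hv h1 ω hω => h1 (by
    have : (⟨v, hv⟩ : V) ∈ MulAction.stabilizer V ω := hω
    rw [hst, Subgroup.mem_bot] at this
    exact congrArg Subtype.val this)
  have hcomm : ∀ v ∈ V, ∀ w ∈ V, v * w = w * v := fun v hv w hw =>
    congrArg Subtype.val (hc.is_comm.comm (⟨v, hv⟩ : V) ⟨w, hw⟩)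
  have hsum : ∑ g ∈ Finset.univ.filter (· ∉ V), Nat.card (MulAction.fixedBy Ω g) =
      ∑ g ∈ Finset.univ.filter (· ∉ V), 1 := by
    have h1 := Der.burnside G Ω
    have h2 := Der.burnside_subgroup (Ω := Ω) V
    rw [Der.card_quotient_eq_one, one_mul] at h1 h2
    have h3 := Finset.sum_filter_add_sum_filter_not Finset.univ (· ∈ V)
      (fun g : G => Nat.card (MulAction.fixedBy Ω g))
    have h4 := Finset.card_filter_add_card_filter_not (s := Finset.univ) (fun g : G => g ∈ V)
    rw [Der.card_filter_mem, Finset.card_univ, ← Nat.card_eq_fintype_card] at h4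
    rw [Finset.sum_const, smul_eq_mul, mul_one]
    omega
  have hder0 : ∀ g : G, (∀ ω : Ω, g • ω ≠ ω) ↔ Nat.card (MulAction.fixedBy Ω g) = 0 := by
    intro g
    rw [Finite.card_eq_zero_iff]
    exact ⟨fun h => ⟨fun x => h x x.2⟩, fun h ω hω => h.false ⟨ω, hω⟩⟩
  have hder1 : ∀ g : G, (∀ ω : Ω, g • ω ≠ ω) → g ≠ 1 := fun g h h1 => h α (by rw [h1, one_smul])
  by_cases hA : ∀ v ∈ V, ∀ w ∈ V, v ≠ 1 → w ≠ 1 → IsConj v w
  · refine Or.inr (Or.inr ⟨⟨V, hn, hV, hc, hst⟩, ?_, ?_⟩)
    · rw [MulAction.is_two_pretransitive_iff]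
      intro a b c d hab hcd
      obtain ⟨v, hv⟩ := htr.exists_smul_eq a b
      obtain ⟨w, hw⟩ := htr.exists_smul_eq c d
      change (v : G) • a = b at hv
      change (w : G) • c = d at hw
      obtain ⟨g, hg⟩ := isConj_iff.1 (hA v v.2 w w.2
        (fun h => hab (by rw [← hv, h, one_smul])) (fun h => hcd (by rw [← hw, h, one_smul])))
      obtain ⟨u, hu⟩ := htr.exists_smul_eq (g • a) c
      change (u : G) • g • a = c at hu
      refine ⟨u * g, by rw [mul_smul, hu], ?_⟩
      rw [← hv, ← hw, ← hu, ← mul_smul, ← mul_smul, ← mul_smul, ← hcomm u u.2 w w.2, ← hg]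
      congr 1; group
    · by_contra hno
      push Not at hno
      have h1 := (Finset.sum_eq_sum_iff_of_le (s := Finset.univ.filter (· ∉ V))
        (f := fun g : G => Nat.card (MulAction.fixedBy Ω g)) (g := fun _ => 1) (fun g hg => by
          have := hno g (fun h => (Finset.mem_filter.1 hg).2 (h ▸ one_mem V))
          omega)).1 hsum
      have h2 : ∀ g : G, (∀ ω : Ω, g • ω ≠ ω) → g ∈ V := fun g hg => by
        by_contra h
        have := h1 g (by simpa using h)
        rw [(hder0 g).1 hg] at this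
        exact absurd this (by norm_num)
      obtain ⟨⟨_, a, rfl, ha⟩, ⟨_, b, rfl, hb⟩, hne, -⟩ := Nat.card_eq_two_iff.1 hκ
      exact hne (Subtype.ext (ConjClasses.mk_eq_mk_iff_isConj.2
        (hA a (h2 a ha) b (h2 b hb) (hder1 a ha) (hder1 b hb))))
  push Not at hA
  obtain ⟨v, hv, w, hw, hv1, hw1, hvw⟩ := hA
  have h2 : ∀ g : G, (∀ ω : Ω, g • ω ≠ ω) → IsConj v g ∨ IsConj w g := fun g hg =>
    (three v w g (hVd v hv hv1) (hVd w hw hw1) hg).resolve_left hvw
  have h3 : ∀ g : G, (∀ ω : Ω, g • ω ≠ ω) → g ∈ V := fun g hg => by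
    rcases h2 g hg with h | h <;> obtain ⟨u, rfl⟩ := isConj_iff.1 h
    exacts [hn.conj_mem v hv u, hn.conj_mem w hw u]
  have h1 := (Finset.sum_eq_sum_iff_of_le (s := Finset.univ.filter (· ∉ V))
    (g := fun g : G => Nat.card (MulAction.fixedBy Ω g)) (f := fun _ => 1) (fun g hg => by
      have : Nat.card (MulAction.fixedBy Ω g) ≠ 0 := fun h =>
        (Finset.mem_filter.1 hg).2 (h3 g ((hder0 g).2 h))
      omega)).1 hsum.symm
  have hle : ∀ g : G, g ≠ 1 → Nat.card (MulAction.fixedBy Ω g) ≤ 1 := fun g hg => by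
    by_cases h : g ∈ V
    · rw [(hder0 g).1 (hVd g h hg)]; exact Nat.zero_le _
    · exact (h1 g (by simpa using h)).ge
  have hcent : ∀ x ∈ V, x ≠ 1 → Subgroup.centralizer {x} = V := by
    intro x hx hx1
    refine le_antisymm (fun g hg => ?_) fun g hg =>
      Subgroup.mem_centralizer_singleton_iff.2 (hcomm g hg x hx)
    by_contra h
    have h4 := h1 g (by simpa using h)
    obtain ⟨⟨β, hβ⟩, hu⟩ := Nat.card_eq_one_iff_exists.1 h4.symm
    have : g • x • β = x • β := by
      rw [← mul_smul, Subgroup.mem_centralizer_singleton_iff.1 hg, mul_smul, hβ]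
    exact hVd x hx hx1 β (congrArg Subtype.val (hu ⟨x • β, this⟩))
  have hcardV : Nat.card V = Fintype.card Ω := by
    have h5 := MulAction.index_stabilizer_of_transitive V α
    rw [hst, Subgroup.index_bot, Nat.card_eq_fintype_card (α := Ω)] at h5
    exact h5
  have hidx : V.index = Nat.card (MulAction.stabilizer G α) := by
    have h5 := MulAction.index_stabilizer_of_transitive G α
    have h6 := (MulAction.stabilizer G α).card_mul_index
    have h7 := V.card_mul_index
    rw [h5, Nat.card_eq_fintype_card (α := Ω), ← h7, hcardV, mul_comm] at h6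
    exact (Nat.eq_of_mul_eq_mul_left (by omega) h6).symm
  have hset : {y | IsConj v y} ∪ {y | IsConj w y} = (V : Set G) \ {1} := by
    ext y
    constructor
    · rintro (h | h) <;> obtain ⟨u, rfl⟩ := isConj_iff.1 h
      · exact ⟨hn.conj_mem v hv u, by simpa using hv1⟩
      · exact ⟨hn.conj_mem w hw u, by simpa using hw1⟩
    · exact fun h => h2 y (hVd y h.1 h.2)
  have hc2 := congrArg Set.ncard hset
  have hdis : Disjoint {y | IsConj v y} {y | IsConj w y} :=
    Set.disjoint_left.2 fun y h h' => hvw (IsConj.trans h (IsConj.symm h'))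
  rw [Set.ncard_union_eq hdis,
    FGS.ncard_setOf_isConj, FGS.ncard_setOf_isConj, hcent v hv hv1, hcent w hw hw1, hidx,
    Set.ncard_diff_singleton_of_mem (one_mem V), ← Nat.card_coe_set_eq, SetLike.coe_sort_coe,
    hcardV] at hc2
  exact Or.inr (Or.inl ⟨⟨V, hn, hV, hc, hst⟩, hle, by omega, by omega⟩)


end Cfsg.Agent.S3520
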