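import Cfsg.Statements.S3521
import Cfsg.Agent.Perm.EPAff
import Cfsg.Agent.Perm.ExtPrimAb
import Cfsg.Agent.Solv.FrobeniusAction

set_option autoImplicit false
open Cfsg

namespace Cfsg.Agent.S3521

open MulAction Cfsg.Agent.Perm Cfsg.Agent.Perm.Onl Cfsg.Agent.Perm.EPA

/-- Let a finite group G that is not solvable act faithfully and primitively on a finite set with p ^ d points (p prime), with a non-trivial abelian normal subgroup acting regularly (affine type) and with non-trivial point stabilizers each acting primitively on every one of its orbits (an insoluble extremely primitive group of affine type). Then p = 2; and if moreover G is not 2-transitive, then a point stabilizer is almost simple (it has a non-abelian simple normal subgroup with trivial centralizer). -/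
theorem result {G : Type*} [Group G] [Finite G] {Ω : Type*} [Fintype Ω] [MulAction G Ω] [FaithfulSMul G Ω] (p d : ℕ) (hp : p.Prime) (hcard : Fintype.card Ω = p ^ d) (hsol : ¬ Group.IsSolvable G)
    (N : Subgroup G) [N.Normal] (hN : N ≠ ⊥) (hNc : IsMulCommutative N) (hNreg : ∀ ω : Ω, MulAction.stabilizer N ω = ⊥)
    (hprim : MulAction.IsPreprimitive G Ω) (hH : ∀ α : Ω, MulAction.stabilizer G α ≠ ⊥) (hep : ∀ (α : Ω) (ω : Ω), MulAction.IsPreprimitive (MulAction.stabilizer G α) (MulAction.orbit (MulAction.stabilizer G α) ω)) (α : Ω) :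
    p = 2 ∧ (¬ MulAction.IsMultiplyPretransitive G Ω 2 → ∃ T : Subgroup (MulAction.stabilizer G α), T.Normal ∧ IsSimpleGroup T ∧ ¬ IsMulCommutative T ∧ Subgroup.centralizer (T : Set (MulAction.stabilizer G α)) = ⊥) := by
  classical
  have htr : IsPretransitive N Ω := isPretransitive_of_normal_of_ne_bot hprim N hN
  have hNc' : ∀ x ∈ N, ∀ y ∈ N, x * y = y * x := fun x hx y hy =>
    congrArg Subtype.val (hNc.is_comm.comm ⟨x, hx⟩ ⟨y, hy⟩)
  have hinj : ∀ x ∈ N, x • α = α → x = 1 := fun x hx h => by
    have : (⟨x, hx⟩ : N) ∈ stabilizer N α := h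
    rw [hNreg α] at this
    exact congrArg Subtype.val (Subgroup.mem_bot.1 this)
  have hbij : Function.Bijective (fun n : N => (n : G) • α) := ⟨fun a b hab => by
    dsimp only at hab
    have := hinj _ (mul_mem (inv_mem b.2) a.2) (by rw [mul_smul, hab, inv_smul_smul])
    exact Subtype.ext (inv_mul_eq_one.1 this).symm, fun ω => htr.exists_smul_eq α ω⟩
  have hHs : ¬ Group.IsSolvable (stabilizer G α) := fun hs => by
    have h1 : Group.IsSolvable N := Group.isSolvable_of_comm fun a b => hNc.is_comm.comm a b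
    have h2 : Group.IsSolvable (G ⧸ N) :=
      Group.isSolvable_of_surjective (f := (QuotientGroup.mk' N).comp (stabilizer G α).subtype) fun x => by
        obtain ⟨g, rfl⟩ := QuotientGroup.mk_surjective x
        obtain ⟨n, hn, q, hq, e⟩ := exists_mul_of_trans htr α g⁻¹
        refine ⟨⟨q⁻¹, inv_mem hq⟩, ?_⟩
        change ((q⁻¹ : G) : G ⧸ N) = g
        rw [QuotientGroup.eq, inv_inv, ← inv_inv g, e]
        simpa using hn
    exact hsol (Group.isSolvable_of_ker_le_range N.subtype (QuotientGroup.mk' N) (by simp))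
  let : CommGroup N := { (inferInstance : Group N) with mul_comm := hNc.is_comm.comm }
  let e : Ω ≃ Additive N := (Equiv.ofBijective _ hbij).symm.trans Additive.ofMul
  let : AddCommGroup Ω := e.addCommGroup
  have hadd : ∀ x y : N, (x : G) • α + (y : G) • α = ((x * y : N) : G) • α := fun x y => by
    apply e.injective
    have k : ∀ z : N, e ((z : G) • α) = Additive.ofMul z := fun z =>
      congrArg Additive.ofMul ((Equiv.ofBijective _ hbij).symm_apply_apply z)
    rw [Equiv.add_def, Equiv.apply_symm_apply, k, k, k, ofMul_mul]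
  have hzero : (0 : Ω) = α := by
    have := hadd 1 1
    simp only [mul_one, OneMemClass.coe_one, one_smul] at this
    exact (add_eq_left.1 this).symm
  have hconj : ∀ (h : stabilizer G α) (x : N), h • (x : G) • α =
      ((⟨h * x * (h : G)⁻¹, ‹N.Normal›.conj_mem _ x.2 _⟩ : N) : G) • α := fun h x => by
    change (h : G) • (x : G) • α = ((h : G) * x * (h : G)⁻¹) • α
    rw [mul_smul, mul_smul, show (h : G)⁻¹ • α = α from (inv_mem h.2 : _ ∈ stabilizer G α)]
  let : DistribMulAction (stabilizer G α) Ω :=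
    { (inferInstance : MulAction (stabilizer G α) Ω) with
      smul_zero := fun h => by rw [hzero]; exact h.2
      smul_add := fun h x y => by
        obtain ⟨x, rfl⟩ := hbij.2 x
        obtain ⟨y, rfl⟩ := hbij.2 y
        dsimp only
        rw [hadd, hconj, hconj, hconj, hadd]
        congr 2
        simp [mul_assoc] }
  have hy : Hyp (stabilizer G α) Ω := ⟨hep α, fun v hv h hh =>
    Subtype.ext (ExtPrim.eq_one_of_fix_orbit hprim hep (hzero ▸ hv) h.2 fun a ha => hh ⟨a, ha⟩)⟩
  have hcN : Nat.card N = p ^ d := by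
    rw [Nat.card_congr (Equiv.ofBijective _ hbij), Nat.card_eq_fintype_card, hcard]
  obtain ⟨⟨n0, hn0⟩, hn1⟩ := (Subgroup.ne_bot_iff_exists_ne_one).1 hN
  have hv0 : n0 • α ≠ 0 := fun h0 => hn1 (Subtype.ext (hinj _ hn0 (h0.trans hzero)))
  have : Nontrivial Ω := ⟨⟨_, _, hv0⟩⟩
  have := Fact.mk Nat.prime_two
  have h2 : ∀ v : Ω, v + v = 0 := by
    let K : Subgroup G :=
      { carrier := {x | x ∈ N ∧ x * x = 1}
        one_mem' := ⟨one_mem _, mul_one _⟩
        mul_mem' := by
          rintro a b ⟨ha, ha'⟩ ⟨hb, hb'⟩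
          refine ⟨mul_mem ha hb, ?_⟩
          rw [show a * b * (a * b) = a * (b * a) * b by group, hNc' b hb a ha,
            show a * (a * b) * b = (a * a) * (b * b) by group, ha', hb', mul_one]
        inv_mem' := by
          rintro a ⟨ha, ha'⟩
          exact ⟨inv_mem ha, by rw [← mul_inv_rev, ha', inv_one]⟩ }
    have : K.Normal := ⟨fun x hx g => ⟨‹N.Normal›.conj_mem _ hx.1 _, by
      rw [show g * x * g⁻¹ * (g * x * g⁻¹) = g * (x * x) * g⁻¹ by group, hx.2]; group⟩⟩
    by_cases hK : K = ⊥
    · exfalso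
      have h3 : 2 ∣ Nat.card (stabilizer G α) := by
        by_contra hc
        exact hHs (S0205.result (Nat.odd_iff.2 (Nat.two_dvd_ne_zero.1 hc)))
      obtain ⟨t, ht⟩ := exists_prime_orderOf_dvd_card' 2 h3
      have ht2 : t * t = 1 := by rw [← pow_two, ← ht, pow_orderOf_eq_one]
      have ht1 : t ≠ 1 := fun h1 => by rw [h1, orderOf_one] at ht; omega
      obtain ⟨w, hw⟩ : ∃ w : Ω, t • w ≠ w := by
        by_contra hc
        push Not at hc
        exact ht1 (hy.faith _ hv0 t fun a => hc _)
      have hv : w - t • w ≠ 0 := fun h0 => hw (sub_eq_zero.1 h0).symm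
      have htv : t • (w - t • w) = -(w - t • w) := by
        rw [smul_sub, ← mul_smul, ht2, one_smul, neg_sub]
      generalize w - t • w = v at hv htv
      have hvv : -v ≠ v := fun h0 => by
        obtain ⟨x, rfl⟩ := hbij.2 v
        dsimp only at h0 hv
        have h4 := neg_eq_iff_add_eq_zero.1 h0
        rw [hadd, hzero] at h4
        have h5 : (x : G) ∈ K := ⟨x.2, hinj _ (x * x).2 h4⟩
        rw [hK, Subgroup.mem_bot] at h5
        exact hv (by rw [h5, one_smul, hzero])
      let L : Subgroup (stabilizer G α) :=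
        { carrier := {h | h • v = v ∨ h • v = -v}
          one_mem' := Or.inl (one_smul _ _)
          mul_mem' := by
            rintro a b (ha | ha) (hb | hb) <;> simp [mul_smul, ha, hb]
          inv_mem' := by
            rintro a (ha | ha)
            · exact Or.inl (by rw [inv_smul_eq_iff, ha])
            · exact Or.inr (by rw [inv_smul_eq_iff, smul_neg, ha, neg_neg]) }
      have hpv := hy.prim v
      have : Nontrivial (orbit (stabilizer G α) v) :=
        ⟨⟨⟨t • v, mem_orbit v t⟩, ⟨v, mem_orbit_self v⟩, fun h0 =>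
          hvv (htv.symm.trans (congrArg Subtype.val h0))⟩⟩
      have hco := (isCoatom_stabilizer_iff_preprimitive (stabilizer G α)
        (⟨v, mem_orbit_self v⟩ : orbit (stabilizer G α) v)).2 hpv
      have hL : L = ⊤ := hco.2 L (lt_of_le_of_ne (fun x hx => Or.inl (Hyp.mem_stab.1 hx))
        fun h0 => by
          have : t ∈ L := Or.inr htv
          rw [← h0] at this
          exact hvv (htv.symm.trans (Hyp.mem_stab.1 this)))
      have hL' : ∀ a : stabilizer G α, a • v = v ∨ a • v = -v := fun a =>
        (hL ▸ Subgroup.mem_top a : a ∈ L)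
      refine hHs (Group.isSolvable_of_comm fun a b => ?_)
      have := hy.faith v hv ((b * a)⁻¹ * (a * b)) fun c => by
        rw [mul_smul, inv_smul_eq_iff, mul_smul, mul_smul]
        rcases hL' a with ha | ha <;> rcases hL' b with hb | hb <;> rcases hL' c with hc | hc <;>
          simp [ha, hb, hc]
      exact (inv_mul_eq_one.1 this).symm
    · intro v
      obtain ⟨k, rfl⟩ := (isPretransitive_of_normal_of_ne_bot hprim K hK).exists_smul_eq α v
      have := hadd ⟨k, k.2.1⟩ ⟨k, k.2.1⟩
      change (k : G) • α + (k : G) • α = ((k : G) * k) • α at this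
      change (k : G) • α + (k : G) • α = 0
      rw [this, k.2.2, one_smul, hzero]
  refine ⟨?_, fun _ => ?_⟩
  · have h3 := h2 (n0 • α)
    have h4 := hadd ⟨n0, hn0⟩ ⟨n0, hn0⟩
    rw [h3, hzero] at h4
    have h5 : orderOf (⟨n0, hn0⟩ : N) = 2 := orderOf_eq_prime (Subtype.ext (by
      rw [pow_two]; exact hinj _ (mul_mem hn0 hn0) h4.symm)) hn1
    have h6 := orderOf_dvd_natCard (⟨n0, hn0⟩ : N)
    rw [h5, hcN] at h6
    exact ((Nat.prime_dvd_prime_iff_eq Nat.prime_two hp).1 (Nat.prime_two.dvd_of_dvd_pow h6)).symm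
  have : Nontrivial (stabilizer G α) := (Subgroup.nontrivial_iff_ne_bot _).2 (hH α)
  obtain ⟨M, hn, hM, hmin⟩ := Grp.exists_minNormal (stabilizer G α)
  by_cases hc : IsMulCommutative M
  · exfalso
    have hc' : ∀ v ∈ M, ∀ w ∈ M, v * w = w * v := fun x hx y hy =>
      congrArg Subtype.val (hc.is_comm.comm ⟨x, hx⟩ ⟨y, hy⟩)
    have : IsMulCommutative (M.map (stabilizer G α).subtype) := inferInstance
    have hcyc : IsCyclic (M.map (stabilizer G α).subtype) :=
      Solv.Frob.isCyclic_of_fpf_of_comm hN (by rw [Subgroup.normalizer_eq_top]; exact le_top) (by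
        rintro _ ⟨a, ha, rfl⟩ ha1
        rw [eq_bot_iff]
        rintro n ⟨hn, hna⟩
        by_contra hn1'
        refine ha1 (congrArg Subtype.val (ExtPrim.eq_one_of_centralizes hprim hep M hM
          (ω := n • α) (fun h0 => hn1' (hinj n hn h0)) (fun v hv => hc' a ha v hv) ?_))
        have h3 : (a : G) * n = n * a := Subgroup.mem_centralizer_iff.1 hna _ rfl
        rw [← mul_smul, h3, mul_smul, show (a : G) • α = α from a.2])
    have : IsCyclic M := (M.equivMapOfInjective _ (stabilizer G α).subtype_injective).isCyclic.2 hcyc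
    have h1 : Group.IsSolvable M := Group.isSolvable_of_comm fun a b => hc.is_comm.comm a b
    have h3 : Group.IsSolvable (MulAut M) := Group.isSolvable_of_comm fun a b =>
      (IsCyclic.mulAutMulEquiv M).injective (by rw [map_mul, map_mul, mul_comm])
    refine hHs (Group.isSolvable_of_ker_le_range M.subtype (MulAut.conjNormal (H := M)) fun x hx => ?_)
    rw [Subgroup.range_subtype]
    refine ExtPrim.centralizer_le_of_comm hprim hep M hM hc' fun v hv => ?_
    have h4 : x * v * x⁻¹ = v := congrArg Subtype.val (DFunLike.congr_fun hx (⟨v, hv⟩ : M))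
    exact mul_inv_eq_iff_eq_mul.1 h4
  obtain ⟨S, hS⟩ := exists_fac M hM hmin hc
  obtain rfl := hy.eq_of_fac h2 hS
  refine ⟨S, hn, hS.simple, hc, ?_⟩
  by_contra hC
  obtain ⟨t, ht, ht1, ht2⟩ := Hyp.exists_invol hS
  obtain ⟨v, hv, htv⟩ : ∃ v : Ω, v ≠ 0 ∧ t • v = v := by
    by_cases h3 : t • n0 • α = n0 • α
    · exact ⟨_, hv0, h3⟩
    · exact ⟨t • n0 • α + n0 • α, fun h0 => h3 ((Hyp.add_eq_zero' h2).1 h0), by
        rw [smul_add, ← mul_smul, ht2, one_smul, add_comm]⟩
  exact ht1 (ExtPrim.eq_one_of_centralizes hprim hep _ hC (hzero ▸ hv)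
    (fun c hc => Subgroup.mem_centralizer_iff.1 hc t ht) htv)


end Cfsg.Agent.S3521
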