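import Cfsg.Statements.S3549
import Mathlib
import Cfsg.Agent.Perm.Derangement

set_option autoImplicit false
open Cfsg

namespace Cfsg.Agent.S3549

/-- Let G act faithfully, transitively but imprimitively on a finite set with n points, and let D be the subgroup generated by the derangements. Then the index of D in G is at most √n − 1. -/
theorem result {G Ω : Type*} [Group G] [Finite G] [MulAction G Ω] [FaithfulSMul G Ω] [Finite Ω]
    (htrans : MulAction.IsPretransitive G Ω) (himp : ¬ MulAction.IsPreprimitive G Ω) :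
    ((Subgroup.closure {g : G | ∀ ω : Ω, g • ω ≠ ω}).index : ℝ) ≤ Real.sqrt (Nat.card Ω) - 1 := by
  have hnt : Nontrivial Ω := by
    by_contra h
    rw [not_nontrivial_iff_subsingleton] at h
    exact himp MulAction.IsPreprimitive.of_subsingleton
  obtain ⟨α⟩ : Nonempty Ω := inferInstance
  have hnc : ¬ IsCoatom (MulAction.stabilizer G α) := fun h =>
    himp ((MulAction.isCoatom_stabilizer_iff_preprimitive G α).1 h)
  have hne : MulAction.stabilizer G α ≠ ⊤ := by
    intro h
    obtain ⟨β, hβ⟩ := exists_ne α
    obtain ⟨g, rfl⟩ := htrans.exists_smul_eq α β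
    exact hβ (show g ∈ MulAction.stabilizer G α from h ▸ Subgroup.mem_top g)
  obtain ⟨H, hH, hHt⟩ : ∃ H : Subgroup G, MulAction.stabilizer G α < H ∧ H ≠ ⊤ := by
    by_contra h
    push Not at h
    exact hnc ⟨hne, h⟩
  set D := Perm.Der.derSub G Ω with hD
  have h1 : D.index ∣ (MulAction.stabilizer G α).relIndex H - 1 := by
    have := Perm.Der.index_dvd_ncard htrans α (MulAction.orbit H α \ {α}) (by simp) (by
      rintro h hh x ⟨hx, hxα⟩
      exact ⟨MulAction.mem_orbit_of_mem_orbit (⟨h, hH.le hh⟩ : H) hx, fun e => hxα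
        (MulAction.injective h (e.trans (show h • α = α from hh).symm))⟩)
    rwa [Set.ncard_diff_singleton_of_mem (MulAction.mem_orbit_self α),
      Perm.Der.ncard_orbit_subgroup] at this
  have h2 : D.index ∣ H.index - 1 := by
    refine (Subgroup.index_dvd_of_le ?_).trans
      (Perm.Der.index_dvd_card_sub_one (G := G) (Ω := G ⧸ H) inferInstance)
    refine Subgroup.closure_mono fun g hg ω hω => ?_
    obtain ⟨x, rfl⟩ := htrans.exists_smul_eq α ω
    apply hg (x : G ⧸ H)
    rw [MulAction.Quotient.smul_coe, smul_eq_mul, eq_comm, QuotientGroup.eq, ← mul_assoc]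
    exact hH.le (Perm.PrimUtil.inv_conj_mem_stabilizer hω)
  have h3 := Subgroup.relIndex_mul_index hH.le
  rw [MulAction.index_stabilizer_of_transitive] at h3
  have h4 : 1 < (MulAction.stabilizer G α).relIndex H := by
    have a : (MulAction.stabilizer G α).relIndex H ≠ 0 := Subgroup.index_ne_zero_of_finite
    have b : (MulAction.stabilizer G α).relIndex H ≠ 1 := fun e =>
      hH.not_ge (Subgroup.relIndex_eq_one.1 e)
    omega
  have h5 : 1 < H.index := by
    have a : H.index ≠ 0 := Subgroup.index_ne_zero_of_finite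
    have b : H.index ≠ 1 := fun e => hHt (Subgroup.index_eq_one.1 e)
    omega
  have h6 := Nat.le_of_dvd (by omega) h1
  have h7 := Nat.le_of_dvd (by omega) h2
  have h8 : (D.index + 1) ^ 2 ≤ Nat.card Ω := by
    rw [← h3, pow_two]
    exact Nat.mul_le_mul (by omega) (by omega)
  rw [le_sub_iff_add_le]
  apply Real.le_sqrt_of_sq_le
  exact_mod_cast h8

end Cfsg.Agent.S3549
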