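import Cfsg.Statements.S3554
import Mathlib

set_option autoImplicit false
open Cfsg

namespace Cfsg.Agent.S3554


/-- Let G act faithfully and transitively on a finite set and suppose G has a non-trivial cyclic normal subgroup. Then some element of G of prime order fixes no point. -/
theorem result {G Ω : Type*} [Group G] [Finite G] [MulAction G Ω] [FaithfulSMul G Ω] [Finite Ω]
    (htrans : MulAction.IsPretransitive G Ω) (C : Subgroup G) (hC : C.Normal) (hC1 : C ≠ ⊥) (hcyc : IsCyclic ↥C) :
    ∃ g : G, (orderOf g).Prime ∧ ∀ ω : Ω, g • ω ≠ ω := by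
  classical
  have hcard : Nat.card C ≠ 1 := by rwa [Ne, Subgroup.card_eq_one]
  obtain ⟨p, hp, hpd⟩ := Nat.exists_prime_and_dvd hcard
  haveI := Fact.mk hp
  obtain ⟨x, hx⟩ := exists_prime_orderOf_dvd_card' p hpd
  have hxo : orderOf (x : G) = p := by rw [Subgroup.orderOf_coe, hx]
  refine ⟨x, hxo ▸ hp, ?_⟩
  intro ω hω
  -- every conjugate of x lies in zpowers x
  have hconj : ∀ g : G, g⁻¹ * x * g ∈ Subgroup.zpowers (x : G) := by
    intro g
    obtain ⟨m, hm⟩ := MonoidHom.map_cyclic (G := C) (MulAut.conjNormal g⁻¹).toMonoidHom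
    have := congrArg Subtype.val (hm x)
    exact ⟨m, by simpa using this.symm⟩
  have hfix : ∀ τ : Ω, (x : G) • τ = τ := by
    intro τ
    obtain ⟨g, rfl⟩ := htrans.exists_smul_eq ω τ
    have h1 : Subgroup.zpowers (x : G) ≤ MulAction.stabilizer G ω := by
      rw [Subgroup.zpowers_le]; exact hω
    have h2 := h1 (hconj g)
    rw [MulAction.mem_stabilizer_iff, mul_smul, mul_smul, inv_smul_eq_iff] at h2
    exact h2
  have : (x : G) = 1 := FaithfulSMul.eq_of_smul_eq_smul (α := Ω) (fun τ => by rw [hfix, one_smul])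
  rw [this, orderOf_one] at hxo
  exact hp.one_lt.ne hxo

end Cfsg.Agent.S3554
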