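import Cfsg.Statements.S3555
import Cfsg.Agent.S0035
import Cfsg.Agent.Char.Frobenius
-- import your own Cfsg.Agent.* helpers here

set_option autoImplicit false
open Cfsg

namespace Cfsg.Agent.S3555

open Finset MulAction in
theorem key {G Ω : Type*} [Group G] [Fintype G] [MulAction G Ω] [Fintype Ω] [DecidableEq Ω] [Nonempty Ω]
    [IsPretransitive G Ω] (hinv : ∀ g : G, (∀ ω : Ω, g • ω ≠ ω) → orderOf g = 2)
    {g : G} {a b : Ω} (hab : a ≠ b) (ha : g • a = a) (hb : g • b = b) (c : Ω) : g • c = c := by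
  classical
  let π : G → ℤ := fun g => ∑ ω : Ω, if g • ω = ω then 1 else 0
  have hπ : ∀ g, π g = (univ.filter fun ω : Ω => g • ω = ω).card := fun g => by simp [π]
  let n : ℤ := Fintype.card Ω
  have h1 : ∑ g, π g = Fintype.card G := by
    have := sum_card_fixedBy_eq_card_orbits_mul_card_group G Ω
    have e : Fintype.card (Quotient (orbitRel G Ω)) = 1 := by
      refine Fintype.card_eq_one_iff.2 ⟨Quotient.mk _ (Classical.arbitrary Ω), fun y => ?_⟩
      induction y using Quotient.inductionOn with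
      | _ y => exact Quotient.sound (exists_smul_eq G _ y)
    rw [e, one_mul] at this
    rw [← this]; push_cast
    refine sum_congr rfl fun g _ => ?_
    rw [hπ, Fintype.card_subtype]; rfl
  have h2 : ∑ g, π (g * g) ≤ ∑ g, π g * π g := by
    have e1 : ∀ g : G, π (g * g) = ∑ x : Ω × Ω, if g • x.1 = x.2 ∧ g • x.2 = x.1 then 1 else 0 := fun g => by
      rw [Fintype.sum_prod_type]
      refine sum_congr rfl fun ω _ => ?_
      rw [sum_eq_single (g • ω) (fun y _ hy => if_neg fun h => hy h.1.symm) (by simp)]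
      simp [mul_smul]
    have e2 : ∀ g : G, π g * π g = ∑ x : Ω × Ω, if g • x.1 = x.1 ∧ g • x.2 = x.2 then 1 else 0 := fun g => by
      rw [Fintype.sum_prod_type, sum_mul_sum]
      refine sum_congr rfl fun ω _ => sum_congr rfl fun y _ => ?_
      split_ifs <;> simp_all
    simp only [e1, e2]
    rw [sum_comm, sum_comm (s := (univ : Finset G))]
    refine sum_le_sum fun x _ => ?_
    simp only [sum_boole, Nat.cast_le]
    by_cases h : ∃ k : G, k • x.1 = x.2 ∧ k • x.2 = x.1
    · obtain ⟨k, hk1, hk2⟩ := h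
      refine card_le_card_of_injOn (fun g => k * g) (fun g hg => ?_) fun a _ b _ h => mul_left_cancel h
      simp only [coe_filter, mem_univ, true_and, Set.mem_setOf_eq] at hg ⊢
      rw [mul_smul, mul_smul, hg.1, hg.2]; exact ⟨hk2, hk1⟩
    · rw [filter_eq_empty_iff.2 fun g _ hg => h ⟨g, hg⟩]; simp
  have hle : ∀ g, π g ≤ n := fun g => by rw [hπ]; exact Int.ofNat_le.2 (card_le_univ _)
  have hsq : ∀ g, π g ≤ π (g * g) := fun g => by
    rw [hπ, hπ]
    exact_mod_cast card_le_card fun ω => by simp +contextual [mul_smul]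
  have hT : ∀ g, 0 ≤ π (g * g) - π g - (π g - 1) * (π g - n) := fun g => by
    by_cases h : ∀ ω : Ω, g • ω ≠ ω
    · have e : g * g = 1 := by rw [← pow_two, ← hinv g h, pow_orderOf_eq_one]
      simp [π, e, h, n]
    · push Not at h
      have : 1 ≤ π g := by
        rw [hπ]; exact_mod_cast card_pos.2 ⟨h.choose, by simpa using h.choose_spec⟩
      nlinarith [hle g, hsq g]
  have hS : ∑ g, (π (g * g) - π g - (π g - 1) * (π g - n)) ≤ 0 := by
    have : ∀ g, π (g * g) - π g - (π g - 1) * (π g - n) = π (g * g) - π g * π g + n * π g - n := fun g => by ring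
    simp only [this, sum_sub_distrib, sum_add_distrib, ← mul_sum, h1, sum_const, card_univ, nsmul_eq_mul]
    linarith
  have h0 := (sum_eq_zero_iff_of_nonneg fun g _ => hT g).1 (le_antisymm hS (sum_nonneg fun g _ => hT g)) g
    (mem_univ _)
  have h3 : 2 ≤ π g := by
    rw [hπ]
    exact_mod_cast one_lt_card.2 ⟨a, by simpa using ha, b, by simpa using hb, hab⟩
  have h4 : π g = n := by nlinarith [hle g, hsq g]
  rw [hπ] at h4
  have h5 := eq_univ_of_card _ (Int.natCast_inj.1 h4)
  simpa using h5.ge (mem_univ c)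

/-- Let G act faithfully and transitively on a finite set and suppose every element of G fixing no point is an involution. Then either G is an elementary abelian 2-group, or G is a Frobenius group whose Frobenius kernel is an elementary abelian 2-group: G has a Frobenius complement H, and the elements lying in no conjugate of H, together with the identity, pairwise commute and square to the identity. -/
theorem result {G Ω : Type*} [Group G] [Finite G] [MulAction G Ω] [FaithfulSMul G Ω] [Finite Ω]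
    (htrans : MulAction.IsPretransitive G Ω) (hinv : ∀ g : G, (∀ ω : Ω, g • ω ≠ ω) → orderOf g = 2) :
    (IsMulCommutative G ∧ ∀ g : G, g ^ 2 = 1) ∨
    (∃ H : Subgroup G, Cfsg.IsFrobeniusComplement H ∧
      (∀ x ∈ Cfsg.frobeniusKernel H, x ^ 2 = 1) ∧
      ∀ x ∈ Cfsg.frobeniusKernel H, ∀ y ∈ Cfsg.frobeniusKernel H, x * y = y * x) := by
  classical
  have := Fintype.ofFinite G
  have := Fintype.ofFinite Ω
  have hL : (∀ g : G, g ^ 2 = 1) → IsMulCommutative G ∧ ∀ g : G, g ^ 2 = 1 := fun h => ⟨⟨⟨fun a b => by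
    have e : ∀ x : G, x⁻¹ = x := fun x => inv_eq_of_mul_eq_one_right (by rw [← pow_two, h])
    rw [← e (a * b), mul_inv_rev, e, e]⟩⟩, h⟩
  rcases isEmpty_or_nonempty Ω with hΩ | ⟨⟨ω⟩⟩
  · exact absurd (hinv 1 fun ω => hΩ.elim ω) (by simp)
  have : Nonempty Ω := ⟨ω⟩
  have hker : ∀ x ∈ Cfsg.frobeniusKernel (MulAction.stabilizer G ω), x ^ 2 = 1 := fun x hx => by
    rcases Char.mem_frobeniusKernel_iff.1 hx with rfl | h
    · simp
    · rw [← hinv x fun y hy => ?_, pow_orderOf_eq_one]
      obtain ⟨g, rfl⟩ := htrans.exists_smul_eq ω y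
      exact h g⁻¹ (by simp [mul_smul, hy])
  by_cases hb : MulAction.stabilizer G ω = ⊥
  · refine Or.inl (hL fun g => hker g ?_)
    rw [Char.mem_frobeniusKernel_iff, hb]
    by_cases hg : g = 1
    · exact Or.inl hg
    · exact Or.inr fun k hk => hg (by simpa using hk)
  have hF : Cfsg.IsFrobeniusComplement (MulAction.stabilizer G ω) := by
    refine ⟨hb, fun ht => hb (eq_bot_iff.2 fun g _ => ?_), fun g hg => eq_bot_iff.2 fun x hx => ?_⟩
    · refine Subgroup.mem_bot.2 (eq_of_smul_eq_smul (α := Ω) fun y => ?_)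
      obtain ⟨k, rfl⟩ := htrans.exists_smul_eq ω y
      have e : ∀ k : G, k • ω = ω := fun k => (ht ▸ Subgroup.mem_top k : k ∈ MulAction.stabilizer G ω)
      rw [e, e, e]
    · refine Subgroup.mem_bot.2 (eq_of_smul_eq_smul (α := Ω) fun y => ?_)
      rw [one_smul]
      refine key hinv (a := g • ω) (b := ω) hg ?_ hx.1 y
      obtain ⟨z, hz, rfl⟩ := hx.2
      have hz' : z • ω = ω := hz
      simp [mul_smul, hz']
  refine Or.inr ⟨_, hF, hker, fun x hx y hy => ?_⟩
  obtain ⟨N, hN, -, -⟩ := S0035.result _ hF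
  have e : ∀ x ∈ N, x⁻¹ = x := fun x hx =>
    inv_eq_of_mul_eq_one_right (by rw [← pow_two]; exact hker x (hN ▸ hx))
  rw [← hN] at hx hy
  rw [← e _ (N.mul_mem hx hy), mul_inv_rev, e x hx, e y hy]

end Cfsg.Agent.S3555
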