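import Cfsg.Statements.S3556
import Cfsg.Agent.Perm.Onl

set_option autoImplicit false
open Cfsg

namespace Cfsg.Agent.S3556

/-- Let G act faithfully and primitively on a finite set with at least two points, and suppose that for some fixed prime p every element of G fixing no point has order a power of p. Then G is of affine type (it has a regular normal subgroup that is an elementary abelian r-group for some prime r) or almost simple (it has a non-abelian simple normal subgroup with trivial centralizer). -/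
theorem result {G Ω : Type*} [Group G] [Finite G] [MulAction G Ω] [FaithfulSMul G Ω] [Finite Ω]
    (hprim : MulAction.IsPreprimitive G Ω) (hΩ : 2 ≤ Nat.card Ω) (p : ℕ) (hp : p.Prime)
    (hder : ∀ g : G, (∀ ω : Ω, g • ω ≠ ω) → ∃ k : ℕ, orderOf g = p ^ k) :
    (∃ (N : Subgroup G) (r : ℕ), r.Prime ∧ N.Normal ∧ Cfsg.IsElementaryAbelian r N ∧
      MulAction.IsPretransitive N Ω ∧ ∀ a : Ω, MulAction.stabilizer N a = ⊥) ∨
    (∃ T : Subgroup G, T.Normal ∧ IsSimpleGroup ↥T ∧ ¬ IsMulCommutative ↥T ∧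
      Subgroup.centralizer (T : Set G) = ⊥) := by
  have : Nontrivial Ω := Finite.one_lt_card_iff_nontrivial.1 hΩ
  obtain ⟨α⟩ : Nonempty Ω := inferInstance
  rcases Perm.Onl.exists_setup hprim with ⟨N, hn, hN, hc, htr, hmin, hst⟩ | h | ⟨N, S, hS, htr, hC⟩
  · have : Group.IsSolvable N := Group.isSolvable_of_comm fun a b => hc.is_comm.comm a b
    obtain ⟨-, r, hr, h⟩ := Grp.minNormal_elementaryAbelian N hN hmin
    exact Or.inl ⟨N, r, hr, hn, ⟨hc, h⟩, htr, hst⟩
  · exact Or.inr h
  exfalso
  rcases hS.dichotomy' htr α hC with h | ⟨t, ht, S', hS', hne, h⟩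
  · refine hS.not_isPGroup hp fun s => ?_
    by_cases h1 : (s : G) = 1
    · exact ⟨0, Subtype.ext (by simpa using h1)⟩
    · obtain ⟨k, hk⟩ := hder s (h s s.2 h1)
      exact ⟨k, Subtype.ext (by simpa [← hk] using pow_orderOf_eq_one (s : G))⟩
  · refine hS'.not_isPGroup hp fun m => ?_
    have hm := hS.cm_of_ne hS' hne m.2
    obtain ⟨k, hk⟩ := hder _ (h 1 (one_mem _) (Perm.Onl.Cm.one S))
    obtain ⟨l, hl⟩ := hder _ (h m (hS'.le m.2) hm)
    rw [mul_one] at hk
    have h1 : t ^ p ^ (k + l) = 1 := by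
      rw [pow_add, pow_mul, ← hk, pow_orderOf_eq_one, one_pow]
    have h2 : (t * m) ^ p ^ (k + l) = 1 := by
      rw [pow_add, mul_comm (p ^ k), pow_mul, ← hl, pow_orderOf_eq_one, one_pow]
    rw [(hm t ht).symm.mul_pow, h1, one_mul] at h2
    exact ⟨k + l, Subtype.ext (by simpa using h2)⟩


end Cfsg.Agent.S3556
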