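import Cfsg.Statements.S3557


set_option autoImplicit false
open Cfsg

namespace Cfsg.Agent.S3557

open Subgroup MulAction

theorem cen {G : Type*} [Group G] [Finite G] {p : ℕ} [hp : Fact p.Prime]
    (hG : IsPGroup p G) (D : Subgroup G) [D.Normal] (hD : D ≠ ⊥) :
    ∃ w ∈ D, w ∈ center G ∧ orderOf w = p := by
  have : Nontrivial (center G ⊓ D : Subgroup G) := by
    obtain ⟨k, hk, hk'⟩ := (hG.to_subgroup D).nontrivial_iff_card.1 ((nontrivial_iff_ne_bot D).2 hD)
    letI : MulAction G D := MulAction.compHom D (MulAut.conjNormal (H := D))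
    obtain ⟨b, hb, hb1⟩ := hG.exists_fixed_point_of_prime_dvd_card_of_fixed_point D
      (hk' ▸ dvd_pow_self p hk.ne') (a := 1) fun x => map_one (MulAut.conjNormal (H := D) x)
    refine ⟨⟨b, mem_center_iff.2 fun g => ?_, b.2⟩, 1,
      fun e => hb1 (Subtype.ext (congrArg Subtype.val e).symm)⟩
    exact mul_inv_eq_iff_eq_mul.1 (congrArg Subtype.val (hb g))
  obtain ⟨k, hk, hk'⟩ := (hG.to_subgroup (center G ⊓ D)).nontrivial_iff_card.1 this
  obtain ⟨x, hx⟩ := exists_prime_orderOf_dvd_card' (G := (center G ⊓ D : Subgroup G)) p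
    (hk' ▸ dvd_pow_self p hk.ne')
  exact ⟨x, x.2.2, x.2.1, by rw [orderOf_coe, hx]⟩

theorem key {P Ω : Type*} [Group P] [Finite P] [MulAction P Ω] [Finite Ω] {p : ℕ} [hp : Fact p.Prime]
    (hP : IsPGroup p P) (hcard : Nat.card Ω = 2 * p ^ 2) (ho : ∀ a : Ω, p ^ 2 ∣ (stabilizer P a).index)
    {z : P} (hz : z ∈ center P) {a b : Ω} (ha : z • a = a) (hb : z • b ≠ b) :
    ∃ w : P, (∀ c : Ω, z • c = c → w • c ≠ c ∧ w ^ p • c = c) ∧
      ∀ c : Ω, z • c ≠ c → ∃ j : ℤ, w • c = z ^ j • c := by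
  have hc : ∀ (j : ℤ) (g : P) (c : Ω), z ^ j • g • c = g • z ^ j • c := fun j g c => by
    rw [← mul_smul, ← mul_smul, mem_center_iff.1 (zpow_mem hz j)]
  have hc1 : ∀ (g : P) (c : Ω), z • g • c = g • z • c := fun g c => by simpa using hc 1 g c
  have hd : Disjoint (orbit P a) (orbit P b) := Set.disjoint_left.2 (by
    rintro _ ⟨g, rfl⟩ ⟨h, e⟩
    refine hb (smul_left_cancel h ?_)
    simp only at e
    rw [← hc1, e, hc1, ha])
  have h1 := Set.ncard_union_eq hd
  have h2 := Set.ncard_le_card (orbit P a ∪ orbit P b)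
  have h3 := Nat.le_of_dvd (Nat.pos_of_ne_zero index_ne_zero_of_finite) (ho a)
  have h4 := Nat.le_of_dvd (Nat.pos_of_ne_zero index_ne_zero_of_finite) (ho b)
  rw [← index_stabilizer, ← index_stabilizer] at h1
  have hu : orbit P a ∪ orbit P b = Set.univ :=
    Set.eq_of_subset_of_ncard_le (Set.subset_univ _) (by rw [Set.ncard_univ]; omega)
  have o1 : ∀ c : Ω, z • c = c → ∃ g : P, g • a = c := fun c h => by
    rcases (hu ▸ Set.mem_univ c : c ∈ orbit P a ∪ orbit P b) with e | ⟨g, rfl⟩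
    · exact e
    · exact (hb (smul_left_cancel g ((hc1 g b).symm.trans h))).elim
  have o2 : ∀ c : Ω, z • c ≠ c → ∃ g : P, g • b = c := fun c h => by
    rcases (hu ▸ Set.mem_univ c : c ∈ orbit P a ∪ orbit P b) with ⟨g, rfl⟩ | e
    · exact (h (by simp only [hc1, ha])).elim
    · exact e
  let M : Subgroup P :=
    { carrier := {g | ∃ j : ℤ, g • b = z ^ j • b}
      one_mem' := ⟨0, by simp⟩
      mul_mem' := by
        rintro g h ⟨i, hi⟩ ⟨j, hj⟩
        exact ⟨j + i, by rw [mul_smul, hj, ← hc, hi, zpow_add, mul_smul]⟩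
      inv_mem' := by
        rintro g ⟨i, hi⟩
        exact ⟨-i, by rw [inv_smul_eq_iff, ← hc, hi, ← mul_smul]; simp⟩ }
  have hle : stabilizer P b ≤ M := fun g hg => ⟨0, by simpa using hg⟩
  have hM : M.index ∣ p := by
    obtain ⟨i, hi, e⟩ := (Nat.dvd_prime_pow hp.out).1
      ((index_dvd_of_le hle).trans (dvd_of_eq (show _ = p ^ 2 by omega)))
    have : i ≠ 2 := by
      rintro rfl
      have h5 := relIndex_mul_index hle
      rw [e, show (stabilizer P b).index = p ^ 2 by omega, mul_eq_right₀ (pow_pos hp.out.pos 2).ne',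
        relIndex_eq_one] at h5
      exact hb (h5 (show z ∈ M from ⟨1, by simp⟩))
    rw [e]
    exact (pow_dvd_pow p (by omega : i ≤ 1)).trans (pow_one p).dvd
  haveI : M.Normal := by
    rcases (Nat.dvd_prime hp.out).1 hM with e | e
    · exact normal_of_index_eq_one e
    · obtain ⟨k, hk⟩ := hP.exists_card_eq
      refine normal_of_index_eq_minFac_card ?_
      have : k ≠ 0 := by
        rintro rfl
        exact hp.out.ne_one (Nat.dvd_one.1 (by simpa [e, hk] using M.index_dvd_card))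
      rw [e, hk, hp.out.pow_minFac this]
  let K := (stabilizer P a).normalCore
  have hK : ∀ k : P, k ∈ K ↔ ∀ c : Ω, z • c = c → k • c = c := fun k => by
    refine ⟨fun hk c h => ?_, fun h g => ?_⟩
    · obtain ⟨g, rfl⟩ := o1 c h
      have := hk g⁻¹
      rwa [mem_stabilizer_iff, inv_inv, mul_smul, mul_smul, inv_smul_eq_iff] at this
    · rw [mem_stabilizer_iff, mul_smul, mul_smul, h _ (by rw [hc1, ha]), smul_inv_smul]
  obtain ⟨_, ⟨w, hw, rfl⟩, h5, h6⟩ := cen (hP.to_quotient K) (M.map (QuotientGroup.mk' K)) (by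
    intro e
    rw [Subgroup.map_eq_bot_iff, QuotientGroup.ker_mk'] at e
    have := Nat.le_of_dvd hp.out.pos
      ((ho a).trans ((index_dvd_of_le (e.trans (normalCore_le _))).trans hM))
    have := hp.out.one_lt
    nlinarith)
  refine ⟨w, fun c h => ⟨fun e => ?_, (hK _).1 ?_ c h⟩, fun c h => ?_⟩
  · have : w ∈ K := (hK w).2 fun c' h' => by
      obtain ⟨g, rfl⟩ := o1 c h
      obtain ⟨g', rfl⟩ := o1 c' h'
      have h7 : (g' * g⁻¹ * w)⁻¹ * (w * (g' * g⁻¹)) ∈ K := by
        rw [← QuotientGroup.eq]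
        exact mem_center_iff.1 h5 (QuotientGroup.mk' K (g' * g⁻¹))
      have := (hK _).1 h7 _ h
      rw [mul_smul, inv_smul_eq_iff] at this
      simpa [mul_smul, e] using this
    rw [← QuotientGroup.eq_one_iff] at this
    rw [QuotientGroup.mk'_apply, this, orderOf_one] at h6
    exact hp.out.ne_one h6.symm
  · rw [← QuotientGroup.eq_one_iff, QuotientGroup.mk_pow, ← h6]
    exact pow_orderOf_eq_one _
  · obtain ⟨g, rfl⟩ := o2 c h
    obtain ⟨j, hj⟩ := ‹M.Normal›.conj_mem' w hw g
    exact ⟨j, by rw [hc, ← hj, mul_smul, mul_smul, smul_inv_smul]⟩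


/-- Let G act faithfully and transitively on a finite set with 2p² points, p a prime, and suppose G is 2-closed: every permutation of the set which, on each ordered pair of points, agrees with some element of G, is itself induced by an element of G. Then some element of G of prime order fixes no point. -/
theorem result {G Ω : Type*} [Group G] [Finite G] [MulAction G Ω] [FaithfulSMul G Ω] [Finite Ω]
    (htrans : MulAction.IsPretransitive G Ω) (p : ℕ) (hp : p.Prime) (hcard : Nat.card Ω = 2 * p ^ 2)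
    (hcl : ∀ σ : Equiv.Perm Ω, (∀ a b : Ω, ∃ g : G, σ a = g • a ∧ σ b = g • b) → ∃ g : G, ∀ a : Ω, σ a = g • a) :
    ∃ g : G, (orderOf g).Prime ∧ ∀ ω : Ω, g • ω ≠ ω := by
  classical
  haveI := Fact.mk hp
  obtain ⟨P⟩ : Nonempty (Sylow p G) := inferInstance
  have ho : ∀ a : Ω, p ^ 2 ∣ (stabilizer (P : Subgroup G) a).index := fun a => by
    have h1 := index_dvd_of_le (inf_le_left : stabilizer G a ⊓ (P : Subgroup G) ≤ _)
    rw [index_stabilizer_of_transitive, hcard, ← relIndex_mul_index inf_le_right, inf_relIndex_right] at h1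
    exact (((Nat.Prime.coprime_iff_not_dvd hp).2 P.not_dvd_index).pow_left 2).dvd_of_dvd_mul_right
      ((dvd_mul_left _ _).trans h1)
  obtain ⟨a0⟩ : Nonempty Ω := (Nat.card_pos_iff.1 (by have := hp.pos; rw [hcard]; positivity)).1
  obtain ⟨z, -, hz, hz'⟩ := cen P.isPGroup' ⊤ (by
    intro e
    have h1 := ho a0
    rw [eq_top_iff.2 (e.le.trans bot_le : ⊤ ≤ stabilizer (P : Subgroup G) a0), index_top, Nat.dvd_one] at h1
    exact hp.ne_one (Nat.pow_eq_one.1 h1 |>.resolve_right two_ne_zero))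
  by_cases h : ∀ ω : Ω, z • ω ≠ ω
  · exact ⟨z, by rw [orderOf_coe, hz']; exact hp, h⟩
  push Not at h
  obtain ⟨a, ha⟩ := h
  obtain ⟨b, hb⟩ : ∃ b : Ω, z • b ≠ b := by
    by_contra h
    push Not at h
    have : z = 1 := Subtype.ext (eq_of_smul_eq_smul (α := Ω) fun b => (h b).trans (one_smul _ _).symm)
    rw [this, orderOf_one] at hz'
    exact hp.ne_one hz'.symm
  obtain ⟨w, h1, h2⟩ := key P.isPGroup' hcard ho hz ha hb
  have hc : ∀ (g : (P : Subgroup G)) (c : Ω), z • g • c = g • c ↔ z • c = c := fun g c => by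
    rw [← mul_smul, ← mem_center_iff.1 hz, mul_smul, smul_left_cancel_iff]
  have hinj : Function.Injective fun c : Ω => if z • c = c then w • c else z • c := by
    intro c d e
    simp only at e
    split_ifs at e with e1 e2 e2
    · exact smul_left_cancel _ e
    · exact (e2 ((hc z d).1 (e ▸ (hc w c).2 e1))).elim
    · exact (e1 ((hc z c).1 (e ▸ (hc w d).2 e2))).elim
    · exact smul_left_cancel _ e
  have mix : ∀ c d : Ω, z • c = c → z • d ≠ d → ∃ g : G, w • c = g • c ∧ z • d = g • d := fun c d e1 e2 => by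
    obtain ⟨j, hj⟩ := h2 d e2
    refine ⟨(z ^ (1 - j) * w : (P : Subgroup G)), ?_, ?_⟩
    · change _ = (z ^ (1 - j) * w) • c
      rw [mul_smul]
      exact (zpow_mem (show z ∈ stabilizer (P : Subgroup G) (w • c) from (hc w c).2 e1) _).symm
    · change _ = (z ^ (1 - j) * w) • d
      rw [mul_smul, hj, ← mul_smul, ← zpow_add]; simp
  obtain ⟨g, hg⟩ := hcl (Equiv.ofBijective _ (Finite.injective_iff_bijective.1 hinj)) fun c d => by
    simp only [Equiv.ofBijective_apply]
    split_ifs with e1 e2 e2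
    · exact ⟨w, rfl, rfl⟩
    · exact mix c d e1 e2
    · exact (mix d c e2 e1).imp fun _ h => h.symm
    · exact ⟨z, rfl, rfl⟩
  simp only [Equiv.ofBijective_apply] at hg
  have h3 : ∀ (n : ℕ) (c : Ω), g ^ n • c = if z • c = c then w ^ n • c else z ^ n • c := fun n c => by
    induction n with
    | zero => simp
    | succ n ih =>
      rw [pow_succ', mul_smul, ih, ← hg]
      split_ifs with e1 e2 e2
      · rw [pow_succ', mul_smul]
      · exact (e2 ((hc _ c).2 e1)).elim
      · exact (e1 ((hc _ c).1 e2)).elim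
      · rw [pow_succ', mul_smul]
  have h4 : ∀ ω : Ω, g • ω ≠ ω := fun c => by
    rw [← hg]
    split_ifs with e
    · exact (h1 c e).1
    · exact e
  refine ⟨g, ?_, h4⟩
  rw [orderOf_eq_prime (p := p) (eq_of_smul_eq_smul (α := Ω) fun c => ?_)
    fun e => h4 a (by rw [e, one_smul])]
  · exact hp
  · rw [h3, one_smul]
    split_ifs with e
    · exact (h1 c e).2
    · rw [show z ^ p = 1 from (congrArg _ hz'.symm).trans (pow_orderOf_eq_one z), one_smul]

end Cfsg.Agent.S3557
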