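import Cfsg.Statements.S3579
import Cfsg.Agent.E2Q.Main

set_option autoImplicit false
open Cfsg

namespace Cfsg.Agent.S3579

/-- Let G act faithfully and transitively on a finite set with 2pq points, where p and q are distinct odd primes. Then G contains an element of prime order fixing no point (G is not elusive). -/
theorem result {G Ω : Type*} [Group G] [Finite G] [MulAction G Ω] [FaithfulSMul G Ω] [Finite Ω]
    (htrans : MulAction.IsPretransitive G Ω) (p q : ℕ) (hp : p.Prime) (hq : q.Prime) (hp2 : p ≠ 2) (hq2 : q ≠ 2)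
    (hpq : p ≠ q) (hcard : Nat.card Ω = 2 * p * q) :
    ∃ g : G, (orderOf g).Prime ∧ ∀ ω : Ω, g • ω ≠ ω := by
  by_contra hc
  push Not at hc
  have faith : ∀ g : G, (∀ ω : Ω, g • ω = ω) → g = 1 := fun g hg =>
    FaithfulSMul.eq_of_smul_eq_smul (α := Ω) fun ω => by rw [hg, one_smul]
  rcases lt_or_gt_of_ne hpq with h | h
  · exact E2Q.main (G := G) (Ω := Ω) (p := q) (q := p)
      ⟨htrans, faith, hq, hp, lt_of_le_of_ne hp.two_le hp2.symm, h, by rw [hcard]; ring, hc⟩
  · exact E2Q.main (G := G) (Ω := Ω) (p := p) (q := q)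
      ⟨htrans, faith, hp, hq, lt_of_le_of_ne hq.two_le hq2.symm, h, hcard, hc⟩

end Cfsg.Agent.S3579
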