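import Cfsg.Statements.S3600
import Mathlib
import Cfsg.Agent.S3433
import Cfsg.Agent.S3050
import Cfsg.Agent.S3377
import Cfsg.Agent.Perm.ZassEven
import Cfsg.Agent.Class.FieldTransport

set_option autoImplicit false
open Cfsg

namespace Cfsg.Agent.S3600

open Matrix

theorem exists_sol {K : Type*} [Field K] [CharP K 2] (A : Matrix (Fin 2) (Fin 2) K) (h2 : A * A = 1)
    (h1 : A ≠ 1) (c : Fin 2 → K) (hc : A *ᵥ c = c) : ∃ w, w + A *ᵥ w + c = 0 := by
  have hadd : ∀ v : Fin 2 → K, v + v = 0 := fun v => by ext i; simp [CharTwo.add_self_eq_zero]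
  set L := Matrix.toLin' (A + 1) with hL
  have hLa : ∀ v, L v = A *ᵥ v + v := fun v => by simp [hL, add_mulVec]
  have hle : LinearMap.range L ≤ LinearMap.ker L := by
    rintro _ ⟨v, rfl⟩
    rw [LinearMap.mem_ker, hLa, hLa, mulVec_add, mulVec_mulVec, h2, one_mulVec, add_comm v, hadd]
  have hne : LinearMap.range L ≠ ⊥ := by
    intro h
    rw [LinearMap.range_eq_bot, hL, map_eq_zero_iff _ Matrix.toLin'.injective] at h
    apply h1
    ext i j
    have := congrFun (congrFun h i) j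
    rwa [Matrix.add_apply, Matrix.zero_apply, CharTwo.add_eq_zero] at this
  have h3 := LinearMap.finrank_range_add_finrank_ker L
  have h4 : Module.finrank K (LinearMap.range L) ≠ 0 := by rwa [Ne, Submodule.finrank_eq_zero]
  simp only [Module.finrank_fintype_fun_eq_card, Fintype.card_fin] at h3
  have h5 := Submodule.eq_of_le_of_finrank_le hle (by omega)
  obtain ⟨w, hw⟩ : c ∈ LinearMap.range L := by rw [h5, LinearMap.mem_ker, hLa, hc, hadd]
  exact ⟨w, by rw [add_comm w, ← hLa, hw, hadd]⟩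

/-- Unpacked form of a natural module. -/
theorem unpack {G K : Type*} [Group G] [Field K] {V : Subgroup G} [hV : V.Normal]
    (h : ActsAsSL2OnSection K ⊤ ⊤ V ⊥) :
    ∃ (ρ : G →* SpecialLinearGroup (Fin 2) K) (ψ : V ≃* Multiplicative (Fin 2 → K)),
      Function.Surjective ρ ∧ ∀ (g : G) (v : V),
        (ψ ⟨g * v * g⁻¹, hV.conj_mem _ v.2 g⟩).toAdd = (ρ g : Matrix (Fin 2) (Fin 2) K) *ᵥ (ψ v).toAdd := by
  obtain ⟨-, -, ρ, ψ, h1, h2, h3, h4⟩ := h
  refine ⟨ρ.comp Subgroup.topEquiv.symm.toMonoidHom, MulEquiv.ofBijective ψ ⟨?_, h2⟩, ?_, ?_⟩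
  · rw [injective_iff_map_eq_one]
    intro v hv
    exact Subtype.ext (Subgroup.mem_bot.1 ((h3 v).1 hv))
  · exact (MonoidHom.range_eq_top.1 h1).comp Subgroup.topEquiv.symm.surjective
  · intro g v
    obtain ⟨w, hw, e⟩ := h4 ⟨g, trivial⟩ v
    have : w = ⟨g * v * g⁻¹, hV.conj_mem _ v.2 g⟩ := Subtype.ext hw
    rw [← this]
    exact e

theorem eq_one_of_mulVec {K : Type*} [Field K] {A : SpecialLinearGroup (Fin 2) K}
    (h : ∀ w, (A : Matrix (Fin 2) (Fin 2) K) *ᵥ w = w) : A = 1 := by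
  apply Subtype.ext
  apply Matrix.toLin'.injective
  refine LinearMap.ext fun w => ?_
  rw [toLin'_apply, toLin'_apply, h]
  exact (one_mulVec w).symm

/-- The affine matrix. -/
def aff {K : Type*} [Field K] (A : SpecialLinearGroup (Fin 2) K) (c : Fin 2 → K) :
    SpecialLinearGroup (Fin 3) K :=
  ⟨!![A 0 0, A 0 1, c 0; A 1 0, A 1 1, c 1; 0, 0, 1], by
    have := A.det_coe
    rw [det_fin_two] at this
    rw [det_fin_three]
    simpa using this⟩

theorem aff_mul {K : Type*} [Field K] (A B : SpecialLinearGroup (Fin 2) K) (c d : Fin 2 → K) :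
    aff (A * B) (c + (A : Matrix (Fin 2) (Fin 2) K) *ᵥ d) = aff A c * aff B d := by
  ext i j
  rw [Matrix.SpecialLinearGroup.coe_mul (aff A c)]
  fin_cases i <;> fin_cases j <;>
    simp [aff, Matrix.mul_apply, Fin.sum_univ_succ, mulVec, dotProduct, add_comm, add_left_comm]

theorem split_iso {G K : Type*} [Group G] [Field K] {V : Subgroup G} [hV : V.Normal]
    (ρ : G →* SpecialLinearGroup (Fin 2) K) (ψ : V ≃* Multiplicative (Fin 2 → K))
    (hρ : ∀ (g : G) (v : V),
      (ψ ⟨g * v * g⁻¹, hV.conj_mem _ v.2 g⟩).toAdd = (ρ g : Matrix (Fin 2) (Fin 2) K) *ᵥ (ψ v).toAdd)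
    (hker : ρ.ker = V) (s : SpecialLinearGroup (Fin 2) K →* G) (hs : ∀ A, ρ (s A) = A) :
    Nonempty (G ≃* ↥(Subgroup.closure {M : SpecialLinearGroup (Fin 3) K |
      (M : Matrix (Fin 3) (Fin 3) K) 2 0 = 0 ∧ (M : Matrix (Fin 3) (Fin 3) K) 2 1 = 0 ∧
        (M : Matrix (Fin 3) (Fin 3) K) 2 2 = 1})) := by
  have hm : ∀ g : G, g * (s (ρ g))⁻¹ ∈ V := fun g => by
    rw [← hker, MonoidHom.mem_ker, map_mul, map_inv, hs, mul_inv_cancel]
  let c : G → Fin 2 → K := fun g => (ψ ⟨_, hm g⟩).toAdd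
  have hc : ∀ g h : G, c (g * h) = c g + (ρ g : Matrix (Fin 2) (Fin 2) K) *ᵥ c h := by
    intro g h
    have := hρ (s (ρ g)) ⟨_, hm h⟩
    rw [hs] at this
    simp only [c]
    rw [← this, ← toAdd_mul, ← map_mul]
    congr 2
    apply Subtype.ext
    simp only [map_mul, Subgroup.coe_mul]
    group
  let Φ : G →* SpecialLinearGroup (Fin 3) K := MonoidHom.mk' (fun g => aff (ρ g) (c g)) fun g h => by
    rw [map_mul, hc, aff_mul]
  have hinj : Function.Injective Φ := by
    rw [injective_iff_map_eq_one]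
    intro g hg
    have e : ∀ i j, aff (ρ g) (c g) i j = (1 : SpecialLinearGroup (Fin 3) K) i j := fun i j => by
      rw [← hg]; rfl
    have h1 : ρ g = 1 := by
      ext i j
      have := e i.castSucc j.castSucc
      fin_cases i <;> fin_cases j <;> simpa [aff] using this
    have h2 : c g = 0 := by
      ext i
      have := e i.castSucc 2
      fin_cases i <;> simpa [aff] using this
    have h3 : (⟨_, hm g⟩ : V) = 1 := by
      rw [← ψ.map_eq_one_iff]
      exact Multiplicative.toAdd.injective h2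
    simpa [h1] using congrArg Subtype.val h3
  refine ⟨(MonoidHom.ofInjective hinj).trans (MulEquiv.subgroupCongr (le_antisymm ?_ ?_))⟩
  · rintro _ ⟨g, rfl⟩
    exact Subgroup.subset_closure ⟨rfl, rfl, rfl⟩
  · rw [Subgroup.closure_le]
    rintro M ⟨h0, h1, h2⟩
    let A : SpecialLinearGroup (Fin 2) K := ⟨!![M 0 0, M 0 1; M 1 0, M 1 1], by
      have := M.det_coe
      rw [det_fin_three, h0, h1, h2] at this
      rw [det_fin_two]
      simpa using this⟩
    let v := ψ.symm (Multiplicative.ofAdd ![M 0 2, M 1 2])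
    have hv : ρ v = 1 := by rw [← MonoidHom.mem_ker, hker]; exact v.2
    have e1 : ρ (v * s A) = A := by rw [map_mul, hv, hs, one_mul]
    have e2 : c (v * s A) = ![M 0 2, M 1 2] := by
      have : (⟨_, hm (v * s A)⟩ : V) = v := Subtype.ext (by simp [e1])
      simp only [c]
      rw [this]
      simp [v]
    refine ⟨v * s A, ?_⟩
    change aff _ _ = M
    rw [e1, e2]
    ext i j
    fin_cases i <;> fin_cases j <;> simp [aff, A, h0, h1, h2]

/-- A finite group is critical with respect to a set Ω of natural numbers when its set of element orders is Ω while no proper section has Ω as its set of element orders. A finite group critical with respect to {1, 2, 3, 4, 5} (the set of element orders of the alternating group of degree 6) is isomorphic either to the alternating group of degree 6 or to the affine group F² ⋊ SL(2,F) over the field F with four elements (realised as the matrices of SL(3,F) with last row (0, 0, 1)). -/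
theorem result {G : Type*} [Group G] [Finite G]
    (hcrit : Set.range (orderOf : G → ℕ) = ({1, 2, 3, 4, 5} : Set ℕ) ∧
      ∀ (H : Subgroup G) (N : Subgroup ↥H) [N.Normal], (H ≠ ⊤ ∨ N ≠ ⊥) → Set.range (orderOf : (↥H ⧸ N) → ℕ) ≠ ({1, 2, 3, 4, 5} : Set ℕ)) :
    Nonempty (G ≃* alternatingGroup (Fin 6)) ∨
      ∃ (F : Type) (_ : Field F) (_ : Fintype F), Fintype.card F = 4 ∧
        Nonempty (G ≃* ↥(Subgroup.closure {M : Matrix.SpecialLinearGroup (Fin 3) F |
          (M : Matrix (Fin 3) (Fin 3) F) 2 0 = 0 ∧ (M : Matrix (Fin 3) (Fin 3) F) 2 1 = 0 ∧ (M : Matrix (Fin 3) (Fin 3) F) 2 2 = 1})) := by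
  classical
  obtain ⟨hΩ, hcr⟩ := hcrit
  have hmem : ∀ g : G, orderOf g ∈ ({1, 2, 3, 4, 5} : Set ℕ) := fun g => hΩ ▸ ⟨g, rfl⟩
  have hpow : ∀ (g : G) (d n : ℕ), d ∣ orderOf g →
      (∀ k ∈ ({1, 2, 3, 4, 5} : Finset ℕ), d ∣ k → k ∣ n) → g ^ n = 1 := by
    intro g d n hd h
    exact orderOf_dvd_iff_pow_eq_one.1 (h _ (by simpa using hmem g) hd)
  rcases S3433.result (G := G) (by
    rw [hΩ]; ext k; simp only [Set.mem_insert_iff, Set.mem_singleton_iff, Set.mem_setOf_eq]; omega)
    with h | ⟨Q, hQn, hQ, ⟨e⟩⟩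
  · exact Or.inl h
  right
  let K := Class.GF4
  have hK : Fintype.card K = 4 := Class.card_GF4
  haveI : CharP K 2 := CIT.charP_of_card (n := 2) Nat.prime_two hK
  obtain ⟨f0⟩ := S0252.result hK
  let f : SpecialLinearGroup (Fin 2) K ≃* alternatingGroup (Fin 5) :=
    (Perm.ZassPSL.slEquivPsl (by rw [Nat.card_eq_fintype_card, hK]; decide)).trans f0
  have hQc : ∀ a ∈ Q, ∀ b ∈ Q, a * b = b * a := fun a ha b hb =>
    congrArg Subtype.val (hQ.1.is_comm.comm (⟨a, ha⟩ : Q) ⟨b, hb⟩)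
  have hodd : ∀ g ∈ Q, Odd (orderOf g) → g = 1 := fun g hg ho =>
    orderOf_eq_one_iff.1 (ho.coprime_two_right.eq_one_of_dvd (orderOf_dvd_of_pow_eq_one (hQ.2 g hg)))
  obtain ⟨x3, hx3⟩ : 3 ∈ Set.range (orderOf : G → ℕ) := by rw [hΩ]; simp
  obtain ⟨x5, hx5⟩ : 5 ∈ Set.range (orderOf : G → ℕ) := by rw [hΩ]; simp
  obtain ⟨-, k, V, hV, hind, hsup⟩ := S3050.result Q (Grp.isPGroup_of_pow_eq_one hQ.2) 2 le_rfl K hK
    (e.trans f.symm) x3 hx3 fun q hq hc => by
      by_contra h1
      have h2 : orderOf q = 2 := orderOf_eq_prime (hQ.2 q hq) h1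
      have h3 := CIT.mul_mem_Ω (mul_inv_eq_iff_eq_mul.1 hc) (by rw [hx3, h2]; norm_num)
      rw [hx3, h2, CIT.Ω, hΩ] at h3
      simp at h3
  have hQ1 : Q ≠ ⊥ := by
    rintro rfl
    obtain ⟨x4, hx4⟩ : 4 ∈ Set.range (orderOf : G → ℕ) := by rw [hΩ]; simp
    have : 4 ∈ Set.range (orderOf : G → ℕ) := ⟨x4, hx4⟩
    rw [Misc.Spec.range_orderOf_congr (QuotientGroup.quotientBot.symm.trans e),
      Misc.Spec.range_orderOf_alt5] at this
    simp at this
  obtain ⟨i, -⟩ : ∃ i, V i ≠ ⊥ := by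
    by_contra! h
    exact hQ1 (by rw [← hsup]; simp [h])
  haveI := (hV i).2.1
  obtain ⟨ρ, ψ, hρs, hρ⟩ := unpack (hV i).2.2
  have hker : ρ.ker = Q := by
    symm
    refine Subgroup.eq_of_le_of_card_ge (fun q hq => eq_one_of_mulVec fun w => ?_) ?_
    · have := hρ q (ψ.symm (Multiplicative.ofAdd w))
      rw [MulEquiv.apply_symm_apply, toAdd_ofAdd] at this
      rw [← this]
      have e1 : (⟨_, (hV i).2.1.conj_mem _ (ψ.symm (Multiplicative.ofAdd w)).2 q⟩ : V i) =
          ψ.symm (Multiplicative.ofAdd w) := Subtype.ext (by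
        change q * _ * q⁻¹ = _
        rw [hQc q hq _ ((hV i).1 (ψ.symm (Multiplicative.ofAdd w)).2), mul_inv_cancel_right])
      rw [e1]
      simp
    · have h1 := Subgroup.card_eq_card_quotient_mul_card_subgroup Q
      have h2 := Subgroup.card_eq_card_quotient_mul_card_subgroup ρ.ker
      rw [Nat.card_congr (QuotientGroup.quotientKerEquivOfSurjective ρ hρs).toEquiv,
        Nat.card_congr f.toEquiv, ← Nat.card_congr e.toEquiv, h1] at h2
      exact (Nat.eq_of_mul_eq_mul_left Nat.card_pos h2).ge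
  have hsq : ∀ (t : G) (v : V i), ((v : G) * t) * (v * t) = (v * (t * v * t⁻¹)) * (t * t) := by
    intro t v; group
  let π : G →* alternatingGroup (Fin 5) := f.toMonoidHom.comp ρ
  obtain ⟨t, ht⟩ := (f.surjective.comp hρs) (S3377.X * S3377.Y)
  have ht' : f (ρ t) = S3377.X * S3377.Y := ht
  have ht1 : ρ t ≠ 1 := by
    intro h
    rw [h, map_one] at ht'
    exact absurd ht' (by decide +kernel)
  have ht2 : ρ t * ρ t = 1 := by
    apply f.injective
    rw [map_mul, ht', map_one]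
    decide +kernel
  have htQ : t * t ∈ Q := by rw [← hker, MonoidHom.mem_ker, map_mul, ht2]
  have hVQ : V i = Q := by
    set M := ⨆ j, ⨆ (_ : j ≠ i), V j with hM
    have hdis : Disjoint (V i) M := hind i
    have hMQ : M ≤ Q := iSup₂_le fun j _ => (hV j).1
    haveI hMn : M.Normal := by
      refine @Subgroup.iSup_normal _ _ _ _ (fun j => ?_)
      exact @Subgroup.iSup_normal _ _ _ _ (fun _ => (hV j).2.1)
    by_cases hM1 : M = ⊥
    · rw [← hsup, iSup_split_single V i, ← hM, hM1, sup_bot_eq]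
    exfalso
    refine hcr ⊤ (M.subgroupOf ⊤) (Or.inr fun h => hM1 ?_) ?_
    · rwa [Subgroup.subgroupOf_eq_bot, disjoint_top] at h
    let φ : G →* (⊤ : Subgroup G) ⧸ M.subgroupOf ⊤ :=
      (QuotientGroup.mk' _).comp Subgroup.topEquiv.symm.toMonoidHom
    have hφ : ∀ g, φ g = 1 ↔ g ∈ M := fun g => QuotientGroup.eq_one_iff _
    have hφs : Function.Surjective φ :=
      (QuotientGroup.mk'_surjective _).comp Subgroup.topEquiv.symm.surjective
    refine le_antisymm (hΩ ▸ Misc.Spec.range_orderOf_subset_of_surjective φ hφs) ?_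
    have hp : ∀ (r : ℕ) (g : G), r.Prime → r ≠ 2 → orderOf g = r → orderOf (φ g) = r := by
      intro r g hr h2 hg
      haveI := Fact.mk hr
      refine orderOf_eq_prime (by rw [← map_pow, ← hg, pow_orderOf_eq_one, map_one]) fun h => ?_
      rw [hodd g (hMQ ((hφ g).1 h)) (hg ▸ hr.odd_of_ne_two h2), orderOf_one] at hg
      exact hr.one_lt.ne hg
    have h4 : ∀ g : G, g * g ∈ Q → g * g ∉ M → orderOf (φ g) = 4 := by
      intro g h1 h2
      refine orderOf_eq_prime_pow (p := 2) (n := 1) (by rwa [pow_one, ← map_pow, hφ, pow_two]) ?_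
      rw [← map_pow, show 2 ^ (1 + 1) = 2 * 2 by rfl, pow_mul, hQ.2 _ (by rwa [pow_two]), map_one]
    obtain ⟨g, hg⟩ : ∃ g, orderOf (φ g) = 4 := by
      by_cases h : t * t ∈ M
      · obtain ⟨w, hw⟩ : ∃ w, (ρ t : Matrix (Fin 2) (Fin 2) K) *ᵥ w ≠ w := by
          by_contra! h
          exact ht1 (eq_one_of_mulVec h)
        let v := ψ.symm (Multiplicative.ofAdd w)
        have m1 : (v : G) * (t * v * t⁻¹) ∈ V i := (V i).mul_mem v.2 ((hV i).2.1.conj_mem _ v.2 t)
        refine ⟨v * t, h4 _ (by rw [hsq]; exact Q.mul_mem ((hV i).1 m1) htQ) fun h2 => hw ?_⟩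
        rw [hsq] at h2
        have h3 := Subgroup.disjoint_def.1 hdis m1 ((M.mul_mem_cancel_right h).1 h2)
        have h5 : v * ⟨_, (hV i).2.1.conj_mem _ v.2 t⟩ = 1 := Subtype.ext h3
        have h6 := congrArg (fun z => (ψ z).toAdd) h5
        simp only [map_mul, toAdd_mul, hρ, map_one, toAdd_one, v, MulEquiv.apply_symm_apply,
          toAdd_ofAdd] at h6
        funext j
        exact (CharTwo.add_eq_zero.1 (congrFun h6 j)).symm
      · exact ⟨t, h4 t htQ h⟩
    intro n hn
    simp only [Set.mem_insert_iff, Set.mem_singleton_iff] at hn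
    rcases hn with rfl | rfl | rfl | rfl | rfl
    · exact ⟨1, orderOf_one⟩
    · exact Misc.Spec.mem_range_orderOf_of_dvd ⟨_, hg⟩ (by norm_num)
    · exact ⟨_, hp 3 x3 Nat.prime_three (by norm_num) hx3⟩
    · exact ⟨_, hg⟩
    · exact ⟨_, hp 5 x5 Nat.prime_five (by norm_num) hx5⟩
  have htV : t * t ∈ V i := hVQ ▸ htQ
  obtain ⟨w, hw⟩ := exists_sol (ρ t : Matrix (Fin 2) (Fin 2) K) (congrArg Subtype.val ht2)
    (fun h => ht1 (Subtype.ext h)) (ψ ⟨_, htV⟩).toAdd (by
      rw [← hρ]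
      congr 2
      exact Subtype.ext (by simp [mul_assoc]))
  let v := ψ.symm (Multiplicative.ofAdd w)
  have ha : ((v : G) * t) * (v * t) = 1 := by
    have : v * ⟨_, (hV i).2.1.conj_mem _ v.2 t⟩ * ⟨_, htV⟩ = 1 := by
      rw [← ψ.map_eq_one_iff]
      apply Multiplicative.toAdd.injective
      simpa [hρ, v] using hw
    rw [hsq]
    exact congrArg Subtype.val this
  have hπa : π (v * t) = S3377.X * S3377.Y := by
    have : ρ v = 1 := by rw [← MonoidHom.mem_ker, hker, ← hVQ]; exact v.2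
    change f (ρ (v * t)) = _
    rw [map_mul, this, one_mul, ht']
  obtain ⟨x, hx⟩ := (f.surjective.comp hρs) S3377.X
  have hx' : π x = S3377.X := hx
  have hy' : π (x⁻¹ * (v * t)) = S3377.Y := by rw [map_mul, map_inv, hx', hπa, inv_mul_cancel_left]
  have oX : orderOf S3377.X = 3 := orderOf_eq_prime (by decide +kernel) (by decide +kernel)
  have oY : orderOf S3377.Y = 5 := by
    haveI := Fact.mk Nat.prime_five
    exact orderOf_eq_prime (by decide +kernel) (by decide +kernel)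
  obtain ⟨σ, hσ, -⟩ := S3377.main x (x⁻¹ * (v * t))
    (hpow _ 3 3 (by rw [← oX, ← hx']; exact orderOf_map_dvd π x) (by decide))
    (hpow _ 5 5 (by rw [← oY, ← hy']; exact orderOf_map_dvd π _) (by decide))
    (by rw [mul_inv_cancel_left, pow_two, ha])
  have hb : Function.Bijective (π.comp σ) := by
    rw [← Finite.injective_iff_bijective, ← MonoidHom.ker_eq_bot_iff]
    haveI : IsSimpleGroup (alternatingGroup (Fin 5)) := alternatingGroup.isSimpleGroup (by simp)
    refine (Subgroup.Normal.eq_bot_or_eq_top inferInstance).resolve_right fun h => ?_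
    have : S3377.X ∈ (π.comp σ).ker := h ▸ Subgroup.mem_top _
    rw [MonoidHom.mem_ker, MonoidHom.comp_apply, hσ, hx'] at this
    exact absurd this (by decide +kernel)
  refine ⟨K, inferInstance, inferInstance, hK, split_iso ρ ψ hρ (hker.trans hVQ.symm)
    ((σ.comp (MulEquiv.ofBijective _ hb).symm.toMonoidHom).comp f.toMonoidHom) fun A => ?_⟩
  apply f.injective
  exact (MulEquiv.ofBijective _ hb).apply_symm_apply (f A)

end Cfsg.Agent.S3600
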