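import Cfsg.Statements.S3626
import Cfsg.Agent.Ree.Iso
import Cfsg.Agent.S1159
import Cfsg.Agent.Ree.Conc

set_option autoImplicit false
open Cfsg

namespace Cfsg.Agent.S3626

/-- Let R be the small Ree group over the field with q = 3^(2m+1) ≥ 27 elements. Then there are finite groups of arbitrarily large order with exactly the same set of element orders as R × R × R. -/
theorem result {K : Type*} [Field K] [Fintype K] {m : ℕ} (hm : 1 ≤ m) (hK : Fintype.card K = 3 ^ (2 * m + 1)) (N : ℕ) :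
    ∃ (H : Type) (_ : Group H) (_ : Fintype H), N < Fintype.card H ∧
      Set.range (orderOf : H → ℕ) = Set.range (orderOf : ↥(Cfsg.Lie.twistedG2 K (3 ^ m)) × ↥(Cfsg.Lie.twistedG2 K (3 ^ m)) × ↥(Cfsg.Lie.twistedG2 K (3 ^ m)) → ℕ) := by
  have : Fact (Nat.Prime 3) := ⟨Nat.prime_three⟩
  obtain ⟨R, -⟩ := Ree.exists_sys hK
  have := R.charP
  have := R.finiteG
  have hS := fun d => S1159.result hm hK d
  set G := ↥(Cfsg.Lie.twistedG2 K (3 ^ m))
  have hX : Finite (Ree.Iso.X (frobenius K 3) (N + 1)) :=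
    Finite.of_equiv _ SemidirectProduct.equivProd.symm
  set X := Ree.Iso.X (frobenius K 3) (N + 1) with hXd
  let e' : Shrink.{0} (G × G × X) ≃* G × G × X := Shrink.mulEquiv
  have : Finite (Shrink.{0} (G × G × X)) := Finite.of_equiv _ e'.symm.toEquiv
  refine ⟨Shrink.{0} (G × G × X), inferInstance, Fintype.ofFinite _, ?_, ?_⟩
  · rw [Fintype.card_eq_nat_card, Nat.card_congr e'.toEquiv]
    refine lt_of_lt_of_le (Ree.Iso.lt_card (K := K) N) ?_
    exact Nat.card_le_card_of_injective (fun x : X => ((1, 1, x) : G × G × X))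
      fun x y h => (Prod.ext_iff.1 (Prod.ext_iff.1 h).2).2
  have h1 : Set.range (orderOf : Shrink.{0} (G × G × X) → ℕ) =
      Set.range (orderOf : G × G × X → ℕ) := by
    ext d
    constructor
    · rintro ⟨x, rfl⟩
      exact ⟨e' x, e'.orderOf_eq x⟩
    · rintro ⟨x, rfl⟩
      exact ⟨e'.symm x, e'.symm.orderOf_eq x⟩
  rw [h1]
  ext d
  constructor
  · rintro ⟨⟨x, y, z⟩, rfl⟩
    have hz := Ree.Iso.orderOf_dvd (N + 1) hK z
    rw [hK] at hz
    obtain ⟨z', hz'⟩ := (hS (orderOf z)).2 (by tauto)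
    exact ⟨(x, y, z'), by simp only [Prod.orderOf, hz']⟩
  · rintro ⟨⟨x, y, z⟩, rfl⟩
    have A : ∀ g : G, (orderOf g ∣ 6 ∨ orderOf g ∣ 9 ∨ orderOf g ∣ 3 ^ (2 * m + 1) - 1 ∨
        orderOf g ∣ (3 ^ (2 * m + 1) + 1) / 2) → ∃ z : X, orderOf z = orderOf g := fun g hg =>
      Ree.Iso.exists_orderOf N hK hm (by rwa [hK])
    have B : ∀ g g' : G, ∀ n, (n = 3 ^ (2 * m + 1) - 3 ^ (m + 1) + 1 ∨
        n = 3 ^ (2 * m + 1) + 3 ^ (m + 1) + 1) → orderOf g ∣ n → orderOf g' ∣ n →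
        ∃ z : G, orderOf z = Nat.lcm (orderOf g) (orderOf g') := fun g g' n hn h h' => by
      refine (hS _).2 ?_
      have := Nat.lcm_dvd h h'
      rcases hn with rfl | rfl <;> tauto
    have C : ∀ g : G, (∃ z : X, orderOf z = orderOf g) ∨
        orderOf g ∣ 3 ^ (2 * m + 1) - 3 ^ (m + 1) + 1 ∨
        orderOf g ∣ 3 ^ (2 * m + 1) + 3 ^ (m + 1) + 1 := fun g => by
      have h := (hS _).1 ⟨g, rfl⟩
      have := A g
      tauto
    simp only [Set.mem_range, Prod.exists, Prod.orderOf]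
    rcases C z with ⟨w, hw⟩ | hz
    · exact ⟨x, y, w, by rw [hw]⟩
    rcases C y with ⟨w, hw⟩ | hy
    · exact ⟨x, z, w, by rw [hw, Nat.lcm_comm (orderOf z)]⟩
    rcases C x with ⟨w, hw⟩ | hx
    · exact ⟨y, z, w, by rw [hw, ← Nat.lcm_assoc, Nat.lcm_comm]⟩
    have D1 : (∃ w : G, orderOf w = Nat.lcm (orderOf y) (orderOf z)) →
        ∃ (a b : G) (c : X), (orderOf a).lcm ((orderOf b).lcm (orderOf c)) =
          (orderOf x).lcm ((orderOf y).lcm (orderOf z)) := by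
      rintro ⟨w, hw⟩
      exact ⟨x, w, 1, by rw [hw, orderOf_one, Nat.lcm_one_right]⟩
    have D2 : (∃ w : G, orderOf w = Nat.lcm (orderOf x) (orderOf y)) →
        ∃ (a b : G) (c : X), (orderOf a).lcm ((orderOf b).lcm (orderOf c)) =
          (orderOf x).lcm ((orderOf y).lcm (orderOf z)) := by
      rintro ⟨w, hw⟩
      exact ⟨w, z, 1, by rw [hw, orderOf_one, Nat.lcm_one_right, Nat.lcm_assoc]⟩
    have D3 : (∃ w : G, orderOf w = Nat.lcm (orderOf x) (orderOf z)) →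
        ∃ (a b : G) (c : X), (orderOf a).lcm ((orderOf b).lcm (orderOf c)) =
          (orderOf x).lcm ((orderOf y).lcm (orderOf z)) := by
      rintro ⟨w, hw⟩
      exact ⟨w, y, 1, by
        rw [hw, orderOf_one, Nat.lcm_one_right, Nat.lcm_assoc, Nat.lcm_comm (orderOf z)]⟩
    rcases hx with hx | hx <;> rcases hy with hy | hy <;> rcases hz with hz | hz
    · exact D1 (B _ _ _ (.inl rfl) hy hz)
    · exact D2 (B _ _ _ (.inl rfl) hx hy)
    · exact D3 (B _ _ _ (.inl rfl) hx hz)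
    · exact D1 (B _ _ _ (.inr rfl) hy hz)
    · exact D1 (B _ _ _ (.inl rfl) hy hz)
    · exact D3 (B _ _ _ (.inr rfl) hx hz)
    · exact D2 (B _ _ _ (.inr rfl) hx hy)
    · exact D1 (B _ _ _ (.inr rfl) hy hz)

end Cfsg.Agent.S3626
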