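import Cfsg.Statements.S3643
import Mathlib
import Cfsg.Agent.Math.Nse
import Cfsg.Agent.Math.DegR
import Cfsg.Agent.S0421
import Cfsg.Agent.Spor.MathieuDefs
import Cfsg.Agent.DegG.Ord
import Cfsg.Agent.S2034
import Cfsg.Agent.S2060

set_option autoImplicit false
open Cfsg

set_option linter.style.haveILetI false
set_option linter.unusedVariables false

namespace Cfsg.Agent.S3643

open Subgroup Cfsg.Agent.Small Cfsg.Agent.Char Cfsg.Agent.Math Cfsg.Agent.Small.Sieve
open Cfsg.Agent.Math.M12 Cfsg.Agent.Math.DegR Cfsg.Agent.DegG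

attribute [local irreducible] ds vs2 imp divs opts

def bt' : List (ℕ × ℕ) := [(2, 5), (2, 6), (2, 4), (2, 3), (3, 3), (3, 2), (3, 1), (5, 1)]

theorem chk : ((divs 95040 309).all fun s => imp (11 ∣ s ∧ 6000 ≤ s ∧ s ≠ 7920 ∧ s ≠ 95040)
    ((opts 309 s 11).eraseDups.all fun o => ds 309 s 11 o.1 o.2.1 o.2.2 bt' (fun _ => true)
      fun l => decide (s = 15840 ∧ o.2.1 = 10 ∧ o.2.2 = 1) && (divs 15840 126).all fun h =>
        imp (11 ∣ h) (vs2 15840 11 1 h 0 [5, 11]
          (fun A B => Nat.beq A (B + 11 * (15840 / h * (15840 / h)))) (fun _ => false) l))) =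
      true := by
  decide +kernel

theorem ord {T : Type*} [Group T] [Finite T] [IsSimpleGroup T] (hT : ¬ IsMulCommutative T)
    (h1 : 11 ∣ Nat.card T) (h2 : Nat.card T ∣ 95040) :
    Nat.card T = 660 ∨ Nat.card T = 7920 ∨ Nat.card T = 95040 := by
  by_contra h3
  rcases Nat.lt_or_ge (Nat.card T) 6000 with h4 | h4
  · have := card_lt_6000 hT h4
    omega
  obtain ⟨x, ⟨D⟩⟩ := exists_BD hT 11 h1 (fun h => absurd (h.trans h2) (by norm_num)) (by norm_num)
  have h5 := Nat.le_of_dvd (by norm_num) h2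
  obtain ⟨l, hl, h⟩ := D.ds_ok hT rfl (by omega) rfl rfl rfl (fun _ _ _ => rfl)
    (D.opts_ok hT rfl (by omega) (imp_ok (List.all_eq_true.1 chk _
      (mem_divs h2 (by norm_num) (by norm_num))) ⟨h1, h4, by omega, by omega⟩))
  rw [Bool.and_eq_true, decide_eq_true_eq] at h
  obtain ⟨⟨hN, he, hc⟩, h⟩ := h
  replace he : D.e = 10 := he
  obtain ⟨t, t1, t2, t3⟩ := D.exists_inv hc (by rw [he]; norm_num)
  obtain ⟨w, -, h⟩ := D.vs2_ok hT hN (by norm_num) (qs := [5, 11]) (by decide) t2 t1 rfl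
    (by rw [D.cardY_eq, he]) (D.base_zero t2) hl (D.Q_one hN t2 hc rfl t3)
    (imp_ok (divs_ok hN (by norm_num) h _) (D.dvd_idx (by rw [show D.c = 1 from hc]; norm_num) t2 t1))
  exact Bool.false_ne_true h

theorem adj {q r d : ℕ} (h1 : q ≠ r) (h2 : q.Prime) (h3 : r.Prime) (h4 : q * r ∣ d)
    (h : d ∈ tA.map (·.1)) : (degreeGraph Spor.M12).Adj q r := by
  have hM := Spor.isM12_M12
  haveI := hM.1
  haveI := Fintype.ofFinite Spor.M12
  obtain ⟨x, ⟨D⟩⟩ := exists_BD (hG hM.2) 11 (by rw [hM.2]; norm_num) (by rw [hM.2]; norm_num)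
    (by norm_num)
  obtain ⟨y, ⟨E⟩⟩ := exists_BD (hG hM.2) 5 (by rw [hM.2]; norm_num) (by rw [hM.2]; norm_num)
    (by norm_num)
  obtain ⟨r, h5, rfl⟩ := List.mem_map.1 h
  obtain ⟨χ, rfl⟩ := exists_of_mem_rows (t := y) (r := r) (by rw [(table hM.2 D E).1]; exact h5)
  exact ⟨h1, h2, h3, _, ⟨χ, rfl⟩, h4⟩

/-- Let G be a finite group of the same order as the Mathieu group M₁₂ whose character degree graph equals that of M₁₂ (same primes dividing some irreducible complex character degree, same pairs of distinct primes whose product divides some degree). Then G is isomorphic to M₁₂ or to the direct product of the alternating group of degree 4 with M₁₁. -/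
theorem result {G : Type*} [Group G] [Finite G] (hcard : Nat.card G = Nat.card ↥Cfsg.Spor.M12) (hΔ : Cfsg.degreePrimes G = Cfsg.degreePrimes ↥Cfsg.Spor.M12 ∧ Cfsg.degreeGraph G = Cfsg.degreeGraph ↥Cfsg.Spor.M12) :
    Nonempty (G ≃* ↥Cfsg.Spor.M12) ∨ Nonempty (G ≃* alternatingGroup (Fin 4) × ↥Cfsg.Spor.M11) := by
  have hN := hcard.trans Spor.isM12_M12.2
  obtain ⟨-, -, -, d, hd, h55⟩ : (degreeGraph G).Adj 5 11 := hΔ.2 ▸ adj (d := 55) (by norm_num)
    (by norm_num) (by norm_num) (by norm_num) (by decide)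
  obtain ⟨-, -, -, d', hd', h33⟩ : (degreeGraph G).Adj 3 11 := hΔ.2 ▸ adj (d := 66) (by norm_num)
    (by norm_num) (by norm_num) (by norm_num) (by decide)
  obtain ⟨L, _, T, _, _, f, _, h1, h2, h3, h4, -, h5⟩ := red (p := 11) (m := 8640) hN (by norm_num)
    (Nse.hq_of (B := 93) (by norm_num) (by decide +kernel))
    (sylow_ne_one (m := 8640) ⟨by norm_num, d, hd, (Dvd.intro_left 5 rfl).trans h55⟩ hN
      (by norm_num))
  rcases ord h1 h3 (hN ▸ Dvd.intro _ h4) with h6 | h6 | h6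
  · obtain ⟨e, a, rfl, h7, h8, h9⟩ := h5 d hd
    have k1 : e ∣ 144 := h7.trans (Dvd.intro_left (Nat.card f.ker) (by rw [h6, hN] at h4; omega))
    have k2 : 55 ∣ a := (Nat.Coprime.coprime_dvd_right k1 (by norm_num)).dvd_of_dvd_mul_left h55
    obtain ⟨θ, rfl⟩ := h8
    have := Nat.le_of_dvd (charDegree_pos_of_isIrr θ.2) k2
    rw [h6] at h9
    nlinarith
  · right
    obtain ⟨e⟩ := M11Ord.isoM11 h6
    have k1 : f.ker = ⊥ := by
      have := FGS.ker_eq_bot_of_trivial_multiplier S2034.result (σ := e.toMonoidHom.comp f)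
        ⟨e.surjective.comp h2.1, by simpa using h2.2.1, by simpa using h2.2.2⟩
      simpa using this
    have e' := (MulEquiv.ofBijective f ⟨(MonoidHom.ker_eq_bot_iff f).1 k1, h2.1⟩).trans e
    haveI := M11Ord.isSimpleGroup_M11
    haveI := e'.isSimpleGroup
    have k2 : Nat.card L = 7920 := (Nat.card_congr e'.toEquiv).trans M11Ord.card_M11
    obtain ⟨φ⟩ := prod_of_out L (Small.center_eq_bot (not_comm_of_card (by rw [k2]; norm_num)))
      ((card_out_congr e').trans S2060.result)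
    have k3 := Nat.card_congr φ.toEquiv
    rw [Nat.card_prod, k2, hN] at k3
    obtain ⟨a, ha, b, ⟨χ, rfl⟩, rfl⟩ := degs_prod (charDegrees_equiv φ ▸ hd')
    obtain ⟨Tb⟩ := M11Ord.nonempty_tab k2
    obtain ⟨i, rfl⟩ := Tb.c.surjective χ
    rw [Tb.deg] at h33
    have k4 : ¬ 11 ∣ a := fun h => by
      obtain ⟨θ, rfl⟩ := ha
      have := h.trans (SelfC.deg_dvd θ)
      omega
    have k5 : 11 ∣ M11Ord.dg i := ((Nat.Prime.dvd_mul (by norm_num)).1
      ((Dvd.intro_left 3 rfl).trans h33)).resolve_left k4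
    have k6 : ∀ i, 11 ∣ M11Ord.dg i → ¬ 3 ∣ M11Ord.dg i := by decide
    obtain ⟨ψ⟩ := alt4_of_deg (by omega) ha (((Nat.Prime.dvd_mul (by norm_num)).1
      ((Dvd.intro 11 rfl).trans h33)).resolve_right (k6 i k5))
    exact ⟨φ.trans (ψ.prodCongr e')⟩
  · obtain ⟨e⟩ := S0421.result ⟨simple_of_card h2.1 h4 (h6.trans hN.symm), hN⟩ _
      Spor.squareDodecad_mem_dodecads
    exact Or.inl ⟨e.trans Spor.stabEquivM12⟩

end Cfsg.Agent.S3643
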