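import Cfsg.Statements.S3642
import Mathlib
import Cfsg.Agent.Math.Ord24
import Cfsg.Agent.S3643
import Cfsg.Agent.S0422
import Cfsg.Agent.S1663
import Cfsg.Agent.S1664
import Cfsg.Agent.S2037
import Cfsg.Agent.S0364
import Cfsg.Agent.S0365

set_option autoImplicit false
open Cfsg

set_option linter.style.haveILetI false
set_option linter.unusedVariables false

namespace Cfsg.Agent.S3642

open Subgroup Cfsg.Agent.Small Cfsg.Agent.Char Cfsg.Agent.Math Cfsg.Agent.Math.DegR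
open Cfsg.Agent.DegG Cfsg.Agent.Math.Ord24 Cfsg.Agent.Math.M24

attribute [local irreducible] dsA imp dall dvs

set_option linter.unusedSectionVars false

theorem chk : (dall.all fun s => imp (23 ∣ s ∧ ¬ 11 ∣ s)
    (sA s 23 (fun _ => True) (fun _ _ => true) 1 1 fun _ _ => false)) = true := by
  decide +kernel

theorem eleven {T : Type*} [Group T] [Finite T] [IsSimpleGroup T] (hT : ¬ IsMulCommutative T)
    (h1 : 23 ∣ Nat.card T) (h2 : Nat.card T ∣ 244823040) : 11 ∣ Nat.card T := by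
  by_contra h3
  obtain ⟨x, ⟨D⟩⟩ := exists_BD hT 23 h1 (fun h => absurd (h.trans h2) (by norm_num)) (by norm_num)
  obtain ⟨l, -, h⟩ := sA_ok hT rfl h2 D (imp_ok (List.all_eq_true.1 chk _ (mem_dall h2)) ⟨h1, h3⟩)
    trivial (fun _ _ _ => rfl) D.rel_one
  exact Bool.false_ne_true h

section

variable {M : Type*} [Group M] [Finite M] [IsSimpleGroup M]

theorem deg23 (hN : Nat.card M = 10200960) :
    (∃ χ : IrrCharacter M, dg χ = 2024) ∧ ∀ ψ : IrrCharacter M, ¬ 161 ∣ dg ψ := by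
  have h0 := M23.hG hN
  obtain ⟨x, ⟨D⟩⟩ := exists_BD h0 23 (by rw [hN]; norm_num) (by rw [hN]; norm_num) (by norm_num)
  obtain ⟨y, ⟨E⟩⟩ := exists_BD h0 11 (by rw [hN]; norm_num) (by rw [hN]; norm_num) (by norm_num)
  obtain ⟨u, ⟨H⟩⟩ := exists_BD h0 5 (by rw [hN]; norm_num) (by rw [hN]; norm_num) (by norm_num)
  obtain ⟨t, -, ht, h2, h3⟩ := M23.central hN D E H
  obtain ⟨-, e5, -, l, h4, h5⟩ := M23.data5 hN D E H
  have h6 := Multiset.mem_coe.2 ((by decide : ∀ l ∈ M23.L5, 2024 ∈ fdeg 1 l) l h4)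
  rw [H.fdeg_eq h5 (by rw [H.cardY_eq, e5]) t] at h6
  obtain ⟨r, h7, h8⟩ := Multiset.mem_map.1 h6
  obtain ⟨χ, -, rfl⟩ := H.exists_of_mem h7
  replace h8 : dg χ = 2024 := h8
  refine ⟨⟨χ, h8⟩, fun ψ h => ?_⟩
  have h9 : ∀ r ∈ (M23.rA ∪ M23.r23 : Multiset (ℕ × ℤ)), ¬ 2024 ∣ r.1 ∧ ¬ 161 ∣ r.1 := by
    decide +kernel
  have h10 := (rest_le ht (χ := ψ) ((Multiset.cons_le_of_notMem fun h =>
    (h9 _ h).1 (h8 ▸ dvd_rfl)).2 ⟨row_mem t χ, Multiset.union_le (h2 ▸ E.rws_le t)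
      (h3 ▸ D.rws_le t)⟩) fun h' => (Multiset.mem_cons.1 h').elim (fun h' => by
        rw [show dg ψ = dg χ from congrArg Prod.fst h', h8] at h; norm_num at h)
        fun h' => (h9 _ h').2 h).1
  rw [Multiset.map_cons, Multiset.sum_cons, hN, show (row t χ).1 = 2024 from h8,
    show ((M23.rA ∪ M23.r23 : Multiset (ℕ × ℤ)).map fun r => r.1 * r.1).sum = 6040375 by
      decide +kernel] at h10
  rcases E.dg_mem h2 (M23.data11 hN D E).2.2 ψ with h11 | h11
  · have := Nat.le_of_dvd (dg_pos ψ) (Nat.Coprime.mul_dvd_of_dvd_of_dvd (by norm_num) h h11)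
    nlinarith
  · exact (h9 _ (Multiset.mem_union.2 (Or.inl h11))).2 h

theorem deg24 (hN : Nat.card M = 244823040) :
    (∃ χ : IrrCharacter M, 11 * 23 ∣ dg χ) ∧ ∃ χ : IrrCharacter M, 7 * 23 ∣ dg χ := by
  have h0 := M24.hG hN
  obtain ⟨x, ⟨D⟩⟩ := exists_BD h0 23 (by rw [hN]; norm_num) (by rw [hN]; norm_num) (by norm_num)
  obtain ⟨y, ⟨E⟩⟩ := exists_BD h0 11 (by rw [hN]; norm_num) (by rw [hN]; norm_num) (by norm_num)
  obtain ⟨t, r, F⟩ := exists_fr hN D E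
  obtain ⟨H⟩ := exists_BD' h0 F.ro (by rw [hN]; norm_num) (by norm_num)
  obtain ⟨-, l, h1, hl, -⟩ := data5 hN D E F H
  obtain ⟨⟨a, a1, a2⟩, b, b1, b2⟩ := (by decide : ∀ l ∈ L5, (∃ v ∈ l, 11 * 23 ∣ v.natAbs) ∧
    ∃ v ∈ l, 7 * 23 ∣ v.natAbs) l h1
  obtain ⟨χ, -, rfl⟩ := H.of_mem_xd hl a1
  obtain ⟨ψ, -, rfl⟩ := H.of_mem_xd hl b1
  exact ⟨⟨χ, H.natAbs_sv χ ▸ a2⟩, ψ, H.natAbs_sv ψ ▸ b2⟩

theorem deg22 (hN : Nat.card M = 443520) :
    (∃ χ : IrrCharacter M, dg χ = 55) ∧ ∃ χ : IrrCharacter M, dg χ = 99 := by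
  have h0 := M22.hG hN
  obtain ⟨x, ⟨D⟩⟩ := exists_BD h0 11 (by rw [hN]; norm_num) (by rw [hN]; norm_num) (by norm_num)
  obtain ⟨y, ⟨E⟩⟩ := exists_BD h0 5 (by rw [hN]; norm_num) (by rw [hN]; norm_num) (by norm_num)
  obtain ⟨u, ⟨H⟩⟩ := exists_BD h0 7 (by rw [hN]; norm_num) (by rw [hN]; norm_num) (by norm_num)
  obtain ⟨t, -, -, -, -, -, -, h⟩ := M22.stage7 hN D E H
  obtain ⟨χ, -, h1⟩ := H.exists_of_mem (t := t) (r := (55, 7)) (by rw [← h]; decide)
  obtain ⟨ψ, -, h2⟩ := H.exists_of_mem (t := t) (r := (99, 3)) (by rw [← h]; decide)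
  exact ⟨⟨χ, congrArg Prod.fst h1⟩, ψ, congrArg Prod.fst h2⟩

variable {G : Type*} [Group G] [Finite G]

theorem edge (hΔ : degreeGraph G = degreeGraph M) {q r : ℕ} (h1 : q ≠ r) (h2 : q.Prime)
    (h3 : r.Prime) {χ : IrrCharacter M} (h : q * r ∣ dg χ) : ∃ d ∈ charDegrees G, q * r ∣ d :=
  (hΔ ▸ (⟨h1, h2, h3, _, ⟨χ, rfl⟩, h⟩ : (degreeGraph M).Adj q r) : (degreeGraph G).Adj q r).2.2.2

end

section

variable {G : Type*} [Group G] [Finite G] {L : Subgroup G} {T : Type} [Group T] [Finite T]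
  {f : L →* T} {k n : ℕ}

theorem part (h4 : Nat.card T * (Nat.card f.ker * L.index) = Nat.card G)
    (h5 : ∀ d ∈ charDegrees G, ∃ e a, d = e * a ∧ e ∣ L.index ∧ a ∈ charDegrees L ∧
      a ^ 2 ≤ Nat.card T) (h6 : n.Coprime (Nat.card G / Nat.card T))
    (h : ∃ d ∈ charDegrees G, n ∣ d) : (∃ θ : IrrCharacter L, n ∣ dg θ) ∧ n ^ 2 ≤ Nat.card T := by
  obtain ⟨d, h1, h2⟩ := h
  obtain ⟨e, _, rfl, h7, ⟨θ, rfl⟩, h9⟩ := h5 d h1
  rw [← h4, Nat.mul_div_cancel_left _ Nat.card_pos] at h6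
  have := (h6.coprime_dvd_right (h7.mul_left _)).dvd_of_dvd_mul_left h2
  exact ⟨⟨θ, this⟩, (Nat.pow_le_pow_left (Nat.le_of_dvd (dg_pos θ) this) 2).trans h9⟩

theorem stem {Q : Type} [Group Q] [Finite Q] [IsSimpleGroup Q] (h : HasCyclicSchurMultiplier Q 1)
    (h2 : IsStemExtension f) (e : T ≃* Q) : IsSimpleGroup L ∧ Nat.card L = Nat.card T := by
  have k1 : f.ker = ⊥ := by
    simpa using FGS.ker_eq_bot_of_trivial_multiplier h (σ := e.toMonoidHom.comp f)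
      ⟨e.surjective.comp h2.1, by simpa using h2.2.1, by simpa using h2.2.2⟩
  have e' := MulEquiv.ofBijective f ⟨(MonoidHom.ker_eq_bot_iff f).1 k1, h2.1⟩
  exact ⟨(e'.trans e).isSimpleGroup, Nat.card_congr e'.toEquiv⟩

theorem simple11 {m : ℕ} (hN : Nat.card G = 11 * m) (hm : m = 720 ∨ m = 40320)
    (h55 : ∃ d ∈ charDegrees G, 5 * 11 ∣ d) (h33 : m = 720 ∨ ∃ d ∈ charDegrees G, 3 * 11 ∣ d) :
    IsSimpleGroup G := by
  obtain ⟨L, _, T, _, _, f, _, h1, h2, h3, h4, -, h5⟩ := red hN (by omega)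
    (fun d h => Nse.hq_of (m := 40320) (B := 201) (by norm_num) (by decide +kernel) d
      (Nat.divisors_subset_of_dvd (by norm_num) (by rcases hm with rfl | rfl <;> norm_num) h))
    (sylow_ne_one ⟨by norm_num, h55.imp fun d h => ⟨h.1, (Dvd.intro_left 5 rfl).trans h.2⟩⟩ hN
      (by omega))
  have h6 : Nat.card T ∣ Nat.card G := Dvd.intro _ h4
  have h7 : Nat.card T ∣ 443520 :=
    h6.trans (by rcases hm with rfl | rfl <;> rw [hN] <;> norm_num)
  have h8 : Nat.card T = 660 ∨ Nat.card T = 7920 ∨ Nat.card T = 443520 := by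
    by_cases h : Nat.card T ∣ 95040
    · rcases S3643.ord h1 h3 h with h | h | h
      exacts [Or.inl h, Or.inr (Or.inl h), absurd (h ▸ h7) (by norm_num)]
    rcases Nat.lt_or_ge (Nat.card T) 6000 with h9 | h9
    · have := card_lt_6000 h1 h9
      omega
    · exact Or.inr (Or.inr ((ord11 h1 h3 h7 h9).resolve_left h))
  rcases h8 with h8 | h8 | h8
  · have := (part h4 h5 (by rw [h8, hN]; rcases hm with rfl | rfl <;> norm_num) h55).2
    omega
  · rcases hm with rfl | rfl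
    · exact simple_of_card h2.1 h4 (h8.trans hN.symm)
    obtain ⟨e⟩ := M11Ord.isoM11 h8
    haveI := M11Ord.isSimpleGroup_M11
    obtain ⟨_, k2⟩ := stem S2034.result h2 e
    obtain ⟨θ, h⟩ := (part h4 h5 (by rw [h8, hN]; norm_num) (h33.resolve_left (by norm_num))).1
    obtain ⟨Tb⟩ := M11Ord.nonempty_tab (k2.trans h8)
    obtain ⟨i, rfl⟩ := Tb.c.surjective θ
    rw [dg, Tb.deg] at h
    exact absurd h ((by decide : ∀ i, ¬ 3 * 11 ∣ M11Ord.dg i) i)
  · have := Nat.le_of_dvd Nat.card_pos h6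
    exact simple_of_card h2.1 h4 (by omega)

theorem simple23 {m : ℕ} (hN : Nat.card G = 23 * m) (hm : m = 443520 ∨ m = 10644480)
    (h11 : ∃ d ∈ charDegrees G, 11 * 23 ∣ d)
    (h7 : m = 443520 ∨ ∃ d ∈ charDegrees G, 7 * 23 ∣ d) : IsSimpleGroup G := by
  obtain ⟨L, _, T, _, _, f, _, h1, h2, h3, h4, -, h5⟩ := red hN (by omega)
    (fun d h => Nse.hq_of (m := 10644480) (B := 3263) (by norm_num) (by decide +kernel) d
      (Nat.divisors_subset_of_dvd (by norm_num) (by rcases hm with rfl | rfl <;> norm_num) h))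
    (sylow_ne_one ⟨by norm_num, h11.imp fun d h => ⟨h.1, (Dvd.intro_left 11 rfl).trans h.2⟩⟩ hN
      (by omega))
  have h6 : Nat.card T ∣ Nat.card G := Dvd.intro _ h4
  have h8 : Nat.card T ∣ 244823040 :=
    h6.trans (by rcases hm with rfl | rfl <;> rw [hN] <;> norm_num)
  have h9 : 11 * 23 ∣ Nat.card T :=
    Nat.Coprime.mul_dvd_of_dvd_of_dvd (by norm_num) (eleven h1 h3 h8) h3
  have h10 := (part h4 h5 (Nat.Coprime.coprime_dvd_right (Nat.div_dvd_div_left h6 h9)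
    (by rcases hm with rfl | rfl <;> rw [hN] <;> norm_num)) h11).2
  rcases ord23 h1 h3 h8 h10 with h | h
  · rcases hm with rfl | rfl
    · exact simple_of_card h2.1 h4 (h.trans hN.symm)
    obtain ⟨e⟩ := S1664.result ⟨‹_›, h⟩
    haveI := Spor.isM23_M23.1
    obtain ⟨_, k2⟩ := stem S2037.result h2 e
    obtain ⟨θ, h'⟩ := (part h4 h5 (by rw [h, hN]; norm_num) (h7.resolve_left (by norm_num))).1
    exact absurd h' ((deg23 (k2.trans h)).2 θ)
  · have := Nat.le_of_dvd Nat.card_pos h6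
    exact simple_of_card h2.1 h4 (by omega)

end

/-- Let M be one of the Mathieu groups M₁₁, M₂₂, M₂₃, M₂₄ and let G be a finite group of the same order as M whose character degree graph equals that of M (same set of primes dividing some irreducible complex character degree, and the same pairs of distinct primes whose product divides some degree). Then G is isomorphic to M. -/
theorem result {M : Type*} [Group M] [Finite M] (hM : Cfsg.Spor.IsoM11 M ∨ Cfsg.Spor.IsoM22 M ∨ Cfsg.Spor.IsoM23 M ∨ Cfsg.Spor.IsoM24 M)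
    {G : Type*} [Group G] [Finite G] (hcard : Nat.card G = Nat.card M) (hΔ : Cfsg.degreePrimes G = Cfsg.degreePrimes M ∧ Cfsg.degreeGraph G = Cfsg.degreeGraph M) :
    Nonempty (G ≃* M) := by
  rcases hM with ⟨⟨e⟩⟩ | ⟨⟨e⟩⟩ | ⟨⟨e⟩⟩ | ⟨⟨e⟩⟩ <;> have hN := Nat.card_congr e.toEquiv
  · haveI := M11Ord.isSimpleGroup_M11
    haveI := e.isSimpleGroup
    rw [M11Ord.card_M11] at hN
    obtain ⟨Tb⟩ := M11Ord.nonempty_tab hN
    haveI := simple11 (m := 720) (hcard.trans hN) (Or.inl rfl) (edge hΔ.2 (by norm_num)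
      (by norm_num) (by norm_num) (χ := Tb.c 9) (by rw [dg, Tb.deg]; rfl)) (Or.inl rfl)
    exact (M11Ord.isoM11 (hcard.trans hN)).map fun e' => e'.trans e.symm
  · haveI := Spor.isM22_M22.1
    haveI := e.isSimpleGroup
    rw [Spor.isM22_M22.2] at hN
    obtain ⟨⟨χ, h1⟩, ψ, h2⟩ := deg22 hN
    exact (S1663.result ⟨simple11 (m := 40320) (hcard.trans hN) (Or.inr rfl)
      (edge hΔ.2 (by norm_num) (by norm_num) (by norm_num) (χ := χ) (by rw [h1]))
      (Or.inr (edge hΔ.2 (by norm_num) (by norm_num) (by norm_num) (χ := ψ)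
        (by rw [h2]; norm_num))), hcard.trans hN⟩).map fun e' => e'.trans e.symm
  · haveI := Spor.isM23_M23.1
    haveI := e.isSimpleGroup
    rw [Spor.isM23_M23.2] at hN
    obtain ⟨χ, h1⟩ := (deg23 hN).1
    exact (S1664.result ⟨simple23 (m := 443520) (hcard.trans hN) (Or.inl rfl)
      (edge hΔ.2 (by norm_num) (by norm_num) (by norm_num) (χ := χ) (by rw [h1]; norm_num))
      (Or.inl rfl), hcard.trans hN⟩).map fun e' => e'.trans e.symm
  · haveI := S0365.result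
    haveI := e.isSimpleGroup
    rw [S0364.result] at hN
    obtain ⟨⟨χ, h1⟩, ψ, h2⟩ := deg24 hN
    exact (S0422.result ⟨simple23 (m := 10644480) (hcard.trans hN) (Or.inr rfl)
      (edge hΔ.2 (by norm_num) (by norm_num) (by norm_num) h1)
      (Or.inr (edge hΔ.2 (by norm_num) (by norm_num) (by norm_num) h2)), hcard.trans hN⟩).map
        fun e' => e'.trans e.symm

end Cfsg.Agent.S3642
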