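import Cfsg.Statements.S4774
import Mathlib
import Cfsg.Agent.KSG.SL2Deg
import Cfsg.Agent.Char.Quot

set_option autoImplicit false
open Cfsg

namespace Cfsg.Agent.S4774

open KSG KSG.GL2 KSG.M2 Char

theorem degs_congr {G H : Type*} [Group G] [Group H] (e : G ≃* H) :
    charDegrees G = charDegrees H := by
  ext d
  constructor
  · rintro ⟨χ, rfl⟩
    exact ⟨⟨_, χ.2.comp_mulEquiv e.symm⟩, by simp [charDegree]⟩
  · rintro ⟨χ, rfl⟩
    exact ⟨⟨_, χ.2.comp_mulEquiv e⟩, by simp [charDegree]⟩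

theorem arith {S : Type*} [Group S] {t q : ℕ} (htp : t.Prime) (ht : t ≠ 2) {k : ℕ} (hk : k ≠ 0)
    (hq : q = t ^ k) (h1 : ∀ d ∈ charDegrees S, d = q ∨ d ∣ q + 1 ∨ d ∣ q - 1)
    (h2 : q ∈ charDegrees S) (h3 : q + 1 ∈ charDegrees S) (h4 : q - 1 ∈ charDegrees S) :
    Cfsg.degreePrimes S = {r : ℕ | r.Prime ∧ r ∣ q * (q ^ 2 - 1)} ∧ ∀ r s : ℕ, (Cfsg.degreeGraph S).Adj r s ↔ (r ≠ s ∧ r.Prime ∧ s.Prime ∧ r ∣ q ^ 2 - 1 ∧ s ∣ q ^ 2 - 1 ∧ (r = 2 ∨ s = 2 ∨ (r ∣ q + 1 ∧ s ∣ q + 1) ∨ (r ∣ q - 1 ∧ s ∣ q - 1))) := by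
  have e : q ^ 2 - 1 = (q + 1) * (q - 1) := by simpa using Nat.sq_sub_sq q 1
  have hodd : Odd q := hq ▸ (htp.odd_of_ne_two ht).pow
  have a2 : 2 ∣ q + 1 := by obtain ⟨m, hm⟩ := hodd; omega
  have b2 : 2 ∣ q - 1 := by obtain ⟨m, hm⟩ := hodd; omega
  rw [e]
  refine ⟨?_, fun r s => ?_⟩
  · ext r
    refine and_congr_right fun hr => ⟨?_, fun h => ?_⟩
    · rintro ⟨d, hd, hrd⟩
      rcases h1 d hd with rfl | h | h
      · exact hrd.mul_right _
      · exact ((hrd.trans h).mul_right _).mul_left _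
      · exact ((hrd.trans h).mul_left _).mul_left _
    · rcases (Nat.Prime.dvd_mul hr).1 h with h | h
      · exact ⟨_, h2, h⟩
      · rcases (Nat.Prime.dvd_mul hr).1 h with h | h
        · exact ⟨_, h3, h⟩
        · exact ⟨_, h4, h⟩
  · change (r ≠ s ∧ r.Prime ∧ s.Prime ∧ ∃ d ∈ charDegrees S, r * s ∣ d) ↔ _
    refine and_congr_right fun hrs => and_congr_right fun hr => and_congr_right fun hs => ?_
    have hc : r.Coprime s := (Nat.coprime_primes hr hs).2 hrs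
    constructor
    · rintro ⟨d, hd, h⟩
      have hr' : r ∣ d := (dvd_mul_right r s).trans h
      have hs' : s ∣ d := (dvd_mul_left s r).trans h
      rcases h1 d hd with rfl | h' | h'
      · rw [hq] at hr' hs'
        exact absurd (((Nat.prime_dvd_prime_iff_eq hr htp).1 (hr.dvd_of_dvd_pow hr')).trans
          ((Nat.prime_dvd_prime_iff_eq hs htp).1 (hs.dvd_of_dvd_pow hs')).symm) hrs
      · exact ⟨(hr'.trans h').mul_right _, (hs'.trans h').mul_right _,
          Or.inr (Or.inr (Or.inl ⟨hr'.trans h', hs'.trans h'⟩))⟩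
      · exact ⟨(hr'.trans h').mul_left _, (hs'.trans h').mul_left _,
          Or.inr (Or.inr (Or.inr ⟨hr'.trans h', hs'.trans h'⟩))⟩
    · rintro ⟨hr', hs', rfl | rfl | ⟨a, b⟩ | ⟨a, b⟩⟩
      · rcases (Nat.Prime.dvd_mul hs).1 hs' with h | h
        · exact ⟨_, h3, hc.mul_dvd_of_dvd_of_dvd a2 h⟩
        · exact ⟨_, h4, hc.mul_dvd_of_dvd_of_dvd b2 h⟩
      · rcases (Nat.Prime.dvd_mul hr).1 hr' with h | h
        · exact ⟨_, h3, hc.mul_dvd_of_dvd_of_dvd h a2⟩
        · exact ⟨_, h4, hc.mul_dvd_of_dvd_of_dvd h b2⟩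
      · exact ⟨_, h3, hc.mul_dvd_of_dvd_of_dvd a b⟩
      · exact ⟨_, h4, hc.mul_dvd_of_dvd_of_dvd a b⟩

section
variable {F : Type*} [Field F] [Fintype F] [DecidableEq F]

theorem deg_cases {χ : Matrix.SpecialLinearGroup (Fin 2) F → ℂ} (hχ : IsIrrCharacter _ χ) :
    charDegree χ = Fintype.card F ∨ charDegree χ ∣ Fintype.card F + 1 ∨
      charDegree χ ∣ Fintype.card F - 1 := by
  obtain ⟨g1, _⟩ := exists_fact_noEigS (F := F)
  have e := coe_charDegree_of_isCharacter hχ.isCharacter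
  rcases irrS_cases_deg g1 hχ with ⟨-, h⟩ | ⟨-, h⟩ | ⟨-, h⟩ | ⟨-, h⟩ | ⟨-, h⟩ | ⟨-, h⟩
  · rw [← e, Nat.cast_eq_one] at h
    exact Or.inr (Or.inl (by rw [h]; exact one_dvd _))
  · rw [← e] at h; exact Or.inl (by exact_mod_cast h)
  · rw [← e] at h
    have : charDegree χ = Fintype.card F + 1 := by exact_mod_cast h
    exact Or.inr (Or.inl (this ▸ dvd_rfl))
  · rw [← e, eq_sub_iff_add_eq] at h
    have : charDegree χ + 1 = Fintype.card F := by exact_mod_cast h
    exact Or.inr (Or.inr (by rw [← this]; simp))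
  · rw [← e] at h
    have : 2 * charDegree χ = Fintype.card F + 1 := by exact_mod_cast h
    exact Or.inr (Or.inl (this ▸ dvd_mul_left _ _))
  · rw [← e, eq_sub_iff_add_eq] at h
    have : 2 * charDegree χ + 1 = Fintype.card F := by exact_mod_cast h
    exact Or.inr (Or.inr (by rw [← this]; simp))

theorem sq_center {n : Matrix.SpecialLinearGroup (Fin 2) F}
    (hn : n ∈ Subgroup.center (Matrix.SpecialLinearGroup (Fin 2) F)) : n ^ 2 = 1 := by
  rcases SL_mem_center_iff'.1 hn with rfl | rfl <;> simp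

theorem exists_deg (h5 : 5 < Fintype.card F) (d : ℕ) (hd : d = Fintype.card F ∨
    d = Fintype.card F + 1 ∨ d = Fintype.card F - 1) :
    ∃ χ : Matrix.SpecialLinearGroup (Fin 2) F → ℂ, IsIrrCharacter _ χ ∧ χ 1 = d ∧
      ∀ n ∈ Subgroup.center (Matrix.SpecialLinearGroup (Fin 2) F), χ n = χ 1 := by
  obtain ⟨g1, _⟩ := exists_fact_noEigS (F := F)
  rcases hd with rfl | rfl | rfl
  · refine ⟨stS F, isIrr_stS, stS_one, fun n hn => ?_⟩
    obtain ⟨a, -, e⟩ := sl_scal (SL_mem_center_iff.1 hn)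
    rw [stS_one, stS, res_apply, e, (vals_stw (Matrix.SpecialLinearGroup.toGL g1) 1).scal,
      MulChar.one_apply_coe, mul_one, mul_one]
  · obtain ⟨β, hβ⟩ := MulChar.exists_mulChar_orderOf (R := ℂ) F (n := Fintype.card F - 1) dvd_rfl
      (Complex.isPrimitiveRoot_exp _ (by omega))
    refine ⟨psS (β ^ 2), isIrr_psS_iff.2 fun h => ?_, by rw [psS_one]; simp, fun n hn => ?_⟩
    · rw [← pow_mul, ← orderOf_dvd_iff_pow_eq_one, hβ] at h
      have := Nat.le_of_dvd (by norm_num) h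
      omega
    · obtain ⟨a, ha, e⟩ := sl_scal (SL_mem_center_iff.1 hn)
      have ha2 : (a : F) ^ 2 = 1 := by
        rcases SL_mem_center_iff'.1 hn with rfl | rfl
        · rw [← ha]; simp
        · rw [← ha]; simp
      rw [psS_one, psS_eq, res_apply, e, (vals_ps (Matrix.SpecialLinearGroup.toGL g1) _ 1).scal,
        MulChar.one_apply_coe, MulChar.pow_apply_coe, ← map_pow, ha2]
      simp
  · obtain ⟨c, hc⟩ := IsCyclic.exists_ofOrder_eq_natCard (α := TorS g1)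
    rw [card_torS, Nat.card_eq_fintype_card] at hc
    have hc4 : c ^ 4 ≠ 1 := fun h => by
      rw [← orderOf_dvd_iff_pow_eq_one, hc] at h
      have := Nat.le_of_dvd (by norm_num) h
      omega
    obtain ⟨η, hη⟩ : ∃ η : TorS g1 →* ℂˣ, η (c ^ 4) ≠ 1 := by
      letI : CommGroup (TorS g1) := IsCyclic.commGroup
      exact CommGroup.exists_apply_ne_one_of_hasEnoughRootsOfUnity (TorS g1) ℂ hc4
    refine ⟨cuspS (η ^ 2), isIrr_cuspS fun h => hη ?_, ?_, fun n hn => ?_⟩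
    · rw [← pow_mul] at h
      rw [map_pow]
      exact DFunLike.congr_fun h c
    · rw [cuspS_one, Nat.cast_sub (by omega)]; simp
    · obtain ⟨a, ha, e⟩ := sl_scal (SL_mem_center_iff.1 hn)
      have hm : n ∈ TorS g1 := Subgroup.center_le_centralizer _ hn
      have e2 : scT (Matrix.SpecialLinearGroup.toGL g1) a = torIncl g1 ⟨n, hm⟩ :=
        Subtype.ext (by rw [coe_torIncl, e]; rfl)
      have e3 : (⟨n, hm⟩ : TorS g1) ^ 2 = 1 := Subtype.ext (sq_center hn)
      rw [cuspS_one, cuspS, res_apply, e, (vals_cusp _).scal, e2, extT_apply, MonoidHom.pow_apply,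
        ← map_pow, e3]
      simp

end


/-- Let F be a finite field of odd characteristic t with q > 5 elements and let S be isomorphic to PSL(2,F) or to SL(2,F). Then the vertices of the character degree graph of S are the primes dividing q(q²−1); the prime t is adjacent to no vertex; two distinct primes dividing q² − 1 are adjacent exactly when one of them is 2, or both divide q + 1, or both divide q − 1. -/
theorem result (F : Type*) [Field F] [Fintype F] (t : ℕ) [Fact t.Prime] [CharP F t] (ht : t ≠ 2) (q : ℕ) (hq : Fintype.card F = q) (h5 : 5 < q) {S : Type*} [Group S] [Finite S] (hS : Nonempty (S ≃* Matrix.ProjectiveSpecialLinearGroup (Fin 2) F) ∨ Nonempty (S ≃* Matrix.SpecialLinearGroup (Fin 2) F)) : Cfsg.degreePrimes S = {r : ℕ | r.Prime ∧ r ∣ q * (q ^ 2 - 1)} ∧ ∀ r s : ℕ, (Cfsg.degreeGraph S).Adj r s ↔ (r ≠ s ∧ r.Prime ∧ s.Prime ∧ r ∣ q ^ 2 - 1 ∧ s ∣ q ^ 2 - 1 ∧ (r = 2 ∨ s = 2 ∨ (r ∣ q + 1 ∧ s ∣ q + 1) ∨ (r ∣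 q - 1 ∧ s ∣ q - 1))) := by
  classical
  have htp : t.Prime := Fact.out
  obtain ⟨k, -, hk⟩ := FiniteField.card F t
  subst hq
  have hs := QuotientGroup.mk'_surjective (Subgroup.center (Matrix.SpecialLinearGroup (Fin 2) F))
  rcases hS with ⟨⟨e⟩⟩ | ⟨⟨e⟩⟩
  · have ex : ∀ d, (d = Fintype.card F ∨ d = Fintype.card F + 1 ∨ d = Fintype.card F - 1) →
        d ∈ charDegrees S := by
      intro d hd
      obtain ⟨χ, hχ, h1, h2⟩ := exists_deg h5 d hd
      obtain ⟨ψ, hψ⟩ := (mem_range_inflateIrr _ hs ⟨χ, hχ⟩).2 (by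
        intro n hn
        rw [QuotientGroup.ker_mk'] at hn
        exact h2 n hn)
      rw [degs_congr e]
      exact ⟨ψ, by rw [← charDegree_inflateIrr _ hs, hψ, charDegree_eq_of_one_eq h1]⟩
    refine arith htp ht k.ne_zero hk ?_ (ex _ (by simp)) (ex _ (by simp)) (ex _ (by simp))
    rw [degs_congr e]
    rintro _ ⟨χ, rfl⟩
    rw [← charDegree_inflateIrr _ hs]
    exact deg_cases (inflateIrr _ hs χ).2
  · have ex : ∀ d, (d = Fintype.card F ∨ d = Fintype.card F + 1 ∨ d = Fintype.card F - 1) →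
        d ∈ charDegrees S := by
      intro d hd
      obtain ⟨χ, hχ, h1, -⟩ := exists_deg h5 d hd
      rw [degs_congr e]
      exact ⟨⟨χ, hχ⟩, charDegree_eq_of_one_eq h1⟩
    refine arith htp ht k.ne_zero hk ?_ (ex _ (by simp)) (ex _ (by simp)) (ex _ (by simp))
    rw [degs_congr e]
    rintro _ ⟨χ, rfl⟩
    exact deg_cases χ.2

end Cfsg.Agent.S4774
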