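import Cfsg.Statements.S4775
import Mathlib
import Cfsg.Agent.Chev.SzDeg
import Cfsg.Agent.Chev.SzLie

set_option autoImplicit false
open Cfsg

namespace Cfsg.Agent.S4775

theorem aux {a b c n m : ℕ} (hm : 1 ≤ m) {r : ℕ} (hr : r.Prime) :
    (r ∣ 1 ↔ False) ∧ (r ∣ (2 ^ (n + 1)) ^ 2 ↔ r = 2) ∧ (r ∣ c * b ↔ r ∣ c ∨ r ∣ b) ∧
      (r ∣ a * b ↔ r ∣ a ∨ r ∣ b) ∧ (r ∣ a * c ↔ r ∣ a ∨ r ∣ c) ∧ (r ∣ a * 2 ^ m ↔ r ∣ a ∨ r = 2) ∧
      (r ∣ a * (c * b) ↔ r ∣ a ∨ r ∣ c ∨ r ∣ b) := by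
  have h : ∀ k, k ≠ 0 → (r ∣ 2 ^ k ↔ r = 2) := fun k hk => by
    rw [hr.prime.dvd_pow_iff_dvd hk, Nat.prime_dvd_prime_iff_eq hr Nat.prime_two]
  refine ⟨by simpa using hr.one_lt.ne', ?_, hr.dvd_mul, hr.dvd_mul, hr.dvd_mul, ?_, ?_⟩
  · rw [← pow_mul, h _ (by omega)]
  · rw [hr.dvd_mul, h _ (by omega)]
  · rw [hr.dvd_mul, hr.dvd_mul]

/-- Let F be a finite field with q = 2^(2m+1) ≥ 8 elements and let S be isomorphic to the Suzuki group over F. Then the vertices of the character degree graph of S are 2 and the primes dividing (q − 1)(q² + 1); the primes dividing (q − 1)(q² + 1) are pairwise adjacent, and 2 is adjacent exactly to the primes dividing q − 1. -/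
theorem result (F : Type*) [Field F] [Fintype F] (m : ℕ) (hm : 1 ≤ m) (q : ℕ) (hq : Fintype.card F = q) (hqm : q = 2 ^ (2 * m + 1)) {S : Type*} [Group S] [Finite S] (hS : Nonempty (S ≃* ↥(Cfsg.Lie.Sz F (2 ^ (m + 1))))) : Cfsg.degreePrimes S = {r : ℕ | r.Prime ∧ (r = 2 ∨ r ∣ (q - 1) * (q ^ 2 + 1))} ∧ ∀ r s : ℕ, (Cfsg.degreeGraph S).Adj r s ↔ (r ≠ s ∧ r.Prime ∧ s.Prime ∧ ((r ∣ (q - 1) * (q ^ 2 + 1) ∧ s ∣ (q - 1) * (q ^ 2 + 1)) ∨ (r = 2 ∧ s ∣ q - 1) ∨ (s = 2 ∧ r ∣ q - 1))) := by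
  subst hqm
  have hF' := Chev.SzField.of_fintype hm hq
  obtain ⟨e⟩ := hS
  have hD := Chev.Suz.charDegrees_eq F
  rw [Chev.charDegrees_congr ((Chev.Suz.lieEquiv F).trans e.symm), Chev.Suz.q_sq_add_one_eq m] at hD
  rw [Chev.Suz.q_sq_add_one_eq m]
  have ha : ¬ 2 ∣ 2 ^ (2 * m + 1) - 1 := by
    have : 1 ≤ 2 ^ (2 * m) := Nat.one_le_two_pow
    omega
  have hb : ¬ 2 ∣ 2 ^ (2 * m + 1) - 2 ^ (m + 1) + 1 := by
    have : 2 ^ m ≤ 2 ^ (2 * m) := Nat.pow_le_pow_right two_pos (by omega)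
    omega
  have hc : ¬ 2 ∣ 2 ^ (2 * m + 1) + 2 ^ (m + 1) + 1 := by omega
  generalize 2 ^ (2 * m + 1) - 1 = a, 2 ^ (2 * m + 1) - 2 ^ (m + 1) + 1 = b,
    2 ^ (2 * m + 1) + 2 ^ (m + 1) + 1 = c at hD ha hb hc ⊢
  constructor
  · ext r
    simp only [Cfsg.degreePrimes, hD, Set.mem_ofPred_eq, Set.mem_insert_iff, Set.mem_singleton_iff,
      exists_eq_or_imp, exists_eq_left, and_congr_right_iff]
    intro hr
    obtain ⟨h1, h2, h3, h4, h5, h6, h7⟩ := aux (a := a) (b := b) (c := c) (n := 2 * m) hm hr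
    rw [h1, h2, h3, h4, h5, h6, h7]
    clear * -
    grind
  · intro r s
    simp only [Cfsg.degreeGraph, hD, Set.mem_insert_iff, Set.mem_singleton_iff,
      exists_eq_or_imp, exists_eq_left, and_congr_right_iff]
    intro hrs hr hs
    have hd : ∀ d, r * s ∣ d ↔ r ∣ d ∧ s ∣ d := fun d =>
      ⟨fun h => ⟨dvd_of_mul_right_dvd h, dvd_of_mul_left_dvd h⟩, fun h =>
        ((Nat.coprime_primes hr hs).2 hrs).mul_dvd_of_dvd_of_dvd h.1 h.2⟩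
    obtain ⟨h1, h2, h3, h4, h5, h6, h7⟩ := aux (a := a) (b := b) (c := c) (n := 2 * m) hm hr
    obtain ⟨k1, k2, k3, k4, k5, k6, k7⟩ := aux (a := a) (b := b) (c := c) (n := 2 * m) hm hs
    simp only [hd, h1, h2, h3, h4, h5, h6, h7, k1, k2, k3, k4, k5, k6, k7]
    clear * - ha hb hc hrs
    grind

end Cfsg.Agent.S4775
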