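import Cfsg.Statements.S3699
import Mathlib
import Cfsg.Agent.CIT.SpecPG
import Cfsg.Agent.CIT.SpecM10
import Cfsg.Agent.CIT.General

set_option autoImplicit false
open Cfsg

namespace Cfsg.Agent.S3699

/-- Let `q = 2^(2m+1) ≥ 8` and `S = Sz(q)` the Suzuki group. If a finite group `G` has the same prime graph as `S` (same prime divisors of the order; for distinct primes `r, s` an element of order `rs` in one iff in the other), then `G/O₂(G)` is isomorphic to `S`. The known proof uses the classification of finite simple groups. -/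
theorem result {F : Type*} [Field F] [Fintype F] (m : ℕ) (hm : 1 ≤ m)
    (hF : Fintype.card F = 2 ^ (2 * m + 1)) {G : Type*} [Group G] [Finite G]
    (h : ((∀ r : ℕ, r.Prime → (r ∣ Nat.card ↥(Cfsg.Lie.Sz F (2 ^ (m + 1))) ↔ r ∣ Nat.card G)) ∧
      (∀ r s : ℕ, r.Prime → s.Prime → r ≠ s → ((∃ x : ↥(Cfsg.Lie.Sz F (2 ^ (m + 1))), orderOf x = r * s) ↔ (∃ y : G, orderOf y = r * s))))) :
    Nonempty (G ⧸ Cfsg.pCore 2 G ≃* ↥(Cfsg.Lie.Sz F (2 ^ (m + 1)))) := by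
  obtain ⟨h1, h2⟩ := h
  have hΩ := CIT.mem_Ω_Sz hm hF
  have hadj : ∀ r s : ℕ, r.Prime → s.Prime → r ≠ s → r * s ∈ CIT.Ω G →
      r * s ∣ 4 ∨ r * s ∣ 2 ^ (2 * m + 1) - 1 ∨ r * s ∣ (2 ^ (2 * m + 1)) ^ 2 + 1 := by
    intro r s hr hs hrs hx
    rcases (hΩ _).1 ((h2 r s hr hs hrs).2 hx) with h | h | h | h
    · exact Or.inl h
    · exact Or.inr (Or.inl h)
    · exact Or.inr (Or.inr (h.trans (Chev.Suz.plus_dvd m)))
    · exact Or.inr (Or.inr (h.trans (Chev.Suz.minus_dvd m)))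
  have o1 := CIT.odd_two_pow_sub_one (n := 2 * m + 1) (by omega)
  have o2 := Chev.Suz.odd_q_sq_add_one m
  have h2r : ∀ r : ℕ, r.Prime → r ≠ 2 → 2 * r ∉ CIT.Ω G := by
    intro r hr hr2 hx
    rcases hadj 2 r Nat.prime_two hr hr2.symm hx with h | h | h
    · exact hr2 ((Nat.prime_dvd_prime_iff_eq hr Nat.prime_two).1
        (Nat.dvd_of_mul_dvd_mul_left two_pos h))
    · exact CIT.ne_two_of_dvd_odd ((dvd_mul_right _ _).trans h) o1 rfl
    · exact CIT.ne_two_of_dvd_odd ((dvd_mul_right _ _).trans h) o2 rfl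
  have hcit := CIT.isCIT_of_Ω h2r
  have hcard := CIT.card_lieSz hm hF
  have hmem : ∀ r : ℕ, r.Prime → r ∣ Nat.card (Lie.Sz F (2 ^ (m + 1))) → r ∈ CIT.Ω G :=
    fun r hr hd => (CIT.prime_mem_Ω hr).2 ((h1 r hr).1 hd)
  have h8 : 2 ^ 3 ≤ 2 ^ (2 * m + 1) := Nat.pow_le_pow_right (by norm_num) (by omega)
  obtain ⟨a, ha, hda⟩ := Nat.exists_prime_and_dvd (n := 2 ^ (2 * m + 1) - 1) (by omega)
  have h5 := CIT.five_dvd_q_sq_add_one m
  have hcop := Chev.Suz.coprime_sub_one m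
  have ha2 := CIT.ne_two_of_dvd_odd hda o1
  have hn : ∀ r : ℕ, r.Prime → r ∣ (2 ^ (2 * m + 1)) ^ 2 + 1 → r ∣ 2 ^ (2 * m + 1) - 1 → False :=
    fun r hr d1 d2 => hr.one_lt.ne' (Nat.eq_one_of_dvd_coprimes hcop d1 d2)
  have ha5 : a ≠ 5 := by rintro rfl; exact hn 5 ha h5 hda
  have hns : ¬ Group.IsSolvable G := by
    refine CIT.not_isSolvable_of_coclique Nat.prime_two ha Nat.prime_five ha2.symm (by norm_num) ha5
      (hmem _ Nat.prime_two ?_) (hmem _ ha ?_) (hmem _ Nat.prime_five ?_) (h2r _ ha ha2)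
      (h2r _ Nat.prime_five (by norm_num)) fun hx => ?_
    · rw [hcard, pow_succ 2, mul_pow]
      exact ((((by norm_num : 2 ∣ 2 ^ 2).mul_left _).mul_right _).mul_right _)
    · exact hcard ▸ hda.mul_left _
    · exact hcard ▸ (h5.mul_left _).mul_right _
    · rcases hadj a 5 ha Nat.prime_five ha5 hx with h | h | h
      · exact absurd ((dvd_mul_left _ _).trans h) (by norm_num)
      · exact hn 5 Nat.prime_five h5 ((dvd_mul_left _ _).trans h)
      · exact hn a ha ((dvd_mul_right _ _).trans h) hda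
  have h3 : ¬ 3 ∣ Nat.card G := fun h => CIT.not_three_dvd_lieSz hm hF ((h1 3 Nat.prime_three).2 h)
  have key : ∀ (H : Type _) [Group H], (∀ r : ℕ, r.Prime → r ≠ 2 → (r ∣ Nat.card H ↔ r ∣ Nat.card G)) →
      Lie.IsoSuzuki H → Nonempty (H ≃* Lie.Sz F (2 ^ (m + 1))) := by
    rintro H _ hH ⟨K, _, _, k, hk, hK, ⟨e⟩⟩
    rw [Nat.card_congr e.toEquiv, CIT.card_lieSz hk hK] at hH
    have d1 := CIT.sz_dvd_of_primes (m := m) (k := k) fun r hr hr2 hd =>
      (hH r hr hr2).2 ((h1 r hr).1 (hcard ▸ hd))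
    have d2 := CIT.sz_dvd_of_primes (m := k) (k := m) fun r hr hr2 hd =>
      hcard ▸ (h1 r hr).2 ((hH r hr hr2).1 hd)
    obtain rfl : k = m := by
      have := Nat.dvd_antisymm d1 d2
      omega
    obtain ⟨f⟩ := CIT.nonempty_lieSz_equiv hm hK hF
    exact ⟨e.trans f⟩
  rcases CIT.cit_general hns hcit with
    (h | h | h | h | h) | ⟨N, hn, hN, hL⟩ | ⟨Q, _, hQ, -, h | h⟩
  · obtain ⟨K, _, _, -, -, -, ⟨e⟩⟩ := h
    exact absurd (Nat.card_congr e.toEquiv ▸ CIT.three_dvd_card_PSL2 K) h3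
  · obtain ⟨e⟩ := key G (fun _ _ _ => Iff.rfl) h
    haveI := CIT.isSimpleGroup_lieSz hm hF
    haveI : IsSimpleGroup G := e.isSimpleGroup
    obtain ⟨f⟩ := CIT.nonempty_quot_pCore hns 2
    exact ⟨f.trans e⟩
  · obtain ⟨K, _, _, -, -, -, ⟨e⟩⟩ := h
    exact absurd (Nat.card_congr e.toEquiv ▸ CIT.three_dvd_card_PSL2 K) h3
  · obtain ⟨K, _, _, -, ⟨e⟩⟩ := h
    exact absurd (Nat.card_congr e.toEquiv ▸ CIT.three_dvd_card_PSL2 K) h3
  · obtain ⟨K, _, _, hK, ⟨e⟩⟩ := h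
    rw [Nat.card_congr e.toEquiv, CIT.card_L3_four hK] at h3
    exact absurd (by norm_num) h3
  · rw [CIT.card_of_index_two N hN hL] at h3
    exact absurd (by norm_num) h3
  · obtain ⟨K, _, _, -, -, -, ⟨e⟩⟩ := h
    exact absurd ((Nat.card_congr e.toEquiv ▸ CIT.three_dvd_card_PSL2 K).trans
      (Subgroup.card_quotient_dvd_card Q)) h3
  · subst hQ
    exact key _ (fun r hr hr2 => CIT.prime_dvd_quot_iff _ (Grp.pCore_isPGroup 2 G) hr hr2) h

end Cfsg.Agent.S3699
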