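import Cfsg.Statements.S3700
import Mathlib
import Cfsg.Agent.CIT.SpecPG
import Cfsg.Agent.CIT.SpecM10
import Cfsg.Agent.CIT.General
import Cfsg.Agent.Class.FieldTransport

set_option autoImplicit false
open Cfsg

namespace Cfsg.Agent.S3700

theorem card_even {F : Type*} [Field F] [Fintype F] {n : ℕ} (hn : 1 ≤ n) (hF : Fintype.card F = 2 ^ n) :
    Nat.card (Matrix.ProjectiveSpecialLinearGroup (Fin 2) F) = 2 ^ n * (2 ^ (2 * n) - 1) := by
  rw [CIT.card_PSL2_of_card hF, (CIT.odd_two_pow_sub_one (n := n) (by omega)).coprime_two_left,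
    Nat.div_one, ← pow_mul, mul_comm n 2]

theorem odd_dvd_iff {r n k : ℕ} (hr : r.Prime) (h2 : r ≠ 2) : r ∣ 2 ^ n * k ↔ r ∣ k :=
  ⟨fun h => ((Nat.Prime.dvd_mul hr).1 h).resolve_left fun h =>
    h2 ((Nat.prime_dvd_prime_iff_eq hr Nat.prime_two).1 (hr.dvd_of_dvd_pow h)), fun h => h.mul_left _⟩

theorem not_small {m N : ℕ} (hm : 4 ≤ m) (hN : ∀ r : ℕ, r.Prime → r ≠ 2 → r ∣ 2 ^ (2 * m) - 1 → r ∣ N)
    (h : N ∣ 2 ^ 6 * (3 ^ 2 * (5 * 7))) : False := by
  obtain ⟨r, hr⟩ := CIT.exists_ppd (n := 2 * m) (by omega) (by omega)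
  have h2 := CIT.ne_two_of_dvd_odd hr.2.1 (CIT.odd_two_pow_sub_one (by omega))
  have h3 := (odd_dvd_iff hr.1 h2).1 ((hN r hr.1 h2 hr.2.1).trans h)
  rcases (Nat.Prime.dvd_mul hr.1).1 h3 with h3 | h3
  · exact hr.2.2 2 (by norm_num) (by omega) (hr.1.dvd_of_dvd_pow h3)
  · rcases (Nat.Prime.dvd_mul hr.1).1 h3 with h3 | h3
    · exact hr.2.2 4 (by norm_num) (by omega) (h3.trans (by norm_num))
    · exact hr.2.2 3 (by norm_num) (by omega) h3

theorem not_prime_case {m p k : ℕ} (hm : 4 ≤ m) (hp : p.Prime) (h7 : 7 ≤ p)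
    (hk : p = 2 ^ k + 1 ∨ p + 1 = 2 ^ k)
    (h : ∀ r : ℕ, r.Prime → r ≠ 2 → (r ∣ 2 ^ (2 * m) - 1 ↔ r ∣ p * (p ^ 2 - 1) / 2)) : False := by
  obtain ⟨j, rfl⟩ : ∃ j, k = j + 1 := by
    rcases k with _ | k
    · omega
    · exact ⟨k, rfl⟩
  have hpos : 0 < 2 ^ j := by positivity
  have hj : 0 < j := by
    rcases j with _ | j
    · omega
    · omega
  have hcop := CIT.coprime_two_pow_add_sub (n := j + 1) (by omega)
  have e0 : p ^ 2 - 1 = (p + 1) * (p - 1) := by rw [← Nat.sq_sub_sq, one_pow]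
  rcases hk with hk | hk
  · have e1 : p * (p ^ 2 - 1) / 2 = 2 ^ (j + 1) * (p * (2 ^ j + 1)) := by
      rw [e0, show p + 1 = 2 * (2 ^ j + 1) by rw [hk, pow_succ]; ring, show p - 1 = 2 ^ (j + 1) by omega]
      apply Nat.div_eq_of_eq_mul_right two_pos
      ring
    simp only [e1] at h
    have d1 := CIT.dvd_of_fermat (by omega) (hk ▸ (h p hp (by omega)).2 ((dvd_mul_right _ _).mul_left _))
    have d2 : 2 ^ (j + 1) - 1 ∣ 2 ^ (2 * m) - 1 :=
      Nat.pow_sub_one_dvd_pow_sub_one 2 ((dvd_mul_left _ _).trans d1)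
    obtain ⟨i, hi⟩ := CIT.eq_pow_of_forall_prime (n := 2 ^ (j + 1) - 1) (p := 3)
      (by rw [pow_succ]; omega) fun r hr hd => by
        have h2 := CIT.ne_two_of_dvd_odd hd (CIT.odd_two_pow_sub_one (by omega))
        have h3 := (odd_dvd_iff hr h2).1 ((h r hr h2).1 (hd.trans d2))
        have h4 := ((Nat.Prime.dvd_mul hr).1 h3).resolve_left fun h4 =>
          hr.one_lt.ne' (Nat.eq_one_of_dvd_coprimes hcop (hk ▸ h4) hd)
        have h5 := Nat.dvd_sub (h4.mul_left 2) hd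
        rw [show 2 * (2 ^ j + 1) - (2 ^ (j + 1) - 1) = 3 by rw [pow_succ]; omega] at h5
        exact (Nat.prime_dvd_prime_iff_eq hr Nat.prime_three).1 h5
    have := CIT.le_two_of_two_pow_eq (n := j + 1) (k := i) (by omega)
    obtain rfl : j = 1 := by omega
    omega
  · have e1 : p * (p ^ 2 - 1) / 2 = 2 ^ (j + 1) * (p * (2 ^ j - 1)) := by
      rw [e0, show p - 1 = 2 * (2 ^ j - 1) by rw [pow_succ] at hk; omega, hk]
      apply Nat.div_eq_of_eq_mul_right two_pos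
      ring
    have hk' : p = 2 ^ (j + 1) - 1 := by omega
    have hodd : Odd (j + 1) := by
      by_contra h2
      have := CIT.three_dvd_two_pow_sub_one (Nat.not_odd_iff_even.1 h2)
      rw [← hk', Nat.prime_dvd_prime_iff_eq Nat.prime_three hp] at this
      omega
    have h' := h
    simp only [e1] at h
    have d1 := CIT.dvd_of_mersenne (hk' ▸ (h p hp (by omega)).2 ((dvd_mul_right _ _).mul_left _))
    have d1' : j + 1 ∣ m := hodd.coprime_two_right.dvd_of_dvd_mul_left d1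
    have d2 : 2 ^ (j + 1) + 1 ∣ 2 ^ (2 * m) - 1 := by
      refine Dvd.dvd.trans ?_ (Nat.pow_sub_one_dvd_pow_sub_one 2 (Nat.mul_dvd_mul_left 2 d1'))
      rw [CIT.two_pow_two_mul_sub_one]
      exact dvd_mul_right _ _
    obtain ⟨i, hi⟩ := CIT.eq_pow_of_forall_prime (n := 2 ^ (j + 1) + 1) (p := 3)
      (by omega) fun r hr hd => by
        have h2 := CIT.ne_two_of_dvd_odd hd (CIT.odd_two_pow_add_one (by omega))
        have h3 := (odd_dvd_iff hr h2).1 ((h r hr h2).1 (hd.trans d2))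
        have h4 := ((Nat.Prime.dvd_mul hr).1 h3).resolve_left fun h4 =>
          hr.one_lt.ne' (Nat.eq_one_of_dvd_coprimes hcop hd (hk' ▸ h4))
        have h5 := Nat.dvd_sub hd (h4.mul_left 2)
        rw [show 2 ^ (j + 1) + 1 - 2 * (2 ^ j - 1) = 3 by rw [pow_succ]; omega] at h5
        exact (Nat.prime_dvd_prime_iff_eq hr Nat.prime_three).1 h5
    rcases CIT.eq_of_two_pow_add_one_eq hi with h1 | h1
    · omega
    · obtain rfl : j = 2 := by omega
      obtain rfl : p = 7 := by omega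
      exact not_small hm (fun r hr h2 hd => (h' r hr h2).1 hd) (by norm_num)

/-- Let `F` be a finite field with `2^m` elements, `m ≥ 4`. If a finite group `G` has the same prime graph as `PSL(2, F)` (same prime divisors of the order; for distinct primes `r, s` an element of order `rs` in one iff in the other), then `G/O₂(G)` is isomorphic to `PSL(2, F)`. The known proof uses the classification of finite simple groups. -/
theorem result {F : Type*} [Field F] [Fintype F] (m : ℕ) (hm : 4 ≤ m)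
    (hF : Fintype.card F = 2 ^ m) {G : Type*} [Group G] [Finite G]
    (h : ((∀ r : ℕ, r.Prime → (r ∣ Nat.card (Matrix.ProjectiveSpecialLinearGroup (Fin 2) F) ↔ r ∣ Nat.card G)) ∧
      (∀ r s : ℕ, r.Prime → s.Prime → r ≠ s → ((∃ x : (Matrix.ProjectiveSpecialLinearGroup (Fin 2) F), orderOf x = r * s) ↔ (∃ y : G, orderOf y = r * s))))) :
    Nonempty (G ⧸ Cfsg.pCore 2 G ≃* Matrix.ProjectiveSpecialLinearGroup (Fin 2) F) := by
  obtain ⟨h1, h2⟩ := h
  have hΩ := CIT.mem_Ω_L2_even (by omega) hF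
  have hadj : ∀ r s : ℕ, r.Prime → s.Prime → r ≠ s → r * s ∈ CIT.Ω G →
      r * s ∣ 2 ∨ r * s ∣ 2 ^ m - 1 ∨ r * s ∣ 2 ^ m + 1 :=
    fun r s hr hs hrs hx => (hΩ _).1 ((h2 r s hr hs hrs).2 hx)
  have o1 := CIT.odd_two_pow_sub_one (n := m) (by omega)
  have o2 := CIT.odd_two_pow_add_one (n := m) (by omega)
  have h2r : ∀ r : ℕ, r.Prime → r ≠ 2 → 2 * r ∉ CIT.Ω G := by
    intro r hr hr2 hx
    rcases hadj 2 r Nat.prime_two hr hr2.symm hx with h | h | h
    · have := Nat.le_of_dvd two_pos h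
      have := hr.two_le
      omega
    · exact CIT.ne_two_of_dvd_odd ((dvd_mul_right _ _).trans h) o1 rfl
    · exact CIT.ne_two_of_dvd_odd ((dvd_mul_right _ _).trans h) o2 rfl
  have hcit := CIT.isCIT_of_Ω h2r
  have hcard := card_even (by omega) hF
  have hodd : ∀ r : ℕ, r.Prime → r ≠ 2 → (r ∣ 2 ^ (2 * m) - 1 ↔ r ∣ Nat.card G) := fun r hr hr2 => by
    rw [← h1 r hr, hcard, odd_dvd_iff hr hr2]
  have h8 : 2 ^ 4 ≤ 2 ^ m := Nat.pow_le_pow_right (by norm_num) hm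
  obtain ⟨a, ha, hda⟩ := Nat.exists_prime_and_dvd (n := 2 ^ m - 1) (by omega)
  obtain ⟨b, hb, hdb⟩ := Nat.exists_prime_and_dvd (n := 2 ^ m + 1) (by omega)
  have hcop := CIT.coprime_two_pow_add_sub (n := m) (by omega)
  have ha2 := CIT.ne_two_of_dvd_odd hda o1
  have hb2 := CIT.ne_two_of_dvd_odd hdb o2
  have hn : ∀ r : ℕ, r.Prime → r ∣ 2 ^ m + 1 → r ∣ 2 ^ m - 1 → False :=
    fun r hr d1 d2 => hr.one_lt.ne' (Nat.eq_one_of_dvd_coprimes hcop d1 d2)
  have hab : a ≠ b := by rintro rfl; exact hn a ha hdb hda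
  have hns : ¬ Group.IsSolvable G := by
    refine CIT.not_isSolvable_of_coclique Nat.prime_two ha hb ha2.symm hb2.symm hab
      ((CIT.prime_mem_Ω Nat.prime_two).2 ((h1 _ Nat.prime_two).1 ?_))
      ((CIT.prime_mem_Ω ha).2 ((hodd _ ha ha2).1 ?_))
      ((CIT.prime_mem_Ω hb).2 ((hodd _ hb hb2).1 ?_)) (h2r _ ha ha2) (h2r _ hb hb2) fun hx => ?_
    · rw [hcard]
      exact (dvd_pow_self 2 (by omega)).mul_right _
    · exact CIT.two_pow_two_mul_sub_one m ▸ hda.mul_left _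
    · exact CIT.two_pow_two_mul_sub_one m ▸ hdb.mul_right _
    · rcases hadj a b ha hb hab hx with h | h | h
      · exact ha2 ((Nat.prime_dvd_prime_iff_eq ha Nat.prime_two).1 ((dvd_mul_right _ _).trans h))
      · exact hn b hb hdb ((dvd_mul_left _ _).trans h)
      · exact hn a ha ((dvd_mul_right _ _).trans h) hda
  have h3 : 3 ∣ Nat.card G := (h1 3 Nat.prime_three).1 (CIT.three_dvd_card_PSL2 F)
  have key : ∀ (H : Type _) [Group H], (∀ r : ℕ, r.Prime → r ≠ 2 → (r ∣ Nat.card H ↔ r ∣ Nat.card G)) →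
      CIT.IsL2Even H → Nonempty (H ≃* Matrix.ProjectiveSpecialLinearGroup (Fin 2) F) := by
    rintro H _ hH ⟨K, _, _, k, hk, hK, ⟨e⟩⟩
    rw [Nat.card_congr e.toEquiv, card_even (by omega) hK] at hH
    obtain ⟨r, hr⟩ := CIT.exists_ppd (n := 2 * m) (by omega) (by omega)
    have hr2 := CIT.ne_two_of_dvd_odd hr.2.1 (CIT.odd_two_pow_sub_one (by omega))
    have d1 := CIT.ppd_dvd (by omega) hr
      ((odd_dvd_iff hr.1 hr2).1 ((hH r hr.1 hr2).2 ((hodd r hr.1 hr2).1 hr.2.1)))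
    have := Nat.le_of_dvd (by omega) d1
    obtain ⟨s, hs⟩ := CIT.exists_ppd (n := 2 * k) (by omega) (by omega)
    have hs2 := CIT.ne_two_of_dvd_odd hs.2.1 (CIT.odd_two_pow_sub_one (by omega))
    have d2 := CIT.ppd_dvd (by omega) hs
      ((hodd s hs.1 hs2).2 ((hH s hs.1 hs2).1 (hs.2.1.mul_left _)))
    obtain rfl : k = m := by
      have := Nat.dvd_antisymm d1 d2
      omega
    exact ⟨e.trans (Class.pslCongr (Fin 2) (FiniteField.ringEquivOfCardEq (hK.trans hF.symm)))⟩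
  have hsm : ∀ N : ℕ, Nat.card G = N → ¬ N ∣ 2 ^ 6 * (3 ^ 2 * (5 * 7)) := fun N hN hd =>
    not_small hm (fun r hr hr2 h => hN ▸ (hodd r hr hr2).1 h) hd
  rcases CIT.cit_general hns hcit with
    (h | h | h | h | h) | ⟨N, hn, hN, hL⟩ | ⟨Q, _, hQ, -, h | h⟩
  · obtain ⟨e⟩ := key G (fun _ _ _ => Iff.rfl) h
    haveI := Matrix.ProjectiveSpecialLinearGroup.rank_two_simple (F := F)
      (by rw [Nat.card_eq_fintype_card, hF]; omega)
    haveI : IsSimpleGroup G := e.isSimpleGroup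
    obtain ⟨f⟩ := CIT.nonempty_quot_pCore hns 2
    exact ⟨f.trans e⟩
  · obtain ⟨K, _, _, k, hk, hK, ⟨e⟩⟩ := h
    exact absurd (Nat.card_congr e.toEquiv ▸ h3) (CIT.not_three_dvd_lieSz hk hK)
  · obtain ⟨K, _, _, hp, h7, ⟨k, hk⟩, ⟨e⟩⟩ := h
    refine (not_prime_case hm hp h7 hk fun r hr hr2 => ?_).elim
    obtain ⟨j, hj⟩ := hp.odd_of_ne_two (by omega)
    rw [hodd r hr hr2, Nat.card_congr e.toEquiv, CIT.card_PSL2_of_card rfl,
      show Nat.gcd 2 (Fintype.card K - 1) = 2 by rw [hj]; simp]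
  · obtain ⟨K, _, _, hK, ⟨e⟩⟩ := h
    exact absurd (by norm_num) (hsm _ ((Nat.card_congr e.toEquiv).trans (CIT.card_PSL2_of_card hK)))
  · obtain ⟨K, _, _, hK, ⟨e⟩⟩ := h
    exact absurd (by norm_num) (hsm _ ((Nat.card_congr e.toEquiv).trans (CIT.card_L3_four hK)))
  · exact absurd (by norm_num) (hsm _ (CIT.card_of_index_two N hN hL))
  · subst hQ
    exact key _ (fun r hr hr2 => CIT.prime_dvd_quot_iff _ (Grp.pCore_isPGroup 2 G) hr hr2) h
  · obtain ⟨K, _, _, k, hk, hK, ⟨e⟩⟩ := h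
    refine absurd ?_ (CIT.not_three_dvd_lieSz hk hK)
    rw [← Nat.card_congr e.toEquiv]
    exact (CIT.prime_dvd_quot_iff _ (hQ ▸ Grp.pCore_isPGroup 2 G) Nat.prime_three (by norm_num)).2 h3

end Cfsg.Agent.S3700
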