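import Cfsg.Statements.S3701
import Cfsg.Agent.Char.SplitExt
-- import your own Cfsg.Agent.* helpers here

set_option autoImplicit false
open Cfsg

namespace Cfsg.Agent.S3701

open Cfsg.Agent.Char Cfsg.Agent.Char.Euclid Subgroup

/-- the sign action -/
def act (w : W2) (v : V3) : V3 :=
  v3 ((-1) ^ (w.toAdd.1.val + w.toAdd.2.val) * v.toAdd.1) ((-1) ^ w.toAdd.1.val * v.toAdd.2.1)
    ((-1) ^ w.toAdd.2.val * v.toAdd.2.2)

/-- the three 3-cycles -/
def φ0 : V3 →* Equiv.Perm (Fin 9) :=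
  el3 (a := Equiv.swap (0 : Fin 9) 1 * Equiv.swap 1 2) (b := Equiv.swap (3 : Fin 9) 4 * Equiv.swap 4 5)
    (c := Equiv.swap (6 : Fin 9) 7 * Equiv.swap 7 8) (by decide) (by decide) (by decide)
    (by unfold Commute SemiconjBy; decide) (by unfold Commute SemiconjBy; decide)
    (by unfold Commute SemiconjBy; decide)

/-- the four-group -/
def κ0 : W2 →* Equiv.Perm (Fin 9) :=
  fourHom (a := Equiv.swap (0 : Fin 9) 1 * Equiv.swap 3 4)
    (b := Equiv.swap (0 : Fin 9) 1 * Equiv.swap 6 7) (by decide) (by decide)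
    (by unfold Commute SemiconjBy; decide)

theorem split0 : Split φ0 κ0 act (Subgroup.closure ({Equiv.swap (0 : Fin 9) 1 * Equiv.swap 1 2,
    Equiv.swap (3 : Fin 9) 4 * Equiv.swap 4 5, Equiv.swap (6 : Fin 9) 7 * Equiv.swap 7 8,
    Equiv.swap (0 : Fin 9) 1 * Equiv.swap 3 4, Equiv.swap (0 : Fin 9) 1 * Equiv.swap 6 7} :
    Set (Equiv.Perm (Fin 9)))) := by
  refine Split.of_closure ((injective_iff_map_eq_one _).2 (by decide +kernel)) (by decide +kernel)
    (by decide +kernel) ?_ (fun v => ?_) (fun w => ?_)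
  · intro x hx
    simp only [Set.mem_insert_iff, Set.mem_singleton_iff] at hx
    rcases hx with rfl | rfl | rfl | rfl | rfl
    · exact ⟨v3 1 0 0, 1, by decide +kernel⟩
    · exact ⟨v3 0 1 0, 1, by decide +kernel⟩
    · exact ⟨v3 0 0 1, 1, by decide +kernel⟩
    · exact ⟨1, Multiplicative.ofAdd (1, 0), by decide +kernel⟩
    · exact ⟨1, Multiplicative.ofAdd (0, 1), by decide +kernel⟩
  · exact mul_mem (mul_mem (pow_mem (subset_closure (by simp)) _)
      (pow_mem (subset_closure (by simp)) _)) (pow_mem (subset_closure (by simp)) _)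
  · exact mul_mem (pow_mem (subset_closure (by simp)) _) (pow_mem (subset_closure (by simp)) _)

theorem sum_aux {G : Type*} [Group G] (φ : V3 →* G) (χ : IrrCharacter G) (x y : V3) :
    ∃ n : ℕ, (χ : G → ℂ) 1 + χ.1 (φ y) + χ.1 (φ (y * y)) + (χ.1 (φ x) + χ.1 (φ (x * y)) +
      χ.1 (φ (x * (y * y)))) + (χ.1 (φ (x * x)) + χ.1 (φ (x * x * y)) +
        χ.1 (φ (x * x * (y * y)))) = 9 * n := by
  have h3 : ∀ v : V3, v ^ 3 = 1 := by decide
  obtain ⟨n, hn⟩ := exists_sum_complex (φ.comp (el2 (h3 x) (h3 y) (Commute.all _ _))) χ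
  refine ⟨n, ?_⟩
  have e0 : (0 : ZMod 3).val = 0 := rfl
  have e1 : (1 : ZMod 3).val = 1 := rfl
  have e2 : (2 : ZMod 3).val = 2 := rfl
  rw [sum_V2, show Fintype.card V2 = 9 by simp] at hn
  simp only [MonoidHom.comp_apply, el2_apply, e0, e1, e2, pow_zero, pow_one, pow_two, one_mul,
    mul_one, map_one] at hn
  exact_mod_cast hn

theorem card_le {G : Type*} [Group G] [Finite G] {H : Subgroup G} {φ : V3 →* G} {κ : W2 →* G}
    (h : Split φ κ act H) (hN : normalizer (φ.range : Set G) ≤ H)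
    (hC : ∀ t ∈ φ.range, t ≠ 1 → centralizer ({t} : Set G) ≤ H) : Nat.card G ≤ 1458 := by
  classical
  have hV : ∀ v : V3, v ^ 3 = 1 := by decide
  have hW : ∀ w : W2, w ^ 3 = 1 → w = 1 := by decide
  have hf := fun (u : V3) (hu : u ≠ 1) => h.mem_of_conj hV hW hN hC hu
  have hP := fun (u : V3) (hu : u ≠ 1) => h.isConj_iff' (hf u hu)
  have h3 : ∀ v, φ v ^ 3 = 1 := fun v => by rw [← map_pow, hV, map_one]
  have hne : ∀ v, v ≠ 1 → φ v ≠ 1 := fun v hv e => hv (h.inj (by rw [e, map_one]))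
  have q : ∀ v w, act w v = v⁻¹ → IsRat (φ v) := fun v w e =>
    isRat_of_cube (h3 v) (by rw [← map_inv, ← e]; exact h.isConj_act w v)
  have cc : ∀ (u : V3) (k m : ℕ), u ≠ 1 →
      (Finset.univ.filter fun v => ∃ w, act w u = v).card = k → k * m = 108 → 0 < k →
      Nat.card (centralizer ({φ u} : Set G)) = m := fun u k m hu hk hm h0 => by
    have := h.card_centralizer (hf u hu)
    rw [hk, show Nat.card V3 * Nat.card W2 = 108 by simp, ← hm] at this
    exact Nat.eq_of_mul_eq_mul_left h0 this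
  have cube : ∀ {x y : G}, x ^ 3 = 1 → IsConj x y → y ^ 3 = 1 := fun hx h => by
    obtain ⟨g, rfl⟩ := isConj_iff.1 h
    rw [conj_pow, hx]; simp
  have p : ∀ c, c ≠ 1 → pairs (φ (v3 1 0 0)) (φ (v3 0 1 0)) (φ c) =
      (Finset.univ.filter fun v : V3 => (∃ w, act w (v3 1 0 0) = v) ∧
        ∃ w, act w (v3 0 1 0) = v⁻¹ * c).card := fun c hc => by
    refine pairs_eq φ h.inj _ _ _ (hP _ (by decide)) (hP _ (by decide)) fun x y hx hy hxy => ?_
    refine mem_of_triangle hC (fun x hx => h.mem_range_of_pow hW hx) (cube (h3 _) hx)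
      (cube (h3 _) hy) (hxy ▸ h3 _) (hxy ▸ ⟨c, rfl⟩) (hxy ▸ hne _ hc) (Or.inl fun e => ?_)
    exact absurd ((hP _ (by decide) _).1 ((hx.trans e).trans hy.symm)) (by decide)
  have q1 := q (v3 1 0 0) (Multiplicative.ofAdd (1, 0)) (by decide)
  have q2 := q (v3 0 1 0) (Multiplicative.ofAdd (1, 0)) (by decide)
  have q3 := q (v3 0 0 1) (Multiplicative.ofAdd (0, 1)) (by decide)
  have q12 := q (v3 1 1 0) (Multiplicative.ofAdd (1, 0)) (by decide)
  have q13 := q (v3 1 0 1) (Multiplicative.ofAdd (0, 1)) (by decide)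
  have c1 := cc (v3 1 0 0) 2 54 (by decide) (by decide) rfl (by norm_num)
  have c2 := cc (v3 0 1 0) 2 54 (by decide) (by decide) rfl (by norm_num)
  have c3 := cc (v3 0 0 1) 2 54 (by decide) (by decide) rfl (by norm_num)
  have c12 := cc (v3 1 1 0) 4 27 (by decide) (by decide) rfl (by norm_num)
  have c13 := cc (v3 1 0 1) 4 27 (by decide) (by decide) rfl (by norm_num)
  have f2 := pairs_mul q1 q2 q2
  have f3 := pairs_mul q1 q2 q3
  have f12 := pairs_mul q1 q2 q12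
  have f13 := pairs_mul q1 q2 q13
  rw [p _ (by decide), c1, c2] at f2 f3 f12 f13
  rw [show (Finset.univ.filter fun v : V3 => (∃ w, act w (v3 1 0 0) = v) ∧
    ∃ w, act w (v3 0 1 0) = v⁻¹ * v3 0 1 0).card = 0 by decide] at f2
  rw [show (Finset.univ.filter fun v : V3 => (∃ w, act w (v3 1 0 0) = v) ∧
    ∃ w, act w (v3 0 1 0) = v⁻¹ * v3 0 0 1).card = 0 by decide] at f3
  rw [show (Finset.univ.filter fun v : V3 => (∃ w, act w (v3 1 0 0) = v) ∧
    ∃ w, act w (v3 0 1 0) = v⁻¹ * v3 1 1 0).card = 1 by decide] at f12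
  rw [show (Finset.univ.filter fun v : V3 => (∃ w, act w (v3 1 0 0) = v) ∧
    ∃ w, act w (v3 0 1 0) = v⁻¹ * v3 1 0 1).card = 0 by decide] at f13
  have hD : ∀ χ : IrrCharacter G, ∃ D : ℤ, iv χ (φ (v3 0 0 1)) - iv χ (φ (v3 0 1 0)) +
      iv χ (φ (v3 1 1 0)) - iv χ (φ (v3 1 0 1)) = 9 * D := fun χ => by
    obtain ⟨n, hn⟩ := sum_aux φ χ (v3 0 0 1) (v3 1 2 0)
    obtain ⟨m, hm⟩ := sum_aux φ χ (v3 0 1 0) (v3 1 0 2)
    have e : ∀ u v, (∃ w, act w u = v) → χ.1 (φ v) = χ.1 (φ u) := by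
      rintro u _ ⟨w, rfl⟩
      exact (χ.2.isClassFunction.eq_of_isConj (h.isConj_act w u)).symm
    rw [e (v3 1 1 0) (v3 1 2 0) (by decide), e (v3 1 1 0) (v3 1 2 0 * v3 1 2 0) (by decide),
      e (v3 2 2 2) (v3 0 0 1 * v3 1 2 0) (by decide),
      e (v3 2 2 2) (v3 0 0 1 * (v3 1 2 0 * v3 1 2 0)) (by decide),
      e (v3 0 0 1) (v3 0 0 1 * v3 0 0 1) (by decide),
      e (v3 1 1 1) (v3 0 0 1 * v3 0 0 1 * v3 1 2 0) (by decide),
      e (v3 1 1 1) (v3 0 0 1 * v3 0 0 1 * (v3 1 2 0 * v3 1 2 0)) (by decide), q3.cast, q12.cast] at hn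
    rw [e (v3 1 0 1) (v3 1 0 2) (by decide), e (v3 1 0 1) (v3 1 0 2 * v3 1 0 2) (by decide),
      e (v3 2 2 2) (v3 0 1 0 * v3 1 0 2) (by decide),
      e (v3 2 2 2) (v3 0 1 0 * (v3 1 0 2 * v3 1 0 2)) (by decide),
      e (v3 0 1 0) (v3 0 1 0 * v3 0 1 0) (by decide),
      e (v3 1 1 1) (v3 0 1 0 * v3 0 1 0 * v3 1 0 2) (by decide),
      e (v3 1 1 1) (v3 0 1 0 * v3 0 1 0 * (v3 1 0 2 * v3 1 0 2)) (by decide), q2.cast, q13.cast] at hm
    have h1 : ((2 * (iv χ (φ (v3 0 0 1)) - iv χ (φ (v3 0 1 0)) +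
        iv χ (φ (v3 1 1 0)) - iv χ (φ (v3 1 0 1))) : ℤ) : ℂ) = ((9 * (n - m) : ℤ) : ℂ) := by
      push_cast
      linear_combination hn - hm
    have h2 := Int.cast_injective h1
    exact (by omega : (9 : ℤ) ∣ iv χ (φ (v3 0 0 1)) - iv χ (φ (v3 0 1 0)) +
      iv χ (φ (v3 1 1 0)) - iv χ (φ (v3 1 0 1)))
  choose D hD using hD
  have o : ∀ {u v : V3}, IsRat (φ u) → IsRat (φ v) → u ≠ 1 → ¬ (∃ w, act w u = v) →
      ∑ χ, iv χ (φ u) * iv χ (φ v) = 0 := fun hu hv h1 h2 =>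
    sum_iv_of_not_isConj hu hv (by rwa [hP _ h1])
  have lin : ∀ f : IrrCharacter G → ℤ, 9 * ∑ χ, f χ * D χ = ∑ χ, f χ * iv χ (φ (v3 0 0 1)) -
      ∑ χ, f χ * iv χ (φ (v3 0 1 0)) + ∑ χ, f χ * iv χ (φ (v3 1 1 0)) -
        ∑ χ, f χ * iv χ (φ (v3 1 0 1)) := fun f => by
    rw [Finset.mul_sum, ← Finset.sum_sub_distrib, ← Finset.sum_add_distrib,
      ← Finset.sum_sub_distrib]
    exact Finset.sum_congr rfl fun χ _ => by linear_combination - f χ * hD χ
  have n1 := lin fun χ => iv χ (φ (v3 1 0 0))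
  rw [o q1 q3 (by decide) (by decide), o q1 q2 (by decide) (by decide),
    o q1 q12 (by decide) (by decide), o q1 q13 (by decide) (by decide)] at n1
  have n2 := lin fun χ => iv χ (φ (v3 0 1 0))
  rw [o q2 q3 (by decide) (by decide), sum_iv_of_isConj q2 (IsConj.refl _), c2,
    o q2 q12 (by decide) (by decide), o q2 q13 (by decide) (by decide)] at n2
  have n3 := lin fun χ => iv χ (φ (v3 0 0 1))
  rw [o q3 q2 (by decide) (by decide), sum_iv_of_isConj q3 (IsConj.refl _), c3,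
    o q3 q12 (by decide) (by decide), o q3 q13 (by decide) (by decide)] at n3
  have n12 := lin fun χ => iv χ (φ (v3 1 1 0))
  rw [o q12 q2 (by decide) (by decide), sum_iv_of_isConj q12 (IsConj.refl _), c12,
    o q12 q3 (by decide) (by decide), o q12 q13 (by decide) (by decide)] at n12
  have n13 := lin fun χ => iv χ (φ (v3 1 0 1))
  rw [o q13 q2 (by decide) (by decide), sum_iv_of_isConj q13 (IsConj.refl _), c13,
    o q13 q3 (by decide) (by decide), o q13 q12 (by decide) (by decide)] at n13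
  have n4 := lin fun χ => iv χ 1
  rw [sum_iv_one_mul q2 (hne _ (by decide)), sum_iv_one_mul q3 (hne _ (by decide)),
    sum_iv_one_mul q12 (hne _ (by decide)), sum_iv_one_mul q13 (hne _ (by decide))] at n4
  have n5 : ∑ χ, D χ ^ 2 = 2 := by
    have := lin D
    simp only [← pow_two, mul_comm (D _)] at this
    push_cast at n2 n3 n12 n13
    omega
  obtain ⟨i, j, hij, hi, hj, hd, h0⟩ :=
    exists_of_norm_two D (fun χ => iv χ 1) iv_one_pos n5 (by omega)
  rw [sum_eq_pair hij _ (fun k h1 h2 => by rw [h0 k h1 h2, mul_zero]), hi, hj] at n1 n2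
  have f5 : (Nat.card G : ℚ) * ∑ χ, (iv χ (φ (v3 1 0 0)) * iv χ (φ (v3 0 1 0)) * (9 * D χ) : ℚ) /
      iv χ 1 = 2916 := by
    have : ∀ χ, (iv χ (φ (v3 1 0 0)) * iv χ (φ (v3 0 1 0)) * (9 * D χ) : ℚ) / iv χ 1 =
        (iv χ (φ (v3 1 0 0)) * iv χ (φ (v3 0 1 0)) * iv χ (φ (v3 0 0 1)) : ℚ) / iv χ 1 -
        (iv χ (φ (v3 1 0 0)) * iv χ (φ (v3 0 1 0)) * iv χ (φ (v3 0 1 0)) : ℚ) / iv χ 1 +
        (iv χ (φ (v3 1 0 0)) * iv χ (φ (v3 0 1 0)) * iv χ (φ (v3 1 1 0)) : ℚ) / iv χ 1 -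
        (iv χ (φ (v3 1 0 0)) * iv χ (φ (v3 0 1 0)) * iv χ (φ (v3 1 0 1)) : ℚ) / iv χ 1 := by
      intro χ
      have : (9 * D χ : ℚ) = iv χ (φ (v3 0 0 1)) - iv χ (φ (v3 0 1 0)) +
        iv χ (φ (v3 1 1 0)) - iv χ (φ (v3 1 0 1)) := by exact_mod_cast (hD χ).symm
      rw [this]; ring
    simp only [this, Finset.sum_sub_distrib, Finset.sum_add_distrib, mul_sub, mul_add, ← f2, ← f3,
      ← f12, ← f13]
    norm_num
  rw [sum_eq_pair hij _ (fun k h1 h2 => by rw [h0 k h1 h2]; simp), hi, hj, ← hd] at f5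
  have hd0 : (0 : ℚ) < iv i 1 := by exact_mod_cast iv_one_pos i
  have f4 : (Nat.card G : ℤ) * iv i (φ (v3 1 0 0)) = -54 * iv i 1 := by
    have e1 : (iv j (φ (v3 0 1 0)) : ℚ) = iv i (φ (v3 0 1 0)) + 6 := by
      exact_mod_cast (by push_cast at n2; linarith : iv j (φ (v3 0 1 0)) = iv i (φ (v3 0 1 0)) + 6)
    have e2 : (iv j (φ (v3 1 0 0)) : ℚ) = iv i (φ (v3 1 0 0)) := by
      exact_mod_cast (by linarith : iv j (φ (v3 1 0 0)) = iv i (φ (v3 1 0 0)))
    rw [e1, e2] at f5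
    field_simp at f5
    have : (Nat.card G : ℚ) * iv i (φ (v3 1 0 0)) = -54 * iv i 1 := by push_cast at f5; linarith
    exact_mod_cast this
  have f6 := sq_add_sq_le_card hij
  rw [← hd] at f6
  have h1 := iv_one_pos i
  have h2 : (0 : ℤ) < Nat.card G := by exact_mod_cast Nat.card_pos
  have h4 : iv i (φ (v3 1 0 0)) ≤ -1 := by nlinarith
  have h5 : (Nat.card G : ℤ) ≤ 54 * iv i 1 := by nlinarith
  have h6 : iv i 1 ≤ 27 := by nlinarith
  omega

/-- Let H₀ ≤ Sym(9) be generated by the 3-cycles (1 2 3), (4 5 6), (7 8 9) and the involutions (1 2)(4 5), (1 2)(7 8) (a group of order 108, elementary abelian of order 27 extended by a four-group). Let G be a finite group with a subgroup H ≅ H₀, and T ≤ H of order 27 (a Sylow 3-subgroup of H) with N_G(T) = H and C_G(t) ≤ H for every t ≠ 1 in T. Then G = H. -/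
theorem result {G : Type*} [Group G] [Finite G] (H : Subgroup G)
    (hH : Nonempty (↥H ≃* ↥(Subgroup.closure ({Equiv.swap (0 : Fin 9) 1 * Equiv.swap 1 2, Equiv.swap (3 : Fin 9) 4 * Equiv.swap 4 5, Equiv.swap (6 : Fin 9) 7 * Equiv.swap 7 8,
        Equiv.swap (0 : Fin 9) 1 * Equiv.swap 3 4, Equiv.swap (0 : Fin 9) 1 * Equiv.swap 6 7} : Set (Equiv.Perm (Fin 9))))))
    (T : Subgroup G) (hTH : T ≤ H) (hT : Nat.card T = 27) (hN : Subgroup.normalizer (T : Set G) = H)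
    (hC : ∀ t ∈ T, t ≠ 1 → Subgroup.centralizer ({t} : Set G) ≤ H) : H = ⊤ := by
  obtain ⟨e⟩ := hH
  have h := split0.transport e
  generalize (H.subtype.comp e.symm.toMonoidHom).comp (φ0.codRestrict _ split0.φ_mem) = φ at h
  generalize (H.subtype.comp e.symm.toMonoidHom).comp (κ0.codRestrict _ split0.κ_mem) = κ at h
  have hTφ : T = φ.range := by
    refine eq_of_le_of_card_ge (fun t ht => h.mem_range_of_pow (n := 27) (by decide) (hTH ht) ?_) ?_
    · rw [← hT]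
      exact congrArg Subtype.val (pow_card_eq_one' (G := T) (x := ⟨t, ht⟩))
    · rw [hT, ← Nat.card_congr (MonoidHom.ofInjective h.inj).toEquiv]
      simp
  subst hTφ
  have h1 := card_le h hN.le hC
  by_contra hne
  obtain ⟨g, hg⟩ : ∃ g, g ∉ H := by
    by_contra h2
    push Not at h2
    exact hne (eq_top_iff.2 fun g _ => h2 g)
  have hV : ∀ v : V3, v ^ 3 = 1 := by decide
  have hW : ∀ w : W2, w ^ 3 = 1 → w = 1 := by decide
  have h2 := Split.card_mul_le (φ := φ) (H := H) (g := g) fun v hv => by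
    by_contra hv1
    obtain ⟨u, hu⟩ := h.mem_range_of_pow hW hv (by rw [conj_pow, ← map_pow, hV]; simp)
    exact hg (h.mem_of_conj hV hW hN.le hC hv1 g u hu.symm)
  rw [h.card, show Nat.card V3 = 27 by simp, show Nat.card W2 = 4 by simp] at h2
  omega

end Cfsg.Agent.S3701
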