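import Mathlib
import Cfsg.Statements.S3711
import Cfsg.Agent.CT.UFour2

set_option autoImplicit false
open Cfsg

namespace Cfsg.Agent.S3711

/-- Recognition of unitary groups over the field with 4 elements from a weak Phan system. Let F be a field with 4 elements and n ≥ 4. Let G be a group with subgroups U_0, …, U_{n−1}, each isomorphic to SU(2, 4), and, for consecutive indices, subgroups V_{i,i+1} in which U_i and U_{i+1} form a standard pair (via an isomorphism from SU(3, 4) or PSU(3, 4) carrying the block-diagonal subgroups, or their images, onto U_i and U_{i+1}); suppose U_i and U_j commute elementwise whenever the indices differ by at least 2, that G is generated by the U_i and the V_{i,i+1}, that for each i the subgroup generated by V_{i,i+1} and V_{i+1,i+2} is a homomorphic image of SU(4, 4), that U_i and V_{j,j+1} commute elementwise whenever i ≤ j − 2 or i ≥ j + 3, and that V_{i,i+1} and V_{k,k+1} commute elementwise whenever k ≥ i + 3. Then G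 is a homomorphic image of SU(n+1, 4). (G is not assumed finite.) -/
theorem result {G : Type*} [Group G] (n : ℕ) (hn : 4 ≤ n)
    (F : Type*) [Field F] [Fintype F] (hF : Fintype.card F = 4)
    (U : Fin n → Subgroup G) (e : ∀ i, ↥(Cfsg.SU 2 F 2) ≃* ↥(U i))
    (V : Fin n → Fin n → Subgroup G)
    (h1 : ∀ i j : Fin n, (i : ℕ) + 2 ≤ j → ∀ x ∈ U i, ∀ y ∈ U j, x * y = y * x)
    (h2 : ∀ i j : Fin n, (i : ℕ) + 1 = j → Cfsg.IsStandardUnitaryPair (V i j) (U i) (U j) F 2)
    (hgen : (⨆ i, U i) ⊔ (⨆ (i : Fin n) (j : Fin n) (_ : (i : ℕ) + 1 = j), V i j) = ⊤)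
    (h4 : ∀ i j k : Fin n, (i : ℕ) + 1 = j → (j : ℕ) + 1 = k →
      ∃ g : ↥(Cfsg.SU 4 F 2) →* ↥(V i j ⊔ V j k), Function.Surjective g)
    (h5 : ∀ i j k : Fin n, (j : ℕ) + 1 = k → ((i : ℕ) + 2 ≤ j ∨ (k : ℕ) + 2 ≤ i) →
      ∀ x ∈ U i, ∀ y ∈ V j k, x * y = y * x)
    (h6 : ∀ i j k l : Fin n, (i : ℕ) + 1 = j → (k : ℕ) + 1 = l → (j : ℕ) + 2 ≤ k →
      ∀ x ∈ V i j, ∀ y ∈ V k l, x * y = y * x) :
    ∃ f : ↥(Cfsg.SU (n + 1) F 2) →* G, Function.Surjective f := by
  have : Class.U.UF F 2 := Class.U.UF.of_card hF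
  have W := CT.U.weak_of U V h1 h2
  obtain ⟨Φ, hΦ⟩ := W.exists_hom4 (by omega) (CT.U.KK_comm W.comm (fun i j a b => by
      rw [CT.U.extU_eq U (by omega), CT.U.extV_eq V (by omega)]
      exact h5 _ _ _ rfl (Or.inl a)) (fun i j a b x hx y hy => by
      rw [CT.U.extV_eq V (by omega)] at hx
      rw [CT.U.extU_eq U (by omega)] at hy
      exact (h5 _ _ _ rfl (Or.inr a) y hy x hx).symm) fun i j a b => by
      rw [CT.U.extV_eq V (by omega), CT.U.extV_eq V (by omega : j + 1 < n)]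
      exact h6 _ _ _ _ rfl rfl a) fun i hi _ _ a b c => by
    obtain ⟨g, hg⟩ := CT.U.exists_range_of_surj h4 hi
    exact CT.U.exists_four2 a b c (W.comm i (i + 2) le_rfl hi) hg
  rw [CT.U.KK_eq_top hgen, top_le_iff] at hΦ
  exact ⟨Φ, MonoidHom.range_eq_top.1 hΦ⟩

end Cfsg.Agent.S3711
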