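import Cfsg.Statements.S3726
import Cfsg.Agent.TwoTr.Reg
import Cfsg.Agent.S1230

set_option autoImplicit false
open Cfsg

namespace Cfsg.Agent.S3726

open MulAction Subgroup Cfsg.Agent.TwoTr.R Cfsg.Agent.Perm.DoubleCount

/-- Every element interchanging two points is conjugate to `t`. -/
theorem swap_conj {G Ω : Type*} [Group G] [Finite G] [Finite Ω] [MulAction G Ω] [FaithfulSMul G Ω]
    (h2 : IsMultiplyPretransitive G Ω 2) {i : ℕ} {t : G} (ht : orderOf t = 2)
    (hti : Nat.card {x : Ω // t • x = x} = i)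
    (hC : ∀ g : G, Commute g t → g ≠ 1 → Nat.card {x : Ω // g • x = x} = i) {a b : Ω} (hab : a ≠ b)
    {s : G} (hsa : s • a = b) (hsb : s • b = a) : ∃ g : G, g⁻¹ * t * g = s := by
  classical
  obtain ⟨t1, t2⟩ := Bender.orderOf_eq_two_iff'.1 ht
  let C := centralizer ({t} : Set G)
  have := Fintype.ofFinite C
  have := Fintype.ofFinite Ω
  -- `|C| ≤ n - i`
  have hm := card_subtype_add_card_not (fun x : Ω => t • x = x)
  have hpos : 0 < Nat.card {x : Ω // ¬ t • x = x} := by
    obtain ⟨c, hc⟩ := exists_moved (Ω := Ω) t1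
    have : Nonempty {x : Ω // ¬ t • x = x} := ⟨⟨c, hc⟩⟩
    exact Nat.card_pos
  have hCle : Nat.card C ≤ Nat.card {x : Ω // ¬ t • x = x} := by
    have := Fintype.ofFinite (Quotient (orbitRel C Ω))
    have h1 := sum_card_fixedBy_eq_card_orbits_mul_card_group C Ω
    have h3 : ∀ g : C, Fintype.card (fixedBy Ω g) =
        i + if g = 1 then Nat.card {x : Ω // ¬ t • x = x} else 0 := fun g => by
      rw [← Nat.card_eq_fintype_card]
      split_ifs with h
      · subst h
        rw [fixedBy_one_eq_univ, Nat.card_univ, ← hm, hti]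
      · exact hC g (mem_centralizer_singleton_iff.1 g.2) fun e => h (Subtype.ext e)
    simp only [h3, Finset.sum_add_distrib, Finset.sum_const, Finset.card_univ, smul_eq_mul,
      Finset.sum_ite_eq', Finset.mem_univ, if_true] at h1
    rw [Nat.card_eq_fintype_card]
    refine Nat.le_of_dvd hpos ((Nat.dvd_add_right (Dvd.intro _ rfl : Fintype.card C ∣
      Fintype.card C * i)).1 ?_)
    rw [h1]
    exact Dvd.intro_left _ rfl
  let H := stabilizer G a ⊓ stabilizer G b
  have cos : ∀ {c d : Ω}, c ≠ d → Nat.card {g : G // g • a = c ∧ g • b = d} = Nat.card H :=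
    fun {c d} hcd => by
    obtain ⟨g₀, h1, h3⟩ := tt h2 hab hcd
    exact Nat.card_congr ((Equiv.mulLeft g₀⁻¹).subtypeEquiv fun g => by
      change _ ↔ (g₀⁻¹ * g) • a = a ∧ (g₀⁻¹ * g) • b = b
      rw [mul_smul, mul_smul, inv_smul_eq_iff, inv_smul_eq_iff, h1, h3])
  let Y := {g : G // g • b = t • g • a}
  have hY : Nat.card Y = Nat.card {x : Ω // ¬ t • x = x} * Nat.card H := by
    refine card_eq_mul_of_fiber (fun g : Y => (⟨g.1 • a, fun e => hab (smul_left_cancel g.1
      (e.symm.trans g.2.symm))⟩ : {x : Ω // ¬ t • x = x})) fun x => ?_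
    rw [← cos (Ne.symm x.2)]
    exact Nat.card_congr ⟨fun g => ⟨g.1.1, congrArg Subtype.val g.2, by
        rw [g.1.2]; exact congrArg (fun w => t • w.1) g.2⟩, fun g => ⟨⟨g.1, by rw [g.2.1, g.2.2]⟩, Subtype.ext g.2.1⟩,
      fun _ => rfl, fun _ => rfl⟩
  let I := {u : G // (u • a = b ∧ u • b = a) ∧ ∃ g : G, g⁻¹ * t * g = u}
  have hI : Nat.card Y ≤ Nat.card I * Nat.card C := by
    refine card_le_mul_of_fiber (fun g : Y => (⟨g.1⁻¹ * t * g.1, ⟨by
      rw [mul_smul, mul_smul, ← g.2, inv_smul_smul], by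
      rw [mul_smul, mul_smul, g.2, ← mul_smul t, t2, one_smul, inv_smul_smul]⟩, _, rfl⟩ : I))
      fun u => ?_
    obtain ⟨g₀, hg₀⟩ := u.2.2
    refine Nat.card_le_card_of_injective (fun g => (⟨g.1.1 * g₀⁻¹,
      mem_centralizer_singleton_iff.2 ?_⟩ : C)) fun g g' e =>
        Subtype.ext (Subtype.ext (mul_right_cancel (congrArg Subtype.val e)))
    have : g.1.1⁻¹ * t * g.1.1 = g₀⁻¹ * t * g₀ := (congrArg Subtype.val g.2).trans hg₀.symm
    calc g.1.1 * g₀⁻¹ * t = g.1.1 * (g₀⁻¹ * t * g₀) * g₀⁻¹ := by group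
      _ = t * (g.1.1 * g₀⁻¹) := by rw [← this]; group
  have hle : Nat.card {g : G // g • a = b ∧ g • b = a} ≤ Nat.card I := by
    rw [cos hab.symm]
    refine Nat.le_of_mul_le_mul_right ?_ (Nat.card_pos (α := C))
    calc Nat.card H * Nat.card C ≤ Nat.card H * Nat.card {x : Ω // ¬ t • x = x} :=
          Nat.mul_le_mul_left _ hCle
      _ = Nat.card Y := by rw [hY, mul_comm]
      _ ≤ _ := hI
  have hb := (Function.Injective.bijective_of_nat_card_le (f := fun u : I =>
    (⟨u.1, u.2.1⟩ : {g : G // g • a = b ∧ g • b = a}))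
    (fun u v e => Subtype.ext (congrArg (fun w => w.1) e)) hle).2
  obtain ⟨u, hu⟩ := hb ⟨s, hsa, hsb⟩
  have e : u.1 = s := congrArg Subtype.val hu
  exact e ▸ u.2.2

/-- Let a finite group G act faithfully and 2-transitively on a finite set Ω, and suppose there is an involution t of G, fixing exactly i points, such that every non-identity element of the centralizer of t also fixes exactly i points. Then G is isomorphic to PSL₂(q) for some finite field of order q, or to a Suzuki group Sz(q) (q = 2^(2m+1) ≥ 8), or G has a normal subgroup acting regularly on Ω. -/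
theorem result {G Ω : Type*} [Group G] [Finite G] [Fintype Ω] [MulAction G Ω] [FaithfulSMul G Ω]
    (h2 : MulAction.IsMultiplyPretransitive G Ω 2) (i : ℕ) (t : G) (ht : orderOf t = 2)
    (hti : Nat.card {x : Ω // t • x = x} = i)
    (hC : ∀ g : G, Commute g t → g ≠ 1 → Nat.card {x : Ω // g • x = x} = i) :
    (∃ (F : Type) (_ : Field F) (_ : Fintype F), Nonempty (G ≃* Matrix.ProjectiveSpecialLinearGroup (Fin 2) F)) ∨
    Cfsg.Lie.IsoSuzuki G ∨
    (∃ R : Subgroup G, R.Normal ∧ (∀ x y : Ω, ∃ r ∈ R, r • x = y) ∧ ∀ x : Ω, ∀ r ∈ R, r • x = x → r = 1) := by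
  by_contra hne
  push Not at hne
  obtain ⟨hn1, hn2, hn3⟩ := hne
  have hr : ¬ HasReg G Ω := fun ⟨R, h1, h3, h4⟩ => by
    obtain ⟨x, r, hr, e, h⟩ := hn3 R h1 h3
    exact h (h4 x r hr e)
  have o2 : ∀ {y : G}, orderOf y = 2 ↔ y ≠ 1 ∧ y * y = 1 := Bender.orderOf_eq_two_iff'
  obtain ⟨t1, t2⟩ := o2.1 ht
  have sw : ∀ {a b : Ω} {s : G}, a ≠ b → s • a = b → s • b = a → ∃ g : G, g⁻¹ * t * g = s :=
    fun hab ha hb => swap_conj h2 ht hti hC hab ha hb
  have sq : ∀ {a b : Ω} {s : G}, a ≠ b → s • a = b → s • b = a → s * s = 1 := fun hab ha hb => by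
    obtain ⟨g, rfl⟩ := sw hab ha hb
    calc g⁻¹ * t * g * (g⁻¹ * t * g) = g⁻¹ * (t * t) * g := by group
      _ = 1 := by rw [t2]; group
  have inv : ∀ {a b : Ω} {s x : G}, a ≠ b → s • a = b → s • b = a → x • a = a → x • b = b →
      x * s * x = s := fun {a b s x} hab ha hb hxa hxb => by
    have h1 := sq (s := x * s) hab (by rw [mul_smul, ha, hxb]) (by rw [mul_smul, hb, hxa])
    calc x * s * x = x * s * (x * s) * s := by rw [mul_assoc (x * s), mul_assoc x s s, sq hab ha hb,
          mul_one]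
      _ = s := by rw [h1, one_mul]
  have cj : ∀ {u : G}, u ≠ 1 → u * u = 1 → ∃ g : G, g⁻¹ * t * g = u := fun {u} h1 hu => by
    obtain ⟨c, hc⟩ := exists_moved (Ω := Ω) h1
    exact sw hc.symm rfl (by rw [← mul_smul, hu, one_smul])
  have fx : ∀ {u x : G}, u ≠ 1 → u * u = 1 → x * u = u * x → x ≠ 1 →
      Nat.card {c : Ω // x • c = c} = i := fun {u x} h1 hu hx hx1 => by
    obtain ⟨g, rfl⟩ := cj h1 hu
    rw [← hC (g * x * g⁻¹) (by
      change g * x * g⁻¹ * t = t * (g * x * g⁻¹)
      calc g * x * g⁻¹ * t = g * (x * (g⁻¹ * t * g)) * g⁻¹ := by group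
        _ = _ := by rw [hx]; group) (by simpa using hx1)]
    exact Nat.card_congr ((MulAction.toPerm g).subtypeEquiv fun c => by
      simp [mul_smul])
  have three : ∀ {x : G}, 2 < Nat.card {c : Ω // x • c = c} ↔
      ∃ a b c : Ω, a ≠ b ∧ a ≠ c ∧ b ≠ c ∧ x • a = a ∧ x • b = b ∧ x • c = c := fun {x} => by
    classical
    rw [Nat.card_eq_fintype_card, Fintype.two_lt_card_iff]
    exact ⟨fun ⟨a, b, c, h1, h3, h4⟩ => ⟨a, b, c, Subtype.coe_ne_coe.2 h1, Subtype.coe_ne_coe.2 h3,
      Subtype.coe_ne_coe.2 h4, a.2, b.2, c.2⟩, fun ⟨a, b, c, h1, h3, h4, ha, hb, hc⟩ =>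
      ⟨⟨a, ha⟩, ⟨b, hb⟩, ⟨c, hc⟩, Subtype.coe_ne_coe.1 h1, Subtype.coe_ne_coe.1 h3,
        Subtype.coe_ne_coe.1 h4⟩⟩
  by_cases h3 : ∀ g : G, ∀ a b c : Ω, a ≠ b → b ≠ c → a ≠ c → g • a = a → g • b = b → g • c = c →
      g = 1
  · have hZ := isZassenhaus_of_three h2 hr h3
    obtain ⟨M, hM, hM1, hMs⟩ := Perm.Zass.exists_simple_normal hZ
    obtain ⟨a, b, hab⟩ := Perm.Zass.exists_pair hZ
    obtain ⟨s, hs, hsa, hsb⟩ := Perm.Zass.two_trans_of_normal hZ M hM1 hab hab.symm
    have htM : ∀ g : G, g⁻¹ * t * g ∈ M := fun g => by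
      obtain ⟨k, rfl⟩ := sw hab hsa hsb
      have := hM.conj_mem _ hs (g⁻¹ * k)
      rwa [show g⁻¹ * k * (k⁻¹ * t * k) * (g⁻¹ * k)⁻¹ = g⁻¹ * t * g by group] at this
    obtain rfl : M = ⊤ := Perm.Zass.eq_top_of_two_le hZ M hab fun x hx => by
      obtain ⟨g, hg⟩ := sw (s := x * s) hab (by rw [mul_smul, hsa]; exact hx.2)
        (by rw [mul_smul, hsb]; exact hx.1)
      have := mul_mem (hg ▸ htM g) (inv_mem hs)
      rwa [mul_inv_cancel_right] at this
    have : IsSimpleGroup G := topEquiv.symm.isSimpleGroup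
    rcases zass_simple hZ with ⟨F, i1, i2, -, h⟩ | ⟨F, i1, i2, m, hm, hF, -, h⟩
    · exact (hn1 F i1 i2).false h.some
    · exact hn2 ⟨F, i1, i2, m, hm, hF, h⟩
  push Not at h3
  obtain ⟨x, a, b, c, hab, hbc, hac, ha, hb, hc, x1⟩ := h3
  obtain ⟨s, hsa, hsb⟩ := tt h2 hab hab.symm
  have s2 := sq hab hsa hsb
  have s1 : s ≠ 1 := by rintro rfl; exact hab (by simpa using hsa)
  have hi : 2 < i := by
    have x3 := three.2 ⟨a, b, c, hab, hac, hbc, ha, hb, hc⟩
    rcases Nat.lt_trichotomy i 1 with h | h | h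
    · -- no fixed points
      exfalso
      by_cases hev : Even (Nat.card (centralizer ({x} : Set G)))
      · obtain ⟨u, hu, u1, u2⟩ := RankOne.exists_invol_of_even hev
        rw [fx u1 u2 (mem_centralizer_singleton_iff.1 hu).symm x1] at x3
        omega
      have hsx : ∀ {p q : Ω} {w : G}, p ≠ q → w • p = q → w • q = p → x • p = p → x • q = q →
          ∀ y : Ω, x • y = y → x • w • y = w • y := fun {p q w} hpq hp hq hxp hxq y hy => by
        conv_rhs => rw [← inv hpq hp hq hxp hxq, mul_smul, mul_smul, hy]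
      let S : SubMulAction (centralizer ({x} : Set G)) Ω :=
        { carrier := {y | x • y = y}
          smul_mem' := fun g y hy => by
            change x • (g : G) • y = (g : G) • y
            rw [← mul_smul, ← mem_centralizer_singleton_iff.1 g.2, mul_smul, show x • y = y from hy] }
      have htr : IsPretransitive (centralizer ({x} : Set G)) S := by
        have key : ∀ p q r : S, p ≠ q → p ≠ r →
            ∃ g : centralizer ({x} : Set G), g • q = r := fun p q r hq hr => by
          have hq' := Subtype.coe_ne_coe.2 hq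
          have hr' := Subtype.coe_ne_coe.2 hr
          obtain ⟨v, v1, v2⟩ := tt h2 hq' hq'.symm
          obtain ⟨w, w1, w2⟩ := tt h2 hr' hr'.symm
          have e1 := inv hq' v1 v2 p.2 q.2
          have e2 := inv hr' w1 w2 p.2 r.2
          refine ⟨⟨w * v, mem_centralizer_singleton_iff.2 ?_⟩, Subtype.ext ?_⟩
          · calc w * v * x = (x * w * x) * v * x := by rw [e2]
              _ = x * (w * (x * v * x)) := by group
              _ = _ := by rw [e1]
          · change (w * v) • (q : Ω) = r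
            rw [mul_smul, v2, w1]
        refine ⟨fun q r => ?_⟩
        obtain ⟨p, hq, hr⟩ : ∃ p : S, p ≠ q ∧ p ≠ r := by
          by_contra hh
          push Not at hh
          have k : ∀ p : S, p = q ∨ p = r := fun p => (eq_or_ne p q).imp_right (hh p)
          rcases k ⟨a, ha⟩ with e1 | e1 <;> rcases k ⟨b, hb⟩ with e2 | e2 <;>
            rcases k ⟨c, hc⟩ with e3 | e3 <;>
            first
            | exact hab (congrArg Subtype.val (e1.trans e2.symm))
            | exact hac (congrArg Subtype.val (e1.trans e3.symm))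
            | exact hbc (congrArg Subtype.val (e2.trans e3.symm))
        exact key p q r hq hr
      have hodd : Odd (Nat.card S) := by
        rw [← index_stabilizer_of_transitive (centralizer ({x} : Set G)) (⟨a, ha⟩ : S)]
        exact Odd.of_dvd_nat (Nat.not_even_iff_odd.1 hev) (index_dvd_card _)
      obtain ⟨y, hy⟩ := RankOne.exists_fixed_of_involutive hodd
        (f := fun y : S => ⟨s • y.1, hsx hab hsa hsb ha hb y y.2⟩) fun y =>
          Subtype.ext (by change s • s • y.1 = y.1; rw [← mul_smul, s2, one_smul])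
      have : Nonempty {c : Ω // s • c = c} := ⟨⟨y, congrArg Subtype.val hy⟩⟩
      have h4 : 0 < Nat.card {c : Ω // s • c = c} := Nat.card_pos
      rw [fx s1 s2 rfl s1] at h4
      omega
    · exfalso
      obtain ⟨-, Q, -, hS⟩ := setup_of_unique_fix h2 hr (fun z z1 z2 => by
        obtain ⟨y, hy⟩ := Nat.card_eq_one_iff_exists.1 ((fx z1 z2 rfl z1).trans h)
        exact ⟨y, y.2, fun w hw => congrArg Subtype.val (hy ⟨w, hw⟩)⟩) s2
        (a := a) (by rw [hsa]; exact hab.symm)
      rcases RankOne.K_fix hS (k := x) ⟨⟨ha, by change x • s • a = s • a; rw [hsa, hb]⟩, by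
        rw [mul_inv_eq_iff_eq_mul, eq_inv_mul_iff_mul_eq, ← mul_assoc]
        exact inv hab hsa hsb ha hb⟩ x1 hc with e | e
      · exact hac e.symm
      · exact hbc (hsa.symm.trans e.symm)
    · classical
      rw [← hti, Nat.card_eq_fintype_card, Fintype.one_lt_card_iff] at h
      obtain ⟨p, q, hpq⟩ := h
      obtain ⟨g, g1, g2⟩ := tt h2 hab (Subtype.coe_ne_coe.2 hpq)
      have hu : ∀ {y z : Ω}, g • y = z → t • z = z → (g⁻¹ * t * g) • y = y := fun e1 e2 => by
        rw [mul_smul, mul_smul, e1, e2, ← e1, inv_smul_smul]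
      have u2 : g⁻¹ * t * g * (g⁻¹ * t * g) = 1 := by
        calc g⁻¹ * t * g * (g⁻¹ * t * g) = g⁻¹ * (t * t) * g := by group
          _ = 1 := by rw [t2]; group
      have u1 : g⁻¹ * t * g ≠ 1 := fun e => t1 (by
        rw [show t = g * (g⁻¹ * t * g) * g⁻¹ by group, e]; group)
      generalize g⁻¹ * t * g = u at hu u1 u2
      have e1 := inv hab hsa hsb ha hb
      have e2 := inv hab hsa hsb (hu g1 p.2) (hu g2 q.2)
      have e3 := inv (x := x * u) hab hsa hsb (by rw [mul_smul, hu g1 p.2, ha])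
        (by rw [mul_smul, hu g2 q.2, hb])
      have e4 : x * u = u * x := by
        have : x * (u * s * x * u) = x * (u * s * u * x) := by
          calc x * (u * s * x * u) = x * u * s * (x * u) := by group
            _ = x * s * x := by rw [e3, e1]
            _ = _ := by rw [e2, mul_assoc]
        rw [mul_assoc (u * s), mul_assoc (u * s)] at this
        exact mul_left_cancel (mul_left_cancel this)
      rwa [fx u1 u2 e4 x1] at x3
  -- all involution centralisers have exponent two
  have hexp : ∀ u : G, u ≠ 1 → u * u = 1 → ∀ g : G, g * u = u * g → g * g = 1 := by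
    intro u u1 u2
    have out : ∀ g : G, g * u = u * g → (∃ y : Ω, u • y = y ∧ g • y ≠ y) → g * g = 1 := by
      rintro g hg ⟨y, hy, hgy⟩
      have g1 : g ≠ 1 := by rintro rfl; exact hgy (one_smul _ _)
      obtain ⟨z, hz, huz⟩ : ∃ z : Ω, g • z = z ∧ u • z ≠ z := by
        by_contra hh
        push Not at hh
        have hb := (Function.Injective.bijective_of_nat_card_le
          (f := fun z : {c : Ω // g • c = c} => (⟨z.1, hh _ z.2⟩ : {c : Ω // u • c = c}))
          (fun _ _ e => Subtype.ext (congrArg (fun w => w.1) e))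
          (by rw [fx u1 u2 hg g1, fx u1 u2 rfl u1])).2
        obtain ⟨z, e⟩ := hb ⟨y, hy⟩
        have e' : z.1 = y := congrArg Subtype.val e
        exact hgy (e' ▸ z.2)
      have := inv huz.symm rfl (by rw [← mul_smul, u2, one_smul]) hz
        (by rw [← mul_smul, hg, mul_smul, hz])
      rw [hg, mul_assoc] at this
      exact mul_left_cancel (this.trans (mul_one u).symm)
    intro g hg
    by_cases hK : ∃ y : Ω, u • y = y ∧ g • y ≠ y
    · exact out g hg hK
    push Not at hK
    obtain ⟨p, q, r, hpq, hpr, hqr, hp, hq, hr'⟩ := three.1 ((fx u1 u2 rfl u1).symm ▸ hi)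
    obtain ⟨v, v1, v2⟩ := tt h2 hpq hpq.symm
    obtain ⟨w, w1, w2⟩ := tt h2 hpr hpr.symm
    have cu : ∀ {y : G}, u * y * u = y → y * u = u * y := fun {y} e => by
      conv_lhs => rw [← e, mul_assoc, u2, mul_one]
    have cv := cu (inv hpq v1 v2 hp hq)
    have cw := cu (inv hpr w1 w2 hp hr')
    have e1 := inv hpq v1 v2 (hK p hp) (hK q hq)
    have e2 := inv hpr w1 w2 (hK p hp) (hK r hr')
    have cvw : v * w * u = u * (v * w) := by rw [mul_assoc, cw, ← mul_assoc, cv, mul_assoc]
    have m1 : (v * w) • r ≠ r := by rw [mul_smul, w2, v1]; exact hqr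
    have e3 := out (v * w) cvw ⟨r, hr', m1⟩
    have e4 := out (g * (v * w)) (by rw [mul_assoc, cvw, ← mul_assoc, hg, mul_assoc])
      ⟨r, hr', by rw [mul_smul, mul_smul, w2, v1, hK q hq]; exact hqr⟩
    have e5 : v * w * g = g * (v * w) := by
      calc v * w * g = (g * v * g) * w * g := by rw [e1]
        _ = g * (v * (g * w * g)) := by group
        _ = _ := by rw [e2]
    calc g * g = g * g * (v * w * (v * w)) := by rw [e3, mul_one]
      _ = g * (g * (v * w)) * (v * w) := by group
      _ = g * (v * w * g) * (v * w) := by rw [e5]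
      _ = g * (v * w) * (g * (v * w)) := by group
      _ = 1 := e4
  have hcomm : ∀ u : G, u ≠ 1 → u * u = 1 → ∀ g k : G, g * u = u * g → k * u = u * k →
      g * k = k * g := fun u u1 u2 g k hg hk => by
    have e1 := hexp u u1 u2 (g * k) (by rw [mul_assoc, hk, ← mul_assoc, hg, mul_assoc])
    rw [← inv_eq_of_mul_eq_one_right e1, mul_inv_rev, inv_eq_of_mul_eq_one_right (hexp u u1 u2 g hg),
      inv_eq_of_mul_eq_one_right (hexp u u1 u2 k hk)]
  obtain ⟨p, q, -, hpq, -, -, hp, hq, -⟩ := three.1 (hti.symm ▸ hi)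
  obtain ⟨v, v1, v2⟩ := tt h2 hpq hpq.symm
  have cv : v * t = t * v := by
    conv_lhs => rw [← inv hpq v1 v2 hp hq, mul_assoc, t2, mul_one]
  have hP : IsPGroup 2 (centralizer ({t} : Set G)) := fun g => ⟨1, Subtype.ext (by
    simpa [pow_two] using hexp t t1 t2 g (mem_centralizer_singleton_iff.1 g.2))⟩
  obtain ⟨T, hT⟩ := hP.exists_le_sylow
  have tT : t ∈ (T : Subgroup G) := hT (mem_centralizer_singleton_iff.2 rfl)
  obtain ⟨F, i1, i2, -, h⟩ := S1230.result T (fun hc => by
      have vt : v ≠ t := fun e => hpq (by rw [← hp, ← e, v1])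
      have v0 : v ≠ 1 := by rintro rfl; exact hpq (by simpa using v1)
      classical
      have := Fintype.ofFinite (T : Subgroup G)
      have h4 := IsCyclic.card_pow_eq_one_le (α := (T : Subgroup G)) (n := 2) (by omega)
      refine absurd h4 (not_le.2 (Finset.two_lt_card_iff.2 ⟨1, ⟨t, tT⟩,
        ⟨v, hT (mem_centralizer_singleton_iff.2 cv)⟩, by simp, ?_, ?_, fun e => t1
          (congrArg Subtype.val e).symm, fun e => v0 (congrArg Subtype.val e).symm,
          fun e => vt (congrArg Subtype.val e).symm⟩))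
      · simpa [pow_two, Subtype.ext_iff] using t2
      · simpa [pow_two, Subtype.ext_iff] using sq hpq v1 v2)
    (fun hn => by
      obtain ⟨z, hzT, hz, hc⟩ := Inv.exists_central_involution_of_isPGroup T.isPGroup' (fun e => by
        rw [e, mem_bot] at tT; exact t1 tT)
      exact hr (hasReg_of_comm h2 hn (fun e => by rw [e, mem_bot] at tT; exact t1 tT)
        fun g hg k hk => hcomm z (o2.1 hz).1 (o2.1 hz).2 g k (hc g hg) (hc k hk)))
    fun u hu => ⟨⟨⟨fun g k => Subtype.ext (hcomm u (o2.1 hu).1 (o2.1 hu).2 g k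
      (mem_centralizer_singleton_iff.1 g.2) (mem_centralizer_singleton_iff.1 k.2))⟩⟩, fun g hg => by
      rw [pow_two]
      exact hexp u (o2.1 hu).1 (o2.1 hu).2 g (mem_centralizer_singleton_iff.1 hg)⟩
  exact (hn1 F i1 i2).false h.some

end Cfsg.Agent.S3726
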