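import Cfsg.Statements.S3742
import Mathlib
import Cfsg.Agent.Class.PSL2Small

set_option autoImplicit false
open Cfsg

namespace Cfsg.Agent.S3742

open QuaternionGroup

/-- The map determined by the images of the two generators. -/
def f (u v : QuaternionGroup 2) : QuaternionGroup 2 → QuaternionGroup 2
  | a i => u ^ i.val
  | xa i => v * u ^ i.val

/-- An involutive automorphism. -/
def mkAut (u v : QuaternionGroup 2) (h1 : ∀ x, f u v (f u v x) = x)
    (h2 : ∀ x y, f u v (x * y) = f u v x * f u v y) : MulAut (QuaternionGroup 2) :=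
  { toFun := f u v, invFun := f u v, left_inv := h1, right_inv := h1, map_mul' := h2 }

def x : MulAut (QuaternionGroup 2) := mkAut (xa 0) (a 1) (by decide) (by decide)
def y : MulAut (QuaternionGroup 2) := mkAut (a 3) (xa 3) (by decide) (by decide)
def z : MulAut (QuaternionGroup 2) := mkAut (xa 2) (a 3) (by decide) (by decide)

theorem card_le : Nat.card (MulAut (QuaternionGroup 2)) ≤ 24 := by
  have h : Nat.card {p : QuaternionGroup 2 × QuaternionGroup 2 // p.1 * p.2 ≠ p.2 * p.1} = 24 := by
    rw [Nat.card_eq_fintype_card, Fintype.card_subtype]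
    decide
  rw [← h]
  refine Nat.card_le_card_of_injective (fun φ => ⟨(φ (a 1), φ (xa 0)), ?_⟩) ?_
  · simp only [← map_mul, ne_eq, EmbeddingLike.apply_eq_iff_eq]
    decide
  · intro φ ψ h
    have h1 : φ (a 1) = ψ (a 1) := congrArg (fun p => p.1.1) h
    have h2 : φ (xa 0) = ψ (xa 0) := congrArg (fun p => p.1.2) h
    ext q
    have : ∀ q : QuaternionGroup 2, q = f (a 1) (xa 0) q := by decide
    rw [this q]
    cases q <;> simp only [f, map_mul, map_pow, h1, h2]

/-- The automorphism group of the quaternion group of order 8 is isomorphic to the symmetric group of degree 4. -/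
theorem result : Nonempty (MulAut (QuaternionGroup 2) ≃* Equiv.Perm (Fin 4)) := by
  obtain ⟨H, ⟨e⟩⟩ := Class.Dickson.exists_sym4_of_rels (x := x) (y := y) (z := z)
    (by ext q; revert q; decide) (by ext q; revert q; decide) (by ext q; revert q; decide)
    (by ext q; revert q; decide) (by ext q; revert q; decide) (by ext q; revert q; decide)
    (fun h => absurd (DFunLike.congr_fun h (a 1)) (by decide))
  have : Finite (MulAut (QuaternionGroup 2)) := inferInstance
  have hH : H = ⊤ := by
    refine Subgroup.eq_top_of_le_card H ?_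
    rw [Nat.card_congr e.toEquiv, Nat.card_perm]
    simpa [Nat.factorial] using card_le
  subst hH
  exact ⟨Subgroup.topEquiv.symm.trans e⟩

end Cfsg.Agent.S3742
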