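import Cfsg.Statements.S3755
import Mathlib
import Cfsg.Agent.FGS.SmallSec

set_option autoImplicit false
open Cfsg

namespace Cfsg.Agent.S3755

open Cfsg.Agent.FGS.Prim Cfsg.Agent.PLocal Cfsg.Agent.PLocal.Amb

/-- Let M and V be subgroups of a finite group with V an elementary abelian 2-group, M normalizing V and acting faithfully on it (M ∩ C(V) = 1), and C_M(O_{2'}(M)) ≤ O_{2'}(M). If some elementary abelian 2-subgroup A of M satisfies |V : C_V(A)| < |A|², then M has a section isomorphic to the symmetric group of degree 3. -/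
theorem result {X : Type*} [Group X] [Finite X] (M V : Subgroup X) (hV : Cfsg.IsElementaryAbelian 2 V) (hMV : M ≤ Subgroup.normalizer (V : Set X)) (hfaith : M ⊓ Subgroup.centralizer (V : Set X) = ⊥) (hcon : Subgroup.centralizer (Cfsg.pPrimeCore 2 ↥M : Set ↥M) ≤ Cfsg.pPrimeCore 2 ↥M) (A : Subgroup X) (hAM : A ≤ M) (hA : Cfsg.IsElementaryAbelian 2 A) (hsmall : (V ⊓ Subgroup.centralizer (A : Set X)).relIndex V < Nat.card A ^ 2) : Cfsg.Involves (Equiv.Perm (Fin 3)) ↥M := by
  have : Fact (Nat.Prime 2) := ⟨Nat.prime_two⟩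
  have : Fact (Nat.Prime 3) := ⟨Nat.prime_three⟩
  have h := FFSetup.of_pPrimeCore hV hMV hfaith hcon
  rw [Subgroup.inf_relIndex_left] at hsmall
  rcases twoF_core hV h.cop (h.le.trans hMV)
    (le_bot_iff.1 (hfaith ▸ inf_le_inf_right _ h.le)) A hA (hAM.trans hMV)
    (hAM.trans h.normO) (by
      rw [eq_bot_iff, ← Grp.inf_eq_bot_of_isPGroup_of_coprime (isEA_isPGroup hA) h.cop]
      exact le_inf inf_le_left ((inf_le_inf_right _ hAM).trans h.selfcent)) with h1 | h1
  · exact absurd hsmall (not_lt.2 h1)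
  · obtain ⟨a, ha, d, hd, hd1, hd3, had⟩ := h1
    rw [SecNorm.involves_iff]
    refine sec_perm_three_dihedral.trans (S4Rec.sec_dihedral_of_inverts (p := 3) (by norm_num)
      (x := ⟨a, hAM ha⟩) (y := ⟨d, h.le hd⟩) ⟨1, Subtype.ext (by simpa using hA.2 a ha)⟩
      (Subtype.ext hd3) (fun h => hd1 (congrArg Subtype.val h)) (Subtype.ext had))

end Cfsg.Agent.S3755
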