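import Cfsg.Statements.S3756
import Mathlib
import Cfsg.Agent.FGS.PrimPairTwo
import Cfsg.Agent.PLocal.SecNorm

set_option autoImplicit false
open Cfsg

namespace Cfsg.Agent.S3756

open Cfsg.Agent.FGS.Prim Cfsg.Agent.PLocal Cfsg.Agent.PLocal.Amb

/-- Let G be a finite group of even order with O₂(G) = 1 such that every 2-local subgroup of G is solvable, of characteristic 2, and has no section isomorphic to the symmetric group of degree 4. Then every maximal 2-local subgroup of G is strongly embedded in G. -/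
theorem result {G : Type*} [Group G] [Finite G] (heven : Even (Nat.card G)) (hO : Cfsg.pCore 2 G = ⊥) (hloc : ∀ M : Subgroup G, Cfsg.IsTwoLocal M → Group.IsSolvable M ∧ Cfsg.IsOfCharacteristicTwo ↥M ∧ ¬ Cfsg.Involves (Equiv.Perm (Fin 4)) ↥M) (M : Subgroup G) (hM : Cfsg.IsMaximalTwoLocal M) : Cfsg.IsStronglyEmbedded M := by
  have : Fact (Nat.Prime 2) := ⟨Nat.prime_two⟩
  have hM' : IsMaximalPLocal 2 M := hM
  refine ⟨max_ne_top hO hM', even_iff_two_dvd.2 (dvd_card_max hM'), fun g hg => ?_⟩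
  by_contra hodd
  obtain ⟨M₁, M₂, h1, h2, h⟩ := exists_pp (p := 2)
    (fun L hL => CP.isCharP_iff.2 (hloc L hL.1).2.1) hM' hg
    (even_iff_two_dvd.1 (Nat.not_odd_iff_even.1 hodd))
  exact h.false_of_two (hloc _ h1.1).1 (hloc _ h2.1).1
    (fun s => (hloc _ h1.1).2.2 (SecNorm.involves_iff.2 s))
    (fun s => (hloc _ h2.1).2.2 (SecNorm.involves_iff.2 s))

end Cfsg.Agent.S3756
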