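import Cfsg.Statements.S3776
import Cfsg.Agent.Suz.SolE
import Cfsg.Agent.Grp.PFrattini

set_option autoImplicit false
open Cfsg

namespace Cfsg.Agent.S3776

/-- Let G be a finite non-abelian 2-group with more than one involution admitting a solvable group of automorphisms that permutes its involutions transitively. Then the derived subgroup, the Frattini subgroup and the centre of G coincide and consist exactly of the elements x with x² = 1. -/
theorem result {G : Type*} [Group G] [Finite G] (hG : IsPGroup 2 G) (hna : ¬ IsMulCommutative G) (htwo : ∃ x y : G, x ≠ y ∧ x ≠ 1 ∧ x ^ 2 = 1 ∧ y ≠ 1 ∧ y ^ 2 = 1) (hY : ∃ Y : Subgroup (MulAut G), Group.IsSolvable Y ∧ ∀ x y : G, x ≠ 1 → x ^ 2 = 1 → y ≠ 1 → y ^ 2 = 1 → ∃ a ∈ Y, a x = y) : commutator G = frattini G ∧ frattini G = Subgroup.center G ∧ ∀ x : G, x ∈ Subgroup.center G ↔ x ^ 2 = 1 := by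
  obtain ⟨Y, hsol, htr⟩ := hY
  obtain ⟨F, _, _, _, ⟨S⟩⟩ := Suz.Sol.exists_st hG htwo Y hsol htr
  have hab : ¬ Suz.Hig.Ab (⊤ : Subgroup G) := fun h => hna ⟨⟨fun a b => h a trivial b trivial⟩⟩
  obtain ⟨h1, h2, h3⟩ := S.center_eq_and hab
  have h4 : commutator G ≤ S.Z0 := Subgroup.commutator_le.2 fun x _ y _ => h2 x y
  have h5 : S.Z0 ≤ commutator G := S.Z0_le (S.I_top.commutator S.I_top) fun e => hab
    fun x _ y _ => by
      rw [← commutatorElement_eq_one_iff_mul_comm, ← Subgroup.mem_bot, ← e]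
      exact Subgroup.commutator_mem_commutator trivial trivial
  have h6 : frattini G ≤ S.Z0 := Grp.PFrattini.frattini_le (p := 2) h4 fun g => by
    rw [pow_two]; exact h3 g
  have h7 := Grp.PFrattini.commutator_le_frattini hG
  refine ⟨le_antisymm h7 (h6.trans h5), h1 ▸ le_antisymm h6 (h5.trans h7), fun x => ?_⟩
  rw [h1, S.mem_Z0, pow_two]

end Cfsg.Agent.S3776
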