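import Cfsg.Statements.S3782
import Mathlib
import Cfsg.Agent.FGS.LcsLie
import Cfsg.Agent.FGS.ActTools
import Cfsg.Agent.S3779
import Cfsg.Agent.S3780
import Cfsg.Agent.S3781
import Cfsg.Agent.Grp.Cores
import Cfsg.Agent.Grp.Card
import Cfsg.Agent.Grp.Fitting
import Cfsg.Agent.Grp.PFrattini
import Cfsg.Agent.PLocal.PSolvHall

set_option autoImplicit false
open Cfsg

namespace Cfsg.Agent.S3782

open Cfsg.Agent.FGS Cfsg.Agent.FGS.GradedLie Cfsg.Agent.FGS.LcsLie

/-- The subgroup of fixed points. -/
def Fix {G : Type*} [Group G] (α : G →* G) : Subgroup G := α.eqLocus (MonoidHom.id G)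

theorem mem_Fix {G : Type*} [Group G] {α : G →* G} {g : G} : g ∈ Fix α ↔ α g = g := Iff.rfl

/-- `α ^ p = 1` and `α` has at most `m` fixed points. -/
structure Good (p m : ℕ) {G : Type*} [Group G] (α : G →* G) : Prop where
  iter : ∀ g, α^[p] g = g
  card : Nat.card (Fix α) ≤ m

/-- Restriction to an invariant subgroup. -/
def res {G : Type*} [Group G] (α : G →* G) (H : Subgroup G) (hH : ∀ x ∈ H, α x ∈ H) : H →* H :=
  (α.comp H.subtype).codRestrict H fun x => hH x x.2

/-- The induced map on a quotient. -/
def quo {G : Type*} [Group G] (α : G →* G) (N : Subgroup G) [N.Normal] (hN : ∀ x ∈ N, α x ∈ N) :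
    G ⧸ N →* G ⧸ N := QuotientGroup.map N N α hN

theorem quo_mk {G : Type*} [Group G] (α : G →* G) (N : Subgroup G) [N.Normal]
    (hN : ∀ x ∈ N, α x ∈ N) (g : G) : quo α N hN (g : G ⧸ N) = (α g : G) := rfl

section basic

variable {p m : ℕ} {G : Type*} [Group G] [Finite G] {α : G →* G}

theorem Good.res (h : Good p m α) (H : Subgroup G) (hH : ∀ x ∈ H, α x ∈ H) :
    Good p m (S3782.res α H hH) := by
  constructor
  · have : ∀ k (g : H), (((S3782.res α H hH)^[k] g : H) : G) = α^[k] g := by
      intro k
      induction k with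
      | zero => intro g; rfl
      | succ k ih => intro g; rw [Function.iterate_succ_apply, ih]; rfl
    intro g
    exact Subtype.ext ((this p g).trans (h.iter g))
  · refine le_trans (Nat.card_le_card_of_injective
      (fun x => (⟨(x.1 : G), congrArg Subtype.val x.2⟩ : Fix α)) ?_) h.card
    intro x y hxy
    exact Subtype.ext (Subtype.ext (congrArg (fun z : Fix α => (z : G)) hxy))

theorem Good.quo (h : Good p m α) (N : Subgroup G) [N.Normal] (hN : ∀ x ∈ N, α x ∈ N) :
    Good p m (S3782.quo α N hN) := by
  classical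
  constructor
  · have : ∀ k (g : G), (S3782.quo α N hN)^[k] (g : G ⧸ N) = (α^[k] g : G) := by
      intro k
      induction k with
      | zero => intro g; rfl
      | succ k ih => intro g; rw [Function.iterate_succ_apply, quo_mk, ih]; rfl
    intro g
    induction g using QuotientGroup.induction_on with
    | H g => rw [this, h.iter]
  · refine le_trans ?_ h.card
    set T := (Fix (S3782.quo α N hN)).comap (QuotientGroup.mk' N) with hT
    have h1 := Grp.card_map_mul_card_ker_inf (QuotientGroup.mk' N) T
    have h2 : N ≤ T := by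
      intro x hx
      change (QuotientGroup.mk' N x) ∈ Fix _
      rw [(QuotientGroup.eq_one_iff x).2 hx |>.trans rfl |> (id : (QuotientGroup.mk' N x = 1) → _)]
      exact one_mem _
    rw [QuotientGroup.ker_mk', inf_eq_left.2 h2, hT,
      Subgroup.map_comap_eq_self_of_surjective (QuotientGroup.mk'_surjective N), ← hT] at h1
    have hθ : ∀ g : T, (g : G)⁻¹ * α g ∈ N := by
      intro g
      have : (S3782.quo α N hN) (g : G) = (g : G) := g.2
      rw [quo_mk] at this
      exact QuotientGroup.eq.1 this.symm
    let θ : T → N := fun g => ⟨_, hθ g⟩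
    have hs : ∀ g : T, θ (Function.invFun θ (θ g)) = θ g := fun g => Function.invFun_eq ⟨g, rfl⟩
    have h3 : Nat.card T ≤ Nat.card (Fix α × N) := by
      refine Nat.card_le_card_of_injective
        (fun g => (⟨(g : G) * ((Function.invFun θ (θ g) : T) : G)⁻¹, ?_⟩, θ g)) ?_
      · have := congrArg Subtype.val (hs g)
        simp only [θ] at this
        rw [mem_Fix, map_mul, map_inv]
        set u : G := ((Function.invFun θ (θ g) : T) : G)
        have e : α u = u * ((g : G)⁻¹ * α g) := by rw [← this]; simp [u, θ]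
        rw [e]; group
      · intro x y hxy
        have e1 := congrArg (fun z => ((z.1 : Fix α) : G)) hxy
        have e2 : θ x = θ y := congrArg Prod.snd hxy
        simp only [e2] at e1
        exact Subtype.ext (mul_right_cancel e1)
    rw [Nat.card_prod, ← h1] at h3
    exact Nat.le_of_mul_le_mul_right h3 Nat.card_pos

theorem Good.pow_eq_one [Fact p.Prime] (h : Good p m α) (hG : IsPGroup p G) {g : G}
    (hg : α g = g) : g ^ p ^ m = 1 := by
  obtain ⟨k, hk⟩ := (hG.to_subgroup (Fix α)).exists_card_eq
  have h1 : k ≤ m := by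
    have := Nat.lt_pow_self (n := k) (Fact.out : p.Prime).one_lt
    have := h.card
    omega
  have h2 : (⟨g, hg⟩ : Fix α) ^ p ^ k = 1 := by rw [← hk]; exact pow_card_eq_one'
  have h3 : g ^ p ^ k = 1 := congrArg Subtype.val h2
  obtain ⟨j, rfl⟩ := Nat.exists_eq_add_of_le h1
  rw [pow_add, pow_mul, h3, one_pow]

end basic

theorem Good.card_le {p m : ℕ} [Fact p.Prime] {V : Type*} [CommGroup V] [Finite V] {α : V →* V}
    (h : Good p m α) (f : ℕ) (hf : ∀ v : V, v ^ p ^ f = 1) : Nat.card V ≤ m ^ (p * f) := by
  have hp : p.Prime := Fact.out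
  let a : AddMonoid.End (Additive V) := MonoidHom.toAdditive α
  have hak : ∀ (k : ℕ) (v : V), (a ^ k) (Additive.ofMul v) = Additive.ofMul (α^[k] v) := by
    intro k
    induction k with
    | zero => intro v; rfl
    | succ k ih => intro v; rw [pow_succ, Function.iterate_succ_apply]; exact ih (α v)
  have hap : a ^ p = 1 := by
    ext v
    have := hak p v.toMul
    rw [h.iter] at this
    exact congrArg Additive.toMul this
  obtain ⟨r, hr⟩ := (Commute.one_right (a - 1)).exists_add_pow_prime_eq hp
  rw [sub_add_cancel, hap, one_pow, mul_one] at hr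
  have hr' : (a - 1) ^ p = p * -((a - 1) * r) := by
    rw [mul_neg (p : AddMonoid.End (Additive V)), eq_neg_iff_add_eq_zero, ← mul_assoc, ← add_left_inj 1, zero_add, add_right_comm]
    exact hr.symm
  let τ : ℕ → V →* V := fun k => MonoidHom.toAdditive.symm ((a - 1) ^ k : AddMonoid.End (Additive V))
  have h1 : Nat.card (τ 1).ker ≤ m := by
    refine le_trans (le_of_eq (Nat.card_congr (Equiv.subtypeEquivRight fun v => ?_))) h.card
    rw [MonoidHom.mem_ker, mem_Fix]
    simp only [τ, pow_one]
    change α v / v = 1 ↔ _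
    exact div_eq_one
  have h2 : ∀ k, Nat.card (τ k).ker ≤ m ^ k := by
    intro k
    induction k with
    | zero =>
      have : (τ 0).ker = ⊥ := (MonoidHom.ker_eq_bot_iff _).2 fun _ _ h => h
      simp [this]
    | succ k ih =>
      have : τ (k + 1) = (τ k).comp (τ 1) := by
        simp only [τ, pow_succ, pow_zero, one_mul]
        rfl
      rw [this, pow_succ]
      exact (S3780.card_ker_comp_le _ _).trans (Nat.mul_le_mul ih h1)
  have h3 : (τ (p * f)).ker = ⊤ := by
    rw [eq_top_iff]
    intro v _
    have e : (a - 1) ^ (p * f) = ((p ^ f : ℕ) : AddMonoid.End (Additive V)) * (-((a - 1) * r)) ^ f := by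
      rw [pow_mul, hr', (Nat.cast_commute p _).mul_pow, Nat.cast_pow]
    have : τ (p * f) v = (Additive.toMul (((-((a - 1) * r)) ^ f) (Additive.ofMul v))) ^ p ^ f := by
      simp only [τ, e]
      rfl
    rw [MonoidHom.mem_ker, this, hf]
  have := h2 (p * f)
  rwa [h3, Subgroup.card_top] at this

theorem derived_add_le {G : Type*} [Group G] {N : Subgroup G} {a : ℕ} (h : derivedSeries G a ≤ N)
    (b : ℕ) : derivedSeries G (a + b) ≤ N.lowerCentralSeries b := by
  induction b with
  | zero => exact h
  | succ b ih =>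
    exact Subgroup.commutator_mono ih (ih.trans (Subgroup.lowerCentralSeries_antitone N (Nat.zero_le b)))

theorem derived_add_le' {G : Type*} [Group G] {N : Subgroup G} {a : ℕ} (h : derivedSeries G a ≤ N)
    (b : ℕ) : derivedSeries G (a + b) ≤ (derivedSeries N b).map N.subtype := by
  induction b with
  | zero => simpa [← MonoidHom.range_eq_map] using h
  | succ b ih =>
    rw [derivedSeries_succ N, Subgroup.map_commutator]
    exact Subgroup.commutator_mono ih ih

theorem derived_le_ker {G H : Type*} [Group G] [Group H] (f : G →* H) {a : ℕ}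
    (h : derivedSeries H a = ⊥) : derivedSeries G a ≤ f.ker := by
  rw [← Subgroup.map_eq_bot_iff, eq_bot_iff, ← h]
  exact map_derivedSeries_le_derivedSeries f a

theorem derived_card {G : Type*} [Group G] [Finite G] [Group.IsSolvable G] {l : ℕ}
    (hl : Nat.card G ≤ l) : derivedSeries G l = ⊥ := by
  have : ∀ k, derivedSeries G k = ⊥ ∨ Nat.card (derivedSeries G k) + k ≤ Nat.card G := by
    intro k
    induction k with
    | zero => right; simp
    | succ k ih =>
      by_cases h : derivedSeries G k = ⊥
      · left; rw [derivedSeries_succ, h]; simp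
      · right
        have h1 := ih.resolve_left h
        have h2 : Nat.card ↥⁅derivedSeries G k, derivedSeries G k⁆ < Nat.card (derivedSeries G k) := by
          have h3 := Group.IsSolvable.commutator_lt_of_ne_bot h
          exact lt_of_le_of_ne (Subgroup.card_le_of_le h3.le) fun h4 =>
            h3.ne (Subgroup.eq_of_le_of_card_ge h3.le h4.ge)
        rw [derivedSeries_succ]
        omega
  refine (this l).resolve_right fun h => ?_
  have : 0 < Nat.card (derivedSeries G l) := Nat.card_pos
  omega

theorem pgroup_bound (p m : ℕ) [Fact p.Prime] : ∃ l : ℕ, ∀ (G : Type) [Group G] [Finite G],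
    IsPGroup p G → ∀ α : G →* G, Good p m α → derivedSeries G l = ⊥ := by
  have hp : p.Prime := Fact.out
  set c := ∑ i ∈ Finset.range (2 ^ (p - 1) - 1), (p - 1) ^ i with hc
  have hc1 : 1 ≤ c := by
    have h1 : 2 ^ 1 ≤ 2 ^ (p - 1) := Nat.pow_le_pow_right (by norm_num) (by have := hp.two_le; omega)
    have := Finset.single_le_sum (f := fun i => (p - 1) ^ i) (fun i _ => Nat.zero_le _)
      (Finset.mem_range.2 (show 0 < 2 ^ (p - 1) - 1 by omega))
    simpa using this
  have key : ∀ (G : Type) [Group G] [Finite G], IsPGroup p G → ∀ α : G →* G, Good p m α →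
      (gam G (c + 1)).relIndex (gam G c) ≤ m ^ (p * (m + (c + 1))) := by
    intro G _ _ hG α hα
    have hfac : ∀ n, Good p m (G := Fac G n) (quo
        (res α (gam G n) fun x hx => map_mem α hx) ((gam G (n + 1)).subgroupOf (gam G n))
        (fun x hx => map_mem α (n := n + 1) hx)) := fun n =>
      (hα.res (gam G n) fun x hx => map_mem α hx).quo ((gam G (n + 1)).subgroupOf (gam G n)) _
    have hfin : ∀ n, Finite (Fac G n) := fun n =>
      inferInstanceAs (Finite (gam G n ⧸ (gam G (n + 1)).subgroupOf (gam G n)))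
    have hone : ∀ n (x : gam G n), toFac G n x = 1 ↔ (x : G) ∈ gam G (n + 1) := fun n x =>
      QuotientGroup.eq_one_iff (N := (gam G (n + 1)).subgroupOf (gam G n)) x
    have h1 := fun g hg => pow_mem_lcs_succ (gradedBound_xi p) α hα.iter (p ^ m) (by
      intro n g hg h
      have h2 : (toFac G n ⟨g, hg⟩) ^ p ^ m = 1 := by
        refine (hfac n).pow_eq_one ((hG.to_subgroup _).to_quotient _) ?_
        exact (QuotientGroup.eq (s := (gam G (n + 1)).subgroupOf (gam G n))
          (a := ⟨g, hg⟩) (b := ⟨α g, map_mem α hg⟩)).2 h |>.symm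
      rw [← map_pow, hone] at h2
      exact h2) (g := g) hg
    refine (hfac c).card_le (m + (c + 1)) fun v => ?_
    obtain ⟨x, rfl⟩ : ∃ x, toFac G c x = v := QuotientGroup.mk_surjective v
    rw [← map_pow, hone, pow_add]
    exact h1 x x.2
  set B := m ^ (p * (m + (c + 1)))
  refine ⟨B + (c + 1), fun G _ _ hG α hα => ?_⟩
  refine le_bot_iff.1 ((derived_add_le (Subgroup.derived_le_lower_central B) (c + 1)).trans
    (le_of_eq ?_))
  by_contra hne
  have h1 := S3781.result hG (B + 1) (by omega) (gam G B) le_rfl (c + 1) (by omega) hne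
  have h2 := key (gam G B) (hG.to_subgroup _) _ (hα.res _ fun x hx => map_mem α hx)
  rw [Nat.add_sub_cancel, ← Subgroup.top_subtype_lowerCentralSeries (gam G B) c,
    ← Subgroup.top_subtype_lowerCentralSeries (gam G B) (c + 1),
    Subgroup.relIndex_map_map_of_injective _ _ (Subgroup.subtype_injective _)] at h1
  have := Nat.lt_pow_self (n := B + 1) hp.one_lt
  have h3 := h1.trans h2
  omega

theorem charp_bound {p m l : ℕ} [Fact p.Prime] (hl : ∀ (G : Type) [Group G] [Finite G],
    IsPGroup p G → ∀ α : G →* G, Good p m α → derivedSeries G l = ⊥) {X : Type} [Group X]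
    [Finite X] [Group.IsSolvable X]
    (hXc : Subgroup.centralizer (pCore p X : Set X) ≤ pCore p X) {β : X →* X} (hX : Good p m β) :
    derivedSeries X ((m ^ (p * 1)).factorial + l) = ⊥ := by
  have hp : p.Prime := Fact.out
  set P := pCore p X with hP
  have hPp : IsPGroup p P := Grp.pCore_isPGroup p X
  have hβ : ∀ x ∈ P, β x ∈ P := by
    intro x hx
    refine Grp.map_pCore_le_of_surjective p _ ?_ ⟨x, hx, rfl⟩
    exact (Finite.injective_iff_surjective.1 (Function.LeftInverse.injective
      (g := β^[p - 1]) fun y => by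
        rw [← Function.iterate_succ_apply, Nat.succ_eq_add_one, Nat.sub_add_cancel hp.one_lt.le]
        exact hX.iter y))
  have hPg := hX.res P hβ
  have h1 := hl P hPp _ hPg
  refine le_bot_iff.1 ((derived_add_le' (N := P) ?_ l).trans (by rw [h1]; simp))
  have hΦ : ∀ x ∈ frattini P, res β P hβ x ∈ frattini P := by
    intro x hx
    have : frattini P ≤ (frattini P).comap (res β P hβ) := by
      refine Grp.PFrattini.frattini_le (p := p) ?_ fun g => ?_
      · rw [← Subgroup.map_le_iff_le_comap, commutator_def, Subgroup.map_commutator]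
        exact (Subgroup.commutator_mono le_top le_top).trans
          (Grp.PFrattini.commutator_le_frattini hPp)
      · rw [Subgroup.mem_comap, map_pow]
        exact Grp.PFrattini.pow_mem_frattini hPp _
    exact this hx
  have hVg := hPg.quo (frattini P) hΦ
  let inst : CommGroup (P ⧸ frattini P) :=
    { (inferInstance : Group (P ⧸ frattini P)) with
      mul_comm := (Subgroup.Normal.quotient_commutative_iff_commutator_le.2
        (Grp.PFrattini.commutator_le_frattini hPp)).is_comm.comm }
  have hV : Nat.card (P ⧸ frattini P) ≤ m ^ (p * 1) := by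
    refine Good.card_le (V := P ⧸ frattini P) hVg 1 fun v => ?_
    obtain ⟨x, rfl⟩ := QuotientGroup.mk_surjective v
    rw [pow_one, ← QuotientGroup.mk_pow, QuotientGroup.eq_one_iff]
    exact Grp.PFrattini.pow_mem_frattini hPp _
  let ρ : X →* MulAut (P ⧸ frattini P) := quotAct (MulAut.conjNormal (H := P)) (frattini P)
    fun x h hh => (Subgroup.characteristic_iff_le_comap.1 inferInstance _) hh
  have hker : ρ.rangeRestrict.ker ≤ P := by
    intro g hg
    rw [MonoidHom.ker_rangeRestrict, MonoidHom.mem_ker] at hg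
    rw [hP, ← PLocal.secStab_frattini_pCore hXc, PLocal.mem_secStab]
    intro x hx
    have h2 : ρ g ((⟨x, hx⟩ : P) : P ⧸ frattini P) = (⟨x, hx⟩ : P) := by rw [hg]; rfl
    have h3 := (QuotientGroup.eq_iff_div_mem (N := frattini P)).1 h2
    exact ⟨_, h3, by simp [div_eq_mul_inv]⟩
  refine le_trans (derived_le_ker ρ.rangeRestrict ?_) hker
  have : Group.IsSolvable ρ.range := Group.isSolvable_of_surjective ρ.rangeRestrict_surjective
  refine derived_card ?_
  refine le_trans (Nat.card_le_card_of_injective (fun x => ((x : MulAut (P ⧸ frattini P)) :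
    Equiv.Perm (P ⧸ frattini P))) fun x y h => Subtype.ext (MulEquiv.toEquiv_injective h)) ?_
  rw [Nat.card_perm]
  exact Nat.factorial_le hV

/-- Alperin's Theorem: for each prime p and each n ≥ 0 there is an integer l such that every finite solvable group admitting an automorphism of order p with exactly p^n fixed points has derived length at most l. -/
theorem result (p : ℕ) (hp : p.Prime) (n : ℕ) : ∃ l : ℕ, ∀ (G : Type) [Group G] [Finite G], Group.IsSolvable G → ∀ α : MulAut G, orderOf α = p → Nat.card {g : G // α g = g} = p ^ n → derivedSeries G l = ⊥ := by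
  have : Fact p.Prime := ⟨hp⟩
  obtain ⟨l, hl⟩ := pgroup_bound p (p ^ n)
  set c := ∑ i ∈ Finset.range (2 ^ (p - 1) - 1), (p - 1) ^ i with hc
  refine ⟨((p ^ n) ^ (p * 1)).factorial + l + c, fun G _ _ hG α hα hfix => ?_⟩
  have hgood : Good p (p ^ n) (α : G →* G) := by
    refine ⟨fun g => ?_, le_of_eq hfix⟩
    change (⇑α)^[p] g = g
    rw [← S3779.iterate_eq, ← hα, pow_orderOf_eq_one]; rfl
  set K := pPrimeCore p G with hK
  have hKinv : ∀ x ∈ K, (α : G →* G) x ∈ K := fun x hx =>
    (Subgroup.characteristic_iff_le_comap.1 inferInstance α) hx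
  have hKnil : K.lowerCentralSeries c = ⊥ := by
    rw [← Subgroup.top_subtype_lowerCentralSeries, Subgroup.map_eq_bot_iff_of_injective _
      (Subgroup.subtype_injective _)]
    have hfpf : ∀ x : K, MulAut.characteristic K α x = x → x = 1 := by
      intro x hx
      have h1 : α x = x := congrArg Subtype.val hx
      have h2 : (⟨x, h1⟩ : Fix (α : G →* G)) ^ p ^ n = 1 := by
        rw [← hfix]; exact pow_card_eq_one'
      have h3 : (x : G) ^ p ^ n = 1 := congrArg Subtype.val h2
      have h4 := Grp.orderOf_coprime_of_mem_pPrimeCore x.2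
      have h5 : orderOf (x : G) = 1 :=
        Nat.eq_one_of_dvd_coprimes (h4.pow_right n) dvd_rfl (orderOf_dvd_of_pow_eq_one h3)
      exact Subtype.ext (orderOf_eq_one_iff.1 h5)
    have hd : orderOf (MulAut.characteristic K α) ∣ p :=
      (orderOf_map_dvd (MulAut.characteristic K) α).trans (dvd_of_eq hα)
    rcases (Nat.dvd_prime hp).1 hd with h | h
    · rw [orderOf_eq_one_iff] at h
      rw [eq_bot_iff]
      intro x _
      exact hfpf x (by rw [h]; rfl)
    · exact S3779.lcs_eq_bot hp _ h hfpf (gradedBound_xi p)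
  refine le_bot_iff.1 ((derived_add_le (N := K) ?_ c).trans hKnil.le)
  rw [← QuotientGroup.ker_mk' K]
  refine derived_le_ker _ ?_
  exact charp_bound hl (Grp.centralizer_pCore_le (Grp.pPrimeCore_quotient_pPrimeCore p G))
    (hgood.quo K hKinv)

end Cfsg.Agent.S3782
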