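import Cfsg.Statements.S3787
import Mathlib
import Cfsg.Agent.PLocal.HHExp
import Cfsg.Agent.PLocal.SecNorm
import Cfsg.Agent.PLocal.NStable
import Cfsg.Agent.Grp.CardProduct

set_option autoImplicit false
open Cfsg

namespace Cfsg.Agent.S3787

open Subgroup Module PLocal PLocal.HH PLocal.CF

theorem surj_aux {K W : Type*} [Field K] [AddCommGroup W] [Module K W] (N : End K W) (φ : W →ₗ[K] K)
    (v : W) {m : ℕ} (hN : N ^ (m + 1) = 0) (hv : φ ((N ^ m) v) = 1) (x : Fin (m + 1) → K) :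
    ∃ w, ∀ i : Fin (m + 1), φ ((N ^ (i : ℕ)) w) = x i := by
  suffices h : ∀ j ≤ m + 1, ∀ x : Fin (m + 1) → K, (∀ i : Fin (m + 1), j ≤ i → x i = 0) →
      ∃ w, ∀ i : Fin (m + 1), φ ((N ^ (i : ℕ)) w) = x i from h _ le_rfl x fun i hi => absurd i.2 (by omega)
  intro j
  induction j with
  | zero => exact fun _ x hx => ⟨0, fun i => by simp [hx i (Nat.zero_le _)]⟩
  | succ j ih =>
    intro hj x hx
    obtain ⟨w, hw⟩ := ih (by omega) (fun i => x i - x ⟨j, hj⟩ * φ ((N ^ (i : ℕ)) ((N ^ (m - j)) v))) fun i hi => by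
      rw [← End.mul_apply, ← pow_add]
      rcases hi.eq_or_lt with h | h
      · rw [← h, Nat.add_sub_cancel' (by omega), hv, mul_one, show i = ⟨j, hj⟩ from Fin.ext h.symm, sub_self]
      · rw [hx i h, pow_eq_zero_of_le (by omega) hN]; simp
    exact ⟨w + x ⟨j, hj⟩ • (N ^ (m - j)) v, fun i => by simp [hw i]⟩

theorem exists_wreath {X : Type*} [Group X] [Finite X] {p : ℕ} [hp : Fact p.Prime] {V : Subgroup X} [V.Normal]
    {hV : IsElementaryAbelian p V} {T : End (ZMod p) (EA hV)} {a : X} (hT : ∀ v, (T v).val = a * v.val * a⁻¹)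
    (ha : a ^ p ∈ V) (h0 : (T - 1) ^ (p - 1) ≠ 0) :
    ∃ (W : Type) (_ : Group W) (_ : Finite W), (∃ (B : Subgroup W) (t : W), B.Normal ∧ IsMulCommutative B ∧
      (∀ b ∈ B, b ^ p = 1) ∧ Nat.card B = p ^ p ∧ orderOf t = p ∧ t ∉ B ∧ Nat.card W = p ^ (p + 1) ∧
      Nat.card ↥(B ⊓ centralizer ({t} : Set W)) = p) ∧ Sec W ↥(V ⊔ zpowers a) := by
  obtain ⟨m, rfl⟩ : ∃ m, p = m + 1 := ⟨p - 1, (Nat.sub_add_cancel hp.out.pos).symm⟩
  rw [Nat.add_sub_cancel] at h0
  set N := T - 1 with hN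
  have hsum : ∀ v, ((N ^ m) v).val * a ^ (m + 1) = (v.val * a) ^ (m + 1) := fun v => by
    have := sub_one_pow_eq_sum (F := ZMod (m + 1)) (m + 1) T 1
    rw [pow_one, Nat.add_sub_cancel] at this
    rw [val_mul_pow hT, this]
  have hTN : ∀ w, T w = w + N w := fun w => by simp [hN]
  have hNm : N ^ (m + 1) = 0 := by
    ext v
    have h1 : a * (v.val * a) ^ (m + 1) * a⁻¹ = (v.val * a) ^ (m + 1) := by
      have h2 : (v.val * a) ^ (m + 1) ∈ V := hsum v ▸ V.mul_mem (EA.val_mem _) ha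
      have h3 : v.val⁻¹ * (v.val * a) * (v.val * a) ^ (m + 1) = (v.val * a) ^ (m + 1) * (v.val⁻¹ * (v.val * a)) := by
        rw [mul_assoc, ← pow_succ', ← mul_assoc, elemAb_comm hV h2 (V.inv_mem v.val_mem), mul_assoc, pow_succ]
      rw [inv_mul_cancel_left] at h3
      rw [h3, mul_inv_cancel_right]
    rw [← hsum, ← mul_assoc, mul_assoc _ (a ^ (m + 1)), ((Commute.refl a).pow_left _).inv_right.eq,
      ← mul_assoc, mul_left_inj, ← hT, hTN, EA.val_add, mul_eq_left] at h1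
    rwa [pow_succ', End.mul_apply]
  obtain ⟨v, φ, hv⟩ : ∃ (v : EA hV) (φ : EA hV →ₗ[ZMod (m + 1)] ZMod (m + 1)), φ ((N ^ m) v) = 1 := by
    obtain ⟨v, hv⟩ := DFunLike.ne_iff.1 h0
    obtain ⟨φ, hφ⟩ := Module.Projective.exists_dual_eq_one (ZMod (m + 1)) hv
    exact ⟨v, φ, hφ⟩
  let ψ : EA hV →ₗ[ZMod (m + 1)] (Fin (m + 1) → ZMod (m + 1)) := LinearMap.pi fun i => φ ∘ₗ N ^ (i : ℕ)
  have hψ : ∀ w, ψ w = 0 ↔ ∀ i, φ ((N ^ i) w) = 0 := fun w => ⟨fun h i => by
    by_cases hi : i < m + 1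
    · exact congrFun h ⟨i, hi⟩
    · rw [pow_eq_zero_of_le (not_lt.1 hi) hNm]; simp, fun h => funext fun i => h i⟩
  have hψ' : ∀ w, N w = 0 → φ w = 0 → ψ w = 0 := fun w h1 h2 => (hψ w).2 fun i => by
    rcases i with _ | i
    · exact h2
    · rw [pow_succ, End.mul_apply, h1, map_zero, map_zero]
  have hNN : N ((N ^ m) v) = 0 := by rw [← End.mul_apply, ← pow_succ', hNm]; rfl
  set S := V ⊔ zpowers a with hS
  have hVS : V ≤ S := le_sup_left
  set U := (EA.grp (LinearMap.ker ψ)).subgroupOf S with hU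
  have hUn : U.Normal := (normal_subgroupOf_iff_le_normalizer ((EA.grp_le _).trans hVS)).2 (sup_le
    ((elemAb_le_centralizer hV).trans ((centralizer_le (EA.grp_le _)).trans (centralizer_le_normalizer _)))
    (zpowers_le.2 (mem_normalizer_fintype (by
      rintro _ ⟨w, hw, rfl⟩
      refine ⟨T w, (hψ _).2 fun i => ?_, hT w⟩
      rw [hTN, map_add, map_add, (hψ w).1 hw, ← End.mul_apply, ← pow_succ, (hψ w).1 hw, add_zero]))))
  let g : S →* Shrink.{0} (S ⧸ U) := Shrink.mulEquiv.symm.toMonoidHom.comp (QuotientGroup.mk' U)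
  have hg : Function.Surjective g := Shrink.mulEquiv.symm.surjective.comp (QuotientGroup.mk'_surjective U)
  have hker : ∀ s, g s = 1 ↔ s ∈ U := fun s =>
    (MulEquiv.map_eq_one_iff (Shrink.mulEquiv.{0} (α := S ⧸ U)).symm).trans (QuotientGroup.eq_one_iff s)
  let ι : EA hV → S := fun w => ⟨w.val, hVS w.val_mem⟩
  have hι : ∀ w, g (ι w) = 1 ↔ ψ w = 0 := fun w => (hker _).trans EA.val_mem_grp
  have hι' : ∀ w w', g (ι w) = g (ι w') ↔ ψ w = ψ w' := fun w w' => by
    rw [← mul_inv_eq_one, ← map_inv, ← map_mul, ← sub_eq_zero (a := ψ w), ← map_sub, ← hι]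
    exact Iff.of_eq (congrArg (g · = 1) (Subtype.ext (EA.val_sub w w').symm))
  set B := (V.subgroupOf S).map g with hB
  have hmem : ∀ b, b ∈ B ↔ ∃ w, g (ι w) = b := fun b =>
    ⟨fun ⟨s, hs, e⟩ => ⟨EA.of hV s hs, e⟩, fun ⟨w, e⟩ => ⟨ι w, w.val_mem, e⟩⟩
  have : B.Normal := Normal.map inferInstance g hg
  let u := (-φ (EA.of hV _ ha)) • v
  let t : S := ι u * ⟨a, mem_sup_right (mem_zpowers a)⟩
  have hconj : ∀ w, t * ι w * t⁻¹ = ι (T w) := fun w => Subtype.ext (by
    show u.val * a * w.val * (u.val * a)⁻¹ = (T w).val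
    rw [← mul_inv_cancel_right (T w).val u.val, elemAb_comm hV (T w).val_mem u.val_mem, hT]
    group)
  have hcomm : ∀ w, g (ι w) ∈ centralizer {g t} ↔ ψ (N w) = 0 := fun w => by
    rw [mem_centralizer_singleton_iff, eq_comm, ← mul_inv_eq_iff_eq_mul, ← map_inv, ← map_mul, ← map_mul, hconj,
      hι', hTN, map_add, add_eq_left]
  have hm : m ≠ 0 := fun h => hp.out.ne_one (by rw [h])
  have htB : g t ∉ B := fun h => by
    obtain ⟨w, hw⟩ := (hmem _).1 h
    have h1 := (hψ _).1 ((hcomm v).1 (hw ▸ mem_centralizer_singleton_iff.2 (by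
      rw [← map_mul, ← map_mul]
      exact congrArg g (Subtype.ext (elemAb_comm hV v.val_mem w.val_mem))))) (m - 1)
    rw [← End.mul_apply, ← pow_succ, Nat.sub_add_cancel (Nat.pos_of_ne_zero hm), hv] at h1
    exact one_ne_zero h1
  have hot : orderOf (g t) = m + 1 := orderOf_eq_prime (by
    rw [← map_pow, show t ^ (m + 1) = ι ((N ^ m) u + EA.of hV _ ha) from Subtype.ext (hsum u).symm, hι]
    refine hψ' _ ?_ (by simp [u, hv])
    rw [map_add, ← End.mul_apply, ← pow_succ', hNm, LinearMap.zero_apply, zero_add, ← add_eq_left, ← hTN]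
    exact EA.ext (by rw [hT, EA.val_of, ← pow_succ', pow_succ, mul_inv_cancel_right]))
    fun h => htB (h ▸ B.one_mem)
  have hcB : Nat.card B = (m + 1) ^ (m + 1) := by
    have hs : Function.Surjective ψ := fun x => (surj_aux N φ v hNm hv x).imp fun w hw => funext hw
    rw [← Nat.card_congr (Equiv.ofBijective (fun x => (⟨g (ι (hs x).choose), (hmem _).2 ⟨_, rfl⟩⟩ : B))
      ⟨fun x y e => by
        rw [← (hs x).choose_spec, ← (hs y).choose_spec]
        exact (hι' _ _).1 (congrArg Subtype.val e), fun b => by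
        obtain ⟨w, hw⟩ := (hmem _).1 b.2
        exact ⟨ψ w, Subtype.ext (((hι' _ _).2 (hs _).choose_spec).trans hw)⟩⟩)]
    simp
  refine ⟨_, inferInstance, inferInstance, ⟨B, g t, this, ?_, fun b hb => ?_, hcB, hot, htB, ?_, ?_⟩,
    sec_of_surjective g hg⟩
  · have := hV.1
    infer_instance
  · obtain ⟨w, rfl⟩ := (hmem b).1 hb
    rw [← map_pow, show ι w ^ (m + 1) = 1 from Subtype.ext (hV.2 _ w.val_mem), map_one]
  · have h1 := Grp.card_mul_card_eq_of_normal (zpowers (g t)) B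
    have h2 : zpowers (g t) ⊔ B = ⊤ := by
      rw [← MonoidHom.map_zpowers, ← Subgroup.map_sup, ← map_top_of_surjective g hg]
      congr 1
      refine eq_top_iff.2 fun s _ => ?_
      obtain ⟨x, hx, y, ⟨k, rfl⟩, e⟩ := (Grp.mem_sup_of_le_normalizer' le_normalizer_of_normal).1 s.2
      have h3 : (⟨a, mem_sup_right (mem_zpowers a)⟩ : S) ∈ zpowers t ⊔ V.subgroupOf S := by
        rw [← inv_mul_cancel_left (ι u) ⟨a, _⟩]
        exact mul_mem (inv_mem (mem_sup_right u.val_mem)) (mem_sup_left (mem_zpowers t))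
      rw [show s = ⟨x, hVS hx⟩ * ⟨a, mem_sup_right (mem_zpowers a)⟩ ^ k from Subtype.ext e.symm]
      exact mul_mem (mem_sup_right hx) (zpow_mem h3 k)
    have : Fact (Nat.card (zpowers (g t))).Prime := by rwa [Nat.card_zpowers, hot]
    have h3 : zpowers (g t) ⊓ B = ⊥ := by
      rcases (B.subgroupOf (zpowers (g t))).eq_bot_or_eq_top_of_prime_card with h | h
      · exact disjoint_iff.1 (subgroupOf_eq_bot.1 h).symm
      · exact absurd (subgroupOf_eq_top.1 h (mem_zpowers _)) htB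
    rw [h2, h3, card_bot, one_mul, card_top, Nat.card_zpowers, hot, hcB] at h1
    rw [← h1, ← pow_succ']
  · have h1 : B ⊓ centralizer {g t} = zpowers (g (ι ((N ^ m) v))) := le_antisymm (fun b hb => by
      obtain ⟨w, rfl⟩ := (hmem b).1 hb.1
      refine ⟨(φ w).val, ?_⟩
      dsimp only
      rw [zpow_natCast, ← map_pow, show ι ((N ^ m) v) ^ (φ w).val = ι (φ w • (N ^ m) v) from Subtype.ext
        ((EA.val_natCast_smul _ ((N ^ m) v)).symm.trans (by rw [ZMod.natCast_zmod_val])), hι', eq_comm,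
        ← sub_eq_zero, ← map_sub, hψ]
      rintro (_ | i)
      · simp [hv]
      · rw [pow_succ, End.mul_apply, map_sub, map_smul, hNN, smul_zero, sub_zero]
        exact (hψ _).1 ((hcomm w).1 hb.2) i)
      (zpowers_le.2 ⟨(hmem _).2 ⟨_, rfl⟩, (hcomm _).2 (by rw [hNN, map_zero])⟩)
    rw [h1, Nat.card_zpowers]
    refine orderOf_eq_prime (by
      rw [← map_pow, show ι _ ^ (m + 1) = 1 from Subtype.ext (hV.2 _ (EA.val_mem _)), map_one]) fun h => ?_
    exact one_ne_zero (hv.symm.trans ((hψ _).1 ((hι _).1 h) 0))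

/-- Let G be a finite p-soluble group, p an odd prime not of the form 2^k + 1, and suppose the wreath product C_p ≀ C_p (of order p^(p+1)) is not involved in a Sylow p-subgroup of G: no section of a Sylow p-subgroup is isomorphic to it. Then G has p-length at most 1. -/
theorem result {G : Type*} [Group G] [Finite G] {p : ℕ} [Fact p.Prime] (hp2 : p ≠ 2) (hnf : (¬ ∃ k : ℕ, p = 2 ^ k + 1)) (hG : Cfsg.IsPSolvable p G) (P : Sylow p G) (hwr : ∀ (W : Type) [Group W] [Finite W], (∃ (B : Subgroup W) (t : W), B.Normal ∧ IsMulCommutative B ∧ (∀ b ∈ B, b ^ p = 1) ∧ Nat.card B = p ^ p ∧ orderOf t = p ∧ t ∉ B ∧ Nat.card W = p ^ (p + 1) ∧ Nat.card ↥(B ⊓ Subgroup.centralizer ({t} : Set W)) = p) → ¬ Cfsg.Involves W ↥(P : Subgroup G)) : Cfsg.PLengthLE p 1 G := by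
  refine pLengthLE_succ_iff.2 (pLengthLE_zero_of_expLE fun y hy => ?_)
  by_contra hne
  rw [pow_zero, pow_one] at hne
  obtain ⟨X, _, _, f, hEA, σ, hf, hcomap, -, hσ, hval⟩ := exists_hh_rep (isPConstrained_of_isPSolvable hG)
  obtain ⟨z, hz, hz1, hzp⟩ : ∃ z : G ⧸ pPrimePCore p G, (∃ j, z ^ p ^ j = 1) ∧ z ≠ 1 ∧ z ^ p = 1 := by
    obtain ⟨j, hj⟩ := hy
    induction j generalizing y with
    | zero => exact absurd (by simpa using hj) hne
    | succ j ih =>
      by_cases h : y ^ p = 1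
      · exact ⟨y, ⟨_, hj⟩, hne, h⟩
      · exact ih _ h (by rwa [← pow_mul, ← pow_succ'])
  obtain ⟨x, ⟨j, hj⟩, rfl⟩ := exists_lift_pElement _ (QuotientGroup.mk'_surjective _) hz
  rcases theoremB_succ σ hσ (IsPSolvable.quotient hG _) pCore_quotient_pPrimePCore (n := 0)
    ((orderOf_eq_prime hzp hz1).trans (pow_one p).symm) with h | ⟨n₀, q, m, h1, -, h2, h3, h4, -⟩
  · rw [zero_add, pow_one] at h
    obtain ⟨W, _, _, hW, hsec⟩ := exists_wreath (hval x) (by
      rw [← map_pow, ← mem_comap, hcomap]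
      exact (QuotientGroup.eq_one_iff _).1 hzp) h
    obtain ⟨Q, hQ, hQf⟩ := exists_isPGroup_map_eq f hf (IsPGroup.to_sup_of_normal_left (isEA_isPGroup hEA)
      (isPGroup_zpowers_of_pow_eq_one (show f x ^ p ^ j = 1 by rw [← map_pow, hj, map_one])))
    obtain ⟨R, hR⟩ := hQ.exists_le_sylow
    exact hwr W hW (sec_iff_involves.1 (((hsec.trans (Cfsg.Agent.PLocal.SecNorm.sec_of_map_eq f hQf)).trans (Cfsg.Agent.PLocal.SecNorm.sec_of_le hR)).trans
      (sec_of_equiv (P.equiv R))))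
  · exact hnf (eq_two_of_pow_sub_one ((Fact.out : p.Prime).odd_of_ne_two hp2) h1 h2 h3 h4).2

end Cfsg.Agent.S3787
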