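import Cfsg.Statements.S3788
import Mathlib
import Cfsg.Agent.PLocal.PSolvRed
import Cfsg.Agent.PLocal.NStable
import Cfsg.Agent.PLocal.CoprimeQuot

set_option autoImplicit false
open Cfsg

namespace Cfsg.Agent.S3788

open Subgroup
open scoped commutatorElement Pointwise

theorem core {X : Type*} [Group X] [Finite X] {p : ℕ} [hp : Fact p.Prime] (hX : Cfsg.IsPSolvable p X)
    (hEA : Cfsg.IsElementaryAbelian p (Cfsg.pCore p X))
    (hC : centralizer (Cfsg.pCore p X : Set X) ≤ Cfsg.pCore p X) (a : X) (ha : ∃ k, a ^ p ^ k = 1)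
    (hVa : ∀ v ∈ Cfsg.pCore p X, ⁅a, v⁆ ∈ zpowers a) (haV : a ∉ Cfsg.pCore p X) :
    p = 2 ∧ PLocal.CF.Sec (Equiv.Perm (Fin 4)) X := by
  set V := Cfsg.pCore p X with hV
  have hVn : V.Normal := inferInstance
  have hVp : IsPGroup p V := Grp.pCore_isPGroup p X
  have hcomm := hEA.1
  obtain ⟨Q, hQ, -, hdec, hcent⟩ := PLocal.exists_complement_pCore hX
  obtain ⟨k, hk, hn⟩ := hdec a
  set n := k⁻¹ * a with hndef
  have han : a = k * n := by rw [hndef, mul_inv_cancel_left]
  have hVQ : V ⊓ Q = ⊥ := Grp.inf_eq_bot_of_isPGroup_of_coprime hVp hQ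
  have hcV : ∀ g, ∀ v ∈ V, ⁅g, v⁆ ∈ V := fun g v hv =>
    V.mul_mem (hVn.conj_mem v hv g) (V.inv_mem hv)
  have hcomm_n : ∀ v ∈ V, ⁅n, v⁆ = ⁅a, v⁆ := by
    intro v hv
    have := PLocal.isEA_comm hEA hk (hVn.conj_mem v hv n)
    calc ⁅n, v⁆ = k * (n * v * n⁻¹) * k⁻¹ * v⁻¹ := by
          rw [this, mul_inv_cancel_right, commutatorElement_def]
      _ = (k * n) * v * (k * n)⁻¹ * v⁻¹ := by group
      _ = ⁅a, v⁆ := by rw [← han, commutatorElement_def]
  -- elements of `V` normalizing `Q` centralize it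
  have hVN : ∀ v ∈ V, v ∈ normalizer (Q : Set X) → v ∈ centralizer (Q : Set X) := by
    intro v hv hvn q hq
    have h1 : ⁅q, v⁆ ∈ V ⊓ Q := ⟨hcV q v hv, by
      rw [commutatorElement_def, mul_assoc, mul_assoc, ← mul_assoc v]
      exact Q.mul_mem hq ((mem_normalizer_iff.mp hvn _).mp (Q.inv_mem hq))⟩
    rwa [hVQ, mem_bot, commutatorElement_eq_one_iff_mul_comm] at h1
  have hnV : n ∉ V := fun h => haV (han ▸ V.mul_mem hk h)
  have hnp : IsPGroup p (zpowers n) := by
    obtain ⟨j, hj⟩ := ha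
    have h1 : IsPGroup p (zpowers a ⊔ V : Subgroup X) :=
      IsPGroup.to_sup_of_normal_right (PLocal.isPGroup_zpowers_of_pow_eq_one hj) hVp
    exact h1.to_le (zpowers_le.mpr (mul_mem (mem_sup_right (V.inv_mem hk))
      (mem_sup_left (mem_zpowers a))))
  have hnp' : ∃ j, n ^ p ^ j = 1 := by
    obtain ⟨j, hj⟩ := hnp ⟨n, mem_zpowers n⟩
    exact ⟨j, congrArg Subtype.val hj⟩
  have hnQ : n ∉ centralizer (Q : Set X) := fun h => hnV (hcent n h
    (let ⟨j, hj⟩ := hnp'; ⟨j, hj ▸ V.one_mem⟩))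
  have hac : ∀ v ∈ V, Commute ⁅a, v⁆ a := fun v hv => by
    obtain ⟨j, hj⟩ := hVa v hv
    rw [← hj]
    exact (Commute.refl a).zpow_left j
  have hb : a ^ p ∈ V := hC fun v hv => by
    have := Grp.CommPow.commutator_pow_left (hac v hv) p
    rw [hEA.2 _ (hcV a v hv), commutatorElement_eq_one_iff_mul_comm] at this
    exact this.symm
  -- a subgroup `Y` of `Q` normalized by `n` with `[Y, n] = Y` gives a commutator in `[V, Y]`
  have hW : ∀ Y : Subgroup X, Y ≤ Q → Y ≠ ⊥ → ⁅V, Y⁆ ≠ ⊥ := by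
    intro Y hY hY1 h
    have h1 : Y ≤ V := (le_centralizer_iff.mp (commutator_eq_bot_iff_le_centralizer.mp h)).trans hC
    exact hY1 (le_bot_iff.mp (hVQ ▸ le_inf h1 hY))
  have hcopY : ∀ Y : Subgroup X, Y ≤ Q → (Nat.card Y).Coprime (Nat.card V) := fun Y hY =>
    Solv.coprime_card_of_isPGroup hVp (hQ.coprime_dvd_left (card_dvd_of_le hY))
  have hact : ∀ Y : Subgroup X, Y ≤ Q → Y ≠ ⊥ → Y ≤ ⁅Y, zpowers n⁆ →
      n ∉ centralizer ((⁅V, Y⁆ : Subgroup X) : Set X) := by
    intro Y hY hY1 hYn h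
    have h1 : ⁅Y, zpowers n⁆ ≤ centralizer ((⁅V, Y⁆ : Subgroup X) : Set X) := by
      rw [commutator_comm]
      refine (commutator_mono (zpowers_le.mpr h) le_rfl).trans
        (Solv.commutator_le_of_le_normalizer ?_)
      exact Solv.le_normalizer_centralizer (Solv.le_normalizer_commutator_right V Y)
    refine hW Y hY hY1 (Solv.coprime_commutator_eq_bot Y V le_normalizer_of_normal (hcopY Y hY)
      (Or.inr (Solv.isSolvable_of_isPGroup hVp)) ?_)
    exact commutator_eq_bot_iff_le_centralizer.mpr (le_centralizer_iff.mp (hYn.trans h1))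
  by_cases hp2 : p = 2
  · refine ⟨hp2, ?_⟩
    subst hp2
    have hn2V : n ^ 2 ∈ V := by
      have : n ^ 2 = k⁻¹ * (a * k⁻¹ * a⁻¹) * a ^ 2 := by rw [hndef, sq, sq]; group
      rw [this]
      exact V.mul_mem (V.mul_mem (V.inv_mem hk) (hVn.conj_mem _ (V.inv_mem hk) a)) hb
    have hn2 := hVN _ hn2V (Subgroup.pow_mem _ hn 2)
    obtain ⟨x, hx, hxn⟩ : ∃ x ∈ Q, x * n ≠ n * x := by
      by_contra h
      push Not at h
      exact hnQ h
    set y := x⁻¹ * (n * x * n⁻¹) with hy
    have hyQ : y ∈ Q := Q.mul_mem (Q.inv_mem hx) ((mem_normalizer_iff.mp hn x).mp hx)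
    have hy1 : y ≠ 1 := fun h => hxn (by
      rw [hy, inv_mul_eq_one, eq_mul_inv_iff_mul_eq] at h; exact h)
    have hinv : n * y * n⁻¹ = y⁻¹ := by
      have h1 := hn2 x hx
      have h2 : n * (n * x * n⁻¹) * n⁻¹ = x := by
        rw [sq] at h1
        calc n * (n * x * n⁻¹) * n⁻¹ = (n * n * x) * (n * n)⁻¹ := by group
          _ = x := by rw [← h1, mul_inv_cancel_right]
      calc n * y * n⁻¹ = (n * x * n⁻¹)⁻¹ * (n * (n * x * n⁻¹) * n⁻¹) := by rw [hy]; group
        _ = y⁻¹ := by rw [h2, hy]; group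
    have hyodd : Odd (orderOf y) :=
      Nat.coprime_two_right.mp (hQ.coprime_dvd_left (orderOf_dvd_natCard Q hyQ))
    set Y := zpowers y with hY
    have hYQ : Y ≤ Q := zpowers_le.mpr hyQ
    have hY1 : Y ≠ ⊥ := by rwa [hY, Ne, zpowers_eq_bot]
    have hy2 : ∀ T : Subgroup X, y ^ 2 ∈ T → Y ≤ T := by
      intro T hT
      rw [hY, zpowers_le]
      obtain ⟨m, hm⟩ := hyodd
      have : y = (y ^ 2) ^ (m + 1) := by
        rw [← pow_mul, show 2 * (m + 1) = orderOf y + 1 by omega, pow_succ, pow_orderOf_eq_one,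
          one_mul]
      rw [this]
      exact T.pow_mem hT _
    have hsq : y ^ 2 = y * n * y⁻¹ * n⁻¹ := by
      have : n * y⁻¹ * n⁻¹ = y := by
        calc n * y⁻¹ * n⁻¹ = (n * y * n⁻¹)⁻¹ := by group
          _ = y := by rw [hinv, inv_inv]
      rw [sq, mul_assoc y, mul_assoc y, this]
    have hnY : n ∈ normalizer (Y : Set X) := by
      refine mem_normalizer_fintype fun z hz => ?_
      obtain ⟨j, rfl⟩ := hz
      change n * y ^ j * n⁻¹ ∈ zpowers y
      rw [← conj_zpow, hinv]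
      exact Subgroup.zpow_mem _ (Subgroup.inv_mem _ (mem_zpowers y)) j
    set W := ⁅V, Y⁆ with hWdef
    have hWV : W ≤ V := commutator_le_left V Y
    have hCW := Solv.coprime_centralizer_inf_commutator Y V le_normalizer_of_normal (hcopY Y hYQ)
    have hyW : y ∉ centralizer (W : Set X) := by
      intro h
      refine hW Y hYQ hY1 (le_bot_iff.mp (hCW ▸ le_inf (le_inf hWV ?_) le_rfl))
      exact le_centralizer_iff.mp (zpowers_le.mpr h)
    have hnW := hact Y hYQ hY1 (hy2 _ (hsq ▸ commutator_mem_commutator (mem_zpowers y) (mem_zpowers n)))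
    -- the order of `W`
    set D := zpowers a ⊓ V with hD
    have hDc : Nat.card D ≤ 2 := by
      have : IsCyclic D := isCyclic_of_le (inf_le_left : D ≤ zpowers a)
      rw [← IsCyclic.exponent_eq_card]
      exact Nat.le_of_dvd two_pos (Monoid.exponent_dvd_of_forall_pow_eq_one
        fun d => Subtype.ext (hEA.2 _ d.2.2))
    have hDV : MulAut.conj y • D ≤ V := fun z hz => by
      have := hVn.conj_mem _ (Grp.mem_conj_smul_iff.mp hz).2 y
      simpa [mul_assoc] using this
    have hU : Nat.card (D ⊔ MulAut.conj y • D : Subgroup X) ≤ 4 := by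
      have h1 := Grp.card_sup_dvd_of_le_normalizer (H := D) (N := MulAut.conj y • D)
        ((inf_le_right.trans ((PLocal.isEA_le_centralizer hEA).trans (centralizer_le hDV))).trans
          (centralizer_le_normalizer _))
      rw [Grp.card_conj_smul] at h1
      exact (Nat.le_of_dvd (Nat.mul_pos Nat.card_pos Nat.card_pos) h1).trans
        (Nat.mul_le_mul hDc hDc)
    have hWU : W ≤ D ⊔ MulAut.conj y • D := by
      rw [hWdef, commutator_comm, ← PLocal.le_secStab'_iff]
      refine hy2 _ ?_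
      rw [hsq]
      refine mul_mem (fun v hv => mem_sup_right ?_) (inv_mem fun v hv => mem_sup_left ?_)
      · rw [Grp.mem_conj_smul_iff]
        have h1 := hVn.conj_mem v hv y⁻¹
        have h2 : ⁅n, y⁻¹ * v * y⁻¹⁻¹⁆ ∈ D := hcomm_n _ h1 ▸ ⟨hVa _ h1, hcV _ _ h1⟩
        convert h2 using 1
        rw [commutatorElement_def]
        group
      · exact (hcomm_n v hv ▸ ⟨hVa _ hv, hcV _ _ hv⟩ : ⁅n, v⁆ ∈ D)
    have hYW : Y ≤ normalizer (W : Set X) := Solv.le_normalizer_commutator_right V Y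
    have hW4 : Nat.card W = 4 := by
      obtain ⟨j, hj⟩ := (hVp.to_le hWV).exists_card_eq
      have h1 : 2 ^ j ≤ 2 ^ 2 := hj ▸ (card_le_of_le hWU).trans hU
      have h2 : j ≤ 2 := (Nat.pow_le_pow_iff_right one_lt_two).mp h1
      by_contra h4
      have h3 : Nat.card W ≤ 2 := by
        rw [hj] at h4 ⊢
        interval_cases j
        · norm_num
        · norm_num
        · exact absurd rfl h4
      apply hyW
      intro w hw
      by_cases hw1 : w = 1
      · simp [hw1]
      · have h5 : y * w * y⁻¹ ∈ W := (mem_normalizer_iff.mp (hYW (mem_zpowers y)) w).mp hw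
        have h6 : y * w * y⁻¹ ≠ 1 := fun h => hw1 (by simpa [mul_inv_eq_one] using h)
        have h7 : y * w * y⁻¹ = w := by
          by_contra h7
          have := Fintype.ofFinite W
          rw [Nat.card_eq_fintype_card] at h3
          have h8 : 2 < Fintype.card W := Fintype.two_lt_card_iff.mpr
            ⟨1, ⟨w, hw⟩, ⟨_, h5⟩, fun h => hw1 (congrArg Subtype.val h).symm,
              fun h => h6 (congrArg Subtype.val h).symm, fun h => h7 (congrArg Subtype.val h).symm⟩
          omega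
        exact (mul_inv_eq_iff_eq_mul.mp h7).symm
    refine PLocal.sec_sym4 (H := Y ⊔ zpowers n) (sup_le hYW (zpowers_le.mpr
      (Solv.le_normalizer_commutator (B := zpowers n) le_normalizer_of_normal
        (zpowers_le.mpr hnY) (mem_zpowers n)))) hW4 ?_ (mem_sup_right (mem_zpowers n))
      (mem_sup_left (mem_zpowers y)) hnp' hyodd hnW hyW
    refine le_bot_iff.mp (hCW ▸ le_inf (fun z hz => ⟨hWV hz.2, ?_⟩) inf_le_right)
    have h1 : z ∈ normalizer (Q : Set X) :=
      (sup_le (hYQ.trans le_normalizer) (zpowers_le.mpr hn) : Y ⊔ zpowers n ≤ _) hz.1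
    exact centralizer_le hYQ (hVN z (hWV hz.2) h1)
  · exfalso
    have hodd : Odd p := hp.out.odd_of_ne_two hp2
    have hnb : n ^ p = a ^ p := by
      have hk' := V.inv_mem hk
      have h1 := Grp.CommPow.mul_pow_eq_of_odd (x := k⁻¹) (y := a)
        (PLocal.isEA_comm hEA (hcV a _ hk') hk') (hac _ hk') hodd (hEA.2 _ (hcV a _ hk'))
      rw [hndef, h1, hEA.2 _ hk', one_mul]
    have hbQ : a ^ p ∈ centralizer (Q : Set X) := hVN _ hb (hnb ▸ Subgroup.pow_mem _ hn p)
    set Y := ⁅Q, zpowers n⁆ with hY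
    have hnQ' : zpowers n ≤ normalizer (Q : Set X) := zpowers_le.mpr hn
    have hYQ : Y ≤ Q := Solv.commutator_le_of_le_normalizer hnQ'
    have hY1 : Y ≠ ⊥ := fun h =>
      hnQ (le_centralizer_iff.mp (commutator_eq_bot_iff_le_centralizer.mp h) (mem_zpowers n))
    have hYn : ⁅Y, zpowers n⁆ = Y := Solv.coprime_commutator_commutator (zpowers n) Q hnQ'
      (Solv.coprime_card_of_isPGroup hnp hQ).symm (Or.inl (Solv.isSolvable_of_isPGroup hnp))
    have hCW := Solv.coprime_centralizer_inf_commutator Y V le_normalizer_of_normal (hcopY Y hYQ)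
    apply hact Y hYQ hY1 hYn.ge
    intro w hw
    have hwV : w ∈ V := commutator_le_left V Y hw
    have hnW : n ∈ normalizer ((⁅V, Y⁆ : Subgroup X) : Set X) :=
      Solv.le_normalizer_commutator (B := zpowers n) le_normalizer_of_normal
        (Solv.le_normalizer_commutator_right Q _) (mem_zpowers n)
    have h1 : ⁅n, w⁆ ∈ ⁅V, Y⁆ :=
      mul_mem ((mem_normalizer_iff.mp hnW w).mp hw) (inv_mem hw)
    have h2 : ⁅n, w⁆ ∈ centralizer (Q : Set X) := by
      obtain ⟨j, hj⟩ := hVa w hwV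
      rw [hcomm_n w hwV, ← hj]
      by_cases hpj : (p : ℤ) ∣ j
      · obtain ⟨m, rfl⟩ := hpj
        change a ^ ((p : ℤ) * m) ∈ _
        rw [zpow_mul, zpow_natCast]
        exact Subgroup.zpow_mem _ hbQ m
      · exfalso
        have h3 : IsCoprime (p : ℤ) j :=
          (Nat.prime_iff_prime_int.mp hp.out).irreducible.coprime_iff_not_dvd.mpr hpj
        obtain ⟨u, v, huv⟩ := h3
        apply haV
        have h4 : a ^ j ∈ V := by
          have := hcV a w hwV
          rwa [← hj] at this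
        have : a = (a ^ p) ^ u * (a ^ j) ^ v := by
          rw [← zpow_natCast, ← zpow_mul, ← zpow_mul, ← zpow_add, mul_comm (p : ℤ), mul_comm j, huv,
            zpow_one]
        rw [this]
        exact V.mul_mem (V.zpow_mem hb u) (V.zpow_mem h4 v)
    have h3 : ⁅n, w⁆ ∈ (V ⊓ centralizer (Y : Set X)) ⊓ ⁅V, Y⁆ :=
      ⟨⟨hcV n w hwV, centralizer_le hYQ h2⟩, h1⟩
    rw [hCW, mem_bot, commutatorElement_eq_one_iff_mul_comm] at h3
    exact h3.symm

/-- Let G be a finite p-soluble group, P a Sylow p-subgroup of G and A a cyclic normal subgroup of P. If p is odd, or if no section of G is isomorphic to the symmetric group of degree 4, then A ≤ O_{p',p}(G). -/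
theorem result {G : Type*} [Group G] [Finite G] {p : ℕ} [Fact p.Prime] (hG : Cfsg.IsPSolvable p G) (P : Sylow p G) (A : Subgroup G) (hAP : A ≤ (P : Subgroup G)) (hAn : (P : Subgroup G) ≤ Subgroup.normalizer (A : Set G)) (hA : IsCyclic A) (h : p ≠ 2 ∨ ¬ Cfsg.Involves (Equiv.Perm (Fin 4)) G) : A ≤ Cfsg.pPrimePCore p G := by
  obtain ⟨X, _, _, f, hf, hcomap, hEA, hC⟩ :=
    PLocal.exists_frattini_reduction (PLocal.isPConstrained_of_isPSolvable hG)
  obtain ⟨a, ha⟩ := (Subgroup.isCyclic_iff_exists_zpowers_eq_top A).mp hA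
  rw [← hcomap, ← ha, zpowers_le, mem_comap]
  by_contra hna
  have haA : a ∈ A := ha ▸ mem_zpowers a
  obtain ⟨h2, hsec⟩ := core (PLocal.IsPSolvable.of_surjective hG f hf) hEA hC (f a)
    (by
      obtain ⟨k, hk⟩ := P.isPGroup' ⟨a, hAP haA⟩
      exact ⟨k, by rw [← map_pow, show a ^ p ^ k = 1 from congrArg Subtype.val hk, map_one]⟩)
    (fun v hv => by
      obtain ⟨g, hg, rfl⟩ : v ∈ (P : Subgroup G).map f :=
        Grp.pCore_le_sylow (P.mapSurjective hf) hv
      rw [← map_commutatorElement, ← MonoidHom.map_zpowers, ha]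
      refine mem_map_of_mem f ?_
      rw [commutatorElement_def, mul_assoc, mul_assoc, ← mul_assoc g]
      exact A.mul_mem haA ((mem_normalizer_iff.mp (hAn hg) _).mp (A.inv_mem haA))) hna
  rcases h with h | h
  · exact h h2
  · exact h (PLocal.CF.sec_iff_involves.mp (hsec.trans (PLocal.CF.sec_of_surjective f hf)))

end Cfsg.Agent.S3788
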