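import Cfsg.Statements.S3789
import Mathlib
import Cfsg.Agent.PLocal.HHRed
import Cfsg.Agent.PLocal.HHExp
import Cfsg.Agent.PLocal.ParChar

set_option autoImplicit false
open Cfsg

namespace Cfsg.Agent.S3789

open Subgroup Module PLocal PLocal.HH
open scoped commutatorElement

theorem central_three {F : Type*} [Field F] [Fact (Nat.Prime 3)] [CharP F 3] {Γ : Type*} [Group Γ]
    [Finite Γ] {W : Type*} [AddCommGroup W] [Module F W] [FiniteDimensional F W]
    (ρ : Γ →* End F W) (hρ : Function.Injective ρ) (hsol : IsPSolvable 3 Γ) (hO : pCore 3 Γ = ⊥)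
    {B : Subgroup Γ} (hB : IsPGroup 3 B) {c : Γ} (hc : c ∈ ⁅B, B⁆) (hcB : c ∈ centralizer (B : Set Γ))
    (ho : orderOf c = 3) (h1 : (ρ c - 1) ^ 2 = 0) (h2 : ∀ g ∈ B, (ρ g - 1) ^ 2 * (ρ c - 1) = 0) : False := by
  have hcB' : c ∈ B := commutator_le_self B hc
  obtain ⟨q, hq, hpq, Q, -, hQ, hBQ, hnt⟩ := exists_invariant_qgroup (D := zpowers c) hB
    (Grp.pPrimeCore_coprime 3 Γ) le_normalizer_of_normal (by
      intro h
      have h3 := Grp.orderOf_coprime_of_mem_pPrimeCore
        (centralizer_pPrimeCore_le_of_isPSolvable hsol hO (h (mem_zpowers _)))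
      rw [ho] at h3
      exact absurd h3 (by decide))
  have := Fact.mk hq
  obtain ⟨B', Γ', _, _, f, A, -, -, hAn, h3, h4, h5⟩ := reduce ρ hρ hpq hQ hBQ (zpowers_le.mpr hcB')
    ((le_centralizer_iff.mp (zpowers_le.mpr hcB)).trans (centralizer_le_normalizer _))
    (by rw [Nat.card_zpowers, ho]; exact (Nat.coprime_primes Nat.prime_three hq).mpr hpq) hnt
  obtain ⟨a, n, hb, han, h6⟩ := h5 c hcB' 1 h1
  obtain rfl : a = 0 := by omega
  obtain rfl : n = 0 := by omega
  have hc' : c ∈ B' := by simpa using hb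
  obtain ⟨h7, h8⟩ := h3 (zpowers_le.mpr hc')
  have h9 : ((zpowers c).subgroupOf B').map f = zpowers (f ⟨c, hc'⟩) := by
    rw [← MonoidHom.map_zpowers]
    congr 1
    apply map_injective B'.subtype_injective
    rw [MonoidHom.map_zpowers, map_subgroupOf_eq_of_le (zpowers_le.mpr hc')]
    rfl
  rw [h9] at h8
  simp only [pow_zero, pow_one] at h6
  rw [h8] at h6
  have hA : Nat.card A = 4 := h6.resolve_left fun h => h7 (card_eq_one.mp h)
  have hBB : B ≤ B' := fun g hg => by
    by_contra h
    exact h4 g hg (isPGroup_subgroup_iff.mp hB g hg) h ⟨c, hc'⟩ (by rwa [h8]) (h2 g hg)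
  let φ : B →* MulAut A := (MulAut.conjNormal (H := A)).comp (f.comp (inclusion hBB))
  have hcyc : IsCyclic φ.range := by
    obtain ⟨k, hk⟩ := (IsPGroup.iff_card).mp (hB.of_surjective _ φ.rangeRestrict_surjective)
    have hd : Nat.card φ.range ∣ 24 := by
      have := card_dvd_of_injective (MulAut.toPerm A) (fun x y h => MulEquiv.toEquiv_injective h)
      rw [Nat.card_perm, hA] at this
      exact (card_subgroup_dvd_card _).trans this
    refine isCyclic_of_card_dvd_prime (p := 3) ?_
    rw [hk] at hd ⊢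
    exact (Nat.Coprime.pow_left k (by norm_num : Nat.Coprime 3 8)).dvd_of_dvd_mul_right (show 3 ^ k ∣ 3 * 8 from hd)
  have hφ : φ ⟨c, hcB'⟩ = 1 := by
    have : commutator B ≤ φ.ker := commutator_le.mpr fun x _ y _ => by
      rw [MonoidHom.mem_ker, map_commutatorElement, commutatorElement_eq_one_iff_mul_comm]
      exact congrArg Subtype.val (hcyc.isMulCommutative.is_comm.comm (⟨_, x, rfl⟩ : φ.range) ⟨_, y, rfl⟩)
    rw [← map_subtype_commutator] at hc
    obtain ⟨x, hx, rfl⟩ := hc
    exact this hx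
  refine h7 (h8.symm.trans (commutator_eq_bot_iff_le_centralizer.mpr (le_centralizer_iff.mp
    (zpowers_le.mpr fun a ha => ?_))))
  have := congrArg Subtype.val (DFunLike.congr_fun hφ ⟨a, ha⟩)
  exact (mul_inv_eq_iff_eq_mul.mp this).symm

theorem step {G : Type*} [Group G] [Finite G] {p : ℕ} [hp : Fact p.Prime] (hp2 : p ≠ 2)
    (hG : IsPSolvable p G) (P : Sylow p G) {B : Subgroup G} (hBP : B ≤ P)
    (hPB : (P : Subgroup G) ≤ normalizer (B : Set G)) (h : ⁅⁅B, B⁆, ⁅B, B⁆⁆ = ⊥) :
    ⁅B, B⁆ ≤ pPrimePCore p G := by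
  obtain ⟨X, _, _, f, hEA, σ, hf, -, -, hσ, hval⟩ := exists_hh_rep (isPConstrained_of_isPSolvable hG)
  have hV : pCore p X ≤ (P : Subgroup G).map f := Grp.pCore_le_sylow (P.mapSurjective hf)
  have hsub : ∀ (g : G) (v : EA hEA), ((σ (QuotientGroup.mk g) - 1) v).val = ⁅f g, v.val⁆ := fun g v => by
    rw [LinearMap.sub_apply, End.one_apply, EA.val_sub, hval, commutatorElement_def]
  have hmem : ∀ (N : Subgroup G), (P : Subgroup G) ≤ normalizer (N : Set G) → ∀ g ∈ N, ∀ v : EA hEA,
      ⁅f g, v.val⁆ ∈ N.map f := fun N hN g hg v => by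
    have h1 : pCore p X ≤ normalizer ((N.map f : Subgroup X) : Set X) :=
      hV.trans ((map_mono hN).trans (le_normalizer_map f))
    exact Solv.commutator_le_of_le_normalizer h1 (commutator_mem_commutator (mem_map_of_mem f hg) v.val_mem)
  have hone : ∀ c ∈ ⁅B, B⁆, ∀ x ∈ ⁅B, B⁆.map f, ⁅f c, x⁆ = 1 := fun c hc x hx => by
    have := commutator_mem_commutator (mem_map_of_mem f hc) hx
    rwa [← map_commutator, h, Subgroup.map_bot, mem_bot] at this
  have hPA := Solv.le_normalizer_commutator hPB hPB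
  set π := QuotientGroup.mk' (pPrimePCore p G) with hπ
  by_contra hcon
  have hB : IsPGroup p B := P.isPGroup'.to_le hBP
  obtain ⟨_, ⟨c, hc, rfl⟩, hcB, ho⟩ := WC.exists_orderOf_eq_centralizer (hB.map π)
    ((hB.to_le (commutator_le_self B)).map π)
    ((map_mono (Solv.le_normalizer_commutator_left B B)).trans (le_normalizer_map π))
    (by rwa [Ne, Subgroup.map_eq_bot_iff, QuotientGroup.ker_mk'])
  have h1 : (σ (π c) - 1) ^ 2 = 0 := LinearMap.ext fun v => EA.val_eq_one_iff.mp (by
    rw [sq, End.mul_apply, hπ, QuotientGroup.mk'_apply, hsub, hsub]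
    exact hone c hc _ (hmem _ hPA c hc v))
  by_cases hp3 : p = 3
  · subst hp3
    refine central_three σ hσ (IsPSolvable.quotient hG _) pCore_quotient_pPrimePCore (hB.map π)
      (by rw [← map_commutator]; exact mem_map_of_mem π hc) hcB ho h1 ?_
    rintro _ ⟨g, hg, rfl⟩
    have h2 : Commute (σ (π g)) (σ (π c)) := (show Commute (π g) (π c) from hcB _ ⟨g, hg, rfl⟩).map σ
    rw [(((h2.sub_left (Commute.one_left _)).sub_right (Commute.one_right _)).pow_left 2).eq]
    refine LinearMap.ext fun v => EA.val_eq_one_iff.mp ?_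
    rw [sq, End.mul_apply, End.mul_apply, hπ, QuotientGroup.mk'_apply, QuotientGroup.mk'_apply, hsub,
      hsub, hsub]
    refine hone c hc _ ?_
    rw [map_commutator]
    exact commutator_mem_commutator (mem_map_of_mem f hg) (hmem B hPB g hg v)
  · refine theoremB_weak σ hσ (IsPSolvable.quotient hG _) pCore_quotient_pPrimePCore (n := 0)
      (by rw [ho, zero_add, pow_one]) (pow_eq_zero_of_le ?_ h1)
    have := hp.out.two_le
    have : p ≠ 4 := fun h => by rw [h] at hp; exact absurd hp.out (by decide)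
    rw [pow_zero, one_mul]
    omega

theorem step_zero {G : Type*} [Group G] [Finite G] {p : ℕ} [hp : Fact p.Prime]
    (hG : IsPSolvable p G) (P : Sylow p G) (h : ⁅(P : Subgroup G), (P : Subgroup G)⁆ = ⊥) :
    (P : Subgroup G) ≤ pPrimePCore p G := by
  obtain ⟨X, _, _, f, -, -, hf, hcomap, hC, -, -⟩ := exists_hh_rep (isPConstrained_of_isPSolvable hG)
  have hV : pCore p X ≤ (P : Subgroup G).map f := Grp.pCore_le_sylow (P.mapSurjective hf)
  rw [← hcomap, ← map_le_iff_le_comap]
  refine le_trans ?_ ((centralizer_le hV).trans hC)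
  rw [← commutator_eq_bot_iff_le_centralizer, ← map_commutator, h, Subgroup.map_bot]

theorem derived_le {G : Type*} [Group G] [Finite G] {p : ℕ} [hp : Fact p.Prime] (hp2 : p ≠ 2)
    (hG : IsPSolvable p G) (P : Sylow p G) (d : ℕ) (h : derivedSeries (P : Subgroup G) (d + 1) = ⊥) :
    (derivedSeries (P : Subgroup G) d).map (P : Subgroup G).subtype ≤ pPrimePCore p G := by
  have h1 := congrArg (map (P : Subgroup G).subtype) h
  rw [derivedSeries_succ, map_commutator, Subgroup.map_bot] at h1
  rcases d with _ | d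
  · rw [derivedSeries_zero, ← MonoidHom.range_eq_map, range_subtype] at h1 ⊢
    exact step_zero hG P h1
  · rw [derivedSeries_succ, map_commutator] at h1 ⊢
    refine step hp2 hG P (map_subtype_le _) ?_ h1
    have := le_normalizer_map (H := derivedSeries (P : Subgroup G) d) (P : Subgroup G).subtype
    rwa [normalizer_eq_top, ← MonoidHom.range_eq_map, range_subtype] at this

/-- Let p be an odd prime and G a finite p-soluble group whose Sylow p-subgroups have derived length at most d. Then G has p-length at most d. -/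
theorem result {G : Type*} [Group G] [Finite G] {p : ℕ} [Fact p.Prime] (hp : p ≠ 2) (hG : Cfsg.IsPSolvable p G) (d : ℕ) (hd : ∀ P : Sylow p G, derivedSeries ↥(P : Subgroup G) d = ⊥) : Cfsg.PLengthLE p d G := by
  induction d generalizing G with
  | zero =>
    obtain ⟨P⟩ : Nonempty (Sylow p G) := inferInstance
    rw [pLengthLE_zero_iff, Nat.coprime_comm, Nat.Prime.coprime_iff_not_dvd Fact.out]
    have h1 := hd P
    rw [derivedSeries_zero] at h1
    have h2 : (P : Subgroup G) = ⊥ := (eq_bot_iff_forall _).mpr fun x hx =>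
      congrArg Subtype.val (mem_bot.mp (h1.le (mem_top (⟨x, hx⟩ : (P : Subgroup G)))))
    have := P.not_dvd_index
    rwa [h2, index_bot] at this
  | succ d ih =>
    rw [pLengthLE_succ_iff]
    refine ih (IsPSolvable.quotient hG _) fun S => ?_
    obtain ⟨P, rfl⟩ := Sylow.mapSurjective_surjective (QuotientGroup.mk'_surjective (pPrimePCore p G)) p S
    let φ : (P : Subgroup G) →* (P.mapSurjective (QuotientGroup.mk'_surjective (pPrimePCore p G)) :
      Subgroup (G ⧸ pPrimePCore p G)) := (QuotientGroup.mk' _).subgroupMap _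
    rw [← map_derivedSeries_eq (f := φ) (MonoidHom.subgroupMap_surjective _ _), Subgroup.map_eq_bot_iff]
    intro x hx
    exact Subtype.ext ((QuotientGroup.eq_one_iff _).mpr (derived_le hp hG P d (hd P) ⟨x, hx, rfl⟩))

end Cfsg.Agent.S3789
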