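import Cfsg.Statements.S3790
import Mathlib
import Cfsg.Agent.PLocal.UpperP
import Cfsg.Agent.PLocal.CFSection

set_option autoImplicit false
open Cfsg

namespace Cfsg.Agent.S3790

open Subgroup PLocal PLocal.CF

universe u

theorem sec_len {H G : Type u} [Group H] [Group G] [Finite G] (h : Sec H G) {p k : ℕ} (hG : PLengthLE p k G) :
    PLengthLE p k H :=
  let ⟨K, f, hf⟩ := h
  PLengthLE.of_surjective (PLengthLE.subgroup hG K) f hf

theorem sec_dvd {H G : Type u} [Group H] [Group G] (h : Sec H G) : Nat.card H ∣ Nat.card G :=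
  let ⟨K, f, hf⟩ := h
  (card_dvd_of_surjective f hf).trans (card_subgroup_dvd_card K)

theorem step {p q M : ℕ} [hp : Fact p.Prime] [hq : Fact q.Prime] (hqp : q ≠ p) (l : ℕ) :
    ∀ (G : Type u) [Group G] [Finite G], (∀ (H : Type u) [Group H] [Finite H], Sec H G →
      (Nat.card H).Coprime q → PLengthLE p M H) → PLengthLE q l G → PLengthLE p ((1 + l) * M) G := by
  induction l with
  | zero => exact fun G _ _ h h0 => by simpa using h G sec_refl (pLengthLE_zero_iff.1 h0)
  | succ l ih =>
    intro G _ _ h h0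
    have h1 := ih _ (fun H _ _ hH => h H (hH.trans (sec_quotient _))) (pLengthLE_succ_iff.1 h0)
    have hle : pPrimeCore q G ≤ pPrimePCore q G := le_relCore _
    have h2 := h ((pPrimeCore q G).subgroupOf (pPrimePCore q G)) ((sec_subgroup _).trans (sec_subgroup _))
      (by rw [Nat.card_congr (subgroupOfEquivOfLe hle).toEquiv]; exact Grp.pPrimeCore_coprime q G)
    have h3 : PLengthLE p 0 (pPrimePCore q G ⧸ (pPrimeCore q G).subgroupOf (pPrimePCore q G)) := by
      have : IsPGroup q (pPrimePCore q G ⧸ (pPrimeCore q G).subgroupOf (pPrimePCore q G)) := fun x => by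
        obtain ⟨x, rfl⟩ := QuotientGroup.mk_surjective x
        obtain ⟨k, hk⟩ := (le_relCore_iff (N := pPrimeCore q G)).1 le_rfl x x.2
        exact ⟨k, (QuotientGroup.eq_one_iff (x ^ q ^ k)).2 hk⟩
      obtain ⟨k, hk⟩ := IsPGroup.iff_card.1 this
      exact pLengthLE_zero_iff.2 (hk ▸ ((Nat.coprime_primes hq.out hp.out).2 hqp).pow_left k)
    have := pLengthLE_of_normal_of_quotient _ (pLengthLE_of_normal_of_quotient _ h2 h3) h1
    exact PLengthLE.mono this (by ring_nf; rfl)

theorem main {p : ℕ} [hp : Fact p.Prime] (r : ℕ) : ∀ (G : Type u) [Group G] [Finite G] (q : Fin r → ℕ),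
    (∀ i, (q i).Prime ∧ q i ≠ p) → (∀ s : ℕ, s.Prime → s ∣ Nat.card G → s ≠ p → ∃ i, q i = s) →
    ∀ l : Fin r → ℕ, (∀ i, PLengthLE (q i) (l i) G) → PLengthLE p (∏ i, (1 + l i)) G := by
  induction r with
  | zero =>
    intro G _ _ q _ hc l _
    refine pLengthLE_one_of_isPGroup (IsPGroup.iff_card.2 ⟨_, Nat.eq_prime_pow_of_unique_prime_dvd
      Nat.card_pos.ne' fun {d} hd hdv => by_contra fun h => ?_⟩)
    exact (hc d hd hdv h).elim fun i => i.elim0
  | succ r ih =>
    intro G _ _ q hq hc l hl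
    have := Fact.mk (hq 0).1
    rw [Fin.prod_univ_succ]
    refine step (hq 0).2 _ G (fun H _ _ hH hco => ih H (fun i => q i.succ) (fun i => hq _) (fun s hs hd hne => ?_)
      (fun i => l i.succ) fun i => sec_len hH (hl _)) (hl 0)
    obtain ⟨i, rfl⟩ := hc s hs (hd.trans (sec_dvd hH)) hne
    refine Fin.cases (fun hd => ?_) (fun i _ => ⟨i, rfl⟩) i hd
    exact absurd hd ((Nat.Prime.coprime_iff_not_dvd (hq 0).1).1 hco.symm)

/-- Let G be a finite solvable group and p a prime. Suppose p₁, …, p_r are distinct primes, all different from p, that include every prime dividing the order of G other than p, and that G has p_i-length at most l_i for each i. Then G has p-length at most the product of the numbers 1 + l_i. -/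
theorem result {G : Type*} [Group G] [Finite G] (hG : Group.IsSolvable G) (p : ℕ) [Fact p.Prime] (r : ℕ) (q : Fin r → ℕ) (hq : ∀ i, (q i).Prime ∧ q i ≠ p) (hinj : Function.Injective q) (hcover : ∀ s : ℕ, s.Prime → s ∣ Nat.card G → s ≠ p → ∃ i, q i = s) (l : Fin r → ℕ) (hl : ∀ i, Cfsg.PLengthLE (q i) (l i) G) : Cfsg.PLengthLE p (Finset.univ.prod fun i => 1 + l i) G := by
  exact main r G q hq hcover l hl

end Cfsg.Agent.S3790
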