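import Cfsg.Statements.S3791
import Mathlib
import Cfsg.Agent.PLocal.UpperP

set_option autoImplicit false
open Cfsg

namespace Cfsg.Agent.S3791

theorem derivedSeries_add_le {G : Type*} [Group G] {S : Subgroup G} {m : ℕ}
    (h : derivedSeries G m ≤ S) (k : ℕ) :
    derivedSeries G (m + k) ≤ (derivedSeries S k).map S.subtype := by
  induction k with
  | zero => rwa [derivedSeries_zero, ← MonoidHom.range_eq_map, Subgroup.range_subtype]
  | succ k ih =>
    rw [← add_assoc, derivedSeries_succ, derivedSeries_succ, Subgroup.map_commutator]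
    exact Subgroup.commutator_mono ih ih

theorem derivedSeries_le_of_quotient {G : Type*} [Group G] (N : Subgroup G) [N.Normal] {m : ℕ}
    (h : derivedSeries (G ⧸ N) m = ⊥) : derivedSeries G m ≤ N := by
  rw [← map_derivedSeries_eq (QuotientGroup.mk'_surjective N), Subgroup.map_eq_bot_iff,
    QuotientGroup.ker_mk'] at h
  exact h

universe u in
theorem aux (r : ℕ) (q : Fin r → ℕ) [hq : ∀ i, Fact (q i).Prime] (d : Fin r → ℕ)
    (G : Type u) [Group G] [Finite G] : Group.IsSolvable G →
      (∀ s : ℕ, s.Prime → s ∣ Nat.card G → ∃ i, q i = s) →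
      (∀ i, ∀ S : Sylow (q i) G, derivedSeries (S : Subgroup G) (d i) = ⊥) →
      ∀ l : Fin r → ℕ, (∀ i, Cfsg.PLengthLE (q i) (l i) G) →
        derivedSeries G (Finset.univ.sum fun i => d i * l i) = ⊥ := by
  refine Grp.card_induction (P := fun G _ _ => Group.IsSolvable G →
      (∀ s : ℕ, s.Prime → s ∣ Nat.card G → ∃ i, q i = s) →
      (∀ i, ∀ S : Sylow (q i) G, derivedSeries (S : Subgroup G) (d i) = ⊥) →
      ∀ l : Fin r → ℕ, (∀ i, Cfsg.PLengthLE (q i) (l i) G) →
        derivedSeries G (Finset.univ.sum fun i => d i * l i) = ⊥) ?_ G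
  intro G _ _ ih hG hcover hd l hl
  have step : ∀ (N : Subgroup G) [N.Normal], N ≠ ⊥ → ∀ l : Fin r → ℕ,
      (∀ i, Cfsg.PLengthLE (q i) (l i) (G ⧸ N)) →
      derivedSeries G (Finset.univ.sum fun i => d i * l i) ≤ N := by
    intro N _ hN l hl
    refine derivedSeries_le_of_quotient N (ih (G ⧸ N) (Grp.card_quotient_lt N hN) inferInstance
      (fun s hs h => hcover s hs (h.trans (Subgroup.card_quotient_dvd_card N))) (fun i S => ?_) l hl)
    obtain ⟨T, rfl⟩ := Sylow.mapSurjective_surjective (QuotientGroup.mk'_surjective N) (q i) S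
    have := map_derivedSeries_eq
      ((QuotientGroup.mk' N).subgroupMap_surjective (T : Subgroup G)) (d i)
    rw [hd i T, Subgroup.map_bot] at this
    exact this.symm
  rcases subsingleton_or_nontrivial G with h1 | h1
  · exact Subsingleton.elim _ _
  obtain ⟨p, M, hp, hMn, hM, -, -, hMp, -⟩ := Grp.exists_minNormal_elementaryAbelian G
  have := Fact.mk hp
  have hpG : p ∣ Nat.card G := by
    obtain ⟨k, hk⟩ := hMp.exists_card_eq
    refine dvd_trans ?_ M.card_subgroup_dvd_card
    rw [hk]
    refine dvd_pow_self p fun h0 => hM ?_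
    rwa [h0, pow_zero, Subgroup.card_eq_one] at hk
  obtain ⟨i, rfl⟩ := hcover p hp hpG
  by_cases hO : Cfsg.pPrimeCore (q i) G = ⊥
  · have hR : Cfsg.pPrimePCore (q i) G ≠ ⊥ :=
      PLocal.pPrimePCore_ne_bot PLocal.isPSolvable_of_isSolvable
    obtain ⟨k, hk⟩ : ∃ k, l i = k + 1 := by
      refine Nat.exists_eq_succ_of_ne_zero fun h0 => ?_
      have h2 := hl i
      rw [h0, PLocal.pLengthLE_zero_iff] at h2
      exact (Nat.Prime.coprime_iff_not_dvd hp).mp h2.symm hpG
    have h2 := step _ hR (Function.update l i k) (fun j => by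
      by_cases hj : j = i
      · subst hj
        rw [Function.update_self, ← PLocal.pLengthLE_succ_iff, ← hk]
        exact hl j
      · rw [Function.update_of_ne hj]
        exact PLocal.PLengthLE.quotient (hl j) _)
    obtain ⟨S⟩ : Nonempty (Sylow (q i) G) := inferInstance
    rw [PLocal.pPrimePCore_eq_pCore hO] at h2
    have h3 := derivedSeries_add_le (h2.trans (Grp.pCore_le_sylow S)) (d i)
    rw [hd i S, Subgroup.map_bot, le_bot_iff] at h3
    convert h3 using 2
    rw [← Finset.add_sum_erase _ _ (Finset.mem_univ i), ← Finset.add_sum_erase _ _ (Finset.mem_univ i),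
      Function.update_self, hk, Finset.sum_congr rfl (g := fun j => d j * Function.update l i k j)
        fun j hj => by rw [Function.update_of_ne (Finset.ne_of_mem_erase hj)]]
    ring
  · have h2 := step _ hO l fun j => PLocal.PLengthLE.quotient (hl j) _
    have h3 := step _ hM l fun j => PLocal.PLengthLE.quotient (hl j) _
    exact le_bot_iff.mp ((le_inf h3 h2).trans
      (Grp.inf_eq_bot_of_isPGroup_of_coprime hMp (Grp.pPrimeCore_coprime _ _)).le)

/-- The Hall–Higman bound on derived length: let G be a finite solvable group, let p₁, …, p_r be distinct primes that include every prime dividing the order of G, and suppose that for each i the Sylow p_i-subgroups of G have derived length at most d_i and G has p_i-length at most l_i. Then G has derived length at most Σ d_i l_i. -/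
theorem result {G : Type*} [Group G] [Finite G] (hG : Group.IsSolvable G) (r : ℕ) (q : Fin r → ℕ) (hq : ∀ i, (q i).Prime) (hinj : Function.Injective q) (hcover : ∀ s : ℕ, s.Prime → s ∣ Nat.card G → ∃ i, q i = s) (d l : Fin r → ℕ) (hd : ∀ i, ∀ P : Subgroup G, (haveI := Fact.mk (hq i); ∃ S : Sylow (q i) G, (S : Subgroup G) = P) → derivedSeries ↥P (d i) = ⊥) (hl : ∀ i, Cfsg.PLengthLE (q i) (l i) G) : derivedSeries G (Finset.univ.sum fun i => d i * l i) = ⊥ := by
  have : ∀ i, Fact (q i).Prime := fun i => Fact.mk (hq i)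
  exact aux r q d G hG hcover (fun i S => hd i S ⟨S, rfl⟩) l hl

end Cfsg.Agent.S3791
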