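import Cfsg.Statements.S3792
import Mathlib
import Cfsg.Agent.FGS.Powell

set_option autoImplicit false
open Cfsg

namespace Cfsg.Agent.S3792

open Subgroup Cfsg.Agent.PLocal Cfsg.Agent.PLocal.HH Cfsg.Agent.FGS.Powell
open scoped commutatorElement

def Good (p : ℕ) {G : Type*} [Group G] (a b y : G) : Prop :=
  ∀ (s : G) (K : Subgroup G), K ≠ ⊤ → s * a * s⁻¹ ∈ K → s * b * s⁻¹ ∈ K →
    s * y * s⁻¹ ∈ (pPrimePCore p K).map K.subtype

theorem Good.conj {p : ℕ} {G : Type*} [Group G] {a b y : G} (h : Good p a b y) {c : G}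
    (hc : c = a ∨ c = b) : Good p a b (c * y * c⁻¹) := by
  intro s K hK ha hb
  obtain ⟨z, hz, hz'⟩ := h s K hK ha hb
  have hcK : s * c * s⁻¹ ∈ K := by rcases hc with rfl | rfl <;> assumption
  refine ⟨⟨_, hcK⟩ * z * ⟨_, hcK⟩⁻¹, (pPrimePCore_normal p K).conj_mem z hz _, ?_⟩
  simp only [coe_subtype, coe_mul, coe_inv] at hz' ⊢
  rw [hz']
  group

theorem exists_good {G : Type*} [Group G] [Finite G] {p : ℕ} [hpp : Fact p.Prime] (hp : p ≠ 2)
    (hdvd : p ∣ Nat.card G) (hprop : ∀ H : Subgroup G, H ≠ ⊤ → Cfsg.IsPSolvable p ↥H) :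
    ∃ a b y : G, IsPGroup p (closure ({a, b} : Set G)) ∧ y ∈ closure ({a, b} : Set G) ∧ y ≠ 1 ∧
      Good p a b y := by
  classical
  have hex : ∃ n, ExpLE p n G := ⟨Nat.card G, fun g ⟨j, hj⟩ => by
    obtain ⟨i, -, hi⟩ := (Nat.dvd_prime_pow hpp.out).mp (orderOf_dvd_of_pow_eq_one hj)
    have h1 : p ^ i ≤ Nat.card G := hi ▸ Nat.le_of_dvd Nat.card_pos (orderOf_dvd_natCard g)
    have h2 : i ≤ Nat.card G := (Nat.lt_pow_self hpp.out.one_lt).le.trans h1
    exact orderOf_dvd_iff_pow_eq_one.mp (hi ▸ pow_dvd_pow p h2)⟩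
  have h0 : Nat.find hex ≠ 0 := fun h => by
    have h1 := pLengthLE_zero_iff.mp (pLengthLE_zero_of_expLE (h ▸ Nat.find_spec hex))
    exact (Nat.Prime.coprime_iff_not_dvd hpp.out).mp h1.symm hdvd
  obtain ⟨e, he⟩ := Nat.exists_eq_succ_of_ne_zero h0
  have h1 : ExpLE p (e + 1) G := by have := Nat.find_spec hex; rwa [he] at this
  have h2 : ¬ ExpLE p e G := Nat.find_min hex (by omega)
  by_cases hc : ∀ P : Subgroup G, IsPGroup p P → ∀ a ∈ P, ∀ b ∈ P, Commute (a ^ p ^ e) (b ^ p ^ e)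
  · simp only [ExpLE, not_forall] at h2
    obtain ⟨x, ⟨j, hj⟩, hx⟩ := h2
    refine ⟨x, x, x ^ p ^ e, (isPGroup_zpowers_of_pow_eq_one hj).to_le ?_,
      pow_mem (subset_closure (by simp)) _, hx, fun s K hK ha _ => ?_⟩
    · rw [closure_le]
      rintro _ (rfl | rfl) <;> exact mem_zpowers _
    refine ⟨⟨_, ha⟩ ^ p ^ e, pow_mem_of_commute hp (hprop K hK) (fun P hP a ha b hb => ?_) ?_, ?_⟩
    · have := hc _ (hP.map K.subtype) _ (mem_map_of_mem _ ha) _ (mem_map_of_mem _ hb)
      exact Subtype.ext this.eq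
    · refine Subtype.ext ?_
      simp only [SubmonoidClass.coe_pow, OneMemClass.coe_one, conj_pow]
      rw [h1 x ⟨j, hj⟩]
      group
    · simp only [coe_subtype, SubmonoidClass.coe_pow, conj_pow]
  · simp only [not_forall] at hc
    obtain ⟨P, hP, a, ha, b, hb, hab⟩ := hc
    have haP : a ∈ closure ({a, b} : Set G) := subset_closure (by simp)
    have hbP : b ∈ closure ({a, b} : Set G) := subset_closure (by simp)
    refine ⟨a, b, ⁅a ^ p ^ e, b ^ p ^ e⁆, hP.to_le ?_, ?_,
      fun h => hab (commutatorElement_eq_one_iff_commute.mp h), fun s K hK hsa hsb => ?_⟩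
    · rw [closure_le]
      rintro _ (rfl | rfl) <;> assumption
    · exact commutator_le_self _ (commutator_mem_commutator (pow_mem haP _) (pow_mem hbP _))
    have hK1 : ExpLE p (e + 1) K := fun g ⟨j, hj⟩ =>
      Subtype.ext (h1 g ⟨j, congrArg Subtype.val hj⟩)
    have hP' : IsPGroup p ((P.map (MulAut.conj s).toMonoidHom).comap K.subtype) :=
      (hP.map _).comap_of_injective _ K.subtype_injective
    refine ⟨_, commutator_pow_mem hp (hprop K hK) hK1 hP' (a := ⟨_, hsa⟩) (b := ⟨_, hsb⟩)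
      ⟨a, ha, rfl⟩ ⟨b, hb, rfl⟩, ?_⟩
    simp only [coe_subtype, commutatorElement_def, coe_mul, coe_inv, SubmonoidClass.coe_pow, conj_pow]
    group

/-- Powell's Theorem: let G be a finite non-abelian simple group and p an odd prime dividing its order such that every proper subgroup of G is p-soluble. Then G can be generated by three elements. -/
theorem result {G : Type*} [Group G] [Finite G] [IsSimpleGroup G] (hna : ¬ IsMulCommutative G) {p : ℕ} [Fact p.Prime] (hp : p ≠ 2) (hdvd : p ∣ Nat.card G) (hprop : ∀ H : Subgroup G, H ≠ ⊤ → Cfsg.IsPSolvable p ↥H) : ∃ x y z : G, Subgroup.closure ({x, y, z} : Set G) = ⊤ := by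
  by_contra hcon
  simp only [not_exists] at hcon
  obtain ⟨a, b, y, hP, hyP, hy1, hgood⟩ := exists_good hp hdvd hprop
  have hall := forall_of_mul_closed (G := G) (fun g => ∃ k, g ^ p ^ k = 1)
    (fun g x ⟨k, hk⟩ => ⟨k, by rw [conj_pow, hk]; group⟩) ⟨0, by simp⟩ hy1 fun g hg => ?_
  · have : IsPGroup p G := hall
    have := this.isNilpotent
    exact hna ⟨⟨IsSimpleGroup.comm_iff_isSolvable.mpr inferInstance⟩⟩
  set K := closure ({a, b, g} : Set G) with hK
  have haK : a ∈ K := subset_closure (by simp)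
  have hbK : b ∈ K := subset_closure (by simp)
  have hgK : g ∈ K := subset_closure (by simp)
  have hPK : closure ({a, b} : Set G) ≤ K := by
    rw [closure_le]
    rintro _ (rfl | rfl) <;> assumption
  have hP' : IsPGroup p (closure ({⟨a, haK⟩, ⟨b, hbK⟩} : Set K)) := by
    refine (hP.comap_of_injective _ K.subtype_injective).to_le ?_
    rw [closure_le]
    rintro _ (rfl | rfl)
    · exact Subgroup.subset_closure (k := ({a, b} : Set G)) (by simp)
    · exact Subgroup.subset_closure (k := ({a, b} : Set G)) (by simp)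
  have hcent := commute_of_forall_pair (Grp.pPrimeCore_coprime p K) hP'
    (Y := {z : K | Good p a b z}) (fun z hz => Good.conj hz (Or.inl rfl))
    (fun z hz => Good.conj hz (Or.inr rfl)) fun r₁ h₁ r₂ h₂ s hs hsa hsb d hd hdR z hz => ?_
  · obtain ⟨z, hz, hz'⟩ := hgood 1 K (hcon a b g) (by simpa) (by simpa)
    have hzy : (z : G) = y := by simpa using hz'
    obtain ⟨k, hk⟩ := isPGroup_subgroup_iff.mp hP y hyP
    have h1 : z ∈ pCore p K := mem_pCore_of_centralizes hz ⟨k, Subtype.ext (by simpa [hzy] using hk)⟩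
      fun r hr => (hcent hr z (by simpa [hzy] using hgood)).symm
    obtain ⟨j, hj⟩ := hg
    obtain ⟨i, hi⟩ := pElement_mul_of_normal (Grp.pCore_isPGroup p K) h1
      (a := ⟨g, hgK⟩) ⟨j, Subtype.ext hj⟩
    exact ⟨i, hzy ▸ congrArg Subtype.val hi⟩
  by_contra hnc
  have hu : ((⁅d, s * z * s⁻¹⁆ : K) : G) ≠ 1 := fun h =>
    hnc (commutatorElement_eq_one_iff_commute.mp (Subtype.ext h))
  have huR : ⁅d, s * z * s⁻¹⁆ ∈ pPrimeCore p K := by
    rw [commutatorElement_def, mul_assoc, mul_assoc, ← mul_assoc (s * z * s⁻¹)]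
    exact mul_mem hdR ((inferInstance : (pPrimeCore p K).Normal).conj_mem _ (inv_mem hdR) _)
  have huo : (orderOf ((⁅d, s * z * s⁻¹⁆ : K) : G)).Coprime p := by
    rw [orderOf_coe]
    exact Grp.orderOf_coprime_of_mem_pPrimeCore huR
  have hall := forall_of_mul_closed (G := G) (fun g => (orderOf g).Coprime p)
    (fun g x hx => by rwa [show orderOf (g * x * g⁻¹) = orderOf x from (MulAut.conj g).orderOf_eq x])
    (by simp) hu fun g' hg' => ?_
  · obtain ⟨x, hx⟩ := exists_prime_orderOf_dvd_card' p hdvd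
    have := hall x
    rw [hx, Nat.coprime_self] at this
    exact (Fact.out : p.Prime).one_lt.ne' this
  set L := closure ({a * r₁, b * r₂, g'} : Set G) with hL
  have hHL : closure ({⟨a, haK⟩ * r₁, ⟨b, hbK⟩ * r₂} : Set K) ≤ L.comap K.subtype := by
    rw [closure_le]
    rintro _ (rfl | rfl)
    · exact Subgroup.subset_closure (k := ({a * r₁, b * r₂, g'} : Set G)) (by simp)
    · exact Subgroup.subset_closure (k := ({a * r₁, b * r₂, g'} : Set G)) (by simp)
  obtain ⟨w, hw, hw'⟩ := hz s L (hcon _ _ _) (hHL hsa) (hHL hsb)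
  have hdL : (d : G) ∈ L := hHL hd
  have hgL : g' ∈ L := subset_closure (by simp)
  have h1 : ⁅(⟨d, hdL⟩ : L), w⁆ ∈ pPrimePCore p L := by
    rw [commutatorElement_def]
    exact mul_mem ((pPrimePCore_normal p L).conj_mem _ hw _) (inv_mem hw)
  have h2 : ((⁅(⟨d, hdL⟩ : L), w⁆ : L) : G) = ((⁅d, s * z * s⁻¹⁆ : K) : G) := by
    simp only [coe_subtype] at hw'
    simp only [commutatorElement_def, coe_mul, coe_inv, hw']
  have h3 := mem_pPrimeCore_of_coprime h1 (by rwa [← orderOf_coe, h2])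
  have h4 := coprime_orderOf_mul h3 (g := ⟨g', hgL⟩) (by rwa [← orderOf_coe])
  rwa [← orderOf_coe, coe_mul, h2] at h4

end Cfsg.Agent.S3792
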