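import Mathlib
import Cfsg.Statements.S3806
import Cfsg.Agent.Fus.MaxCl
import Cfsg.Agent.FGS.SecRank
-- import your own Cfsg.Agent.* helpers here

set_option autoImplicit false
open Cfsg

namespace Cfsg.Agent.S3806

open Cfsg.Agent.Fus FGS.LcsLie
open scoped commutatorElement

/-- Let p be a prime and S a finite p-group of order pⁿ (n ≥ 2) of maximal nilpotency class n − 1 whose sectional p-rank is exactly k (every section has p-rank at most k, and some section has p-rank k). If p ≥ k + 2 then the order of S is at most p^(2k). -/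
theorem result {S : Type*} [Group S] [Finite S] (p : ℕ) [Fact p.Prime] (hS : IsPGroup p S) [Group.IsNilpotent S]
    (n : ℕ) (hn : 2 ≤ n) (hcard : Nat.card S = p ^ n) (hmax : Group.nilpotencyClass S = n - 1)
    (k : ℕ) (hk : 1 ≤ k) (hsr : Cfsg.SectionalPRankLE p k S ∧ ¬ Cfsg.SectionalPRankLE p (k - 1) S)
    (hpk : k + 2 ≤ p) : Nat.card S ≤ p ^ (2 * k) := by
  have hp : p.Prime := Fact.out
  rw [hcard]
  refine Nat.pow_le_pow_right hp.pos (not_lt.1 fun hlt => ?_)
  have h : MC.IsMC p n S := ⟨hcard, hmax, by omega⟩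
  rcases hk.eq_or_lt with rfl | hk
  · have := FGS.SecRank.relIndex_le hsr.1 (N := gam S 1) (H := ⊤) le_rfl fun g _ => h.pow_mem_one g
    rw [Subgroup.relIndex_top_right] at this
    have := (Grp.MaxClass.index_commutator hcard h.three hmax).ge.trans this
    rw [Nat.pow_le_pow_iff_right hp.one_lt] at this
    omega
  have h1 : ⁅gam S (k - 1), gam S (k - 1)⁆ ≤ gam S (2 * k) := by
    obtain ⟨u, hu, hu'⟩ := h.exists_not_mem (k := k - 1) (by omega)
    refine Subgroup.commutator_le.2 fun a ha b hb => ?_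
    have key : ∀ c ∈ gam S (k - 1), ∀ d ∈ gam S (k - 1 + 1), ⁅c, d⁆ ∈ gam S (2 * k) :=
      fun c hc d hd => gam_anti (by omega) (comm_mem hc hd)
    obtain ⟨i, hi⟩ := h.gen (by omega) hu hu' ha
    obtain ⟨j, hj⟩ := h.gen (by omega) hu hu' hb
    have := (cls_eq_zero_iff (comm_mem ha hb)).1 (by
      rw [← lie_cls ha hb, hi, hj, nsmul_lie, lie_nsmul, lie_self, smul_zero, smul_zero])
    exact gam_anti (by omega) this
  have h2 := FGS.SecRank.relIndex_le hsr.1 h1 fun g hg =>
    gam_anti (by omega) (h.pow_mem_gam (by omega) hg)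
  have h3 := Grp.card_mul_relIndex_of_le (gam_anti (G := S) (by omega : k - 1 ≤ 2 * k))
  have h4 := h3.ge.trans (Nat.mul_le_mul_left _ h2)
  rw [h.card_gam (by omega), h.card_gam (by omega), ← pow_add,
    Nat.pow_le_pow_iff_right hp.one_lt] at h4
  omega

end Cfsg.Agent.S3806
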