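import Cfsg.Statements.S3866
import Mathlib
import Cfsg.Agent.Grp.Card

set_option autoImplicit false
open Cfsg

namespace Cfsg.Agent.S3866


/-- Let A be a commutative normal subgroup of the finite group G with G generated by A and an element x. Then a ↦ x a x⁻¹ a⁻¹ is a surjective homomorphism from A onto the commutator subgroup of G whose kernel is the centralizer of x in A; in particular the commutator subgroup has order equal to the index in A of that centralizer. -/
theorem result {G : Type*} [Group G] [Finite G] (A : Subgroup G) [A.Normal] (hA : IsMulCommutative A) (x : G) (hgen : A ⊔ Subgroup.zpowers x = ⊤) : (∀ a ∈ A, x * a * x⁻¹ * a⁻¹ ∈ commutator G) ∧ (∀ c ∈ commutator G, ∃ a ∈ A, x * a * x⁻¹ * a⁻¹ = c) ∧ (∀ a ∈ A, ∀ b ∈ A, x * (a * b) * x⁻¹ * (a * b)⁻¹ = (x * a * x⁻¹ * a⁻¹) * (x * b * x⁻¹ * b⁻¹)) ∧ Nat.card (commutator G) * Nat.card ↥(A ⊓ Subgroup.centralizer ({x} : Set G)) = Nat.card A := by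
  have hc : ∀ a ∈ A, ∀ b ∈ A, a * b = b * a := fun a ha b hb =>
    congrArg Subtype.val (mul_comm' (⟨a, ha⟩ : A) ⟨b, hb⟩)
  have hn : ∀ g : G, ∀ a ∈ A, g * a * g⁻¹ ∈ A := fun g a ha => Subgroup.Normal.conj_mem ‹_› a ha g
  have h3 : ∀ a ∈ A, ∀ b ∈ A, x * (a * b) * x⁻¹ * (a * b)⁻¹ =
      (x * a * x⁻¹ * a⁻¹) * (x * b * x⁻¹ * b⁻¹) := by
    intro a ha b hb
    have := hc _ (A.inv_mem ha) _ (A.mul_mem (hn x b hb) (A.inv_mem hb))
    calc _ = (x * a * x⁻¹) * ((x * b * x⁻¹ * b⁻¹) * a⁻¹) := by group
      _ = _ := by rw [← this]; group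
  let f : A →* G := MonoidHom.mk' (fun a => x * a * x⁻¹ * (a : G)⁻¹) (fun a b => h3 a a.2 b b.2)
  have h1 : ∀ a : G, x * a * x⁻¹ * a⁻¹ ∈ commutator G := fun a =>
    Subgroup.commutator_mem_commutator (Subgroup.mem_top x) (Subgroup.mem_top a)
  have hfA : f.range ≤ A := by
    rintro _ ⟨a, rfl⟩
    exact A.mul_mem (hn x a a.2) (A.inv_mem a.2)
  have hN : f.range.Normal := by
    rw [← Subgroup.normalizer_eq_top_iff, eq_top_iff, ← hgen, sup_le_iff]
    constructor
    · rw [Subgroup.le_normalizer_iff]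
      intro a ha b hb
      rw [hc a ha b (hfA hb), mul_inv_cancel_right]
      exact hb
    · rw [Subgroup.zpowers_le]
      apply Subgroup.mem_normalizer_fintype
      rintro _ ⟨a, rfl⟩
      refine ⟨⟨_, hn x a a.2⟩, ?_⟩
      change x * (x * a * x⁻¹) * x⁻¹ * (x * a * x⁻¹)⁻¹ = x * (x * a * x⁻¹ * (a : G)⁻¹) * x⁻¹
      group
  have hle : commutator G ≤ f.range := by
    rw [← Subgroup.Normal.quotient_commutative_iff_commutator_le]
    let π := QuotientGroup.mk' f.range
    have hx : ∀ g : G, Commute (π x) (π g) := by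
      intro g
      have : g ∈ (Subgroup.centralizer {π x}).comap π := by
        refine SetLike.le_def.1 ?_ (Subgroup.mem_top g)
        rw [← hgen, sup_le_iff]
        constructor
        · intro a ha
          rw [Subgroup.mem_comap, Subgroup.mem_centralizer_singleton_iff, eq_comm,
            ← mul_inv_eq_one, ← map_mul, ← map_mul, ← map_inv, ← map_mul]
          refine (QuotientGroup.eq_one_iff _).2 ⟨⟨a, ha⟩, ?_⟩
          change x * a * x⁻¹ * a⁻¹ = _
          group
        · rw [Subgroup.zpowers_le, Subgroup.mem_comap, Subgroup.mem_centralizer_singleton_iff]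
      exact (Subgroup.mem_centralizer_singleton_iff.1 this).symm
    have ha : ∀ a ∈ A, ∀ g : G, Commute (π a) (π g) := by
      intro a ha g
      have : g ∈ (Subgroup.centralizer {π a}).comap π := by
        refine SetLike.le_def.1 ?_ (Subgroup.mem_top g)
        rw [← hgen, sup_le_iff]
        constructor
        · intro b hb
          rw [Subgroup.mem_comap, Subgroup.mem_centralizer_singleton_iff, ← map_mul, ← map_mul,
            hc b hb a ha]
        · rw [Subgroup.zpowers_le, Subgroup.mem_comap, Subgroup.mem_centralizer_singleton_iff]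
          exact hx a
      exact (Subgroup.mem_centralizer_singleton_iff.1 this).symm
    refine ⟨⟨fun u v => ?_⟩⟩
    obtain ⟨g, rfl⟩ := QuotientGroup.mk'_surjective f.range u
    obtain ⟨h, rfl⟩ := QuotientGroup.mk'_surjective f.range v
    have : g ∈ (Subgroup.centralizer {π h}).comap π := by
      refine SetLike.le_def.1 ?_ (Subgroup.mem_top g)
      rw [← hgen, sup_le_iff]
      constructor
      · intro b hb
        rw [Subgroup.mem_comap, Subgroup.mem_centralizer_singleton_iff]
        exact ha b hb h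
      · rw [Subgroup.zpowers_le, Subgroup.mem_comap, Subgroup.mem_centralizer_singleton_iff]
        exact hx h
    exact Subgroup.mem_centralizer_singleton_iff.1 this
  have heq : f.range = commutator G := le_antisymm (by rintro _ ⟨a, rfl⟩; exact h1 a) hle
  refine ⟨fun a _ => h1 a, fun c hc => ?_, h3, ?_⟩
  · obtain ⟨a, rfl⟩ := hle hc
    exact ⟨a, a.2, rfl⟩
  · have hker : f.ker = (A ⊓ Subgroup.centralizer ({x} : Set G)).subgroupOf A := by
      ext a
      rw [MonoidHom.mem_ker, Subgroup.mem_subgroupOf, Subgroup.mem_inf,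
        Subgroup.mem_centralizer_singleton_iff]
      change x * a * x⁻¹ * (a : G)⁻¹ = 1 ↔ _
      rw [mul_inv_eq_one, mul_inv_eq_iff_eq_mul]
      exact ⟨fun h => ⟨a.2, h.symm⟩, fun h => h.2.symm⟩
    rw [← heq, ← Subgroup.index_ker, ← Grp.card_subgroupOf_of_le (inf_le_left : A ⊓ _ ≤ A),
      ← hker, Subgroup.index_mul_card]

end Cfsg.Agent.S3866
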