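import Cfsg.Statements.S3807
import Mathlib
import Cfsg.Agent.FGS.ESIndexP
import Cfsg.Agent.S3866

set_option autoImplicit false
open Cfsg

namespace Cfsg.Agent.S3807


/-- Let S be a non-abelian finite p-group with an abelian subgroup A of index p. Then [S : Z(S)] = p·#[S,S], and either [S,S] has order p, S/Z(S) is elementary abelian of order p², and S has exactly p + 1 abelian subgroups of index p; or [S,S] has order at least p² and A is the only abelian subgroup of index p in S. -/
theorem result {S : Type*} [Group S] [Finite S] (p : ℕ) [Fact p.Prime] (hS : IsPGroup p S) (hna : ¬ IsMulCommutative S)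
    (A : Subgroup S) (hA : IsMulCommutative ↥A) (hAi : A.index = p) :
    (Subgroup.center S).index = p * Nat.card (commutator S) ∧
      ((Nat.card (commutator S) = p ∧ Cfsg.IsElementaryAbelian p (⊤ : Subgroup (S ⧸ Subgroup.center S)) ∧
          Nat.card (S ⧸ Subgroup.center S) = p ^ 2 ∧
          Nat.card {B : Subgroup S // IsMulCommutative ↥B ∧ B.index = p} = p + 1) ∨
        (p ^ 2 ≤ Nat.card (commutator S) ∧ ∀ B : Subgroup S, IsMulCommutative ↥B → B.index = p → B = A)) := by
  have hp : p.Prime := Fact.out
  have hp1 := hp.one_lt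
  have := FGS.normal_of_index_eq_prime hS hAi
  have hZle : ∀ B : Subgroup S, IsMulCommutative B → B.index = p → Subgroup.center S ≤ B := by
    intro B hB hBi
    by_contra h
    exact hna (FGS.isMulCommutative_of_sup_center_eq_top hB
      (FGS.sup_eq_top_of_prime_index (hBi ▸ hp) h))
  obtain ⟨x, hx⟩ := FGS.exists_notMem_of_index_ne_one (hAi ▸ hp.ne_one : A.index ≠ 1)
  have hgen := FGS.sup_zpowers_eq_top_of_prime_index (hAi ▸ hp) hx
  have hZ : A ⊓ Subgroup.centralizer {x} = Subgroup.center S := by
    refine le_antisymm ?_ (le_inf (hZle A hA hAi) (Subgroup.center_le_centralizer _))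
    rw [← Subgroup.centralizer_univ, ← Subgroup.coe_top, Subgroup.le_centralizer_iff, ← hgen,
      sup_le_iff]
    constructor
    · exact (Subgroup.le_centralizer A).trans
        (Subgroup.centralizer_le (SetLike.coe_subset_coe.2 inf_le_left))
    · rw [Subgroup.le_centralizer_iff, Subgroup.zpowers_eq_closure, Subgroup.centralizer_closure]
      exact inf_le_right
  have h1 := (S3866.result A hA x hgen).2.2.2
  rw [hZ] at h1
  have hZpos : 0 < Nat.card (Subgroup.center S) := Nat.card_pos
  have h2 : (Subgroup.center S).index = p * Nat.card (commutator S) := by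
    apply Nat.eq_of_mul_eq_mul_left hZpos
    rw [Subgroup.card_mul_index, ← A.card_mul_index, ← h1, hAi]; ring
  refine ⟨h2, ?_⟩
  obtain ⟨k, hk⟩ := IsPGroup.iff_card.1 (hS.to_subgroup (commutator S))
  have hk0 : k ≠ 0 := by
    rintro rfl
    rw [pow_zero, Subgroup.card_eq_one, commutator_eq_bot_iff] at hk
    exact hna hk
  by_cases hk1 : k = 1
  · left
    subst hk1
    rw [pow_one] at hk
    have hq : Nat.card (S ⧸ Subgroup.center S) = p ^ 2 := by
      rw [← Subgroup.index, h2, hk, sq]
    have hnc : ¬ IsCyclic (S ⧸ Subgroup.center S) := fun hc =>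
      hna ⟨⟨commutative_of_cyclic_center_quotient (QuotientGroup.mk' _)
        (QuotientGroup.ker_mk' _).le⟩⟩
    have hexp := FGS.pow_eq_one_of_card_sq_of_not_isCyclic hq hnc
    have hcomm := IsPGroup.isMulCommutative_of_card_eq_prime_sq hq
    refine ⟨hk, ⟨inferInstance, fun a _ => hexp a⟩, hq, ?_⟩
    rw [← FGS.card_subgroups_prime_of_card_sq hexp hq]
    have hsurj := QuotientGroup.mk'_surjective (Subgroup.center S)
    have hidx : ∀ H : Subgroup (S ⧸ Subgroup.center S), Nat.card H = p ↔ H.index = p := by
      intro H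
      have := H.card_mul_index
      rw [hq, sq] at this
      constructor
      · intro h; rw [h] at this; exact Nat.eq_of_mul_eq_mul_left hp.pos this
      · intro h; rw [h] at this; exact Nat.eq_of_mul_eq_mul_right hp.pos this
    symm
    refine Nat.card_eq_of_bijective (fun H => ⟨H.1.comap (QuotientGroup.mk' _), ?_, ?_⟩) ⟨?_, ?_⟩
    · have hc : IsCyclic H.1 := isCyclic_of_prime_card H.2
      refine ⟨⟨commutative_of_cyclic_center_quotient ((QuotientGroup.mk' _).subgroupComap H.1) ?_⟩⟩
      intro y hy
      have : (y : S) ∈ Subgroup.center S :=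
        (QuotientGroup.eq_one_iff _).1 (congrArg Subtype.val (MonoidHom.mem_ker.1 hy))
      exact Subgroup.mem_center_iff.2 fun g => Subtype.ext (Subgroup.mem_center_iff.1 this g)
    · rw [Subgroup.index_comap_of_surjective _ hsurj]
      exact (hidx _).1 H.2
    · intro H H' e
      exact Subtype.ext (Subgroup.comap_injective hsurj (congrArg Subtype.val e))
    · rintro ⟨B, hB, hBi⟩
      have e : (B.map (QuotientGroup.mk' (Subgroup.center S))).comap (QuotientGroup.mk' _) = B :=
        Subgroup.comap_map_eq_self (by rw [QuotientGroup.ker_mk']; exact hZle B hB hBi)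
      refine ⟨⟨B.map (QuotientGroup.mk' _), ?_⟩, Subtype.ext e⟩
      rw [hidx, ← Subgroup.index_comap_of_surjective _ hsurj, e, hBi]
  · right
    have hk2 : p ^ 2 ≤ Nat.card (commutator S) := by
      rw [hk]; exact Nat.pow_le_pow_right hp1.le (by omega)
    refine ⟨hk2, fun B hB hBi => ?_⟩
    by_contra hne
    have hBA : ¬ B ≤ A := fun h => hne (Subgroup.eq_of_le_of_card_ge h (by
      have h1 := A.card_mul_index
      have h2 := B.card_mul_index
      rw [hAi] at h1; rw [hBi, ← h1] at h2
      exact (Nat.eq_of_mul_eq_mul_right hp.pos h2).ge))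
    have ht := FGS.sup_eq_top_of_prime_index (hAi ▸ hp) hBA
    have h3 : A ⊓ B ≤ Subgroup.center S := by
      rw [← Subgroup.centralizer_univ, ← Subgroup.coe_top, Subgroup.le_centralizer_iff, ← ht,
        sup_le_iff]
      exact ⟨(Subgroup.le_centralizer A).trans
          (Subgroup.centralizer_le (SetLike.coe_subset_coe.2 inf_le_left)),
        (Subgroup.le_centralizer B).trans
          (Subgroup.centralizer_le (SetLike.coe_subset_coe.2 inf_le_right))⟩
    have h4 := (Subgroup.index_antitone h3).trans Subgroup.index_inf_le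
    rw [h2, hAi, hBi] at h4
    have h5 := Nat.le_of_mul_le_mul_left h4 hp.pos
    nlinarith

end Cfsg.Agent.S3807
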