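import Cfsg.Statements.S3808
import Mathlib
import Cfsg.Agent.FGS.ESIndexP

set_option autoImplicit false
open Cfsg

namespace Cfsg.Agent.S3808


/-- Let S be a finite p-group with an extraspecial subgroup Q of index p. Then either Z(S) = Z(Q), or S = Q·Z(S) and Z(S) has order p². -/
theorem result {S : Type*} [Group S] [Finite S] (p : ℕ) [Fact p.Prime] (hS : IsPGroup p S) (Q : Subgroup S) (hQ : Cfsg.IsExtraspecial p ↥Q) (hQi : Q.index = p) :
    Subgroup.center S = (Subgroup.center ↥Q).map Q.subtype ∨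
      (Q ⊔ Subgroup.center S = ⊤ ∧ Nat.card (Subgroup.center S) = p ^ 2) := by
  have hp : p.Prime := Fact.out
  have := FGS.normal_of_index_eq_prime hS hQi
  obtain ⟨z, hES, -, hZ⟩ := Grp.ES.isES_of_isExtraspecial hQ
  have h1 := FGS.IsES_zpowers_le_center hS hES hZ
  have h2 : Q ⊓ Subgroup.center S = Subgroup.zpowers z :=
    le_antisymm (hZ ▸ inf_le_inf_left _ (Subgroup.center_le_centralizer _))
      (le_inf hES.zpowers_le h1)
  rw [FGS.map_subtype_center, hZ]
  by_cases h : Subgroup.center S ≤ Q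
  · left
    rw [← h2, eq_comm, inf_eq_right]
    exact h
  · right
    have ht := FGS.sup_eq_top_of_prime_index (hQi ▸ hp) h
    refine ⟨ht, ?_⟩
    have h3 := Grp.card_mul_card_eq_of_normal Q (Subgroup.center S)
    rw [ht, h2, Subgroup.card_top, ← Q.card_mul_index, hQi, Nat.card_zpowers, hES.ord] at h3
    have : 0 < Nat.card Q := Nat.card_pos
    apply Nat.eq_of_mul_eq_mul_left this
    rw [h3]; ring

end Cfsg.Agent.S3808
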