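import Cfsg.Statements.S3809
import Mathlib
import Cfsg.Agent.FGS.ESIndexP
import Cfsg.Agent.S0095

set_option autoImplicit false
open Cfsg

namespace Cfsg.Agent.S3809


/-- Let S be a finite p-group with an extraspecial subgroup of index p. Then S has order p^(2+2n) for some n ≥ 1, derived length at most 3, and exponent dividing p³. -/
theorem result {S : Type*} [Group S] [Finite S] (p : ℕ) [Fact p.Prime] (hS : IsPGroup p S) (Q : Subgroup S) (hQ : Cfsg.IsExtraspecial p ↥Q) (hQi : Q.index = p) :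
    (∃ n : ℕ, 1 ≤ n ∧ Nat.card S = p ^ (2 + 2 * n)) ∧ derivedSeries S 3 = ⊥ ∧ ∀ x : S, x ^ (p ^ 3) = 1 := by
  have hp : p.Prime := Fact.out
  have hco := FGS.isCoatom_of_prime_index (hQi ▸ hp)
  obtain ⟨z, hES, -, hZ⟩ := Grp.ES.isES_of_isExtraspecial hQ
  obtain ⟨n, hn, hc⟩ := S0095.result hQ
  refine ⟨⟨n, hn, ?_⟩, ?_, fun x => ?_⟩
  · rw [← Q.card_mul_index, hc, hQi]; ring
  · have h1 : derivedSeries S 1 ≤ Q := Grp.PFrattini.commutator_le_of_isCoatom hS hco
    have h2 : derivedSeries S 2 ≤ Subgroup.zpowers z :=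
      (Subgroup.commutator_mono h1 h1).trans (Subgroup.commutator_le.2 hES.comm)
    rw [eq_bot_iff]
    refine (Subgroup.commutator_mono h2 h2).trans ?_
    rw [Subgroup.commutator_self_eq_bot_iff.2 inferInstance]
  · have := hES.pow_eq_one (hES.pow_mem (Grp.PFrattini.pow_mem_of_isCoatom hS hco x))
    rw [← pow_mul, ← pow_mul] at this
    rw [← this]; congr 1; ring

end Cfsg.Agent.S3809
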