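import Cfsg.Statements.S3810
import Mathlib
import Cfsg.Agent.FGS.ESIndexP
import Cfsg.Agent.S0095

set_option autoImplicit false
open Cfsg

namespace Cfsg.Agent.S3810


/-- Let S be a finite p-group with an extraspecial subgroup of index p. Then S has an abelian subgroup of index p if and only if S has order p⁴. -/
theorem result {S : Type*} [Group S] [Finite S] (p : ℕ) [Fact p.Prime] (hS : IsPGroup p S) (Q : Subgroup S) (hQ : Cfsg.IsExtraspecial p ↥Q) (hQi : Q.index = p) :
    (∃ A : Subgroup S, IsMulCommutative ↥A ∧ A.index = p) ↔ Nat.card S = p ^ 4 := by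
  have hp : p.Prime := Fact.out
  have hp1 := hp.one_lt
  have := FGS.normal_of_index_eq_prime hS hQi
  obtain ⟨z, hES, hne, hZ⟩ := Grp.ES.isES_of_isExtraspecial hQ
  obtain ⟨n, hn, hc⟩ := S0095.result hQ
  have hSc : Nat.card S = p ^ (2 * n + 2) := by rw [← Q.card_mul_index, hc, hQi]; ring
  constructor
  · rintro ⟨A, hA, hAi⟩
    have hB : A ⊓ Q ≤ Subgroup.centralizer ((A ⊓ Q : Subgroup S) : Set S) :=
      inf_le_left.trans ((Subgroup.le_centralizer A).trans
        (Subgroup.centralizer_le (SetLike.coe_subset_coe.2 inf_le_left)))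
    have hcen : Q ≤ Subgroup.centralizer (Subgroup.zpowers z : Set S) := by
      rw [Subgroup.le_centralizer_iff, ← hZ]; exact inf_le_right
    have key := FGS.relIndex_inf_centralizer_symm (A ⊓ Q) Q (Subgroup.zpowers z)
      (Subgroup.commutator_le.2 fun a ha b hb => hES.comm a ha.2 b hb) (inf_le_right.trans hcen) hcen
    have h1 : (A ⊓ Q).relIndex Q ≤ p := by
      rw [Subgroup.inf_relIndex_right, ← hAi]
      exact Subgroup.relIndex_le_of_le_right le_top (by simp [hAi, hp.ne_zero]) |>.trans (by simp)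
    have h2 : (Q ⊓ Subgroup.centralizer ((A ⊓ Q : Subgroup S) : Set S)).relIndex Q ≤ p :=
      (Subgroup.relIndex_le_of_le_left (le_inf inf_le_right hB)
        Subgroup.FiniteIndex.index_ne_zero).trans h1
    rw [← key] at h2
    have h3 : Nat.card (A ⊓ Q ⊓ Subgroup.centralizer (Q : Set S) : Subgroup S) ≤ p := by
      rw [inf_assoc, hZ, ← hES.ord, ← Nat.card_zpowers]
      exact Subgroup.card_le_of_le inf_le_right
    have h4 := Grp.card_mul_relIndex (inf_le_left : A ⊓ Q ⊓ Subgroup.centralizer (Q : Set S) ≤ A ⊓ Q)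
    have h5 := Grp.card_mul_relIndex (inf_le_right : A ⊓ Q ≤ Q)
    have h6 : Nat.card Q ≤ p * p * p := by
      rw [← h5, ← h4]
      exact Nat.mul_le_mul (Nat.mul_le_mul h3 h2) h1
    rw [hc, show p * p * p = p ^ 3 by ring, Nat.pow_le_pow_iff_right hp1] at h6
    obtain rfl : n = 1 := by omega
    exact hSc
  · intro h4
    obtain ⟨A, hA, hAc⟩ := FGS.exists_abelian_sq_lt_card hS h4.ge
    refine ⟨A, hA, ?_⟩
    obtain ⟨k, hk⟩ := IsPGroup.iff_card.1 (hS.to_subgroup A)
    have hAt : A ≠ ⊤ := by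
      rintro rfl
      apply hne
      rw [← hZ, eq_comm, inf_eq_left]
      exact le_top.trans ((Subgroup.le_centralizer ⊤).trans
        (Subgroup.centralizer_le (SetLike.coe_subset_coe.2 le_top)))
    have h5 := Grp.card_lt_card_of_lt (lt_top_iff_ne_top.2 hAt)
    rw [Subgroup.card_top, h4, hk, Nat.pow_lt_pow_iff_right hp1] at h5
    rw [hk, Nat.pow_lt_pow_iff_right hp1] at hAc
    obtain rfl : k = 3 := by omega
    have := A.card_mul_index
    rw [hk, h4, pow_succ p 3] at this
    exact Nat.eq_of_mul_eq_mul_left (by positivity) this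

end Cfsg.Agent.S3810
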