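import Cfsg.Statements.S3811
import Cfsg.Agent.PLocal.NCl
import Cfsg.Agent.PLocal.Thompson

set_option autoImplicit false
open Cfsg

namespace Cfsg.Agent.S3811

section

open Subgroup Cfsg.Agent.PLocal Cfsg.Agent.PLocal.Amb
open scoped commutatorElement

universe u

variable {p : ℕ} [hp : Fact p.Prime] {G : Type u} [Group G] [Finite G] {A K : Subgroup G}

/-- soft subgroups -/
structure Soft (p : ℕ) (A : Subgroup G) : Prop where
  ab : A ≤ 𝐂[A]
  sc : 𝐂[A] ≤ A
  ix : A.relIndex 𝐍[A] = p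

omit [Finite G] in
theorem eq_or {A B C : Subgroup G} (h1 : A ≤ B) (h2 : B ≤ C) (h : A.relIndex C = p) : B = A ∨ B = C := by
  rw [← relIndex_mul_relIndex A B C h1 h2] at h
  exact (hp.out.eq_one_or_self_of_dvd _ ⟨_, h.symm⟩).imp (fun e => le_antisymm (relIndex_eq_one.1 e) h1)
    fun e => le_antisymm h2 (relIndex_eq_one.1 (by
      rw [e] at h; exact Nat.eq_of_mul_eq_mul_left hp.out.pos (h.trans (mul_one p).symm)))

theorem nor_le (hG : IsPGroup p G) (h : A.relIndex 𝐍[A] = p) (l : A < K) : 𝐍[A] ≤ K := by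
  have := lt_inf_normalizer (hG.to_subgroup K) l
  exact ((eq_or this.le inf_le_right h).resolve_left this.ne').ge.trans inf_le_left

theorem lt_nor (hG : IsPGroup p G) (h : K ≠ ⊤) : K < 𝐍[K] :=
  (lt_inf_normalizer (hG.to_subgroup ⊤) h.lt_top).trans_le inf_le_right

theorem Soft.two (h : Soft p A) (hG : IsPGroup p G) (hn : 𝐍[A] ≠ ⊤) : (𝐍[A]).relIndex 𝐍[𝐍[A]] = p := by
  classical
  obtain ⟨x, hx, nx⟩ := SetLike.exists_of_lt (lt_nor hG hn)
  have l : cj(x, A) ≤ 𝐍[A] := cj_le_of_mem_normalizer le_normalizer hx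
  have e : A ⊔ cj(x, A) = 𝐍[A] := (eq_or le_sup_left (sup_le le_normalizer l) h.ix).resolve_left fun e =>
    nx (mem_normalizer_of_cj_le (le_sup_right.trans e.le))
  have zA : 𝐍[A] ⊓ 𝐂[𝐍[A]] ≤ A := inf_le_right.trans ((Amb.centralizer_anti le_normalizer).trans h.sc)
  have i1 : (A ⊓ cj(x, A)).relIndex A = p := by
    rw [inf_relIndex_left, ← relIndex_sup_of_le_normalizer (by
      rw [normalizer_cj, cj_of_mem_normalizer hx]; exact le_normalizer), e, ← h.ix]
    nth_rw 1 [← cj_of_mem_normalizer hx]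
    exact relIndex_map_map_of_injective _ _ (MulAut.conj x).injective
  have dZ : A ⊓ cj(x, A) ≤ 𝐍[A] ⊓ 𝐂[𝐍[A]] := le_inf (inf_le_left.trans le_normalizer) (by
    rw [← e, Amb.centralizer_sup, centralizer_cj]
    exact inf_le_inf h.ab (cj_mono x h.ab))
  have nA : ¬ A ≤ 𝐍[A] ⊓ 𝐂[𝐍[A]] := fun k => hp.out.ne_one (h.ix.symm.trans (relIndex_eq_one.2
    ((le_centralizer_iff.1 (k.trans inf_le_right)).trans h.sc)))
  rw [← (eq_or dZ zA i1).resolve_right fun k => nA k.ge] at i1
  have nZ : 𝐍[𝐍[A]] ≤ 𝐍[𝐍[A] ⊓ 𝐂[𝐍[A]]] := le_normalizer_inf le_rfl (normalizer_le_normalizer_centralizer _)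
  generalize 𝐍[A] ⊓ 𝐂[𝐍[A]] = Z at *
  obtain ⟨a, ha, na⟩ := SetLike.not_le_iff_exists.1 nA
  have eA : zpowers a ⊔ Z = A := (eq_or le_sup_right (sup_le (zpowers_le.2 ha) zA) i1).resolve_left fun k =>
    na (k.le (mem_sup_left (mem_zpowers a)))
  have := Fintype.ofFinite (𝐍[𝐍[A]] ⧸ (𝐍[A]).subgroupOf 𝐍[𝐍[A]])
  have := Fintype.ofFinite (𝐍[A] ⧸ Z.subgroupOf 𝐍[A])
  have lt := Fintype.card_lt_of_injective_of_notMem (fun q : 𝐍[𝐍[A]] ⧸ (𝐍[A]).subgroupOf 𝐍[𝐍[A]] =>
    ((⟨q.out * a * (q.out : G)⁻¹, conj_mem_of_mem_normalizer q.out.2 (le_normalizer ha)⟩ : 𝐍[A]) :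
      𝐍[A] ⧸ Z.subgroupOf 𝐍[A])) (fun q q' k => by
      rw [← q.out_eq', ← q'.out_eq', QuotientGroup.eq, mem_subgroupOf]
      refine mem_normalizer_of_cj_le ((cj_mono _ eA.ge).trans ?_)
      rw [cj_sup, cj_of_mem_normalizer (nZ (q.out⁻¹ * q'.out).2), MonoidHom.map_zpowers]
      refine sup_le (zpowers_le.2 ?_) zA
      simpa [mul_assoc] using mul_mem ha (zA (inv_conj_mem_of_mem_normalizer (nZ q.out.2)
        (mem_subgroupOf.1 (QuotientGroup.eq.1 k))))) (b := ((1 : 𝐍[A]) : 𝐍[A] ⧸ Z.subgroupOf 𝐍[A])) (by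
      rintro ⟨q, k⟩
      exact na (by simpa [mul_assoc] using (inv_conj_mem_of_mem_normalizer (nZ q.out.2)
        (mem_subgroupOf.1 (QuotientGroup.eq.1 k.symm)))))
  rw [← Nat.card_eq_fintype_card, ← Nat.card_eq_fintype_card] at lt
  change (𝐍[A]).relIndex 𝐍[𝐍[A]] < Z.relIndex 𝐍[A] at lt
  rw [← relIndex_mul_relIndex Z A _ zA le_normalizer, i1, h.ix, ← sq] at lt
  obtain ⟨n, k⟩ : ∃ n, (𝐍[A]).relIndex 𝐍[𝐍[A]] = p ^ n := (hG.to_subgroup _).index _
  have n0 : n ≠ 0 := by
    rintro rfl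
    exact nx (relIndex_eq_one.1 k hx)
  rw [k, Nat.pow_lt_pow_iff_right hp.out.one_lt] at lt
  rw [k, show n = 1 by omega, pow_one]

theorem cls_eq {X Y : Type*} [Group X] [Group Y] [Group.IsNilpotent X] (e : X ≃* Y) :
    Group.nilpotencyClass X = Group.nilpotencyClass Y :=
  have := Group.nilpotent_of_mulEquiv e
  le_antisymm (Group.nilpotencyClass_le_of_surjective e.symm.toMonoidHom e.symm.surjective)
    (Group.nilpotencyClass_le_of_surjective e.toMonoidHom e.surjective)

/-- the claim for the `i`-th member of the tower -/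
def St (p i : ℕ) : Prop := ∀ (G : Type u) [Group G] [Finite G], IsPGroup p G → ∀ A K : Subgroup G, Soft p A →
  A ≤ K → K ≠ ⊤ → A.relIndex K = p ^ i → K.relIndex 𝐍[K] = p ∧ Group.nilpotencyClass K = i + 1

theorem st_zero : St.{u} p 0 := fun G _ _ hG A K h l n e => by
  obtain rfl := le_antisymm l (relIndex_eq_one.1 e)
  have := (hG.to_subgroup A).isNilpotent
  refine ⟨h.ix, le_antisymm (Group.IsNilpotent.nilpotencyClass_le_one_iff.2 (le_centralizer_iff_isMulCommutative.1 h.ab))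
    (Nat.pos_of_ne_zero fun k => n ?_)⟩
  rw [Group.nilpotencyClass_zero_iff_subsingleton] at k
  refine eq_top_iff.2 fun x _ => h.sc fun y hy => ?_
  rw [show y = 1 from congrArg Subtype.val (Subsingleton.elim (⟨y, hy⟩ : A) 1), one_mul, mul_one]

theorem step {i : ℕ} (ih : ∀ j ≤ i, St.{u} p j) (hG : IsPGroup p G) (h : Soft p A) [K.Normal] (l : A ≤ K)
    (n : K ≠ ⊤) (e : A.relIndex K = p ^ (i + 1)) : K.index = p ∧ Group.nilpotencyClass K = i + 1 + 1 := by
  have lt : A < K := lt_of_le_of_ne l fun k => by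
    rw [← k, relIndex_self] at e
    exact (Nat.one_lt_pow (Nat.succ_ne_zero i) hp.out.one_lt).ne e
  have l1 := nor_le hG h.ix lt
  have zA : K ⊓ 𝐂[K] ≤ A := inf_le_right.trans ((Amb.centralizer_anti l).trans h.sc)
  obtain ⟨u, hu, nu, cu⟩ := CP.exists_notMem_commutator_mem (U₁ := 𝐂[K]) (hG.to_subgroup K) (hG.to_subgroup ⊤)
    (normalizer_eq_top K).ge fun k => lt.not_ge ((k.trans (Amb.centralizer_anti l)).trans h.sc)
  replace cu r := cu r (mem_sup_right (mem_top r))
  have uA : u ∉ A := fun m => by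
    have l2 : A ≤ K ⊓ centralizer {u} := le_inf l fun a ha => mem_centralizer_singleton_iff.2 (h.ab m a ha)
    have l3 : K ⊓ centralizer {u} < K := lt_of_le_of_ne inf_le_left fun k =>
      nu fun x hx => mem_centralizer_singleton_iff.1 (k.ge hx).2
    obtain ⟨j, hj⟩ : ∃ j, A.relIndex (K ⊓ centralizer {u}) = p ^ j := (hG.to_subgroup _).index _
    obtain ⟨m, hm⟩ : ∃ j, (K ⊓ centralizer {u}).relIndex K = p ^ j := (hG.to_subgroup _).index _
    have m0 : m ≠ 0 := by
      rintro rfl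
      exact l3.not_ge (relIndex_eq_one.1 hm)
    rw [← relIndex_mul_relIndex _ _ _ l2 l3.le, hj, hm, ← pow_add] at e
    have := Nat.pow_right_injective hp.out.two_le e
    refine n (eq_top_iff.2 (le_trans (fun g _ => mem_normalizer_of_cj_le (cj_le_iff_forall.2 fun x hx => ?_))
      (nor_le hG (ih j (by omega) G hG A _ h l2 (l3.trans_le le_top).ne hj).1 l3)))
    refine ⟨Normal.conj_mem ‹_› x hx.1 g, mem_centralizer_singleton_iff.2 ?_⟩
    have : Commute x (g⁻¹ * u * g) := by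
      rw [show g⁻¹ * u * g = ⁅u, g⁻¹⁆⁻¹ * u by simp [commutatorElement_def, mul_assoc]]
      exact (Commute.inv_right ((cu g⁻¹).2 x hx.1)).mul_right (mem_centralizer_singleton_iff.1 hx.2)
    calc g * x * g⁻¹ * u = g * (x * (g⁻¹ * u * g)) * g⁻¹ := by group
      _ = _ := by rw [this.eq]; group
  have nor {x} (k : ∀ a ∈ A, ⁅x, a⁆ ∈ K ⊓ 𝐂[K]) : x ∈ 𝐍[A] :=
    mem_normalizer_of_cj_le (cj_le_iff_forall.2 fun a ha => by
      simpa [commutatorElement_def] using mul_mem (zA (k a ha)) ha)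
  have eN : A ⊔ zpowers u = 𝐍[A] := (eq_or le_sup_left (sup_le le_normalizer (zpowers_le.2 (nor fun a _ => cu a)))
    h.ix).resolve_left fun k => uA (k.le (mem_sup_right (mem_zpowers u)))
  have : (K ⊓ 𝐂[K]).Normal := inferInstance
  let π := QuotientGroup.mk' (K ⊓ 𝐂[K])
  have sj : Function.Surjective π := QuotientGroup.mk'_surjective _
  have kr : π.ker = K ⊓ 𝐂[K] := QuotientGroup.ker_mk' _
  have cm {x y} : π x * π y = π y * π x ↔ ⁅x, y⁆ ∈ K ⊓ 𝐂[K] := by
    rw [← commutatorElement_eq_one_iff_mul_comm, ← map_commutatorElement, ← MonoidHom.mem_ker, kr]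
  have cp : (map π 𝐍[A]).comap π = 𝐍[A] := comap_map_eq_self (kr.le.trans (zA.trans le_normalizer))
  have hB : Soft p (map π 𝐍[A]) := by
    refine ⟨?_, fun x hx => ?_, ?_⟩
    · have k (X : Subgroup _) : map π (zpowers u) ≤ 𝐂[X] := by
        rw [MonoidHom.map_zpowers, zpowers_le]
        intro y _
        obtain ⟨y, rfl⟩ := sj y
        exact (cm.2 (cu y)).symm
      rw [← eN, Subgroup.map_sup, Amb.centralizer_sup]
      refine le_inf (sup_le ?_ (k _)) (le_centralizer_iff.1 (k _))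
      rintro _ ⟨a, ha, rfl⟩ _ ⟨b, hb, rfl⟩
      rw [← map_mul, ← map_mul, h.ab ha b hb]
    · obtain ⟨x, rfl⟩ := sj x
      exact mem_map_of_mem π (nor fun a ha => cm.1 (hx _ (mem_map_of_mem π (le_normalizer ha))).symm)
    · rw [← map_comap_eq_self_of_surjective sj 𝐍[map π 𝐍[A]], ← relIndex_comap,
        comap_normalizer_eq_of_surjective _ sj, cp]
      exact h.two hG fun k => n (eq_top_iff.2 (k.ge.trans l1))
  have kK : π.ker ≤ K := kr.le.trans inf_le_left
  obtain ⟨r1, r2⟩ := ih i le_rfl _ (hG.to_quotient _) _ (map π K) hB (map_mono l1)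
    (fun k => n (by rw [← comap_map_eq_self kK, k, comap_top])) (by
      rw [← relIndex_comap, cp]
      rw [← relIndex_mul_relIndex _ _ _ le_normalizer l1, h.ix, pow_succ'] at e
      exact Nat.eq_of_mul_eq_mul_left hp.out.pos e)
  have := Normal.map ‹K.Normal› π sj
  rw [normalizer_eq_top, relIndex_top_right, index_map_eq _ sj kK] at r1
  refine ⟨r1, ?_⟩
  have := (hG.to_subgroup K).isNilpotent
  have := (nontrivial_iff_ne_bot K).2 (bot_le.trans_lt lt).ne'
  rw [Group.nilpotencyClass_eq_quotient_center_plus_one, ← r2]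
  refine congrArg (· + 1) (cls_eq (((QuotientGroup.quotientMulEquivOfEq ?_).trans
    (QuotientGroup.quotientKerEquivRange (π.domRestrict K))).trans (MulEquiv.subgroupCongr (π.domRestrict_range K))))
  ext x
  rw [MonoidHom.ker_domRestrict, mem_subgroupOf, kr, mem_center_iff]
  exact ⟨fun k => ⟨x.2, fun y hy => congrArg Subtype.val (k ⟨y, hy⟩)⟩, fun k y => Subtype.ext (k.2 y y.2)⟩

theorem main (i : ℕ) : St.{u} p i := by
  induction i using Nat.strong_induction_on with
  | _ i ih =>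
  rcases i with _ | i
  · exact st_zero
  intro G _ _ hG A K h l n e
  have lt : A < K := lt_of_le_of_ne l fun k => by
    rw [← k, relIndex_self] at e
    exact (Nat.one_lt_pow (Nat.succ_ne_zero i) hp.out.one_lt).ne e
  have l0 := l.trans le_normalizer
  have := normal_subgroupOf' (le_refl 𝐍[K])
  obtain ⟨r1, r2⟩ := step (A := A.subgroupOf 𝐍[K]) (K := K.subgroupOf 𝐍[K]) (fun j hj => ih j (Nat.lt_succ_of_le hj))
    (hG.to_subgroup _) ⟨by rw [Amb.centralizer_subgroupOf l0]; exact comap_mono h.ab,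
      by rw [Amb.centralizer_subgroupOf l0]; exact comap_mono h.sc, by
        rw [← subgroupOf_normalizer_eq l0, relIndex_subgroupOf ((nor_le hG h.ix lt).trans le_normalizer), h.ix]⟩
    (comap_mono l) (fun k => (lt_nor hG n).not_ge (subgroupOf_eq_top.1 k)) (by rwa [relIndex_subgroupOf le_normalizer])
  have := (hG.to_subgroup K).isNilpotent
  exact ⟨r1, (cls_eq (subgroupOfEquivOfLe le_normalizer).symm).trans r2⟩

end

/-- Let P be a finite p-group and E an abelian subgroup of P that contains its centralizer, has index p in its normalizer, and has index at least p² in P. Then the subgroups of P containing E are totally ordered by inclusion, each proper one has index p in its normalizer (so they form the normalizer tower of E, with all steps of index p), and the i-th member of the tower above E has nilpotency class i + 1 whenever it is a proper subgroup of P. -/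
theorem result {P : Type*} [Group P] [Finite P] (p : ℕ) [Fact p.Prime] (hP : IsPGroup p P)
    (E : Subgroup P) (hEab : IsMulCommutative ↥E) (hC : Subgroup.centralizer (E : Set P) ≤ E)
    (hN : (E.subgroupOf (Subgroup.normalizer (E : Set P))).index = p) (hidx : p ^ 2 ≤ E.index) :
    (∀ K L : Subgroup P, E ≤ K → E ≤ L → K ≤ L ∨ L ≤ K) ∧
      (∀ K : Subgroup P, E ≤ K → K ≠ ⊤ → (K.subgroupOf (Subgroup.normalizer (K : Set P))).index = p) ∧
      ∀ (i : ℕ) (K : Subgroup P) [Group.IsNilpotent ↥K], E ≤ K → K ≠ ⊤ → K.index * p ^ i = E.index →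
        Group.nilpotencyClass ↥K = i + 1 := by
  have h : Soft p E := ⟨Subgroup.le_centralizer_iff_isMulCommutative.2 hEab, hC, hN⟩
  have k (K : Subgroup P) (l : E ≤ K) (n : K ≠ ⊤) : K.relIndex (Subgroup.normalizer (K : Set P)) = p :=
    let ⟨i, e⟩ := (hP.to_subgroup K).index (E.subgroupOf K)
    (main i P hP E K h l n e).1
  refine ⟨fun K L h1 h2 => by_contra fun c => ?_, k, fun i K _ l n e => (main i P hP E K h l n ?_).2⟩
  · have l1 : K ⊓ L < K := inf_lt_left.2 (not_or.1 c).1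
    have l2 : K ⊓ L < L := inf_lt_right.2 (not_or.1 c).2
    have n := (l1.trans_le le_top).ne
    have e := k _ (le_inf h1 h2) n
    exact (lt_nor hP n).not_ge (le_inf (nor_le hP e l1) (nor_le hP e l2))
  rw [← Subgroup.relIndex_mul_index l, mul_comm] at e
  exact (Nat.eq_of_mul_eq_mul_right (Nat.pos_of_ne_zero Subgroup.index_ne_zero_of_finite) e).symm

end Cfsg.Agent.S3811
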