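import Cfsg.Statements.S3816
import Cfsg.Agent.MinS.FixGen2
import Cfsg.Agent.Solv.ExtAction

set_option autoImplicit false
open Cfsg

namespace Cfsg.Agent.S3816

/-- Let p be an odd prime, H a finite solvable group of order prime to p, and x an automorphism of H of order p (so P = ⟨x⟩ has prime order p > 2 and acts coprimely on H). For h ∈ H let [h, P] be the subgroup generated by the commutators h⁻¹·xⁱ(h), and let [H, P] be the subgroup generated by all of these. Then the fixed points of x in [H, P] are generated by the fixed points of x in the subgroups [h, P], h ∈ H. -/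
theorem result {H : Type*} [Group H] [Finite H]
    [Group.IsSolvable H] {p : ℕ} [Fact p.Prime] (hp : p ≠ 2) (hcop : (Nat.card H).Coprime p)
    (x : MulAut H) (hx : orderOf x = p) :
    Subgroup.closure {c : H | ∃ h : H, ∃ i : ℕ, c = h⁻¹ * (x ^ i) h} ⊓ (x : H →* H).eqLocus (MonoidHom.id H) =
      ⨆ h : H, Subgroup.closure {c : H | ∃ i : ℕ, c = h⁻¹ * (x ^ i) h} ⊓ (x : H →* H).eqLocus (MonoidHom.id H) := by
  open Subgroup Cfsg.Agent.Solv.Ext Cfsg.Agent.FixGen in
  refine le_antisymm ?_ (iSup_le fun h => inf_le_inf_right _ (closure_mono fun c ⟨i, hi⟩ => ⟨h, i, hi⟩))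
  have := finite_SD (A := MulAut H) (G := H)
  have hj := iG_injective (A := MulAut H) (G := H)
  have hs := iG_smul (A := MulAut H) (G := H)
  set j := iG (MulAut H) H with hjdef
  set y := iA (MulAut H) H x with hy
  have hp' : ∀ (i : ℕ) (h : H), j ((x ^ i) h) = y ^ i * j h * (y ^ i)⁻¹ := fun i h => by
    rw [hy, ← map_pow]; exact hs (x ^ i) h
  have hfix : ∀ h : H, j h ∈ centralizer (zpowers y : Set _) ↔ x h = h := fun h => by
    rw [PLocal.Amb.centralizer_zpowers, mem_centralizer_singleton_iff, ← hj.eq_iff]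
    have := hp' 1 h
    rw [pow_one, pow_one] at this
    rw [this, mul_inv_eq_iff_eq_mul, eq_comm]
  have key := FixGen.main hp _ y (by rw [hy, ← map_pow, ← hx, pow_orderOf_eq_one, map_one]) j.range
    (le_normalizer_of_normal' normal_range_iG ⊤ trivial)
    (by rw [card_range_iG]; exact (Fact.out : p.Prime).coprime_iff_not_dvd.1 hcop.symm)
    (Group.isSolvable_of_surjective j.rangeRestrict_surjective)
  rintro c ⟨h1, h2⟩
  have h3 : j c ∈ ⁅j.range, zpowers y⁆ := by
    refine (map_le_iff_le_comap.2 ((closure_le _).2 ?_)) (mem_map_of_mem j h1)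
    rintro _ ⟨h, i, rfl⟩
    rw [SetLike.mem_coe, mem_comap, map_mul, map_inv, hp']
    exact cm_le_commutator (MonoidHom.mem_range.2 ⟨h, rfl⟩) (mem_cm _ (pow_mem (mem_zpowers y) i))
  refine (mem_map_iff_mem hj).1 ((?_ : DD y j.range ≤ _) (key ⟨h3, (hfix c).2 h2⟩))
  refine iSup₂_le ?_
  rintro _ ⟨h, rfl⟩ d ⟨hd, hd'⟩
  have h4 : cm y (j h) ≤ (closure {c : H | ∃ i : ℕ, c = h⁻¹ * (x ^ i) h}).map j := by
    refine cm_le_iff.2 fun u hu => ?_
    obtain ⟨i, rfl⟩ := (mem_powers_iff_mem_zpowers.2 hu)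
    exact ⟨_, subset_closure ⟨i, rfl⟩, by rw [map_mul, map_inv, hp']⟩
  obtain ⟨e, he, rfl⟩ := h4 hd
  exact mem_map_of_mem j (mem_iSup_of_mem h ⟨he, (hfix e).1 hd'⟩)

end Cfsg.Agent.S3816
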