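import Cfsg.Statements.S3818
import Cfsg.Agent.MinS.FixDim2

set_option autoImplicit false
open Cfsg

namespace Cfsg.Agent.S3818

open Subgroup Cfsg.Agent.FT.Rep Cfsg.Agent.FixDim

/-- Let G be a finite solvable group and P a subgroup of G of prime order p > 3 whose conjugates generate G. Let V be a faithful irreducible representation of G over a field of positive characteristic, finite-dimensional. Then the subspace of V fixed by P has dimension less than half the dimension of V. -/
theorem result {G : Type*} [Group G] [Finite G] [Group.IsSolvable G]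
    {p : ℕ} [Fact p.Prime] (hp : 3 < p) (P : Subgroup G) (hP : Nat.card P = p) (hgen : Subgroup.normalClosure (P : Set G) = ⊤)
    {k : Type*} [Field k] (ℓ : ℕ) [Fact ℓ.Prime] [CharP k ℓ]
    {V : Type*} [AddCommGroup V] [Module k V] [FiniteDimensional k V]
    (ρ : Representation k G V) [ρ.IsIrreducible] (hfaith : Function.Injective ρ) :
    2 * Module.finrank k ↥(⨅ g : ↥P, LinearMap.ker (ρ (g : G) - LinearMap.id)) < Module.finrank k V := by
  have hirr : Irr ρ := fun W hW => by
    rcases eq_bot_or_eq_top (⟨W, fun g v hv => hW g v hv⟩ : Subrepresentation ρ) with h | h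
    · exact Or.inl (congrArg Subrepresentation.toSubmodule h)
    · exact Or.inr (congrArg Subrepresentation.toSubmodule h)
  obtain ⟨⟨x, hxP⟩, hx⟩ := exists_prime_orderOf_dvd_card' (G := P) p hP.symm.dvd
  have hx' : orderOf x = p := by rw [← hx, ← Subgroup.orderOf_coe]
  have hPx : zpowers x = P :=
    PLocal.eq_of_le_of_card_le (zpowers_le.2 hxP) (by rw [Nat.card_zpowers, hx', hP])
  have hx1 : x ≠ 1 := by rintro rfl; rw [orderOf_one] at hx'; omega
  have : Nontrivial G := ⟨x, 1, hx1⟩
  have : Nontrivial V := by
    by_contra h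
    rw [not_nontrivial_iff_subsingleton] at h
    exact hx1 (hfaith (Subsingleton.elim _ _))
  obtain ⟨r, N, -, hNn, hN1, hNc, -⟩ := Grp.exists_minNormal_elementaryAbelian G
  have h5 : 5 ≤ p := by
    have := (Fact.out : p.Prime)
    by_contra h
    have : p = 4 := by omega
    subst this
    norm_num at this
  have h0 : fix ρ N = ⊥ := by
    refine (hirr _ fun g w hw => apply_mem_fix ρ (by rw [normalizer_eq_top]; trivial) hw).resolve_right
      fun e => hN1 (eq_bot_iff.2 fun a ha => hfaith ((fix_eq_top_iff.1 e a ha).trans (map_one ρ).symm))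
  have key := general' (F := k) inferInstance (x := x) (by rw [← hx', pow_orderOf_eq_one]) h5
    (fun K hK hxK => top_le_iff.1 (hgen ▸ normalClosure_le_normal (hPx ▸ zpowers_le.2 hxK)))
    (natCast_card_ne_zero hfaith hirr (Grp.isNilpotent_of_isMulCommutative N)) ρ h0 Module.finrank_pos
  have e : (⨅ g : ↥P, LinearMap.ker (ρ (g : G) - LinearMap.id)) = fix ρ (zpowers x) := by
    ext w
    rw [hPx, mem_fix, Submodule.mem_iInf]
    simp [sub_eq_zero]
  rwa [e]

end Cfsg.Agent.S3818
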