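import Cfsg.Statements.S4078
import Cfsg.Agent.MinS.TwoGen3
import Cfsg.Agent.S0205

set_option autoImplicit false
open Cfsg

namespace Cfsg.Agent.S4078

open Subgroup Cfsg.Agent.PLocal Cfsg.Agent.PLocal.Amb

theorem solvable_of_le_sup {G : Type*} [Group G] {H N K : Subgroup G} (hN : Group.IsSolvable N)
    (hK : Group.IsSolvable K) (hn : K ≤ 𝐍[N]) (h : H ≤ N ⊔ K) : Group.IsSolvable H := by
  have hn' : N ⊔ K ≤ 𝐍[N] := sup_le le_normalizer hn
  have := normal_subgroupOf' hn'
  have h1 : Group.IsSolvable ↥(N.subgroupOf (N ⊔ K)) :=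
    Group.isSolvable_of_surjective
      (f := (subgroupOfEquivOfLe (le_sup_left : N ≤ N ⊔ K)).symm.toMonoidHom)
      (subgroupOfEquivOfLe (le_sup_left : N ≤ N ⊔ K)).symm.surjective
  have h2 : Group.IsSolvable (↥(N ⊔ K) ⧸ N.subgroupOf (N ⊔ K)) := by
    refine Group.isSolvable_of_surjective
      (f := (QuotientGroup.mk' _).comp (inclusion (le_sup_right : K ≤ N ⊔ K))) fun x => ?_
    obtain ⟨⟨x, hx⟩, rfl⟩ := QuotientGroup.mk'_surjective _ x
    obtain ⟨b, hb, a, ha, rfl⟩ := (mem_sup_of_le_normalizer_right hn).1 (sup_comm N K ▸ hx)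
    refine ⟨⟨b, hb⟩, QuotientGroup.eq.2 ?_⟩
    simpa [mem_subgroupOf] using ha
  have h3 : Group.IsSolvable ↥(N ⊔ K) :=
    Group.isSolvable_of_ker_le_range (N.subgroupOf (N ⊔ K)).subtype
      (QuotientGroup.mk' (N.subgroupOf (N ⊔ K))) (by simp)
  exact Group.isSolvable_of_isSolvable_injective (inclusion_injective h)

theorem solvable_zpowers {G : Type*} [Group G] (a : G) : Group.IsSolvable (zpowers a) :=
  Solv.isSolvable_of_isMulCommutative _

theorem solvable_dihedral {G : Type*} [Group G] [Finite G] {s t : G} (hs : s * s = 1)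
    (ht : t * t = 1) : Group.IsSolvable (closure ({s, t} : Set G)) := by
  refine solvable_of_le_sup (solvable_zpowers (s * t)) (solvable_zpowers t) ?_ ?_
  · rw [zpowers_le]
    refine mem_normalizer_of_cj_le ?_
    rw [TwoGen.cj_zpowers, zpowers_le]
    have : t * (s * t) * t⁻¹ = (s * t)⁻¹ := by
      rw [mul_inv_rev, inv_eq_of_mul_eq_one_right hs, inv_eq_of_mul_eq_one_right ht]
      calc t * (s * t) * t = t * s * (t * t) := by group
        _ = t * s := by rw [ht, mul_one]
    rw [this]; exact inv_mem (mem_zpowers _)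
  · rw [closure_le]
    have h1 : t ∈ zpowers (s * t) ⊔ zpowers t := mem_sup_right (mem_zpowers t)
    have h2 : s ∈ zpowers (s * t) ⊔ zpowers t := by
      simpa using mul_mem (mem_sup_left (mem_zpowers (s * t)) : _ ∈ zpowers (s * t) ⊔ zpowers t)
        (inv_mem h1)
    rintro x (rfl | rfl)
    exacts [h2, h1]

theorem solvable_iff_map {G K : Type*} [Group G] [Group K] (f : G →* K)
    (hf : Group.IsSolvable f.ker) (a b : G) :
    Group.IsSolvable (closure ({f a, f b} : Set K)) ↔
      Group.IsSolvable (closure ({a, b} : Set G)) := by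
  refine ⟨fun h => ?_, TwoGen.two_map f⟩
  have e : (closure ({a, b} : Set G)).map f = closure ({f a, f b} : Set K) := by
    rw [MonoidHom.map_closure, Set.image_pair]
  rw [← e] at h
  set H := closure ({a, b} : Set G)
  have h1 : Group.IsSolvable ↥(H ⊓ f.ker) :=
    Group.isSolvable_of_isSolvable_injective (inclusion_injective (inf_le_right : H ⊓ f.ker ≤ _))
  refine Group.isSolvable_of_ker_le_range (inclusion (inf_le_left : H ⊓ f.ker ≤ H))
    (f.subgroupMap H) fun x hx => ⟨⟨x, x.2, ?_⟩, rfl⟩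
  exact congrArg Subtype.val hx

universe u

theorem aux (G : Type u) [Group G] [Finite G]
    (h : ∀ x : G, ∃ H : Subgroup G, (H : Set G) =
      {y : G | Group.IsSolvable ↥(Subgroup.closure ({x, y} : Set G))}) : Group.IsSolvable G := by
  induction hn : Nat.card G using Nat.strong_induction_on generalizing G with
  | _ n ih =>
  by_contra hs
  have hsub : ∀ K : Subgroup G, K ≠ ⊤ → Group.IsSolvable K := fun K hK => by
    refine ih _ (hn ▸ lt_of_le_of_ne (card_le_card_group K) fun e => hK (eq_top_of_card_eq K e)) K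
      (fun x => ?_) rfl
    obtain ⟨H, hH⟩ := h x
    refine ⟨H.subgroupOf K, Set.ext fun y => ?_⟩
    have := solvable_iff_map K.subtype (by rw [ker_subtype]; infer_instance) x y
    rw [Set.mem_ofPred_eq, ← this]
    exact Set.ext_iff.1 hH y
  have hsimple : ∀ N : Subgroup G, N.Normal → N ≠ ⊥ → N = ⊤ := by
    intro N hN h1
    by_contra h2
    have h3 := hsub N h2
    have h4 : Group.IsSolvable (G ⧸ N) := by
      refine ih _ ?_ (G ⧸ N) (fun x => ?_) rfl
      · rw [← hn, card_eq_card_quotient_mul_card_subgroup N]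
        exact lt_mul_of_one_lt_right Nat.card_pos ((one_lt_card_iff_ne_bot N).2 h1)
      · obtain ⟨x, rfl⟩ := QuotientGroup.mk'_surjective N x
        obtain ⟨H, hH⟩ := h x
        have hk : Group.IsSolvable (QuotientGroup.mk' N).ker := by rwa [QuotientGroup.ker_mk']
        refine ⟨H.map (QuotientGroup.mk' N), Set.ext fun y => ⟨?_, fun hy => ?_⟩⟩
        · rintro ⟨y, hy, rfl⟩
          exact (solvable_iff_map _ hk x y).2 ((Set.ext_iff.1 hH y).1 hy)
        · obtain ⟨y, rfl⟩ := QuotientGroup.mk'_surjective N y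
          exact ⟨y, (Set.ext_iff.1 hH y).2 ((solvable_iff_map _ hk x y).1 hy), rfl⟩
    exact hs (Group.isSolvable_of_ker_le_range N.subtype (QuotientGroup.mk' N) (by simp))
  have hev : 2 ∣ Nat.card G := by
    by_contra h2
    exact hs (S0205.result (Nat.odd_iff.2 (by omega)))
  obtain ⟨t, ht⟩ := exists_prime_orderOf_dvd_card' 2 hev
  have ht1 : t ≠ 1 := by rintro rfl; simp at ht
  have ht2 : t * t = 1 := by rw [← sq, ← ht, pow_orderOf_eq_one]
  have hall : ∀ H : Subgroup G, (∀ s : G, s * s = 1 → s ∈ H) → ∀ y, y ∈ H := by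
    intro H hH y
    have h1 : t ∈ H.normalCore := fun g => hH _ (by
      calc g * t * g⁻¹ * (g * t * g⁻¹) = g * (t * t) * g⁻¹ := by group
        _ = 1 := by rw [ht2]; simp)
    have h2 := hsimple _ (normalCore_normal H) fun e => ht1 (by rwa [e, mem_bot] at h1)
    exact H.normalCore_le (h2 ▸ mem_top y)
  have h1 : ∀ s : G, s * s = 1 → ∀ y, Group.IsSolvable (closure ({s, y} : Set G)) := by
    intro s hs y
    obtain ⟨H, hH⟩ := h s
    exact (Set.ext_iff.1 hH y).1
      (hall H (fun u hu => (Set.ext_iff.1 hH u).2 (solvable_dihedral hs hu)) y)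
  refine hs (TwoGen.isSolvable_of_two G fun x y => ?_)
  obtain ⟨H, hH⟩ := h x
  refine (Set.ext_iff.1 hH y).1 (hall H (fun u hu => (Set.ext_iff.1 hH u).2 ?_) y)
  have := h1 u hu x
  rwa [Set.pair_comm] at this

/-- For an element x of a finite group G let Sol(x) be the set of y ∈ G such that x and y generate a solvable subgroup. Then G is solvable if and only if Sol(x) is (the carrier of) a subgroup of G for every x ∈ G. -/
theorem result {G : Type*} [Group G] [Finite G] :
    Group.IsSolvable G ↔ ∀ x : G, ∃ H : Subgroup G, (H : Set G) = {y : G | Group.IsSolvable ↥(Subgroup.closure ({x, y} : Set G))} := by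
  refine ⟨fun h x => ⟨⊤, Set.ext fun y => ?_⟩, aux G⟩
  simp only [coe_top, Set.mem_univ, Set.mem_ofPred_eq, true_iff]
  infer_instance

end Cfsg.Agent.S4078
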