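import Cfsg.Statements.S3822
import Cfsg.Agent.MinS.FixDim3
import Cfsg.Agent.S4078

set_option autoImplicit false
open Cfsg

namespace Cfsg.Agent.S3822

open Subgroup Cfsg.Agent.PLocal Cfsg.Agent.PLocal.Amb Cfsg.Agent.FixDim Cfsg.Agent.TwoGen

/-- Let G be a finite group and P a subgroup of prime order p > 3. Consider the solvable subgroups A of G of the form A = ⟨P, aPa⁻¹⟩ for some a ∈ A, and let A be maximal under inclusion among them. Then for every nilpotent subgroup V of G normalized by A, the subgroup F(A)V generated by the Fitting subgroup of A and V is nilpotent. -/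
theorem result {G : Type*} [Group G] [Finite G]
    {p : ℕ} [Fact p.Prime] (hp : 3 < p) (P : Subgroup G) (hP : Nat.card P = p) (A : Subgroup G)
    (hA : Group.IsSolvable ↥A ∧ ∃ a ∈ A, A = P ⊔ P.map (MulAut.conj a).toMonoidHom)
    (hmax : ∀ B : Subgroup G, A ≤ B → Group.IsSolvable ↥B → (∃ b ∈ B, B = P ⊔ P.map (MulAut.conj b).toMonoidHom) → B = A)
    (V : Subgroup G) (hV : Group.IsNilpotent ↥V) (hAV : A ≤ Subgroup.normalizer (V : Set G)) :
    Group.IsNilpotent ↥((Cfsg.fittingSubgroup ↥A).map A.subtype ⊔ V) := by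
  obtain ⟨hs, a, ha, hA⟩ := hA
  obtain ⟨⟨x, hxP⟩, hx⟩ := exists_prime_orderOf_dvd_card' (G := P) p hP.symm.dvd
  have hx' : orderOf x = p := by rw [← hx, ← Subgroup.orderOf_coe]
  have hPx : zpowers x = P :=
    PLocal.eq_of_le_of_card_le (zpowers_le.2 hxP) (by rw [Nat.card_zpowers, hx', hP])
  have h5 : 5 ≤ p := by
    have := (Fact.out : p.Prime)
    by_contra h
    have : p = 4 := by omega
    subst this
    norm_num at this
  subst hPx
  have key : ∀ q r : ℕ, q.Prime → r.Prime → q ≠ r → pcoOf q V ≤ 𝐂[pcoOf r A] := by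
    intro q r hq hr hqr
    have := Fact.mk hq
    have := Fact.mk hr
    by_contra hc
    obtain ⟨U, hU, hAU, hnc, v, hv, e⟩ := exists_gen h5 hqr
      (by rw [← hx', pow_orderOf_eq_one]) ha hA hs (isPGroup_pcoOf r A) (pcoOf_le r A)
      (le_normalizer_pcoOf r A) _ (isPGroup_pcoOf q V) (hAV.trans (GW.BT.normalizer_le_pcoOf q V)) hc
    have hUq : IsPGroup q U := (isPGroup_pcoOf q V).to_le hU
    have h1 := hmax (A ⊔ U) le_sup_left
      (S4078.solvable_of_le_sup (Solv.isSolvable_of_isPGroup hUq) hs hAU (sup_comm A U).le)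
      ⟨v * a, mul_mem (mem_sup_right hv) (mem_sup_left ha), e.symm⟩
    refine hnc (le_centralizer_of_inf_eq_bot ((sup_eq_left.1 h1).trans (le_normalizer_pcoOf r A))
      ((pcoOf_le r A).trans hAU) ?_)
    exact Sig.inf_eq_bot_of_not_dvd hUq (Sig.not_dvd_of_isPGroup hqr.symm (isPGroup_pcoOf r A))
  set X := fitOf A ⊔ V with hX
  have hXV : X ≤ 𝐍[V] := sup_le ((fitOf_le A).trans hAV) le_normalizer
  have hVF : V ≤ fitOf V := Grp.le_map_fitting le_rfl le_normalizer hV
  have h1 : X ≤ fitOf X := by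
    refine sup_le (fitOf_le_of_forall_pcoOf fun r hr => ?_) (Grp.le_map_fitting le_sup_right hXV hV)
    have := Fact.mk hr
    have hn : A ≤ 𝐍[pcoOf r V] := hAV.trans (GW.BT.normalizer_le_pcoOf r V)
    refine le_trans (le_sup_left.trans (le_pCoreOf (isPGroup_sup (isPGroup_pcoOf r A)
      (isPGroup_pcoOf r V) ((pcoOf_le r A).trans hn))
      (sup_le_sup (pcoOf_le_fitOf r A) (pcoOf_le r V)) ?_)) (pcoOf_le_fitOf r X)
    refine sup_le ((fitOf_le A).trans (le_normalizer_sup (le_normalizer_pcoOf r A) hn))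
      (hVF.trans (fitOf_le_of_forall_pcoOf fun q hq => ?_))
    by_cases hqr : q = r
    · subst hqr; exact le_sup_right.trans le_normalizer
    · exact le_normalizer_sup ((key q r hq hr hqr).trans (centralizer_le_normalizer' _))
        ((pcoOf_le q V).trans (le_normalizer_pcoOf r V))
  have := isNilpotent_fitOf X
  exact Grp.isNilpotent_of_le h1

end Cfsg.Agent.S3822
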