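import Cfsg.Statements.S3841
import Mathlib
import Cfsg.Agent.Bender.Cor
import Cfsg.Agent.Bender.ModRankOne

set_option autoImplicit false
open Cfsg

namespace Cfsg.Agent.S3841

open Cfsg.Agent.RankOne Cfsg.Agent.Suz Cfsg.Agent.Bender

/-- Let G be a finite group with a strongly embedded subgroup (a proper subgroup of even order meeting each of its conjugates by outside elements in a group of odd order), S a Sylow 2-subgroup of G, and V a finite-dimensional vector space over the field with two elements on which G acts linearly and faithfully through ρ. If S has order 2ᵏ then dim V ≥ 2k; and if Z(S) is elementary abelian of order 2ⁿ then for every nonidentity s ∈ S the image of ρ(s) − 1 has dimension at least n. -/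
theorem result {G : Type*} [Group G] [Finite G] (H : Subgroup G) (hH : Cfsg.IsStronglyEmbedded H) (S : Sylow 2 G) {V : Type*} [AddCommGroup V] [Module (ZMod 2) V] [Module.Finite (ZMod 2) V] (ρ : Representation (ZMod 2) G V) (hρ : Function.Injective ρ) : (∀ k : ℕ, Nat.card ↥(S : Subgroup G) = 2 ^ k → 2 * k ≤ Module.finrank (ZMod 2) V) ∧ ∀ n : ℕ, (∀ z ∈ (S : Subgroup G) ⊓ Subgroup.centralizer ((S : Subgroup G) : Set G), z ^ 2 = 1) → Nat.card ↥((S : Subgroup G) ⊓ Subgroup.centralizer ((S : Subgroup G) : Set G)) = 2 ^ n → ∀ s ∈ (S : Subgroup G), s ≠ 1 → n ≤ Module.finrank (ZMod 2) ↥(LinearMap.range (ρ s - 1)) := by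
  have hred : ∀ n : ℕ, (∀ s : G, orderOf s = 2 →
      n ≤ Module.finrank (ZMod 2) (LinearMap.range (ρ s - 1))) → ∀ s ∈ (S : Subgroup G), s ≠ 1 →
      n ≤ Module.finrank (ZMod 2) (LinearMap.range (ρ s - 1)) := by
    intro n hn s hs hs1
    obtain ⟨m, h1, h3⟩ := exists_pow_invol (x := s) (by
      obtain ⟨j, hj⟩ := (IsPGroup.iff_orderOf.mp S.isPGroup') ⟨s, hs⟩
      rw [Subgroup.orderOf_mk] at hj
      rcases j with _ | j
      · exact absurd (orderOf_eq_one_iff.mp hj) hs1
      · rw [hj, Nat.not_odd_iff_even]; exact (Nat.even_pow' (by omega)).mpr even_two)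
    refine (hn _ (orderOf_eq_two_iff'.mpr ⟨h1, h3⟩)).trans (Submodule.finrank_mono ?_)
    rw [map_pow]
    exact range_pow_le _ _
  by_cases h2 : TwoRank G
  · obtain ⟨h3, n, h4, -, h5⟩ := rank_two_bounds hH h2 (rankOneCosets_quot hH h2) ρ hρ
    refine ⟨h3 S, fun m hZ hm => hred m fun s hs => le_trans ?_ (h5 s hs)⟩
    have h6 := h4 (((S : Subgroup G) ⊓ Subgroup.centralizer ((S : Subgroup G) : Set G)).map
      (QuotientGroup.mk' (oddCore G))) (by
        rintro _ ⟨x, hx, rfl⟩
        rw [← map_mul, ← pow_two, hZ x hx, map_one])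
    obtain ⟨e⟩ := Inv.nonempty_equiv_map_of_inf_ker (QuotientGroup.mk' (oddCore G))
      (Inv.sylow_inf_ker_core (p := 2) (S.isPGroup'.to_inf_left
        (K := Subgroup.centralizer ((S : Subgroup G) : Set G))))
    rw [← Nat.card_congr e.toEquiv, hm] at h6
    exact (Nat.pow_le_pow_iff_right one_lt_two).mp h6
  · refine ⟨fun k hk => rank_one_bound hH h2 ρ hρ S hk, fun m hZ hm => hred m fun s hs => ?_⟩
    have h3 : m ≤ 1 := by
      by_contra h4
      refine h2 (twoRank_of_pRank ⟨(S : Subgroup G) ⊓ Subgroup.centralizer ((S : Subgroup G) : Set G),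
        ⟨⟨fun x y => Subtype.ext (y.2.2 x x.2.1)⟩⟩, hZ, ?_⟩)
      rw [hm]
      exact Nat.pow_le_pow_right two_pos (by omega)
    refine h3.trans (Nat.one_le_iff_ne_zero.mpr fun h => ?_)
    rw [Submodule.finrank_eq_zero, LinearMap.range_eq_bot, sub_eq_zero] at h
    exact (orderOf_eq_two_iff'.mp hs).1 ((injective_iff_map_eq_one ρ).mp hρ s h)


end Cfsg.Agent.S3841
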