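import Cfsg.Statements.S4403
import Cfsg.Agent.PLocal.FStar
import Cfsg.Agent.Transfer.PCompl
import Cfsg.Agent.Grp.Card
import Cfsg.Agent.Grp.Fitting
import Cfsg.Agent.FGS.RankOneStruct

set_option autoImplicit false
open Cfsg

namespace Cfsg.Agent.S4403

open Subgroup

theorem burnside {G : Type*} [Group G] [Finite G] {p : ℕ} [Fact p.Prime] (P : Sylow p G)
    [IsCyclic P] (h : ¬ (P : Subgroup G) ≤ commutator G) : HasNormalPComplement p G :=
  ⟨P, _, inferInstance, MonoidHom.ker_transferSylow_isComplement' P
    ((Sylow.normalizer_le_centralizer_or_le_commutator P).resolve_right h)⟩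

open scoped IsMulCommutative in
theorem not_mem_commutator {G : Type*} [Group G] [Finite G] {p : ℕ} [Fact p.Prime] (P : Sylow p G)
    [IsCyclic P] {z : G} (hzP : z ∈ (P : Subgroup G)) (hz : z ∈ center G) (h1 : z ≠ 1) :
    z ∉ commutator G := by
  intro h
  have h2 := Abelianization.commutator_subset_ker (MonoidHom.transfer (MonoidHom.id (P : Subgroup G))) h
  rw [MonoidHom.mem_ker, MonoidHom.transfer_eq_pow _ z (fun k g _ => by
    rw [mul_assoc, ← mem_center_iff.1 (pow_mem hz k) g, inv_mul_cancel_left])] at h2
  have h3 : z ^ (P : Subgroup G).index = 1 := congrArg Subtype.val h2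
  obtain ⟨k, hk⟩ := P.isPGroup' ⟨z, hzP⟩
  have h4 := pow_gcd_eq_one.2 ⟨(congrArg Subtype.val hk : z ^ p ^ k = 1), h3⟩
  rw [(Nat.Coprime.pow_left k ((Nat.Prime.coprime_iff_not_dvd Fact.out).2 P.not_dvd_index)).gcd_eq_one,
    pow_one] at h4
  exact h1 h4

theorem isPGroup_of_normal {K : Type*} [Group K] [Finite K] {p : ℕ} [Fact p.Prime]
    (hO : pPrimeCore p K = ⊥) (N : Subgroup K) [N.Normal] (h : HasNormalPComplement p N) :
    IsPGroup p N := by
  rw [← Transfer.pResidual_eq_bot_iff, ← Subgroup.map_eq_bot_iff_of_injective _ N.subtype_injective,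
    eq_bot_iff, ← hO]
  refine Grp.le_pPrimeCore inferInstance ?_
  rw [card_map_of_injective N.subtype_injective]
  exact Transfer.hasNormalPComplement_iff_coprime.1 h

theorem isCyclic_subtype {K : Type*} [Group K] {p : ℕ} (P : Sylow p K) [IsCyclic P] {H : Subgroup K}
    (h : (P : Subgroup K) ≤ H) : IsCyclic (P.subtype h) :=
  isCyclic_of_surjective _ (subgroupOfEquivOfLe h).symm.surjective


/-- Let K be a finite group, p a prime dividing its order with O_{p'}(K) = 1 (no nontrivial normal subgroup of order prime to p), and P a cyclic Sylow p-subgroup of K. Then either P is normal and self-centralizing in K with K/P cyclic of order dividing p − 1 (so K is the semidirect product of P by a group of automorphisms of P of order dividing p − 1), or the generalized Fitting subgroup F*(K) is a non-abelian simple group and p does not divide the index of F*(K) in K. -/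
theorem result {K : Type*} [Group K] [Finite K] (p : ℕ) [Fact p.Prime] (hp : p ∣ Nat.card K) (hO : Cfsg.pPrimeCore p K = ⊥)
    (P : Sylow p K) (hP : IsCyclic ↥(P : Subgroup K)) :
    ((P : Subgroup K).Normal ∧ Subgroup.centralizer ((P : Subgroup K) : Set K) = (P : Subgroup K) ∧
      (∀ (_ : (P : Subgroup K).Normal), IsCyclic (K ⧸ (P : Subgroup K))) ∧ (P : Subgroup K).index ∣ p - 1) ∨
    (IsSimpleGroup ↥(Cfsg.generalizedFittingSubgroup K) ∧ ¬ IsMulCommutative ↥(Cfsg.generalizedFittingSubgroup K) ∧
      ¬ p ∣ (Cfsg.generalizedFittingSubgroup K).index) := by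
  have hp' : p.Prime := Fact.out
  by_cases hOp : pCore p K = ⊥
  · right
    have hF : fittingSubgroup K = ⊥ := (Grp.fitting_eq_pCore_of_pPrimeCore_eq_bot hO).trans hOp
    have hE : generalizedFittingSubgroup K = layer K := by rw [PLocal.fstar_def, hF, sup_bot_eq]
    haveI : Nontrivial K := Finite.one_lt_card_iff_nontrivial.1
      (hp'.one_lt.trans_le (Nat.le_of_dvd Nat.card_pos hp))
    obtain ⟨L, hL⟩ : ∃ L : Subgroup K, IsComponent L := by
      by_contra h
      push Not at h
      exact PLocal.fstar_ne_bot K (hE.trans (PLocal.layer_eq_bot_iff.2 h))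
    have hZ : ∀ L : Subgroup K, IsComponent L → L ⊓ centralizer (L : Set K) = ⊥ := fun L hL =>
      le_bot_iff.1 (hF ▸ PLocal.comp_inf_centralizer_le_fitting hL)
    have hel : ∀ L : Subgroup K, IsComponent L → ∃ x ∈ L, orderOf x = p := by
      intro L hL
      have h1 : p ∣ Nat.card L := by
        by_contra h
        exact PLocal.comp_ne_bot hL (le_bot_iff.1 (hO ▸ Grp.le_pPrimeCore_of_isSubnormal hL.1
          ((Nat.Prime.coprime_iff_not_dvd hp').2 h).symm))
      obtain ⟨x, hx⟩ := exists_prime_orderOf_dvd_card' p h1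
      exact ⟨x, x.2, by rwa [orderOf_coe]⟩
    have hEL : layer K = L := by
      refine le_antisymm (PLocal.layer_le_iff.2 fun L' hL' => ?_) (PLocal.comp_le_layer hL)
      by_contra hne
      have hc := PLocal.comp_commute_of_ne hL' hL (fun h => hne h.le)
      obtain ⟨x, hxL, hx⟩ := hel L hL
      obtain ⟨y, hyL, hy⟩ := hel L' hL'
      have hxy : x * y = y * x := (PLocal.commute_of_commutator_eq_bot hc hyL hxL).symm
      have hn : zpowers x ≤ normalizer (zpowers y : Set K) := by
        refine le_trans ?_ (centralizer_le_normalizer _)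
        rw [zpowers_le, zpowers_eq_closure, centralizer_closure, mem_centralizer_singleton_iff]
        exact hxy
      have hpg : IsPGroup p (zpowers x ⊔ zpowers y : Subgroup K) :=
        IsPGroup.to_sup_of_normal_right' (IsPGroup.of_card (n := 1) (by rw [Nat.card_zpowers, hx, pow_one]))
          (IsPGroup.of_card (n := 1) (by rw [Nat.card_zpowers, hy, pow_one])) hn
      obtain ⟨Q, hQ⟩ := hpg.exists_le_sylow
      haveI : IsCyclic Q := isCyclic_of_surjective (P.equiv Q) (P.equiv Q).surjective
      obtain ⟨k, hk⟩ := Solv.Frob.mem_zpowers_of_orderOf_dvd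
        (x := (⟨x, hQ (mem_sup_left (mem_zpowers x))⟩ : Q))
        (y := ⟨y, hQ (mem_sup_right (mem_zpowers y))⟩) (by rw [orderOf_mk, orderOf_mk, hx, hy])
      have h0 : x ^ k = y := congrArg Subtype.val hk
      have h1 : y ∈ L := h0 ▸ zpow_mem hxL k
      have h2 : y ∈ L ⊓ centralizer (L : Set K) :=
        ⟨h1, commutator_eq_bot_iff_le_centralizer.1 hc hyL⟩
      rw [hZ L hL, mem_bot] at h2
      rw [h2, orderOf_one] at hy
      exact hp'.one_lt.ne hy
    rw [hE, hEL]
    refine ⟨?_, PLocal.qs_not_comm hL.2, ?_⟩
    · haveI := PLocal.qs_nontrivial hL.2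
      refine ⟨fun N hN => ((PLocal.qs_normal hL.2 N hN).imp_right fun h => ?_).symm⟩
      rwa [(Subgroup.map_eq_bot_iff_of_injective _ L.subtype_injective).1
        ((PLocal.map_center_subtype L).trans (hZ L hL)), le_bot_iff] at h
    · haveI : L.Normal := hEL ▸ inferInstance
      have hPL : (P : Subgroup K) ≤ L := by
        by_contra h
        haveI := isCyclic_subtype P (le_sup_right : (P : Subgroup K) ≤ L ⊔ P)
        have h1 := burnside (P.subtype (le_sup_right : (P : Subgroup K) ≤ L ⊔ P)) (fun h2 => h (by
          have h3 := map_mono (f := (L ⊔ P : Subgroup K).subtype) h2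
          rw [Sylow.coe_subtype, map_subgroupOf_eq_of_le le_sup_right, map_subtype_commutator] at h3
          refine h3.trans (le_trans ?_ (QuotientGroup.ker_mk' L).le)
          rw [← Subgroup.map_eq_bot_iff, map_commutator, Subgroup.map_sup,
            (Subgroup.map_eq_bot_iff L).2 (QuotientGroup.ker_mk' L).ge, bot_sup_eq,
            commutator_eq_bot_iff_le_centralizer]
          exact le_centralizer _))
        have h2 := isPGroup_of_normal hO L (Transfer.HasNormalPComplement.of_le h1 le_sup_left)
        exact PLocal.comp_ne_bot hL (le_bot_iff.1 (hOp ▸ Grp.le_pCore inferInstance h2))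
      exact fun h => P.not_dvd_index (h.trans (index_dvd_of_le hPL))
  · left
    have hPC : (P : Subgroup K) ≤ centralizer (pCore p K : Set K) :=
      (le_centralizer (P : Subgroup K)).trans (centralizer_le (Grp.pCore_le_sylow P))
    have hCP : centralizer (pCore p K : Set K) = P := by
      obtain ⟨⟨z, hz⟩, hz1⟩ := ne_bot_iff_exists_ne_one.1 hOp
      haveI := isCyclic_subtype P hPC
      have hzP := Grp.pCore_le_sylow P hz
      have h1 := burnside (P.subtype hPC) (fun h2 => not_mem_commutator (P.subtype hPC)
        (z := ⟨z, hPC hzP⟩) hzP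
        (mem_center_iff.2 fun g => Subtype.ext (mem_centralizer_iff.1 g.2 z hz).symm)
        (fun h => hz1 (by simpa using h)) (h2 hzP))
      exact P.is_maximal' (isPGroup_of_normal hO _ h1) hPC
    haveI hPn : (P : Subgroup K).Normal := hCP ▸ inferInstance
    have hC : centralizer ((P : Subgroup K) : Set K) = P :=
      le_antisymm ((centralizer_le (Grp.pCore_le_sylow P)).trans hCP.le) (le_centralizer _)
    have hker : (MulAut.conjNormal : K →* MulAut (P : Subgroup K)).ker = P :=
      (FGS.FrobCompl.ker_conjNormal _).trans hC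
    obtain ⟨n, hn⟩ := P.isPGroup'.exists_card_eq
    have hn0 : 0 < n := by
      refine Nat.pos_of_ne_zero fun h => hOp ?_
      rw [h, pow_zero, card_eq_one] at hn
      exact le_bot_iff.1 (hn ▸ Grp.pCore_le_sylow P)
    have hidx : (P : Subgroup K).index ∣ p - 1 := by
      have h1 : (P : Subgroup K).index ∣ Nat.card (MulAut (P : Subgroup K)) := by
        conv_lhs => rw [← hker, index_ker]
        exact card_subgroup_dvd_card _
      rw [IsCyclic.card_mulAut, hn, Nat.totient_prime_pow hp' hn0] at h1
      exact (Nat.Coprime.pow_right _ ((Nat.Prime.coprime_iff_not_dvd hp').2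
        P.not_dvd_index).symm).dvd_of_dvd_mul_left h1
    refine ⟨hPn, hC, fun _ => ?_, hidx⟩
    by_cases h2 : p = 2
    · subst h2
      haveI : Subsingleton (K ⧸ (P : Subgroup K)) :=
        (Nat.card_eq_one_iff_unique.1 (Nat.dvd_one.1 hidx)).1
      infer_instance
    · haveI : IsCyclic (MulAut (P : Subgroup K)) := by
        haveI := ZMod.isCyclic_units_of_prime_pow p hp' h2 n
        have e := IsCyclic.mulAutMulEquiv (P : Subgroup K)
        rw [hn] at e
        exact isCyclic_of_surjective e.symm e.symm.surjective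
      refine isCyclic_of_injective (QuotientGroup.lift (P : Subgroup K)
        (MulAut.conjNormal : K →* MulAut (P : Subgroup K)) hker.ge) ?_
      rw [← MonoidHom.ker_eq_bot_iff, QuotientGroup.ker_lift, hker, Subgroup.map_eq_bot_iff,
        QuotientGroup.ker_mk']

end Cfsg.Agent.S4403
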