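import Cfsg.Statements.S3865
import Mathlib
import Cfsg.Agent.FGS.MaxClSylow
import Cfsg.Agent.S0081
import Cfsg.Agent.S4403

set_option autoImplicit false
open Cfsg

namespace Cfsg.Agent.S3865

open Subgroup Fus.MC FGS.LcsLie

/-- Let G be a finite group whose Sylow p-subgroup P has order p ^ n with n ≥ 2 and nilpotency class n - 1 (maximal class), whose largest normal subgroup of order prime to p is trivial, and which has no proper normal subgroup of index prime to p. Then either some x ∈ P has a centralizer in G whose order has p-part p ^ 2, or G is quasisimple with centre of order at most p. -/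
theorem result {G : Type*} [Group G] [Finite G] (p : ℕ) [Fact p.Prime] (P : Sylow p G) (n : ℕ) (hP : Nat.card P = p ^ n) (hn : 2 ≤ n) (hmax : Group.nilpotencyClass ↥(P : Subgroup G) = n - 1) (hcore : Cfsg.pPrimeCore p G = ⊥) (hres : ∀ N : Subgroup G, N.Normal → (N.index).Coprime p → N = ⊤) : (∃ x ∈ (P : Subgroup G), (Nat.card (Subgroup.centralizer ({x} : Set G))).factorization p = 2) ∨ (Cfsg.IsQuasisimple G ∧ Nat.card (Subgroup.center G) ≤ p) := by
  have hp := (Fact.out : p.Prime)
  have hsyl : ∀ N : Subgroup G, N.Normal → (P : Subgroup G) ≤ N → N = ⊤ := fun N hN h =>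
    hres N hN ((Nat.coprime_comm.1 ((Nat.Prime.coprime_iff_not_dvd hp).2
      P.not_dvd_index)).coprime_dvd_left (index_dvd_of_le h))
  rcases hn.eq_or_lt with rfl | h3
  · refine Or.inl ⟨1, one_mem _, ?_⟩
    have h1 : centralizer ({1} : Set G) = ⊤ := by
      ext x; simp [mem_centralizer_singleton_iff]
    rw [h1, card_top]
    rw [P.card_eq_multiplicity] at hP
    exact Nat.pow_right_injective hp.two_le hP
  have h : IsMC p n P := ⟨hP, hmax, h3⟩
  by_cases hc : ∃ N : Subgroup G, N.Normal ∧ N ≠ ⊤ ∧ p ^ 2 ≤ Nat.card (P ⊓ N : Subgroup G)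
  · obtain ⟨N, hN, hN1, hN2⟩ := hc
    obtain ⟨x, hx, -, hx'⟩ := FGS.MaxClSylow.exists_factorization_eq_two h N
      (fun e => hN1 (hsyl N hN e)) hN2
    exact Or.inl ⟨x, hx, hx'⟩
  push Not at hc
  have key : ∀ N : Subgroup G, N.Normal → N ≠ ⊤ → N ≤ center G ∧ Nat.card N ≤ p := by
    intro N hN hN1
    have h1 := hc N hN hN1
    have h2 : Nat.card (N.subgroupOf P) = Nat.card (P ⊓ N : Subgroup G) := by
      rw [← inf_subgroupOf_left]
      exact Nat.card_congr (subgroupOfEquivOfLe inf_le_left).toEquiv
    obtain ⟨k, hk⟩ := IsPGroup.iff_card.1 (P.2.to_inf_left (K := N))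
    have hk2 : k < 2 := by
      rw [hk] at h1
      exact (Nat.pow_lt_pow_iff_right hp.one_lt).1 h1
    have h4 : N.subgroupOf P ≤ center P := by
      interval_cases k
      · rw [card_eq_one.1 (h2.trans hk)]
        exact bot_le
      · exact Grp.PChain.le_center_of_card_eq_prime h.isPGroup _ (by rw [h2, hk, pow_one])
    have h5 : IsPGroup p N := S4403.isPGroup_of_normal hcore N (S0081.result P N fun x hx =>
      ⟨⟨x, hx.2⟩, Grp.PFrattini.commutator_le_frattini h.isPGroup
        (gam_anti (i := 1) (j := n - 2) (by omega) (h.center_eq ▸ h4 hx.1)), rfl⟩)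
    have h6 : N ≤ P := h5.le_sylow_of_normal P
    have h7 : centralizer (N : Set G) = ⊤ := hsyl _ inferInstance fun x hx y hy => by
      have := mem_center_iff.1 (h4 (show (⟨y, h6 hy⟩ : P) ∈ N.subgroupOf P from hy)) ⟨x, hx⟩
      exact (congrArg Subtype.val this).symm
    refine ⟨fun y hy => mem_center_iff.2 fun x => ((h7 ▸ mem_top x : x ∈ centralizer _) y hy).symm,
      ?_⟩
    rw [inf_eq_right.2 h6] at hk
    rw [hk]
    exact (Nat.pow_le_pow_right hp.pos (show k ≤ 1 by omega)).trans_eq (pow_one p)
  have hZ : center G ≠ ⊤ := fun e => by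
    have h1 : center P = ⊤ := eq_top_iff.2 fun x _ => mem_center_iff.2 fun y =>
      Subtype.ext (mem_center_iff.1 (e ▸ mem_top (x : G) : (x : G) ∈ center G) (y : G))
    have h2 := h.card_center
    rw [h1, card_top, hP] at h2
    have := Nat.pow_right_injective hp.two_le (h2.trans (pow_one p).symm)
    omega
  refine Or.inr ⟨⟨⟨?_⟩, ?_⟩, (key _ inferInstance hZ).2⟩
  · by_contra e
    have h1 := (key _ inferInstance e).1
    obtain ⟨g, -, hg⟩ := SetLike.exists_of_lt (lt_top_iff_ne_top.2 hZ)
    have h2 : center G ⊔ zpowers g = ⊤ := by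
      by_contra h2
      exact hg ((key _ (Normal.of_commutator_le _ (h1.trans le_sup_left)) h2).1
        (mem_sup_right (mem_zpowers g)))
    have h4 : center G ⊔ zpowers g ≤ centralizer {g} :=
      sup_le (center_le_centralizer _) (zpowers_le.2 (mem_centralizer_singleton_iff.2 rfl))
    exact hg (mem_center_iff.2 fun x => mem_centralizer_singleton_iff.1 (h4 (h2 ▸ mem_top x)))
  · have : Nontrivial (G ⧸ center G) := QuotientGroup.nontrivial_iff.2 hZ
    refine ⟨fun H hH => ?_⟩
    by_cases h1 : H.comap (QuotientGroup.mk' _) = ⊤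
    · right
      rw [← map_comap_eq_self_of_surjective (QuotientGroup.mk'_surjective _) H, h1]
      exact map_top_of_surjective _ (QuotientGroup.mk'_surjective _)
    · left
      rw [← map_comap_eq_self_of_surjective (QuotientGroup.mk'_surjective _) H, Subgroup.map_eq_bot_iff,
        QuotientGroup.ker_mk']
      exact (key _ inferInstance h1).1

end Cfsg.Agent.S3865
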