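import Cfsg.Statements.S3869
import Mathlib
import Cfsg.Agent.FGS.IrrCyclic
import Cfsg.Agent.FGS.IndexP
import Cfsg.Agent.Grp.PChain
import Cfsg.Agent.Grp.Frattini
import Cfsg.Agent.Grp.Fitting
import Cfsg.Agent.Grp.MinNormal

set_option autoImplicit false
open Cfsg

namespace Cfsg.Agent.S3869

/-- Let p and q be distinct primes and G a finite non-abelian group with a normal elementary abelian q-subgroup A that is a minimal normal subgroup of G and has index p. Then A has order q^e with e the multiplicative order of q modulo p, and G is minimal non-p-closed: its Sylow p-subgroups are not normal, while in every proper subgroup and in every proper quotient of G the Sylow p-subgroups are normal. -/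
theorem result {G : Type*} [Group G] [Finite G] {p q : ℕ} [Fact p.Prime] (hq : q.Prime) (hpq : q ≠ p)
    (hna : ¬ IsMulCommutative G) (A : Subgroup G) [A.Normal] (hA : Cfsg.IsElementaryAbelian q A) (hidx : A.index = p)
    (hmin : ∀ B : Subgroup G, B.Normal → B ≤ A → B = ⊥ ∨ B = A) :
    Nat.card ↥A = q ^ orderOf (q : ZMod p) ∧ ¬ Cfsg.IsPClosed p G ∧ (∀ H : Subgroup G, H ≠ ⊤ → Cfsg.IsPClosed p ↥H) ∧
      ∀ (N : Subgroup G) [N.Normal], N ≠ ⊥ → Cfsg.IsPClosed p (G ⧸ N) := by
  have hp : p.Prime := Fact.out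
  haveI := Fact.mk hq
  haveI := hA.1
  have hAq : IsPGroup q A := Grp.isPGroup_of_pow_eq_one hA.2
  have key : ∀ y, y ∉ A → y ∉ Subgroup.centralizer (A : Set G) := fun y hy h => by
    have := Grp.PChain.isMulCommutative_sup_zpowers hA.1 h
    rw [FGS.sup_zpowers_eq_top_of_prime_index (hidx ▸ hp) hy] at this
    exact hna ⟨⟨fun a b => setLike_mul_comm (s := (⊤ : Subgroup G)) trivial trivial⟩⟩
  have key2 : ∀ N : Subgroup G, N.Normal → N ⊓ A = ⊥ → N = ⊥ := fun N hN h => by
    rw [eq_bot_iff]
    intro y hy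
    by_cases hyA : y ∈ A
    · exact h.le ⟨hy, hyA⟩
    · exact absurd (fun a ha => (Subgroup.commute_of_normal_of_disjoint N A hN inferInstance
        (disjoint_iff.2 h) y a hy ha).symm.eq) (key y hyA)
  have pc : ∀ (K : Type _) [Group K] [Finite K] (r : ℕ) [Fact r.Prime], IsPGroup r K →
      IsPClosed p K := fun K _ _ r _ h P =>
    Grp.isNilpotent_iff_forall_sylow_normal.1 h.isNilpotent p inferInstance P
  have hQ : IsPGroup p (G ⧸ A) := IsPGroup.of_card (n := 1) (by rw [pow_one]; exact hidx)
  refine ⟨?_, fun h => ?_, fun H hH => ?_, fun N _ hN => ?_⟩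
  · obtain ⟨x, hx⟩ := FGS.exists_notMem_of_index_ne_one (H := A) (hidx ▸ hp.ne_one)
    refine FGS.card_eq_pow_orderOf hq A hA (A.le_centralizer (hidx ▸ A.pow_index_mem x)) (key x hx)
      fun B hB hx' => hmin B ?_ hB
    rw [← Subgroup.normalizer_eq_top_iff, eq_top_iff,
      ← FGS.sup_zpowers_eq_top_of_prime_index (hidx ▸ hp) hx, sup_le_iff, Subgroup.zpowers_le]
    refine ⟨fun a ha => ?_, ?_⟩
    · apply Subgroup.mem_normalizer_fintype
      intro b hb
      rwa [setLike_mul_comm ha (hB hb), mul_inv_cancel_right]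
    · exact Subgroup.mem_normalizer_fintype hx'
  · obtain ⟨P⟩ : Nonempty (Sylow p G) := inferInstance
    refine P.ne_bot_of_dvd_card (hidx ▸ A.index_dvd_card) (key2 P (h P) ?_)
    exact disjoint_iff.1 (IsPGroup.disjoint_of_ne p q hpq.symm _ _ P.2 hAq)
  · by_cases h : H ≤ A
    · exact pc H q (hAq.to_le h)
    have h1 := FGS.sup_eq_top_of_prime_index (hidx ▸ hp) h
    rcases hmin _ (Grp.normal_inf_of_sup_eq_top h1) inf_le_left with h2 | h2
    · refine pc H p (hQ.of_injective ((QuotientGroup.mk' A).comp H.subtype) ?_)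
      rw [← MonoidHom.ker_eq_bot_iff, ← MonoidHom.comap_ker, QuotientGroup.ker_mk']
      exact Subgroup.subgroupOf_eq_bot.2 (disjoint_iff.2 h2)
    · exact absurd (by rw [← h1, sup_eq_right.2 (inf_eq_left.1 h2)]) hH
  · rcases hmin (N ⊓ A) inferInstance inf_le_right with h | h
    · exact absurd (key2 N inferInstance h) hN
    · exact pc _ p (hQ.of_surjective (QuotientGroup.map A N (MonoidHom.id G) (inf_eq_right.1 h))
        (QuotientGroup.map_surjective_of_surjective _ _ _ QuotientGroup.mk_surjective _))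

end Cfsg.Agent.S3869
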