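import Cfsg.Statements.S3868
import Mathlib
import Cfsg.Agent.S3869
import Cfsg.Agent.Solv.CoprimeSylow
import Cfsg.Agent.Transfer.PCompl
import Cfsg.Agent.PLocal.RelSylow

set_option autoImplicit false
open Cfsg

namespace Cfsg.Agent.S3868

open Subgroup

theorem cent {G : Type*} [Group G] [Finite G] {p : ℕ} [Fact p.Prime] {H B : Subgroup G}
    (hH : IsPClosed p H) (hB : B ≤ H) (hn : H ≤ normalizer (B : Set G))
    (hc : (Nat.card B).Coprime p) {x : G} (hx : x ∈ H) (hxp : IsPGroup p (zpowers x)) :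
    x ∈ centralizer (B : Set G) := by
  intro b hb
  obtain ⟨S, hS⟩ := (PLocal.RelSylow.isPGroup_subgroupOf hxp H).exists_le_sylow
  have h1 : (⟨x, hx⟩ : H) ∈ (S : Subgroup H) := hS (mem_zpowers x)
  have h2 := mul_mem h1 ((hH S).conj_mem _ (inv_mem h1) ⟨b, hB hb⟩)
  have h3 : x * (b * x⁻¹ * b⁻¹) ∈ B := by
    simpa [mul_assoc] using mul_mem ((mem_normalizer_iff.1 (hn hx) b).1 hb) (inv_mem hb)
  have h4 := Transfer.eq_one_of_mem_isPGroup_of_coprime S.2 h2 (by
    rw [← orderOf_coe]; exact Transfer.coprime_orderOf_of_mem hc h3)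
  have h5 : x * (b * x⁻¹ * b⁻¹) = 1 := congrArg Subtype.val h4
  calc b * x = x * (b * x⁻¹ * b⁻¹) * (b * x) := by rw [h5, one_mul]
    _ = _ := by group

/-- Structure of the non-simple minimal non-p-closed groups. Call a finite group p-closed when its Sylow p-subgroups are normal, and minimal non-p-closed when it is not p-closed but every proper subgroup and every proper quotient is. If such a group G is not simple, then there is a prime q ≠ p such that G has order p · q^e, where e is the multiplicative order of q modulo p, and G has a normal subgroup A of order q^e that is elementary abelian and is a minimal normal subgroup of G (so G is the semidirect product of A by a group of order p acting irreducibly). -/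
theorem result {G : Type*} [Group G] [Finite G] {p : ℕ} [Fact p.Prime]
    (hnc : ¬ Cfsg.IsPClosed p G) (hsub : ∀ H : Subgroup G, H ≠ ⊤ → Cfsg.IsPClosed p ↥H)
    (hquo : ∀ (N : Subgroup G) [N.Normal], N ≠ ⊥ → Cfsg.IsPClosed p (G ⧸ N)) (hns : ¬ IsSimpleGroup G) :
    ∃ q : ℕ, q.Prime ∧ q ≠ p ∧ Nat.card G = p * q ^ orderOf (q : ZMod p) ∧
      ∃ A : Subgroup G, A.Normal ∧ Nat.card ↥A = q ^ orderOf (q : ZMod p) ∧ Cfsg.IsElementaryAbelian q A ∧
        ∀ B : Subgroup G, B.Normal → B ≤ A → B = ⊥ ∨ B = A := by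
  have hp : p.Prime := Fact.out
  obtain ⟨P, hP⟩ : ∃ P : Sylow p G, ¬ (P : Subgroup G).Normal := not_forall.1 hnc
  haveI : Nontrivial G := by
    by_contra h
    rw [not_nontrivial_iff_subsingleton] at h
    exact hP (Subsingleton.elim (⊤ : Subgroup G) P ▸ inferInstance)
  obtain ⟨N, hN, h0, h1⟩ : ∃ N : Subgroup G, N.Normal ∧ N ≠ ⊥ ∧ N ≠ ⊤ := by
    by_contra h
    push Not at h
    exact hns ⟨fun N hN => (em (N = ⊥)).imp id (h N hN)⟩
  obtain ⟨A, hA, hA0, hAN, hmin⟩ := Grp.exists_minNormal_le N h0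
  have hA1 : A ≠ ⊤ := fun e => h1 (eq_top_iff.2 (e ▸ hAN))
  have hsup : ∀ M : Subgroup G, M.Normal → M ≠ ⊥ → ((P : Subgroup G) ⊔ M).Normal := fun M hM h => by
    have := (hquo M h (P.mapSurjective (QuotientGroup.mk'_surjective M))).comap (QuotientGroup.mk' M)
    rwa [Sylow.coe_mapSurjective, comap_map_eq, QuotientGroup.ker_mk'] at this
  have hO : ∀ M : Subgroup G, M.Normal → IsPGroup p M → M = ⊥ := fun M hM h => by
    by_contra h'
    exact hP (sup_eq_left.2 (h.le_sylow_of_normal P) ▸ hsup M hM h')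
  have hcop : (Nat.card A).Coprime p := by
    obtain ⟨S⟩ : Nonempty (Sylow p A) := inferInstance
    haveI := S.characteristic_of_normal (hsub A hA1 S)
    have := hO _ (Grp.normal_map_subtype_of_characteristic A S) (S.2.map _)
    rw [map_eq_bot_iff_of_injective _ A.subtype_injective] at this
    exact ((hp.coprime_iff_not_dvd).2 fun h => S.ne_bot_of_dvd_card h this).symm
  have hPA : ¬ (P : Subgroup G) ≤ centralizer (A : Set G) := fun h => by
    haveI := hsup A hA hA0
    have := Grp.frattini_argument (le_sup_left : (P : Subgroup G) ≤ (P : Subgroup G) ⊔ A) P.2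
      (PLocal.RelSylow.sylow_not_dvd_relIndex P _ le_sup_left)
    rw [sup_eq_left.2 (sup_le le_normalizer ((le_centralizer_iff.1 h).trans
      (centralizer_le_normalizer _)))] at this
    exact hP (normalizer_eq_top_iff.1 this)
  obtain ⟨q, hq, hAq⟩ : ∃ q : ℕ, q.Prime ∧ IsPGroup q A := by
    by_contra hn
    push Not at hn
    apply hPA
    rw [le_centralizer_iff, ← subgroupOf_eq_top, ← index_eq_one]
    by_contra h
    obtain ⟨q, hq, hd⟩ := Nat.exists_prime_and_dvd h
    haveI := Fact.mk hq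
    obtain ⟨k, hk⟩ := P.2.exists_card_eq
    haveI := P.2.isNilpotent
    obtain ⟨Q, hQ⟩ := Solv.exists_invariant_sylow P A le_normalizer_of_normal
      (hk ▸ hcop.symm.pow_left k) (Or.inl inferInstance) q
    refine Q.not_dvd_index (hd.trans (index_dvd_of_le ?_))
    refine map_le_iff_le_comap.1 (le_centralizer_iff.1 ?_)
    by_cases hNQ : normalizer (((Q : Subgroup A).map A.subtype : Subgroup G) : Set G) = ⊤
    · rcases hmin _ (normalizer_eq_top_iff.1 hNQ) (map_subtype_le _) with h | h
      · rw [h, le_centralizer_iff]; exact bot_le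
      · exact absurd (h ▸ Q.2.map A.subtype) (hn q hq)
    · exact fun x hx => cent (hsub _ hNQ) le_normalizer le_rfl
        (hcop.coprime_dvd_left (card_dvd_of_le (map_subtype_le _))) (hQ hx)
        (PLocal.RelSylow.isPGroup_zpowers_of_mem P.2 hx)
  haveI := Fact.mk hq
  have hqp : q ≠ p := by rintro rfl; exact hA0 (hO A hA hAq)
  haveI := hAq.isNilpotent
  obtain ⟨hab, r, hr, hexp⟩ := Grp.minNormal_elementaryAbelian A hA0 hmin
  obtain rfl : q = r := by
    haveI := Fact.mk hr
    by_contra h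
    exact hA0 (disjoint_self.1 (IsPGroup.disjoint_of_ne q r h _ _ hAq (Grp.isPGroup_of_pow_eq_one hexp)))
  obtain ⟨y, hy, hyC⟩ := SetLike.not_le_iff_exists.1 hPA
  obtain ⟨k, h2, h3⟩ := Grp.PChain.exists_pow_notMem_pow_mem P.2
    ((centralizer (A : Set G)).subgroupOf P) (u := ⟨y, hy⟩) hyC
  rw [mem_subgroupOf] at h2 h3
  simp only [SubmonoidClass.mk_pow] at h2 h3
  have hx : y ^ p ^ k ∈ (P : Subgroup G) := pow_mem hy _
  set x := y ^ p ^ k
  have h4 : A ⊔ zpowers x = ⊤ := by
    by_contra h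
    exact h2 (cent (hsub _ h) le_sup_left le_normalizer_of_normal hcop
      (mem_sup_right (mem_zpowers x)) (PLocal.RelSylow.isPGroup_zpowers_of_mem P.2 hx))
  have h5 : x ^ p = 1 := by
    have : x ^ p ∈ center G := by
      rw [← centralizer_univ, ← coe_top, ← h4, sup_comm, ← zpowers_le, le_centralizer_iff, sup_le_iff]
      exact ⟨zpowers_le.2 fun _ ⟨i, hi⟩ => hi ▸ ((Commute.self_pow x p).zpow_right i).symm.eq,
        le_centralizer_iff.1 (zpowers_le.2 h3)⟩
    exact zpowers_eq_bot.1 (hO _ ⟨fun n hn g => by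
      rwa [mem_center_iff.1 (zpowers_le.2 this hn) g, mul_inv_cancel_right]⟩
      (PLocal.RelSylow.isPGroup_zpowers_of_mem P.2 (pow_mem hx p)))
  have h6 := Grp.PChain.card_sup_zpowers hp (fun h => h2 (A.le_centralizer h)) (h5 ▸ one_mem A)
  rw [h4, card_top] at h6
  have h7 : A.index = p := Nat.eq_of_mul_eq_mul_left Nat.card_pos (A.card_mul_index.trans h6)
  have h8 := (S3869.result hq hqp (fun h => hP inferInstance) A ⟨hab, hexp⟩ h7 hmin).1
  exact ⟨q, hq, hqp, by rw [h6, h8, mul_comm], A, hA, h8, ⟨hab, hexp⟩, hmin⟩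

end Cfsg.Agent.S3868
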