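import Cfsg.Statements.S3870
import Mathlib
import Cfsg.Agent.Inv.BaerSuzuki

set_option autoImplicit false
open Cfsg

namespace Cfsg.Agent.S3870

/-- Let G be a finite simple group whose Sylow p-subgroups are not normal but such that every proper subgroup of G has a normal Sylow p-subgroup. Then any two distinct Sylow p-subgroups of G intersect trivially, and for every Sylow p-subgroup P the normalizer of every non-identity subgroup of P lies in the normalizer of P. -/
theorem result {G : Type*} [Group G] [Finite G] [IsSimpleGroup G] {p : ℕ} [Fact p.Prime]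
    (hnc : ¬ Cfsg.IsPClosed p G) (hsub : ∀ H : Subgroup G, H ≠ ⊤ → Cfsg.IsPClosed p ↥H) :
    (∀ P Q : Sylow p G, P ≠ Q → (P : Subgroup G) ⊓ (Q : Subgroup G) = ⊥) ∧
      ∀ (P : Sylow p G) (R : Subgroup G), R ≤ P → R ≠ ⊥ →
        Subgroup.normalizer (R : Set G) ≤ Subgroup.normalizer ((P : Subgroup G) : Set G) := by
  have key : ∀ D : Subgroup G, D ≠ ⊥ → ∀ P Q : Sylow p G, D ≤ P → D ≤ Q → P = Q := by
    intro D
    induction D using WellFoundedGT.induction with
    | ind D ih =>
      intro hD P Q hP hQ
      rcases hP.eq_or_lt with rfl | hP'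
      · exact Sylow.ext (P.3 Q.2 hQ).symm
      rcases hQ.eq_or_lt with rfl | hQ'
      · exact Sylow.ext (Q.3 P.2 hP)
      have hN : Subgroup.normalizer (D : Set G) ≠ ⊤ := fun h => by
        rcases IsSimpleGroup.eq_bot_or_eq_top_of_normal D (Subgroup.normalizer_eq_top_iff.1 h)
          with h | h
        · exact hD h
        · exact not_top_lt (h ▸ hP')
      obtain ⟨S⟩ : Nonempty (Sylow p (Subgroup.normalizer (D : Set G))) := inferInstance
      haveI := hsub _ hN S
      obtain ⟨T, hT⟩ := (S.2.map (Subgroup.subtype _)).exists_le_sylow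
      have k2 : ∀ R : Sylow p G, D < R → R = T := fun R hR => by
        have h1 := Inv.lt_inf_normalizer_of_lt_pgroup R.2 hR
        refine ih _ h1 (ne_bot_of_gt h1) R T inf_le_left (le_trans ?_ hT)
        have h2 : IsPGroup p ((R : Subgroup G).subgroupOf (Subgroup.normalizer (D : Set G))) :=
          R.2.comap_subtype
        obtain ⟨S', hS'⟩ := h2.exists_le_sylow
        haveI := S.unique_of_normal inferInstance
        rw [Subsingleton.elim S' S] at hS'
        rw [← Subgroup.subgroupOf_map_subtype]
        exact Subgroup.map_mono hS'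
      rw [k2 P hP', k2 Q hQ']
  refine ⟨fun P Q h => by_contra fun h' => h (key _ h' P Q inf_le_left inf_le_right),
    fun P R hR h1 g hg => ?_⟩
  refine (Sylow.smul_eq_iff_mem_normalizer (P := P)).1 (key R h1 _ _ (fun x hx => ?_) hR)
  rw [Sylow.coe_subgroup_smul, Subgroup.mem_pointwise_smul_iff_inv_smul_mem]
  apply hR
  simpa using (Subgroup.mem_normalizer_iff.1 (inv_mem hg) x).1 hx

end Cfsg.Agent.S3870
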