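import Cfsg.Statements.S4209
import Mathlib
import Cfsg.Agent.FGS.HallPetrescu
import Cfsg.Agent.Grp.Regular

set_option autoImplicit false
open Cfsg

namespace Cfsg.Agent.S4209

/-- A finite `p`-group of nilpotency class less than `p` (the term of index `p - 1` of the lower central series of the whole group, indexed from `0`, is trivial) is a regular `p`-group. -/
theorem result {G : Type*} [Group G] [Finite G] {p : ℕ} [Fact p.Prime] (hG : IsPGroup p G) (hcl : (⊤ : Subgroup G).lowerCentralSeries (p - 1) = ⊥) : Cfsg.IsRegularPGroup p G := by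
  refine Grp.Reg.Reg1.isRegular hG fun a b => ?_
  have := FGS.HP.hall_petrescu_prime (Subgroup.closure {a, b}) (Grp.Reg.left_mem a b)
    (Grp.Reg.right_mem a b) (Fact.out : p.Prime) (powerClosure p 1 (Grp.Reg.der a b))
    (fun c hc => by simpa using Grp.Reg.pow_mem_powerClosure (p := p) (n := 1) hc)
    ((Subgroup.lowerCentralSeries_mono (p - 1) le_top).trans (hcl.le.trans bot_le))
  exact ⟨_, inv_mem this, by group⟩

end Cfsg.Agent.S4209
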