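import Cfsg.Statements.S3872
import Mathlib
import Cfsg.Agent.S4209
import Cfsg.Agent.Grp.MaxClass
import Cfsg.Agent.Grp.UniqueOrderP

set_option autoImplicit false
open Cfsg

namespace Cfsg.Agent.S3872

open Subgroup

/-- Say that a finite group is p-exponent closed when its elements of order dividing p form a subgroup. Let G be a finite p-group that is not p-exponent closed, but all of whose proper subgroups and proper quotients are. Then G is generated by two elements, has nilpotency class at least p, has exponent p², has cyclic center, and has order at least p^(p+1). -/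
theorem result {G : Type*} [Group G] [Finite G] {p : ℕ} [Fact p.Prime] (hG : IsPGroup p G)
    (hnc : ¬ (∃ H : Subgroup G, (H : Set G) = {g : G | g ^ p = 1})) (hsub : ∀ K : Subgroup G, K ≠ ⊤ → (∃ H : Subgroup ↥K, (H : Set ↥K) = {g : ↥K | g ^ p = 1}))
    (hquo : ∀ (N : Subgroup G) [N.Normal], N ≠ ⊥ → (∃ H : Subgroup (G ⧸ N), (H : Set (G ⧸ N)) = {g : (G ⧸ N) | g ^ p = 1})) :
    (∃ x y : G, Subgroup.closure ({x, y} : Set G) = ⊤) ∧ (⊤ : Subgroup G).lowerCentralSeries (p - 1) ≠ ⊥ ∧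
      Monoid.exponent G = p ^ 2 ∧ IsCyclic ↥(Subgroup.center G) ∧ p ^ (p + 1) ≤ Nat.card G := by
  have hp : p.Prime := Fact.out
  obtain ⟨x, y, hx, hy, hxy⟩ : ∃ x y : G, x ^ p = 1 ∧ y ^ p = 1 ∧ (x * y) ^ p ≠ 1 := by
    by_contra h
    push Not at h
    exact hnc ⟨⟨⟨⟨{g | g ^ p = 1}, fun ha hb => h _ _ ha hb⟩, one_pow p⟩, fun {a} ha => by
      simpa using ha⟩, rfl⟩
  have hgen : ∀ K : Subgroup G, x ∈ K → y ∈ K → K = ⊤ := fun K h1 h2 => by
    by_contra h
    obtain ⟨E, hE⟩ := hsub K h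
    have hm : ∀ g, g ∈ E ↔ g ^ p = 1 := fun g => by rw [← SetLike.mem_coe, hE]; rfl
    exact hxy (congrArg Subtype.val ((hm _).1 (mul_mem ((hm ⟨x, h1⟩).2 (Subtype.ext hx))
      ((hm ⟨y, h2⟩).2 (Subtype.ext hy)))))
  have h2 : ∀ (A : Subgroup G), A ≤ center G → A ≠ ⊥ → ∀ g : G, g ^ p ∈ A := fun A hA hA0 g => by
    haveI : A.Normal := ⟨fun n hn g => by
      rwa [mem_center_iff.1 (hA hn) g, mul_inv_cancel_right]⟩
    obtain ⟨E, hE⟩ := hquo A hA0
    have hm : ∀ g, g ∈ E ↔ g ^ p = 1 := fun g => by rw [← SetLike.mem_coe, hE]; rfl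
    have := hgen (E.comap (QuotientGroup.mk' A))
      ((hm _).2 (by rw [← map_pow, hx, map_one])) ((hm _).2 (by rw [← map_pow, hy, map_one]))
    have h3 := (hm _).1 (this ▸ mem_top g : g ∈ E.comap (QuotientGroup.mk' A))
    rwa [← map_pow, QuotientGroup.mk'_apply, QuotientGroup.eq_one_iff] at h3
  have h3 : (⊤ : Subgroup G).lowerCentralSeries (p - 1) ≠ ⊥ := fun h =>
    hnc ⟨Grp.Reg.omega1 hG (Grp.Reg.reg1_of_isRegular (S4209.result hG h)), rfl⟩
  haveI : Nontrivial G := ⟨x * y, 1, fun h => hxy (by rw [h, one_pow])⟩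
  haveI := hG.isNilpotent
  have h4 : p ≤ Group.nilpotencyClass G := by
    rw [Ne, Subgroup.lowerCentralSeries_eq_bot_iff_nilpotencyClass_le] at h3
    have := hp.pos
    omega
  refine ⟨⟨x, y, hgen _ (subset_closure (by simp)) (subset_closure (by simp))⟩, h3, ?_, ?_, ?_⟩
  · haveI := hG.center_nontrivial
    obtain ⟨n, hn0, hn⟩ := (hG.to_subgroup (center G)).nontrivial_iff_card.1 inferInstance
    obtain ⟨z, hz⟩ := exists_prime_orderOf_dvd_card' (G := center G) p (hn ▸ dvd_pow_self p hn0.ne')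
    have h5 : Monoid.exponent G ∣ p ^ 2 := Monoid.exponent_dvd_of_forall_pow_eq_one fun g => by
      obtain ⟨i, hi⟩ := h2 (zpowers (z : G)) (zpowers_le.2 z.2) (fun h => hp.ne_one (by
        rw [← hz, ← orderOf_coe, zpowers_eq_bot.1 h, orderOf_one])) g
      simp only at hi
      rw [sq, pow_mul, ← hi, ← zpow_natCast, ← zpow_mul, mul_comm, zpow_mul, zpow_natCast, ← hz,
        ← orderOf_coe, pow_orderOf_eq_one, one_zpow]
    obtain ⟨i, hi, e⟩ := (Nat.dvd_prime_pow hp).1 h5
    rcases hi.eq_or_lt with rfl | hi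
    · exact e
    · refine absurd (Monoid.exponent_dvd_iff_forall_pow_eq_one.1 ?_ _) hxy
      rw [e]
      simpa using pow_dvd_pow p (show i ≤ 1 by omega)
  · refine Grp.isCyclic_of_prime_order_mem_zpowers fun a b ha hb => ?_
    have ha1 : (a : G) ≠ 1 := fun h => ha.ne_one (by rw [← orderOf_coe, h, orderOf_one])
    have hb1 : (b : G) ≠ 1 := fun h => ha.ne_one (by rw [← hb, ← orderOf_coe, h, orderOf_one])
    obtain ⟨i, hi⟩ := h2 (zpowers (a : G)) (zpowers_le.2 a.2) (by simpa using ha1) (x * y)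
    obtain ⟨j, hj⟩ := h2 (zpowers (b : G)) (zpowers_le.2 b.2) (by simpa using hb1) (x * y)
    simp only at hi hj
    haveI := Fact.mk (hb ▸ ha)
    have h5 : b ∈ zpowers (b ^ j) := by
      have := zpowers_eq_top_of_prime_card (G := zpowers b) (Nat.card_zpowers b)
        (g := ⟨b ^ j, j, rfl⟩) (fun h => hxy (by
          rw [← hj]; exact congrArg (fun z : zpowers b => ((z : center G) : G)) h))
      obtain ⟨k, hk⟩ := this.ge (mem_top ⟨b, mem_zpowers b⟩)
      exact ⟨k, congrArg Subtype.val hk⟩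
    have h6 : b ^ j = a ^ i := Subtype.ext (hj.trans hi.symm)
    exact zpowers_le.2 (h6 ▸ zpow_mem (mem_zpowers a) i) h5
  · have h5 := Grp.MaxClass.pow_le_card_lcs hG 1
    have h6 := Grp.MaxClass.sq_le_index_commutator hG
      (Grp.MaxClass.not_isCyclic_of_class (hp.two_le.trans h4))
    rw [← (commutator G).card_mul_index]
    refine le_trans ?_ (Nat.mul_le_mul h5 h6)
    rw [← pow_add]
    exact Nat.pow_le_pow_right hp.pos (by have := hp.pos; omega)

end Cfsg.Agent.S3872
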