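import Cfsg.Statements.S3873
import Mathlib
import Cfsg.Agent.S3868

set_option autoImplicit false
open Cfsg

namespace Cfsg.Agent.S3873

open Subgroup

theorem pclosed {K : Type*} [Group K] [Finite K] {p : ℕ} [Fact p.Prime]
    (h : ∀ g : K, (orderOf (g ^ p)).Coprime p)
    (hE : ∃ H : Subgroup K, (H : Set K) = {g : K | g ^ p = 1}) : IsPClosed p K := by
  obtain ⟨E, hE⟩ := hE
  have hm : ∀ g, g ∈ E ↔ g ^ p = 1 := fun g => by rw [← SetLike.mem_coe, hE]; rfl
  intro P
  rw [← P.3 (Grp.isPGroup_of_pow_eq_one fun x hx => (hm x).1 hx) fun x hx => (hm x).2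
    (Transfer.eq_one_of_mem_isPGroup_of_coprime P.2 (pow_mem hx p) (h x))]
  exact ⟨fun n hn g => (hm _).2 (by rw [conj_pow, (hm n).1 hn]; simp)⟩

/-- Say that a finite group is p-exponent closed when its elements of order dividing p form a subgroup. Let G be a finite group that is not p-exponent closed, but all of whose proper subgroups and proper quotients are, and suppose G is neither simple nor a p-group. Then there is a prime q ≠ p such that G has order p · q^e, where e is the multiplicative order of q modulo p, and G has a normal elementary abelian subgroup of order q^e that is a minimal normal subgroup of G. -/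
theorem result {G : Type*} [Group G] [Finite G] {p : ℕ} [Fact p.Prime]
    (hnc : ¬ (∃ H : Subgroup G, (H : Set G) = {g : G | g ^ p = 1})) (hsub : ∀ K : Subgroup G, K ≠ ⊤ → (∃ H : Subgroup ↥K, (H : Set ↥K) = {g : ↥K | g ^ p = 1}))
    (hquo : ∀ (N : Subgroup G) [N.Normal], N ≠ ⊥ → (∃ H : Subgroup (G ⧸ N), (H : Set (G ⧸ N)) = {g : (G ⧸ N) | g ^ p = 1}))
    (hns : ¬ IsSimpleGroup G) (hnp : ¬ IsPGroup p G) :
    ∃ q : ℕ, q.Prime ∧ q ≠ p ∧ Nat.card G = p * q ^ orderOf (q : ZMod p) ∧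
      ∃ A : Subgroup G, A.Normal ∧ Nat.card ↥A = q ^ orderOf (q : ZMod p) ∧ Cfsg.IsElementaryAbelian q A ∧
        ∀ B : Subgroup G, B.Normal → B ≤ A → B = ⊥ ∨ B = A := by
  have hp : p.Prime := Fact.out
  obtain ⟨x, y, hx, hy, hxy⟩ : ∃ x y : G, x ^ p = 1 ∧ y ^ p = 1 ∧ (x * y) ^ p ≠ 1 := by
    by_contra h
    push Not at h
    exact hnc ⟨⟨⟨⟨{g | g ^ p = 1}, fun ha hb => h _ _ ha hb⟩, one_pow p⟩, fun {a} ha => by
      simpa using ha⟩, rfl⟩
  have hgen : ∀ K : Subgroup G, x ∈ K → y ∈ K → K = ⊤ := fun K h1 h2 => by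
    by_contra h
    obtain ⟨E, hE⟩ := hsub K h
    have hm : ∀ g, g ∈ E ↔ g ^ p = 1 := fun g => by rw [← SetLike.mem_coe, hE]; rfl
    exact hxy (congrArg Subtype.val ((hm _).1 (mul_mem ((hm ⟨x, h1⟩).2 (Subtype.ext hx))
      ((hm ⟨y, h2⟩).2 (Subtype.ext hy)))))
  haveI : Nontrivial G := ⟨x * y, 1, fun h => hxy (by rw [h, one_pow])⟩
  obtain ⟨N, hN, h0, h1⟩ : ∃ N : Subgroup G, N.Normal ∧ N ≠ ⊥ ∧ N ≠ ⊤ := by
    by_contra h
    push Not at h
    exact hns ⟨fun N hN => (em (N = ⊥)).imp id (h N hN)⟩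
  obtain ⟨A, hA, hA0, hAN, hmin⟩ := Grp.exists_minNormal_le N h0
  have hA1 : A ≠ ⊤ := fun e => h1 (eq_top_iff.2 (e ▸ hAN))
  have h2 : ∀ g : G, g ^ p ∈ A := fun g => by
    obtain ⟨E, hE⟩ := hquo A hA0
    have hm : ∀ g, g ∈ E ↔ g ^ p = 1 := fun g => by rw [← SetLike.mem_coe, hE]; rfl
    have := hgen (E.comap (QuotientGroup.mk' A))
      ((hm _).2 (by rw [← map_pow, hx, map_one])) ((hm _).2 (by rw [← map_pow, hy, map_one]))
    have h3 := (hm _).1 (this ▸ mem_top g : g ∈ E.comap (QuotientGroup.mk' A))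
    rwa [← map_pow, QuotientGroup.mk'_apply, QuotientGroup.eq_one_iff] at h3
  have h3 : (Nat.card A).Coprime p := by
    obtain ⟨E, hE⟩ := hsub A hA1
    have hm : ∀ g, g ∈ E ↔ g ^ p = 1 := fun g => by rw [← SetLike.mem_coe, hE]; rfl
    rcases hmin (E.map A.subtype) ⟨by
      rintro _ ⟨a, ha, rfl⟩ g
      refine ⟨⟨_, hA.conj_mem _ a.2 g⟩, (hm _).2 (Subtype.ext ?_), rfl⟩
      show (g * a * g⁻¹) ^ p = 1
      rw [conj_pow, show (a : G) ^ p = 1 from congrArg Subtype.val ((hm a).1 ha)]; simp⟩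
      (map_subtype_le _) with h | h
    · rw [map_eq_bot_iff_of_injective _ A.subtype_injective] at h
      refine ((hp.coprime_iff_not_dvd).2 fun hd => ?_).symm
      obtain ⟨a, ha⟩ := exists_prime_orderOf_dvd_card' p hd
      have := (hm a).2 (ha ▸ pow_orderOf_eq_one a)
      rw [h, mem_bot] at this
      rw [this, orderOf_one] at ha
      exact hp.ne_one ha.symm
    · refine absurd (fun g => ⟨2, ?_⟩) hnp
      obtain ⟨a, ha, e⟩ := h.ge (h2 g)
      rw [sq, pow_mul, ← e]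
      exact congrArg Subtype.val ((hm a).1 ha)
  have h4 : ∀ g : G, (orderOf (g ^ p)).Coprime p := fun g =>
    Transfer.coprime_orderOf_of_mem h3 (h2 g)
  refine S3868.result (fun h => ?_) (fun H hH => pclosed (fun g => ?_) (hsub H hH))
    (fun M _ hM => pclosed (fun g => ?_) (hquo M hM)) hns
  · obtain ⟨P⟩ : Nonempty (Sylow p G) := inferInstance
    haveI := P.unique_of_normal (h P)
    have k : ∀ z : G, z ^ p = 1 → z ∈ (P : Subgroup G) := fun z hz => by
      obtain ⟨Q, hQ⟩ := (IsPGroup.of_card_dvd_pow (G := zpowers z) (p := p) (n := 1) (by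
        rw [Nat.card_zpowers, pow_one]; exact orderOf_dvd_of_pow_eq_one hz)).exists_le_sylow
      exact Subsingleton.elim Q P ▸ hQ (mem_zpowers z)
    have := P.2
    rw [hgen P (k x hx) (k y hy)] at this
    exact hnp (this.of_equiv topEquiv)
  · rw [← orderOf_coe]; exact h4 g
  · obtain ⟨g, rfl⟩ := QuotientGroup.mk'_surjective M g
    rw [← map_pow]
    exact Transfer.coprime_orderOf_map _ (h4 g)

end Cfsg.Agent.S3873
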