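import Cfsg.Statements.S3875
import Cfsg.Agent.Char.BrauerReynoldsCor
import Cfsg.Agent.Solv.CoprimeSylow

set_option autoImplicit false
open Cfsg

namespace Cfsg.Agent.S3875

open Subgroup Cfsg.Agent.Grp Cfsg.Agent.Grp.SelfCent Cfsg.Agent.Char Cfsg.Agent.Char.SelfC Cfsg.Agent.Small
open scoped MatrixGroups

theorem solv_case {G : Type*} [Group G] [Finite G] {p : ℕ} [hp : Fact p.Prime] (P : Sylow p G)
    (hP : Nat.card (P : Subgroup G) = p) (hnn : ¬ (P : Subgroup G).Normal)
    (hK : ¬ p ∣ Nat.card (_root_.commutator G)) :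
    ∃ k, IsPrimePow k ∧ k % p = 1 ∧ p * k ≤ Nat.card G := by
  set K := _root_.commutator G with hKdef
  set N := normalizer ((P : Subgroup G) : Set G) with hN
  have h1 : ¬ K ≤ N := by
    intro h
    refine hnn ⟨fun x hx g => ?_⟩
    have h2 : g * x * g⁻¹ ∈ N := by
      have : g * x * g⁻¹ = (g * x * g⁻¹ * x⁻¹) * x := by group
      rw [this]
      exact mul_mem (h (commutator_mem_commutator (mem_top g) (mem_top x))) (le_normalizer hx)
    have h3 : IsPGroup p (zpowers (g * x * g⁻¹)) := by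
      by_cases hx1 : x = 1
      · rw [hx1, mul_one, mul_inv_cancel, zpowers_one_eq_bot]; exact IsPGroup.of_bot
      · exact isPGroup_zp (((MulAut.conj g).orderOf_eq x).trans
          (orderOf_eq_of_mem_sylow_prime P hP hx hx1))
    have h4 : g * x * g⁻¹ ∈ zpowers (g * x * g⁻¹) ⊓ normalizer (P : Set G) := ⟨mem_zpowers _, h2⟩
    rw [h3.inf_normalizer_sylow P] at h4
    exact h4.2
  obtain ⟨q, hq, hqd⟩ := Nat.exists_prime_and_dvd (mt relIndex_eq_one.1 h1)
  haveI := Fact.mk hq
  haveI : IsCyclic (P : Subgroup G) := isCyclic_of_prime_card hP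
  obtain ⟨Q, hQ⟩ := Solv.exists_invariant_sylow (P : Subgroup G) K (by simp [normalizer_eq_top])
    (by rw [hP]; exact hp.out.coprime_iff_not_dvd.2 hK)
    (Or.inl (by haveI := P.isPGroup'.isNilpotent; infer_instance)) q
  set R := (Q : Subgroup K).map K.subtype with hR
  have h2 : ¬ R ≤ N := by
    intro h
    refine Q.not_dvd_index (hqd.trans (index_dvd_of_le ?_))
    intro y hy
    exact h ⟨y, hy, rfl⟩
  obtain ⟨x, hx, hxP⟩ := exists_zpowers_eq_sylow P hP
  obtain ⟨j, hj⟩ := (Q.isPGroup'.map K.subtype).exists_card_eq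
  have hRp : ¬ p ∣ Nat.card R := fun h => hK (h.trans (card_dvd_of_le (map_subtype_le _)))
  have hxR : x ∈ normalizer (R : Set G) := hQ (hxP ▸ mem_zpowers x)
  set C := (centralizer ({x} : Set G)).subgroupOf R with hC
  have h3 : Nat.card R ≡ Nat.card C [MOD p] := by
    let φ : zpowers x →* MulAut R := R.normalizerMonoidHom.comp (inclusion (zpowers_le.2 hxR))
    letI : MulAction (zpowers x) R := MulAction.compHom R φ
    refine ((isPGroup_zp hx).card_modEq_card_fixedPoints R).trans ?_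
    rw [Nat.card_congr (Equiv.subtypeEquivRight (q := (· ∈ C)) fun c => ?_)]
    constructor
    · intro h
      have h3 : x * c.1 * x⁻¹ = c.1 := congrArg Subtype.val (h ⟨x, mem_zpowers x⟩)
      rw [hC, mem_subgroupOf, mem_centralizer_singleton_iff]
      calc c.1 * x = (x * c.1 * x⁻¹) * x := by rw [h3]
        _ = x * c.1 := by group
    · rintro h ⟨_, i, rfl⟩
      rw [hC, mem_subgroupOf, mem_centralizer_singleton_iff] at h
      refine Subtype.ext ?_
      change x ^ i * c.1 * (x ^ i)⁻¹ = c.1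
      rw [← (Commute.zpow_right h i).eq]; group
  have h4 := card_mul_index C
  have h5 : C.index ≠ 1 := by
    intro h
    rw [index_eq_one, hC, subgroupOf_eq_top] at h
    refine h2 (h.trans ?_)
    rw [← centralizer_zpowers, hxP]
    exact centralizer_le_normalizer _
  refine ⟨C.index, ?_, ?_, ?_⟩
  · obtain ⟨i, -, hi⟩ := (Nat.dvd_prime_pow hq).1 (hj ▸ C.index_dvd_card)
    refine (isPrimePow_nat_iff _).2 ⟨q, i, hq, Nat.pos_of_ne_zero ?_, hi.symm⟩
    rintro rfl
    exact h5 hi
  · have h6 : Nat.card C * C.index ≡ Nat.card C * 1 [MOD p] := by rw [h4, mul_one]; exact h3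
    have h7 := Nat.ModEq.cancel_left_of_coprime (hp.out.coprime_iff_not_dvd.2
      fun h => hRp (h.trans (card_subgroup_dvd_card C))) h6
    rw [h7, Nat.mod_eq_of_lt hp.out.one_lt]
  · refine Nat.le_of_dvd Nat.card_pos ((mul_dvd_mul_left p C.index_dvd_card).trans ?_)
    refine (hp.out.coprime_iff_not_dvd.2 hRp).mul_dvd_of_dvd_of_dvd ?_ (card_subgroup_dvd_card R)
    rw [← hP]; exact card_subgroup_dvd_card _

theorem lower (p : ℕ) [hp : Fact p.Prime] (m : ℕ)
    (hleast : ∀ k : ℕ, IsPrimePow k → k % p = 1 → m ≤ k) (c : ℕ) :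
    ∀ (H : Type) [Group H] [Finite H], Nat.card H = c → ¬ Cfsg.IsPClosed p H →
      min (p * m) (p * (p ^ 2 - 1) / 2) ≤ Nat.card H := by
  induction c using Nat.strong_induction_on with
  | _ c ih =>
  intro H _ _ hc hH
  by_contra hlt
  rw [not_le, lt_min_iff] at hlt
  obtain ⟨hlt1, hlt2⟩ := hlt
  obtain ⟨P, hnn⟩ := not_forall.1 hH
  have hdvd : p ∣ Nat.card H := by
    refine dvd_trans ?_ (card_subgroup_dvd_card (P : Subgroup H))
    refine (P.isPGroup'.card_eq_or_dvd).resolve_left fun h => hnn ?_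
    rw [card_eq_one.1 h]; infer_instance
  have hlt3 : 2 * Nat.card H < p * (p ^ 2 - 1) := by omega
  have hbig : Nat.card H < p ^ 3 := by
    have : p * (p ^ 2 - 1) ≤ p * p ^ 2 := Nat.mul_le_mul_left _ (Nat.sub_le _ _)
    rw [pow_succ']
    omega
  have hP := card_sylow_eq_of_lt_cube hdvd hbig P hnn
  by_cases hK : p ∣ Nat.card (_root_.commutator H)
  swap
  · obtain ⟨k, hk1, hk2, hk3⟩ := solv_case P hP hnn hK
    have := Nat.mul_le_mul_left p (hleast k hk1 hk2)
    omega
  obtain ⟨x, hx, hxP⟩ := exists_zpowers_eq_sylow P hP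
  by_cases hperf : _root_.commutator H = ⊤
  · obtain ⟨n, h1, -⟩ := exists_index_normalizer P hxP.symm
    have hT := not_third_of_lt_cube hperf P hxP.symm hx h1 hbig
    have h6 : (Cfsg.pPrimeCore p H).index ≤ Nat.card H :=
      Nat.le_of_dvd Nat.card_pos (index_dvd_card _)
    rcases (brauerReynolds hperf P hxP.symm hx h1 hT).2 with
      ⟨F, _, _, hF, h3p, ⟨e⟩⟩ | ⟨m, F, _, _, hF, hpm, h3p, ⟨e⟩⟩
    · have h7 := Class.Dickson.gcd_mul_card_PSL2 (K := F)
      rw [← Nat.card_congr e.toEquiv, Nat.card_eq_fintype_card (α := F), hF, ← index_eq_card] at h7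
      have h8 : p * (p ^ 2 - 1) ≤ 2 * (Cfsg.pPrimeCore p H).index :=
        h7 ▸ Nat.mul_le_mul_right _ (Nat.gcd_le_left _ two_pos)
      omega
    · have h7 := Class.Dickson.gcd_mul_card_PSL2 (K := F)
      have hm : m ≠ 0 := by rintro rfl; omega
      obtain ⟨r, hr⟩ : 2 ∣ 2 ^ m := dvd_pow_self 2 hm
      rw [← Nat.card_congr e.toEquiv, Nat.card_eq_fintype_card (α := F), hF, ← index_eq_card,
        hr, Nat.Coprime.gcd_eq_one (by
          rw [Nat.coprime_two_left]; exact ⟨r - 1, by omega⟩), one_mul] at h7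
      rw [hr] at hpm
      obtain ⟨c, hc⟩ : ∃ c, r = c + 2 := ⟨r - 2, by omega⟩
      rw [hc, show (2 * (c + 2)) ^ 2 - 1 = 4 * c ^ 2 + 16 * c + 15 from
        Nat.sub_eq_of_eq_add (by ring)] at h7
      rw [hpm, hc, show (2 * (c + 2) + 1) ^ 2 - 1 = 4 * c ^ 2 + 20 * c + 24 from
        Nat.sub_eq_of_eq_add (by ring)] at hlt3
      rw [h7] at h6
      nlinarith [Nat.zero_le (c ^ 2), Nat.zero_le (c ^ 3)]
  · have h1 : (P : Subgroup H) ≤ _root_.commutator H := by
      rw [← hxP, zpowers_le]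
      exact mem_of_dvd_of_sylow P hxP.symm hx _ hK
    have h2 : Nat.card (_root_.commutator H) < Nat.card H := by
      refine lt_of_le_of_ne (card_le_card_group _) fun h => hperf (eq_top_of_card_eq _ h)
    have h3 : Cfsg.IsPClosed p (_root_.commutator H) := by
      by_contra h4
      have := ih _ (hc ▸ h2) _ rfl h4
      rw [min_le_iff] at this
      omega
    haveI := (P.subtype h1).characteristic_of_normal (h3 _)
    apply hnn
    have h4 : (P : Subgroup H) = ((P.subtype h1 : Subgroup _).map (_root_.commutator H).subtype) := by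
      rw [Sylow.coe_subtype, subgroupOf_map_subtype, inf_of_le_left h1]
    rw [h4]
    infer_instance

theorem exists_affine (p : ℕ) [hp : Fact p.Prime] (m : ℕ) (hm : IsPrimePow m) (hm1 : m % p = 1) :
    ∃ (H : Type) (_ : Group H) (_ : Finite H), Nat.card H = p * m ∧ ¬ Cfsg.IsPClosed p H := by
  obtain ⟨q, k, hq, hk, rfl⟩ := (isPrimePow_nat_iff _).1 hm
  haveI := Fact.mk hq
  let F := GaloisField q k
  have hF : Nat.card F = q ^ k := GaloisField.card q k hk.ne'
  obtain ⟨ζ, hζ⟩ := exists_prime_orderOf_dvd_card' (G := Fˣ) p (by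
    rw [Nat.card_units, hF]
    exact (Nat.modEq_iff_dvd' (Nat.one_le_pow _ _ hq.pos)).1
      (by rw [Nat.ModEq, hm1, Nat.mod_eq_of_lt hp.out.one_lt]))
  let φ : zpowers ζ →* MulAut (Multiplicative F) :=
    (MulAutMultiplicative F).symm.toMonoidHom.comp
      ((DistribMulAction.toAddAut Fˣ F).comp (zpowers ζ).subtype)
  haveI : Finite (Multiplicative F ⋊[φ] zpowers ζ) :=
    Finite.of_equiv _ SemidirectProduct.equivProd.symm
  have hcard : Nat.card (Multiplicative F ⋊[φ] zpowers ζ) = p * q ^ k := by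
    rw [SemidirectProduct.card, card_zp hζ, mul_comm]
    exact congrArg _ hF
  refine ⟨Multiplicative F ⋊[φ] zpowers ζ, inferInstance, inferInstance, hcard, fun h => ?_⟩
  let z : zpowers ζ := ⟨ζ, mem_zpowers ζ⟩
  have hz : orderOf (SemidirectProduct.inr z : Multiplicative F ⋊[φ] zpowers ζ) = p := by
    rw [orderOf_injective _ SemidirectProduct.inr_injective, ← orderOf_coe, hζ]
  obtain ⟨P, hP⟩ := (isPGroup_zp hz).exists_le_sylow
  have h1 := hP (mem_zpowers _)
  let a : Multiplicative F := Multiplicative.ofAdd 1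
  have h2 : (SemidirectProduct.inl (a * (φ z a)⁻¹) : Multiplicative F ⋊[φ] zpowers ζ)
      ∈ (P : Subgroup _) := by
    have := mul_mem ((h P).conj_mem _ h1 (SemidirectProduct.inl a)) (inv_mem h1)
    convert this using 1
    rw [map_mul, map_inv, SemidirectProduct.inl_aut, map_inv]
    group
  obtain ⟨j, hj⟩ := IsPGroup.iff_orderOf.1 P.isPGroup' ⟨_, h2⟩
  rw [← orderOf_coe, orderOf_injective _ SemidirectProduct.inl_injective] at hj
  have h3 : orderOf (a * (φ z a)⁻¹) ∣ q ^ k := hF ▸ orderOf_dvd_natCard _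
  have h4 : (q ^ k).Coprime p := by
    rw [Nat.coprime_comm, hp.out.coprime_iff_not_dvd, Nat.dvd_iff_mod_eq_zero, hm1]
    exact one_ne_zero
  have h5 : orderOf (a * (φ z a)⁻¹) = 1 :=
    Nat.eq_one_of_dvd_coprimes (h4.pow_right j) h3 (hj ▸ dvd_rfl)
  rw [orderOf_eq_one_iff, mul_inv_eq_one] at h5
  have h6 : (1 : F) = ζ • (1 : F) := congrArg Multiplicative.toAdd h5
  apply ne_one hζ
  ext
  simpa [Units.smul_def] using h6.symm


/-- Let p be an odd prime and let m be the least prime power congruent to 1 modulo p. Then the least order of a finite group whose Sylow p-subgroups are not normal is the smaller of p · m and p(p² − 1)/2: every finite group whose Sylow p-subgroups are not normal has at least that order, and some group of exactly that order has non-normal Sylow p-subgroups. -/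
theorem result (p : ℕ) [Fact p.Prime] (hp : p ≠ 2) (m : ℕ) (hm : IsPrimePow m) (hm1 : m % p = 1)
    (hleast : ∀ k : ℕ, IsPrimePow k → k % p = 1 → m ≤ k) :
    (∀ (H : Type) [Group H] [Finite H], ¬ Cfsg.IsPClosed p H → min (p * m) (p * (p ^ 2 - 1) / 2) ≤ Nat.card H) ∧
      ∃ (H : Type) (_ : Group H) (_ : Finite H), Nat.card H = min (p * m) (p * (p ^ 2 - 1) / 2) ∧ ¬ Cfsg.IsPClosed p H := by
  have hpp : p.Prime := Fact.out
  refine ⟨fun H _ _ h => lower p m hleast _ H rfl h, ?_⟩
  by_cases hle : p * m ≤ p * (p ^ 2 - 1) / 2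
  · rw [min_eq_left hle]
    exact exists_affine p m hm hm1
  rw [min_eq_right (not_le.1 hle).le]
  have hp3 : p ≠ 3 := by
    rintro rfl
    have := hleast 4 ⟨2, 2, Nat.prime_two.prime, two_pos, rfl⟩ rfl
    omega
  have hp4 : 3 < p := by have := hpp.two_le; omega
  have hF : Nat.card (ZMod p) = p := Nat.card_zmod p
  haveI : IsSimpleGroup PSL(2, ZMod p) := Matrix.ProjectiveSpecialLinearGroup.rank_two_simple (by omega)
  have h1 := Class.Dickson.gcd_mul_card_PSL2 (K := ZMod p)
  rw [hF, Nat.gcd_eq_left (even_iff_two_dvd.1 (hpp.even_sub_one hp))] at h1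
  have hcard : Nat.card PSL(2, ZMod p) = p * (p ^ 2 - 1) / 2 := by omega
  refine ⟨PSL(2, ZMod p), inferInstance, inferInstance, hcard, fun h => ?_⟩
  have hd : p ∣ Nat.card PSL(2, ZMod p) :=
    (Nat.coprime_two_right.2 (hpp.odd_of_ne_two hp)).dvd_of_dvd_mul_left (h1 ▸ dvd_mul_right _ _)
  have hc : ¬ IsMulCommutative PSL(2, ZMod p) := not_comm_of_card fun hq => by
    rw [← (Nat.prime_dvd_prime_iff_eq hpp hq).1 hd, mul_comm] at h1
    have h2 := Nat.eq_of_mul_eq_mul_left hpp.pos h1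
    have : 4 ^ 2 ≤ p ^ 2 := Nat.pow_le_pow_left hp4 2
    omega
  obtain ⟨P⟩ : Nonempty (Sylow p PSL(2, ZMod p)) := inferInstance
  exact sylow_normalizer_ne_top hc P hd (normalizer_eq_top_iff.2 (h P))

end Cfsg.Agent.S3875
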