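import Mathlib
import Cfsg.Statements.S3888
import Cfsg.Agent.Fus.RankTwo
-- import your own Cfsg.Agent.* helpers here

set_option autoImplicit false
open Cfsg

namespace Cfsg.Agent.S3888

open Cfsg.Agent.Fus Cfsg.FusionSystem

open scoped commutatorElement

theorem pow_eq {G : Type*} [Group G] {p : ℕ} [Fact p.Prime] {u : G} (hu : orderOf u = p) {a : ℕ}
    (h : (a : ZMod p) = 1) : u ^ a = u := by
  rw [← Nat.cast_one, ZMod.natCast_eq_natCast_iff, ← hu, ← pow_eq_pow_iff_modEq] at h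
  rw [h, pow_one]


/-- The classification of the p-groups of rank at most two for odd p. Let p be an odd prime and G a group of order p^n with no elementary abelian subgroup of order p³. Then one of the following holds: G is metacyclic; n ≥ 3 and G is generated by elements x, y, z with x^p = y^p = z^(p^(n−2)) = 1, z commuting with x and y, and x⁻¹yx = y z^(p^(n−3)); n ≥ 4 and G is generated by elements x, y, z with x^p = y^p = z^(p^(n−2)) = 1, yz = zy, x⁻¹yx = y z^(s p^(n−3)) and x⁻¹zx = yz, where s = 1 or s is a quadratic non-residue modulo p; or p = 3 and G has maximal class (nilpotency class n − 1). -/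
theorem result {G : Type*} [Group G] [Finite G] {p : ℕ} [Fact p.Prime] (hp : p ≠ 2) (n : ℕ) (hG : Nat.card G = p ^ n)
    (hrk : Cfsg.PRankLE p 2 G) :
    Cfsg.IsMetacyclic G ∨
    (3 ≤ n ∧ ∃ x y z : G, Subgroup.closure ({x, y, z} : Set G) = ⊤ ∧ x ^ p = 1 ∧ y ^ p = 1 ∧ z ^ p ^ (n - 2) = 1 ∧
        x * z = z * x ∧ y * z = z * y ∧ x⁻¹ * y * x = y * z ^ p ^ (n - 3)) ∨
    (4 ≤ n ∧ ∃ (s : ℕ) (x y z : G), (s = 1 ∨ ¬ IsSquare (s : ZMod p)) ∧ Subgroup.closure ({x, y, z} : Set G) = ⊤ ∧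
        x ^ p = 1 ∧ y ^ p = 1 ∧ z ^ p ^ (n - 2) = 1 ∧ y * z = z * y ∧ x⁻¹ * y * x = y * z ^ (s * p ^ (n - 3)) ∧
        x⁻¹ * z * x = y * z) ∨
    (p = 3 ∧ 2 ≤ n ∧ (⊤ : Subgroup G).lowerCentralSeries (n - 2) ≠ ⊥) := by
  have hP := IsPGroup.of_card hG
  have hp' : p.Prime := Fact.out
  by_cases hE : MC.HasE p G
  swap
  · rcases (by have := hp'.two_le; omega : p = 3 ∨ 3 < p) with rfl | h3
    · rcases MC.blackburn_three G hP hE with h | ⟨m, h⟩
      · exact .inl h
      obtain rfl : m = n := Nat.pow_right_injective (by norm_num) (h.card.symm.trans hG)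
      have := h.three
      exact .inr (.inr (.inr ⟨rfl, by omega, fun e => by have := h.gam_eq_bot_iff.1 e; omega⟩))
    · exact .inl ((MC.isMetacyclic_or_hasE h3 hP).resolve_right hE)
  obtain ⟨k, s, M, x, y, z, h, h2⟩ := MC.exists_fam hp hP hrk hE
  obtain rfl : k + 3 = n := Nat.pow_right_injective hp'.two_le (h.card.symm.trans hG)
  have hz : z ^ p ^ (k + 1) = 1 := h.ord ▸ pow_orderOf_eq_one z
  have hs : (s : ZMod p) ≠ 0 := mt (ZMod.natCast_eq_zero_iff s p).1 h.hs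
  have ho := h.orderOf_pow hp'.ne_zero
  have hxa : ∀ a : ℕ, (x ^ a) ^ p = 1 := fun a => by rw [← pow_mul, mul_comm, pow_mul, h.hxp, one_pow]
  have hv : ∀ c : ZMod p, c ≠ 0 → ¬ p ∣ c.val := fun c hc e =>
    hc (by rw [← ZMod.natCast_zmod_val c, (ZMod.natCast_eq_zero_iff _ p).2 e])
  have hrel : ∀ a b c : G, ⁅a⁻¹, b⁆ = c → Commute c b → a⁻¹ * b * a = b * c := fun a b c e hc => by
    rw [← hc.eq, ← e]; simp [commutatorElement_def]
  rcases h2 with h2 | ⟨h2, hk⟩
  · have hc := h.mem_center (mt inv_mem_iff.1 h.hx) h.hz (commutatorElement_eq_one_iff_commute.1 h2)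
    have ha := h.pow_not_mem (hv _ (inv_ne_zero hs))
    refine .inr (.inl ⟨by omega, x ^ (s : ZMod p)⁻¹.val, y, z, h.closure_eq ha
      (Subgroup.subset_closure (by simp)) (Subgroup.subset_closure (by simp))
      (Subgroup.subset_closure (by simp)), hxa _, h.hyp, hz, Subgroup.mem_center_iff.1 hc _,
      h.comm _ h.hy _ h.hz, hrel _ _ _ ?_ (h.comm _ (pow_mem h.hz _) _ h.hy)⟩)
    have := h.comm_y (pow_mem hc _) (s : ZMod p)⁻¹.val (one_mem M)
    rwa [mul_one, ← Nat.cast_mul, zpow_natCast, zpow_natCast, inv_pow,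
      pow_eq ho (by simp [hs])] at this
  refine .inr (.inr (.inl ⟨by omega, ?_⟩))
  by_cases hq : IsSquare (s : ZMod p)
  swap
  · exact ⟨s, x, y, z, .inr hq, h.closure_eq h.hx (Subgroup.subset_closure (by simp))
      (Subgroup.subset_closure (by simp)) (Subgroup.subset_closure (by simp)), h.hxp, h.hyp, hz,
      h.comm _ h.hy _ h.hz, hrel _ _ _ (by rw [h.rel, ← pow_mul, mul_comm]; rfl)
      (h.comm _ (pow_mem h.hz _) _ h.hy), by rw [← h2]; simp [commutatorElement_def]⟩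
  obtain ⟨r, hr⟩ := hq
  have hr0 : r ≠ 0 := fun e => hs (by rw [hr, e, mul_zero])
  have ha := h.pow_not_mem (hv _ (inv_ne_zero hr0))
  have hm := h.comm_mem (x ^ r⁻¹.val)⁻¹ h.hz
  refine ⟨1, x ^ r⁻¹.val, ⁅(x ^ r⁻¹.val)⁻¹, z⁆, z, .inl rfl, ?_, hxa _, ?_, hz, h.comm _ hm _ h.hz,
    hrel _ _ _ ?_ (h.comm _ (pow_mem h.hz _) _ hm), by simp [commutatorElement_def]⟩
  · have h1 : x ^ r⁻¹.val ∈ Subgroup.closure {x ^ r⁻¹.val, ⁅(x ^ r⁻¹.val)⁻¹, z⁆, z} :=
      Subgroup.subset_closure (by simp)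
    have h3 : z ∈ Subgroup.closure {x ^ r⁻¹.val, ⁅(x ^ r⁻¹.val)⁻¹, z⁆, z} :=
      Subgroup.subset_closure (by simp)
    refine h.closure_eq ha h1 ?_ h3
    obtain ⟨b, hb⟩ := exists_pow_eq_self_of_coprime (x := x) (((hp'.coprime_iff_not_dvd.2
      (hv _ (inv_ne_zero hr0))).symm).coprime_dvd_right (orderOf_dvd_of_pow_eq_one h.hxp))
    have h4 := pow_mem h1 b
    rw [hb] at h4
    have h5 := AC.commElt_mem (Subgroup.inv_mem _ h4) h3
    rwa [h2] at h5
  · rw [← zpow_natCast, ← h.comm_zpow _ h.hz, zpow_natCast]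
    exact commutatorElement_eq_one_iff_mul_comm.2
      (Subgroup.mem_center_iff.1 (h.pow_mem_center h2) _)
  · have := h.quad h2 hk r⁻¹.val (one_mem M) h.hz
    rw [mul_one, ← Nat.cast_pow, ← Nat.cast_mul, zpow_natCast, zpow_natCast, inv_pow,
      pow_eq ho (by simp [hr]; field_simp)] at this
    rw [this, one_mul]; rfl

end Cfsg.Agent.S3888
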