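import Cfsg.Statements.S3889
import Mathlib
import Cfsg.Agent.FGS.NilCover

set_option autoImplicit false
open Cfsg

namespace Cfsg.Agent.S3889

/-- A finite abelian group that is the union of a family of proper subgroups any two of which intersect trivially is elementary abelian: its exponent is a prime. -/
theorem result {G : Type*} [CommGroup G] [Finite G] (𝓑 : Set (Subgroup G)) (hprop : ∀ B ∈ 𝓑, B ≠ ⊤)
    (hcov : ∀ g : G, ∃ B ∈ 𝓑, g ∈ B) (hdisj : ∀ B ∈ 𝓑, ∀ C ∈ 𝓑, B ≠ C → B ⊓ C = ⊥) :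
    (Monoid.exponent G).Prime := by
  obtain ⟨B, hB, -⟩ := hcov 1
  haveI : Nontrivial G := by
    by_contra h
    rw [not_nontrivial_iff_subsingleton] at h
    exact hprop B hB (Subsingleton.elim _ _)
  obtain ⟨p, hp, hd⟩ := Nat.exists_prime_and_dvd (Finite.one_lt_card (α := G)).ne'
  haveI := Fact.mk hp
  obtain ⟨x, hx⟩ := exists_prime_orderOf_dvd_card' p hd
  have hx1 : x ≠ 1 := fun e => hp.one_lt.ne' (by rw [← hx, e, orderOf_one])
  have := FGS.NC.pow_eq_one_of_partition (P := (⊤ : Subgroup G))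
    (fun a _ b _ => Commute.all a b) 𝓑 (fun B hB h => hprop B hB (top_le_iff.1 h))
    (fun g _ => hcov g) (fun B hB C hC hBC g _ h1 h2 => by
      have := hdisj B hB C hC hBC ▸ Subgroup.mem_inf.2 ⟨h1, h2⟩
      simpa using this) (Subgroup.mem_top x) hx1 (p := p) (hx ▸ pow_orderOf_eq_one x)
  have h1 : Monoid.exponent G ∣ p :=
    Monoid.exponent_dvd_of_forall_pow_eq_one fun g => this g (Subgroup.mem_top g)
  have h2 : p ∣ Monoid.exponent G := hx ▸ Monoid.order_dvd_exponent x
  rwa [Nat.dvd_antisymm h1 h2]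

end Cfsg.Agent.S3889
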