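import Cfsg.Statements.S3890
import Mathlib
import Cfsg.Agent.FGS.NilCover
import Cfsg.Agent.FGS.Conj

set_option autoImplicit false
open Cfsg

namespace Cfsg.Agent.S3890

/-- A cover of a group is a finite set of proper subgroups whose union is the whole group; it is minimal when no cover has fewer members, and nilpotent when all its members are nilpotent. Let G be a finite group with trivial center admitting a nilpotent minimal cover 𝓐, and let P be an abelian Sylow p-subgroup of G that is not normal. Then either P is elementary abelian of order greater than p, or P is a Sylow p-subgroup of some member A of 𝓐, the normalizer N of P is a maximal subgroup of G, N meets each of its conjugates by elements outside N in a subgroup of order prime to p, and the centralizer of P equals A. -/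
theorem result {G : Type*} [Group G] [Finite G] (hZ : Subgroup.center G = ⊥) (𝓐 : Finset (Subgroup G))
    (h𝓐 : ((∀ A ∈ 𝓐, A ≠ ⊤) ∧ (∀ g : G, ∃ A ∈ 𝓐, g ∈ A)) ∧ (∀ 𝓑 : Finset (Subgroup G), (∀ A ∈ 𝓑, A ≠ ⊤) ∧ (∀ g : G, ∃ A ∈ 𝓑, g ∈ A) → 𝓐.card ≤ 𝓑.card) ∧ (∀ A ∈ 𝓐, Group.IsNilpotent ↥A)) {p : ℕ} [Fact p.Prime] (P : Sylow p G) (hab : IsMulCommutative ↥(P : Subgroup G))
    (hnn : ¬ (P : Subgroup G).Normal) :
    (Cfsg.IsElementaryAbelian p (P : Subgroup G) ∧ p < Nat.card ↥(P : Subgroup G)) ∨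
    (∃ A ∈ 𝓐, (P : Subgroup G) ≤ A ∧ ¬ p ∣ ((P : Subgroup G).subgroupOf A).index ∧
      IsCoatom (Subgroup.normalizer ((P : Subgroup G) : Set G)) ∧
      (∀ g : G, g ∉ Subgroup.normalizer ((P : Subgroup G) : Set G) →
        ¬ p ∣ Nat.card ↥(Subgroup.normalizer ((P : Subgroup G) : Set G) ⊓
          (Subgroup.normalizer ((P : Subgroup G) : Set G)).map (MulAut.conj g).toMonoidHom)) ∧
      Subgroup.centralizer ((P : Subgroup G) : Set G) = A) := by
  by_cases hne : Cfsg.IsElementaryAbelian p (P : Subgroup G) ∧ p < Nat.card ↥(P : Subgroup G)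
  · exact Or.inl hne
  right
  have hp : p.Prime := Fact.out
  have hP : (P : Subgroup G) ≠ ⊥ := fun e => hnn (e ▸ inferInstance)
  have h1 := FGS.NC.centralizer_mem' hZ h𝓐 P hab hP hne
  have hle : (P : Subgroup G) ≤ Subgroup.centralizer ((P : Subgroup G) : Set G) :=
    Subgroup.le_centralizer _
  refine ⟨_, (h1 P).2, hle, (P.subtype hle).not_dvd_index,
    FGS.NC.isCoatom_normalizer hZ h𝓐 P hab hnn hne, fun g hg hd => ?_, rfl⟩
  obtain ⟨u, hu⟩ := exists_prime_orderOf_dvd_card' p hd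
  rw [← Subgroup.orderOf_coe] at hu
  obtain ⟨u, hu1, hu2⟩ := u
  simp only at hu
  have hup : IsPGroup p (Subgroup.zpowers (u : G)) :=
    IsPGroup.of_card (n := 1) (by rw [Nat.card_zpowers, hu, pow_one])
  have m1 : (u : G) ∈ (P : Subgroup G) :=
    ((hup.inf_normalizer_sylow P).le ⟨Subgroup.mem_zpowers _, hu1⟩).2
  have m2 : (u : G) ∈ ((g • P : Sylow p G) : Subgroup G) := by
    refine ((hup.inf_normalizer_sylow (g • P)).le ⟨Subgroup.mem_zpowers _, ?_⟩).2
    rw [← FGS.normalizer_mapConj] at hu2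
    exact hu2
  have hPQ : P ≠ g • P := fun e => hg (Sylow.smul_eq_iff_mem_normalizer.1 e.symm)
  have := (h1 (g • P)).1
  have := FGS.NC.eq_one_of_mem_of_mem hZ h𝓐 P hab (h1 P).2 (h1 (g • P)).2
    (FGS.NC.centralizer_ne h𝓐 hab (h1 (g • P)).1 (h1 P).2 hPQ) (hle m1)
    (Subgroup.le_centralizer _ m2) ⟨1, by rw [pow_one]; exact orderOf_dvd_iff_pow_eq_one.1 hu.dvd⟩
  rw [this, orderOf_one] at hu
  exact hp.one_lt.ne hu

end Cfsg.Agent.S3890
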