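import Cfsg.Statements.S3891
import Mathlib
import Cfsg.Agent.FGS.NilCover
import Cfsg.Agent.FGS.Conj

set_option autoImplicit false
open Cfsg

namespace Cfsg.Agent.S3891

/-- A cover of a group is a finite set of proper subgroups whose union is the whole group; it is minimal when no cover has fewer members, and nilpotent when all its members are nilpotent. Let G be a finite group with trivial center admitting a nilpotent minimal cover, and let P be a non-normal Sylow p-subgroup of G that is cyclic, or abelian but not elementary abelian. Then the centralizer of P is nilpotent and the normalizer of P is the unique maximal subgroup of G containing the centralizer of P. -/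
theorem result {G : Type*} [Group G] [Finite G] (hZ : Subgroup.center G = ⊥) (𝓐 : Finset (Subgroup G))
    (h𝓐 : ((∀ A ∈ 𝓐, A ≠ ⊤) ∧ (∀ g : G, ∃ A ∈ 𝓐, g ∈ A)) ∧ (∀ 𝓑 : Finset (Subgroup G), (∀ A ∈ 𝓑, A ≠ ⊤) ∧ (∀ g : G, ∃ A ∈ 𝓑, g ∈ A) → 𝓐.card ≤ 𝓑.card) ∧ (∀ A ∈ 𝓐, Group.IsNilpotent ↥A)) {p : ℕ} [Fact p.Prime] (P : Sylow p G)
    (hP : IsCyclic ↥(P : Subgroup G) ∨ (IsMulCommutative ↥(P : Subgroup G) ∧ ¬ Cfsg.IsElementaryAbelian p (P : Subgroup G)))
    (hnn : ¬ (P : Subgroup G).Normal) :
    Group.IsNilpotent ↥(Subgroup.centralizer ((P : Subgroup G) : Set G)) ∧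
      IsCoatom (Subgroup.normalizer ((P : Subgroup G) : Set G)) ∧
      ∀ M : Subgroup G, IsCoatom M → Subgroup.centralizer ((P : Subgroup G) : Set G) ≤ M →
        M = Subgroup.normalizer ((P : Subgroup G) : Set G) := by
  have hp : p.Prime := Fact.out
  have hab : IsMulCommutative (P : Subgroup G) := by
    rcases hP with h | h
    · exact h.isMulCommutative
    · exact h.1
  have hne : ¬ (Cfsg.IsElementaryAbelian p (P : Subgroup G) ∧ p < Nat.card ↥(P : Subgroup G)) := by
    rintro ⟨h1, h2⟩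
    rcases hP with h | h
    · obtain ⟨x, hx⟩ := h.exists_ofOrder_eq_natCard
      have : x ^ p = 1 := Subtype.ext (h1.2 x x.2)
      have := Nat.le_of_dvd hp.pos (orderOf_dvd_of_pow_eq_one this)
      omega
    · exact h.2 h1
  have hP0 : (P : Subgroup G) ≠ ⊥ := fun e => hnn (e ▸ inferInstance)
  have hc := FGS.NC.isCoatom_normalizer hZ h𝓐 P hab hnn hne
  refine ⟨h𝓐.2.2 _ (FGS.NC.centralizer_mem hZ h𝓐 P hab hP0 hne), hc, fun M hM hle => ?_⟩
  exact (hM.le_iff_eq hc.1).1
    (FGS.NC.le_normalizer_of_centralizer_le hZ h𝓐 P hab hP0 hne hM.1 hle) |>.symm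

end Cfsg.Agent.S3891
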