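import Cfsg.Statements.S3892
import Mathlib
import Cfsg.Agent.FGS.NilCover

set_option autoImplicit false
open Cfsg

namespace Cfsg.Agent.S3892

open Equiv Equiv.Perm

theorem aux {G : Type*} [Group G] [Finite G] (p : ℕ) [hp : Fact p.Prime]
    (hG : ¬ p ^ 2 ∣ Nat.card G) (M : Subgroup G) (hM : M ≠ ⊤) (x y : G) (hx : orderOf x = p)
    (hy : orderOf y = p) (hxy : ¬ Commute x y) (h1 : ∀ g, Commute x g → g ∈ M)
    (h2 : ∀ g, Commute y g → g ∈ M) : ¬ ∃ 𝓐 : Finset (Subgroup G), FGS.NC.IsNilMinCover 𝓐 :=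
  FGS.NC.not_cover M hM x y
    (fun _ hA h g hg => h1 g ((FGS.NC.central_of_not_sq_dvd hA hG h hx).1 g hg))
    (fun _ hA h g hg => h2 g ((FGS.NC.central_of_not_sq_dvd hA hG h hy).1 g hg))
    (fun _ hA h hg => hxy ((FGS.NC.central_of_not_sq_dvd hA hG h hx).1 y hg))

theorem big {G : Type*} [Group G] [Finite G] {n : ℕ} (hn : 6 ≤ n) (ι : G →* Perm (Fin n))
    (hι : Function.Injective ι) (hA : ∀ σ, Perm.sign σ = 1 → ∃ g, ι g = σ) :
    ¬ ∃ 𝓐 : Finset (Subgroup G), FGS.NC.IsNilMinCover 𝓐 := by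
  obtain ⟨p, hp, h1, h2⟩ := Nat.exists_prime_lt_and_le_two_mul (n / 2) (by omega)
  haveI := Fact.mk hp
  have hodd := hp.eq_two_or_odd'.resolve_left (by omega)
  have h3 : p < n := by obtain ⟨k, hk⟩ := hodd; omega
  have hsq : ¬ p ^ 2 ∣ Nat.card G := by
    intro h
    have := h.trans (Subgroup.card_dvd_of_injective ι hι)
    rw [Nat.card_perm, Nat.card_fin, hp.pow_dvd_factorial_iff (b := 2)
      (Nat.log_lt_of_lt_pow (by omega) (by
        have : n < 2 * p := by omega
        have : 2 ≤ p := hp.two_le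
        nlinarith))] at this
    simp at this
    rw [Nat.le_div_iff_mul_le hp.pos] at this
    omega
  obtain ⟨x, hx⟩ := exists_prime_orderOf_dvd_card' (G := Perm (Fin n)) p (by
    rw [Nat.card_perm, Nat.card_fin]; exact hp.dvd_factorial.2 h3.le)
  have hc : x.IsCycle := isCycle_of_prime_order' (hx ▸ hp) (by rw [hx, Fintype.card_fin]; omega)
  have hs : x.support.card = p := by rw [← hc.orderOf, hx]
  have hsign : Perm.sign x = 1 := by rw [hc.sign, hs, hodd.neg_one_pow, neg_neg]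
  obtain ⟨a, ha, -⟩ := id hc
  have hne : ∀ k, 0 < k → k < p → (x ^ k) a ≠ a := fun k hk hkp h => by
    have := (hc.pow_eq_one_iff' ha).2 h
    rw [← orderOf_dvd_iff_pow_eq_one, hx] at this
    exact absurd (Nat.le_of_dvd hk this) (by omega)
  have e2 : x (x a) ≠ a := by simpa [pow_succ] using hne 2 (by omega) (by omega)
  have e3 : x (x (x a)) ≠ a := by simpa [pow_succ] using hne 3 (by omega) (by omega)
  have e2' : x (x a) ≠ x a := fun h => ha (x.injective h)
  have e3' : x (x (x a)) ≠ x a := fun h => e2 (x.injective h)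
  obtain ⟨c, hc'⟩ : ∃ c, x c = c := by
    by_contra h
    push Not at h
    have : x.support = Finset.univ := Finset.eq_univ_of_forall fun c => mem_support.2 (h c)
    rw [this, Finset.card_univ, Fintype.card_fin] at hs
    omega
  set s := swap a (x a) with hs'
  obtain ⟨X, hX⟩ := hA x hsign
  obtain ⟨Y, hY⟩ := hA (s * x * s⁻¹) (by rw [map_mul, map_mul, hsign, mul_one, ← map_mul]; simp)
  let M : Subgroup G :=
    { carrier := {g | ∀ b, x (ι g b) = ι g b ↔ x b = b}
      one_mem' := by intro b; simp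
      mul_mem' := by
        intro g h hg hh b
        rw [map_mul, Perm.mul_apply, hg, hh]
      inv_mem' := by
        intro g hg b
        rw [← hg, map_inv]; simp }
  have key : ∀ z : G, (∀ b, ι z b = b ↔ x b = b) → ∀ g, Commute z g → g ∈ M := by
    intro z hz g hg b
    rw [← hz, ← hz, ← Perm.mul_apply, ← map_mul, hg.eq, map_mul, Perm.mul_apply,
      (ι g).injective.eq_iff]
  refine aux p hsq M (fun h => ?_) X Y (by rw [← orderOf_injective ι hι, hX, hx])
    (by rw [← orderOf_injective ι hι, hY, ← hx]; exact orderOf_injective (MulAut.conj s).toMonoidHom (MulAut.conj s).injective x)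
    (fun h => ?_) (key X (by simp [hX])) (key Y fun b => ?_)
  · obtain ⟨g, hg⟩ := hA (swap a c * swap (x a) (x (x a))) (by
      rw [map_mul, sign_swap (by rintro rfl; exact ha hc'), sign_swap e2'.symm]; simp)
    have := (h ▸ Subgroup.mem_top g : g ∈ M) a
    rw [hg, Perm.mul_apply, swap_apply_of_ne_of_ne ha.symm e2.symm, swap_apply_left] at this
    exact ha (this.1 hc')
  · have := DFunLike.congr_fun (congrArg ι h.eq) (x a)
    rw [map_mul, map_mul, hX, hY] at this
    simp only [hs', swap_inv, Perm.mul_apply, swap_apply_right, swap_apply_of_ne_of_ne e2 e2',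
      swap_apply_of_ne_of_ne e3 e3'] at this
    exact e3' this.symm
  · rw [hY, Perm.mul_apply, Perm.mul_apply, ← Perm.eq_inv_iff_eq, hs', swap_inv]
    by_cases h : b = a
    · subst h; simp [ha, e2']
    by_cases h' : b = x a
    · subst h'; simp [ha, e2']
    rw [swap_apply_of_ne_of_ne h h']

theorem s4 : ¬ ∃ 𝓐 : Finset (Subgroup (Perm (Fin 4))), FGS.NC.IsNilMinCover 𝓐 := by
  haveI : Fact (Nat.Prime 3) := ⟨by norm_num⟩
  refine aux 3 (by rw [Nat.card_perm, Nat.card_fin]; decide) (alternatingGroup _) (fun h => ?_)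
    (swap 0 1 * swap 1 2) (swap 0 1 * swap 1 3)
    (orderOf_eq_prime (by decide) (by decide)) (orderOf_eq_prime (by decide) (by decide))
    (by unfold Commute SemiconjBy; decide) ?_ ?_
  · have : swap (0 : Fin 4) 1 ∈ alternatingGroup (Fin 4) := h ▸ Subgroup.mem_top _
    rw [mem_alternatingGroup] at this
    revert this; decide
  · simp only [Commute, SemiconjBy, mem_alternatingGroup]; decide +kernel
  · simp only [Commute, SemiconjBy, mem_alternatingGroup]; decide +kernel

theorem s5 : ¬ ∃ 𝓐 : Finset (Subgroup (Perm (Fin 5))), FGS.NC.IsNilMinCover 𝓐 := by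
  haveI : Fact (Nat.Prime 5) := ⟨by norm_num⟩
  refine aux 5 (by rw [Nat.card_perm, Nat.card_fin]; decide) (alternatingGroup _) (fun h => ?_)
    (swap 0 1 * swap 1 2 * swap 2 3 * swap 3 4) (swap 0 1 * swap 1 2 * swap 2 4 * swap 4 3)
    (orderOf_eq_prime (by decide) (by decide)) (orderOf_eq_prime (by decide) (by decide))
    (by unfold Commute SemiconjBy; decide) ?_ ?_
  · have : swap (0 : Fin 5) 1 ∈ alternatingGroup (Fin 5) := h ▸ Subgroup.mem_top _
    rw [mem_alternatingGroup] at this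
    revert this; decide
  · simp only [Commute, SemiconjBy, mem_alternatingGroup]; decide +kernel
  · simp only [Commute, SemiconjBy, mem_alternatingGroup]; decide +kernel

theorem a5 : ¬ ∃ 𝓐 : Finset (Subgroup (alternatingGroup (Fin 5))), FGS.NC.IsNilMinCover 𝓐 := by
  haveI : Fact (Nat.Prime 3) := ⟨by norm_num⟩
  have k : ∀ c : Fin 5, c = 2 ∨ c = 3 → ∀ g : Perm (Fin 5), Perm.sign g = 1 →
      swap 0 1 * swap 1 c * g = g * (swap 0 1 * swap 1 c) → g 4 = 4 := by decide +kernel
  refine aux 3 (by rw [Nat.card_eq_fintype_card, card_alternatingGroup]; decide)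
    ((MulAction.stabilizer (Perm (Fin 5)) (4 : Fin 5)).subgroupOf _) (fun h => ?_)
    ⟨swap 0 1 * swap 1 2, mem_alternatingGroup.2 (by decide)⟩ ⟨swap 0 1 * swap 1 3, mem_alternatingGroup.2 (by decide)⟩
    (orderOf_eq_prime (by decide) (by decide)) (orderOf_eq_prime (by decide) (by decide))
    (by unfold Commute SemiconjBy; decide) (fun g hg => k 2 (by simp) g g.2 (congrArg Subtype.val hg))
    (fun g hg => k 3 (by simp) g g.2 (congrArg Subtype.val hg))
  have : (⟨swap 0 1 * swap 1 4, mem_alternatingGroup.2 (by decide)⟩ : alternatingGroup (Fin 5)) ∈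
    (MulAction.stabilizer (Perm (Fin 5)) (4 : Fin 5)).subgroupOf _ := h ▸ Subgroup.mem_top _
  rw [Subgroup.mem_subgroupOf, MulAction.mem_stabilizer_iff] at this
  revert this; decide

/-- A cover of a group is a finite set of proper subgroups whose union is the whole group; it is minimal when no cover has fewer members, and nilpotent when all its members are nilpotent. The alternating groups of degree at least 5 and the symmetric groups of degree at least 4 have no nilpotent minimal cover. -/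
theorem result (n : ℕ) :
    (5 ≤ n → ¬ ∃ 𝓐 : Finset (Subgroup ↥(alternatingGroup (Fin n))), ((∀ A ∈ 𝓐, A ≠ ⊤) ∧ (∀ g : ↥(alternatingGroup (Fin n)), ∃ A ∈ 𝓐, g ∈ A)) ∧ (∀ 𝓑 : Finset (Subgroup ↥(alternatingGroup (Fin n))), (∀ A ∈ 𝓑, A ≠ ⊤) ∧ (∀ g : ↥(alternatingGroup (Fin n)), ∃ A ∈ 𝓑, g ∈ A) → 𝓐.card ≤ 𝓑.card) ∧ (∀ A ∈ 𝓐, Group.IsNilpotent ↥A)) ∧
    (4 ≤ n → ¬ ∃ 𝓐 : Finset (Subgroup (Equiv.Perm (Fin n))), ((∀ A ∈ 𝓐, A ≠ ⊤) ∧ (∀ g : (Equiv.Perm (Fin n)), ∃ A ∈ 𝓐, g ∈ A)) ∧ (∀ 𝓑 : Finset (Subgroup (Equiv.Perm (Fin n))), (∀ A ∈ 𝓑, A ≠ ⊤) ∧ (∀ g : (Equiv.Perm (Fin n)), ∃ A ∈ 𝓑, g ∈ A) → 𝓐.card ≤ 𝓑.card) ∧ (∀ A ∈ 𝓐, Group.IsNilpotent ↥A)) := by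
  refine ⟨fun hn => ?_, fun hn => ?_⟩
  · rcases Nat.eq_or_lt_of_le hn with rfl | hn
    · exact a5
    · exact big hn (Subgroup.subtype _) Subtype.val_injective fun σ h => ⟨⟨σ, h⟩, rfl⟩
  · rcases Nat.eq_or_lt_of_le hn with rfl | hn
    · exact s4
    rcases Nat.eq_or_lt_of_le hn with rfl | hn
    · exact s5
    · exact big hn (MonoidHom.id _) Function.injective_id fun σ _ => ⟨σ, rfl⟩

end Cfsg.Agent.S3892
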