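import Cfsg.Statements.S3893
import Mathlib
import Cfsg.Agent.FGS.NilCover
import Cfsg.Agent.Chev.SzLie

set_option autoImplicit false
open Cfsg

namespace Cfsg.Agent.S3893

open Cfsg.Agent.Chev Cfsg.Agent.Chev.Suz MulAction in
theorem cc {F : Type*} [Field F] {m : ℕ} [SzField F m] {p q : suzukiOvoid F m} (hpq : p ≠ q)
    (t : Sz F m) (ht : t ∈ stabilizer (Sz F m) p ⊓ stabilizer (Sz F m) q) (h1 : t ≠ 1)
    (g : Sz F m) (hg : Commute g t) : g ∈ stabilizer (Sz F m) p ⊓ stabilizer (Sz F m) q := by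
  have fix : ∀ r, t • r = r → r = p ∨ r = q := by
    intro r hr
    by_contra hc
    push Not at hc
    exact h1 (eq_one_of_fix_three t hpq (Ne.symm hc.2) (Ne.symm hc.1) ht.1 ht.2 hr)
  have e1 : t • g • p = g • p := by rw [← mul_smul, ← hg.eq, mul_smul, ht.1]
  have e2 : t • g • q = g • q := by rw [← mul_smul, ← hg.eq, mul_smul, ht.2]
  rcases fix _ e1 with a | a
  · rcases fix _ e2 with b | b
    · exact absurd (smul_left_cancel g (a.trans b.symm)) hpq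
    · exact ⟨a, b⟩
  · rcases fix _ e2 with b | b
    · exfalso
      obtain ⟨k, hk1, hk2⟩ := exists_smul_pair hpq
      obtain ⟨l, hl⟩ := eq_hh_of_fix (k⁻¹ * t * k)
        (by rw [conj_fix_iff, hk1]; exact ht.1) (by rw [conj_fix_iff, hk2]; exact ht.2)
      obtain ⟨l', hl'⟩ := eq_hh_of_fix (tt F * (k⁻¹ * g * k))
        (by rw [mul_smul, mul_smul, mul_smul, hk1, a, ← hk2, inv_smul_smul, tt_smul_zero])
        (by rw [mul_smul, mul_smul, mul_smul, hk2, b, ← hk1, inv_smul_smul, tt_smul_inf])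
      have c1 : Commute (tt F * (tt F * (k⁻¹ * g * k))) (k⁻¹ * t * k) := by
        rw [← mul_assoc, tt_mul_tt, one_mul]
        show _ = _
        calc k⁻¹ * g * k * (k⁻¹ * t * k) = k⁻¹ * (g * t) * k := by group
          _ = _ := by rw [hg.eq]; group
      rw [hl', hl] at c1
      have c2 : (tt F * (hh l' * hh l) : Sz F m) = hh l * tt F * hh l' := by
        rw [← mul_assoc, c1.eq, mul_assoc]
      rw [hh_mul, mul_comm l' l, ← hh_mul, ← mul_assoc, tt_mul_hh] at c2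
      have c3 : l⁻¹ = l := hh_inj.1 (mul_right_cancel (mul_right_cancel c2))
      have c4 : l = 1 := unit_pow_four (by
        rw [show l ^ 4 = (l * l) * (l * l) by simp [pow_succ, mul_assoc]]
        nth_rewrite 1 [← c3]
        nth_rewrite 3 [← c3]
        simp)
      rw [c4, hh_one] at hl
      apply h1
      have : t = k * (k⁻¹ * t * k) * k⁻¹ := by group
      rw [this, hl]; simp
    · exact absurd (smul_left_cancel g (a.trans b.symm)) hpq

/-- A cover of a group is a finite set of proper subgroups whose union is the whole group; it is minimal when no cover has fewer members, and nilpotent when all its members are nilpotent. The Suzuki groups Sz(q), q = 2^(2m+1) with m ≥ 1, have no nilpotent minimal cover. -/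
theorem result {F : Type*} [Field F] [Fintype F] (m : ℕ) (hm : 1 ≤ m) (hF : Fintype.card F = 2 ^ (2 * m + 1)) :
    ¬ ∃ 𝓐 : Finset (Subgroup ↥(Cfsg.Lie.Sz F (2 ^ (m + 1)))), ((∀ A ∈ 𝓐, A ≠ ⊤) ∧ (∀ g : ↥(Cfsg.Lie.Sz F (2 ^ (m + 1))), ∃ A ∈ 𝓐, g ∈ A)) ∧ (∀ 𝓑 : Finset (Subgroup ↥(Cfsg.Lie.Sz F (2 ^ (m + 1)))), (∀ A ∈ 𝓑, A ≠ ⊤) ∧ (∀ g : ↥(Cfsg.Lie.Sz F (2 ^ (m + 1))), ∃ A ∈ 𝓑, g ∈ A) → 𝓐.card ≤ 𝓑.card) ∧ (∀ A ∈ 𝓐, Group.IsNilpotent ↥A) := by
  haveI := Chev.SzField.of_fintype hm hF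
  obtain ⟨l, hl0, hl1⟩ := Chev.Suz.exists_ne_zero_one F
  have hx1 : (Chev.Suz.hh (Units.mk0 l hl0) : Cfsg.Sz F m) ≠ 1 := fun e =>
    hl1 (congrArg Units.val (Chev.Suz.hh_eq_one.1 e))
  set x : Cfsg.Sz F m := Chev.Suz.hh (Units.mk0 l hl0) with hx
  set u : Cfsg.Sz F m := Chev.Suz.uu (1 : F) 0 with hu
  have hxT : x ∈ MulAction.stabilizer (Cfsg.Sz F m) (Chev.Suz.inf F) ⊓
      MulAction.stabilizer (Cfsg.Sz F m) (Chev.Suz.pt (0 : F) 0) :=
    Chev.Suz.mem_stab_stab.2 ⟨_, rfl⟩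
  have hu0 : u • Chev.Suz.pt (0 : F) 0 = Chev.Suz.pt (1 : F) 0 := by
    rw [hu, Chev.Suz.uu_smul_pt]; simp
  have hyT : u * x * u⁻¹ ∈ MulAction.stabilizer (Cfsg.Sz F m) (Chev.Suz.inf F) ⊓
      MulAction.stabilizer (Cfsg.Sz F m) (Chev.Suz.pt (1 : F) 0) := by
    constructor
    · have := (Chev.Suz.conj_fix_iff' u x (Chev.Suz.inf F)).2 hxT.1
      rwa [hu, Chev.Suz.uu_smul_inf] at this
    · have := (Chev.Suz.conj_fix_iff' u x _).2 hxT.2
      rwa [hu0] at this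
  have hy1 : u * x * u⁻¹ ≠ 1 := fun e => hx1 (by simpa using e)
  refine FGS.NC.not_cover_of_equiv (Chev.Suz.lieEquiv (F := F) (m := m))
    (MulAction.stabilizer _ (Chev.Suz.inf F)) (fun e => ?_) x (u * x * u⁻¹)
    (fun A hA hxA => (FGS.NC.le_of_cc (cc (Chev.Suz.inf_ne_pt 0 0)) hA hxA hxT hx1).trans
      inf_le_left)
    (fun A hA hyA => (FGS.NC.le_of_cc (cc (Chev.Suz.inf_ne_pt 1 0)) hA hyA hyT hy1).trans
      inf_le_left) fun A hA hxA hyA => ?_
  · have : Chev.Suz.tt F ∈ MulAction.stabilizer (Cfsg.Sz F m) (Chev.Suz.inf F) :=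
      e ▸ Subgroup.mem_top _
    rw [MulAction.mem_stabilizer_iff, Chev.Suz.tt_smul_inf] at this
    exact Chev.Suz.pt_ne_inf _ _ this
  · have := FGS.NC.le_of_cc (cc (Chev.Suz.inf_ne_pt 0 0)) hA hxA hxT hx1 hyA
    exact hy1 (Chev.Suz.eq_one_of_fix_three _ (Chev.Suz.inf_ne_pt 0 0)
      (fun e => zero_ne_one (Chev.Suz.pt_inj.1 e).1) (Chev.Suz.inf_ne_pt 1 0) hyT.1 this.2 hyT.2)

end Cfsg.Agent.S3893
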