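import Cfsg.Statements.S3894
import Mathlib
import Cfsg.Agent.FGS.NilCoverPGL2
import Cfsg.Agent.KSG.UnipOrder

set_option autoImplicit false
open Cfsg

namespace Cfsg.Agent.S3894

open Matrix Subgroup

section
variable {F : Type*} [Field F] {ι : Type*} [Fintype ι] [DecidableEq ι]

/-- The stabilizer of the line spanned by `e`. -/
def lineStab (e : ι → F) : Subgroup (GL ι F) where
  carrier := {g | ∃ c : F, c ≠ 0 ∧ (g : Matrix ι ι F) *ᵥ e = c • e}
  one_mem' := ⟨1, one_ne_zero, by simp⟩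
  mul_mem' := by
    rintro g h ⟨c, hc, e1⟩ ⟨d, hd, e2⟩
    exact ⟨d * c, mul_ne_zero hd hc, by
      rw [Units.val_mul, ← mulVec_mulVec, e2, mulVec_smul, e1, smul_smul]⟩
  inv_mem' := by
    rintro g ⟨c, hc, e1⟩
    refine ⟨c⁻¹, inv_ne_zero hc, ?_⟩
    have := congrArg (fun v => c⁻¹ • ((g⁻¹ : GL ι F) : Matrix ι ι F) *ᵥ v) e1
    simp only [mulVec_mulVec, Units.inv_mul, one_mulVec, mulVec_smul, smul_smul,
      inv_mul_cancel₀ hc, one_smul] at this
    exact this.symm

theorem mem_lineStab {e : ι → F} (he : e ≠ 0) {g : GL ι F} {c : F}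
    (h : (g : Matrix ι ι F) *ᵥ e = c • e) : g ∈ lineStab e := by
  refine ⟨c, ?_, h⟩
  rintro rfl
  have := congrArg (fun v => ((g⁻¹ : GL ι F) : Matrix ι ι F) *ᵥ v) h
  simp only [mulVec_mulVec, Units.inv_mul, one_mulVec, zero_smul, mulVec_zero] at this
  exact he this

variable [Finite F] (p : ℕ) [Fact p.Prime] [CharP F p]

theorem le_lineStab {A : Subgroup (GL ι F)} (hA : Group.IsNilpotent A) {x : GL ι F} (hx : x ∈ A)
    (hxp : ∃ k, x ^ p ^ k = 1) {e : ι → F} (he : e ≠ 0) (h1 : (x : Matrix ι ι F) *ᵥ e = e)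
    (h2 : ∀ v, (x : Matrix ι ι F) *ᵥ v = v → ∃ c : F, v = c • e) : A ≤ lineStab e := by
  refine FGS.le_of_forall_primePow fun r hr y hy hyr => ?_
  by_cases h : r = p
  · subst h
    obtain ⟨P⟩ : Nonempty (Sylow r A) := inferInstance
    have k : ∀ z (hz : z ∈ A), (∃ k, z ^ r ^ k = 1) → (⟨z, hz⟩ : A) ∈ (P : Subgroup A) :=
      fun z hz ⟨k, hk⟩ => FGS.NC.mem_sylow_of_le (A := ⊤) inferInstance P le_top trivial
        ⟨k, Subtype.ext hk⟩
    haveI : Nontrivial (ι → F) := ⟨_, _, he⟩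
    obtain ⟨v, hv, hv0⟩ := P.2.exists_fixed_point_of_prime_dvd_card_of_fixed_point (ι → F)
      (a := 0) (by
        haveI : CharP (ι → F) r := by
          haveI : Nonempty ι := by
            by_contra hn
            rw [not_nonempty_iff] at hn
            exact he (Subsingleton.elim _ _)
          infer_instance
        haveI := Fintype.ofFinite (ι → F)
        rw [Nat.card_eq_fintype_card, ← CharP.cast_eq_zero_iff (ι → F) r]
        exact Nat.cast_card_eq_zero _) (fun g => smul_zero _)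
    obtain ⟨c, rfl⟩ := h2 v (hv ⟨_, k x hx hxp⟩)
    have h3 : (y : Matrix ι ι F) *ᵥ (c • e) = c • e := hv ⟨_, k y hy hyr⟩
    have hc : c ≠ 0 := by rintro rfl; simp at hv0
    rw [mulVec_smul] at h3
    exact ⟨1, one_ne_zero, by rw [one_smul]; exact smul_right_injective _ hc h3⟩
  · obtain ⟨k, hk⟩ := hyr
    have := FGS.NC.commute_of_coprime hA hx hy hxp (Nat.Coprime.coprime_dvd_left
      (orderOf_dvd_of_pow_eq_one hk) (((Nat.coprime_primes hr Fact.out).2 h).pow_left k))
    obtain ⟨c, hc⟩ := h2 ((y : Matrix ι ι F) *ᵥ e) (by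
      rw [mulVec_mulVec, ← Units.val_mul, this.eq, Units.val_mul, ← mulVec_mulVec, h1])
    exact mem_lineStab he hc

theorem trace_eq {A : Subgroup (GL ι F)} (hA : Group.IsNilpotent A) {x y : GL ι F} (hx : x ∈ A)
    (hxp : ∃ k, x ^ p ^ k = 1) (hy : y ∈ A) (hyp : ∃ k, y ^ p ^ k = 1) :
    trace ((x : Matrix ι ι F) * (y : Matrix ι ι F) - 1) = 0 := by
  obtain ⟨P⟩ : Nonempty (Sylow p A) := inferInstance
  have k : ∀ z (hz : z ∈ A), (∃ k, z ^ p ^ k = 1) → (⟨z, hz⟩ : A) ∈ (P : Subgroup A) :=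
    fun z hz ⟨k, hk⟩ => FGS.NC.mem_sylow_of_le (A := ⊤) inferInstance P le_top trivial
      ⟨k, Subtype.ext hk⟩
  obtain ⟨l, hl⟩ := P.2 ⟨_, mul_mem (k x hx hxp) (k y hy hyp)⟩
  have h : (x * y) ^ p ^ l = 1 := congrArg (fun z : P => ((z : A) : GL ι F)) hl
  rw [KSG.GL_pow_char_pow_eq_one_iff p] at h
  exact (isNilpotent_trace_of_isNilpotent ⟨_, h⟩).eq_zero

end

section
variable (F : Type*) [Field F] {n : ℕ}

/-- A regular nilpotent matrix. -/
def sh (σ : Equiv.Perm (Fin n)) : Matrix (Fin n) (Fin n) F :=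
  of fun i j => if (σ j : ℕ) = σ i + 1 then 1 else 0

theorem sh_nil (σ : Equiv.Perm (Fin n)) : IsNilpotent (sh F σ) := by
  have : ∀ k i j, (sh F σ ^ k) i j ≠ 0 → (σ i : ℕ) + k ≤ σ j := by
    intro k
    induction k with
    | zero =>
      intro i j h
      rw [pow_zero, one_apply] at h
      split_ifs at h with h'
      · simp [h']
      · exact absurd rfl h
    | succ k ih =>
      intro i j h
      rw [pow_succ, mul_apply] at h
      obtain ⟨l, -, hl⟩ := Finset.exists_ne_zero_of_sum_ne_zero h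
      have h1 := ih i l (left_ne_zero_of_mul hl)
      have h2 := right_ne_zero_of_mul hl
      simp only [sh, of_apply, ne_eq, ite_eq_right_iff, Classical.not_imp] at h2
      omega
  refine ⟨n, ?_⟩
  ext i j
  by_contra h
  have := this n i j h
  have := (σ j).2
  omega

/-- A regular unipotent matrix. -/
noncomputable def un (σ : Equiv.Perm (Fin n)) : GL (Fin n) F := (sh_nil F σ).isUnit_one_add.unit

theorem un_coe (σ : Equiv.Perm (Fin n)) : (un F σ : Matrix (Fin n) (Fin n) F) = 1 + sh F σ := rfl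

variable (p : ℕ) [Fact p.Prime] [CharP F p]

theorem un_pow (σ : Equiv.Perm (Fin n)) : ∃ k, un F σ ^ p ^ k = 1 := by
  obtain ⟨k, hk⟩ := (KSG.GL_isNilpotent_iff_exists_orderOf p (un F σ)).1 (by
    rw [un_coe, add_sub_cancel_left]; exact sh_nil F σ)
  exact ⟨k, hk ▸ pow_orderOf_eq_one _⟩

include p in
theorem un_mem (σ : Equiv.Perm (Fin n)) : un F σ ∈
    (SpecialLinearGroup.toGL : SpecialLinearGroup (Fin n) F →* GL (Fin n) F).range := by
  rw [Class.range_toGL_eq_ker_det, MonoidHom.mem_ker]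
  obtain ⟨k, hk⟩ := un_pow F p σ
  have := congrArg (fun g => ((GeneralLinearGroup.det g : Fˣ) : F)) hk
  simp only [map_pow, map_one, Units.val_pow_eq_pow_val, Units.val_one] at this
  rw [← sub_eq_zero, ← one_pow (p ^ k), ← sub_pow_char_pow] at this
  exact Units.ext (sub_eq_zero.1 (pow_eq_zero_iff (pow_ne_zero _ (Fact.out : p.Prime).ne_zero) |>.1 this))

theorem un_fix [NeZero n] (σ : Equiv.Perm (Fin n)) (h : σ 0 = 0) :
    (un F σ : Matrix (Fin n) (Fin n) F) *ᵥ Pi.single 0 1 = Pi.single 0 1 := by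
  rw [un_coe, add_mulVec, one_mulVec, add_eq_left]
  ext i
  simp [sh, h]

theorem un_uniq [NeZero n] (σ : Equiv.Perm (Fin n)) (h : σ 0 = 0) (v : Fin n → F)
    (hv : (un F σ : Matrix (Fin n) (Fin n) F) *ᵥ v = v) : ∃ c : F, v = c • Pi.single 0 1 := by
  rw [un_coe, add_mulVec, one_mulVec, add_eq_left] at hv
  refine ⟨v 0, funext fun j => ?_⟩
  by_cases hj : j = 0
  · simp [hj]
  have h1 : (σ j : ℕ) ≠ 0 := fun e => hj (σ.injective (by rw [h]; exact Fin.ext e))
  have := congrFun hv (σ.symm ⟨σ j - 1, by have := (σ j).2; omega⟩)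
  simp only [sh, mulVec, dotProduct, of_apply, Equiv.apply_symm_apply, Pi.zero_apply] at this
  rw [Finset.sum_eq_single j (fun b _ hb => by
    rw [if_neg (fun e => hb (σ.injective (Fin.ext (by omega)))), zero_mul]) (by simp),
    if_pos (by omega), one_mul] at this
  simp [hj, this]

theorem trace_un (m : ℕ) : trace ((un F (1 : Equiv.Perm (Fin (m + 3)))).val *
    (un F (Equiv.swap (1 : Fin (m + 3)) 2)).val - 1) = 1 := by
  have h0 : ∀ σ : Equiv.Perm (Fin (m + 3)), trace (sh F σ) = 0 := fun σ => by simp [trace, sh]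
  rw [un_coe, un_coe, show ∀ a b : Matrix (Fin (m + 3)) (Fin (m + 3)) F,
    (1 + a) * (1 + b) - 1 = a + b + a * b from fun a b => by noncomm_ring, trace_add, trace_add,
    h0, h0, add_zero, zero_add]
  simp only [trace, diag, mul_apply, sh, of_apply, Equiv.Perm.one_apply]
  have v1 : ((1 : Fin (m + 3)) : ℕ) = 1 := rfl
  have v2 : ((2 : Fin (m + 3)) : ℕ) = 2 := rfl
  rw [Finset.sum_eq_single (1 : Fin (m + 3)) ?_ (by simp), Finset.sum_eq_single (2 : Fin (m + 3)) ?_ (by simp)]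
  · simp [v1, v2]
  · intro b _ hb
    exact mul_eq_zero_of_left (if_neg fun e => hb (Fin.ext e)) _
  · intro a _ ha
    refine Finset.sum_eq_zero fun b _ => ?_
    by_cases h : (b : ℕ) = a + 1
    · refine mul_eq_zero_of_right _ (if_neg ?_)
      simp only [Equiv.swap_apply_def, Fin.ext_iff] at ha ⊢
      split_ifs <;> omega
    · exact mul_eq_zero_of_left (if_neg h) _

end

/-- A cover of a group is a finite set of proper subgroups whose union is the whole group; it is minimal when no cover has fewer members, and nilpotent when all its members are nilpotent. Let F be a finite field with q elements and n ≥ 3, or n = 2 and q ≥ 4. Then no subgroup of PGL_n(F) = GL_n(F)/Z(GL_n(F)) containing the image of SL_n(F) has a nilpotent minimal cover. -/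
theorem result {F : Type*} [Field F] [Fintype F] (n : ℕ) (hn : 3 ≤ n ∨ (n = 2 ∧ 4 ≤ Fintype.card F))
    (G : Subgroup (GL (Fin n) F ⧸ Subgroup.center (GL (Fin n) F)))
    (hG : ((Matrix.SpecialLinearGroup.toGL : Matrix.SpecialLinearGroup (Fin n) F →* GL (Fin n) F).range).map
      (QuotientGroup.mk' (Subgroup.center (GL (Fin n) F))) ≤ G) :
    ¬ ∃ 𝓐 : Finset (Subgroup ↥G), ((∀ A ∈ 𝓐, A ≠ ⊤) ∧ (∀ g : ↥G, ∃ A ∈ 𝓐, g ∈ A)) ∧ (∀ 𝓑 : Finset (Subgroup ↥G), (∀ A ∈ 𝓑, A ≠ ⊤) ∧ (∀ g : ↥G, ∃ A ∈ 𝓑, g ∈ A) → 𝓐.card ≤ 𝓑.card) ∧ (∀ A ∈ 𝓐, Group.IsNilpotent ↥A) := by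
  rcases hn with hn | ⟨rfl, hq⟩
  swap
  · exact FGS.NC.not_cover_PGL2 hq G hG
  obtain ⟨m, rfl⟩ : ∃ m, n = m + 3 := ⟨n - 3, by omega⟩
  obtain ⟨p, hp⟩ := CharP.exists F
  haveI : Fact p.Prime := ⟨CharP.char_is_prime F p⟩
  set π := QuotientGroup.mk' (Subgroup.center (GL (Fin (m + 3)) F)) with hπ
  have hs : Function.Surjective π := QuotientGroup.mk'_surjective _
  have hnil : ∀ A : Subgroup (GL (Fin (m + 3)) F ⧸ Subgroup.center (GL (Fin (m + 3)) F)),
      Group.IsNilpotent A → Group.IsNilpotent (A.comap π) := fun A hA =>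
    Subgroup.isNilpotent_of_ker_le_center (π.subgroupComap A) fun x hx => by
      have : x.1 ∈ Subgroup.center _ := (QuotientGroup.eq_one_iff _).1 (congrArg Subtype.val hx)
      exact Subgroup.mem_center_iff.2 fun g => Subtype.ext (Subgroup.mem_center_iff.1 this g)
  have he : (Pi.single 0 1 : Fin (m + 3) → F) ≠ 0 := by simp
  have key : ∀ σ : Equiv.Perm (Fin (m + 3)), σ 0 = 0 →
      ∀ A : Subgroup (GL (Fin (m + 3)) F ⧸ Subgroup.center (GL (Fin (m + 3)) F)),
      Group.IsNilpotent A → π (un F σ) ∈ A →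
      A ≤ (lineStab (Pi.single 0 1)).map π := fun σ h A hA hx => by
    rw [← Subgroup.map_comap_eq_self_of_surjective hs A]
    exact Subgroup.map_mono (le_lineStab p (hnil A hA) hx (un_pow F p σ) he (un_fix F σ h)
      (un_uniq F σ h))
  refine FGS.NC.not_cover_sub G ((lineStab (Pi.single 0 1)).map π) (fun h => ?_)
    (hG ⟨_, un_mem F p 1, rfl⟩) (hG ⟨_, un_mem F p (Equiv.swap 1 2), rfl⟩) (key 1 rfl)
    (key _ (Equiv.swap_apply_of_ne_of_ne (by simp [Fin.ext_iff])
      (fun e => absurd (congrArg Fin.val e) (show (0 : ℕ) ≠ 2 by omega))))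
    (fun A hA hx hy => ?_)
  · have h1 := h (hG ⟨_, un_mem F p (Equiv.swap 0 1), rfl⟩)
    rw [← Subgroup.mem_comap, Subgroup.comap_map_eq, sup_eq_left.2] at h1
    · obtain ⟨c, -, hc⟩ := h1
      have := congrFun hc 1
      simp [un_coe, sh, add_mulVec] at this
    · intro z hz
      rw [hπ, QuotientGroup.ker_mk', GeneralLinearGroup.mem_center_iff_val_mem_range_scalar] at hz
      obtain ⟨c, hc⟩ := hz
      refine mem_lineStab he (c := c) ?_
      rw [← hc]
      ext i
      simp [mulVec_diagonal]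
  · have := trace_eq p (hnil A hA) hx (un_pow F p _) hy (un_pow F p _)
    rw [trace_un] at this
    exact one_ne_zero this

end Cfsg.Agent.S3894
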