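import Cfsg.Statements.S3896
import Mathlib
import Cfsg.Agent.FGS.HalfClasses

set_option autoImplicit false
open Cfsg

namespace Cfsg.Agent.S3896

open Subgroup FGS.Half

/-- Let G be a finite group whose largest normal subgroup of odd order is trivial, let P be a Sylow 2-subgroup of G, and suppose the number of conjugacy classes of G consisting of 2-elements (elements of 2-power order, the identity included) is exactly |P|/2. Then G/Z(G) is isomorphic to the alternating or the symmetric group of degree 4, or G/Z(G) has a normal non-abelian simple subgroup with trivial centralizer that is isomorphic to PSL₂(q) for some prime power q > 3 with q ≡ 3 or 5 (mod 8). -/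
theorem result {G : Type*} [Group G] [Finite G] (P : Sylow 2 G) (hO : Cfsg.pPrimeCore 2 G = ⊥)
    (hk : 2 * Nat.card {c : ConjClasses G // ∀ x ∈ c.carrier, ∃ k : ℕ, orderOf x = 2 ^ k} = Nat.card ↥(P : Subgroup G)) :
    Nonempty (G ⧸ Subgroup.center G ≃* ↥(alternatingGroup (Fin 4))) ∨ Nonempty (G ⧸ Subgroup.center G ≃* Equiv.Perm (Fin 4)) ∨
    ∃ S : Subgroup (G ⧸ Subgroup.center G), S.Normal ∧ IsSimpleGroup ↥S ∧ ¬ IsMulCommutative ↥S ∧
      Subgroup.centralizer (S : Set (G ⧸ Subgroup.center G)) = ⊥ ∧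
      ∃ (F : Type) (_ : Field F) (_ : Fintype F), 3 < Fintype.card F ∧ (Fintype.card F % 8 = 3 ∨ Fintype.card F % 8 = 5) ∧
        Nonempty (↥S ≃* Matrix.ProjectiveSpecialLinearGroup (Fin 2) F) := by
  have H : Half (P : Subgroup G) := by
    rw [Half, ← hk, ← Nat.card_coe_set_eq]
    congr 1
    refine Nat.card_congr (Equiv.subtypeEquivRight fun c => ⟨?_, fun h => ?_⟩)
    · rintro ⟨x, rfl⟩ y hy
      obtain ⟨g, rfl⟩ := isConj_iff.1 (ConjClasses.mk_eq_mk_iff_isConj.1
        (ConjClasses.mem_carrier_iff_mk_eq.1 hy)).symm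
      obtain ⟨k, hk⟩ := IsPGroup.iff_orderOf.1 P.2 x
      exact ⟨k, by rw [← hk, ← orderOf_coe]; exact (MulAut.conj g).orderOf_eq x⟩
    · obtain ⟨x, rfl⟩ := ConjClasses.mk_surjective c
      obtain ⟨k, hk⟩ := h x ConjClasses.mem_carrier_mk
      obtain ⟨g, -, h1⟩ := (PLocal.isSylowIn_top P).exists_conj_le (PLocal.Amb.isPGroup_zpowers
        ⟨k, by rw [← hk, pow_orderOf_eq_one]⟩) le_top
      exact ⟨⟨_, h1 (PLocal.conj_mem_map_conj g (mem_zpowers x))⟩,
        ConjClasses.mk_eq_mk_iff_isConj.2 (isConj_iff.2 ⟨g, rfl⟩).symm⟩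
  have h := H.concl P hO
  by_cases hE : layer G = ⊥
  · exact (h.charP P ((PLocal.fstar_eq_pCore_iff 2).1 ((PLocal.fstar_eq_pCore_iff' 2).2
      ⟨hE, hO⟩))).imp_right Or.inl
  obtain ⟨L, hL⟩ : ∃ L : Subgroup G, IsComponent L := by
    simpa [PLocal.layer_eq_bot_iff] using hE
  obtain ⟨h1, h2, h3, F, _, _, h4, h5, ⟨f⟩⟩ := h.comp P hO hL
  obtain ⟨e⟩ := Inv.nonempty_equiv_map_of_inf_ker (QuotientGroup.mk' (center G)) (T := L)
    (by rwa [QuotientGroup.ker_mk'])
  have hq := PLocal.qs_congr hL.2 e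
  have hc : centralizer (L.map (QuotientGroup.mk' (center G)) : Set (G ⧸ center G)) = ⊥ :=
    eq_bot_iff.2 fun c hc => by
      obtain ⟨c, rfl⟩ := QuotientGroup.mk_surjective c
      refine (QuotientGroup.eq_one_iff c).2 (h2.le fun v hv => ?_)
      have h6 : v⁻¹ * (c * v * c⁻¹) ∈ L ⊓ center G := mem_inf.2 ⟨mul_mem
        (inv_mem (show v ∈ L from hv)) (h1.conj_mem v hv c), by
        refine (QuotientGroup.eq_one_iff _).1 ?_
        have := hc _ (mem_map_of_mem _ hv)
        simp only [QuotientGroup.mk'_apply] at this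
        simp [← this]⟩
      rw [h3, mem_bot, inv_mul_eq_one] at h6
      exact (mul_inv_eq_iff_eq_mul.1 h6.symm).symm
  have := PLocal.qs_nontrivial hq
  refine Or.inr (Or.inr ⟨_, h1.map _ (QuotientGroup.mk'_surjective _), ⟨fun M hM => ?_⟩,
    PLocal.qs_not_comm hq, hc, F, inferInstance, inferInstance, h4, h5, ⟨e.symm.trans f⟩⟩)
  refine (PLocal.qs_normal hq M hM).symm.imp_left fun h6 => eq_bot_iff.2 fun x hx => ?_
  exact Subtype.ext (mem_bot.1 (hc.le fun y hy =>
    congrArg Subtype.val (mem_center_iff.1 (h6 hx) ⟨y, hy⟩)))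

end Cfsg.Agent.S3896
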