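import Cfsg.Statements.S3900
import Mathlib
import Cfsg.Agent.Grp.Fitting
import Cfsg.Agent.PLocal.SylowIn
import Cfsg.Agent.Small.FrobTest
import Cfsg.Agent.Block.ZStar
import Cfsg.Agent.Inv.Basic
import Cfsg.Agent.S0205
import Cfsg.Agent.FGS.NilpPi
import Cfsg.Agent.FGS.CentMax

set_option autoImplicit false
open Cfsg

namespace Cfsg.Agent.S3900

open Subgroup PLocal

universe u

variable {G : Type*} [Group G]

/-- commutator -/
abbrev c (a b : G) : G := a * b * a⁻¹ * b⁻¹

/-- left-normed commutator values -/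
def V (k : ℕ) (x : G) : Prop := ∃ (a : G) (l : List G), l.length = k ∧ x = l.foldl c a

theorem V_iff {k : ℕ} {x : G} : V k x ↔ ∃ f : Fin (k + 1) → G,
    x = ((List.ofFn f).tail).foldl (fun a b => a * b * a⁻¹ * b⁻¹) (f 0) := by
  constructor
  · rintro ⟨a, l, rfl, rfl⟩
    exact ⟨Fin.cons a l.get, by simp [List.ofFn_succ]⟩
  · rintro ⟨f, rfl⟩
    exact ⟨f 0, _, by simp, rfl⟩

theorem map_foldl {X : Type*} [Group X] (f : G →* X) (l : List G) (a : G) :
    f (l.foldl c a) = (l.map f).foldl c (f a) := by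
  induction l generalizing a with
  | nil => rfl
  | cons b l ih => simp [ih, c]

theorem V.map {X : Type*} [Group X] (f : G →* X) {k : ℕ} {x : G} (h : V k x) : V k (f x) := by
  obtain ⟨a, l, h1, rfl⟩ := h
  exact ⟨f a, l.map f, by simpa using h1, map_foldl f l a⟩

theorem V.succ {k : ℕ} {x : G} (h : V k x) (y : G) : V (k + 1) (c x y) := by
  obtain ⟨a, l, rfl, rfl⟩ := h
  exact ⟨a, l ++ [y], by simp, by simp⟩

theorem V.pred {k : ℕ} {x : G} (h : V (k + 1) x) : V k x := by
  obtain ⟨a, _ | ⟨b, l⟩, h1, rfl⟩ := h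
  · simp at h1
  · exact ⟨c a b, l, by simpa using h1, rfl⟩

theorem foldl_mem {P : Subgroup G} (l : List G) (hl : ∀ b ∈ l, b ∈ normalizer (P : Set G)) {a : G}
    (ha : a ∈ P) : l.foldl c a ∈ P := by
  induction l generalizing a with
  | nil => exact ha
  | cons b l ih =>
    refine ih (fun x hx => hl x (List.mem_cons_of_mem _ hx)) ?_
    have := mul_mem ha ((mem_normalizer_iff.1 (hl b List.mem_cons_self) _).1 (inv_mem ha))
    simpa [c, mul_assoc] using this

theorem V.mem_lcs {k : ℕ} {x : G} (h : V k x) : x ∈ (⊤ : Subgroup G).lowerCentralSeries k := by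
  obtain ⟨a, l, rfl, rfl⟩ := h
  induction l using List.reverseRecOn with
  | nil => exact mem_top _
  | append_singleton l b ih =>
    rw [List.foldl_append, List.length_append]
    exact commutator_mem_commutator ih (mem_top b)

theorem lcs_eq_bot {k : ℕ} (h : ∀ x : G, V k x → x = 1) :
    (⊤ : Subgroup G).lowerCentralSeries k = ⊥ := by
  have : ∀ (k : ℕ) (x : G), (∀ l : List G, l.length = k → l.foldl c x = 1) →
      x ∈ Subgroup.upperCentralSeries G k := fun k => by
    induction k with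
    | zero => exact fun x hx => hx [] rfl
    | succ k ih => exact fun x hx y => ih _ fun l hl => hx (y :: l) (by simp [hl])
  exact lowerCentralSeries_eq_bot_iff_upperCentralSeries_eq_top.2
    (eq_top_iff.2 fun x _ => this k x fun l hl => h _ ⟨x, l, hl, rfl⟩)

variable [Finite G] {p : ℕ} [hp : Fact p.Prime]

theorem cop {B : Subgroup G} (hB : IsPGroup p B) {u : G} (hu : u ∈ B) {n : ℕ} (hn : n.Coprime p) :
    (orderOf u).Coprime n := by
  obtain ⟨k, hk⟩ := IsPGroup.iff_orderOf.1 hB ⟨u, hu⟩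
  rw [orderOf_mk] at hk
  rw [hk]; exact Nat.Coprime.pow_left _ hn.symm

theorem engel {B : Subgroup G} (hB : IsPGroup p B) {g : G} (hg : g ∈ normalizer (B : Set G))
    (hc : (orderOf g).Coprime p) (n : ℕ) :
    ∀ h ∈ B, (List.replicate n g).foldl c h = 1 → c h g = 1 := by
  induction n with
  | zero => intro h _ e; rw [show h = 1 from e]; simp [c]
  | succ n ih =>
    intro h hh e
    have hu : c h g ∈ B := foldl_mem [g] (by simpa using hg) hh
    have h1 := ih _ hu e
    rw [c, mul_inv_eq_one, mul_inv_eq_iff_eq_mul] at h1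
    have h2 := (show Commute (c h g) g from h1).orderOf_mul_eq_mul_orderOf_of_coprime (cop hB hu hc)
    rw [c, inv_mul_cancel_right, Inv.orderOf_conj_eq, eq_comm, mul_eq_right₀ (orderOf_pos g).ne',
      orderOf_eq_one_iff] at h2
    exact h2

theorem exists_lift_mem {X : Type*} [Group X] {f : G →* X} (hf : Function.Surjective f)
    {B : Subgroup X} (hB : IsPGroup p B) {P : Subgroup G} (hP : IsSylowIn p P (B.comap f)) {b : X}
    (hb : b ∈ B) : ∃ y ∈ P, f y = b := by
  obtain ⟨S, rfl⟩ := hP.exists_sylow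
  have hs := f.subgroupComap_surjective_of_surjective B hf
  have := (S.mapSurjective hs).3 (hB.to_subgroup ⊤) le_top
  obtain ⟨y, hy, e⟩ := this.le (mem_top ⟨b, hb⟩)
  exact ⟨y, ⟨y, hy, rfl⟩, congrArg Subtype.val e⟩

theorem lift {X : Type*} [Group X] {f : G →* X} (hf : Function.Surjective f)
    {B : Subgroup X} (hB : IsPGroup p B) {g : X} (hg : g ∈ normalizer (B : Set X))
    (hc : (orderOf g).Coprime p) (hn : g ∉ centralizer (B : Set X)) (k : ℕ) :
    ∃ x : G, V k x ∧ IsPGroup p (zpowers x) ∧ f x ∈ B ∧ f x ≠ 1 := by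
  haveI : Finite X := Finite.of_surjective f hf
  obtain ⟨P, hP⟩ := exists_isSylowIn p (B.comap f)
  obtain ⟨g0, rfl⟩ := hf g
  obtain ⟨b, hb, n, hn', e⟩ := hP.frattini (g := g0) (le_normalizer_comap f hg)
  obtain ⟨y, hy, e'⟩ := exists_lift_mem hf hB hP hb
  have ha : y * n ∈ normalizer (P : Set G) := mul_mem (le_normalizer hy) hn'
  have hfa : f (y * n) = f g0 := by rw [e, map_mul, map_mul, e']
  obtain ⟨h, hh, hne⟩ : ∃ h ∈ B, c h (f g0) ≠ 1 := by
    by_contra hx
    push Not at hx
    exact hn fun h hh => by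
      have := hx h hh
      rwa [c, mul_inv_eq_one, mul_inv_eq_iff_eq_mul] at this
  obtain ⟨h, hhP, rfl⟩ := exists_lift_mem hf hB hP hh
  have hx : (List.replicate k (y * n)).foldl c h ∈ P :=
    foldl_mem _ (fun b hb => List.eq_of_mem_replicate hb ▸ ha) hhP
  refine ⟨_, ⟨h, List.replicate k (y * n), by simp, rfl⟩, hP.isPGroup.to_le (zpowers_le.2 hx),
    hP.le hx, fun e => hne (engel hB hg hc k _ hh ?_)⟩
  rwa [map_foldl, List.map_replicate, hfa] at e

theorem mem_fitting {W : Subgroup G} [W.Normal] (hW : ∀ w ∈ W, ∃ a, w ^ p ^ a ∈ fittingSubgroup G)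
    {x : G} (hx : x ∈ W) (hc : x ∈ centralizer ((fittingSubgroup G ⊓ pPrimeCore p G : Subgroup G) : Set G)) :
    x ∈ fittingSubgroup G := by
  set D : Subgroup G := fittingSubgroup G ⊓ pPrimeCore p G
  set C : Subgroup G := W ⊓ centralizer (D : Set G)
  let φ := ((QuotientGroup.mk' D).comp C.subtype).rangeRestrict
  haveI : Group.IsNilpotent ((QuotientGroup.mk' D).comp C.subtype).range := by
    refine IsPGroup.isNilpotent (p := p) ?_
    rintro ⟨_, w, rfl⟩
    obtain ⟨a, ha⟩ := hW w w.2.1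
    obtain ⟨u, hu, d, hd, e⟩ := mem_sup_of_normal_left.1 (Grp.fitting_le_pCore_sup_pPrimeCore p ha)
    have hdD : d ∈ D := ⟨(mul_mem_cancel_left (Grp.pCore_le_fitting p hu)).1 (e ▸ ha), hd⟩
    obtain ⟨b, hb⟩ := Grp.pCore_isPGroup p G ⟨u, hu⟩
    refine ⟨a + b, Subtype.ext ?_⟩
    show QuotientGroup.mk' D w ^ p ^ (a + b) = 1
    rw [pow_add, pow_mul, ← map_pow _ _ (p ^ a), ← e, map_mul,
      show QuotientGroup.mk' D d = 1 from (QuotientGroup.eq_one_iff _).2 hdD, mul_one, ← map_pow,
      show u ^ p ^ b = 1 from congrArg Subtype.val hb, map_one]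
  refine Grp.le_fitting (N := C) inferInstance (Subgroup.isNilpotent_of_ker_le_center φ fun y hy => ?_) ⟨hx, hc⟩
  have : (y : G) ∈ D := (QuotientGroup.eq_one_iff _).1 (congrArg Subtype.val hy)
  exact mem_center_iff.2 fun z => Subtype.ext (z.2.2 y this).symm

/-- the consequence of the hypothesis that is used -/
def K (k : ℕ) (G : Type*) [Group G] : Prop :=
  ∀ x : G, V k x → ∀ y, (orderOf x).Coprime (orderOf (c x y)) → c x y = 1

omit hp in
theorem K.cent {k : ℕ} (h : K k G) {x : G} (hx : V k x) (N : Subgroup G) [hN : N.Normal]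
    (hc : (orderOf x).Coprime (Nat.card N)) : x ∈ centralizer (N : Set G) := fun y hy => by
  have := h x hx y (hc.coprime_dvd_right (N.orderOf_dvd_natCard
    (mul_mem (hN.conj_mem y hy x) (inv_mem hy))))
  rw [c, mul_inv_eq_one, mul_inv_eq_iff_eq_mul] at this
  exact this.symm

theorem K.mem_fit {k : ℕ} (h : K k G) {x : G} (hx : V k x) (hP : IsPGroup p (zpowers x))
    (hx' : QuotientGroup.mk' (fittingSubgroup G) x ∈ pCore p (G ⧸ fittingSubgroup G)) :
    x ∈ fittingSubgroup G := by
  refine mem_fitting (p := p) (W := (pCore p _).comap (QuotientGroup.mk' (fittingSubgroup G)))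
    (fun w hw => ?_) hx' (h.cent hx _ (cop hP (mem_zpowers x)
      (Grp.coprime_of_le_pPrimeCore inf_le_right)))
  obtain ⟨a, ha⟩ := Grp.pCore_isPGroup p _ ⟨_, hw⟩
  exact ⟨a, (QuotientGroup.eq_one_iff _).1 (congrArg Subtype.val ha)⟩

omit hp in
theorem nilp_of [Group.IsSolvable G] (h : ∀ p : ℕ, p.Prime → ∀ g : G, (orderOf g).Coprime p →
    g ∈ centralizer (pCore p G : Set G)) : Group.IsNilpotent G := by
  rw [← Grp.fitting_eq_top_iff]
  by_contra hne
  haveI : Nontrivial (G ⧸ fittingSubgroup G) := QuotientGroup.nontrivial_iff.2 hne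
  obtain ⟨q, M, pq, hMn, hM1, -, hMq, hMP, -⟩ :=
    Grp.exists_minNormal_elementaryAbelian (G ⧸ fittingSubgroup G)
  haveI : Fact q.Prime := ⟨pq⟩
  obtain ⟨⟨m, hm⟩, hm1⟩ := ne_bot_iff_exists_ne_one.1 hM1
  obtain ⟨P, hP⟩ := exists_isSylowIn q (M.comap (QuotientGroup.mk' (fittingSubgroup G)))
  obtain ⟨w, hw, rfl⟩ := exists_lift_mem (QuotientGroup.mk'_surjective _) hMP hP hm
  refine hm1 (Subtype.ext ((QuotientGroup.eq_one_iff _).2 (mem_fitting (p := q) (fun w hw =>
    ⟨1, by rw [pow_one]; exact (QuotientGroup.eq_one_iff _).1 (hMq _ hw)⟩) (hP.le hw) ?_)))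
  set D : Subgroup G := fittingSubgroup G ⊓ pPrimeCore q G
  have : (centralizer ({w} : Set G)).subgroupOf D = ⊤ := Grp.eq_top_of_forall_sylow_le fun p pp => by
    haveI : Fact p.Prime := ⟨pp⟩
    obtain ⟨S⟩ : Nonempty (Sylow p D) := inferInstance
    refine ⟨S, fun s hs => mem_centralizer_singleton_iff.2 ?_⟩
    have h1 : IsPGroup p ((S : Subgroup D).map D.subtype) := S.2.map _
    by_cases e : p = q
    · subst e
      have := Grp.inf_eq_bot_of_isPGroup_of_coprime h1 (Grp.pPrimeCore_coprime p G)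
      rw [mem_bot.1 (this.le (mem_inf.2 ⟨⟨s, hs, rfl⟩, s.2.2⟩) : D.subtype s ∈ ⊥), one_mul, mul_one]
    · exact h p pp w (cop hP.isPGroup hw ((Nat.coprime_primes pp pq).2 e)) _
        (Grp.le_pCore_of_le_fitting h1 ((map_subtype_le _).trans inf_le_left) ⟨s, hs, rfl⟩)
  exact fun d hd => mem_centralizer_singleton_iff.1 (subgroupOf_eq_top.1 this hd)

omit hp in
theorem K.nilp [Group.IsSolvable G] {k : ℕ} (h : K k G) :
    Group.IsNilpotent ((⊤ : Subgroup G).lowerCentralSeries k) := by
  have hs := QuotientGroup.mk'_surjective (fittingSubgroup G)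
  haveI : Group.IsNilpotent (G ⧸ fittingSubgroup G) := nilp_of fun p pp g hg => by
    haveI : Fact p.Prime := ⟨pp⟩
    by_contra hn
    obtain ⟨x, h1, h2, h3, h4⟩ := lift hs (Grp.pCore_isPGroup p _)
      (by rw [normalizer_eq_top]; trivial) hg hn k
    exact h4 ((QuotientGroup.eq_one_iff _).2 (h.mem_fit h1 h2 h3))
  refine Grp.isNilpotent_of_le_fitting fun y hy => ?_
  rw [← QuotientGroup.eq_one_iff, ← orderOf_eq_one_iff]
  by_contra hne
  obtain ⟨p, pp, hd⟩ := Nat.exists_prime_and_dvd hne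
  haveI : Fact p.Prime := ⟨pp⟩
  set X := G ⧸ fittingSubgroup G
  let f := (QuotientGroup.mk' (pPrimeCore p X)).comp (QuotientGroup.mk' (fittingSubgroup G))
  have hf : Function.Surjective f := (QuotientGroup.mk'_surjective _).comp hs
  have hX : IsPGroup p (⊤ : Subgroup (X ⧸ pPrimeCore p X)) := by
    obtain ⟨n, hn⟩ := Grp.card_pCore p X
    exact (IsPGroup.of_card ((Grp.isComplement'_pCore_pPrimeCore_of_isNilpotent p).index_eq_card.trans
      hn)).to_subgroup ⊤
  obtain ⟨P, hP⟩ := exists_isSylowIn p ((⊤ : Subgroup (X ⧸ pPrimeCore p X)).comap f)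
  choose s hs1 hs2 using fun b => exists_lift_mem hf hX hP (mem_top b)
  have h1 : (⊤ : Subgroup (X ⧸ pPrimeCore p X)).lowerCentralSeries k = ⊥ := lcs_eq_bot <| by
    rintro _ ⟨a, l, hl, rfl⟩
    have hx : (l.map s).foldl c (s a) ∈ P := foldl_mem _ (fun b hb => by
      obtain ⟨b, -, rfl⟩ := List.mem_map.1 hb
      exact le_normalizer (hs1 b)) (hs1 a)
    have h2 := hP.isPGroup.to_le (zpowers_le.2 hx)
    have h3 := h.mem_fit ⟨s a, l.map s, by simpa using hl, rfl⟩ h2
      (Grp.le_pCore_of_isNilpotent (h2.map _) (mem_map_of_mem _ (mem_zpowers _)))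
    have h4 : f ((l.map s).foldl c (s a)) = 1 := by
      rw [MonoidHom.comp_apply, show QuotientGroup.mk' (fittingSubgroup G) _ = 1 from
        (QuotientGroup.eq_one_iff _).2 h3, map_one]
    rwa [map_foldl, List.map_map, show f ∘ s = id from funext hs2, List.map_id, hs2] at h4
  have h2 := mem_map_of_mem f hy
  rw [map_lowerCentralSeries, map_top_of_surjective f hf, h1, mem_bot] at h2
  exact (pp.coprime_iff_not_dvd.1 (Grp.orderOf_coprime_of_mem_pPrimeCore
    ((QuotientGroup.eq_one_iff _).1 h2)).symm) hd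

omit hp in
theorem K.not_qs {k : ℕ} (h : K k G) [hs : IsSimpleGroup (G ⧸ center G)]
    (hna : ¬ Group.IsSolvable (G ⧸ center G)) : False := by
  set π := QuotientGroup.mk' (center G)
  have hπ : Function.Surjective π := QuotientGroup.mk'_surjective (center G)
  have hZ : ∀ {x : G}, π x = 1 → ∀ y, Commute x y := fun hx y =>
    (mem_center_iff.1 ((QuotientGroup.eq_one_iff _).1 hx) y).symm
  have hO : pPrimeCore 2 (G ⧸ center G) = ⊥ := by
    rcases (inferInstance : (pPrimeCore 2 (G ⧸ center G)).Normal).eq_bot_or_eq_top with e | e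
    · exact e
    · exact absurd (S0205.result (Nat.coprime_two_right.1 (Grp.pPrimeCore_eq_top_iff.1 e))) hna
  have hO2 : pCore 2 (G ⧸ center G) = ⊥ := by
    rcases (inferInstance : (pCore 2 (G ⧸ center G)).Normal).eq_bot_or_eq_top with e | e
    · exact e
    · haveI : Group.IsNilpotent (G ⧸ center G) := (Grp.pCore_eq_top_iff.1 e).isNilpotent
      exact (hna inferInstance).elim
  have key : ∀ j, ∃ x : G, V j x ∧ (∃ a, x ^ 2 ^ a = 1) ∧ orderOf (π x) = 2 := fun j => by
    induction j with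
    | zero =>
      have h2 : 2 ∣ Nat.card (G ⧸ center G) := by
        by_contra h'
        exact hna (S0205.result (Nat.odd_iff.2 (Nat.two_dvd_ne_zero.1 h')))
      obtain ⟨t, ht⟩ := exists_prime_orderOf_dvd_card' 2 h2
      have hT : IsPGroup 2 (zpowers t) := .of_card (n := 1) (by rw [Nat.card_zpowers, ht, pow_one])
      obtain ⟨P, hP⟩ := exists_isSylowIn 2 ((zpowers t).comap π)
      obtain ⟨x, hx, rfl⟩ := exists_lift_mem hπ hT hP (mem_zpowers t)
      obtain ⟨a, ha⟩ := hP.isPGroup ⟨x, hx⟩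
      exact ⟨x, ⟨x, [], rfl, rfl⟩, ⟨a, congrArg Subtype.val ha⟩, ht⟩
    | succ j ih =>
      obtain ⟨x, h1, ⟨a, h2⟩, h3⟩ := ih
      have hxx := Inv.mul_self_of_orderOf_eq_two h3
      obtain ⟨g, hc, hne⟩ : ∃ g, Commute (π x) (g * π x * g⁻¹) ∧ g * π x * g⁻¹ ≠ π x := by
        by_contra hn
        push Not at hn
        have : π x ∈ center (G ⧸ center G) := mem_center_iff.2 fun g => by
          have := Block.zstar ⟨h3, hn⟩ g
          rw [hO, mem_bot, mul_inv_eq_one, mul_inv_eq_iff_eq_mul] at this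
          exact this.symm
        rcases (inferInstance : (center (G ⧸ center G)).Normal).eq_bot_or_eq_top with e | e
        · exact Inv.ne_one_of_orderOf_eq_two h3 (mem_bot.1 (e ▸ this))
        · exact hna (Group.isSolvable_of_comm fun a b => mem_center_iff.1 (e ▸ mem_top b) a)
      obtain ⟨g, rfl⟩ := hπ g
      set y := g * x⁻¹ * g⁻¹ with hy
      have hπy : π y = π g * π x * (π g)⁻¹ := by
        rw [hy, map_mul, map_mul, map_inv, map_inv, Inv.inv_eq_of_orderOf_eq_two h3]
      have hyy : π y * π y = 1 := by rw [hπy]; exact Inv.conj_mul_self hxx _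
      have hxy : c x g = x * y := by rw [hy, c]; group
      have hy2 : y ^ 2 ^ a = 1 := by rw [hy, conj_pow, inv_pow, h2]; simp
      refine ⟨c x g, h1.succ g, ⟨a + 1, ?_⟩, ?_⟩
      · have hz : π (c y x) = 1 := by
          simp only [c, map_mul, map_inv]
          rw [← hπy] at hc
          rw [← hc.eq]; group
        have h4 := FGS.CentMax.conj_pow_pow (x := y) (y := x) (c := c y x) (by rw [c]; group)
          (hZ hz y) (hZ hz x) (2 ^ a) 1
        rw [hy2, one_mul, inv_one, mul_one, mul_one, eq_comm, mul_eq_right] at h4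
        have h5 : (x * y) ^ 2 = c y x * (x ^ 2 * y ^ 2) := by
          calc _ = x * c y x * (x * y ^ 2) := by rw [c, pow_two, pow_two]; group
            _ = _ := by rw [← (hZ hz x).eq, pow_two x]; simp only [mul_assoc]
        rw [hxy, pow_succ', pow_mul, h5, (hZ hz _).mul_pow, h4, one_mul,
          (hZ (x := x ^ 2) (by rw [map_pow, pow_two, hxx]) _).mul_pow, ← pow_mul, ← pow_mul,
          mul_comm, pow_mul, pow_mul, h2, hy2]
        simp
      · rw [hxy, map_mul]
        refine Inv.orderOf_eq_two_of_mul_self (fun e => hne ?_) ?_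
        · rw [← hπy, ← mul_eq_one_iff_inv_eq.1 e, Inv.inv_eq_of_orderOf_eq_two h3]
        · rw [← hπy] at hc
          rw [mul_assoc, ← mul_assoc (π y), ← hc.eq, mul_assoc, hyy, mul_one, hxx]
  obtain ⟨x, h1, ⟨a, h2⟩, h3⟩ := key k
  obtain ⟨g, hg1, hgo, hg⟩ := Inv.exists_odd_inverted_of_not_mem_pCore h3
    (by rw [hO2]; exact Inv.ne_one_of_orderOf_eq_two h3)
  obtain ⟨g, rfl⟩ := hπ g
  obtain ⟨b, m, hm, e⟩ := Nat.exists_eq_two_pow_mul_odd (orderOf_pos g).ne'
  have h4 : (g ^ 2 ^ b) ^ m = 1 := by rw [← pow_mul, ← e, pow_orderOf_eq_one]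
  have h5 := Inv.conj_pow_of_inverts hg (2 ^ b)
  rw [← map_pow] at h5
  have h6 : π (g ^ 2 ^ b) ≠ 1 := fun e => hg1 <| by
    rw [map_pow] at e
    exact orderOf_eq_one_iff.1 (Nat.eq_one_of_dvd_coprimes
      (Nat.Coprime.pow_left b (Nat.coprime_two_left.2 hgo)) (orderOf_dvd_of_pow_eq_one e) dvd_rfl)
  generalize g ^ 2 ^ b = y at h4 h5 h6
  have h7 : Commute (x * y * x⁻¹) y⁻¹ := by
    have : π (x * y * x⁻¹ * y) = 1 := by simp only [map_mul, map_inv, h5, inv_mul_cancel]
    simpa using ((hZ this y⁻¹).mul_left (Commute.refl y⁻¹))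
  have h8 := h x h1 y (Nat.Coprime.coprime_dvd_left (orderOf_dvd_of_pow_eq_one h2)
    (Nat.Coprime.pow_left _ (Nat.coprime_two_left.2 (hm.of_dvd_nat (orderOf_dvd_of_pow_eq_one (by
      rw [c, h7.mul_pow, conj_pow, inv_pow, h4]; simp))))))
  rw [c, mul_inv_eq_one] at h8
  rw [← map_mul, ← map_inv, ← map_mul, h8] at h5
  exact h6 (Inv.eq_one_of_mul_self_of_odd (mul_eq_one_iff_eq_inv.2 h5)
    ((hm.of_dvd_nat (orderOf_dvd_of_pow_eq_one h4)).of_dvd_nat (orderOf_map_dvd _ _)))

theorem solvable (k : ℕ) : ∀ (n : ℕ) (G : Type u) [Group G] [Finite G], Nat.card G = n → K k G →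
    Group.IsSolvable G := by
  intro n
  induction n using Nat.strong_induction_on with
  | _ n ih =>
  intro G _ _ hn h
  by_contra hns
  have hsub : ∀ H : Subgroup G, H ≠ ⊤ → Group.IsSolvable H := fun H hH =>
    ih _ (hn ▸ Grp.card_lt_of_ne_top hH) H rfl fun x hx y hc => Subtype.ext
      (h x (hx.map H.subtype) y (by rw [← orderOf_coe, ← orderOf_coe] at hc; exact hc))
  obtain ⟨R, hRn, hR, -, hmax⟩ := Grp.exists_le_maxNormal (⊥ : Subgroup G) fun e => by
    haveI := Subgroup.subsingleton_iff.1 (subsingleton_of_bot_eq_top e)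
    exact hns inferInstance
  haveI := hsub R hR
  have hq : ¬ Group.IsSolvable (G ⧸ R) := fun _ =>
    hns ((Group.isSolvable_iff_subgroup_quotient R).2 ⟨inferInstance, inferInstance⟩)
  haveI : Nontrivial (G ⧸ R) := QuotientGroup.nontrivial_iff.2 hR
  have hs := QuotientGroup.mk'_surjective R
  haveI hsi : IsSimpleGroup (G ⧸ R) := ⟨fun N hN => by
    rcases hmax _ inferInstance (QuotientGroup.le_comap_mk' R N) with e | e
    · exact Or.inl (comap_injective hs (by rw [e, MonoidHom.comap_bot, QuotientGroup.ker_mk']))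
    · exact Or.inr (comap_injective hs (by rw [e, comap_top]))⟩
  have hle : ∀ C : Subgroup G, C.Normal → C ≠ ⊤ → C ≤ R := fun C hC hT => by
    haveI := hsub C hT
    rcases (hC.map _ hs).eq_bot_or_eq_top with e | e
    · rwa [Subgroup.map_eq_bot_iff, QuotientGroup.ker_mk'] at e
    · haveI := Grp.isSolvable_map C (QuotientGroup.mk' R)
      rw [e] at this
      exact absurd (Group.isSolvable_of_surjective (f := (⊤ : Subgroup (G ⧸ R)).subtype)
        fun x => ⟨⟨x, trivial⟩, rfl⟩) hq
  have hF : fittingSubgroup G ≤ center G := by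
    rw [Grp.fitting_eq_iSup_pCore]
    refine iSup_le ?_
    rintro ⟨q, pq⟩
    haveI : Fact q.Prime := ⟨pq⟩
    refine (centralizer_eq_top_iff_subset (s := (pCore q G : Set G))).1 ?_
    by_contra hT
    obtain ⟨p, pp, hd, hpq⟩ : ∃ p : ℕ, p.Prime ∧ p ∣ Nat.card (G ⧸ R) ∧ p ≠ q := by
      by_contra hx
      push Not at hx
      haveI := (IsPGroup.of_card (Nat.eq_prime_pow_of_unique_prime_dvd Nat.card_pos.ne'
        (hx _))).isNilpotent
      exact hq inferInstance
    haveI : Fact p.Prime := ⟨pp⟩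
    obtain ⟨B, r, g, h1, pr, hrp, ⟨j, hj⟩, h2, h3⟩ := Transfer.exists_qElement_of_not_hasNormalPComplement
      (Small.not_hasNormalPComplement (fun hc => hq (Group.isSolvable_of_comm hc.1.1)) hd)
    obtain ⟨x, x1, x2, -, x4⟩ := lift hs h1 h2 (by
      rw [hj]; exact Nat.Coprime.pow_left _ ((Nat.coprime_primes pr pp).2 hrp)) h3 k
    exact x4 ((QuotientGroup.eq_one_iff _).2 (hle _ inferInstance hT (h.cent x1 _
      (cop x2 (mem_zpowers x) (Grp.coprime_card_of_isPGroup_of_ne hpq.symm (Grp.pCore_isPGroup q G))))))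
  have hRZ : R = center G := le_antisymm ((Grp.le_fitting_of_le_centralizer_fitting R
    fun r _ z hz => (mem_center_iff.1 (hF hz) r).symm).trans hF) (hle _ inferInstance fun e =>
      hns (Group.isSolvable_of_comm fun a b => mem_center_iff.1 (e ▸ mem_top b) a))
  subst hRZ
  exact h.not_qs hq


/-- A criterion of Baumslag–Wiegold type for a term of the lower central series. Let G be a finite group and k ≥ 0; call an element a left-normed commutator value of length k + 1 when it has the form [[…[x₀, x₁], …], x_k] with k + 1 entries (for k = 0, any element), where [a, b] = aba⁻¹b⁻¹. Then the (k+1)-st term γ_{k+1}(G) of the lower central series (γ₁(G) = G) is nilpotent if and only if for every two such values x, y of coprime orders, either every prime dividing o(x)·o(y) divides o(xy), or o(x)·o(y) ≤ o(xy). -/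
theorem result {G : Type*} [Group G] [Finite G] (k : ℕ) :
    Group.IsNilpotent ↥((⊤ : Subgroup G).lowerCentralSeries k) ↔
      ∀ x y : G, (∃ f : Fin (k + 1) → G, x = ((List.ofFn f).tail).foldl (fun a b => a * b * a⁻¹ * b⁻¹) (f 0)) → (∃ f : Fin (k + 1) → G, y = ((List.ofFn f).tail).foldl (fun a b => a * b * a⁻¹ * b⁻¹) (f 0)) → (orderOf x).Coprime (orderOf y) →
        (∀ r : ℕ, r.Prime → r ∣ orderOf x * orderOf y → r ∣ orderOf (x * y)) ∨ orderOf x * orderOf y ≤ orderOf (x * y) := by
  simp only [← V_iff]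
  constructor
  · intro hn x y hx hy hc
    right
    have := FGS.commute_of_coprime_of_isNilpotent (G := (⊤ : Subgroup G).lowerCentralSeries k)
      (x := ⟨x, hx.mem_lcs⟩) (y := ⟨y, hy.mem_lcs⟩) (by rwa [orderOf_mk, orderOf_mk])
    exact ((show Commute x y from congrArg Subtype.val this).orderOf_mul_eq_mul_orderOf_of_coprime
      hc).ge
  · intro h
    have hK : K k G := fun x hx y hc => by
      have ho : orderOf (y * x * y⁻¹) = orderOf x := Inv.orderOf_conj_eq y x
      have := h (c x y) (y * x * y⁻¹) (hx.succ y).pred (hx.map (MulAut.conj y).toMonoidHom)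
        (by rw [ho]; exact hc.symm)
      rw [show c x y * (y * x * y⁻¹) = x * y * 1 * y⁻¹ by rw [c]; group, mul_one,
        mul_inv_cancel_right, ho] at this
      rw [← orderOf_eq_one_iff]
      rcases this with h1 | h1
      · by_contra hne
        obtain ⟨r, pr, hr⟩ := Nat.exists_prime_and_dvd hne
        exact pr.one_lt.ne' (Nat.eq_one_of_dvd_coprimes hc (h1 r pr (hr.mul_right _)) hr)
      · have := orderOf_pos x
        have := orderOf_pos (c x y)
        nlinarith
    haveI := solvable k _ G rfl hK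
    exact hK.nilp

end Cfsg.Agent.S3900
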