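import Cfsg.Statements.S4006
import Mathlib
import Cfsg.Agent.S3331
import Cfsg.Agent.Recog.Fpf3
import Cfsg.Agent.Char.Burnside
import Cfsg.Agent.Grp.Fitting
import Cfsg.Agent.Solv.Coprime3
import Cfsg.Agent.FGS.NilpPi
import Cfsg.Agent.RankOne.Inverted
import Cfsg.Agent.Grp.UniqueOrderP
import Cfsg.Agent.KSG.PSL2

set_option autoImplicit false
open Cfsg

namespace Cfsg.Agent.S4006

open Subgroup Cfsg.Agent.Recog
open scoped commutatorElement

section
variable {G : Type*} [Group G] [Finite G]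

theorem elem_of_s3 {N : Subgroup G} [hN : N.Normal] {x t : G} (hx : Fpf3 N x) (ht : t * t = 1)
    (htx : t * x * t⁻¹ = x⁻¹) (h1 : ∀ u ∈ N, (t * u) ^ 4 = 1)
    (h2 : ∀ u ∈ N, (t * x * u) ^ 4 = 1) : ∀ u ∈ N, u ^ 2 = 1 := by
  have hsq : ∀ s : G, s * s = 1 → ∀ u : G, (s * u) ^ 4 = 1 → (s * u * s⁻¹ * u) ^ 2 = 1 := by
    intro s hs u hu
    rw [inv_eq_of_mul_eq_one_right hs, ← hu, show (4 : ℕ) = 2 * 2 by rfl, pow_mul, sq (s * u)]
    congr 1; group
  have htx2 : t * x * (t * x) = 1 := by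
    calc t * x * (t * x) = (t * x * t⁻¹) * (t * t) * x := by group
      _ = 1 := by rw [htx, ht]; group
  -- central elements have order at most two
  have hZ : ∀ z ∈ N, (∀ u ∈ N, Commute u z) → z ^ 2 = 1 := by
    intro z hz hc
    have key : ∀ s : G, s * s = 1 → (s * z) ^ 4 = 1 → s * z ^ 2 * s⁻¹ = (z ^ 2)⁻¹ := by
      intro s hs h
      have := hsq s hs z h
      rw [(hc _ (hN.conj_mem z hz s)).mul_pow, conj_pow] at this
      exact eq_inv_of_mul_eq_one_left this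
    have e1 := key t ht (h1 z hz)
    have e2 := key _ htx2 (h2 z hz)
    refine hx.fpf _ (pow_mem hz 2) ?_
    rw [← e1] at e2
    calc x * z ^ 2 * x⁻¹ = t⁻¹ * (t * x * z ^ 2 * (t * x)⁻¹) * t := by group
      _ = z ^ 2 := by rw [e2]; group
  have hcm : ∀ u ∈ N, ∀ v ∈ N, ⁅u, v⁆ ∈ N := fun u hu v hv => by
    rw [commutatorElement_def]
    exact mul_mem (mul_mem (mul_mem hu hv) (inv_mem hu)) (inv_mem hv)
  have hc2 : ∀ u ∈ N, ∀ v ∈ N, ⁅u, v⁆ ^ 2 = 1 := fun u hu v hv =>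
    hZ _ (hcm u hu v hv) fun w hw => hx.class_two hu hv hw
  have hsqc : ∀ u ∈ N, ∀ v ∈ N, Commute v (u ^ 2) := fun u hu v hv => by
    have e := hc2 u hu v hv
    have c := (hx.class_two hu hv hu).eq
    refine (commutatorElement_eq_one_iff_commute.1 ?_).symm
    calc ⁅u ^ 2, v⁆ = (u * ⁅u, v⁆) * u⁻¹ * ⁅u, v⁆ := by
          simp only [commutatorElement_def, sq]; group
      _ = 1 := by rw [c, mul_inv_cancel_right, ← sq, e]
  have hA : ∀ u ∈ N, t * u * t⁻¹ * u ∈ N := fun u hu => mul_mem (hN.conj_mem u hu t) hu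
  have hA2 : ∀ u ∈ N, (t * u * t⁻¹ * u) ^ 2 = 1 := fun u hu => hsq t ht u (h1 u hu)
  have hAc : ∀ u ∈ N, ∀ v ∈ N, Commute (t * u * t⁻¹ * u) (t * v * t⁻¹ * v) := by
    intro u hu v hv
    have e := hA2 _ (mul_mem hu hv)
    have hv' := hN.conj_mem v hv t
    have hu' := hN.conj_mem u hu t
    have e1 : t * (u * v) * t⁻¹ * (u * v) =
        ⁅t * v * t⁻¹, u⁆ * ((t * u * t⁻¹ * u) * (t * v * t⁻¹ * v)) := by
      calc _ = (t * u * t⁻¹ * ⁅t * v * t⁻¹, u⁆) * u * (t * v * t⁻¹ * v) := by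
            simp only [commutatorElement_def]; group
        _ = _ := by rw [(hx.class_two hv' hu hu').eq]; group
    rw [e1, (hx.class_two hv' hu (mul_mem (hA u hu) (hA v hv))).symm.mul_pow, hc2 _ hv' _ hu,
      one_mul] at e
    have ea := hA2 u hu
    have eb := hA2 v hv
    generalize t * u * t⁻¹ * u = a at *
    generalize t * v * t⁻¹ * v = b at *
    rw [sq] at e ea eb
    show a * b = b * a
    rw [← inv_eq_of_mul_eq_one_right e, mul_inv_rev, inv_eq_of_mul_eq_one_right ea,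
      inv_eq_of_mul_eq_one_right eb]
  have hAx : ∀ a ∈ N, ∀ b ∈ N, Commute a b → Commute a (x * b * x⁻¹) := fun a ha b hb hc =>
    hx.commute_conj_of_commute ha hb hc
  intro v hv
  have hq : x⁻¹ * v * x ∈ N := hx.inv_conj_mem hv
  have hp : x * (t * v * t⁻¹) * x⁻¹ ∈ N := hx.conj_mem (hN.conj_mem v hv t)
  have c := hAx _ (hA _ hq) _ (hA v hv) (hAc _ hq v hv)
  have ea := hA2 _ hq
  have eb : (x * (t * v * t⁻¹ * v) * x⁻¹) ^ 2 = 1 := by rw [conj_pow, hA2 v hv]; group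
  have e := c.mul_pow 2
  rw [ea, eb, one_mul] at e
  have e1 : t * (x⁻¹ * v * x) * t⁻¹ = x * (t * v * t⁻¹) * x⁻¹ := by
    calc _ = (t * x * t⁻¹)⁻¹ * (t * v * t⁻¹) * (t * x * t⁻¹) := by group
      _ = _ := by rw [htx, inv_inv]
  have e2 : x⁻¹ * v * x * (x * v * x⁻¹) = v⁻¹ :=
    eq_inv_of_mul_eq_one_right (by rw [← mul_assoc]; exact hx.prod' hv)
  rw [e1, show x * (t * v * t⁻¹ * v) * x⁻¹ = x * (t * v * t⁻¹) * x⁻¹ * (x * v * x⁻¹) by group] at e
  generalize x * (t * v * t⁻¹) * x⁻¹ = p at *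
  generalize x⁻¹ * v * x = q at *
  generalize x * v * x⁻¹ = r at *
  have e3 : p * q * (p * r) = (p ^ 2 * ⁅p⁻¹, q⁆) * v⁻¹ := by
    rw [← e2]; simp only [commutatorElement_def, sq]; group
  have hz : ∀ w ∈ N, Commute w (p ^ 2 * ⁅p⁻¹, q⁆) := fun w hw =>
    (hsqc p hp w hw).mul_right (hx.class_two (inv_mem hp) hq hw)
  rw [e3, (hz _ (inv_mem hv)).symm.mul_pow, hZ _ (mul_mem (pow_mem hp 2) (hcm _ (inv_mem hp) _ hq)) hz,
    one_mul, inv_pow, inv_eq_one] at e
  exact e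
end

/-- A finite group whose set of element orders is exactly {1, 2, 3, 4} has a normal subgroup N such that either N is a 2-group of exponent 4 and nilpotency class at most 2 with G/N of order 3, or N is an elementary abelian 2-group with G/N isomorphic to the symmetric group of degree 3, or N is an elementary abelian 3-group with G/N cyclic of order 4 or quaternion of order 8. -/
theorem result {G : Type*} [Group G] [Finite G] (h : Set.range (orderOf : G → ℕ) = {k : ℕ | 1 ≤ k ∧ k ≤ 4}) :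
    ∃ (N : Subgroup G) (_ : N.Normal),
      (IsPGroup 2 ↥N ∧ Monoid.exponent ↥N = 4 ∧ Group.nilpotencyClass ↥N ≤ 2 ∧ N.index = 3) ∨
      (Cfsg.IsElementaryAbelian 2 N ∧ Nonempty (G ⧸ N ≃* Equiv.Perm (Fin 3))) ∨
      (Cfsg.IsElementaryAbelian 3 N ∧ ((IsCyclic (G ⧸ N) ∧ N.index = 4) ∨ Nonempty (G ⧸ N ≃* QuaternionGroup 2))) := by
  have := Fact.mk Nat.prime_two
  have := Fact.mk Nat.prime_three
  have hle : ∀ x : G, orderOf x ≤ 4 := fun x =>
    (h ▸ ⟨x, rfl⟩ : orderOf x ∈ {k : ℕ | 1 ≤ k ∧ k ≤ 4}).2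
  have h34 : ∀ x : G, x ^ 4 = 1 ∨ x ^ 3 = 1 := fun x => by
    have h1 := hle x
    have h2 := orderOf_pos x
    rw [← orderOf_dvd_iff_pow_eq_one, ← orderOf_dvd_iff_pow_eq_one]
    interval_cases orderOf x <;> decide
  have h43 : ∀ {H : Type _} [Group H] (x : H), x ^ 4 = 1 → x ^ 3 = 1 → x = 1 := fun x h4 h3 => by
    rwa [pow_succ, h3, one_mul] at h4
  have hno : ∀ x y : G, x ^ 4 = 1 → y ^ 3 = 1 → Commute x y → x = 1 ∨ y = 1 := by
    intro x y hx hy hc
    rcases h34 (x * y) with e | e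
    · rw [hc.mul_pow, hx, one_mul] at e
      exact Or.inr (h43 y e hy)
    · rw [hc.mul_pow, hy, mul_one] at e
      exact Or.inl (h43 x hx e)
  obtain ⟨s, hs⟩ : 2 ∈ Set.range (orderOf : G → ℕ) := h ▸ ⟨by norm_num, by norm_num⟩
  obtain ⟨c, hc⟩ : 3 ∈ Set.range (orderOf : G → ℕ) := h ▸ ⟨by norm_num, by norm_num⟩
  obtain ⟨d, hd⟩ : 4 ∈ Set.range (orderOf : G → ℕ) := h ▸ ⟨by norm_num, by norm_num⟩
  have hs1 : s ≠ 1 := fun e => by simp [e] at hs
  have hs2 : s * s = 1 := by rw [← sq, ← hs, pow_orderOf_eq_one]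
  have hd4 : d ^ 4 = 1 := hd ▸ pow_orderOf_eq_one d
  have hd2 : d ^ 2 ≠ 1 := fun e => absurd (hd ▸ orderOf_dvd_of_pow_eq_one e) (by decide)
  have h24 : ∀ u : G, u * u = 1 → u ^ 4 = 1 := fun u hu => by
    rw [show (4 : ℕ) = 2 * 2 by rfl, pow_mul, sq u, hu, one_pow]
  have hpr : ∀ p : ℕ, p.Prime → p ∣ Nat.card G → p = 2 ∨ p = 3 := fun p hp hd => by
    have := Fact.mk hp
    obtain ⟨x, hx⟩ := exists_prime_orderOf_dvd_card' p hd
    have := hle x
    have := hp.two_le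
    have : p ≠ 4 := fun e => absurd (e ▸ hp) (by decide)
    omega
  have : Group.IsSolvable G := by
    obtain ⟨a, m, hm, e⟩ := Nat.exists_eq_two_pow_mul_odd (Nat.card_pos (α := G)).ne'
    refine Char.isSolvable_of_card_dvd_pow_mul_pow (a := a) Nat.prime_two Nat.prime_three G
      (by rw [e, Nat.eq_prime_pow_of_unique_prime_dvd (p := 3) hm.pos.ne' fun {d} hd hdm =>
        (hpr d hd (e ▸ hdm.mul_left _)).resolve_left fun e2 =>
          (Nat.not_even_iff_odd.2 hm) (even_iff_two_dvd.2 (e2 ▸ hdm))])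
  obtain ⟨F, hFn, hFnil, hCF⟩ : ∃ F : Subgroup G, F.Normal ∧ Group.IsNilpotent F ∧
      ∀ g : G, (∀ x ∈ F, x * g = g * x) → g ∈ F :=
    ⟨fittingSubgroup G, inferInstance, inferInstance, fun g hg => Grp.centralizer_fitting_le G hg⟩
  by_cases hF3 : ∃ y ∈ F, y ≠ 1 ∧ y ^ 3 = 1
  · obtain ⟨y, hy, hy1, hy3⟩ := hF3
    have h1 : ∀ x ∈ F, x ^ 4 = 1 → x = 1 := fun x hx hx2 => (hno x y hx2 hy3 (congrArg Subtype.val
      (FGS.commute_of_coprime_of_isNilpotent (x := (⟨x, hx⟩ : F)) (y := ⟨y, hy⟩) (by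
        rw [Subgroup.orderOf_mk, Subgroup.orderOf_mk]
        exact Nat.Coprime.coprime_dvd_left (orderOf_dvd_of_pow_eq_one hx2)
          (Nat.Coprime.coprime_dvd_right (orderOf_dvd_of_pow_eq_one hy3)
            (by norm_num : Nat.Coprime 4 3)))).eq)).resolve_right hy1
    have h2 : ∀ x ∈ F, x ^ 3 = 1 := fun x hx => (h34 x).elim (fun e => by rw [h1 x hx e, one_pow]) id
    have hodd : Odd (Nat.card F) := by
      by_contra hev
      obtain ⟨x, hx, hx1, hx2⟩ := RankOne.exists_invol_of_even (Nat.not_odd_iff_even.1 hev)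
      exact hx1 (h1 x hx (h24 x hx2))
    have h3 : ∀ u : G, u ≠ 1 → u * u = 1 → ∀ x ∈ F, u * x * u⁻¹ = x⁻¹ := fun u hu hu2 x hx => by
      obtain ⟨v, hv, hvu, w, hw, rfl⟩ := RankOne.exists_cent_mul_inverted hu2 hodd
        (fun z hz => hFn.conj_mem z hz u) hx
      rw [(hno u v (h24 u hu2) (h2 v hv) hvu.symm).resolve_left hu, one_mul, hw.2]
    have h4 : ∀ u : G, u ≠ 1 → u * u = 1 → u * s ∈ F := fun u hu hu2 => hCF _ fun x hx => by
      rw [eq_comm, ← mul_inv_eq_iff_eq_mul]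
      calc _ = u * (s * x * s⁻¹) * u⁻¹ := by group
        _ = x := by rw [h3 s hs1 hs2 x hx, h3 u hu hu2 _ (inv_mem hx), inv_inv]
    have hsF : s ∉ F := fun e => hs1 (h1 s e (h24 s hs2))
    have h7 : (s : G ⧸ F) * s = 1 := by rw [← QuotientGroup.mk_mul, hs2]; rfl
    have h8 : ∀ u : G, u ≠ 1 → u * u = 1 → (u : G ⧸ F) = s := fun u hu hu2 => by
      have h6 := (QuotientGroup.eq_one_iff _).2 (h4 u hu hu2)
      rw [QuotientGroup.mk_mul] at h6
      exact mul_right_cancel (h6.trans h7.symm)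
    have hq4 : ∀ b : G ⧸ F, b ^ 4 = 1 := by
      intro b
      induction b using QuotientGroup.induction_on with | H b => ?_
      rcases h34 b with e | e
      · rw [← QuotientGroup.mk_pow, e]; rfl
      have h5 : Commute (b : G ⧸ F) (s : G ⧸ F) := by
        have h6 := h8 (b * s * b⁻¹) (by simpa using hs1) (by
          calc _ = b * (s * s) * b⁻¹ := by group
            _ = 1 := by rw [hs2]; group)
        simp only [QuotientGroup.mk_mul, QuotientGroup.mk_inv] at h6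
        exact mul_inv_eq_iff_eq_mul.1 h6
      have h6 : (b : G ⧸ F) ^ 3 = 1 := by rw [← QuotientGroup.mk_pow, e]; rfl
      have h9 : (s : G ⧸ F) ^ 4 = 1 := by rw [← QuotientGroup.mk_pow, h24 s hs2]; rfl
      rcases h34 (b * s) with e' | e'
      · have h8 := congrArg (QuotientGroup.mk : G → G ⧸ F) e'
        rwa [QuotientGroup.mk_pow, QuotientGroup.mk_mul, h5.mul_pow, h9, mul_one] at h8
      · have h8 := congrArg (QuotientGroup.mk : G → G ⧸ F) e'
        rw [QuotientGroup.mk_pow, QuotientGroup.mk_mul, h5.mul_pow, h6, one_mul] at h8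
        exact (hsF ((QuotientGroup.eq_one_iff _).1 (h43 _ h9 h8))).elim
    have hq2 : ∀ b : G ⧸ F, orderOf b = 2 → b = s := by
      intro b hb
      induction b using QuotientGroup.induction_on with | H b => ?_
      have hb1 : (b : G ⧸ F) ≠ 1 := fun e => by simp [e] at hb
      have hb2 : (b : G ⧸ F) ^ 2 = 1 := hb ▸ pow_orderOf_eq_one _
      refine h8 b (fun e => hb1 (e ▸ rfl)) ?_
      rcases h34 b with e | e
      · rw [← sq]
        exact h1 _ ((QuotientGroup.eq_one_iff _).1 hb2) (by rw [← pow_mul, mul_comm, pow_mul, e, one_pow])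
      · exact (hb1 (h43 _ (hq4 _) (by rw [← QuotientGroup.mk_pow, e]; rfl))).elim
    have hdq : orderOf (d : G ⧸ F) = 4 :=
      orderOf_eq_prime_pow (p := 2) (n := 1) (fun e => hd2 (h1 _ ((QuotientGroup.eq_one_iff _).1
        (by simpa using e)) (by rw [← pow_mul, mul_comm, pow_mul, hd4, one_pow]))) (hq4 _)
    refine ⟨F, hFn, Or.inr (Or.inr ⟨⟨⟨⟨fun x y => Subtype.ext ?_⟩⟩, h2⟩, ?_⟩)⟩
    · have := h3 s hs1 hs2 _ (x * y).2
      rw [Subgroup.coe_mul, show s * (x * y) * s⁻¹ = (s * x * s⁻¹) * (s * y * s⁻¹) by group,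
        h3 s hs1 hs2 _ x.2, h3 s hs1 hs2 _ y.2, ← mul_inv_rev, inv_inj] at this
      exact this.symm
    rcases Grp.isCyclic_or_quaternion (p := 2) (G := G ⧸ F) (fun b => ⟨2, hq4 b⟩)
      (fun a b ha hb => by rw [hq2 a ha, hq2 b hb]; exact mem_zpowers _) with hcyc | ⟨-, n, hn, ⟨e⟩⟩
    · refine Or.inl ⟨hcyc, Nat.dvd_antisymm ?_ (hdq ▸ orderOf_dvd_natCard _)⟩
      obtain ⟨g, hg⟩ := hcyc.exists_ofOrder_eq_natCard
      exact (show orderOf g = F.index from hg) ▸ orderOf_dvd_of_pow_eq_one (hq4 g)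
    · right
      have : NeZero (2 ^ n) := ⟨by positivity⟩
      have e1 := orderOf_dvd_of_pow_eq_one (hq4 (e.symm (QuaternionGroup.a 1)))
      rw [MulEquiv.orderOf_eq, QuaternionGroup.orderOf_a_one, ← pow_succ',
        show (4 : ℕ) = 2 ^ 2 by rfl, Nat.pow_dvd_pow_iff_le_right (by norm_num)] at e1
      obtain rfl : n = 1 := by omega
      exact ⟨e⟩
  push Not at hF3
  have h1 : ∀ x ∈ F, x ^ 4 = 1 := fun x hx => (h34 x).elim id fun e => by
    by_contra h1
    exact hF3 x hx (fun e => h1 (by simp [e])) e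
  have hF2 : IsPGroup 2 F := fun x => ⟨2, Subtype.ext (by simpa using h1 x x.2)⟩
  have h4 : ¬ 3 ^ 2 ∣ Nat.card G := fun h9 => by
    obtain ⟨A, hA⟩ := Sylow.exists_subgroup_card_pow_prime 3 h9
    have := IsPGroup.isMulCommutative_of_card_eq_prime_sq hA
    have hA3 : ∀ a ∈ A, a ^ 3 = 1 := fun a ha => (h34 a).elim (fun e => by
      rw [orderOf_eq_one_iff.1 (Nat.eq_one_of_dvd_coprimes (by norm_num : Nat.Coprime 4 (3 ^ 2))
        (orderOf_dvd_of_pow_eq_one e) (hA ▸ orderOf_dvd_natCard A ha)), one_pow]) id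
    obtain ⟨j, hj⟩ := IsPGroup.iff_card.1 hF2
    have hF := Solv.le_of_centralizers_le A F (fun hcyc => ?_)
      Subgroup.le_normalizer_of_normal (by rw [hA, hj]; exact Nat.Coprime.pow _ _ (by norm_num)) ⊥
      (fun a ha ha1 x hx => (hno x a (h1 x hx.1) (hA3 a ha)
        (Subgroup.mem_centralizer_singleton_iff.1 hx.2)).resolve_right ha1)
    · exact hs1 (hF (hCF s fun x hx => by rw [mem_bot.1 (hF hx), one_mul, mul_one]))
    obtain ⟨x, hx⟩ := hcyc.exists_ofOrder_eq_natCard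
    have := hle x
    rw [Subgroup.orderOf_coe, hx, hA] at this
    omega
  have hc3 : c ^ 3 = 1 := hc ▸ pow_orderOf_eq_one c
  have hc1 : c ≠ 1 := fun e => by simp [e] at hc
  have hX : Nat.card (zpowers c) = 3 := by rw [Nat.card_zpowers, hc]
  have hXC : zpowers c ≤ centralizer (zpowers c : Set G) := le_centralizer _
  have hC : centralizer (zpowers c : Set G) = zpowers c := by
    have h5 : IsPGroup 3 (centralizer (zpowers c : Set G)) := fun g => ⟨1, Subtype.ext (by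
      rcases h34 g with e | e
      · simp [(hno g c e hc3 (g.2 c (mem_zpowers c)).symm).resolve_right hc1]
      · simpa using e)⟩
    obtain ⟨k, hk⟩ := IsPGroup.iff_card.1 h5
    have h6 : k ≤ 1 := by
      by_contra hk2
      exact h4 ((pow_dvd_pow 3 (by omega)).trans (hk ▸ card_subgroup_dvd_card _))
    refine (eq_of_le_of_card_ge hXC ?_).symm
    rw [hk, hX]
    exact (Nat.pow_le_pow_right (by norm_num) h6).trans (by norm_num)
  rcases S3331.result _ hX hC with ⟨N, hN, hnil, hcop, hq⟩ | ⟨N, hN, -, -, ⟨e⟩⟩ | ⟨⟨e⟩⟩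
  rotate_left
  · have h5 := card_quotient_dvd_card N
    rw [Nat.card_congr e.toEquiv, nat_card_alternatingGroup] at h5
    have := hpr 5 (by norm_num) (Dvd.dvd.trans (by simp [Nat.factorial]) h5)
    omega
  · have := Fact.mk (by norm_num : Nat.Prime 7)
    have := hpr 7 (by norm_num) (by
      rw [Nat.card_congr e.toEquiv, KSG.M2.card_PSL2, Nat.card_zmod]; norm_num)
    omega
  have hN4 : ∀ u ∈ N, u ^ 4 = 1 := fun u hu => (h34 u).elim id fun e => by
    rw [orderOf_eq_one_iff.1 (Nat.eq_one_of_dvd_coprimes hcop (orderOf_dvd_natCard N hu)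
      (orderOf_dvd_of_pow_eq_one e)), one_pow]
  have hfpf : ∀ x : G, x ≠ 1 → x ^ 3 = 1 → Fpf3 N x := fun x hx1 hx3 =>
    ⟨by rw [normalizer_eq_top]; trivial, hx3, fun m hm e =>
      (hno m x (hN4 m hm) hx3 (mul_inv_eq_iff_eq_mul.1 e).symm).resolve_right hx1⟩
  refine ⟨N, hN, ?_⟩
  rcases hq with hq | ⟨⟨e⟩⟩
  · refine Or.inl ⟨fun u => ⟨2, Subtype.ext (by simpa using hN4 u u.2)⟩, Nat.dvd_antisymm
      (Monoid.exponent_dvd_of_forall_pow_eq_one fun u => Subtype.ext (by simpa using hN4 u u.2))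
      ?_, ?_, hq⟩
    · have hdN : d ∈ N := (QuotientGroup.eq_one_iff _).1 (h43 _
        (by rw [← QuotientGroup.mk_pow, hd4]; rfl) (hq ▸ pow_card_eq_one'))
      have := Monoid.order_dvd_exponent (⟨d, hdN⟩ : N)
      rwa [orderOf_mk, hd] at this
    · refine Subgroup.upperCentralSeries_eq_top_iff_nilpotencyClass_le.1 (eq_top_iff.2 fun u _ => ?_)
      refine Subgroup.mem_upperCentralSeries_succ_iff.2 fun v => ?_
      rw [Subgroup.upperCentralSeries_one, mem_center_iff]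
      exact fun w => Subtype.ext ((hfpf c hc1 hc3).class_two u.2 v.2 w.2).eq
  refine Or.inr (Or.inl ⟨?_, ⟨e⟩⟩)
  obtain ⟨ψ, hψs, hψ⟩ : ∃ ψ : G →* Equiv.Perm (Fin 3), Function.Surjective ψ ∧
      ∀ u, ψ u = 1 ↔ u ∈ N :=
    ⟨e.toMonoidHom.comp (QuotientGroup.mk' N), e.surjective.comp (QuotientGroup.mk'_surjective N),
      fun u => by simp⟩
  obtain ⟨x, hx⟩ := hψs (finRotate 3)
  obtain ⟨g, hg⟩ := hψs (Equiv.swap 0 1)
  have hx3 : x ^ 3 = 1 := (h34 x).resolve_left fun e =>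
    absurd (show finRotate 3 ^ 4 = 1 by rw [← hx, ← map_pow, e, map_one]) (by decide)
  have hxf := hfpf x (fun e => absurd (show finRotate 3 = 1 by rw [← hx, e, map_one]) (by decide)) hx3
  obtain ⟨k, hk, hkx⟩ := hxf.inv.exists_conj (m := g * x * g⁻¹ * x)
    ((hψ _).1 (by simp only [map_mul, map_inv, hx, hg]; decide))
  have ht : ψ (k⁻¹ * g) = Equiv.swap 0 1 := by rw [map_mul, map_inv, (hψ k).2 hk, hg]; simp
  have htx : k⁻¹ * g * x * (k⁻¹ * g)⁻¹ = x⁻¹ := by
    calc _ = k⁻¹ * (g * x * g⁻¹ * x * x⁻¹) * k := by group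
      _ = _ := by rw [hkx]; group
  generalize k⁻¹ * g = t at ht htx
  have ht2 : t * t = 1 := hxf.eq_one_of_commute ((hψ _).1 (by rw [map_mul, ht]; decide)) (by
    refine (mul_inv_eq_iff_eq_mul.1 ?_ : _ = _).symm
    calc t * t * x * (t * t)⁻¹ = t * (t * x * t⁻¹) * t⁻¹ := by group
      _ = (t * x * t⁻¹)⁻¹ := by rw [htx]; nth_rw 2 [← htx]; group
      _ = x := by rw [htx, inv_inv])
  have key := elem_of_s3 hxf ht2 htx
    (fun u hu => (h34 _).resolve_right fun e => absurd (show Equiv.swap (0 : Fin 3) 1 ^ 3 = 1 by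
      rw [← ht, ← mul_one (ψ t), ← (hψ u).2 hu, ← map_mul, ← map_pow, e, map_one, (hψ u).2 hu])
      (by decide))
    (fun u hu => (h34 _).resolve_right fun e => absurd
      (show (Equiv.swap (0 : Fin 3) 1 * finRotate 3) ^ 3 = 1 by
        rw [← ht, ← hx, ← map_mul, ← mul_one (ψ (t * x)), ← (hψ u).2 hu, ← map_mul, ← map_pow, e,
          map_one, (hψ u).2 hu]) (by decide))
  refine ⟨⟨⟨fun a b => Subtype.ext ?_⟩⟩, key⟩
  have e := key _ (a * b).2
  have ea := key _ a.2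
  have eb := key _ b.2
  rw [sq] at e ea eb
  rw [Subgroup.coe_mul] at e ⊢
  rw [← inv_eq_of_mul_eq_one_right e, mul_inv_rev, inv_eq_of_mul_eq_one_right ea,
    inv_eq_of_mul_eq_one_right eb, Subgroup.coe_mul]

end Cfsg.Agent.S4006
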