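import Cfsg.Statements.S4018
import Cfsg.Agent.S3282
import Cfsg.Agent.S0202
import Cfsg.Agent.S0203
import Cfsg.Agent.Small.Order360
import Cfsg.Agent.Small.Count
import Cfsg.Agent.Grp.Card
-- import your own Cfsg.Agent.* helpers here

set_option autoImplicit false
open Cfsg

namespace Cfsg.Agent.S4018

open Subgroup

theorem aux {G : Type*} [Group G] [Finite G] [IsSimpleGroup G]
    (P : Sylow 3 G) (hab : IsMulCommutative (P : Subgroup G)) {n : ℕ}
    (hn : Nat.card (P : Subgroup G) = n)
    (hN : Nat.card (normalizer ((P : Subgroup G) : Set G)) = 4 * n)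
    (hC : Nat.card (centralizer ((P : Subgroup G) : Set G)) = 2 * n)
    (hTI : Cfsg.IsTISubset (centralizer ((P : Subgroup G) : Set G) : Set G))
    (heven : ∀ H : Subgroup G, H ≠ ⊤ → 2 ∣ Nat.card H → Nat.card H ∣ 4 * n) : False := by
  classical
  set N := normalizer ((P : Subgroup G) : Set G) with hNdef
  set K := centralizer ((P : Subgroup G) : Set G) with hKdef
  have hn0 : 0 < n := hn ▸ Nat.card_pos
  obtain ⟨k, hk⟩ := IsPGroup.iff_card.1 P.isPGroup'
  have hnk : n = 3 ^ k := hn.symm.trans hk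
  have hodd : ¬ 2 ∣ n := fun h => by
    rw [hnk] at h
    exact absurd (Nat.prime_two.dvd_of_dvd_pow h) (by norm_num)
  have hKN : K ≤ N := centralizer_le_normalizer _
  have hPK : (P : Subgroup G) ≤ K := le_centralizer _
  have hG : ¬ IsMulCommutative G := fun h => by
    have : N ≤ K := fun g _ => mem_centralizer_iff.2 fun x _ => h.is_comm.comm x g
    have := card_le_of_le this
    omega
  have hP1 : (P : Subgroup G) ≠ ⊥ := fun h => by
    have : N ≤ K := fun g _ => mem_centralizer_iff.2 fun x hx => by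
      have : x = 1 := by rw [h] at hx; exact hx
      simp [this]
    have := card_le_of_le this
    omega
  have h3G : 3 ∣ Nat.card G := by
    refine Dvd.dvd.trans ?_ (card_subgroup_dvd_card (P : Subgroup G))
    rw [hk]
    refine dvd_pow_self 3 ?_
    rintro rfl
    exact hP1 (card_eq_one.1 hk)
  have hNt : N ≠ ⊤ := Small.sylow_normalizer_ne_top hG P h3G
  have cent : ∀ x : G, x ≠ 1 → centralizer ({x} : Set G) ≠ ⊤ := fun x hx h => by
    have : x ∈ center G := mem_center_iff.2 fun g =>
      mem_centralizer_singleton_iff.1 (h ▸ mem_top g)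
    rw [Small.center_eq_bot hG] at this
    exact hx this
  obtain ⟨⟨t, htK⟩, ht⟩ := exists_prime_orderOf_dvd_card' (G := K) 2 (by omega)
  rw [Subgroup.orderOf_mk] at ht
  have ht1 : t ≠ 1 := by rintro rfl; simp at ht
  have htt : t * t = 1 := by rw [← pow_two, ← ht, pow_orderOf_eq_one]
  have pn : ∀ x ∈ (P : Subgroup G), x ^ n = 1 := fun x hx =>
    hn ▸ congrArg Subtype.val (pow_card_eq_one' (G := (P : Subgroup G)) (x := ⟨x, hx⟩))
  have psq : ∀ x ∈ (P : Subgroup G), x * x = 1 → x = 1 := fun x hx h => by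
    obtain ⟨m, hm⟩ : ∃ m, n = 2 * m + 1 := ⟨n / 2, by omega⟩
    rw [← pn x hx, hm, pow_succ, pow_mul, pow_two, h]; simp
  have htP : t ∉ (P : Subgroup G) := fun h => ht1 (psq t h htt)
  have hidx : ((P : Subgroup G).subgroupOf K).index = 2 := by
    have := ((P : Subgroup G).subgroupOf K).index_mul_card
    rw [Nat.card_congr (subgroupOfEquivOfLe hPK).toEquiv, hn, hC] at this
    exact Nat.eq_of_mul_eq_mul_right hn0 this
  have memK : ∀ x ∈ K, x ∈ (P : Subgroup G) ∨ x * t ∈ (P : Subgroup G) := fun x hx => by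
    by_cases h : x ∈ (P : Subgroup G)
    · exact Or.inl h
    · right
      have := (mul_mem_iff_of_index_two hidx (a := ⟨x, hx⟩) (b := ⟨t, htK⟩)).2
        (iff_of_false h htP)
      exact this
  have ctK : ∀ x ∈ K, x * t = t * x := fun x hx => by
    rcases memK x hx with h | h
    · exact mem_centralizer_iff.1 htK x h
    · have := mem_centralizer_iff.1 htK _ h
      rw [← mul_assoc] at this
      exact mul_right_cancel this
  have hKab : ∀ x ∈ K, ∀ y ∈ K, x * y = y * x := fun x hx y hy => by
    rcases memK x hx with h | h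
    · exact mem_centralizer_iff.1 hy x h
    · have := mem_centralizer_iff.1 hy _ h
      rw [mul_assoc, ← ctK y hy, ← mul_assoc, ← mul_assoc] at this
      exact mul_right_cancel this
  have uniq : ∀ x ∈ K, x * x = 1 → x = 1 ∨ x = t := fun x hx h => by
    rcases memK x hx with h1 | h1
    · exact Or.inl (psq x h1 h)
    · right
      have := psq _ h1 (by rw [mul_assoc, ← mul_assoc t, ← ctK x hx, mul_assoc, htt, mul_one, h])
      rw [eq_inv_of_mul_eq_one_left this, inv_eq_of_mul_eq_one_right htt]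
  have hNK : ∀ g ∈ N, ∀ x ∈ K, g * x * g⁻¹ ∈ K := fun g hg x hx =>
    mem_centralizer_iff.2 fun y hy => by
      have h1 : g⁻¹ * y * g ∈ (P : Subgroup G) := by
        simpa using (mem_normalizer_iff.1 (inv_mem hg) y).1 hy
      have h2 := mem_centralizer_iff.1 hx _ h1
      calc y * (g * x * g⁻¹) = g * (g⁻¹ * y * g * x) * g⁻¹ := by group
        _ = _ := by rw [h2]; group
  have hCt : centralizer ({t} : Set G) = N := by
    have h1 : N ≤ centralizer ({t} : Set G) := fun g hg => by
      rw [mem_centralizer_singleton_iff]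
      rcases uniq _ (hNK g hg t htK) (by rw [conj_mul, htt]; simp) with h | h
      · exact absurd (by simpa [mul_inv_eq_iff_eq_mul] using h) ht1
      · exact mul_inv_eq_iff_eq_mul.1 h
    have h2 := heven _ (cent t ht1) (Dvd.dvd.trans (by omega) (card_dvd_of_le h1))
    exact (eq_of_le_of_card_ge h1 (hN ▸ Nat.le_of_dvd (by omega) h2)).symm
  have hNKN : normalizer (K : Set G) ≤ N := fun g hg => by
    rw [← hCt, mem_centralizer_singleton_iff]
    rcases uniq _ ((mem_normalizer_iff.1 hg t).1 htK) (by rw [conj_mul, htt]; simp) with h | h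
    · exact absurd (by simpa [mul_inv_eq_iff_eq_mul] using h) ht1
    · exact mul_inv_eq_iff_eq_mul.1 h
  have TI : ∀ g, ∀ x ∈ K, x ≠ 1 → g * x * g⁻¹ ∈ K → g ∈ N := fun g x hx h1 h2 => by
    by_contra h
    exact h1 (hTI g (fun h' => h (hNKN h')) x hx h2)
  -- Sylow 2-subgroups
  obtain ⟨T, hT⟩ := (IsPGroup.of_card (p := 2) (n := 1) (G := zpowers t)
    (by rw [Nat.card_zpowers, ht, pow_one])).exists_le_sylow
  have htT : t ∈ (T : Subgroup G) := hT (mem_zpowers t)
  have h2G : 2 ∣ Nat.card G := ht ▸ orderOf_dvd_natCard t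
  have hT4 : Nat.card (T : Subgroup G) = 4 := by
    obtain ⟨j, hj⟩ := IsPGroup.iff_card.1 T.isPGroup'
    have h1 := heven _ (Small.sylow_ne_top hG T) (by have := Subgroup.orderOf_dvd_natCard _ htT; rwa [ht] at this)
    have h2 : 2 ^ 2 ∣ Nat.card (T : Subgroup G) := T.pow_dvd_card_of_pow_dvd_card
      (Dvd.dvd.trans (by rw [hN]; omega) (card_subgroup_dvd_card N))
    rw [hj] at h1 h2 ⊢
    have h3 : 2 ^ j ∣ 2 ^ 2 := (Nat.Coprime.pow_left j
      ((Nat.Prime.coprime_iff_not_dvd Nat.prime_two).2 hodd)).dvd_of_dvd_mul_right h1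
    exact Nat.dvd_antisymm h3 h2
  have hTc : ¬ IsCyclic (T : Subgroup G) := fun h =>
    Small.not_normalizer_le_centralizer hG T h2G
      (IsCyclic.normalizer_le_centralizer ((Nat.minFac_eq_two_iff _).2 h2G) h)
  have hTk : IsKleinFour (T : Subgroup G) :=
    ⟨hT4, (not_isCyclic_iff_exponent_eq_prime Nat.prime_two hT4).1 hTc⟩
  have hconj : ∀ x y : G, orderOf x = 2 → orderOf y = 2 → IsConj x y := by
    have h1 := (S0202.result T hTk).resolve_right fun h => by
      obtain ⟨M, hM, hc⟩ := (S0203.result T hTk).1 h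
      have h2 := hc.card_mul_card
      rcases hM.eq_bot_or_eq_top with rfl | rfl
      · rw [card_bot, hT4] at h2
        omega
      · rw [card_top, hT4] at h2
        have : 0 < Nat.card G := Nat.card_pos
        omega
    intro x y hx hy
    have := (Nat.card_eq_one_iff_unique.1 h1).1.elim ⟨_, x, hx, rfl⟩ ⟨_, y, hy, rfl⟩
    exact ConjClasses.mk_eq_mk_iff_isConj.1 (congrArg Subtype.val this)
  obtain ⟨s, hsT, hs1, hst⟩ : ∃ s ∈ (T : Subgroup G), s ≠ 1 ∧ s ≠ t := by
    by_contra h
    push Not at h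
    have h1 : (T : Subgroup G) ≤ zpowers t := fun x hx => by
      by_cases h1 : x = 1
      · rw [h1]; exact one_mem _
      · rw [h x hx h1]; exact mem_zpowers t
    have := card_le_of_le h1
    rw [Nat.card_zpowers, ht, hT4] at this
    omega
  have hss : s * s = 1 := congrArg Subtype.val (IsKleinFour.mul_self (⟨s, hsT⟩ : (T : Subgroup G)))
  have hs : orderOf s = 2 := orderOf_eq_prime (by rw [pow_two, hss]) hs1
  have hsH : s ∈ centralizer ({t} : Set G) := mem_centralizer_singleton_iff.2
    (congrArg Subtype.val (hTk.isMulCommutative.is_comm.comm ⟨s, hsT⟩ ⟨t, htT⟩))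
  have hsN : s ∈ N := hCt ▸ hsH
  have hsK : s ∉ K := fun h => (uniq s h hss).elim hs1 hst
  have hsi : s⁻¹ = s := inv_eq_of_mul_eq_one_right hss
  have hinvP : ∀ x ∈ (P : Subgroup G), s * x * s⁻¹ = x⁻¹ := fun x hx => by
    have h1 : s * x * s⁻¹ ∈ (P : Subgroup G) := (mem_normalizer_iff.1 hsN x).1 hx
    refine eq_inv_of_mul_eq_one_right ?_
    by_contra h2
    have h3 := mul_mem hx h1
    have h4 : s * (x * (s * x * s⁻¹)) = x * (s * x * s⁻¹) * s := by
      rw [hKab x (hPK hx) _ (hPK h1)]
      conv_lhs => rw [← hKab x (hPK hx) _ (hPK h1)]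
      rw [hsi]; group
    generalize x * (s * x * s⁻¹) = y at h2 h3 h4
    obtain ⟨g, hg⟩ := isConj_iff.1 (hconj s t hs ht)
    have h5 : g * y * g⁻¹ ∈ N := by
      rw [← hCt, mem_centralizer_singleton_iff, ← hg, conj_mul, conj_mul, h4]
    have h6 : g * y * g⁻¹ ∈ (P : Subgroup G) := by
      refine Small.mem_sylow_of_smul_eq (P := g • P) ?_ (Sylow.smul_eq_iff_mem_normalizer.2 h5)
      rw [Sylow.coe_subgroup_smul, Subgroup.mem_pointwise_smul_iff_inv_smul_mem]
      simpa [mul_assoc] using h3
    have h7 := TI g y (hPK h3) h2 (hPK h6)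
    rw [← hCt, mem_centralizer_singleton_iff] at h7
    apply hst
    calc s = g⁻¹ * (g * s * g⁻¹) * g := by group
      _ = t := by rw [hg, mul_assoc, ← h7]; group
  have hinv : ∀ x ∈ K, s * x * s⁻¹ = x⁻¹ := fun x hx => by
    rcases memK x hx with h | h
    · exact hinvP x h
    · have h1 := hinvP _ h
      rw [← conj_mul, mul_inv_eq_iff_eq_mul.2 (mem_centralizer_singleton_iff.1 hsH), ctK x hx,
        mul_inv_rev, inv_eq_of_mul_eq_one_right htt] at h1
      exact mul_right_cancel h1
  have hsup : K ⊔ zpowers s = N := by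
    have h1 : K ⊔ zpowers s ≤ N := sup_le hKN (zpowers_le.2 hsN)
    have h2 := card_dvd_of_le h1
    have h3 := card_dvd_of_le (le_sup_left : K ≤ K ⊔ zpowers s)
    have h4 : Nat.card (K ⊔ zpowers s : Subgroup G) ≠ 2 * n := fun h =>
      hsK (eq_of_le_of_card_ge (le_sup_left : K ≤ K ⊔ zpowers s) (by omega) ▸
        mem_sup_right (mem_zpowers s))
    refine eq_of_le_of_card_ge h1 ?_
    rw [hC] at h3
    rw [hN] at h2 ⊢
    obtain ⟨c, hc⟩ := h3
    rw [hc] at h2 h4 ⊢
    have h5 : c ≠ 0 := by rintro rfl; simp at h2; omega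
    have h6 : c ≠ 1 := by rintro rfl; simp at h4
    have : 2 ≤ c := by omega
    nlinarith
  obtain ⟨Q, D, q1, q2, q3, q4, q5, q6, q7⟩ := S3282.result t ht K
    ⟨⟨fun x y => Subtype.ext (hKab x x.2 y y.2)⟩⟩ (hCt ▸ hKN) htK s hs hsH hsK (hCt ▸ hsup)
    (le_antisymm (fun x hx => by
      have h1 := hinv x hx.1
      rw [← mem_centralizer_singleton_iff.1 hx.2, mul_inv_cancel_right] at h1
      rcases uniq x hx.1 (by nth_rw 2 [h1]; simp) with h | h
      · rw [h]; exact one_mem _
      · rw [h]; exact mem_zpowers t)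
      (zpowers_le.2 ⟨htK, mem_centralizer_singleton_iff.2
        (mem_centralizer_singleton_iff.1 hsH).symm⟩))
    hinv (fun g hg => by
      rw [eq_bot_iff]
      rintro _ ⟨h1, x, hx, rfl⟩
      by_contra h2
      exact hg (hCt ▸ TI g x hx (fun e => h2 (by simp [e])) h1)) hconj
  -- elements of order three
  have three : ∀ x : G, orderOf x = 3 → 4 ∣ Nat.card (normalizer (zpowers x : Set G)) ∧
      2 ∣ Nat.card (centralizer ({x} : Set G)) := fun x hx => by
    obtain ⟨R, hR⟩ := Small.exists_mem_sylow_of_pow (p := 3) (g := x) (k := 1)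
      (by rw [pow_one, ← hx, pow_orderOf_eq_one])
    obtain ⟨g, rfl⟩ := MulAction.exists_smul_eq G P R
    have h1 : x ∈ ((g • P : Sylow 3 G) : Subgroup G) := hR
    rw [Sylow.coe_subgroup_smul, Subgroup.mem_pointwise_smul_iff_inv_smul_mem] at h1
    have h2 : g⁻¹ * x * g ∈ (P : Subgroup G) := by simpa using h1
    have h3 : g * t * g⁻¹ ∈ centralizer ({x} : Set G) := by
      rw [mem_centralizer_singleton_iff]
      calc g * t * g⁻¹ * x = g * (t * (g⁻¹ * x * g)) * g⁻¹ := by group
        _ = _ := by rw [← ctK _ (hPK h2)]; group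
    constructor
    · have h4 : (T : Subgroup G).map (MulAut.conj g).toMonoidHom ≤ normalizer (zpowers x : Set G) := by
        rintro _ ⟨y, hy, rfl⟩
        have hyN : y ∈ K ⊔ zpowers s := by
          rw [hsup, ← hCt]
          exact mem_centralizer_singleton_iff.2
            (congrArg Subtype.val (hTk.isMulCommutative.is_comm.comm ⟨y, hy⟩ ⟨t, htT⟩))
        have h5 : K ⊔ zpowers s ≤ (normalizer (zpowers x : Set G)).comap
            (MulAut.conj g).toMonoidHom := by
          refine sup_le (fun z hz => ?_) (zpowers_le.2 ?_)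
          · refine (Small.mem_normalizer_zpowers_iff x _).2 ?_
            have : (MulAut.conj g).toMonoidHom z * x * ((MulAut.conj g).toMonoidHom z)⁻¹ = x := by
              change g * z * g⁻¹ * x * (g * z * g⁻¹)⁻¹ = x
              calc _ = g * (z * (g⁻¹ * x * g)) * z⁻¹ * g⁻¹ := by group
                _ = x := by rw [hKab z hz _ (hPK h2)]; group
            rw [this]; exact mem_zpowers x
          · refine (Small.mem_normalizer_zpowers_iff x _).2 ?_
            have : (MulAut.conj g).toMonoidHom s * x * ((MulAut.conj g).toMonoidHom s)⁻¹ = x⁻¹ := by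
              change g * s * g⁻¹ * x * (g * s * g⁻¹)⁻¹ = x⁻¹
              calc _ = g * (s * (g⁻¹ * x * g) * s⁻¹) * g⁻¹ := by group
                _ = x⁻¹ := by rw [hinvP _ h2]; group
            rw [this]; exact inv_mem (mem_zpowers x)
        exact h5 hyN
      have := card_dvd_of_le h4
      rwa [card_map_of_injective (MulAut.conj g).injective, hT4] at this
    · have := Subgroup.orderOf_dvd_natCard _ h3
      rwa [show orderOf (g * t * g⁻¹) = 2 from (MulEquiv.orderOf_eq (MulAut.conj g) t).trans ht]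
        at this
  have hD0 : 0 < Nat.card D := Nat.card_pos
  have hQ3 : ¬ 3 ∣ Nat.card Q := fun h => by
    obtain ⟨⟨x, hx⟩, hx3⟩ := exists_prime_orderOf_dvd_card' (G := Q) 3 h
    rw [Subgroup.orderOf_mk] at hx3
    have := (three x hx3).2
    rw [q2 x hx (by rintro rfl; simp at hx3)] at this
    omega
  have hD1 : D ≠ ⊥ := fun h => by
    rw [h, card_bot] at q4
    omega
  obtain ⟨-, u, hu, huD, -, hND⟩ := q7 D le_rfl hD1
  have hDt : D ≠ ⊤ := fun h => huD (h ▸ mem_top u)
  have huN : zpowers u ≤ normalizer (D : Set G) := hND ▸ le_sup_right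
  have c1 : Nat.card (normalizer (D : Set G)) ∣ 2 * Nat.card D := by
    have := Grp.card_sup_dvd_of_le_normalizer huN
    rwa [sup_comm, ← hND, Nat.card_zpowers, hu] at this
  by_cases hD2 : 2 ∣ Nat.card D
  · have h1 : Q ≠ ⊥ := fun h => by rw [h, card_bot] at q4; omega
    have h2 : Q ≠ ⊤ := fun h => by rw [h, card_top] at q4; omega
    have h3 := heven _ (Small.normalizer_ne_top_of_ne h1 h2)
      (hD2.trans (card_dvd_of_le (q6 ▸ le_sup_right)))
    have h4 := (card_dvd_of_le (le_normalizer (H := Q))).trans h3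
    rw [hnk, show 4 = 2 ^ 2 by rfl] at h4
    have h5 : (Nat.card Q).Coprime (2 ^ 2 * 3 ^ k) := Nat.Coprime.mul_right
      (Nat.Coprime.pow_right _ ((Nat.Prime.coprime_iff_not_dvd Nat.prime_two).2 (by omega)).symm)
      (Nat.Coprime.pow_right _ ((Nat.Prime.coprime_iff_not_dvd Nat.prime_three).2 hQ3).symm)
    have := h5.eq_one_of_dvd h4
    omega
  · have h1 := heven _ (Small.normalizer_ne_top_of_ne hD1 hDt)
      (by have := card_dvd_of_le huN; rwa [Nat.card_zpowers, hu] at this)
    have h2 := (card_dvd_of_le (le_normalizer (H := D))).trans h1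
    have h3 : 3 ∣ Nat.card D := by
      by_contra h3
      rw [hnk, show 4 = 2 ^ 2 by rfl] at h2
      have h5 : (Nat.card D).Coprime (2 ^ 2 * 3 ^ k) := Nat.Coprime.mul_right
        (Nat.Coprime.pow_right _ ((Nat.Prime.coprime_iff_not_dvd Nat.prime_two).2 hD2).symm)
        (Nat.Coprime.pow_right _ ((Nat.Prime.coprime_iff_not_dvd Nat.prime_three).2 h3).symm)
      exact hD1 (card_eq_one.1 (h5.eq_one_of_dvd h2))
    obtain ⟨⟨x, hx⟩, hx3⟩ := exists_prime_orderOf_dvd_card' (G := D) 3 h3
    rw [Subgroup.orderOf_mk] at hx3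
    have h4 := (three x hx3).1
    rw [(q7 (zpowers x) (zpowers_le.2 hx) (by
      rw [Ne, zpowers_eq_bot]; rintro rfl; simp at hx3)).1] at h4
    have := h4.trans c1
    omega

/-- Let G be a finite group with an abelian Sylow 3-subgroup P such that the normalizer of P has order 4·#P, the centralizer C of P has order 2·#P, C meets each of its conjugates by elements outside its normalizer trivially, and every proper subgroup of G of even order has order dividing 4·#P. Then G is not simple. -/
theorem result {G : Type*} [Group G] [Finite G]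
    (P : Sylow 3 G) (hab : IsMulCommutative P)
    (hN : Nat.card (Subgroup.normalizer ((P : Subgroup G) : Set G)) = 4 * Nat.card P)
    (hC : Nat.card (Subgroup.centralizer (P : Set G)) = 2 * Nat.card P)
    (hTI : Cfsg.IsTISubset (Subgroup.centralizer (P : Set G) : Set G))
    (heven : ∀ H : Subgroup G, H ≠ ⊤ → 2 ∣ Nat.card H → Nat.card H ∣ 4 * Nat.card P) :
    ¬ IsSimpleGroup G := by
  intro hG
  exact aux P hab rfl hN hC hTI heven

end Cfsg.Agent.S4018
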