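import Cfsg.Statements.S4033
import Mathlib
import Cfsg.Agent.Part.ItoTwo

set_option autoImplicit false
open Cfsg

namespace Cfsg.Agent.S4033

open Cfsg.Agent.Part.Ito

/-- Let G be a finite group and p a prime, and suppose the conjugacy classes of p-regular elements of G (elements of order prime to p) have exactly two distinct sizes. Then either G has an abelian p-complement (an abelian subgroup of order prime to p and p-power index), or there are a prime q ≠ p, a Sylow p-subgroup P, a Sylow q-subgroup Q and a central subgroup A such that PQ is a normal subgroup of order #P·#Q and G is the internal direct product PQ × A. -/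
theorem result {G : Type*} [Group G] [Finite G] {p : ℕ} (hp : p.Prime)
    (h2 : Set.ncard (Set.range fun x : {x : G // (orderOf x).Coprime p} => (ConjClasses.mk (x : G)).carrier.ncard) = 2) :
    (∃ H : Subgroup G, IsMulCommutative H ∧ ¬ p ∣ Nat.card H ∧ ∃ k : ℕ, H.index = p ^ k) ∨
    (∃ (q : ℕ) (_ : Fact q.Prime) (P : Sylow p G) (Q : Sylow q G) (A : Subgroup G), q ≠ p ∧
        A ≤ Subgroup.center G ∧ Nat.card ↥((P : Subgroup G) ⊔ (Q : Subgroup G)) = Nat.card P * Nat.card Q ∧
        ((P : Subgroup G) ⊔ (Q : Subgroup G)).Normal ∧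
        ((P : Subgroup G) ⊔ (Q : Subgroup G)) ⊓ A = ⊥ ∧ ((P : Subgroup G) ⊔ (Q : Subgroup G)) ⊔ A = ⊤) := by
  haveI := Fact.mk hp
  simp only [FGS.ncard_carrier_mk] at h2
  obtain ⟨a, b, hab, hS⟩ := Set.ncard_eq_two.1 h2
  have hmem : ∀ u : G, (orderOf u).Coprime p → (ℭ[u]).index = a ∨ (ℭ[u]).index = b := fun u hu => by
    have : (ℭ[u]).index ∈ ({a, b} : Set ℕ) := hS ▸ ⟨⟨u, hu⟩, rfl⟩
    simpa using this
  have h1 : (ℭ[(1 : G)]).index = 1 := index_c1_eq_one.2 (Subgroup.one_mem _)
  obtain ⟨m, hm1, ⟨x, hx⟩, hm⟩ : ∃ m, m ≠ 1 ∧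
      (∃ x : {x : G // (orderOf x).Coprime p}, (ℭ[(x : G)]).index = m) ∧
      ∀ u : G, (orderOf u).Coprime p → u ∉ Subgroup.center G → (ℭ[u]).index = m := by
    have ha : a ∈ ({a, b} : Set ℕ) := by simp
    have hb : b ∈ ({a, b} : Set ℕ) := by simp
    rw [← hS] at ha hb
    rcases hmem 1 (by simp) with e | e
    · rw [h1] at e
      exact ⟨b, fun e' => hab (e.symm.trans e'.symm), hb, fun u hu hu' =>
        (hmem u hu).resolve_left fun e' => hu' (index_c1_eq_one.1 (e'.trans e.symm))⟩
    · rw [h1] at e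
      exact ⟨a, fun e' => hab (e'.trans e), ha, fun u hu hu' =>
        (hmem u hu).resolve_right fun e' => hu' (index_c1_eq_one.1 (e'.trans e.symm))⟩
  rcases pow_or_of_const hp hm with h | ⟨q, hq⟩
  · exact Or.inl (S4034.main hp G h)
  · right
    have hx' : (x : G) ∉ Subgroup.center G := fun hz => hm1 (hx.symm.trans (index_c1_eq_one.2 hz))
    obtain ⟨r, hr, y, hyx, hy, hk⟩ := exists_primary hx'
    have hrp := ne_of_pe_of_cop hy hk (cop_of_mem_zpowers x.2 hyx)
    have hrq : r = q := by
      by_contra hne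
      exact hy (hq r hr hrp hne y hk)
    subst hrq
    haveI := Fact.mk hr
    obtain ⟨P⟩ : Nonempty (Sylow p G) := inferInstance
    obtain ⟨Q⟩ : Nonempty (Sylow r G) := inferInstance
    obtain ⟨A, hA⟩ := exists_pq_prod hrp hq P Q
    exact ⟨r, inferInstance, P, Q, A, hrp, hA⟩

end Cfsg.Agent.S4033
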