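import Cfsg.Statements.S4038
import Mathlib
import Cfsg.Agent.FGS.DeskinsJanko
import Cfsg.Agent.S0205
import Cfsg.Agent.S4056

set_option autoImplicit false
open Cfsg

namespace Cfsg.Agent.S4038

/-- Let A and G be finite groups of coprime orders with A acting on G by automorphisms. Suppose G has a proper A-invariant subgroup M, maximal among proper A-invariant subgroups, which is nilpotent and whose Sylow 2-subgroups have nilpotency class at most 2. Then G is solvable. -/
theorem result {G A : Type*} [Group G] [Finite G]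
    [Group A] [Finite A] (φ : A →* MulAut G) (hcop : (Nat.card A).Coprime (Nat.card G))
    (M : Subgroup G) (hMtop : M ≠ ⊤) (hMinv : ∀ a : A, ∀ m : G, m ∈ M → φ a m ∈ M)
    (hMmax : ∀ H : Subgroup G, M ≤ H → H ≠ ⊤ → (∀ a : A, ∀ h : G, h ∈ H → φ a h ∈ H) → H = M)
    (hnil : Group.IsNilpotent M) (h2 : ∀ S : Sylow 2 ↥M, Group.nilpotencyClass ↥(S : Subgroup ↥M) ≤ 2) :
    Group.IsSolvable G := by
  haveI : Fact (Nat.Prime 2) := ⟨Nat.prime_two⟩
  rcases Nat.even_or_odd (Nat.card G) with hG | hG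
  swap
  · exact S0205.result hG
  have hA : Odd (Nat.card A) := by
    rw [← Nat.coprime_two_right]
    exact Nat.Coprime.coprime_dvd_right (even_iff_two_dvd.1 hG) hcop
  letI : MulDistribMulAction A G := MulDistribMulAction.compHom G φ
  refine FGS.CT2.deskins_janko (S0205.result hA) hcop M hMtop hMinv (fun H hH hinv => ?_) hnil ?_
  · by_contra h
    exact hH.ne' (hMmax H hH.le h hinv)
  · obtain ⟨S, hS⟩ := (Solv.NA.isSyl_pCoreOf (p := 2) hnil).exists_sylow_map
    rw [← hS]
    haveI := S.isPGroup'.isNilpotent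
    rintro _ ⟨x, hx, rfl⟩ _ ⟨y, hy, rfl⟩ _ ⟨z, hz, rfl⟩
    exact (S4056.commute_of_class_le_two (h2 S) ⟨x, hx⟩ ⟨y, hy⟩ ⟨z, hz⟩).map
      (M.subtype.comp (S : Subgroup M).subtype)

end Cfsg.Agent.S4038
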