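import Cfsg.Statements.S4082
import Mathlib
import Cfsg.Agent.Grp.PByCyc
import Cfsg.Agent.Grp.CritExp
import Cfsg.Agent.Inv.CycExt

set_option autoImplicit false
open Cfsg

namespace Cfsg.Agent.S4082

open Subgroup Cfsg Cfsg.Agent.PLocal.Amb Cfsg.Agent.Grp.PByCyc

theorem ne_two {G : Type*} [Group G] {p : ℕ} [hq : Fact p.Prime] (hp : p ≠ 2) {y : G} {k : ℕ}
    (h : y ^ p ^ k = 1) : orderOf y ≠ 2 := fun e =>
  hp ((Nat.prime_dvd_prime_iff_eq Nat.prime_two hq.out).1
    (Nat.prime_two.dvd_of_dvd_pow (e ▸ orderOf_dvd_of_pow_eq_one h))).symm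

theorem inverts {G : Type*} [Group G] {C N : Subgroup G} (hCN : C ≤ N)
    (h : ∀ x ∈ N, x ∉ C → orderOf x = 2) {x : G} (hx : x ∈ N) (hxC : x ∉ C) {c : G} (hc : c ∈ C) :
    x * c * x⁻¹ = c⁻¹ := by
  have h1 := orderOf_dvd_iff_pow_eq_one.1 (h x hx hxC).dvd
  have h2 := orderOf_dvd_iff_pow_eq_one.1
    (h (x * c) (mul_mem hx (hCN hc)) fun e => hxC ((C.mul_mem_cancel_right hc).1 e)).dvd
  rw [pow_two] at h1 h2
  rw [inv_eq_of_mul_eq_one_right h1, eq_inv_iff_mul_eq_one, ← h2]
  group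


/-- Let p be an odd prime and G a finite group with Sylow p-subgroup P. Say that G has restricted p-by-cyclic subgroups when every subgroup H of G whose Sylow p-subgroup is normal in H with cyclic quotient is itself cyclic or dihedral of order 2pⁿ for some n. Then G has restricted p-by-cyclic subgroups if and only if P is cyclic and one of the following holds: (1) N_G(P) = C_G(P); or (2) N_G(P)/C_G(P) has order 2 and, for the subgroup Q of order p of P, the centralizer C_G(Q) is abelian and every element of N_G(Q) outside C_G(Q) is an involution inverting every element of C_G(Q). -/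
theorem result {G : Type*} [Group G] [Finite G] {p : ℕ}
    [Fact p.Prime] (hp : p ≠ 2) (P : Sylow p G) :
    (∀ H : Subgroup G, (∀ S : Sylow p ↥H, (S : Subgroup ↥H).Normal) →
        (∀ (S : Sylow p ↥H) [(S : Subgroup ↥H).Normal], IsCyclic (↥H ⧸ (S : Subgroup ↥H))) →
        IsCyclic H ∨ (∃ n : ℕ, Nonempty (H ≃* DihedralGroup (p ^ n)))) ↔
    (IsCyclic P ∧
      (Subgroup.normalizer ((P : Subgroup G) : Set G) = Subgroup.centralizer ((P : Subgroup G) : Set G) ∨
       ((Subgroup.centralizer ((P : Subgroup G) : Set G)).relIndex (Subgroup.normalizer ((P : Subgroup G) : Set G)) = 2 ∧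
        ∀ Q : Subgroup G, Q ≤ P → Nat.card Q = p →
          IsMulCommutative ↥(Subgroup.centralizer (Q : Set G)) ∧
          ∀ x : G, x ∈ Subgroup.normalizer (Q : Set G) → x ∉ Subgroup.centralizer (Q : Set G) →
            orderOf x = 2 ∧ ∀ c : G, c ∈ Subgroup.centralizer (Q : Set G) → x * c * x⁻¹ = c⁻¹))) := by
  constructor
  · intro h
    have key : ∀ T : Subgroup G, IsPGroup p T → ∀ x ∈ 𝐍[T], x ∉ 𝐂[T] →
        orderOf x = 2 ∧ ∀ y ∈ T, x * y * x⁻¹ = y⁻¹ := fun T hT x hx hxC => by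
      obtain ⟨h1, h2⟩ := pbc hT hx
      have hxm : x ∈ T ⊔ zpowers x := mem_sup_right (mem_zpowers x)
      rcases h _ h1 h2 with h3 | ⟨n, ⟨e⟩⟩
      · exact absurd (fun y hy => congrArg Subtype.val ((IsCyclic.commutative
          (α := ↥(T ⊔ zpowers x))).is_comm.comm ⟨y, mem_sup_left hy⟩ ⟨x, hxm⟩)) hxC
      have h4 : ∀ y (hy : y ∈ T), orderOf (⟨y, mem_sup_left hy⟩ : ↥(T ⊔ zpowers x)) ≠ 2 := fun y hy => by
        obtain ⟨k, hk⟩ := isPGroup_iff.1 hT y hy
        rw [orderOf_mk]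
        exact ne_two hp hk
      rcases dih_cases e ⟨x, hxm⟩ with h3 | ⟨h3, h5⟩
      · exact absurd (fun y hy => congrArg Subtype.val (h3 _ (h4 y hy))) hxC
      · exact ⟨by rwa [orderOf_mk] at h3, fun y hy => congrArg Subtype.val (h5 _ (h4 y hy))⟩
    have hP : IsCyclic (P : Subgroup G) := by
      obtain ⟨h1, h2⟩ := pbc P.isPGroup' (one_mem _)
      have h3 := h _ h1 h2
      rw [zpowers_one_eq_bot, sup_bot_eq] at h3
      refine h3.resolve_right fun ⟨n, ⟨e⟩⟩ => ?_
      obtain ⟨k, hk⟩ := P.isPGroup' (e.symm (DihedralGroup.sr 0))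
      exact ne_two hp hk (by rw [MulEquiv.orderOf_eq, DihedralGroup.orderOf_sr])
    refine ⟨hP, or_iff_not_imp_left.2 fun hne => ?_⟩
    obtain ⟨a, ha, haC⟩ := SetLike.exists_of_lt
      (lt_of_le_of_ne (centralizer_le_normalizer ((P : Subgroup G) : Set G)) (Ne.symm hne))
    obtain ⟨ha1, ha2⟩ := key _ P.isPGroup' a ha haC
    refine ⟨index_eq_two_iff.2 ⟨⟨a, ha⟩, fun b => ?_⟩, fun Q hQ hc => ?_⟩
    · by_cases hb : (b : G) ∈ 𝐂[(P : Subgroup G)]
      · exact Or.inr ⟨hb, fun h => haC ((Subgroup.mul_mem_cancel_left _ hb).1 h)⟩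
      · refine Or.inl ⟨fun y hy => ?_, hb⟩
        change y * (b * a) = b * a * y
        rw [eq_comm, ← mul_inv_eq_iff_eq_mul]
        calc (b : G) * a * y * (b * a)⁻¹ = b * (a * y * a⁻¹) * (b : G)⁻¹ := by group
          _ = y := by rw [ha2 y hy, (key _ P.isPGroup' b b.2 hb).2 _ (inv_mem hy), inv_inv]
    have h1 : ∀ x ∈ 𝐍[Q], x ∉ 𝐂[Q] → orderOf x = 2 := fun x hx hxC =>
      (key Q (P.isPGroup'.to_le hQ) x hx hxC).1
    have haQ : a ∈ 𝐍[Q] := mem_normalizer_of_cj_le (cj_le_iff_forall.2 fun y hy => by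
      rw [ha2 y (hQ hy)]; exact inv_mem hy)
    have haQ' : a ∉ 𝐂[Q] := fun e => by
      have : Nontrivial Q := Finite.one_lt_card_iff_nontrivial.1 (hc ▸ (Fact.out : p.Prime).one_lt)
      obtain ⟨⟨y, hy⟩, hy1⟩ := exists_ne (1 : Q)
      obtain ⟨k, hk⟩ := isPGroup_iff.1 P.isPGroup' y (hQ hy)
      refine ne_two hp hk (orderOf_eq_prime ?_ fun e => hy1 (Subtype.ext e))
      have h2 := ha2 y (hQ hy)
      rw [← e y hy, mul_inv_cancel_right, eq_inv_iff_mul_eq_one] at h2
      rw [pow_two, h2]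
    refine ⟨⟨⟨fun c d => Subtype.ext ?_⟩⟩, fun x hx hxC =>
      ⟨h1 x hx hxC, fun c hc => inverts (centralizer_le_normalizer _) h1 hx hxC hc⟩⟩
    have h2 := fun c (hc : c ∈ 𝐂[Q]) => inverts (centralizer_le_normalizer _) h1 haQ haQ' hc
    have h3 := h2 _ (mul_mem c.2 d.2)
    rw [← conj_mul, h2 _ c.2, h2 _ d.2, ← mul_inv_rev, inv_inj] at h3
    exact h3.symm
  · rintro ⟨hP, h⟩ H hn hq
    obtain ⟨S⟩ : Nonempty (Sylow p H) := inferInstance
    have := hn S
    obtain ⟨T, hT⟩ := (S.isPGroup'.map H.subtype).exists_le_sylow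
    have : IsCyclic (T : Subgroup G) := isCyclic_of_surjective (P.equiv T) (P.equiv T).surjective
    have hS : IsCyclic (S : Subgroup H) :=
      ((S : Subgroup H).equivMapOfInjective _ H.subtype_injective).isCyclic.2
        (isCyclic_of_injective (inclusion hT) (inclusion_injective hT))
    rw [or_iff_not_imp_left]
    intro hc
    obtain ⟨g, hg, hgC⟩ : ∃ g : H, (orderOf g).Coprime p ∧ g ∉ 𝐂[(S : Subgroup H)] := by
      by_contra! h1
      exact hc (isCyclic_of_cent S hS (hq S) h1)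
    rcases h with h | ⟨-, h⟩
    · exfalso
      have hK := MonoidHom.ker_transferSylow_isComplement' P h.le
      set K := (MonoidHom.transferSylow P h.le).ker
      have h1 : (g : G) ∈ K := by
        refine mem_of_pow_mem_of_coprime (K.pow_index_mem (g : G)) ?_
        obtain ⟨k, hk⟩ := P.isPGroup'.exists_card_eq
        rw [hK.symm.index_eq_card, hk, orderOf_coe]
        exact hg.pow_right k
      refine hgC fun y hy => (commute_of_normal_of_disjoint (K.subgroupOf H) S inferInstance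
        inferInstance ?_ g y h1 hy).symm
      refine disjoint_def.2 fun {x} hx hxS => eq_one_of_isPGroup_of_coprime S.isPGroup' hxS ?_
      rw [← orderOf_coe]
      refine Nat.Coprime.coprime_dvd_left (K.orderOf_dvd_natCard hx) ?_
      rw [← hK.index_eq_card]
      exact ((Nat.Prime.coprime_iff_not_dvd Fact.out).2 P.not_dvd_index).symm
    obtain ⟨y, hy, hyp, hyg⟩ : ∃ y ∈ (S : Subgroup H), y ^ p = 1 ∧ y * g ≠ g * y := by
      by_contra! h1
      exact hgC (Grp.CritExp.mem_centralizer_of_fix S.isPGroup' (le_normalizer_of_normal (mem_top g)) hg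
        fun x hx h2 => h1 x hx (by rwa [Grp.CritExp.expQ_of_ne hp] at h2))
    have hy1 : orderOf y = p := orderOf_eq_prime hyp fun e => hyg (by simp [e])
    have hg2 : orderOf g = 2 ∧ ∀ c : H, y * c = c * y → g * c * g⁻¹ = c⁻¹ ∧
        ∀ x : H, y * x ≠ x * y → orderOf x = 2 := by
      obtain ⟨u, -, hu⟩ := (isSyl_top P).exists_cj_le (R := zpowers (y : G))
        (IsPGroup.of_card (n := 1) (by rw [Nat.card_zpowers, orderOf_coe, hy1, pow_one])) le_top
      obtain ⟨-, h2⟩ := h _ hu (by rw [card_cj, Nat.card_zpowers, orderOf_coe, hy1])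
      rw [normalizer_cj, centralizer_cj, centralizer_zpowers] at h2
      have h3 : ∀ x : H, y * x ≠ x * y → orderOf x = 2 ∧ ∀ c : H, y * c = c * y → x * c * x⁻¹ = c⁻¹ := by
        intro x hx
        obtain ⟨h4, h5⟩ := h2 _ (conj_mem_cj u (x := (x : G)) (Q := 𝐍[zpowers (y : G)]) (mem_normalizer_of_cj_le (by
          rw [MonoidHom.map_zpowers, zpowers_le]
          obtain ⟨k, hk⟩ := Grp.SympT.mem_zpowers_of_cyclic hS ((hn S).conj_mem y hy x) hy
            (by rw [hy1, conj_pow, hyp, mul_one, mul_inv_cancel])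
          exact ⟨k, congrArg Subtype.val hk⟩))) (by
          rw [conj_mem_cj_iff, mem_centralizer_singleton_iff]
          exact fun e => hx (Subtype.ext e.symm))
        refine ⟨by rwa [orderOf_conj', orderOf_coe] at h4, fun c hc => Subtype.ext ?_⟩
        have h6 := h5 _ (conj_mem_cj u (x := (c : G)) (mem_centralizer_singleton_iff.2
          (congrArg Subtype.val hc).symm))
        rw [conj_inv, conj_inv, conj_mul, conj_mul] at h6
        simpa using h6
      exact ⟨(h3 g hyg).1, fun c hc => ⟨(h3 g hyg).2 c hc, fun x hx => (h3 x hx).1⟩⟩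
    obtain ⟨a, ha⟩ := (Subgroup.isCyclic_iff_exists_zpowers_eq_top _).1 hS
    have hya : y * a = a * y := congrArg Subtype.val ((IsCyclic.commutative (α := (S : Subgroup H))).is_comm.comm
      ⟨y, hy⟩ ⟨a, ha ▸ mem_zpowers a⟩)
    have hgS : g ∉ (S : Subgroup H) := fun e => hyg (congrArg Subtype.val
      ((IsCyclic.commutative (α := (S : Subgroup H))).is_comm.comm ⟨y, hy⟩ ⟨g, e⟩))
    have hgg := orderOf_dvd_iff_pow_eq_one.1 hg2.1.dvd
    obtain ⟨n, hn'⟩ := S.isPGroup'.exists_card_eq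
    obtain ⟨e⟩ := Inv.nonempty_dihedral_of_gens (x := a) (y := g) (m := p ^ n)
      (by rw [← hn', ← ha, Nat.card_zpowers]) (hg2.2 a hya).1 (by rw [← pow_two, hgg]) (by rwa [ha])
    refine ⟨n, ⟨(topEquiv.symm.trans (MulEquiv.subgroupCongr (eq_top_iff.2 fun x _ => ?_).symm)).trans e⟩⟩
    let π := QuotientGroup.mk' (S : Subgroup H)
    have := hq S
    have h1 : orderOf (π g) = 2 := orderOf_eq_prime (by rw [← map_pow, hgg, map_one])
      fun e => hgS ((QuotientGroup.eq_one_iff g).1 e)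
    have h2 : π x ^ 2 = 1 := by
      by_cases hx : y * x = x * y
      · have h3 := congrArg π (hg2.2 x hx).1
        rw [map_mul, map_mul, IsCyclic.commutative.is_comm.comm (π g), map_inv, map_inv,
          mul_inv_cancel_right, eq_inv_iff_mul_eq_one] at h3
        rw [pow_two, h3]
      · rw [← map_pow, orderOf_dvd_iff_pow_eq_one.1 ((hg2.2 a hya).2 x hx).dvd, map_one]
    obtain ⟨k, hk⟩ := Solv.Frob.mem_zpowers_of_orderOf_dvd (x := π g) (y := π x)
      (h1 ▸ orderOf_dvd_of_pow_eq_one h2)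
    have h3 : (g ^ k)⁻¹ * x ∈ zpowers a := by
      rw [ha, ← QuotientGroup.eq]
      exact (map_zpow π g k).trans hk
    rw [← mul_inv_cancel_left (g ^ k) x]
    exact mul_mem (zpow_mem (subset_closure (by simp)) k) (zpowers_le.2 (subset_closure (by simp)) h3)

end Cfsg.Agent.S4082
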