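import Cfsg.Statements.S4083
import Mathlib
import Cfsg.Agent.Grp.PByCyc
import Cfsg.Agent.GW.Basic
import Cfsg.Agent.Inv.CoreSig2
import Cfsg.Agent.S0228
import Cfsg.Agent.Inv.AutTwo
import Cfsg.Agent.Misc.Four

set_option autoImplicit false
open Cfsg

namespace Cfsg.Agent.S4083

open Subgroup Cfsg Cfsg.Agent.PLocal.Amb Cfsg.Agent.Grp.PByCyc

theorem aux {H : Type*} [Group H] [Finite H] (h1 : ∀ P : Subgroup H, IsPGroup 2 P →
      IsCyclic P ∨ ∃ n : ℕ, 2 ≤ n ∧ Nonempty (P ≃* DihedralGroup n))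
    (h2 : ∀ K : Subgroup H, IsKleinFour K → 𝐂[K] ≤ K) (S : Sylow 2 H) [(S : Subgroup H).Normal]
    (hq : IsCyclic (H ⧸ (S : Subgroup H))) :
    IsCyclic H ∨ (∃ n : ℕ, Nonempty (H ≃* DihedralGroup (2 ^ n))) ∨
      Nonempty (H ≃* alternatingGroup (Fin 4)) := by
  have hN : ∀ g, g ∈ 𝐍[(S : Subgroup H)] := fun g => le_normalizer_of_normal (mem_top g)
  rcases h1 S S.isPGroup' with h | ⟨m, hm, ⟨e⟩⟩
  · exact Or.inl (isCyclic_of_cent S h hq fun g hg =>
      Inv.mem_centralizer_of_isPGroup_mulAut (Inv.CoreSig.isPGroup_mulAut_of_isCyclic S.isPGroup' h) (hN g) hg)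
  by_cases hP : IsPGroup 2 (⊤ : Subgroup H)
  · obtain ⟨j, hj⟩ := S.isPGroup'.exists_card_eq
    rw [Inv.card_of_equiv_dihedral e] at hj
    obtain ⟨n, -, rfl⟩ := (Nat.dvd_prime_pow Nat.prime_two).1 (Dvd.intro_left 2 hj)
    exact Or.inr (Or.inl ⟨n, ⟨(topEquiv.symm.trans (MulEquiv.subgroupCongr (S.3 hP le_top))).trans e⟩⟩)
  have hone : ∀ K ≤ (S : Subgroup H), IsKleinFour K → ∀ g ∈ 𝐂[K], (orderOf g).Coprime 2 → g = 1 :=
    fun K hK hK4 g hg hc => eq_one_of_isPGroup_of_coprime S.isPGroup' (hK (h2 K hK4 hg)) hc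
  obtain ⟨g, hg1, hg⟩ : ∃ g : H, g ≠ 1 ∧ (orderOf g).Coprime 2 := by
    by_contra! h
    exact hP (isPGroup_of_forall_coprime fun g _ hg => by_contra fun h1 => h g h1 hg)
  have hV : IsKleinFour (S : Subgroup H) := by
    refine Inv.isKleinFour_of_le_dihedral S.isPGroup' hm e le_rfl fun hA => hg1 ?_
    have h3 := Inv.mem_centralizer_of_isPGroup_mulAut hA (hN g) hg
    rcases Inv.kleinFour_or_DC S.isPGroup' hm e with h | ⟨k, -, ⟨c⟩⟩
    · exact hone _ le_rfl h g h3 hg
    · exact hone _ (c.T_le 0) (c.isKleinFour_T 0) g (centralizer_le (c.T_le 0) h3) hg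
  have hC : 𝐂[(S : Subgroup H)] = S := le_antisymm (h2 _ hV) fun a ha b hb => Inv.Klein.comm hV hb ha
  have h6 := Inv.relIndex_centralizer_kleinFour_dvd hV
  rw [hC, normalizer_eq_top, relIndex_top_right] at h6
  have h3 : (S : Subgroup H).index = 3 := by
    have h4 := S.not_dvd_index
    have h5 : (S : Subgroup H).index ≠ 1 := fun h => hP (index_eq_one.1 h ▸ S.isPGroup')
    have := Nat.le_of_dvd (by norm_num) h6
    generalize (S : Subgroup H).index = i at *
    interval_cases i <;> simp_all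
  refine Or.inr (Or.inr (S0228.result (by rw [← (S : Subgroup H).card_mul_index, h3, hV.card_four])
    fun z hz hzc => hg1 (hone _ le_rfl hV g ?_ hg)))
  exact Inv.mem_centralizer_kleinFour_of_odd hV (hN g) (Nat.coprime_two_right.1 hg)
    (hC.le fun y _ => mem_center_iff.1 hzc y) (fun e => by simp [e] at hz)
    (mul_inv_eq_iff_eq_mul.2 (mem_center_iff.1 hzc g))


/-- Let G be a finite group with Sylow 2-subgroup P. Every subgroup H of G whose Sylow 2-subgroup is normal in H with cyclic quotient is cyclic, dihedral of 2-power order, or isomorphic to the alternating group of degree 4, if and only if either P is cyclic, or P is dihedral (of order at least 4) and every elementary abelian subgroup K of order 4 of P satisfies C_G(K) = K. -/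
theorem result {G : Type*} [Group G] [Finite G] (P : Sylow 2 G) :
    (∀ H : Subgroup G, (∀ S : Sylow 2 ↥H, (S : Subgroup ↥H).Normal) →
        (∀ (S : Sylow 2 ↥H) [(S : Subgroup ↥H).Normal], IsCyclic (↥H ⧸ (S : Subgroup ↥H))) →
        IsCyclic H ∨ (∃ n : ℕ, Nonempty (H ≃* DihedralGroup (2 ^ n))) ∨ Nonempty (H ≃* alternatingGroup (Fin 4))) ↔
    (IsCyclic P ∨
      ((∃ n : ℕ, 1 ≤ n ∧ Nonempty ((P : Subgroup G) ≃* DihedralGroup (2 ^ n))) ∧
        ∀ K : Subgroup G, K ≤ P → Nat.card K = 4 → (∀ k ∈ K, k ^ 2 = 1) → Subgroup.centralizer (K : Set G) = K)) := by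
  constructor
  · intro h
    obtain ⟨h1, h2⟩ := pbc P.isPGroup' (one_mem _)
    have h3 := h _ h1 h2
    rw [zpowers_one_eq_bot, sup_bot_eq] at h3
    rcases h3 with h3 | ⟨n, ⟨e⟩⟩ | ⟨⟨e⟩⟩
    · exact Or.inl h3
    · rcases n with _ | n
      · exact Or.inl (isCyclic_of_prime_card (p := 2) (by rw [Inv.card_of_equiv_dihedral e]; rfl))
      refine Or.inr ⟨⟨n + 1, by omega, ⟨e⟩⟩, fun K hK h4 hK2 => ?_⟩
      have hV : IsKleinFour K := Misc.isKleinFour_iff.2 ⟨h4, hK2⟩
      have hKC : K ≤ 𝐂[K] := fun a ha b hb => Inv.Klein.comm hV hb ha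
      refine le_antisymm (fun x hx => ?_) hKC
      obtain ⟨h1, h2⟩ := pbc (P.isPGroup'.to_le hK) (centralizer_le_normalizer _ hx)
      have hc : ∀ a b : ↥(K ⊔ zpowers x), a * b = b * a := fun a b => by
        have h5 : K ⊔ zpowers x ≤ 𝐂[K ⊔ zpowers x] := by
          rw [centralizer_sup]
          refine le_inf (sup_le hKC (zpowers_le.2 hx)) (sup_le (le_centralizer_iff.1 (zpowers_le.2 hx)) ?_)
          exact le_centralizer _
        exact Subtype.ext (h5 b.2 a a.2)
      rcases h _ h1 h2 with h3 | ⟨m, ⟨e⟩⟩ | ⟨⟨e⟩⟩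
      · exact absurd (isCyclic_of_injective (inclusion (le_sup_left : K ≤ K ⊔ zpowers x)) (inclusion_injective _))
          (IsKleinFour.not_isCyclic (G := K))
      · have h5 : 2 ^ m = 1 ∨ 2 ^ m = 2 := by
          have h6 := DihedralGroup.commutative_iff (n := 2 ^ m)
          refine h6.1 ⟨⟨fun a b => ?_⟩⟩
          obtain ⟨a, rfl⟩ := e.surjective a
          obtain ⟨b, rfl⟩ := e.surjective b
          rw [← map_mul, hc, map_mul]
        have h6 := Inv.card_of_equiv_dihedral e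
        rw [eq_of_le_of_card_ge (le_sup_left : K ≤ K ⊔ zpowers x) (by omega)]
        exact mem_sup_right (mem_zpowers x)
      · exfalso
        have h5 : ∀ a b : alternatingGroup (Fin 4), a * b = b * a := fun a b => by
          obtain ⟨a, rfl⟩ := e.surjective a
          obtain ⟨b, rfl⟩ := e.surjective b
          rw [← map_mul, hc, map_mul]
        revert h5
        decide
    · exfalso
      obtain ⟨k, hk⟩ := P.isPGroup'.exists_card_eq
      have h4 : Nat.card (alternatingGroup (Fin 4)) = 12 := by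
        rw [Nat.card_eq_fintype_card]; decide
      rw [Nat.card_congr e.toEquiv, h4] at hk
      exact absurd (Nat.prime_three.dvd_of_dvd_pow (show 3 ∣ 2 ^ k from hk ▸ by norm_num)) (by norm_num)
  · intro h H hn hq
    obtain ⟨S⟩ : Nonempty (Sylow 2 H) := inferInstance
    have := hn S
    have hc : ∀ B : Subgroup H, B ≃* B.map H.subtype := fun B =>
      B.equivMapOfInjective _ H.subtype_injective
    rcases h with h | ⟨⟨n, hn, h⟩, hK⟩
    · obtain ⟨T, hT⟩ := (S.isPGroup'.map H.subtype).exists_le_sylow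
      have : IsCyclic (T : Subgroup G) := isCyclic_of_surjective (P.equiv T) (P.equiv T).surjective
      have h1 : IsCyclic (S : Subgroup H) := (hc S).isCyclic.2
        (isCyclic_of_injective (inclusion hT) (inclusion_injective hT))
      exact Or.inl (isCyclic_of_cent S h1 (hq S) fun g hg => Inv.mem_centralizer_of_isPGroup_mulAut
        (Inv.CoreSig.isPGroup_mulAut_of_isCyclic S.isPGroup' h1) (le_normalizer_of_normal (mem_top g)) hg)
    refine aux (fun B hB => ?_) (fun K hK4 x hx => ?_) S (hq S)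
    · rcases GW.DihSyl.two ⟨P, _, Nat.le_self_pow (by omega) 2, h⟩ (hB.map H.subtype) with
        h1 | ⟨m, hm, ⟨e⟩⟩
      · exact Or.inl ((hc B).isCyclic.2 h1)
      · exact Or.inr ⟨m, hm, ⟨(hc B).trans e⟩⟩
    · obtain ⟨h4, h2⟩ := Misc.isKleinFour_iff.1 hK4
      obtain ⟨g, -, hg⟩ := (isSyl_top P).exists_cj_le ((IsPGroup.of_card (p := 2) (n := 2) h4).map H.subtype) le_top
      have h5 := hK _ hg (by rw [card_cj, ← Nat.card_congr (hc K).toEquiv, h4]) (by
        rintro _ ⟨_, ⟨y, hy, rfl⟩, rfl⟩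
        rw [← map_pow, ← map_pow, h2 y hy, map_one, map_one])
      rw [centralizer_cj, cj_inj] at h5
      obtain ⟨y, hy, e⟩ := h5.le (show (x : G) ∈ 𝐂[K.map H.subtype] by
        rintro _ ⟨y, hy, rfl⟩
        exact congrArg Subtype.val (hx y hy))
      exact (Subtype.ext e : y = x) ▸ hy

end Cfsg.Agent.S4083
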