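import Cfsg.Statements.S4087
import Mathlib
import Cfsg.Agent.CIT.SpecEPPO
import Cfsg.Agent.CIT.SpecM10
import Cfsg.Agent.CIT.General

set_option autoImplicit false
open Cfsg

namespace Cfsg.Agent.S4087

open Cfsg.Agent.CIT in
theorem pf_L2 {G : Type*} [Group G] [Finite G] {F : Type*} [Field F] [Fintype F]
    (hF : Fintype.card F = 4 ∨ Fintype.card F = 8 ∨ Fintype.card F = 7 ∨ Fintype.card F = 17)
    (e : G ≃* Matrix.ProjectiveSpecialLinearGroup (Fin 2) F) :
    2 ∣ Nat.card G ∧ (Nat.card G).primeFactors.card = 3 := by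
  rw [Nat.card_congr e.toEquiv]
  rcases hF with hF | hF | hF | hF <;> rw [card_PSL2_of_card hF] <;> decide +kernel

open Cfsg.Agent.CIT in
theorem pf_Sz {G : Type*} [Group G] [Finite G] {F : Type} [Field F] [Fintype F]
    (h : (Fintype.card F = 8 ∧ Nonempty (G ≃* Lie.Sz F 4)) ∨
      (Fintype.card F = 32 ∧ Nonempty (G ≃* Lie.Sz F 8))) :
    2 ∣ Nat.card G ∧ (Nat.card G).primeFactors.card = 4 := by
  rcases h with ⟨hF, ⟨e⟩⟩ | ⟨hF, ⟨e⟩⟩
  · rw [Nat.card_congr e.toEquiv, show Nat.card (Lie.Sz F 4) = _ from card_lieSz (m := 1) le_rfl hF]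
    decide +kernel
  · rw [Nat.card_congr e.toEquiv, show Nat.card (Lie.Sz F 8) = _ from card_lieSz (m := 2) (by norm_num) hF]
    decide +kernel

/-- Let G be a finite group in which every non-identity element has prime-power order (its prime graph has no edges). Then the order of G has at most four distinct prime divisors; and if it has exactly four, then either G is isomorphic to PSL(3,4), or G has a normal 2-subgroup N with G/N isomorphic to the Suzuki group over the field with 8 or with 32 elements. -/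
theorem result {G : Type*} [Group G] [Finite G] (h : ∀ g : G, g ≠ 1 → IsPrimePow (orderOf g)) :
    (Nat.card G).primeFactors.card ≤ 4 ∧
    ((Nat.card G).primeFactors.card = 4 →
      (∃ (F : Type) (_ : Field F) (_ : Fintype F), Fintype.card F = 4 ∧
        Nonempty (G ≃* Matrix.ProjectiveSpecialLinearGroup (Fin 3) F)) ∨
      (∃ (N : Subgroup G) (_ : N.Normal), IsPGroup 2 ↥N ∧
        ∃ (F : Type) (_ : Field F) (_ : Fintype F),
          (Fintype.card F = 8 ∧ Nonempty (G ⧸ N ≃* ↥(Cfsg.Lie.Sz F 4))) ∨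
          (Fintype.card F = 32 ∧ Nonempty (G ⧸ N ≃* ↥(Cfsg.Lie.Sz F 8))))) := by
  have he := CIT.eppo_of h
  by_cases h3 : 3 ≤ (Nat.card G).primeFactors.card
  swap
  · exact ⟨by omega, fun h4 => by omega⟩
  rcases CIT.cit_general (he.not_isSolvable h3) he.isCIT with
    (h1 | h1 | h1 | h1 | h1) | ⟨N, hn, hN, hL⟩ | ⟨Q, _, hQ, -, h1 | h1⟩
  · obtain ⟨F, _, _, hF, ⟨e⟩⟩ := he.L2Even h1
    have := (pf_L2 (by tauto) e).2
    exact ⟨by omega, fun h4 => by omega⟩
  · obtain ⟨F, _, _, hF⟩ := he.Sz h1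
    refine ⟨(pf_Sz hF).2.le, fun _ => Or.inr ⟨⊥, inferInstance, IsPGroup.of_bot, F, inferInstance,
      inferInstance, hF.imp ?_ ?_⟩⟩ <;>
    exact fun ⟨h1, ⟨e⟩⟩ => ⟨h1, ⟨QuotientGroup.quotientBot.trans e⟩⟩
  · obtain ⟨F, _, _, hF, ⟨e⟩⟩ := he.L2Prime h1
    have := (pf_L2 (by tauto) e).2
    exact ⟨by omega, fun h4 => by omega⟩
  · obtain ⟨F, _, _, hF, ⟨e⟩⟩ := h1
    have : (Nat.card G).primeFactors.card = 3 := by
      rw [Nat.card_congr e.toEquiv, CIT.card_PSL2_of_card hF]; decide +kernel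
    exact ⟨by omega, fun h4 => by omega⟩
  · refine ⟨?_, fun _ => Or.inl h1⟩
    obtain ⟨F, _, _, hF, ⟨e⟩⟩ := h1
    rw [Nat.card_congr e.toEquiv, CIT.card_L3_four hF]; decide +kernel
  · have : (Nat.card G).primeFactors.card = 3 := by
      rw [CIT.card_of_index_two N hN hL]; decide +kernel
    exact ⟨by omega, fun h4 => by omega⟩
  · obtain ⟨F, _, _, hF, ⟨e⟩⟩ := (he.quot Q).L2Even h1
    have := pf_L2 (by tauto) e
    rw [← CIT.primeFactors_quot Q (hQ ▸ Grp.pCore_isPGroup 2 G) this.1] at this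
    exact ⟨by omega, fun h4 => by omega⟩
  · obtain ⟨F, _, _, hF⟩ := (he.quot Q).Sz h1
    have := pf_Sz hF
    rw [← CIT.primeFactors_quot Q (hQ ▸ Grp.pCore_isPGroup 2 G) this.1] at this
    exact ⟨this.2.le, fun _ => Or.inr ⟨Q, inferInstance, hQ ▸ Grp.pCore_isPGroup 2 G, F,
      inferInstance, inferInstance, hF⟩⟩

end Cfsg.Agent.S4087
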