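import Cfsg.Statements.S4112
import Mathlib
import Cfsg.Agent.FGS.PiFusion
import Cfsg.Agent.FGS.PrimePart
import Cfsg.Agent.PLocal.AmbSyl
import Cfsg.Agent.Grp.Card

set_option autoImplicit false
open Cfsg

namespace Cfsg.Agent.S4112

open PLocal.Amb

/-- Let G be a finite group and M ≤ N non-trivial proper normal subgroups such that for every g outside N the conjugacy class of g is a union of cosets of M (equivalently gm is conjugate to g for every m ∈ M). Then (1) and (2) below are equivalent, and they imply (3): (1) every g outside N acts fixed-point-freely on M, that is C_G(x) ≤ N for every x ∈ M, x ≠ 1; (2) the index of N in G is coprime to the order of M; (3) there is a subgroup H of G with HN = G and H ∩ M = 1. -/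
theorem result {G : Type*} [Group G] [Finite G] (N M : Subgroup G) [N.Normal] [M.Normal] (hMN : M ≤ N) (hM1 : M ≠ ⊥) (hN2 : N ≠ ⊤)
    (hcam : ∀ g : G, g ∉ N → ∀ m ∈ M, ∃ x : G, x * g * x⁻¹ = g * m) :
    ((∀ x ∈ M, x ≠ 1 → Subgroup.centralizer ({x} : Set G) ≤ N) ↔ N.index.Coprime (Nat.card M)) ∧
    ((∀ x ∈ M, x ≠ 1 → Subgroup.centralizer ({x} : Set G) ≤ N) → ∃ H : Subgroup G, H ⊔ N = ⊤ ∧ H ⊓ M = ⊥) := by
  have hq : ∀ q : ℕ, q.Prime → ¬ q ∣ N.index → ∀ y : G, (∃ k, y ^ q ^ k = 1) → y ∈ N := by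
    rintro q hq hd y ⟨k, hk⟩
    refine mem_of_pow_mem_of_coprime (N.pow_index_mem y) ?_
    exact Nat.Coprime.coprime_dvd_left (orderOf_dvd_of_pow_eq_one hk)
      (Nat.Coprime.pow_left _ ((Nat.Prime.coprime_iff_not_dvd hq).2 hd))
  have h12 : (∀ x ∈ M, x ≠ 1 → Subgroup.centralizer ({x} : Set G) ≤ N) →
      N.index.Coprime (Nat.card M) := by
    intro h
    rw [Nat.coprime_iff_gcd_eq_one]
    by_contra hne
    obtain ⟨r, hr, hd⟩ := Nat.exists_prime_and_dvd hne
    haveI := Fact.mk hr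
    obtain ⟨T, hT⟩ := exists_isSyl r (⊤ : Subgroup G)
    have hTM := hT.inf_of_le (N := M) le_top (by rw [Subgroup.normalizer_eq_top])
    have h1 : T ⊓ M ≠ ⊥ := fun h => hTM.eq_bot_iff.1 h (hd.trans (Nat.gcd_dvd_right _ _))
    have h2 := inf_centralizer_ne_bot hT.pgrp hTM.pgrp
      (le_normalizer_inf Subgroup.le_normalizer
        (by rw [Subgroup.normalizer_eq_top]; exact le_top)) h1
    obtain ⟨⟨x, hx⟩, hx1⟩ := Subgroup.ne_bot_iff_exists_ne_one.1 h2
    have h3 : T ≤ N := fun t ht => h x hx.1.2 (by simpa using hx1)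
      (Subgroup.mem_centralizer_singleton_iff.2 (Subgroup.mem_centralizer_iff.1 hx.2 t ht))
    apply hT.not_dvd_relIndex
    rw [Subgroup.relIndex_top_right]
    exact (hd.trans (Nat.gcd_dvd_left _ _)).trans (Subgroup.index_dvd_of_le h3)
  refine ⟨⟨h12, fun h x hx hx1 g hg => ?_⟩, fun h => ?_⟩
  · refine FGS.mem_of_forall_primePow_part fun r hr y hy hyr => ?_
    by_contra hyN
    have hrd : r ∣ N.index := by
      by_contra h'
      exact hyN (hq r hr h' y hyr)
    have hc : Commute y x :=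
      Subgroup.mem_centralizer_singleton_iff.1 ((Subgroup.zpowers_le.2 hg) hy)
    obtain ⟨z, hz⟩ := hcam y hyN x hx
    obtain ⟨k, hk⟩ := hyr
    have h1 : (y * x) ^ r ^ k = 1 := by rw [← hz, conj_pow, hk]; simp
    rw [hc.mul_pow, hk, one_mul] at h1
    exact hx1 (orderOf_eq_one_iff.1 (Nat.eq_one_of_dvd_coprimes
      (Nat.Coprime.pow_left k (h.coprime_dvd_left hrd)) (orderOf_dvd_of_pow_eq_one h1)
      (M.orderOf_dvd_natCard hx)))
  · obtain ⟨H, hH, -, -, hs⟩ := FGS.exists_pi_supplement {q | q ∣ N.index} (N := ⊤) (C := N)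
      (Q := ⊥) le_top (by rw [Subgroup.normalizer_eq_top]) bot_le
      (by rw [Subgroup.normalizer_eq_top]) (by
        intro x _
        rw [Subgroup.mem_centralizer_iff]
        intro y hy
        rw [SetLike.mem_coe, Subgroup.mem_bot] at hy
        simp [hy])
      (by
        intro q hq hd
        rw [Subgroup.card_bot, Nat.dvd_one] at hd
        exact absurd hd hq.ne_one)
      (fun q h1 h2 y _ hy => hq q h1 h2 y hy)
    refine ⟨H, hs, ?_⟩
    rw [eq_bot_iff]
    intro x hx
    rw [Subgroup.mem_bot, ← orderOf_eq_one_iff]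
    by_contra hne
    obtain ⟨r, hr, hd⟩ := Nat.exists_prime_and_dvd hne
    exact hr.one_lt.ne' (Nat.eq_one_of_dvd_coprimes (h12 h)
      (hH r hr (hd.trans (H.orderOf_dvd_natCard hx.1))) (hd.trans (M.orderOf_dvd_natCard hx.2)))

end Cfsg.Agent.S4112
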