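import Cfsg.Statements.S4113
import Mathlib
import Cfsg.Agent.PLocal.AmbSyl
import Cfsg.Agent.Grp.CardProduct

set_option autoImplicit false
open Cfsg

namespace Cfsg.Agent.S4113

open PLocal.Amb

/-- If `h` centralizes no nontrivial element of the normal subgroup `M`, every element of `M h`
is conjugate to `h` under `M`. -/
theorem exists_conj_of_fpf {G : Type*} [Group G] [Finite G] (M : Subgroup G) [hM : M.Normal] (h : G)
    (hf : ∀ m ∈ M, h * m = m * h → m = 1) (m : G) (hm : m ∈ M) :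
    ∃ k ∈ M, k * h * k⁻¹ = m * h := by
  let f : M → M := fun k => ⟨k * h * (k : G)⁻¹ * h⁻¹, by
    have := M.mul_mem k.2 (hM.conj_mem _ (M.inv_mem k.2) h)
    simpa [mul_assoc] using this⟩
  have hinj : Function.Injective f := by
    intro a b hab
    have h1 : (a : G) * h * (a : G)⁻¹ * h⁻¹ = b * h * (b : G)⁻¹ * h⁻¹ := congrArg Subtype.val hab
    have h2 : (a : G) * h * (a : G)⁻¹ = b * h * (b : G)⁻¹ := mul_right_cancel h1
    have := hf ((b : G)⁻¹ * a) (M.mul_mem (M.inv_mem b.2) a.2) (by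
      calc h * ((b : G)⁻¹ * a) = (b : G)⁻¹ * (b * h * (b : G)⁻¹) * a := by group
        _ = (b : G)⁻¹ * (a * h * (a : G)⁻¹) * a := by rw [h2]
        _ = _ := by group)
    exact Subtype.ext (inv_mul_eq_one.1 this).symm
  obtain ⟨k, hk⟩ := Finite.surjective_of_injective hinj ⟨m, hm⟩
  refine ⟨k, k.2, ?_⟩
  have : (k : G) * h * (k : G)⁻¹ * h⁻¹ = m := congrArg Subtype.val hk
  rw [← this]; group

/-- Let G be a finite group, M ≤ N non-trivial proper normal subgroups, and H a subgroup with HM = G and H ∩ M = 1. Then every element of G outside N acts fixed-point-freely on M (C_G(x) ≤ N for every x ∈ M, x ≠ 1) if and only if H ∩ gHg⁻¹ ≤ H ∩ N for every g outside H, with H proper and non-trivial and H ∩ N proper in H. -/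
theorem result {G : Type*} [Group G] [Finite G] (N M : Subgroup G) [N.Normal] [M.Normal] (hMN : M ≤ N) (hM1 : M ≠ ⊥) (hN2 : N ≠ ⊤)
    (H : Subgroup G) (hHM : H ⊔ M = ⊤) (hHM' : H ⊓ M = ⊥) :
    (∀ x ∈ M, x ≠ 1 → Subgroup.centralizer ({x} : Set G) ≤ N) ↔
      (H ≠ ⊥ ∧ H ≠ ⊤ ∧ H ⊓ N < H ∧ ∀ g : G, g ∉ H → H ⊓ H.map (MulAut.conj g).toMonoidHom ≤ N) := by
  have hdec : ∀ g : G, ∃ m ∈ M, ∃ h ∈ H, m * h = g := by
    intro g
    have : g ∈ M ⊔ H := by rw [sup_comm, hHM]; trivial
    exact (Grp.mem_sup_of_le_normalizer' Subgroup.le_normalizer_of_normal).1 this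
  have hMn : M.Normal := inferInstance
  constructor
  · intro hf
    have hlt : H ⊓ N < H := by
      refine lt_of_le_of_ne inf_le_left (fun h => hN2 ?_)
      rw [eq_top_iff, ← hHM]
      exact sup_le (h ▸ inf_le_right) hMN
    refine ⟨?_, ?_, hlt, ?_⟩
    · rintro rfl; exact not_lt_bot hlt
    · rintro rfl; exact hM1 (by simpa using hHM')
    · rintro g hg y ⟨hy1, hy2⟩
      obtain ⟨m, hm, h, hh, rfl⟩ := hdec g
      have hm1 : m ≠ 1 := by rintro rfl; exact hg (by simpa using hh)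
      have hy3 : m⁻¹ * y * m ∈ H := by
        have := H.mul_mem (H.mul_mem hh (mem_cj.1 hy2)) (H.inv_mem hh)
        simpa [mul_assoc] using this
      have h1 : y⁻¹ * (m⁻¹ * y * m) ∈ H ⊓ M := by
        refine ⟨H.mul_mem (H.inv_mem hy1) hy3, ?_⟩
        have := M.mul_mem (hMn.conj_mem _ (M.inv_mem hm) y⁻¹) hm
        simpa [mul_assoc] using this
      rw [hHM', Subgroup.mem_bot] at h1
      apply hf m hm hm1
      rw [Subgroup.mem_centralizer_singleton_iff]
      calc y * m = m * y * (y⁻¹ * (m⁻¹ * y * m)) := by group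
        _ = m * y := by rw [h1, mul_one]
  · rintro ⟨-, -, -, hW⟩ x hx hx1 c hc
    by_contra hcN
    obtain ⟨m, hm, h, hh, rfl⟩ := hdec c
    have hhN : h ∉ N := fun hh' => hcN (N.mul_mem (hMN hm) hh')
    have hfpf : ∀ m' ∈ M, h * m' = m' * h → m' = 1 := by
      intro m' hm' hc'
      by_contra hne
      have hm'H : m' ∉ H := fun h' => hne (by
        have : m' ∈ H ⊓ M := ⟨h', hm'⟩
        rwa [hHM', Subgroup.mem_bot] at this)
      refine hhN (hW m' hm'H ⟨hh, mem_cj.2 ?_⟩)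
      have : m'⁻¹ * h * m' = h := by rw [mul_assoc, hc']; group
      rwa [this]
    obtain ⟨k, hk, hk'⟩ := exists_conj_of_fpf M h hfpf m hm
    rw [Subgroup.mem_centralizer_singleton_iff, ← hk'] at hc
    have := hfpf (k⁻¹ * x * k) (by simpa using hMn.conj_mem _ hx k⁻¹) (by
      calc h * (k⁻¹ * x * k) = k⁻¹ * (k * h * k⁻¹ * x) * k := by group
        _ = k⁻¹ * (x * (k * h * k⁻¹)) * k := by rw [hc]
        _ = _ := by group)
    apply hx1
    calc x = k * (k⁻¹ * x * k) * k⁻¹ := by group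
      _ = 1 := by rw [this]; group

end Cfsg.Agent.S4113
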