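import Cfsg.Statements.S4122
import Cfsg.Agent.NFP.Gen

set_option autoImplicit false
open Cfsg

namespace Cfsg.Agent.S4122

/-- Let the finite group A act faithfully on the finite group G by automorphisms, A a Frobenius group with kernel F and complement H such that F fixes only the identity of G. Then G is generated by the images under elements of F of the fixed-point subgroup C_G(H). -/
theorem result {G A : Type*} [Group G] [Finite G] [Group A] [Finite A] [MulDistribMulAction A G] [FaithfulSMul A G]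
    (Fk Hc : Subgroup A) [Fk.Normal] (hHc : Cfsg.IsFrobeniusComplement Hc) (hker : Cfsg.frobeniusKernel Hc = (Fk : Set A))
    (hCF : ∀ g : G, (∀ f ∈ Fk, f • g = g) → g = 1) : Subgroup.closure {x : G | ∃ f ∈ Fk, ∃ c : G, (∀ h ∈ Hc, h • c = c) ∧ x = f • c} = ⊤ := by
  obtain ⟨h, h1⟩ := NFP.fh_of_frob hHc hker
  refine eq_top_iff.2 (h.le_of_fix (Solv.Ext.inv_closure ?_) Solv.Ext.inv_top (fun g _ => hCF g)
    fun c _ hc => Subgroup.subset_closure ⟨1, one_mem _, c, hc, (one_smul _ _).symm⟩)
  rintro a _ ⟨f, hf, c, hc, rfl⟩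
  obtain ⟨x, hx, y, hy, e⟩ := (PLocal.Amb.mem_sup_of_le_normalizer_left
    Subgroup.le_normalizer_of_normal).1 (h1 ▸ Subgroup.mem_top (a * f))
  exact ⟨x, hx, c, hc, by rw [← mul_smul, e, mul_smul, hc y hy]⟩

end Cfsg.Agent.S4122
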