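import Cfsg.Statements.S4125
import Cfsg.Agent.FGS.QBaer

set_option autoImplicit false
open Cfsg

namespace Cfsg.Agent.S4125

/-- Let G be a finite group and q a prime dividing its order such that every element of q-power order has a conjugacy class of prime-power size. Then G is q-solvable of q-length 1: there are normal subgroups K ≤ L of G with K of order prime to q, L/K a q-group and L of index prime to q. Moreover there is a prime p such that every element of q-power order has a class of p-power size (one prime serving for all of them), and for a Sylow q-subgroup Q: if p = q then Q is normal with a normal complement (a direct factor), while if p ≠ q then Q is abelian, the product of Q with the largest normal p-subgroup O_p(G) is normal in G, and G/O_{q'}(G) is solvable, where O_{q'}(G) is the largest normal subgroup of order prime to q. -/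
theorem result {G : Type*} [Group G] [Finite G] (q : ℕ) [Fact q.Prime] (hq : q ∣ Nat.card G)
    (hBaer : ∀ x : G, (∃ k : ℕ, orderOf x = q ^ k) → ∃ (r : ℕ) (a : ℕ), r.Prime ∧ (Subgroup.centralizer ({x} : Set G)).index = r ^ a) (Q : Sylow q G) :
    (∃ K L : Subgroup G, K.Normal ∧ L.Normal ∧ K ≤ L ∧ (Nat.card K).Coprime q ∧ (∃ m : ℕ, K.relIndex L = q ^ m) ∧ L.index.Coprime q) ∧
    ∃ p : ℕ, p.Prime ∧ (∀ x : G, (∃ k : ℕ, orderOf x = q ^ k) → ∃ a : ℕ, (Subgroup.centralizer ({x} : Set G)).index = p ^ a) ∧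
      (p = q → (Q : Subgroup G).Normal ∧ ∃ N : Subgroup G, N.Normal ∧ N.IsComplement' (Q : Subgroup G)) ∧
      (p ≠ q → IsMulCommutative (Q : Subgroup G) ∧ (Cfsg.pCore p G ⊔ (Q : Subgroup G)).Normal ∧
        ∀ _h : (Cfsg.pPrimeCore q G).Normal, Group.IsSolvable (G ⧸ Cfsg.pPrimeCore q G)) := by
  have hq' : q.Prime := Fact.out
  have hiff : ∀ x : G, (∃ k : ℕ, x ^ q ^ k = 1) ↔ ∃ k : ℕ, orderOf x = q ^ k := fun x =>
    ⟨fun ⟨k, hk⟩ => by
      obtain ⟨j, -, hj⟩ := (Nat.dvd_prime_pow hq').1 (orderOf_dvd_of_pow_eq_one hk)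
      exact ⟨j, hj⟩, fun ⟨k, hk⟩ => ⟨k, by rw [← hk, pow_orderOf_eq_one]⟩⟩
  obtain ⟨p, hp, h⟩ := FGS.QBaer.exists_prime (q := q) fun x hx => hBaer x ((hiff x).1 hx)
  have hQ : ∀ x ∈ (Q : Subgroup G), ∃ a : ℕ, (Subgroup.centralizer ({x} : Set G)).index = p ^ a :=
    fun x hx => h x (PLocal.Amb.isPGroup_iff.1 Q.2 x hx)
  have := Fact.mk hp
  have hL : ∀ K : Subgroup G, (K ⊔ (Q : Subgroup G)).index.Coprime q := fun K =>
    ((Nat.Prime.coprime_iff_not_dvd hq').2 fun h =>
      Q.not_dvd_index (h.trans (Subgroup.index_dvd_of_le le_sup_right))).symm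
  have hK : ∀ K : Subgroup G, K.Normal → ∃ m : ℕ, K.relIndex (K ⊔ (Q : Subgroup G)) = q ^ m := by
    intro K hK
    rw [Subgroup.relIndex_sup_left]
    exact Q.2.index _
  refine ⟨?_, p, hp, fun x hx => h x ((hiff x).2 hx), ?_, fun hne => ?_⟩
  · by_cases hpq : p = q
    · subst hpq
      refine ⟨⊥, ⊥ ⊔ (Q : Subgroup G), inferInstance, ?_, le_sup_left, by simp,
        hK _ inferInstance, hL _⟩
      rw [bot_sup_eq]
      exact (FGS.QBaer.of_eq Q hQ).1
    · exact ⟨pCore p G, pCore p G ⊔ (Q : Subgroup G), inferInstance, (FGS.QBaer.of_ne hpq Q hQ).2.1,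
        le_sup_left, Grp.coprime_card_of_isPGroup_of_ne hpq (Grp.pCore_isPGroup p G),
        hK _ inferInstance, hL _⟩
  · rintro rfl
    exact FGS.QBaer.of_eq Q hQ
  · obtain ⟨h1, h2, h3⟩ := FGS.QBaer.of_ne hne Q hQ
    exact ⟨h1, h2, fun _ => h3⟩

end Cfsg.Agent.S4125
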