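import Cfsg.Statements.S4135
import Mathlib
import Cfsg.Agent.FGS.BHM
import Cfsg.Agent.Solv.NilpAmb
import Cfsg.Agent.Solv.Coprime3
import Cfsg.Agent.Grp.Fitting
import Cfsg.Agent.S4365

set_option autoImplicit false
open Cfsg

namespace Cfsg.Agent.S4135

open FGS.BHM Subgroup PLocal.Amb
open scoped commutatorElement

theorem mk_mem_centralizer {G : Type*} [Group G] {T : Subgroup G} {g : G} :
    g ∈ (𝐂[T.map (QuotientGroup.mk' (center G))]).comap (QuotientGroup.mk' (center G)) ↔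
      ∀ t ∈ T, ⁅g, t⁆ ∈ center G := by
  have : ∀ t : G, ⁅g, t⁆ ∈ center G ↔ QuotientGroup.mk' (center G) t * QuotientGroup.mk' (center G) g =
      QuotientGroup.mk' (center G) g * QuotientGroup.mk' (center G) t := by
    intro t
    rw [← QuotientGroup.eq_one_iff, ← QuotientGroup.mk'_apply, map_commutatorElement,
      commutatorElement_eq_one_iff_mul_comm, eq_comm]
  simp only [this]
  exact ⟨fun h t ht => h _ (mem_map_of_mem _ ht), by rintro h _ ⟨t, ht, rfl⟩; exact h t ht⟩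

theorem abelian {G : Type*} [Group G] [Finite G] {r q : ℕ} [hr : Fact r.Prime] [hq : Fact q.Prime]
    (hqr : q ≠ r) {N : Subgroup G} [hN : N.Normal] (hrN : ∀ g : G, (∃ k, g ^ r ^ k = 1) → g ∈ N)
    {m : ℕ} (hn : ∀ x ∈ N, x ∉ center G → ix x = m) {x y : G} (hx : ∃ k, x ^ r ^ k = 1)
    (hxZ : x ∉ center G) (hyN : y ∈ N) (hy : ∃ k, y ^ q ^ k = 1) (hyZ : y ∉ center G) :
    IsMulCommutative N := by
  have hcard : ∀ x ∈ N, ∀ y ∈ N, x ∉ center G → y ∉ center G →
      Nat.card (centralizer ({x} : Set G)) = Nat.card (centralizer ({y} : Set G)) := by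
    intro x hxN y hyN hx hy
    have h1 := (centralizer ({x} : Set G)).card_mul_index
    have h2 := (centralizer ({y} : Set G)).card_mul_index
    rw [show (centralizer ({x} : Set G)).index = m from hn x hxN hx] at h1
    rw [show (centralizer ({y} : Set G)).index = m from hn y hyN hy, ← h1] at h2
    exact (Nat.eq_of_mul_eq_mul_right (hn x hxN hx ▸ ix_pos x) h2).symm
  have heq : ∀ x ∈ N, ∀ y ∈ N, x ∉ center G → y ∉ center G →
      centralizer ({x} : Set G) ≤ centralizer {y} → centralizer ({x} : Set G) = centralizer {y} :=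
    fun x hxN y hyN hx hy hle => eq_of_le_of_card_ge hle (hcard y hyN x hxN hy hx).le
  have hcop : ∀ {r s : ℕ} {a b : G}, r.Prime → s.Prime → r ≠ s → (∃ k, a ^ r ^ k = 1) →
      (∃ k, b ^ s ^ k = 1) → (orderOf a).Coprime (orderOf b) := by
    rintro r s a b hr hs hrs ⟨i, hi⟩ ⟨j, hj⟩
    exact Nat.Coprime.coprime_dvd_left (orderOf_dvd_of_pow_eq_one hi) (Nat.Coprime.coprime_dvd_right
      (orderOf_dvd_of_pow_eq_one hj) (Nat.coprime_pow_primes i j hr hs hrs))
  have h1 : ∀ a ∈ N, ∀ b ∈ N, a ∉ center G → b ∈ centralizer ({a} : Set G) →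
      (orderOf a).Coprime (orderOf b) → centralizer ({a} : Set G) ≤ centralizer {b} := by
    intro a haN b hbN ha hb hc
    have h2 := FGS.centralizer_mul_of_coprime (x := a) (y := b) (mem_c.1 hb).symm hc
    have h3 : centralizer ({a * b} : Set G) ≤ centralizer {a} := h2 ▸ inf_le_left
    have h4 : a * b ∉ center G := fun h => ha (ix_eq_one_iff.1 (Nat.dvd_one.1
      (ix_eq_one_iff.2 h ▸ index_dvd_of_le h3)))
    rw [← heq _ (mul_mem haN hbN) _ haN h4 ha h3, h2]
    exact inf_le_right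
  have hrel : ∀ a ∈ N, a ∉ center G → ∃ b ∈ centralizer ({a} : Set G), (∃ k, b ^ r ^ k = 1) ∧
      b ∉ center G := by
    intro a haN ha
    by_contra hc
    push Not at hc
    refine not_dvd_relIndex hr.out (fun g hg hk => hc g hg hk) ?_
    have h2 := Grp.card_mul_relIndex (center_le_centralizer ({a} : Set G))
    rw [hcard a haN x (hrN x hx) ha hxZ, ← Grp.card_mul_relIndex (center_le_centralizer ({x} : Set G))]
      at h2
    rw [Nat.eq_of_mul_eq_mul_left Nat.card_pos h2]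
    by_contra hc
    obtain ⟨k, hk⟩ := hx
    refine hxZ (FGS.mem_of_pow_mem_of_coprime (Nat.Coprime.coprime_dvd_left
      (orderOf_dvd_of_pow_eq_one hk) ((hr.out.coprime_iff_not_dvd.2 hc).pow_left k)) ?_)
    exact ((center G).subgroupOf (centralizer {x})).pow_index_mem ⟨x, mem_c.2 rfl⟩
  have hNn : ∀ A : Subgroup G, A ≤ 𝐍[N] := fun A => by rw [normalizer_eq_top N]; exact le_top
  obtain ⟨b, hb, hbr, hbZ⟩ := hrel y hyN hyZ
  have hbN := hrN b hbr
  have hCb := heq _ hyN _ hbN hyZ hbZ (h1 y hyN b hbN hyZ hb (hcop hq.out hr.out hqr hy hbr))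
  obtain ⟨C, hC⟩ : ∃ C, C = centralizer ({y} : Set G) := ⟨_, rfl⟩
  have hyC : y ∈ C := hC ▸ mem_c.2 rfl
  have hab : ∀ u ∈ C, u ∈ N → C ≤ centralizer {u} := by
    rw [hC]
    intro u hu huN g hg
    refine mem_c.2 (mem_c.1 (FGS.mem_of_forall_primePow_part (H := centralizer {g})
      fun t ht v hv hk => mem_c.2 (mem_c.1 ?_).symm)).symm
    have hv' : v ∈ centralizer ({y} : Set G) := zpowers_le.2 hu hv
    have hvN : v ∈ N := zpowers_le.2 huN hv
    by_cases htr : t = q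
    · subst htr
      exact h1 b hbN v hvN hbZ (hCb ▸ hv') (hcop hr.out ht hqr.symm hbr hk) (hCb ▸ hg)
    · exact h1 y hyN v hvN hyZ hv' (hcop hq.out ht (Ne.symm htr) hy hk) hg
  have hab' : ∀ u ∈ C, u ∈ N → u ∉ center G → centralizer {u} = C := fun u hu huN huZ =>
    ((heq y hyN u huN hyZ huZ (hC ▸ hab u hu huN)).symm.trans hC.symm)
  have hZC : center G ≤ C := hC ▸ center_le_centralizer _
  have hCi : C.index = m := hC ▸ hn y hyN hyZ
  rw [← hC] at hb
  clear hCb
  haveI hHc : IsMulCommutative ↥(C ⊓ N) :=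
    ⟨⟨fun a b => Subtype.ext (mem_c.1 (hab b b.2.1 b.2.2 a.2.1))⟩⟩
  suffices hcov : ∀ a ∈ N, a ∉ center G → ∃ n ∈ N, n * a * n⁻¹ ∈ C by
    have h2 : C.subgroupOf N = ⊤ := FGS.eq_top_of_forall_exists_conj_mem _ fun a => by
      by_cases ha : (a : G) ∈ center G
      · exact ⟨1, by simpa [mem_subgroupOf] using hZC ha⟩
      · obtain ⟨n, hn, h⟩ := hcov a a.2 ha
        exact ⟨⟨n, hn⟩, h⟩
    rw [subgroupOf_eq_top] at h2
    rwa [inf_of_le_right h2] at hHc
  have hHn : Group.IsNilpotent ↥(C ⊓ N) := Grp.isNilpotent_of_isMulCommutative _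
  have hcore : ∀ (s : ℕ) [Fact s.Prime] (e : G), e ∈ C → e ∈ N → e ∉ center G →
      (∃ k, e ^ s ^ k = 1) → ∃ T : Subgroup G, IsSyl s T (C ⊓ N) ∧
      (∀ A : Subgroup G, IsPGroup s A → A ≤ C ⊓ N → A ≤ T) ∧ 𝐂[T] = C ∧ 𝐍[C] ≤ 𝐍[T] ∧ e ∈ T := by
    intro s _ e heC heN heZ hes
    have h2 : ∀ A : Subgroup G, IsPGroup s A → A ≤ C ⊓ N → A ≤ pCoreOf s (C ⊓ N) := fun A hA hle =>
      Solv.NA.le_pCoreOf_of_isNilpotent hHn hA hle
    have h3 := h2 _ (isPGroup_zpowers hes) (zpowers_le.2 ⟨heC, heN⟩) (mem_zpowers e)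
    refine ⟨_, Solv.NA.isSyl_pCoreOf hHn, h2, le_antisymm (fun g hg => ?_) (fun g hg t ht => ?_),
      (le_normalizer_inf le_rfl (hNn _)).trans
        (normalizer_le_normalizer_pCoreOf _ _), h3⟩
    · rw [← hab' e heC heN heZ]
      exact mem_c.2 (hg e h3).symm
    · have := pCoreOf_le s _ ht
      exact (mem_c.1 (hab t this.1 this.2 hg)).symm
  obtain ⟨T, hT, hTm, hTC, hNT, hbT⟩ := hcore r b hb hbN hbZ hbr
  obtain ⟨S, hS, hSm, hSC, hNS, hyS⟩ := hcore q y hyC hyN hyZ hy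
  have hrN' : ∀ A : Subgroup G, IsPGroup r A → A ≤ N := fun A hA g hg =>
    hrN g (isPGroup_iff.1 hA g hg)
  have hTm' : ∀ A : Subgroup G, IsPGroup r A → A ≤ C → A ≤ T := fun A hA hle =>
    hTm A hA (le_inf hle (hrN' A hA))
  have hTe : ∀ g ∈ C, (∃ k, g ^ r ^ k = 1) → g ∈ T := fun g hg hk =>
    hTm' _ (isPGroup_zpowers hk) (zpowers_le.2 hg) (mem_zpowers g)
  have hTleC : T ≤ C := hT.le.trans inf_le_left
  have hTN : T ≤ N := hT.le.trans inf_le_right
  have hTC' : IsSyl r T C := ⟨hTleC, hT.pgrp, fun A hA _ h => hTm' A hA h⟩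
  have hNT' : 𝐍[T] ≤ 𝐍[C] := hTC ▸ normalizer_le_normalizer_centralizer T
  have hNS' : 𝐍[S] ≤ 𝐍[C] := hSC ▸ normalizer_le_normalizer_centralizer S
  obtain ⟨L, hL⟩ : ∃ L : Subgroup G, ∀ g, g ∈ L ↔ ∀ t ∈ T, ⁅g, t⁆ ∈ center G :=
    ⟨_, fun _ => mk_mem_centralizer⟩
  by_cases hLC : L ≤ C
  swap
  · have hLT : L ≤ 𝐍[T] := by
      refine le_normalizer_iff.2 fun g hg t ht => hTe _ ?_ ?_
      · have := mul_mem (hZC ((hL g).1 hg t ht)) (hTleC ht)
        simpa [commutatorElement_def] using this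
      · obtain ⟨k, hk⟩ := isPGroup_iff.1 hT.pgrp t ht
        exact ⟨k, by rw [conj_pow, hk]; group⟩
    have hTL : 𝐍[T] ≤ 𝐍[L] := by
      refine le_normalizer_iff.2 fun g hg l hl => (hL _).2 fun t ht => ?_
      have := (inferInstance : (center G).Normal).conj_mem _
        ((hL l).1 hl _ (inv_conj_mem_of_mem_normalizer hg ht)) g
      convert this using 1
      simp only [commutatorElement_def]; group
    have hO : 𝐎[r, L] ≤ C := by
      refine pRes_le_iff.2 fun g hg hc => ?_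
      rw [← hab' b hb hbN hbZ]
      obtain ⟨k, hk⟩ := hbr
      exact mem_c.2 (commute_of_commutator_central ((hL g).1 hg b hbT)
        ((hc.pow_right k).coprime_dvd_right (orderOf_dvd_of_pow_eq_one hk)))
    obtain ⟨U, hU⟩ := exists_isSyl r L
    have hLS : L ≤ 𝐍[S] := hLT.trans (hNT'.trans hNS)
    have hS1 : ⁅S, L⁆ ≤ ⁅S, U⁆ := by
      refine commutator_le.2 fun s hs g hg => ?_
      rw [← hU.pRes_sup, sup_comm] at hg
      obtain ⟨u, hu, c, hc, rfl⟩ := (mem_sup_of_le_normalizer_right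
        (hU.le.trans (le_normalizer_pRes r L))).1 hg
      have h2 : c ∈ 𝐂[S] := hSC ▸ hO hc
      have h3 := h2 _ (inv_mem hs)
      convert commutator_mem_commutator hs hu using 1
      simp only [commutatorElement_def]
      calc s * (u * c) * s⁻¹ * (u * c)⁻¹ = s * u * (c * s⁻¹) * (u * c)⁻¹ := by group
        _ = _ := by rw [← h3]; group
    have hqm : ¬ q ∣ m := by
      intro hqm
      obtain ⟨Q, hQ⟩ := exists_isSyl q C
      obtain ⟨Q', hQ', hQQ⟩ := exists_isSyl_ge hQ.pgrp le_top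
      have h2 : Q < Q' := by
        refine lt_of_le_of_ne hQQ fun h => hQ'.not_dvd_relIndex ?_
        rw [← h, relIndex_top_right]
        exact (hCi ▸ hqm).trans (index_dvd_of_le hQ.le)
      have h3 := lt_inf_normalizer hQ'.pgrp h2
      have h4 := hQ.inf (N := N) (hNn _)
      have h5 : S = Q ⊓ N := h4.eq hS.pgrp (hSm _ h4.pgrp h4.le) hS.le
      have h6 : Q' ⊓ 𝐍[Q] ≤ 𝐍[S] := h5 ▸ le_normalizer_inf inf_le_right (hNn _)
      have h7 : ⁅S, L⁆ ≤ S := Solv.commutator_le_of_le_normalizer hLS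
      have h8 := inf_centralizer_ne_bot (hQ'.pgrp.to_le (inf_le_left : Q' ⊓ 𝐍[Q] ≤ _))
        (hS.pgrp.to_le h7) (le_normalizer_commutator h6 (h6.trans (hNS'.trans (hNT.trans hTL))))
        fun h => hLC (hSC ▸ le_centralizer_iff.1 (commutator_eq_bot_iff_le_centralizer.1 h))
      obtain ⟨⟨s, hs⟩, hs1⟩ := (ne_bot_iff_exists_ne_one).1 h8
      have hsS := hS.le (h7 hs.1)
      by_cases hsZ : s ∈ center G
      · haveI : IsMulCommutative S := ⟨⟨fun a b => Subtype.ext
          (mem_c.1 (hab b (hS.le b.2).1 (hS.le b.2).2 (hS.le a.2).1))⟩⟩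
        have h9 := Solv.coprime_centralizer_inf_commutator U S (hU.le.trans hLS)
          (by rw [hU.card_eq_pow, hS.card_eq_pow]
              exact Nat.coprime_pow_primes _ _ hr.out hq.out hqr.symm)
        have h10 : s ∈ (⊥ : Subgroup G) := h9 ▸ ⟨⟨h7 hs.1, center_le_centralizer _ hsZ⟩, hS1 hs.1⟩
        exact hs1 (Subtype.ext h10)
      · refine h3.ne' (hQ.eq (hQ'.pgrp.to_le inf_le_left) h3.le fun g hg => ?_)
        rw [← hab' s hsS.1 hsS.2 hsZ]
        exact mem_c.2 (hs.2 g hg)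
    intro a haN ha
    obtain ⟨P, -, hP⟩ := FGS.exists_sylow_le_of_not_dvd_index (p := q)
      (H := centralizer ({a} : Set G)) (U := ⊥) (fun h => hqm (hn a haN ha ▸ (h : q ∣ ix a)))
      IsPGroup.of_bot bot_le
    obtain ⟨g, hg, h2⟩ := ((isSyl_top P).inf_of_le (N := N) le_top
      (hNn _)).exists_cj_le (isPGroup_zpowers hy) (zpowers_le.2 hyN)
    have h3 := mem_c.1 (hP (h2 (conj_mem_cj g (mem_zpowers y))).1)
    refine ⟨g⁻¹, inv_mem hg, hC ▸ mem_c.2 ?_⟩
    calc g⁻¹ * a * g⁻¹⁻¹ * y = g⁻¹ * (a * (g * y * g⁻¹)) * g := by group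
      _ = _ := by rw [← h3]; group
  obtain ⟨R, hR, hTR⟩ := exists_isSyl_ge hT.pgrp le_top
  have hRN := hrN' R hR.pgrp
  have hRT : R ≤ 𝐍[T] := by
    by_contra hc
    have h2 : R ⊓ 𝐍[T] < R := lt_of_le_of_ne inf_le_left fun h => hc (h ▸ inf_le_right)
    obtain ⟨g, hg, hg'⟩ := SetLike.exists_of_lt (lt_inf_normalizer hR.pgrp h2)
    have hTU : T ≤ R ⊓ 𝐍[T] := le_inf hTR le_normalizer
    have h3 : cj(g, T) ≤ R ⊓ 𝐍[T] := cj_le_of_mem_normalizer hTU hg.2
    have h4 : T ≤ 𝐍[cj(g, T)] := by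
      rw [normalizer_cj, le_cj_iff]
      exact (cj_le_of_mem_normalizer hTU (inv_mem hg.2)).trans inf_le_right
    refine hg' ⟨hg.1, mem_normalizer_of_cj_le (hTm' _ (isPGroup_cj g hT.pgrp)
      (le_trans (fun w hw => (hL w).2 fun t ht => ?_) hLC))⟩
    by_contra hZ
    have h5 : ⁅w, t⁆ ∈ T := by
      rw [commutatorElement_def]
      exact mul_mem (conj_mem_of_mem_normalizer (h3 hw).2 ht) (inv_mem ht)
    have h6 : ⁅w, t⁆ ∈ cj(g, T) := by
      rw [commutatorElement_def, mul_assoc, mul_assoc, ← mul_assoc t]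
      exact mul_mem hw (conj_mem_of_mem_normalizer (h4 ht) (inv_mem hw))
    obtain ⟨t', ht', e⟩ := mem_cj_iff_exists.1 h6
    have h7 : t' ∉ center G := fun h => hZ (e ▸ (inferInstance : (center G).Normal).conj_mem _ h g)
    have h8 := hab' _ (hTleC h5) (hTN h5) hZ
    rw [← e, centralizer_singleton_conj, hab' _ (hTleC ht') (hTN ht') h7, cj_eq_iff] at h8
    exact hg' ⟨hg.1, hNT h8⟩
  set π := QuotientGroup.mk' (center G) with hπ
  have hπ1 : ∀ g, π g = 1 ↔ g ∈ center G := fun g => QuotientGroup.eq_one_iff g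
  obtain ⟨z, hzT, hzo, hz⟩ : ∃ z ∈ T, orderOf (π z) = r ∧ ∀ g ∈ R, π g * π z = π z * π g := by
    have h2 := inf_centralizer_ne_bot (hR.pgrp.map π) (hT.pgrp.map π)
      ((map_mono hRT).trans (le_normalizer_map π))
      (fun h => hbZ ((hπ1 b).1 ((h ▸ mem_map_of_mem π hbT : π b ∈ (⊥ : Subgroup _)))))
    obtain ⟨⟨_, ⟨z, hz, rfl⟩, h3⟩, h4⟩ := exists_prime_orderOf_dvd_card' r
      (Solv.NA.dvd_card_of_ne_bot ((hT.pgrp.map π).to_le inf_le_left) h2)
    exact ⟨z, hz, by rw [← h4, ← orderOf_coe], fun g hg => h3 _ (mem_map_of_mem π hg)⟩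
  have hzZ : z ∉ center G := fun h => by
    rw [(hπ1 z).2 h, orderOf_one] at hzo
    exact hr.out.one_lt.ne hzo
  have hz' : ∀ g ∈ R, ⁅g, z⁆ ∈ center G := fun g hg => by
    rw [← hπ1, map_commutatorElement, commutatorElement_eq_one_iff_mul_comm, hz g hg]
  have hzC := hab' z (hTleC hzT) (hTN hzT) hzZ
  have hpow : ∀ d ∈ R, d ^ r ∈ C := by
    intro d hd
    rw [← hzC, mem_c, ← commutatorElement_eq_one_iff_mul_comm, ← S4365.comm_pow_swap (hz' d hd),
      commutatorElement_eq_one_iff_mul_comm]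
    exact mem_center_iff.1 ((hπ1 _).1 (by rw [map_pow, ← hzo, pow_orderOf_eq_one])) d
  have hcomm : ∀ d ∈ R, ∀ e ∈ R, ⁅d, e⁆ ∈ C := by
    intro d hd e he
    have h2 : ⁅R, zpowers z⁆ ≤ center G := by
      rw [← QuotientGroup.ker_mk' (center G), ← Subgroup.map_eq_bot_iff, map_commutator,
        commutator_eq_bot_iff_le_centralizer, MonoidHom.map_zpowers, centralizer_zpowers]
      rintro _ ⟨g, hg, rfl⟩
      exact mem_c.2 (hz g hg)
    have h3 : ⁅⁅R, zpowers z⁆, R⁆ = ⊥ :=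
      commutator_eq_bot_iff_le_centralizer.2 (h2.trans (center_le_centralizer _))
    have h4 := commutator_commutator_eq_bot_of_rotate h3 (by rwa [commutator_comm (zpowers z)])
    rw [commutator_eq_bot_iff_le_centralizer, centralizer_zpowers, hzC] at h4
    exact h4 (commutator_mem_commutator hd he)
  intro a haN ha
  obtain ⟨u, hua, hur, huZ⟩ := hrel a haN ha
  obtain ⟨D, hD, huD⟩ := exists_isSyl_ge (isPGroup_zpowers hur)
    (zpowers_le.2 (mem_c.2 rfl : u ∈ centralizer {u}))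
  obtain ⟨n, hnN, hn'⟩ := (hR.mono hRN le_top).exists_cj_le hD.pgrp (hrN' D hD.pgrp)
  have hD' := hD.cj n
  rw [← centralizer_singleton_conj] at hD'
  have hu' := conj_mem_cj n (huD (mem_zpowers u))
  have hu'Z : n * u * n⁻¹ ∉ center G := fun h => huZ (by
    simpa [mul_assoc] using (inferInstance : (center G).Normal).conj_mem' _ h n)
  have hu'N := hRN (hn' hu')
  suffices h : n * u * n⁻¹ ∈ C by
    refine ⟨n, hnN, ?_⟩
    rw [← hab' _ h hu'N hu'Z, centralizer_singleton_conj, conj_mem_cj_iff]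
    exact mem_c.2 (mem_c.1 hua).symm
  generalize n * u * n⁻¹ = v at *
  generalize cj(n, D) = E at *
  by_contra hvC
  have hEC : ∀ e ∈ E, e ∈ C → e ∈ center G := by
    intro e he heC
    by_contra heZ
    exact hvC (hab' e heC (hRN (hn' he)) heZ ▸ mem_c.2 (mem_c.1 (hD'.le he)).symm)
  haveI : IsMulCommutative (E.map π) := by
    refine ⟨⟨?_⟩⟩
    rintro ⟨_, d, hd, rfl⟩ ⟨_, e, he, rfl⟩
    refine Subtype.ext ?_
    show π d * π e = π e * π d
    rw [← commutatorElement_eq_one_iff_mul_comm, ← map_commutatorElement, hπ1]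
    refine hEC _ ?_ (hcomm d (hn' hd) e (hn' he))
    rw [commutatorElement_def]
    exact mul_mem (mul_mem (mul_mem hd he) (inv_mem hd)) (inv_mem he)
  have hcyc : IsCyclic (E.map π) := by
    by_contra hc
    have h2 := Solv.le_of_centralizers_le (E.map π) (S.map π) hc
      ((map_mono (hn'.trans (hRT.trans (hNT'.trans hNS)))).trans (le_normalizer_map π))
      (IsPGroup.coprime_card_of_ne r q hqr.symm _ _ (hD'.pgrp.map π) (hS.pgrp.map π)) ⊥ (by
        rintro _ ⟨e, he, rfl⟩ he1 _ ⟨⟨s, hs, rfl⟩, h⟩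
        refine (hπ1 s).2 ?_
        by_contra hsZ
        have h3 : ⁅s, e⁆ ∈ center G := by
          rw [← hπ1, map_commutatorElement, commutatorElement_eq_one_iff_mul_comm, mem_c.1 h]
        have h4 := commute_of_commutator_central h3 (hcop hq.out hr.out hqr
          (isPGroup_iff.1 hS.pgrp s hs) (isPGroup_iff.1 hD'.pgrp e he))
        exact he1 ((hπ1 e).2 (hEC e he (hab' s (hS.le hs).1 (hS.le hs).2 hsZ ▸ mem_c.2 h4.symm))))
    exact hyZ ((hπ1 y).1 (h2 (mem_map_of_mem π hyS)))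
  have h2 : Nat.card (E.map π) ∣ r := by
    rw [← IsCyclic.exponent_eq_card]
    refine Monoid.exponent_dvd_of_forall_pow_eq_one ?_
    rintro ⟨_, d, hd, rfl⟩
    refine Subtype.ext ?_
    show π d ^ r = 1
    rw [← map_pow, hπ1]
    exact hEC _ (pow_mem hd r) (hpow d (hn' hd))
  have h3 : Nat.card (T.map π) = Nat.card (E.map π) := by
    have h4 := Grp.card_map_mk'_mul (center G) T
    have h5 := Grp.card_map_mk'_mul (center G) E
    have hZn : ∀ A : Subgroup G, A ≤ 𝐍[center G] := fun A => by rw [normalizer_eq_top]; exact le_top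
    rw [inf_comm, (hTC'.inf_of_le hZC (hZn _)).card_eq
      (hD'.inf_of_le (center_le_centralizer _) (hZn _)), inf_comm, hTC'.card_eq_pow, hC,
      hcard y hyN v hu'N hyZ hu'Z, ← hD'.card_eq_pow, ← h5] at h4
    exact Nat.eq_of_mul_eq_mul_right Nat.card_pos h4
  have h4 : zpowers (π z) = T.map π := eq_of_le_of_card_ge (zpowers_le.2 (mem_map_of_mem π hzT))
    (by rw [h3, Nat.card_zpowers, hzo]; exact Nat.le_of_dvd hr.out.pos h2)
  refine hvC (hLC ((hL v).2 fun t ht => ?_))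
  obtain ⟨i, hi⟩ : π t ∈ zpowers (π z) := h4 ▸ mem_map_of_mem π ht
  rw [← hπ1, map_commutatorElement, commutatorElement_eq_one_iff_mul_comm, ← hi]
  exact (Commute.zpow_right (hz v (hn' hu')) i).eq

/-- Let G be a finite group, r a prime and R a Sylow r-subgroup of G that is not central, N a normal subgroup of G containing R, and m a natural number such that every element of N has a conjugacy class in G of size 1 or m. Then N is nilpotent. -/
theorem result {G : Type*} [Group G] [Finite G] (r : ℕ) [Fact r.Prime]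
    (R : Sylow r G) (hR : ¬ (R : Subgroup G) ≤ Subgroup.center G) (N : Subgroup G) [N.Normal] (hRN : (R : Subgroup G) ≤ N)
    (m : ℕ) (h : ∀ x ∈ N, (Subgroup.centralizer ({x} : Set G)).index = 1 ∨ (Subgroup.centralizer ({x} : Set G)).index = m) : Group.IsNilpotent N := by
  have hrN : ∀ g : G, (∃ k, g ^ r ^ k = 1) → g ∈ N := by
    intro g hg
    obtain ⟨a, -, ha⟩ := (isSyl_top R).exists_le_cj (isPGroup_zpowers hg) le_top
    exact (cj_of_normal a N ▸ cj_mono a hRN) (ha (mem_zpowers g))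
  obtain ⟨x, hx, hxZ⟩ := SetLike.not_le_iff_exists.1 hR
  by_cases hc : ∃ q : ℕ, q.Prime ∧ q ≠ r ∧ ∃ y ∈ N, (∃ k, y ^ q ^ k = 1) ∧ y ∉ center G
  · obtain ⟨q, hq, hqr, y, hyN, hy, hyZ⟩ := hc
    haveI := Fact.mk hq
    haveI := abelian hqr hrN (fun x hx hxZ => (h x hx).resolve_left fun h => hxZ (ix_eq_one_iff.1 h))
      (isPGroup_iff.1 R.isPGroup' x hx) hxZ hyN hy hyZ
    exact Grp.isNilpotent_of_isMulCommutative _
  push Not at hc
  have hO : 𝐎[r, N] ≤ center G := by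
    refine pRes_le_iff.2 fun y hyN hy => FGS.mem_of_forall_primePow_part ?_
    rintro q hq y' h1 ⟨k, hk⟩
    by_cases hpq : q = r
    · subst hpq
      have := Nat.eq_one_of_dvd_coprimes (hy.pow_right k) (orderOf_dvd_of_mem_zpowers h1)
        (orderOf_dvd_of_pow_eq_one hk)
      rw [orderOf_eq_one_iff.1 this]
      exact one_mem _
    · exact hc q hq hpq y' (zpowers_le.2 hyN h1) ⟨k, hk⟩
  let f := (QuotientGroup.mk' (center G)).comp N.subtype
  have hf : IsPGroup r f.range := by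
    rintro ⟨_, n, rfl⟩
    obtain ⟨k, hk⟩ := exists_pow_mem_pRes (p := r) n.2
    refine ⟨k, Subtype.ext ?_⟩
    show f n ^ r ^ k = 1
    rw [← map_pow]
    exact (QuotientGroup.eq_one_iff _).2 (hO hk)
  haveI := hf.isNilpotent
  refine Subgroup.isNilpotent_of_ker_le_center f.rangeRestrict fun n hn => mem_center_iff.2 fun g => ?_
  rw [MonoidHom.ker_rangeRestrict] at hn
  exact Subtype.ext (mem_center_iff.1 ((QuotientGroup.eq_one_iff _).1 hn) g)

end Cfsg.Agent.S4135
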