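import Cfsg.Statements.S4140
import Mathlib
import Cfsg.Agent.FGS.Camina
import Cfsg.Agent.S4112

set_option autoImplicit false
open Cfsg

namespace Cfsg.Agent.S4140

open FGS.Camina PLocal.Amb Subgroup

/-- Let G be a finite group and N a proper non-trivial normal subgroup such that for every g outside N the conjugacy class of g is a union of cosets of N (equivalently gn is conjugate to g for every n ∈ N). Then either every element of G outside N acts fixed-point-freely on N (C_G(x) ≤ N for all x ∈ N, x ≠ 1, so G is a Frobenius group with kernel N), or N has prime-power order, or G/N has prime-power order. -/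
theorem result {G : Type*} [Group G] [Finite G] (N : Subgroup G) [N.Normal] (hN1 : N ≠ ⊥) (hN2 : N ≠ ⊤)
    (hcam : ∀ g : G, g ∉ N → ∀ n ∈ N, ∃ x : G, x * g * x⁻¹ = g * n) :
    (∀ x ∈ N, x ≠ 1 → Subgroup.centralizer ({x} : Set G) ≤ N) ∨ IsPrimePow (Nat.card N) ∨ IsPrimePow N.index := by
  by_contra hc
  push Not at hc
  obtain ⟨h1, h2, h3⟩ := hc
  have hcam' : IsCam N := hcam
  have h4 : ¬ N.index.Coprime (Nat.card N) := by
    intro h
    obtain ⟨x, hx, hx1, hx2⟩ := h1
    exact hx2 ((S4112.result N N le_rfl hN1 hN2 hcam).1.2 h x hx hx1)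
  obtain ⟨r, hr, hri, hrN⟩ := Nat.Prime.not_coprime_iff_dvd.1 h4
  obtain ⟨s, hs, hsi, hsr⟩ := exists_prime_ne_of_not_isPrimePow N.index_ne_zero_of_finite
    (fun h => hN2 (index_eq_one.1 h)) h3 r
  haveI := Fact.mk hr
  haveI := Fact.mk hs
  by_cases hsN : s ∣ Nat.card N
  · have hn : ∀ p : ℕ, (𝐎[p, N]).Normal := fun p => by
      rw [← normalizer_eq_top_iff, eq_top_iff]
      refine le_trans ?_ (normalizer_le_normalizer_pRes p N)
      rw [normalizer_eq_top]
    haveI := hn r
    haveI := hn s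
    set L : Subgroup G := 𝐎[r, N] ⊓ 𝐎[s, N] with hL
    have hLN : L ≤ N := inf_le_left.trans (pRes_le r N)
    have hcard := Grp.card_map_mk'_mul_of_le L hLN
    have hdv : ∀ p : ℕ, p.Prime → p ∣ N.index → p ∣ Nat.card N → L ≤ 𝐎[p, N] →
        p ∣ Nat.card (N.map (QuotientGroup.mk' L)) := by
      intro p hp hi hN hle
      rw [← hcard] at hN
      exact (hp.dvd_mul.1 hN).resolve_right fun h =>
        hcam'.not_dvd_card_pRes hp hi (h.trans (card_dvd_of_le hle))
    have hr' := hdv r hr hri hrN inf_le_left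
    have hs' := hdv s hs hsi hsN inf_le_right
    have hpg : ∀ p : ℕ, p.Prime → ∀ (M : Subgroup G) [M.Normal], M = 𝐎[p, N] →
        ∀ hle : L ≤ M, IsPGroup p ((N.map (QuotientGroup.mk' L)).map
          (QuotientGroup.map L M (MonoidHom.id G) hle)) := by
      intro p hp M _ hM hle
      haveI := Fact.mk hp
      rintro ⟨_, _, ⟨n, hn, rfl⟩, rfl⟩
      obtain ⟨k, hk⟩ := exists_pow_mem_pRes (p := p) hn
      refine ⟨k, Subtype.ext ?_⟩
      show ((n : G ⧸ M)) ^ p ^ k = 1
      rw [← QuotientGroup.mk_pow, QuotientGroup.eq_one_iff, hM]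
      exact hk
    have hnil : Group.IsNilpotent (N.map (QuotientGroup.mk' L)) := by
      haveI := (hpg r hr _ rfl inf_le_left).isNilpotent
      haveI := (hpg s hs _ rfl inf_le_right).isNilpotent
      refine Solv.Carter.isNilpotent_of_ker_inf_ker
        ((QuotientGroup.map L 𝐎[r, N] (MonoidHom.id G) inf_le_left).subgroupMap _)
        ((QuotientGroup.map L 𝐎[s, N] (MonoidHom.id G) inf_le_right).subgroupMap _) ?_
      rw [eq_bot_iff]
      rintro ⟨_, n, hn, rfl⟩ ⟨a1, a2⟩
      have b1 : (n : G ⧸ 𝐎[r, N]) = 1 := congrArg Subtype.val a1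
      have b2 : (n : G ⧸ 𝐎[s, N]) = 1 := congrArg Subtype.val a2
      rw [QuotientGroup.eq_one_iff] at b1 b2
      exact mem_bot.2 (Subtype.ext ((QuotientGroup.eq_one_iff n).2 ⟨b1, b2⟩))
    refine (hcam'.map L).not_dvd_of_isNilpotent ?_ hnil ?_ hr ?_ hr'
    · intro h
      rw [h, card_bot] at hr'
      exact hr.one_lt.ne' (Nat.dvd_one.1 hr')
    · intro h
      obtain ⟨p, -, hp⟩ := isPrimePow_iff_unique_prime_dvd.1 h
      exact hsr ((hp s ⟨hs, hs'⟩).trans (hp r ⟨hr, hr'⟩).symm)
    · rw [index_map_eq _ (QuotientGroup.mk'_surjective L) (by rwa [QuotientGroup.ker_mk'])]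
      exact hri
  · obtain ⟨y, hy⟩ := exists_prime_orderOf_dvd_card' (G := G) s (hsi.trans N.index_dvd_card)
    have hyN : y ∉ N := fun h => hsN (hy ▸ N.orderOf_dvd_natCard h)
    have hnil : Group.IsNilpotent N := by
      refine Solv.isNilpotent_of_inf_centralizer_eq_bot N (a := y)
        (by rw [normalizer_eq_top]; trivial) hs (hy ▸ pow_orderOf_eq_one y) ?_
      rw [eq_bot_iff]
      rintro v ⟨hv, hc⟩
      refine eq_one_of_equalOrder hcam'.orderOf_eq hs hyN
        ⟨1, by rw [pow_one, ← QuotientGroup.mk_pow, ← hy, pow_orderOf_eq_one]; rfl⟩ hv ?_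
        (mem_centralizer_singleton_iff.1 hc).symm
      exact Nat.Coprime.coprime_dvd_left (N.orderOf_dvd_natCard hv)
        ((hs.coprime_iff_not_dvd.2 hsN).symm)
    exact hcam'.not_dvd_of_isNilpotent hN1 hnil h2 hr hri hrN

end Cfsg.Agent.S4140
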