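import Cfsg.Statements.S4155
import Mathlib
import Cfsg.Agent.FGS.Camina
import Cfsg.Agent.Grp.Fitting

set_option autoImplicit false
open Cfsg

namespace Cfsg.Agent.S4155

/-- Let G be a finite group and N a proper non-trivial normal nilpotent subgroup whose order is not a prime power, such that for every x outside N all elements of the coset xN have the same order as x. Then N is the Fitting subgroup of G, and for every prime q every Sylow q-subgroup of G/N is cyclic or generalized quaternion. -/
theorem result {G : Type*} [Group G] [Finite G] (N : Subgroup G) [N.Normal] (hN1 : N ≠ ⊥) (hN2 : N ≠ ⊤)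
    (heq : ∀ x : G, x ∉ N → ∀ n ∈ N, orderOf (x * n) = orderOf x)
    (hnil : Group.IsNilpotent N) (hnpp : ¬ IsPrimePow (Nat.card N)) :
    N = Cfsg.fittingSubgroup G ∧
    ∀ (q : ℕ) [Fact q.Prime] (Q : Sylow q (G ⧸ N)), IsCyclic (Q : Subgroup (G ⧸ N)) ∨ ∃ n : ℕ, Nonempty ((Q : Subgroup (G ⧸ N)) ≃* QuaternionGroup (2 ^ n)) := by
  open FGS.Camina in
  refine ⟨le_antisymm (Grp.le_fitting inferInstance hnil) ?_, fun q _ Q => ?_⟩
  · refine FGS.le_of_forall_primePow fun q hq y hy ⟨k, hk⟩ => ?_
    by_contra hyN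
    obtain ⟨p, hp, hd, hpq⟩ := exists_prime_ne_of_not_isPrimePow Nat.card_pos.ne'
      (fun h => hN1 (Subgroup.card_eq_one.1 h)) hnpp q
    haveI := Fact.mk hp
    obtain ⟨v, hv⟩ := exists_prime_orderOf_dvd_card' (G := N) p hd
    have hv' : orderOf (v : G) = p := by rw [Subgroup.orderOf_coe, hv]
    have hcop : (orderOf (v : G)).Coprime q := hv' ▸ (Nat.coprime_primes hp hq).2 hpq
    have hc : Commute y v := Solv.NA.commute_of_mem (A := fittingSubgroup G) inferInstance hy
      (Grp.le_fitting inferInstance hnil v.2)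
      (Nat.Coprime.coprime_dvd_left (orderOf_dvd_of_pow_eq_one hk) (hcop.symm.pow_left k))
    have := eq_one_of_equalOrder heq hq hyN ⟨k, by rw [← QuotientGroup.mk_pow, hk]; rfl⟩ v.2 hcop hc
    rw [this, orderOf_one] at hv'
    exact hp.one_lt.ne hv'
  · by_cases hQ : (Q : Subgroup (G ⧸ N)) = ⊥
    · left
      rw [hQ]
      infer_instance
    · rcases occurs_cyclic_or_quaternion Q.isPGroup'
        (occurs_of_equalOrder hN1 heq hnil hnpp Fact.out _ Q.isPGroup' hQ) with h | ⟨-, n, -, h⟩
      · exact Or.inl h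
      · exact Or.inr ⟨n, h⟩

end Cfsg.Agent.S4155
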