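import Cfsg.Statements.S4172
import Mathlib
import Cfsg.Agent.PLocal.FStarP
import Cfsg.Agent.PLocal.NCl
import Cfsg.Agent.PLocal.LocalComp
import Cfsg.Agent.Transfer.Tate
import Cfsg.Agent.Transfer.Focal
import Cfsg.Agent.Solv.Gaschutz
import Cfsg.Agent.Grp.PFrattini

set_option autoImplicit false
open Cfsg

namespace Cfsg.Agent.S4172

open Subgroup PLocal PLocal.Amb
open scoped commutatorElement

theorem pRes_inf_eq_bot {G : Type*} [Group G] [Finite G] {p : ℕ} [Fact p.Prime] (P : Sylow p G)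
    {A : Subgroup G} (hn : (P : Subgroup G) ≤ 𝐍[A])
    (h : A ⊓ P ≤ (frattini ↥(P : Subgroup G)).map (P : Subgroup G).subtype) :
    𝐎[p, A] ⊓ P = ⊥ := by
  let H := A ⊔ (P : Subgroup G)
  have hPH : (P : Subgroup G) ≤ H := le_sup_right
  have h1 := Transfer.tate (p := p) (G := H) (H := (P : Subgroup G).subgroupOf H)
    (isSyl_of_le P hPH).not_dvd_relIndex fun μ x hx => by
      let e := subgroupOfEquivOfLe hPH
      have h2 : ((x : H) : G) ∈ A := pRes_sup_le P.isPGroup' hn (mem_map_of_mem H.subtype hx)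
      obtain ⟨y, hy, hyx⟩ := h (mem_inf.2 ⟨h2, x.2⟩)
      have h3 := Transfer.frattini_le_ker_zmod (μ.comp e.symm.toMonoidHom) hy
      have h4 : e.symm y = x := by
        rw [MulEquiv.symm_apply_eq]; exact Subtype.ext hyx
      rw [← h4]; exact h3
  have h2 : 𝐎[p, (P : Subgroup G).subgroupOf H] = ⊥ :=
    pRes_eq_bot (isPGroup_subgroupOf P.isPGroup' H)
  rw [h2] at h1
  rw [eq_bot_iff]
  rintro x ⟨hx, hxP⟩
  obtain ⟨y, hy, rfl⟩ := pRes_mono (le_sup_left : A ≤ H) hx
  have : y ∈ pResidual p H ⊓ (P : Subgroup G).subgroupOf H := ⟨hy, hxP⟩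
  rw [h1, mem_bot] at this
  rw [this]; exact one_mem _

theorem exists_sup_zpowers {G : Type*} [Group G] [Finite G] {p : ℕ} [hp : Fact p.Prime]
    {P : Subgroup G} (hgen : (frattini P).index = p ^ 2) {X : Subgroup G} (hX : X ≤ P)
    (h : ¬ X ≤ (frattini P).map P.subtype) : ∃ x ∈ P, X ⊔ zpowers x = P := by
  let Y := X.subgroupOf P ⊔ frattini P
  have hlt : frattini P < Y := by
    refine lt_of_le_of_ne le_sup_right fun he => h ?_
    rw [← map_subgroupOf_of_le hX, he]
    exact map_mono le_sup_left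
  have key : ∀ x : P, Y ⊔ zpowers x = ⊤ → ∃ x ∈ P, X ⊔ zpowers x = P := fun x hx => by
    refine ⟨x, x.2, ?_⟩
    have h1 : X.subgroupOf P ⊔ zpowers x = ⊤ :=
      frattini_nongenerating (by rw [← hx, sup_right_comm])
    have h2 := congrArg (Subgroup.map P.subtype) h1
    rwa [Subgroup.map_sup, map_subgroupOf_of_le hX, MonoidHom.map_zpowers, ← MonoidHom.range_eq_map,
      range_subtype] at h2
  by_cases ht : Y = ⊤
  · exact key 1 (by rw [ht, top_sup_eq])
  obtain ⟨x, hx⟩ : ∃ x, x ∉ Y := by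
    by_contra hc
    push Not at hc
    exact ht (eq_top_iff.2 fun x _ => hc x)
  refine key x ?_
  have i1 := index_strictAnti hlt
  have i2 : Y < Y ⊔ zpowers x :=
    lt_of_le_of_ne le_sup_left fun he => hx (he ▸ mem_sup_right (mem_zpowers x))
  have i3 := index_strictAnti i2
  have d1 := index_dvd_of_le hlt.le
  have d2 := (index_dvd_of_le i2.le).trans d1
  rw [hgen] at i1 d1 d2
  obtain ⟨a, ha, ea⟩ := (Nat.dvd_prime_pow hp.out).1 d1
  obtain ⟨b, hb, eb⟩ := (Nat.dvd_prime_pow hp.out).1 d2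
  simp only [ea, eb] at i1 i3
  have j1 := (Nat.pow_lt_pow_iff_right hp.out.one_lt).1 i1
  have j2 := (Nat.pow_lt_pow_iff_right hp.out.one_lt).1 i3
  have : b = 0 := by omega
  rw [← index_eq_one, eb, this, pow_zero]

theorem commutator_le_of_sup {G : Type*} [Group G] {X P : Subgroup G} {x : G}
    (hn : P ≤ 𝐍[X]) (h : X ⊔ zpowers x = P) : ⁅P, P⁆ ≤ X := by
  have hx : zpowers x ≤ 𝐍[X] := le_sup_right.trans (h ▸ hn)
  rw [commutator_le]
  intro a ha b hb
  rw [← h] at ha hb
  obtain ⟨a₁, h1, a₂, ⟨i, rfl⟩, rfl⟩ := (mem_sup_of_le_normalizer_left hx).1 ha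
  obtain ⟨b₁, h2, b₂, ⟨j, rfl⟩, rfl⟩ := (mem_sup_of_le_normalizer_left hx).1 hb
  have e : ⁅a₁ * x ^ i, b₁ * x ^ j⁆ = a₁ * (x ^ i * b₁ * (x ^ i)⁻¹) *
      (x ^ j * a₁⁻¹ * (x ^ j)⁻¹) * b₁⁻¹ := by
    simp only [commutatorElement_def]; group
  simp only [e]
  exact X.mul_mem (X.mul_mem (X.mul_mem h1 (conj_mem_of_mem_normalizer (hx ⟨i, rfl⟩) h2))
    (conj_mem_of_mem_normalizer (hx ⟨j, rfl⟩) (X.inv_mem h1))) (X.inv_mem h2)

/-- Let p be a prime and G a finite group with a non-commutative Sylow p-subgroup P whose Frattini subgroup has index p² in P (P is generated by two elements). Suppose G has no nontrivial normal subgroup of order prime to p and the Frattini subgroup of P contains no nontrivial normal subgroup of G. Then the generalized Fitting subgroup F*(G) is the unique minimal normal subgroup of G, the image of P in G/F*(G) is cyclic, and if F*(G) is not commutative then P permutes the components of G transitively by conjugation. -/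
theorem result {G : Type*} [Group G] [Finite G] (p : ℕ) [Fact p.Prime] (P : Sylow p G) (hna : ¬ IsMulCommutative (P : Subgroup G)) (hgen : (frattini ↥(P : Subgroup G)).index = p ^ 2) (hcore : Cfsg.pPrimeCore p G = ⊥) (hfrat : ((frattini ↥(P : Subgroup G)).map (P : Subgroup G).subtype).normalCore = ⊥) [hFn : (Cfsg.generalizedFittingSubgroup G).Normal] :
    (Cfsg.generalizedFittingSubgroup G ≠ ⊥ ∧ ∀ K : Subgroup G, K.Normal → K ≠ ⊥ → Cfsg.generalizedFittingSubgroup G ≤ K) ∧
      IsCyclic ↥((P : Subgroup G).map (QuotientGroup.mk' (Cfsg.generalizedFittingSubgroup G))) ∧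
      (¬ IsMulCommutative (Cfsg.generalizedFittingSubgroup G) → ∀ K L : Subgroup G, Cfsg.IsComponent K → Cfsg.IsComponent L → ∃ x ∈ (P : Subgroup G), L = K.map (MulAut.conj x).toMonoidHom) := by
  let Φ := (frattini ↥(P : Subgroup G)).map (P : Subgroup G).subtype
  have hΦ : ∀ N : Subgroup G, N.Normal → N ≤ Φ → N = ⊥ := fun N hN h =>
    le_bot_iff.1 (hfrat ▸ normal_le_normalCore.2 h)
  have hsub : ∀ K : Subgroup G, K.IsSubnormal → K ⊓ P = ⊥ → K = ⊥ := fun K hK h => by
    have h1 := CP.isSyl_inf_of_snIn (isSyl_top P) (Grp.snIn_top_iff.2 hK)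
    rw [inf_comm] at h
    have h2 := h1.eq_bot_iff.1 h
    exact le_bot_iff.1 (hcore ▸ Grp.le_pPrimeCore_of_isSubnormal hK
      ((Nat.Prime.coprime_iff_not_dvd Fact.out).2 h2).symm)
  have hN : ∀ N : Subgroup G, N.Normal → N ≠ ⊥ → ¬ N ⊓ P ≤ Φ := fun N hN h0 h => by
    have h1 := pRes_inf_eq_bot P le_normalizer_of_normal h
    have h2 : (𝐎[p, N]).Normal := normalizer_eq_top_iff.1 (top_le_iff.1
      (le_normalizer_of_normal.trans (normalizer_le_normalizer_pRes p N)))
    have h3 : IsPGroup p N := isPGroup_of_pRes_le IsPGroup.of_bot (hsub _ h2.isSubnormal h1).le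
    have h4 : N ≤ P := (Grp.le_pCore hN h3).trans (Grp.pCore_le_sylow P)
    exact h0 (hΦ N hN (le_trans (le_inf le_rfl h4) h))
  have hcy : ∀ A : Subgroup G, (P : Subgroup G) ≤ 𝐍[A] → ¬ A ⊓ P ≤ Φ →
      ⁅(P : Subgroup G), (P : Subgroup G)⁆ ≤ A := fun A hn h => by
    obtain ⟨x, -, hx⟩ := exists_sup_zpowers hgen inf_le_right h
    exact (commutator_le_of_sup (le_normalizer_inf hn le_normalizer) hx).trans inf_le_left
  have hP' : ⁅(P : Subgroup G), (P : Subgroup G)⁆ ≠ ⊥ := fun h =>
    hna (le_centralizer_iff_isMulCommutative.1 (commutator_eq_bot_iff_le_centralizer.1 h))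
  have hP'Φ : ⁅(P : Subgroup G), (P : Subgroup G)⁆ ≤ Φ := by
    rw [← map_subtype_commutator]
    exact map_mono (Grp.PFrattini.commutator_le_frattini P.isPGroup')
  let N₀ := normalClosure ((⁅(P : Subgroup G), (P : Subgroup G)⁆ : Subgroup G) : Set G)
  have hN0 : N₀ ≠ ⊥ := fun h => hP' (le_bot_iff.1 (h ▸ le_normalClosure))
  have hmin : ∀ N : Subgroup G, N.Normal → N ≠ ⊥ → N₀ ≤ N := fun N h h0 =>
    normalClosure_le_normal (hcy N le_normalizer_of_normal (hN N h h0))
  have hF : generalizedFittingSubgroup G = layer G ⊔ pCore p G := fstar_eq_of_pPrimeCore_eq_bot hcore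
  have hfit := Grp.fitting_eq_pCore_of_pPrimeCore_eq_bot hcore
  have main : generalizedFittingSubgroup G ≤ N₀ ∧ ∀ K L : Subgroup G, IsComponent K →
      IsComponent L → ∃ x ∈ (P : Subgroup G), L = cj(x, K) := by
    by_cases hQ : pCore p G = ⊥
    · have hsp : ∀ S : Subgroup G → Prop, (∀ g ∈ (P : Subgroup G), ∀ K, S K → S cj(g, K)) →
          ∀ K, IsComponent K → S K →
          ⁅(P : Subgroup G), (P : Subgroup G)⁆ ≤ sSup {K | IsComponent K ∧ S K} := by
        intro S hS K hK hSK
        have hn : (P : Subgroup G) ≤ 𝐍[sSup {K | IsComponent K ∧ S K}] :=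
          Grp.le_normalizer_sSup fun g hg U hU => ⟨comp_conj hU.1 g, hS g hg U hU.2⟩
        refine hcy _ hn fun h => comp_ne_bot hK (hsub K hK.1 (le_bot_iff.1 ?_))
        rw [← pRes_inf_eq_bot P hn h, ← CP.pRes_eq_of_perfect (p := p) (comp_commutator hK)]
        exact inf_le_inf_right _ (pRes_mono (le_sSup ⟨hK, hSK⟩))
      have tr : ∀ K L : Subgroup G, IsComponent K → IsComponent L →
          ∃ x ∈ (P : Subgroup G), L = cj(x, K) := by
        intro K L hK hL
        by_contra hc
        let S : Subgroup G → Prop := fun L => ∃ x ∈ (P : Subgroup G), L = cj(x, K)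
        have a := hsp S (by
          rintro g hg _ ⟨x, hx, rfl⟩
          exact ⟨g * x, mul_mem hg hx, (cj_mul _ _ _).symm⟩) K hK ⟨1, one_mem _, (cj_one _).symm⟩
        have b := hsp (fun L => ¬ S L) (by
          rintro g hg U hU ⟨x, hx, he⟩
          exact hU ⟨g⁻¹ * x, mul_mem (inv_mem hg) hx, by rw [cj_mul, ← he, cj_inv_cj]⟩) L hL hc
        have c := commutator_eq_bot_iff_le_centralizer.1 (commutator_split_eq_bot (G := G) S)
        refine hP' (le_bot_iff.1 ?_)
        rw [← hQ, ← hfit, ← fstar_inf_centralizer_layer]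
        refine le_inf (a.trans ((sSup_le fun U hU => comp_le_fstar hU.1))) ?_
        rw [layer_eq_sup_split S, Amb.centralizer_sup]
        exact le_inf (b.trans (le_centralizer_iff.1 c)) (a.trans c)
      refine ⟨?_, tr⟩
      rw [hF, hQ, sup_bot_eq, layer_le_iff]
      intro L hL
      rcases exists_comp_or_fitting_inf_ne_bot (N := N₀) (Normal.isSubnormal inferInstance) hN0 with
        ⟨K, hK, hle⟩ | h
      · obtain ⟨x, -, rfl⟩ := tr K L hK hL
        exact cj_le_of_mem_normalizer hle (le_normalizer_of_normal (H := N₀) (mem_top x))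
      · rw [hfit, hQ, bot_inf_eq] at h; exact absurd rfl h
    · let Q := pCore p G
      have hQP : Q ≤ P := Grp.pCore_le_sylow P
      have hZ : N₀ ≤ Q ⊓ 𝐂[Q] := hmin _ inferInstance
        (inf_centralizer_ne_bot (Grp.pCore_isPGroup p G) (Grp.pCore_isPGroup p G) le_normalizer hQ)
      have hNQ : N₀ ≤ Q := hZ.trans inf_le_left
      have hE : layer G = ⊥ := by
        by_contra hE
        have h1 := hmin _ inferInstance hE
        have h2 := (isSyl_top P).inf_of_le (N := layer G) le_top le_normalizer_of_normal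
        refine hN0 (hΦ _ inferInstance fun x hx => hP'Φ ?_)
        obtain ⟨T, hT⟩ := h2.exists_sylow
        have h3 := Transfer.mem_commutator_of_hall_of_central (H := (T : Subgroup (layer G)))
          (x := ⟨x, h1 hx⟩) T.card_coprime_index
          (by rw [hT]; exact mem_inf.2 ⟨hQP (hNQ hx), h1 hx⟩)
          (mem_center_iff.2 fun y => Subtype.ext
            ((layer_le_centralizer_pCore p y.2 x (hNQ hx)).symm))
          (by rw [((isPerfect_iff (H := layer G)).2 (layer_commutator G)).commutator_eq_top]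
              exact mem_top _)
        have h4 := mem_map_of_mem (layer G).subtype h3
        rw [map_commutator, hT, map_subgroupOf_of_le inf_le_right] at h4
        exact commutator_mono inf_le_left inf_le_left h4
      refine ⟨?_, fun K L hK => absurd (le_bot_iff.1 (hE ▸ comp_le_layer hK)) (comp_ne_bot hK)⟩
      rw [hF, hE, bot_sup_eq]
      by_contra hc
      obtain ⟨x, hxP, hx⟩ := exists_sup_zpowers hgen (hNQ.trans hQP)
        fun h => hN0 (hΦ _ inferInstance h)
      have hQe : Q = N₀ ⊔ (zpowers x ⊓ Q) := by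
        rw [← sup_inf_of_le_normalizer' hNQ le_normalizer_of_normal, hx, inf_eq_right.2 hQP]
      have hab : Q ≤ 𝐂[Q] := by
        have h1 : zpowers x ⊓ Q ≤ 𝐂[Q] := by
          conv_rhs => rw [hQe, Amb.centralizer_sup]
          refine le_inf (inf_le_right.trans (le_centralizer_iff.1 (hZ.trans inf_le_right))) ?_
          rintro _ ⟨⟨i, rfl⟩, -⟩ _ ⟨⟨j, rfl⟩, -⟩
          exact (zpow_mul_comm x j i)
        conv_lhs => rw [hQe]
        exact sup_le (hZ.trans inf_le_right) h1
      have hexp : ∀ y ∈ Q, y ^ p = 1 := by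
        let U : Subgroup G :=
          { carrier := {z | ∃ y ∈ Q, y ^ p = z}
            one_mem' := ⟨1, one_mem _, one_pow _⟩
            mul_mem' := by
              rintro _ _ ⟨a, ha, rfl⟩ ⟨b, hb, rfl⟩
              exact ⟨a * b, mul_mem ha hb, Commute.mul_pow (hab hb a ha) p⟩
            inv_mem' := by
              rintro _ ⟨a, ha, rfl⟩
              exact ⟨a⁻¹, inv_mem ha, inv_pow _ _⟩ }
        have hU : U = ⊥ := hΦ U ⟨by
          rintro _ ⟨a, ha, rfl⟩ g
          exact ⟨g * a * g⁻¹, Normal.conj_mem inferInstance a ha g, conj_pow⟩⟩ (by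
          rintro _ ⟨a, ha, rfl⟩
          exact ⟨(⟨a, hQP ha⟩ : (P : Subgroup G)) ^ p,
            Grp.PFrattini.pow_mem_frattini P.isPGroup' _, rfl⟩)
        intro y hy
        exact mem_bot.1 (hU ▸ (⟨y, hy, rfl⟩ : y ^ p ∈ U))
      have hdis : zpowers x ⊓ N₀ = ⊥ := by
        by_contra h0
        obtain ⟨⟨z, hz⟩, hz1⟩ := ne_bot_iff_exists_ne_one.1 h0
        have hz1' : z ≠ 1 := fun h => hz1 (Subtype.ext h)
        have h1 : IsCyclic (zpowers x ⊓ Q : Subgroup G) := isCyclic_of_le inf_le_left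
        have h2 : Nat.card (zpowers x ⊓ Q : Subgroup G) ∣ p := by
          rw [← IsCyclic.exponent_eq_card]
          exact Monoid.exponent_dvd_of_forall_pow_eq_one fun y => Subtype.ext (hexp y y.2.2)
        have h3 : zpowers z = zpowers x ⊓ Q := by
          refine eq_of_le_of_card_ge (zpowers_le.2 (mem_inf.2 ⟨hz.1, hNQ hz.2⟩)) ?_
          rw [Nat.card_zpowers, orderOf_eq_prime (hexp z (hNQ hz.2)) hz1']
          exact Nat.le_of_dvd (Nat.Prime.pos Fact.out) h2
        apply hc
        change Q ≤ N₀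
        rw [hQe, ← h3]
        exact sup_le le_rfl (zpowers_le.2 hz.2)
      have : IsMulCommutative N₀ := le_centralizer_iff_isMulCommutative.1
        (hZ.trans (inf_le_right.trans (centralizer_anti hNQ)))
      obtain ⟨H, hH⟩ := Solv.gaschutz_exists N₀ P (hNQ.trans hQP)
        (P.card_coprime_index.coprime_dvd_left (card_dvd_of_le (hNQ.trans hQP))) _ hdis hx
      have hQH : Q = N₀ ⊔ (H ⊓ Q) := by
        rw [← sup_inf_of_le_normalizer' hNQ le_normalizer_of_normal, hH.sup_eq_top, top_inf_eq]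
      have hn : (H ⊓ Q).Normal := by
        rw [← normalizer_eq_top_iff, eq_top_iff, ← hH.sup_eq_top]
        exact sup_le (hZ.trans (inf_le_right.trans ((centralizer_anti inf_le_right).trans
          (centralizer_le_normalizer' _)))) (le_normalizer_inf le_normalizer le_normalizer_of_normal)
      have h0 : H ⊓ Q ≠ ⊥ := fun h => hc (by
        change Q ≤ N₀
        rw [hQH, h, sup_bot_eq])
      exact hN0 (le_bot_iff.1 (le_trans (le_inf le_rfl ((hmin _ hn h0).trans inf_le_left))
        hH.disjoint.le_bot))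
  have : Nontrivial G := by
    obtain ⟨⟨z, hz⟩, hz1⟩ := ne_bot_iff_exists_ne_one.1 hN0
    exact ⟨z, 1, fun h => hz1 (Subtype.ext h)⟩
  refine ⟨⟨fstar_ne_bot G, fun K hK h0 => main.1.trans (hmin K hK h0)⟩, ?_, fun _ => main.2⟩
  obtain ⟨x, -, hx⟩ := exists_sup_zpowers hgen inf_le_right (hN _ hFn (fstar_ne_bot G))
  rw [← hx, Subgroup.map_sup, (Subgroup.map_eq_bot_iff _).2
    (inf_le_left.trans (QuotientGroup.ker_mk' _).ge), bot_sup_eq, MonoidHom.map_zpowers]
  infer_instance

end Cfsg.Agent.S4172
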