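import Cfsg.Statements.S4193
import Cfsg.Agent.RealCls.Base

set_option autoImplicit false
open Cfsg

namespace Cfsg.Agent.S4193

open Subgroup Cfsg.Agent.PLocal.Amb Cfsg.Agent.RealCls

/-- Let G be a finite group in which the conjugacy classes of all non-central real elements (elements conjugate to their inverses) have sizes with the same 2-part, and suppose G has a Sylow 2-subgroup S such that every element of S that is conjugate in S to its inverse lies in the centre of S. Then G is solvable and the subgroup generated by the 2-elements of G (the smallest normal subgroup of odd index) has a normal 2-complement. -/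
theorem result {G : Type*} [Group G] [Finite G] (a : ℕ) (h : ∀ x : G, IsConj x x⁻¹ → x ∉ Subgroup.center G → ((Subgroup.centralizer ({x} : Set G)).index).factorization 2 = a) (S : Sylow 2 G) (hS : ∀ s : ↥(S : Subgroup G), IsConj s s⁻¹ → s ∈ Subgroup.center ↥(S : Subgroup G)) : Group.IsSolvable G ∧ Cfsg.HasNormalPComplement 2 ↥(Subgroup.closure {g : G | ∃ k : ℕ, orderOf g = 2 ^ k}) := by
  have key : ∀ B : Subgroup G, IsPGroup 2 B → ∀ x ∈ B, ∀ w ∈ B, x * w * x⁻¹ = w⁻¹ →
      w⁻¹ = w ∧ (centralizer ({w} : Set G)).index.factorization 2 = 0 := by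
    intro B hB x hx w hw e
    obtain ⟨g, -, hg⟩ := (isSyl_top S).exists_cj_le hB le_top
    have h1 := mem_center_iff.1 (hS ⟨_, hg (conj_mem_cj g hw)⟩ (isConj_iff.2
      ⟨⟨_, hg (conj_mem_cj g hx)⟩, Subtype.ext (by
        change g * x * g⁻¹ * (g * w * g⁻¹) * (g * x * g⁻¹)⁻¹ = (g * w * g⁻¹)⁻¹
        rw [conj_inv (a := w), ← e]
        group)⟩))
    have h2 : ((g⁻¹ • S : Sylow 2 G) : Subgroup G) ≤ centralizer {w} := by
      intro s hs
      rw [coe_smul_sylow, mem_cj, inv_inv] at hs
      have h3 : g * s * g⁻¹ * (g * w * g⁻¹) = g * w * g⁻¹ * (g * s * g⁻¹) :=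
        congrArg Subtype.val (h1 ⟨_, hs⟩)
      rw [conj_mul, conj_mul] at h3
      exact mem_centralizer_singleton_iff.2 (by simpa using h3)
    refine ⟨?_, factorization_eq_zero _ h2⟩
    have h3 := mem_centralizer_singleton_iff.1 (h2 (x := x) (by
      rw [coe_smul_sylow, mem_cj, inv_inv]
      exact hg (conj_mem_cj g hx)))
    rw [← e, h3, mul_inv_cancel_right]
  rcases eq_or_ne a 0 with rfl | ha
  · haveI := normal_of_zero h S
    refine ⟨isSolvable_of_normal S, Transfer.hasNormalPComplement_of_isPGroup
      (S.isPGroup'.to_le ((closure_le _).2 ?_))⟩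
    rintro g ⟨k, hk⟩
    exact (isSyl_top S).le_of_normalizes (IsPGroup.of_card (G := zpowers g)
      (by rw [Nat.card_zpowers, hk])) le_top le_normalizer_of_normal (mem_zpowers g)
  · have h1 : Cfsg.HasNormalPComplement 2 G := by
      rw [Transfer.hasNormalPComplement_iff_local]
      refine fun B hB _ g hg hc => mem_cent_of_real hB hg hc fun x hx w hw e => ?_
      by_contra hne
      exact ha ((h w (isConj_iff.2 ⟨x, e⟩) fun hz => hne (mem_center_iff.1 hz g)).symm.trans
        (key B hB x hx w hw e).2)
    exact ⟨isSolvable_of_nilp h1, Transfer.HasNormalPComplement.subgroup h1 _⟩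

end Cfsg.Agent.S4193
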