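import Cfsg.Statements.S4198
import Cfsg.Agent.KSG.ConjCount

set_option autoImplicit false
open Cfsg

namespace Cfsg.Agent.S4198

open Subgroup Equiv Equiv.Perm Finset

theorem key {m m' : Multiset ℕ} {a a' : ℕ} (ha : a ∈ m) (ha' : a' ∈ m') (hm : ∀ x ∈ m, x ≤ a)
    (hm' : ∀ x ∈ m', x ≤ a') (h1 : 1 ≤ a) (h1' : 1 ≤ a')
    (he : (a - 1) ::ₘ m.erase a = (a' - 1) ::ₘ m'.erase a')
    (hf : a ∈ m.erase a ↔ a' ∈ m'.erase a') : m = m' := by
  have aux : ∀ {m m' : Multiset ℕ} {a a' : ℕ}, (∀ x ∈ m, x ≤ a) → 1 ≤ a →
      (a - 1) ::ₘ m.erase a = (a' - 1) ::ₘ m'.erase a' →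
      (a ∈ m.erase a ↔ a' ∈ m'.erase a') → ¬ a < a' := by
    intro m m' a a' hm h1 he hf hlt
    have h2 : ∀ x ∈ (a' - 1) ::ₘ m'.erase a', x = a - 1 ∨ x ∈ m.erase a := fun x hx =>
      Multiset.mem_cons.1 (he ▸ hx)
    rcases h2 _ (Multiset.mem_cons_self _ _) with h | h
    · omega
    · have h3 := hm _ (Multiset.mem_of_mem_erase h)
      have h4 : a' - 1 = a := by omega
      rw [h4] at h
      rcases h2 _ (Multiset.mem_cons_of_mem (hf.1 h)) with h5 | h5
      · omega
      · have := hm _ (Multiset.mem_of_mem_erase h5)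
        omega
  have h3 : a = a' := le_antisymm (not_lt.1 (aux hm' h1' he.symm hf.symm)) (not_lt.1 (aux hm h1 he hf))
  subst h3
  rw [← Multiset.cons_erase ha, ← Multiset.cons_erase ha', (Multiset.cons_inj_right _).1 he]

theorem exists_max {n : ℕ} (hn : 1 ≤ n) (l : Nat.Partition n) :
    ∃ a, a ∈ l.parts ∧ ∀ x ∈ l.parts, x ≤ a := by
  have h : l.parts.toFinset.Nonempty := by
    rw [Multiset.toFinset_nonempty]
    intro h
    have := l.parts_sum
    rw [h] at this
    simp at this
    omega
  exact ⟨_, Multiset.mem_toFinset.1 (max'_mem _ h),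
    fun x hx => le_max' _ x (Multiset.mem_toFinset.2 hx)⟩

theorem eq_ones {n : ℕ} (l : Nat.Partition n) (h : ∀ x ∈ l.parts, x ≤ 1) :
    l.parts = Multiset.replicate n 1 := by
  have h1 : l.parts = Multiset.replicate (Multiset.card l.parts) 1 :=
    Multiset.eq_replicate_card.2 fun x hx => le_antisymm (h x hx) (l.parts_pos hx)
  have h2 := l.parts_sum
  rw [h1, Multiset.sum_replicate, smul_eq_mul, mul_one] at h2
  rw [h1, h2]

theorem sum_erase {n : ℕ} (l : Nat.Partition n) {a : ℕ} (ha : a ∈ l.parts) :
    a + (l.parts.erase a).sum = n := by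
  rw [← Multiset.sum_cons, Multiset.cons_erase ha, l.parts_sum]

theorem card_succ {n : ℕ} (hn : 1 ≤ n) :
    Nat.card (Nat.Partition (n + 1)) ≤ 2 * Nat.card (Nat.Partition n) := by
  classical
  choose a ha hmax using exists_max (n := n + 1) (by omega)
  have hpos : ∀ l, 1 ≤ a l := fun l => l.parts_pos (ha l)
  let f : Nat.Partition (n + 1) → Prop × Nat.Partition n := fun l =>
    (a l ∈ l.parts.erase (a l), Nat.Partition.ofSums n ((a l - 1) ::ₘ l.parts.erase (a l)) (by
      have := sum_erase l (ha l)
      have := hpos l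
      rw [Multiset.sum_cons]; omega))
  have hfil : ∀ l, 2 ≤ a l → (f l).2.parts = (a l - 1) ::ₘ l.parts.erase (a l) := by
    intro l hl
    refine Multiset.filter_eq_self.2 fun x hx => ?_
    rcases Multiset.mem_cons.1 hx with h | h
    · omega
    · exact (l.parts_pos (Multiset.mem_of_mem_erase h)).ne'
  have hone : ∀ l l', f l = f l' → a l = 1 → a l' = 1 := by
    intro l l' h h1
    by_contra h2
    have h3 := hfil l' (by have := hpos l'; omega)
    have h4 : a l ∈ l.parts.erase (a l) := by
      rw [h1, eq_ones l fun x hx => (hmax l x hx).trans h1.le, Multiset.replicate_succ, Multiset.erase_cons_head]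
      exact Multiset.mem_replicate.2 ⟨by omega, rfl⟩
    have h5 : a l' ∈ l'.parts.erase (a l') := (congrArg Prod.fst h).mp h4
    have h6 : a l' ∈ (f l).2.parts := by rw [h, h3]; exact Multiset.mem_cons_of_mem h5
    rcases Multiset.mem_cons.1 (Multiset.mem_filter.1 h6).1 with h7 | h7
    · have := hpos l'; omega
    · have := hmax l _ (Multiset.mem_of_mem_erase h7)
      have := hpos l'; omega
  have hf : Function.Injective f := by
    intro l l' h
    by_cases h1 : a l = 1
    · have h2 := hone l l' h h1
      exact Nat.Partition.ext ((eq_ones l fun x hx => (hmax l x hx).trans h1.le).trans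
        (eq_ones l' fun x hx => (hmax l' x hx).trans h2.le).symm)
    · have h2 : a l' ≠ 1 := fun h3 => h1 (hone l' l h.symm h3)
      refine Nat.Partition.ext (key (ha l) (ha l') (hmax l) (hmax l') (hpos l) (hpos l') ?_
        (iff_of_eq (congrArg Prod.fst h)))
      rw [← hfil l (by have := hpos l; omega), ← hfil l' (by have := hpos l'; omega), h]
  simpa using Nat.card_le_card_of_injective f hf

theorem card_five : Nat.card (Nat.Partition 5) ≤ 8 := by
  classical
  let S : Finset (Multiset ℕ) := {{5}, {4, 1}, {3, 2}, {3, 1, 1}, {2, 2, 1}, {2, 1, 1, 1},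
    {1, 1, 1, 1, 1}}
  have h : ∀ l : List ℕ, (∀ x ∈ l, 0 < x) → l.sum = 5 → (l : Multiset ℕ) ∈ S := by
    intro l h1 h2
    rcases l with _ | ⟨a, _ | ⟨b, _ | ⟨c, _ | ⟨d, _ | ⟨e, _ | ⟨f, l⟩⟩⟩⟩⟩⟩ <;>
      simp only [List.mem_cons, forall_eq_or_imp, List.sum_cons, List.sum_nil, List.not_mem_nil,
        IsEmpty.forall_iff, implies_true, and_true] at h1 h2
    · omega
    · obtain rfl : a = 5 := by omega
      decide
    · obtain rfl : b = 5 - a := by omega
      have : a ≤ 4 := by omega
      obtain ⟨h3, -⟩ := h1
      interval_cases a <;> decide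
    · obtain rfl : c = 5 - a - b := by omega
      have : a ≤ 3 := by omega
      have : b ≤ 3 := by omega
      obtain ⟨h3, h4, h5⟩ := h1
      interval_cases a <;> interval_cases b <;> first | omega | decide
    · obtain rfl : d = 5 - a - b - c := by omega
      have : a ≤ 2 := by omega
      have : b ≤ 2 := by omega
      have : c ≤ 2 := by omega
      obtain ⟨h3, h4, h5, h6⟩ := h1
      interval_cases a <;> interval_cases b <;> interval_cases c <;> first | omega | decide
    · obtain rfl : a = 1 := by omega
      obtain rfl : b = 1 := by omega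
      obtain rfl : c = 1 := by omega
      obtain rfl : d = 1 := by omega
      obtain rfl : e = 1 := by omega
      decide
    · omega
  let f : Nat.Partition 5 → S := fun l => ⟨l.parts, by
    have := h l.parts.toList (fun x hx => l.parts_pos (Multiset.mem_toList.1 hx))
      (by rw [Multiset.sum_toList, l.parts_sum])
    rwa [Multiset.coe_toList] at this⟩
  have h2 := Nat.card_le_card_of_injective f fun l l' h => Nat.Partition.ext (congrArg Subtype.val h)
  have h3 : S.card ≤ 8 := by decide
  simp only [Nat.card_eq_fintype_card, Fintype.card_coe] at h2 ⊢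
  omega

theorem card_le (n : ℕ) (hn : 5 ≤ n) : Nat.card (Nat.Partition n) ≤ 2 ^ (n - 2) := by
  induction n, hn using Nat.le_induction with
  | base => exact card_five
  | succ n hn ih =>
    have := card_succ (n := n) (by omega)
    rw [show n + 1 - 2 = n - 2 + 1 by omega, pow_succ]
    omega

theorem even_lt {n : ℕ} (hn : 5 ≤ n) :
    Nat.card {l : Nat.Partition n // Even (n + Multiset.card l.parts)} <
      2 * Nat.card {l : Nat.Partition n // ¬ Even (n + Multiset.card l.parts)} := by
  classical
  choose a ha hmax using exists_max (n := n) (by omega)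
  have hpos : ∀ l, 1 ≤ a l := fun l => l.parts_pos (ha l)
  obtain ⟨μ, hμ, hμ1⟩ : ∃ μ : Nat.Partition n, ¬ Even (n + Multiset.card μ.parts) ∧ 1 ∉ μ.parts := by
    rcases Nat.even_or_odd' n with ⟨k, hk | hk⟩
    · refine ⟨⟨{n}, by simp; omega, by simp⟩, ?_, by simp; omega⟩
      simp [Nat.even_iff]; omega
    · refine ⟨⟨{n - 2, 2}, ?_, by simp; omega⟩, ?_, by simp; omega⟩
      · intro i hi
        simp at hi; omega
      · simp [Nat.even_iff]; omega
  let g : ∀ l : Nat.Partition n, a l ≠ 1 → Nat.Partition n := fun l h =>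
    ⟨1 ::ₘ (a l - 1) ::ₘ l.parts.erase (a l), by
      intro i hi
      rcases Multiset.mem_cons.1 hi with h1 | h1
      · omega
      rcases Multiset.mem_cons.1 h1 with h2 | h2
      · have := hpos l; omega
      · exact l.parts_pos (Multiset.mem_of_mem_erase h2), by
      have := sum_erase l (ha l)
      have := hpos l
      rw [Multiset.sum_cons, Multiset.sum_cons]; omega⟩
  have hg : ∀ l h, Multiset.card (g l h).parts = Multiset.card l.parts + 1 := by
    intro l h
    conv_rhs => rw [← Multiset.cons_erase (ha l)]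
    simp [g]
  let f : {l : Nat.Partition n // Even (n + Multiset.card l.parts)} →
      Prop × {l : Nat.Partition n // ¬ Even (n + Multiset.card l.parts)} := fun l =>
    if h : a l = 1 then (True, ⟨μ, hμ⟩) else (a l ∈ l.1.parts.erase (a l), ⟨g l h, by
      rw [hg _ h, ← add_assoc, Nat.even_add_one, not_not]; exact l.2⟩)
  have hne : ∀ l h, g l h ≠ μ := fun l h he => hμ1 (he ▸ Multiset.mem_cons_self _ _)
  have hf : Function.Injective f := by
    intro l l' h
    by_cases h1 : a l = 1 <;> by_cases h2 : a l' = 1 <;> simp only [f, h1, h2, dite_true, dite_false,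
      Prod.mk.injEq, Subtype.mk.injEq] at h
    · exact Subtype.ext (Nat.Partition.ext
        ((eq_ones _ fun x hx => (hmax l x hx).trans h1.le).trans
          (eq_ones _ fun x hx => (hmax l' x hx).trans h2.le).symm))
    · exact absurd h.2.symm (hne _ h2)
    · exact absurd h.2 (hne _ h1)
    · refine Subtype.ext (Nat.Partition.ext (key (ha l) (ha l') (hmax l) (hmax l') (hpos l) (hpos l')
        ?_ (iff_of_eq h.1)))
      exact (Multiset.cons_inj_right 1).1 (congrArg Nat.Partition.parts h.2)
  have hs : ¬ Function.Surjective f := by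
    intro h
    obtain ⟨l, hl⟩ := h (False, ⟨μ, hμ⟩)
    by_cases h1 : a l = 1 <;> simp only [f, h1, dite_true, dite_false, Prod.mk.injEq,
      Subtype.mk.injEq] at hl
    · simp at hl
    · exact hne _ h1 hl.2
  have := Fintype.card_lt_of_injective_not_surjective f hf hs
  simpa [-Fintype.card_subtype_compl] using this

/-- classes of the symmetric group are partitions -/
theorem exists_equiv (n : ℕ) : ∃ e : ConjClasses (Perm (Fin n)) ≃ Nat.Partition n,
    ∀ σ : Perm (Fin n), sign σ = 1 ↔ Even (n + Multiset.card (e (ConjClasses.mk σ)).parts) := by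
  let p : Perm (Fin n) → Nat.Partition n := fun σ =>
    ⟨σ.partition.parts, σ.partition.parts_pos, σ.partition.parts_sum.trans (Fintype.card_fin n)⟩
  have hp : ∀ σ τ, IsConj σ τ ↔ p σ = p τ := fun σ τ => by
    rw [partition_eq_of_isConj, Nat.Partition.ext_iff, Nat.Partition.ext_iff]
  let e : ConjClasses (Perm (Fin n)) → Nat.Partition n :=
    Quotient.lift p fun σ τ h => (hp σ τ).1 h
  have he : Function.Bijective e := by
    constructor
    · intro c d
      induction c using Quotient.inductionOn
      induction d using Quotient.inductionOn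
      exact fun h => Quotient.sound ((hp _ _).2 h)
    · intro l
      have h1 := Multiset.filter_add_not (2 ≤ ·) l.parts
      have h2 : l.parts.filter (fun x => ¬ 2 ≤ x) =
          Multiset.replicate (Multiset.card (l.parts.filter (fun x => ¬ 2 ≤ x))) 1 :=
        Multiset.eq_replicate_card.2 fun x hx => by
          have := Multiset.mem_filter.1 hx
          have := l.parts_pos this.1
          omega
      have h3 := l.parts_sum
      rw [← h1, Multiset.sum_add, h2, Multiset.sum_replicate, smul_eq_mul, mul_one] at h3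
      obtain ⟨σ, hσ⟩ := (exists_with_cycleType_iff (Fin n) (m := l.parts.filter (2 ≤ ·))).2
        ⟨by rw [Fintype.card_fin]; omega, fun a ha => (Multiset.mem_filter.1 ha).2⟩
      refine ⟨ConjClasses.mk σ, Nat.Partition.ext ?_⟩
      change σ.partition.parts = _
      rw [parts_partition, ← sum_cycleType, hσ, Fintype.card_fin]
      conv_rhs => rw [← h1, h2]
      congr 2
      omega
  refine ⟨Equiv.ofBijective e he, fun σ => ?_⟩
  change _ ↔ Even (n + Multiset.card σ.partition.parts)
  have h4 := σ.sum_cycleType_le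
  rw [Fintype.card_fin] at h4
  rw [sign_of_cycleType, neg_one_pow_eq_one_iff_even (by decide), parts_partition, ← sum_cycleType,
    Multiset.card_add, Multiset.card_replicate, Fintype.card_fin, Nat.even_iff, Nat.even_iff]
  omega

theorem sum_cent {G : Type*} [Group G] [Fintype G] (P : ConjClasses G → Prop)
    [DecidablePred fun x : G => P (ConjClasses.mk x)] :
    ∑ x ∈ univ.filter (fun x : G => P (ConjClasses.mk x)), Nat.card (centralizer ({x} : Set G)) =
      Nat.card {c // P c} * Nat.card G := by
  classical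
  have := Fintype.ofFinite (ConjClasses G)
  rw [← sum_fiberwise_of_maps_to (t := univ.filter P) (g := ConjClasses.mk) (by simp),
    Nat.card_eq_fintype_card, Fintype.card_subtype, ← smul_eq_mul, ← sum_const]
  refine sum_congr rfl fun c hc => ?_
  obtain ⟨y, rfl⟩ := ConjClasses.mk_surjective c
  have h1 : ∀ x, ConjClasses.mk x = ConjClasses.mk y →
      Nat.card (centralizer ({x} : Set G)) = Nat.card (centralizer ({y} : Set G)) := by
    intro x hx
    have h2 := KSG.card_carrier_mul_card_centralizer x
    have h3 := KSG.card_carrier_mul_card_centralizer y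
    rw [hx, ← h3] at h2
    exact Nat.eq_of_mul_eq_mul_left (by
      have : Nonempty (ConjClasses.mk y).carrier := ⟨⟨y, ConjClasses.mem_carrier_mk⟩⟩
      exact Nat.card_pos) h2
  rw [sum_congr rfl fun x hx => h1 x (mem_filter.1 hx).2, sum_const, smul_eq_mul,
    ← KSG.card_carrier_mul_card_centralizer y]
  congr 1
  rw [Nat.card_eq_fintype_card, Fintype.card_subtype]
  congr 1
  ext x
  simp only [mem_filter, mem_univ, true_and, ConjClasses.mem_carrier_iff_mk_eq,
    and_iff_right_iff_imp]
  intro h
  rw [h]; exact (mem_filter.1 hc).2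

theorem count {G : Type*} [Group G] [Finite G] (N : Subgroup G) (hN : N.index = 2)
    (P : ConjClasses G → Prop) (hP : ∀ x, x ∈ N ↔ P (ConjClasses.mk x)) :
    Nat.card (ConjClasses N) + Nat.card {c // ¬ P c} = 2 * Nat.card {c // P c} := by
  classical
  have := Fintype.ofFinite G
  let E : Finset G := univ.filter fun x => P (ConjClasses.mk x)
  let O : Finset G := univ.filter fun x => ¬ P (ConjClasses.mk x)
  have hE : ∀ x, x ∈ E ↔ x ∈ N := fun x => by simp [E, hP]
  have hO : ∀ x, x ∈ O ↔ x ∉ N := fun x => by simp [O, hP]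
  have hc : ∀ x : G, Nat.card (centralizer ({x} : Set G)) =
      (E.filter fun y => x * y = y * x).card + (O.filter fun y => x * y = y * x).card := by
    intro x
    rw [← card_union_of_disjoint (disjoint_filter_filter (disjoint_filter_filter_not _ _ _)),
      Nat.card_eq_fintype_card, Fintype.card_subtype]
    congr 1
    ext y
    simp only [mem_filter, mem_univ, true_and, mem_union, hE, hO,
      mem_centralizer_singleton_iff, eq_comm (a := y * x)]
    tauto
  have h1 := sum_cent P
  have h2 := sum_cent (fun c => ¬ P c)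
  change ∑ x ∈ E, _ = _ at h1
  change ∑ x ∈ O, _ = _ at h2
  simp only [hc, sum_add_distrib] at h1 h2
  have h3 : ∑ x ∈ E, (O.filter fun y => x * y = y * x).card =
      ∑ x ∈ O, (E.filter fun y => x * y = y * x).card := by
    have := sum_card_bipartiteAbove_eq_sum_card_bipartiteBelow (fun x y : G => x * y = y * x)
      (s := E) (t := O)
    simpa only [bipartiteAbove, bipartiteBelow, eq_comm] using this
  have h4 : ∑ x ∈ O, (O.filter fun y => x * y = y * x).card =
      ∑ x ∈ O, (E.filter fun y => x * y = y * x).card := by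
    refine sum_congr rfl fun x hx => ?_
    have hx' := (hO x).1 hx
    refine card_bij (fun y _ => x * y) (fun y hy => ?_) (fun y _ z _ h => mul_left_cancel h)
      (fun z hz => ⟨x⁻¹ * z, ?_, by simp⟩)
    · rw [mem_filter] at hy ⊢
      refine ⟨(hE _).2 ((mul_mem_iff_of_index_two hN).2 (iff_of_false hx' ((hO y).1 hy.1))), ?_⟩
      rw [mul_assoc, ← hy.2]
    · rw [mem_filter] at hz ⊢
      refine ⟨(hO _).2 fun h => hx' ?_, ?_⟩
      · simpa using ((mul_mem_iff_of_index_two hN).1 h).2 ((hE z).1 hz.1)
      · rw [mul_assoc, ← hz.2]; simp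
  have h5 : Nat.card (ConjClasses N) * Nat.card N =
      ∑ x ∈ E, (E.filter fun y => x * y = y * x).card := by
    rw [← card_comm_eq_card_conjClasses_mul_card, ← card_sigma, Nat.card_eq_fintype_card,
      ← card_univ]
    refine card_bij (fun p _ => ⟨p.1.1, p.1.2⟩) (fun p _ => ?_) (fun p _ q _ h => ?_) (fun z hz => ?_)
    · exact mem_sigma.2 ⟨(hE _).2 p.1.1.2,
        mem_filter.2 ⟨(hE _).2 p.1.2.2, congrArg Subtype.val p.2⟩⟩
    · simp only [Sigma.mk.injEq, heq_eq_eq] at h
      exact Subtype.ext (Prod.ext (Subtype.ext h.1) (Subtype.ext h.2))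
    · have hz1 := (mem_sigma.1 hz).1
      have hz2 := mem_filter.1 (mem_sigma.1 hz).2
      exact ⟨⟨(⟨z.1, (hE _).1 hz1⟩, ⟨z.2, (hE _).1 hz2.1⟩), Subtype.ext hz2.2⟩, mem_univ _, rfl⟩
  have h6 := N.card_mul_index
  rw [hN] at h6
  rw [← h6] at h1 h2
  refine Nat.eq_of_mul_eq_mul_right (Nat.card_pos (α := N)) ?_
  rw [add_mul, h5]
  nlinarith

/-- For n ≥ 5 the alternating group of degree n has strictly fewer conjugacy classes than the symmetric group of degree n, and the symmetric group of degree n (whose classes correspond to the partitions of n) has at most 2^(n−2) conjugacy classes. -/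
theorem result (n : ℕ) (hn : 5 ≤ n) : Nat.card (ConjClasses (alternatingGroup (Fin n))) < Nat.card (ConjClasses (Equiv.Perm (Fin n))) ∧ Nat.card (ConjClasses (Equiv.Perm (Fin n))) ≤ 2 ^ (n - 2) := by
  classical
  obtain ⟨e, he⟩ := exists_equiv n
  refine ⟨?_, (Nat.card_congr e).trans_le (card_le n hn)⟩
  have : Nontrivial (Fin n) := Fin.nontrivial_iff_two_le.2 (by omega)
  have h1 := count (alternatingGroup (Fin n)) alternatingGroup.index_eq_two
    (fun c => Even (n + Multiset.card (e c).parts)) he
  have h2 := even_lt hn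
  rw [Nat.card_congr (e.subtypeEquiv (q := fun l => Even (n + Multiset.card l.parts))
      fun _ => Iff.rfl),
    Nat.card_congr (e.subtypeEquiv (q := fun l => ¬ Even (n + Multiset.card l.parts))
      fun _ => Iff.rfl)] at h1
  have h3 := Nat.card_congr (Equiv.sumCompl fun l : Nat.Partition n =>
    Even (n + Multiset.card l.parts))
  rw [Nat.card_sum] at h3
  rw [Nat.card_congr e]
  omega

end Cfsg.Agent.S4198
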