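import Cfsg.Statements.S4218
import Mathlib
import Cfsg.Agent.PLocal.PSolvHall

set_option autoImplicit false
open Cfsg

namespace Cfsg.Agent.S4218

/-- Let `G` be a finite `p`-solvable group, `N₀ = O_{p'}(G)`, `P₁ = O_{p',p}(G)`, and let `F ≤ P₁` be the preimage of the Frattini subgroup of `P₁/N₀`. Then an element `g` of `G` induces the identity on `P₁/F` by conjugation (that is, `g x g⁻¹ x⁻¹ ∈ F` for all `x ∈ P₁`) if and only if `g ∈ P₁`: the group `G/P₁` acts faithfully on `P₁/F`. -/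
theorem result {G : Type*} [Group G] [Finite G] {p : ℕ} [Fact p.Prime] (hG : Cfsg.IsPSolvable p G) (g : G) : (∀ x ∈ Cfsg.pPrimePCore p G, g * x * g⁻¹ * x⁻¹ ∈ ((frattini (↥(Cfsg.pPrimePCore p G) ⧸ (Cfsg.pPrimeCore p G).subgroupOf (Cfsg.pPrimePCore p G))).comap (QuotientGroup.mk' ((Cfsg.pPrimeCore p G).subgroupOf (Cfsg.pPrimePCore p G)))).map (Cfsg.pPrimePCore p G).subtype) ↔ g ∈ Cfsg.pPrimePCore p G := by
  set O := Cfsg.pPrimeCore p G with hO
  set K := Cfsg.pPrimePCore p G with hK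
  set π := QuotientGroup.mk' O with hπ
  have hKm : K.map π = Cfsg.pCore p (G ⧸ O) := PLocal.map_pPrimePCore
  -- the restriction of `π` to `K`, onto `O_p(G/O)`
  let f : K →* Cfsg.pCore p (G ⧸ O) := (π.comp K.subtype).codRestrict _
    (fun x => hKm ▸ Subgroup.mem_map_of_mem π x.2)
  have hf : Function.Surjective f := by
    rintro ⟨y, hy⟩
    rw [← hKm] at hy
    obtain ⟨x, hx, rfl⟩ := hy
    exact ⟨⟨x, hx⟩, rfl⟩
  have hker : f.ker = O.subgroupOf K := by
    ext x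
    rw [MonoidHom.mem_ker, Subgroup.mem_subgroupOf, Subtype.ext_iff]
    exact QuotientGroup.eq_one_iff (x : G)
  let e : (K ⧸ O.subgroupOf K) ≃* Cfsg.pCore p (G ⧸ O) :=
    (QuotientGroup.quotientMulEquivOfEq hker.symm).trans (QuotientGroup.quotientKerEquivOfSurjective f hf)
  have he : ∀ x : K, e (QuotientGroup.mk x) = f x := fun x => rfl
  have hfr : ∀ x : K, (QuotientGroup.mk x : K ⧸ O.subgroupOf K) ∈ frattini (K ⧸ O.subgroupOf K) ↔
      f x ∈ frattini (Cfsg.pCore p (G ⧸ O)) := by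
    intro x
    rw [← Grp.map_frattini_equiv e, ← he]
    exact (Subgroup.mem_map_iff_mem e.injective).symm
  have hchar := PLocal.isPConstrained_iff.mp (PLocal.isPConstrained_of_isPSolvable hG)
  have key := PLocal.secStab_frattini_pCore hchar
  have hg : g ∈ K ↔ π g ∈ Cfsg.pCore p (G ⧸ O) := Iff.rfl
  rw [hg, ← key, PLocal.mem_secStab]
  have hKn : K.Normal := inferInstance
  constructor
  · intro h y hy
    rw [← hKm] at hy
    obtain ⟨x, hx, rfl⟩ := hy
    obtain ⟨z, hz, hz'⟩ := h x hx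
    refine ⟨f z, (hfr z).mp hz, ?_⟩
    change π (z : G) = _
    rw [show (z : G) = g * x * g⁻¹ * x⁻¹ from hz']
    simp
  · intro h x hx
    obtain ⟨y, hy, hy'⟩ := h (π x) (hKm ▸ Subgroup.mem_map_of_mem π hx)
    have hz : g * x * g⁻¹ * x⁻¹ ∈ K := K.mul_mem (hKn.conj_mem x hx g) (K.inv_mem hx)
    refine ⟨⟨_, hz⟩, (hfr _).mpr ?_, rfl⟩
    have : f ⟨_, hz⟩ = y := Subtype.ext (by
      change π (g * x * g⁻¹ * x⁻¹) = _
      rw [show (y : G ⧸ O) = π g * π x * (π g)⁻¹ * (π x)⁻¹ from hy']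
      simp)
    rw [this]
    exact hy

end Cfsg.Agent.S4218
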