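import Cfsg.Statements.S4227
import Mathlib
import Cfsg.Agent.PLocal.HHExp
import Cfsg.Agent.S0635
import Cfsg.Agent.Char.Burnside

set_option autoImplicit false
open Cfsg

namespace Cfsg.Agent.S4227

/-- A finite group in which every element has order dividing `6` has `2`-length at most `1` and `3`-length at most `1`. -/
theorem result {G : Type*} [Group G] [Finite G] (h : ∀ x : G, x ^ 6 = 1) : Cfsg.PLengthLE 2 1 G ∧ Cfsg.PLengthLE 3 1 G := by
  haveI : Fact (Nat.Prime 2) := ⟨Nat.prime_two⟩
  haveI : Fact (Nat.Prime 3) := ⟨Nat.prime_three⟩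
  have hsol : Group.IsSolvable G := by
    obtain ⟨a, b, hab⟩ : ∃ a b, Nat.card G ∣ 2 ^ a * 3 ^ b := by
      refine ⟨(Nat.card G).factorization 2, (Nat.card G).factorization 3, ?_⟩
      rw [← Nat.factorization_prime_le_iff_dvd Nat.card_pos.ne' (by positivity)]
      intro q hq
      by_cases hqd : q ∣ Nat.card G
      · haveI := Fact.mk hq
        obtain ⟨x, hx⟩ := exists_prime_orderOf_dvd_card' q hqd
        have h6 : q ∣ 2 * 3 := hx ▸ orderOf_dvd_of_pow_eq_one (h x)
        rw [Nat.factorization_mul (by positivity) (by positivity), Nat.Prime.factorization_pow Nat.prime_two,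
          Nat.Prime.factorization_pow Nat.prime_three]
        rcases (Nat.Prime.dvd_mul hq).mp h6 with h2 | h3
        · obtain rfl := (Nat.prime_dvd_prime_iff_eq hq Nat.prime_two).mp h2
          simp
        · obtain rfl := (Nat.prime_dvd_prime_iff_eq hq Nat.prime_three).mp h3
          simp
      · rw [Nat.factorization_eq_zero_of_not_dvd hqd]
        exact Nat.zero_le _
    exact Char.isSolvable_of_card_dvd_pow_mul_pow Nat.prime_two Nat.prime_three G hab
  have h2 : ∀ S : Sylow 2 G, IsMulCommutative S := fun S => ⟨⟨fun a b => by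
    refine (Commute.of_orderOf_dvd_two (fun x => ?_) a b).eq
    obtain ⟨k, hk⟩ := S.isPGroup' x
    have h1 : orderOf x ∣ 2 * 3 := orderOf_dvd_of_pow_eq_one (Subtype.ext (h x))
    have h3 : (orderOf x).Coprime 3 :=
      (Nat.Coprime.pow_left k (by norm_num : Nat.Coprime 2 3)).coprime_dvd_left
        (orderOf_dvd_of_pow_eq_one hk)
    exact h3.dvd_of_dvd_mul_right h1⟩⟩
  refine ⟨?_, ?_⟩
  · obtain ⟨S⟩ : Nonempty (Sylow 2 G) := inferInstance
    haveI := S.isPGroup'.isNilpotent
    exact PLocal.PLengthLE.mono (S0635.result (PLocal.isPSolvable_of_isSolvable) S)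
      (Group.IsNilpotent.nilpotencyClass_le_one_iff.mpr (h2 S))
  · refine PLocal.HH.pLengthLE_of_expLE_of_noExc 1 PLocal.isPSolvable_of_isSolvable
      (PLocal.HH.noExc_of_sylow_two (by decide) h2) ?_
    rintro g ⟨j, hj⟩
    have h1 : orderOf g ∣ 2 * 3 := orderOf_dvd_of_pow_eq_one (h g)
    have h3 : (orderOf g).Coprime 2 :=
      (Nat.Coprime.pow_left j (by norm_num : Nat.Coprime 3 2)).coprime_dvd_left
        (orderOf_dvd_of_pow_eq_one hj)
    exact orderOf_dvd_iff_pow_eq_one.mp (h3.dvd_of_dvd_mul_left h1)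

end Cfsg.Agent.S4227
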