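import Cfsg.Statements.S4235
import Mathlib
import Cfsg.Agent.Inv.CTI
import Cfsg.Agent.Inv.ZStarCor
import Cfsg.Agent.FGS.SolvRad
import Cfsg.Agent.Grp.MinNormal
import Cfsg.Agent.FT.FeitCoh
import Cfsg.Agent.Solv.FrobeniusKernel
import Cfsg.Agent.Solv.CN
import Cfsg.Agent.Transfer.Focal
import Cfsg.Agent.Perm.ZassEven

set_option autoImplicit false
open scoped Pointwise
open Cfsg

namespace Cfsg.Agent.S4235

open Subgroup Cfsg.Agent.FT Cfsg.Agent.Inv.CCInv

theorem solv_of_npc {X : Type*} [Group X] [Finite X] (h : HasNormalPComplement 2 X) :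
    Group.IsSolvable X := by
  obtain ⟨P, K, hK, hc⟩ := h
  have := S0205.result (G := K) (by
    rw [← hc.index_eq_card]
    exact Nat.odd_iff.2 (Nat.two_dvd_ne_zero.1 P.not_dvd_index))
  have := Solv.isSolvable_of_isPGroup P.isPGroup'
  have : Group.IsSolvable (X ⧸ K) := Group.isSolvable_of_isSolvable_injective
    (f := hc.symm.QuotientMulEquiv.toMonoidHom) (MulEquiv.injective _)
  exact (Group.isSolvable_iff_subgroup_quotient K).2 ⟨inferInstance, inferInstance⟩

theorem solv_normalizer {X : Type*} [Group X] [Finite X] (P : Sylow 2 X) :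
    Group.IsSolvable 𝒩((P : Subgroup X)) := by
  set N := 𝒩((P : Subgroup X))
  have hn : ((P : Subgroup X).subgroupOf N).Normal := inferInstance
  have h1 : Group.IsSolvable ((P : Subgroup X).subgroupOf N) :=
    Solv.isSolvable_of_isPGroup (P.isPGroup'.comap_subtype)
  have h2 : Group.IsSolvable (N ⧸ (P : Subgroup X).subgroupOf N) := S0205.result (by
    refine Nat.odd_iff.2 (Nat.two_dvd_ne_zero.1 fun h => P.not_dvd_index ?_)
    exact h.trans (relIndex_dvd_index_of_le le_normalizer))
  exact (Group.isSolvable_iff_subgroup_quotient _).2 ⟨h1, h2⟩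


/-- Let G be a finite group. Call a subgroup maximal solvable if it is solvable and not properly contained in a solvable subgroup. Suppose F assigns to each maximal solvable subgroup M a normal subgroup F(M) of M such that: every element of M outside F(M) centralizes no non-identity element of F(M); F(M) meets each conjugate g F(M) g⁻¹ with g outside M trivially; and F(M) is nontrivial unless M is abelian. Then G is solvable, or G is isomorphic to SL(2, K) for a finite field K of characteristic 2 with at least 4 elements, or G is isomorphic to a Suzuki group. -/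
theorem result {G : Type*} [Group G] [Finite G] (F : Subgroup G → Subgroup G)
    (h : ∀ M : Subgroup G, (Group.IsSolvable M ∧ ∀ M' : Subgroup G, M < M' → ¬ Group.IsSolvable M') →
      F M ≤ M ∧ M ≤ Subgroup.normalizer (F M : Set G) ∧
      (∀ a ∈ M, a ∉ F M → ∀ x ∈ F M, x * a = a * x → x = 1) ∧
      (∀ g : G, g ∉ M → F M ⊓ (MulAut.conj g • F M) = ⊥) ∧
      (F M ≠ ⊥ ∨ IsMulCommutative M)) :
    Group.IsSolvable G ∨
      (∃ (K : Type) (_ : Field K) (_ : Fintype K), (∃ n : ℕ, 2 ≤ n ∧ Fintype.card K = 2 ^ n) ∧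
        Nonempty (G ≃* Matrix.SpecialLinearGroup (Fin 2) K)) ∨
      Cfsg.Lie.IsoSuzuki G := by
  by_cases hG : Group.IsSolvable G
  · exact Or.inl hG
  right
  obtain ⟨t, ht⟩ := exists_involution_of_not_solvable hG
  obtain ⟨P, hP⟩ := (Inv.isPGroup_zpowers_of_orderOf_two ht).exists_le_sylow
  obtain ⟨M, hPM, hM⟩ := Finite.exists_le_maximal (p := fun M : Subgroup G => Group.IsSolvable M)
    (solv_normalizer P)
  have hMs : Group.IsSolvable M := hM.prop
  obtain ⟨hFM, hMN, hfpf, hTI, hne⟩ := h M ⟨hMs, fun M' hlt hs => hlt.not_ge (hM.le_of_ge hs hlt.le)⟩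
  set K := F M
  have hMtop : M ≠ ⊤ := fun e => hG (by
    subst e
    exact Group.isSolvable_of_surjective (f := (⊤ : Subgroup G).subtype) fun x => ⟨⟨x, trivial⟩, rfl⟩)
  have hmem : ∀ x ∈ K, x ≠ 1 → ∀ g : G, g * x * g⁻¹ ∈ K → g ∈ M := fun x hx h1 g hg => by
    by_contra hn
    have : g * x * g⁻¹ ∈ K ⊓ (MulAut.conj g • K) := ⟨hg, smul_mem_pointwise_smul _ _ _ hx⟩
    rw [hTI g hn, mem_bot] at this
    exact h1 (by simpa using this)
  have hCC : IsCC K := fun x hx h1 g hg => by
    have e := mem_cent1_iff.1 hg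
    by_contra hn
    exact h1 (hfpf g (hmem x hx h1 g (by rwa [e, mul_inv_cancel_right])) hn x hx e.symm)
  have hK : K ≠ ⊥ := by
    rcases hne with h1 | h1
    · exact h1
    · refine absurd (solv_of_npc (Transfer.hasNormalPComplement_of_normalizer_le_centralizer P
        fun g hg => mem_centralizer_iff.2 fun y hy => ?_)) hG
      exact setLike_mul_comm (s := M) (hPM (le_normalizer hy)) (hPM hg)
  have hsol : ∀ N : Subgroup G, N.Normal → Group.IsSolvable N → N = ⊥ := fun N hN hs => by
    by_contra hN1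
    obtain ⟨p, A, -, hA, hA1, -, hAc, -⟩ := Grp.exists_minNormal_elementaryAbelian_le N hN1
    have hAM : A ≤ M := le_sup_right.trans (hM.le_of_ge
      (FGS.isSolvable_sup_of_normal hMs (by
        have := Grp.isNilpotent_of_isMulCommutative A
        infer_instance)) le_sup_left)
    obtain ⟨⟨a, ha⟩, ha1⟩ := ne_bot_iff_exists_ne_one.1 hA1
    obtain ⟨⟨k, hk⟩, hk1⟩ := ne_bot_iff_exists_ne_one.1 hK
    have ha1' : a ≠ 1 := fun e => ha1 (Subtype.ext e)
    have hk1' : k ≠ 1 := fun e => hk1 (Subtype.ext e)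
    have hAK : ∀ b ∈ A, b ∈ K := fun b hb => by
      by_cases e : b * k * b⁻¹ * k⁻¹ = 1
      · exact hCC k hk hk1' (mem_cent1_iff.2 (by rwa [mul_inv_eq_one, mul_inv_eq_iff_eq_mul] at e))
      · refine hCC _ (K.mul_mem ((mem_normalizer_iff.1 (hMN (hAM hb)) k).1 hk) (K.inv_mem hk)) e
          (mem_cent1_iff.2 (setLike_mul_comm (s := A) hb ?_))
        rw [show b * k * b⁻¹ * k⁻¹ = b * (k * b⁻¹ * k⁻¹) by group]
        exact A.mul_mem hb (hA.conj_mem _ (A.inv_mem hb) k)
    exact hMtop (eq_top_iff.2 fun g _ => hmem a (hAK a ha) ha1' g (hAK _ (hA.conj_mem a ha g)))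
  have hF : fittingSubgroup G = ⊥ := hsol _ inferInstance inferInstance
  have hO : oddCore G = ⊥ := hsol _ inferInstance
    (S0205.result (Nat.coprime_two_right.1 (Grp.pPrimeCore_coprime 2 G)))
  have hKM : K.subgroupOf M ≠ ⊤ := fun e => by
    have e' : K = M := le_antisymm hFM (subgroupOf_eq_top.1 e)
    have := Solv.Frob.isComplement'_fitting (H := M) ⟨e' ▸ hK, hMtop, fun g hg => by
      have := hTI g hg
      rwa [e'] at this⟩
    rw [hF] at this
    exact hMtop (isComplement'_bot_left.1 this)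
  by_cases hev : ∃ u ∈ K, orderOf u = 2
  · obtain ⟨u, hu, hu2⟩ := hev
    have hn : (K.subgroupOf M).Normal := (normal_subgroupOf_iff_le_normalizer hFM).2 hMN
    have h1 : Group.IsNilpotent (K.subgroupOf M) := P6.nilpotent_of_frob (hCC.subgroupOf M) hKM
    have h2 : Group.IsNilpotent K := Grp.isNilpotent_of_injective
      (subgroupOfEquivOfLe hFM).symm.toMonoidHom (MulEquiv.injective _)
    obtain ⟨s, hs, hs2⟩ := Inv.CTI.exists_central_involution (G := K) (t := ⟨u, hu⟩)
      (by rw [← hu2, orderOf_mk])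
    have hs3 : orderOf (s : G) = 2 := by rwa [orderOf_coe]
    have hC : 𝒞[(s : G)] = K := le_antisymm
      (hCC _ s.2 fun e => by simp [e] at hs3) fun x hx =>
        mem_cent1_iff.2 (congrArg Subtype.val (mem_center_iff.1 hs ⟨x, hx⟩))
    obtain ⟨-, -, ⟨E, i1, i2, n, hn2, hE, ⟨e⟩⟩ | h3⟩ := IsCC.zass hF (by rw [hC]; exact hCC) hs3
    · refine Or.inl ⟨E, i1, i2, ⟨n, hn2, hE⟩, ⟨e.trans (Perm.ZassPSL.slEquivPsl ?_).symm⟩⟩
      rw [Nat.card_eq_fintype_card, hE]
      exact (Nat.even_pow' (by omega)).mpr even_two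
    · exact Or.inr h3
  · exfalso
    have htP : t ∈ (P : Subgroup G) := hP (mem_zpowers t)
    have hPM' : (P : Subgroup G) ≤ M := le_normalizer.trans hPM
    have hz : t ∈ center G := Inv.ZStar.mem_center_of_oddCore_eq_bot hO P ht htP fun g hg => by
      have ht1 : t ≠ 1 := fun e => by simp [e] at ht
      have ht2 : t * t = 1 := by rw [← pow_two, ← ht, pow_orderOf_eq_one]
      refine Solv.CN.involution_unique_of_fpf hK (hPM'.trans hMN) (fun a ha h1 => ?_) hg htP
        (by simpa using ht1) ht1 (by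
          calc g * t * g⁻¹ * (g * t * g⁻¹) = g * (t * t) * g⁻¹ := by group
            _ = 1 := by rw [ht2]; group) ht2
      refine eq_bot_iff.2 fun x hx => hfpf a (hPM' ha) (fun haK => hev ?_) x hx.1
        (mem_centralizer_singleton_iff.1 hx.2)
      obtain ⟨k, hk⟩ := IsPGroup.iff_orderOf.1 P.isPGroup' ⟨a, ha⟩
      rw [orderOf_mk] at hk
      have hd : 2 ∣ orderOf a := hk ▸ dvd_pow_self 2 (by
        rintro rfl
        exact h1 (orderOf_eq_one_iff.1 hk))
      exact ⟨_, K.pow_mem haK (orderOf a / 2), orderOf_pow_orderOf_div (orderOf_pos a).ne' hd⟩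
    rw [eq_bot_iff.2 (hF ▸ Grp.center_le_fitting : center G ≤ ⊥), mem_bot] at hz
    simp [hz] at ht

end Cfsg.Agent.S4235
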