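import Mathlib
import Cfsg.Statements.S4245
import Cfsg.Agent.S0205
import Cfsg.Agent.S4037
import Cfsg.Agent.Inv.SylowTwo
import Cfsg.Agent.FGS.ClassSize
import Cfsg.Agent.PLocal.AmbSyl
import Cfsg.Agent.Grp.Card

set_option autoImplicit false
open Cfsg

namespace Cfsg.Agent.S4245

open Subgroup Cfsg.Agent.PLocal.Amb

theorem solvable_of_cyclic {G : Type*} [Group G] [Finite G] {T : Subgroup G} (hT : IsSyl 2 T ⊤)
    (h : IsCyclic T) : Group.IsSolvable G := by
  obtain ⟨S, rfl⟩ := hT.exists_sylow_top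
  obtain ⟨N, hn, hc⟩ := Inv.exists_normal_complement_of_cyclic_sylow_two S h
  haveI := (S.2.of_equiv hc.symm.QuotientMulEquiv.symm).isNilpotent
  refine (Group.isSolvable_iff_subgroup_quotient N).2 ⟨S0205.result ?_, inferInstance⟩
  rw [← hc.index_eq_card, ← Nat.not_even_iff_odd, even_iff_two_dvd]
  exact S.not_dvd_index

theorem aux {A : Type*} [Group A] [Finite A] {p s r : ℕ} (hp : p.Prime) (B : Subgroup A) [B.Normal]
    (hB : IsCyclic B) (hAB : IsCyclic (A ⧸ B)) (hr : Nat.card (A ⧸ B) = 2 ^ r)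
    (G : Type*) [Group G] [Finite G] : ∀ f : A →* G, f.range.index ∣ p ^ s → Group.IsSolvable G := by
  refine Grp.card_induction (P := fun G _ _ => ∀ f : A →* G, f.range.index ∣ p ^ s → Group.IsSolvable G)
    (fun G _ _ ih => ?_) G
  intro f hf
  by_contra hns
  have key : ∀ (x : G) (q k : ℕ), q.Prime → (centralizer ({x} : Set G)).index ∣ q ^ k → x = 1 := by
    intro x q k hq hx
    by_contra x1
    obtain ⟨j, -, hj⟩ := (Nat.dvd_prime_pow hq).mp hx
    refine hns ((Group.isSolvable_iff_subgroup_quotient (normalClosure {x})).2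
      ⟨S4037.result x hq j (by rw [FGS.ncard_carrier_mk, hj]),
        ih _ ?_ ((QuotientGroup.mk' _).comp f) ?_⟩)
    · rw [← Grp.card_quotient_mul_card (normalClosure {x})]
      exact lt_mul_of_one_lt_right Nat.card_pos (one_lt_card_iff_ne_bot _ |>.mpr fun e =>
        x1 (mem_bot.mp (e ▸ subset_normalClosure (Set.mem_singleton x))))
    · rw [MonoidHom.range_comp]
      exact (index_map_dvd _ (QuotientGroup.mk'_surjective _)).trans hf
  have hB' : IsCyclic (B.map f) := isCyclic_of_surjective _ (f.subgroupMap_surjective B)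
  by_cases h2 : p = 2
  · subst h2
    have hi : (B.map f).index ∣ 2 ^ (r + s) := by
      rw [index_map, pow_add, ← hr]
      exact mul_dvd_mul (index_dvd_of_le le_sup_left) hf
    have hb : B.map f = ⊥ := eq_bot_iff.mpr fun x hx => key x 2 (r + s) hp ((index_dvd_of_le fun y hy =>
      mem_centralizer_singleton_iff.mpr (congrArg Subtype.val
        (hB'.isMulCommutative.is_comm.comm (⟨y, hy⟩ : B.map f) ⟨x, hx⟩))).trans hi)
    rw [hb, index_bot] at hi
    obtain ⟨j, -, hj⟩ := (Nat.dvd_prime_pow hp).mp hi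
    haveI := (IsPGroup.of_card hj).isNilpotent
    exact hns inferInstance
  by_cases he : 2 ∣ Nat.card (B.map f)
  · obtain ⟨z, hz⟩ := exists_prime_orderOf_dvd_card' 2 he
    rw [← orderOf_coe] at hz
    have : (z : G) = 1 := key z p s hp ((index_dvd_of_le ?_).trans hf)
    · simp [this] at hz
    rintro _ ⟨a, rfl⟩
    obtain ⟨b, hb, e⟩ := z.2
    have := Inv.eq_of_orderOf_two_of_mem_cyclic hB' (x := f a * z * (f a)⁻¹)
      ⟨_, ‹B.Normal›.conj_mem b hb a, by simp [e]⟩ z.2 (by rw [orderOf_conj', hz]) hz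
    exact mem_centralizer_singleton_iff.mpr (mul_inv_eq_iff_eq_mul.mp this)
  obtain ⟨T, hT⟩ := exists_isSyl 2 (⊤ : Subgroup A)
  have hT' := hT.map f
  rw [← MonoidHom.range_eq_map] at hT'
  refine hns (solvable_of_cyclic (T := T.map f) (isSyl_of_not_dvd_relIndex hT'.pgrp le_top ?_) ?_)
  · rw [relIndex_top_right, ← relIndex_mul_index hT'.le]
    intro h
    rcases (Nat.prime_two.dvd_mul).mp h with h | h
    · exact hT'.not_dvd_relIndex h
    · exact h2 ((Nat.prime_dvd_prime_iff_eq Nat.prime_two hp).mp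
        (Nat.prime_two.dvd_of_dvd_pow (h.trans hf))).symm
  · let g : T →* A ⧸ B := (QuotientGroup.mk' B).comp T.subtype
    have hk : g.ker ≤ (f.subgroupMap T).ker := fun t ht => Subtype.ext (by
      have hb : (t : A) ∈ B := (QuotientGroup.eq_one_iff _).mp ht
      exact eq_one_of_isPGroup_of_coprime hT'.pgrp ⟨t, t.2, rfl⟩
        (((Nat.prime_two.coprime_iff_not_dvd).mpr he).symm.coprime_dvd_left
          (orderOf_dvd_natCard (B.map f) ⟨t, hb, rfl⟩)))
    haveI : IsCyclic (T ⧸ g.ker) := isCyclic_of_injective _ (QuotientGroup.kerLift_injective g)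
    exact isCyclic_of_surjective (QuotientGroup.lift g.ker (f.subgroupMap T) hk) fun y => by
      obtain ⟨t, rfl⟩ := f.subgroupMap_surjective T y
      exact ⟨t, rfl⟩

/-- Let G be a finite group with a subgroup A of prime-power index. Suppose A has a normal cyclic subgroup B such that A/B is cyclic of order a power of 2. Then G is solvable. -/
theorem result {G : Type*} [Group G] [Finite G] (A : Subgroup G) (p s : ℕ) (hp : p.Prime) (hA : A.index = p ^ s)
    (B : Subgroup A) [B.Normal] (hB : IsCyclic B) (hAB : IsCyclic (A ⧸ B)) (r : ℕ) (hr : Nat.card (A ⧸ B) = 2 ^ r) :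
    Group.IsSolvable G := by
  exact aux hp B hB hAB hr G A.subtype (by rw [Subgroup.range_subtype, hA])

end Cfsg.Agent.S4245
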