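import Mathlib
import Cfsg.Statements.S4262
import Cfsg.Agent.S4040
import Cfsg.Agent.S0556
import Cfsg.Agent.FGS.PrimePart

set_option autoImplicit false
open Cfsg

namespace Cfsg.Agent.S4262

theorem isPGroup_map {G : Type*} [Group G] [Finite G] {r : ℕ} [Fact r.Prime] (M Z : Subgroup G)
    [Z.Normal]
    (h : ∀ s : ℕ, s.Prime → s ≠ r → ∀ y ∈ M, (∃ k, y ^ s ^ k = 1) → y ∈ Z) :
    IsPGroup r (M.map (QuotientGroup.mk' Z)) := by
  rintro ⟨_, m, hm, rfl⟩
  obtain ⟨u, v, hu, hv, ⟨k, hk⟩, hv', rfl⟩ := Transfer.exists_pPart_mul (p := r) m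
  have hvZ : v ∈ Z := by
    refine FGS.mem_of_forall_primePow_part fun s hs y hy ⟨j, hj⟩ => ?_
    by_cases hsr : s = r
    · subst hsr
      have h1 : orderOf y = 1 := Nat.eq_one_of_dvd_coprimes (hv'.pow_right j)
        (orderOf_dvd_of_mem_zpowers hy) (orderOf_dvd_of_pow_eq_one hj)
      rw [orderOf_eq_one_iff.mp h1]; exact Z.one_mem
    · exact h s hs hsr y ((Subgroup.zpowers_le.mpr ((Subgroup.zpowers_le.mpr hm) hv)) hy) ⟨j, hj⟩
  refine ⟨k, Subtype.ext ?_⟩
  have : (QuotientGroup.mk' Z) v = 1 := (QuotientGroup.eq_one_iff v).mpr hvZ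
  simp only [SubmonoidClass.mk_pow, OneMemClass.coe_one, map_mul, this, mul_one]
  rw [← map_pow, hk, map_one]

theorem coprime_of {G : Type*} [Group G] {r s : ℕ} (hr : r.Prime) (hs : s.Prime) (hne : r ≠ s)
    {x y : G} (hx : ∃ k, x ^ r ^ k = 1) (hy : ∃ k, y ^ s ^ k = 1) :
    (orderOf x).Coprime (orderOf y) := by
  obtain ⟨k, hk⟩ := hx
  obtain ⟨j, hj⟩ := hy
  exact Nat.Coprime.coprime_dvd_left (orderOf_dvd_of_pow_eq_one hk)
    (Nat.Coprime.coprime_dvd_right (orderOf_dvd_of_pow_eq_one hj)
      (Nat.Coprime.pow k j ((Nat.coprime_primes hr hs).mpr hne)))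

/-- Let G be a finite group in which the centralizer of every non-central element is a maximal subgroup of G. Then G is solvable. -/
theorem result {G : Type*} [Group G] [Finite G]
    (h : ∀ g : G, g ∉ Subgroup.center G → IsCoatom (Subgroup.centralizer ({g} : Set G))) :
    Group.IsSolvable G := by
  have hq : Group.IsSolvable (G ⧸ Subgroup.center G) → Group.IsSolvable G := fun hs =>
    have : Group.IsSolvable (Subgroup.center G) :=
      Group.isSolvable_of_comm fun a b => Subtype.ext (Subgroup.mem_center_iff.mp b.2 a)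
    Group.isSolvable_of_ker_le_range (Subgroup.center G).subtype
      (QuotientGroup.mk' (Subgroup.center G))
      (by rw [QuotientGroup.ker_mk', Subgroup.range_subtype])
  have L : ∀ a b : G, a ∉ Subgroup.center G → b ∉ Subgroup.center G → Commute a b →
      (orderOf a).Coprime (orderOf b) →
      Subgroup.centralizer ({a} : Set G) = Subgroup.centralizer ({b} : Set G) := by
    intro a b ha hb hc hab
    have h1 := FGS.centralizer_mul_of_coprime hc hab
    have h2 : a * b ∉ Subgroup.center G := by
      intro h3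
      have h4 : Subgroup.centralizer ({a * b} : Set G) = ⊤ :=
        Subgroup.centralizer_eq_top_iff_subset.mpr (by simpa using h3)
      rw [h4, eq_comm, inf_eq_top_iff] at h1
      exact (h a ha).1 h1.1
    have h5 := (h _ h2).le_iff_eq (h a ha).1 |>.mp (h1 ▸ inf_le_left)
    have h6 := (h _ h2).le_iff_eq (h b hb).1 |>.mp (h1 ▸ inf_le_right)
    rw [h5, h6]
  by_cases hodd : ∃ r : ℕ, r.Prime ∧ r ≠ 2 ∧ ∃ x : G, (∃ k, x ^ r ^ k = 1) ∧ x ∉ Subgroup.center G
  · obtain ⟨r, hr, hr2, x, hx, hxZ⟩ := hodd
    have := Fact.mk hr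
    set M := Subgroup.centralizer ({x} : Set G) with hM
    by_cases hy : ∃ s : ℕ, s.Prime ∧ s ≠ r ∧ ∃ y ∈ M, (∃ k, y ^ s ^ k = 1) ∧
        y ∉ Subgroup.center G
    · obtain ⟨s, hs, hsr, y, hyM, hy, hyZ⟩ := hy
      have hxy : M = Subgroup.centralizer ({y} : Set G) :=
        L x y hxZ hyZ (Subgroup.mem_centralizer_singleton_iff.mp hyM).symm
          (coprime_of hr hs hsr.symm hx hy)
      have hle : M ≤ Subgroup.centralizer (M : Set G) := by
        refine FGS.le_of_forall_primePow fun t ht w hw hw' => ?_
        by_cases hwZ : w ∈ Subgroup.center G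
        · exact Subgroup.center_le_centralizer _ hwZ
        · have h1 : M = Subgroup.centralizer ({w} : Set G) := by
            by_cases htr : t = r
            · subst htr
              rw [hxy] at hw ⊢
              exact L y w hyZ hwZ (Subgroup.mem_centralizer_singleton_iff.mp hw).symm
                (coprime_of hs ht hsr hy hw')
            · exact L x w hxZ hwZ (Subgroup.mem_centralizer_singleton_iff.mp hw).symm
                (coprime_of hr ht (Ne.symm htr) hx hw')
          intro m hm
          rw [h1] at hm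
          exact Subgroup.mem_centralizer_singleton_iff.mp hm
      have := Subgroup.le_centralizer_iff_isMulCommutative.mp hle
      exact ⟨⟨3, S0556.result M (h x hxZ)⟩⟩
    · push Not at hy
      have hP := isPGroup_map (r := r) M (Subgroup.center G) hy
      have hcm : (M.map (QuotientGroup.mk' (Subgroup.center G))).comap (QuotientGroup.mk' _) = M := by
        rw [Subgroup.comap_map_eq, QuotientGroup.ker_mk', sup_eq_left]
        exact Subgroup.center_le_centralizer _
      have hco : IsCoatom (M.map (QuotientGroup.mk' (Subgroup.center G))) := by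
        refine ⟨fun ht => (h x hxZ).1 ?_, fun K hK => ?_⟩
        · rw [← hM, ← hcm, ht, Subgroup.comap_top]
        · have h1 := (h x hxZ).2 (K.comap (QuotientGroup.mk' _)) (by
            rw [← hM, ← hcm]
            exact (Subgroup.comap_lt_comap_of_surjective (QuotientGroup.mk'_surjective _)).mpr hK)
          rw [← Subgroup.map_comap_eq_self_of_surjective (QuotientGroup.mk'_surjective _) K, h1,
            Subgroup.map_top_of_surjective _ (QuotientGroup.mk'_surjective _)]
      obtain ⟨k, hk⟩ := hP.exists_card_eq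
      exact hq (S4040.result _ hco hP.isNilpotent (hk ▸ (hr.odd_of_ne_two hr2).pow))
  · push Not at hodd
    have hP := isPGroup_map (r := 2) ⊤ (Subgroup.center G)
      (fun s hs hs2 y _ hy => hodd s hs hs2 y hy)
    rw [Subgroup.map_top_of_surjective _ (QuotientGroup.mk'_surjective _)] at hP
    have hP' : IsPGroup 2 (G ⧸ Subgroup.center G) := hP.of_equiv Subgroup.topEquiv
    have := hP'.isNilpotent
    exact hq inferInstance

end Cfsg.Agent.S4262
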