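import Cfsg.Statements.S4282
import Mathlib
import Cfsg.Agent.PLocal.HallHigman

set_option autoImplicit false
open Cfsg

namespace Cfsg.Agent.S4282

open Subgroup
open scoped commutatorElement

/-- A critical case behind the Hall–Higman theorem. Let p ≠ q be primes and G a finite group generated by a normal q-subgroup Q and a cyclic p-subgroup generated by x, such that the centralizer of every non-identity element of that cyclic subgroup is its product with the centre of G. Let K be an algebraically closed field of characteristic p and ρ a faithful representation of G on a nonzero finite-dimensional K-space whose restriction to Q is irreducible. If s is the least exponent with (ρ(x) − 1)^s = 0, then |⟨x⟩| − 1 ≤ s ≤ |⟨x⟩|; and if s = |⟨x⟩| − 1 then |⟨x⟩| − 1 is a power of q and Q is non-abelian. -/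
theorem result {G : Type*} [Group G] [Finite G] (p q : ℕ) [Fact p.Prime] [Fact q.Prime] (hpq : p ≠ q) (Q : Subgroup G) [Q.Normal] (hQ : IsPGroup q Q) (x : G) (hx : IsPGroup p (Subgroup.zpowers x)) (hgen : Q ⊔ Subgroup.zpowers x = ⊤) (hC : ∀ y ∈ Subgroup.zpowers x, y ≠ 1 → Subgroup.centralizer ({y} : Set G) = Subgroup.zpowers x ⊔ Subgroup.center G) {K : Type*} [Field K] [IsAlgClosed K] [CharP K p] {V : Type*} [AddCommGroup V] [Module K V] [FiniteDimensional K V] [Nontrivial V] (ρ : Representation K G V) (hfaith : Function.Injective ρ) (hirr : ∀ W : Submodule K V, (∀ g ∈ Q, Submodule.map (ρ g) W ≤ W) → W = ⊥ ∨ W = ⊤) (s : ℕ) (hs : (ρ x - 1) ^ s = 0) (hmin : ∀ k < s, (ρ x - 1) ^ k ≠ 0) : Nat.card (Subgroup.zpowers x) - 1 ≤ s ∧ s ≤ Nat.card (Subgroup.zpowers x) ∧ (s = Nat.card (Subgroup.zpowers x) - 1 → (∃ b : ℕ, Nat.card (Subgroup.zpowers x) - 1 = q ^ b) ∧ ¬ IsMulCommutative Q) := by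
  have hp : p.Prime := Fact.out
  have hq : q.Prime := Fact.out
  obtain ⟨n, hn⟩ := hx.exists_card_eq
  rw [Nat.card_zpowers] at hn ⊢
  have hirr' : ∀ Y : Submodule K V, (∀ g ∈ Q, ∀ w ∈ Y, ρ g w ∈ Y) → Y = ⊥ ∨ Y = ⊤ :=
    fun Y hY => hirr Y fun g hg => by
      rintro _ ⟨w, hw, rfl⟩
      exact hY g hg w hw
  have hlt : ∀ k, (ρ x - 1) ^ k ≠ 0 → k < s := fun k hk => by
    by_contra h
    exact hk (pow_eq_zero_of_le (not_lt.mp h) hs)
  have hle : s ≤ orderOf x := by
    by_contra h
    refine hmin _ (not_le.mp h) ?_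
    rw [hn, PLocal.HH.sub_one_pow_char_pow (F := K) p, ← map_pow, ← hn, pow_orderOf_eq_one, map_one,
      sub_self]
  have hpos := orderOf_pos x
  by_cases hT : (ρ x - 1) ^ (orderOf x - 1) = 0
  swap
  · have := hlt _ hT
    exact ⟨by omega, hle, fun h => by omega⟩
  rcases n with _ | n
  · rw [hn] at hT
    simp at hT
  have hxn : x ^ p ^ (n + 1) = 1 := hn ▸ pow_orderOf_eq_one x
  have hy1 : x ^ p ^ n ≠ 1 := fun h => by
    have h4 := Nat.le_of_dvd (pow_pos hp.pos n) (hn ▸ orderOf_dvd_of_pow_eq_one h)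
    exact absurd h4 (not_le.mpr (Nat.pow_lt_pow_right hp.one_lt (Nat.lt_succ_self n)))
  have hscal : ∀ z ∈ centralizer (Q : Set G), ∃ c : K, ρ z = c • 1 := fun z hz =>
    PLocal.HH.schur ρ hirr' _ fun g hg => by rw [← map_mul, ← map_mul, hz g hg]
  have hnt : ⁅Q, zpowers (x ^ p ^ n)⁆ ≠ ⊥ := by
    intro h
    obtain ⟨c, hc⟩ := hscal _ (le_centralizer_iff.mp (commutator_eq_bot_iff_le_centralizer.mp h)
      (mem_zpowers _))
    have h1 : (ρ (x ^ p ^ n) - 1) ^ p ^ 1 = 0 := by
      rw [PLocal.HH.sub_one_pow_char_pow (F := K) p, ← map_pow, ← pow_mul, ← pow_add, hxn, map_one,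
        sub_self]
    have h2 : ρ (x ^ p ^ n) - 1 = (c - 1) • 1 := by rw [hc, sub_smul, one_smul]
    rw [h2, smul_pow, one_pow, smul_eq_zero] at h1
    have h3 := pow_eq_zero_iff (pow_pos hp.pos 1).ne' |>.mp (h1.resolve_right one_ne_zero)
    rw [h3, zero_smul, sub_eq_zero] at h2
    exact hy1 (hfaith (h2.trans (map_one ρ).symm))
  obtain ⟨U, hUQ, hxU, hUn, hUmin⟩ := PLocal.exists_minimal_not_centralized (B := zpowers x)
    le_normalizer_of_normal hnt
  have hU : IsPGroup q U := hQ.to_le hUQ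
  obtain ⟨-, hUy, hstr⟩ := PLocal.HH.minimal_structure hpq hU (hxU (mem_zpowers x)) hxn hUn hUmin
  have hnc : ¬ IsMulCommutative U := by
    intro hc
    rcases PLocal.HH.of_qgroup hpq ρ hU (hxU (mem_zpowers x)) hxn (by
      by_contra h
      push Not at h
      exact hUn ((eq_bot_iff_forall _).mpr fun g hg => hfaith ((h g hg).trans (map_one ρ).symm)))
      with h | ⟨_, _, -, -, -, -, h, -⟩
    · exact h (hn ▸ hT)
    · exact h hc
  obtain ⟨h1, h2, h3⟩ := hstr hnc
  have hne : U ⊓ centralizer (U : Set G) ≠ U := fun h =>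
    hnc (le_centralizer_iff_isMulCommutative.mp (h.ge.trans inf_le_right))
  obtain ⟨h4, h5⟩ := PLocal.HH.crit_of_scalar ρ inf_le_left hne (hxU (mem_zpowers x))
    (Solv.le_normalizer_inf hxU (Solv.le_normalizer_centralizer hxU) (mem_zpowers x))
    (fun z hz => hscal z (by
      have h6 := h2 hz
      rw [hC _ (npow_mem_zpowers x _) hy1] at h6
      have h7 : QuotientGroup.mk' (center G) z ∈ (zpowers x).map (QuotientGroup.mk' (center G)) ⊓
          U.map (QuotientGroup.mk' (center G)) := by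
        refine ⟨?_, mem_map_of_mem _ hz.1⟩
        have := mem_map_of_mem (QuotientGroup.mk' (center G)) h6
        rwa [Subgroup.map_sup, (Subgroup.map_eq_bot_iff (center G)).mpr (QuotientGroup.ker_mk' _).ge,
          sup_bot_eq] at this
      rw [Grp.inf_eq_bot_of_isPGroup_of_coprime (hx.map _)
        (Grp.coprime_card_of_isPGroup_of_ne (Ne.symm hpq) (hU.map _)), mem_bot,
        QuotientGroup.mk'_apply, QuotientGroup.eq_one_iff] at h7
      exact center_le_centralizer _ h7))
    (fun t ht htZ => by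
      by_contra hcon
      push Not at hcon
      refine htZ ⟨ht, fun g hg => commutatorElement_eq_one_iff_mul_comm.mp (hfaith ?_)⟩
      rw [map_one]
      exact hcon g hg (h1 (commutator_mem_commutator hg ht))) h3
    (PLocal.HH.natCast_card_ne_zero hpq hU) hT
  have h6 := hlt _ h5
  obtain ⟨j, hj⟩ := hU.index ((U ⊓ centralizer (U : Set G)).subgroupOf U)
  obtain ⟨m, -, hm⟩ := PLocal.HH.exists_eq_pow_of_sq hq (h4.symm.trans hj) (fun h => hne
    (le_antisymm inf_le_left (relIndex_eq_one.mp (h4.trans h))))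
  exact ⟨by omega, hle, fun _ => ⟨⟨m, hm⟩, fun h => hnc (le_centralizer_iff_isMulCommutative.mp
    (hUQ.trans ((le_centralizer_iff_isMulCommutative.mpr h).trans (centralizer_le hUQ))))⟩⟩

end Cfsg.Agent.S4282
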