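import Mathlib
import Cfsg.Statements.S4321
import Cfsg.Agent.H41.PSing

set_option autoImplicit false
open Cfsg

namespace Cfsg.Agent.S4321

/-- Let `G` be a finite group and `p` a prime not dividing the order of the centre of `G`. Consider the primes dividing the size of some conjugacy class of a `p`-singular element (an element of order divisible by `p`), two of them adjacent when their product divides such a class size. Then any two distinct such primes are joined by a path with at most 3 edges (the graph is connected of diameter at most 3). -/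
theorem result {G : Type*} [Group G] [Finite G] (p : ℕ) [Fact p.Prime]
    (hZ : ¬ p ∣ Nat.card ↥(Subgroup.center G)) (r s : ℕ) (hr : (r.Prime ∧ ∃ x : G, p ∣ orderOf x ∧ r ∣ (Subgroup.centralizer ({x} : Set G)).index)) (hs : (s.Prime ∧ ∃ x : G, p ∣ orderOf x ∧ s ∣ (Subgroup.centralizer ({x} : Set G)).index)) (hrs : r ≠ s) :
    (∃ x : G, p ∣ orderOf x ∧ r * s ∣ (Subgroup.centralizer ({x} : Set G)).index) ∨ (∃ t : ℕ, (t.Prime ∧ ∃ x : G, p ∣ orderOf x ∧ t ∣ (Subgroup.centralizer ({x} : Set G)).index) ∧ t ≠ r ∧ t ≠ s ∧ (∃ x : G, p ∣ orderOf x ∧ r * t ∣ (Subgroup.centralizer ({x} : Set G)).index) ∧ (∃ x : G, p ∣ orderOf x ∧ t * s ∣ (Subgroup.centralizer ({x} : Set G)).index)) ∨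
      (∃ t u : ℕ, (t.Prime ∧ ∃ x : G, p ∣ orderOf x ∧ t ∣ (Subgroup.centralizer ({x} : Set G)).index) ∧ (u.Prime ∧ ∃ x : G, p ∣ orderOf x ∧ u ∣ (Subgroup.centralizer ({x} : Set G)).index) ∧ t ≠ r ∧ u ≠ s ∧ t ≠ u ∧ (∃ x : G, p ∣ orderOf x ∧ r * t ∣ (Subgroup.centralizer ({x} : Set G)).index) ∧ (∃ x : G, p ∣ orderOf x ∧ t * u ∣ (Subgroup.centralizer ({x} : Set G)).index) ∧ (∃ x : G, p ∣ orderOf x ∧ u * s ∣ (Subgroup.centralizer ({x} : Set G)).index)) := by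
  obtain ⟨hr, a, ha, hra⟩ := hr
  obtain ⟨hs, b, hb, hsb⟩ := hs
  obtain ⟨t, w, ht, hw, hta, hwb, x, hx, htx, hwx⟩ := H41.PSing.walk hZ ha hb
  have mul : ∀ {i j n : ℕ}, i.Prime → j.Prime → i ≠ j → i ∣ n → j ∣ n → i * j ∣ n :=
    fun hi hj hij h1 h2 => ((Nat.coprime_primes hi hj).2 hij).mul_dvd_of_dvd_of_dvd h1 h2
  by_cases h1 : t = r
  · subst h1
    by_cases h2 : w = s
    · subst h2
      exact Or.inl ⟨x, hx, mul ht hw hrs htx hwx⟩
    by_cases h3 : w = t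
    · subst h3
      exact Or.inl ⟨b, hb, mul ht hs hrs hwb hsb⟩
    exact Or.inr (Or.inl ⟨w, ⟨hw, x, hx, hwx⟩, h3, h2, ⟨x, hx, mul ht hw (Ne.symm h3) htx hwx⟩,
      ⟨b, hb, mul hw hs h2 hwb hsb⟩⟩)
  by_cases h4 : t = s
  · subst h4
    exact Or.inl ⟨a, ha, mul hr ht hrs hra hta⟩
  by_cases h2 : w = s
  · subst h2
    exact Or.inr (Or.inl ⟨t, ⟨ht, x, hx, htx⟩, h1, h4, ⟨a, ha, mul hr ht (Ne.symm h1) hra hta⟩,
      ⟨x, hx, mul ht hw h4 htx hwx⟩⟩)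
  by_cases h3 : t = w
  · subst h3
    exact Or.inr (Or.inl ⟨t, ⟨ht, x, hx, htx⟩, h1, h4, ⟨a, ha, mul hr ht (Ne.symm h1) hra hta⟩,
      ⟨b, hb, mul ht hs h4 hwb hsb⟩⟩)
  exact Or.inr (Or.inr ⟨t, w, ⟨ht, x, hx, htx⟩, ⟨hw, x, hx, hwx⟩, h1, h2, h3,
    ⟨a, ha, mul hr ht (Ne.symm h1) hra hta⟩, ⟨x, hx, mul ht hw h3 htx hwx⟩,
    ⟨b, hb, mul hw hs h2 hwb hsb⟩⟩)

end Cfsg.Agent.S4321
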