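import Cfsg.Statements.S4330
import Cfsg.Agent.FGS.ConjFix

set_option autoImplicit false
open Pointwise
open Cfsg

namespace Cfsg.Agent.S4330

/-- Let G be a finite solvable group, p an odd prime and A a p-subgroup of G such that every conjugacy class of G contains an element g for which A is subnormal in the subgroup generated by A and its conjugate by g. Then A is contained in O_p(G). (The hypothesis that p is odd is needed.) -/
theorem result {G : Type*} [Group G] [Finite G]
    (hG : Group.IsSolvable G) (p : ℕ) [Fact p.Prime] (hp : p ≠ 2) (A : Subgroup G) (hA : IsPGroup p A)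
    (h : ∀ c : G, ∃ g : G, IsConj c g ∧ (A.subgroupOf (A ⊔ MulAut.conj g • A)).IsSubnormal) :
    A ≤ Cfsg.pCore p G := by
  intro a ha
  refine ConjFix.mem_pCore hp _ G rfl a fun c => (h c).imp fun g hg => ⟨hg.1, ?_⟩
  have h1 := Grp.le_pCore_of_isSubnormal hg.2 (hA.comap_subtype)
  have h2 : A ≤ (pCore p (A ⊔ MulAut.conj g • A : Subgroup G)).map (Subgroup.subtype _) :=
    fun x hx => ⟨⟨x, Subgroup.mem_sup_left hx⟩, h1 hx, rfl⟩
  refine (IsPGroup.to_sup_of_normal_left' (Grp.map_pCore_isPGroup p (Subgroup.subtype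
    (A ⊔ MulAut.conj g • A : Subgroup G))) (hA.map (MulAut.conj g).toMonoidHom)
    (le_sup_right.trans (Grp.normalizer_le_normalizer_map_of_characteristic _ _ |>.trans' Subgroup.le_normalizer))).to_le ?_
  rw [Subgroup.closure_le]
  rintro _ (rfl | rfl)
  · exact Subgroup.mem_sup_left (h2 ha)
  · exact Subgroup.mem_sup_right ⟨a, ha, rfl⟩

end Cfsg.Agent.S4330
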