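import Cfsg.Statements.S4348
import Mathlib
import Cfsg.Agent.Grp.Cores

set_option autoImplicit false
open Cfsg

namespace Cfsg.Agent.S4348

/-- Let G be a finite group, p a prime and P a Sylow p-subgroup of G, and let O_p(G) be the largest normal p-subgroup of G. If P/O_p(G) is cyclic, then some element of p-power order of G lies in exactly one Sylow p-subgroup. -/
theorem result {G : Type*} [Group G] [Finite G]
    (p : ℕ) [Fact p.Prime] (P : Sylow p G)
    [hn : ((Cfsg.pCore p G).subgroupOf (P : Subgroup G)).Normal]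
    (hc : IsCyclic ((P : Subgroup G) ⧸ (Cfsg.pCore p G).subgroupOf (P : Subgroup G))) :
    ∃ x : G, (∃ k : ℕ, orderOf x = p ^ k) ∧ ∃! Q : Sylow p G, x ∈ Q := by
  obtain ⟨y, hy⟩ := IsCyclic.exists_generator
    (α := (P : Subgroup G) ⧸ (Cfsg.pCore p G).subgroupOf (P : Subgroup G))
  obtain ⟨x, rfl⟩ := QuotientGroup.mk_surjective y
  refine ⟨x, ?_, P, x.2, ?_⟩
  · obtain ⟨k, hk⟩ := IsPGroup.iff_orderOf.mp P.isPGroup' x
    exact ⟨k, by rw [← hk, Subgroup.orderOf_coe]⟩
  · intro Q hQ
    have hle : (P : Subgroup G) ≤ Q := by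
      intro z hz
      obtain ⟨n, hn'⟩ := hy (QuotientGroup.mk ⟨z, hz⟩)
      have h1 : (QuotientGroup.mk (x ^ n) : (P : Subgroup G) ⧸ (Cfsg.pCore p G).subgroupOf (P : Subgroup G))
          = QuotientGroup.mk ⟨z, hz⟩ := by
        rw [← hn']; simp
      rw [QuotientGroup.eq, Subgroup.mem_subgroupOf] at h1
      have h2 := Grp.pCore_le_sylow Q h1
      have h3 : ((x : G) ^ n) ∈ (Q : Subgroup G) := Subgroup.zpow_mem _ hQ n
      have h4 := Subgroup.mul_mem _ h3 h2
      simpa using h4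
    exact (Sylow.ext (P.is_maximal' Q.isPGroup' hle))

end Cfsg.Agent.S4348
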