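import Cfsg.Statements.S4349
import Cfsg.Agent.KSG.SymSylow2
import Cfsg.Agent.Perm.PrimeOrd
import Cfsg.Agent.Perm.TwoInv

set_option autoImplicit false
open Cfsg

namespace Cfsg.Agent.S4349

open Equiv Equiv.Perm Subgroup MulAction Cfsg.Agent.KSG.SymSyl

section
variable {α β γ : Type*} [Fintype α] [DecidableEq α] [Fintype β] [DecidableEq β]
  [Fintype γ] [DecidableEq γ]

/-- Cycles have distinct lengths and there are at most two fixed points. -/
def Cond (x : Perm α) : Prop :=
  (∀ a b, x a ≠ a → (∀ i : ℕ, (x ^ i) a = a ↔ (x ^ i) b = b) → ∃ i : ℕ, (x ^ i) a = b) ∧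
    ∀ a b c, x a = a → x b = b → x c = c → a = b ∨ a = c ∨ b = c

theorem pp {α : Type*} (x : Perm α) (a : α) (i : ℕ) : (x ^ i) a = a ↔ period x a ∣ i :=
  pow_smul_eq_iff_period_dvd (m := x) (a := a)

theorem cyc_iff {x : Perm α} {a : α} (h : x a ≠ a) (i : ℕ) :
    (x ^ i) a = a ↔ (x.cycleOf a).support.card ∣ i := by
  rw [← (isCycle_cycleOf x h).orderOf, orderOf_dvd_iff_pow_eq_one,
    (isCycle_cycleOf x h).pow_eq_one_iff' (x := a) (by rwa [cycleOf_apply_self]),
    cycleOf_pow_apply_self]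

theorem cond_iff {x : Perm α} :
    Cond x ↔ (Fintype.card α ≤ x.support.card + 2 ∧ x.cycleType.Nodup) := by
  rw [Cond, and_comm]
  refine and_congr ?_ ?_
  · have : Fintype.card α ≤ x.support.card + 2 ↔ ¬ 2 < x.supportᶜ.card := by
      rw [Finset.card_compl]; omega
    rw [this, Finset.two_lt_card]
    simp only [Finset.mem_compl, notMem_support]
    grind
  · rw [cycleType_def, Multiset.nodup_map_iff_inj_on x.cycleFactorsFinset.nodup]
    constructor
    · intro h c hc d hd e
      obtain ⟨a, ha⟩ := (mem_cycleFactorsFinset_iff.1 hc).1.nonempty_support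
      obtain ⟨b, hb⟩ := (mem_cycleFactorsFinset_iff.1 hd).1.nonempty_support
      have ha' := mem_support.1 (mem_cycleFactorsFinset_support_le hc ha)
      have hb' := mem_support.1 (mem_cycleFactorsFinset_support_le hd hb)
      rw [cycle_is_cycleOf ha hc, cycle_is_cycleOf hb hd] at e ⊢
      obtain ⟨i, hi⟩ := h a b ha' fun i => by
        rw [cyc_iff ha', cyc_iff hb']; exact (iff_of_eq (congrArg (· ∣ i) e))
      exact SameCycle.cycleOf_eq ⟨i, by simpa using hi⟩
    · intro h a b ha hab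
      have hb : x b ≠ b := fun e => ha (by simpa using (hab 1).2 (by simpa using e))
      have := h _ (cycleOf_mem_cycleFactorsFinset_iff.2 (mem_support.2 ha)) _
        (cycleOf_mem_cycleFactorsFinset_iff.2 (mem_support.2 hb)) (Nat.dvd_antisymm
          ((cyc_iff ha _).1 ((hab _).2 ((cyc_iff hb _).2 dvd_rfl)))
          ((cyc_iff hb _).1 ((hab _).1 ((cyc_iff ha _).2 dvd_rfl))))
      have h2 : b ∈ (x.cycleOf a).support := by
        rw [this, mem_support, cycleOf_apply_self]; exact hb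
      obtain ⟨i, -, hi⟩ := (mem_support_cycleOf_iff.1 h2).1.exists_pow_eq'
      exact ⟨i, hi⟩

theorem pow_comm_apply {x τ : Perm α} (h : τ * x = x * τ) (i : ℕ) (a : α) :
    (x ^ i) (τ a) = τ ((x ^ i) a) := by
  rw [← mul_apply, ← mul_apply, ((show Commute τ x from h).pow_right i).eq]

theorem Cond.exists_pow {x τ : Perm α} (hx : Cond x) (h : τ * x = x * τ) {a : α} (ha : x a ≠ a) :
    ∃ i : ℕ, (x ^ i) a = τ a :=
  hx.1 a _ ha fun i => by rw [pow_comm_apply h, τ.injective.eq_iff]

theorem Cond.moved {x τ : Perm α} (h : τ * x = x * τ) (h2 : ∀ a b, τ a = a → τ b = b → a = b)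
    {a : α} (ha : x a ≠ a) : τ a ≠ a := fun e =>
  ha (h2 _ _ (by rw [← mul_apply, h, mul_apply, e]) e)

theorem half {P i j : ℕ} (hP : 0 < P) (h1 : P ∣ i + i) (h2 : ¬ P ∣ i) (h3 : P ∣ j + j)
    (h4 : ¬ P ∣ j) : i % P = j % P := by
  have key : ∀ i, P ∣ i + i → ¬ P ∣ i → i % P + i % P = P := fun i h1 h2 => by
    have a1 := Nat.mod_lt i hP
    have a2 : i % P ≠ 0 := fun h => h2 (Nat.dvd_of_mod_eq_zero h)
    obtain ⟨c, hc⟩ : P ∣ i % P + i % P :=
      Nat.dvd_of_mod_eq_zero (by rw [← Nat.add_mod]; exact Nat.mod_eq_zero_of_dvd h1)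
    rcases c with _ | _ | c
    · omega
    · omega
    · nlinarith
  have := key i h1 h2
  have := key j h3 h4
  omega

theorem Cond.unique {x τ σ : Perm α} (hx : Cond x) (h : τ * x = x * τ) (h' : σ * x = x * σ)
    (t1 : ∀ a, τ (τ a) = a) (t2 : ∀ a b, τ a = a → τ b = b → a = b)
    (s1 : ∀ a, σ (σ a) = a) (s2 : ∀ a b, σ a = a → σ b = b → a = b) : τ = σ := by
  ext a
  by_cases ha : x a = a
  · have k1 : ∀ b, x b = b → x (τ b) = τ b := fun b hb => by rw [← mul_apply, ← h, mul_apply, hb]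
    have k2 : ∀ b, x b = b → x (σ b) = σ b := fun b hb => by rw [← mul_apply, ← h', mul_apply, hb]
    have := hx.2 _ _ _ ha (k1 a ha) (k2 a ha)
    have := hx.2 _ _ _ ha (k2 a ha) (k1 _ (k2 a ha))
    have := hx.2 _ _ _ ha (k1 a ha) (k2 _ (k1 a ha))
    have := t2 a (σ a)
    have := s2 a (τ a)
    have := t1 (σ a)
    have := s1 (τ a)
    grind
  · obtain ⟨i, hi⟩ := hx.exists_pow h ha
    obtain ⟨j, hj⟩ := hx.exists_pow h' ha
    have p : ∀ i : ℕ, (x ^ i) a = a ↔ period x a ∣ i := fun i => pp _ _ i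
    have := half (period_pos_of_orderOf_pos (orderOf_pos x) a)
      ((p _).1 (by rw [pow_add, mul_apply, hi, pow_comm_apply h, hi, t1]))
      (fun e => Cond.moved h t2 ha (hi ▸ (p i).2 e))
      ((p _).1 (by rw [pow_add, mul_apply, hj, pow_comm_apply h', hj, s1]))
      (fun e => Cond.moved h' s2 ha (hj ▸ (p j).2 e))
    rw [← hi, ← hj]
    exact (pow_mod_period_smul (m := x) (a := a) i).symm.trans
      (this ▸ pow_mod_period_smul (m := x) (a := a) j)

theorem Cond.descend {x τ : Perm α} (hx : Cond x) (h : τ * x = x * τ) {y : Perm β}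
    {ι : β × Bool → α} (hι : Function.Injective ι) (ht : ∀ b e, τ (ι (b, e)) = ι (b, !e))
    (hy : ∀ b e, ∃ e', x (ι (b, e)) = ι (y b, e')) : Cond y := by
  have pw : ∀ (i : ℕ) b e, ∃ e', (x ^ i) (ι (b, e)) = ι ((y ^ i) b, e') := fun i => by
    induction i with
    | zero => exact fun b e => ⟨e, rfl⟩
    | succ i ih =>
      intro b e
      obtain ⟨e1, h1⟩ := ih b e
      obtain ⟨e2, h2⟩ := hy ((y ^ i) b) e1
      exact ⟨e2, by rw [pow_succ', pow_succ', mul_apply, mul_apply, h1, h2]⟩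
  have mv : ∀ b, y b ≠ b → x (ι (b, false)) ≠ ι (b, false) := fun b hb e => by
    obtain ⟨e', h1⟩ := hy b false
    exact hb (congrArg Prod.fst (hι (h1.symm.trans e)))
  have per : ∀ b, x (ι (b, false)) ≠ ι (b, false) → ∀ i : ℕ,
      (x ^ i) (ι (b, false)) = ι (b, false) ↔ 2 * period y b ∣ i := fun b hb i => by
    have p : ∀ i : ℕ, (x ^ i) (ι (b, false)) = ι (b, false) ↔ period x (ι (b, false)) ∣ i :=
      fun i => pp _ _ i
    have q : ∀ i : ℕ, (y ^ i) b = b ↔ period y b ∣ i := fun i => pp _ _ i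
    have d : ∀ (i : ℕ) e, (x ^ i) (ι (b, false)) = ι (b, e) → period y b ∣ i := fun i e h => by
      obtain ⟨e', h1⟩ := pw i b false
      exact (q i).1 (congrArg Prod.fst (hι (h1.symm.trans h)))
    obtain ⟨j, hj⟩ := hx.exists_pow h hb
    rw [ht] at hj
    have n1 : ¬ period x (ι (b, false)) ∣ period y b := fun k => by
      have := hι (hj.symm.trans ((p j).2 (k.trans (d j _ hj))))
      simp at this
    obtain ⟨e, he⟩ := pw (period y b) b false
    rw [(q _).2 dvd_rfl] at he
    have e1 : e = true := by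
      cases e
      · exact absurd ((p _).1 he) n1
      · rfl
    subst e1
    obtain ⟨c, hc⟩ := d _ _ ((p _).2 dvd_rfl)
    have n2 : period x (ι (b, false)) ∣ period y b * 2 := (p _).1 (by
      rw [mul_two, pow_add, mul_apply, he, show ι (b, true) = τ (ι (b, false)) from (ht b false).symm,
        pow_comm_apply h, he, ht]; rfl)
    rw [hc] at n1 n2
    have := (Nat.dvd_prime Nat.prime_two).1
      (Nat.dvd_of_mul_dvd_mul_left (period_pos_of_orderOf_pos (orderOf_pos y) b) n2)
    rcases this with rfl | rfl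
    · exact absurd (by rw [mul_one]) n1
    · rw [p, hc, mul_comm]
  constructor
  · intro b c hb hbc
    have hc : y c ≠ c := fun e => hb (by simpa using (hbc 1).2 (by simpa using e))
    have e : period y b = period y c := Nat.dvd_antisymm
      ((pp _ _ _).1 ((hbc _).2 (pow_period_smul y c)))
      ((pp _ _ _).1 ((hbc _).1 (pow_period_smul y b)))
    obtain ⟨i, hi⟩ := hx.1 _ (ι (c, false)) (mv b hb) fun i => by
      rw [per b (mv b hb), per c (mv c hc), e]
    obtain ⟨e', h1⟩ := pw i b false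
    exact ⟨i, congrArg Prod.fst (hι (h1.symm.trans hi))⟩
  · have k1 : ∀ b c, x (ι (b, false)) = ι (b, false) → x (ι (c, false)) = ι (c, false) → b = c :=
      fun b c hb hc => by
        have := hx.2 _ (τ (ι (b, false))) _ hb (by rw [← mul_apply, ← h, mul_apply, hb]) hc
        simpa [ht, hι.eq_iff] using this
    have k2 : ∀ b c, y b = b → y c = c → x (ι (b, false)) ≠ ι (b, false) →
        x (ι (c, false)) ≠ ι (c, false) → b = c := fun b c hb hc h1 h2 => by
      obtain ⟨i, hi⟩ := hx.1 _ (ι (c, false)) h1 fun i => by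
        rw [per b h1, per c h2, period_eq_one_iff.2 hb, period_eq_one_iff.2 hc]
      obtain ⟨e', h1⟩ := pw i b false
      rw [pow_apply_eq_self_of_apply_eq_self hb] at h1
      exact congrArg Prod.fst (hι (h1.symm.trans hi))
    intro a b c ha hb hc
    have := k1 a b
    have := k1 a c
    have := k1 b c
    have := k2 a b ha hb
    have := k2 a c ha hc
    have := k2 b c hb hc
    tauto

theorem card_match {τ : Perm α} (t1 : ∀ a, τ (τ a) = a) (t2 : ∀ a b, τ a = a → τ b = b → a = b) :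
    τ.support.card = Fintype.card α / 2 * 2 := by
  have h1 := PrimeOrd.dvd_card_support Nat.prime_two (σ := τ) (Equiv.ext t1)
  have h2 : τ.supportᶜ.card ≤ 1 := Finset.card_le_one.2 fun a ha b hb =>
    t2 a b (by simpa using ha) (by simpa using hb)
  have h3 := Finset.card_le_univ τ.support
  rw [Finset.card_compl] at h2
  omega

end

theorem uniq (n : ℕ) : ∀ (α : Type) [Fintype α] [DecidableEq α], Fintype.card α = n →
    ∀ x : Perm α, Cond x → ∀ P Q : Sylow 2 (Perm α), x ∈ P → x ∈ Q → P = Q := by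
  induction n using Nat.strong_induction_on with | _ n ih => ?_
  intro α _ _ hn x hx P Q hP hQ
  have : Fact (Nat.Prime 2) := ⟨Nat.prime_two⟩
  rcases Nat.eq_zero_or_pos n with rfl | h0
  · have := Fintype.card_eq_zero_iff.1 hn
    exact Sylow.ext (Subsingleton.elim _ _)
  obtain ⟨τ, mP⟩ := exists_matching P
  obtain ⟨σ, mQ⟩ := exists_matching Q
  have cP := mP.comm P.isPGroup' (le_normalizer hP)
  obtain rfl := hx.unique cP (mQ.comm Q.isPGroup' (le_normalizer hQ)) mP.inv mP.fix mQ.inv mQ.fix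
  have := subsingleton_fin_mod n
  obtain ⟨e, he⟩ := PrimeOrd.transfer Nat.prime_two (σ := τ)
    (τ := tau (Fin (n / 2)) (Fin (n % 2))) (Equiv.ext mP.inv) (Equiv.ext tau_tau)
    (by simp; omega) (by
      rw [card_match mP.inv mP.fix, card_match tau_tau tau_fix, hn]; simp; omega)
  have e1 : e.permCongrHom τ = tau _ _ := Equiv.ext fun a => by simp [he]
  let ψ : centralizer {τ} ≃* centralizer {tau (Fin (n / 2)) (Fin (n % 2))} :=
    (e.permCongrHom.subgroupMap _).trans (MulEquiv.subgroupCongr (by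
      ext g
      refine (mem_map_equiv (f := e.permCongrHom)).trans ?_
      rw [mem_centralizer_singleton_iff, mem_centralizer_singleton_iff, ← e1,
        ← e.permCongrHom.apply_eq_iff_eq, map_mul, map_mul, MulEquiv.apply_symm_apply]))
  have ψs : ∀ g a, (ψ g).1 a = e (g.1 (e.symm a)) := fun g a => rfl
  let φ := prHom.comp ψ.toMonoidHom
  have φs : Function.Surjective φ := prHom_surjective.comp ψ.surjective
  have φk : IsPGroup 2 φ.ker := fun g => by
    obtain ⟨k, hk⟩ := isPGroup_base _ tau_tau ⟨_, mem_base_of_ker (g := ψ g.1) g.2⟩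
    refine ⟨k, Subtype.ext (ψ.injective (Subtype.ext ?_))⟩
    simpa using congrArg Subtype.val hk
  have le : ∀ T : Sylow 2 (Perm α), Matching (T : Subgroup (Perm α)) τ →
      (T : Subgroup (Perm α)) ≤ centralizer {τ} := fun T hT g hg =>
    mem_centralizer_singleton_iff.2 (hT.comm T.isPGroup' (le_normalizer hg)).symm
  have key := ih (n / 2) (by omega) (Fin (n / 2)) (by simp) (φ ⟨x, le P mP hP⟩)
    (hx.descend cP (ι := fun b => e.symm (Sum.inl b)) (e.symm.injective.comp Sum.inl_injective)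
      (fun b c => by rw [Equiv.eq_symm_apply, he]; simp) fun b c => by
        obtain ⟨c', hc⟩ := pr_spec (ψ ⟨x, le P mP hP⟩).2 b c
        exact ⟨c', by rw [Equiv.eq_symm_apply, ← ψs ⟨x, le P mP hP⟩, hc]; rfl⟩)
    ((P.subtype (le P mP)).mapSurjective φs) ((Q.subtype (le Q mQ)).mapSurjective φs)
    ⟨_, hP, rfl⟩ ⟨_, hQ, rfl⟩
  have k2 := congrArg (fun T : Sylow 2 _ => (T : Subgroup (Perm (Fin (n / 2)))).comap φ) key
  simp only [Sylow.coe_mapSurjective] at k2
  rw [comap_map_eq_self (φk.le_sylow_of_normal _), comap_map_eq_self (φk.le_sylow_of_normal _)]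
    at k2
  exact Sylow.subtype_injective (Sylow.ext k2)

theorem swap_mem {α : Type*} [Fintype α] [DecidableEq α] {x : Perm α} {k : ℕ}
    (hx : orderOf x = 2 ^ k) {P : Sylow 2 (Perm α)} (hP : ∀ Q : Sylow 2 (Perm α), x ∈ Q → Q = P)
    {a b : α} (h : ∀ i : ℕ, ((x ^ i) a = a ∧ (x ^ i) b = b) ∨ ((x ^ i) a = b ∧ (x ^ i) b = a) ∨
      ((x ^ i) a ≠ a ∧ (x ^ i) a ≠ b ∧ (x ^ i) b ≠ a ∧ (x ^ i) b ≠ b)) : swap a b ∈ P := by
  have : Fact (Nat.Prime 2) := ⟨Nat.prime_two⟩
  set S := Set.range fun i : ℕ => x ^ i * swap a b * (x ^ i)⁻¹ with hS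
  have c0 : ∀ i : ℕ, Commute (swap a b) (x ^ i * swap a b * (x ^ i)⁻¹) := fun i => by
    rw [← swap_apply_apply]
    rcases h i with ⟨h1, h2⟩ | ⟨h1, h2⟩ | ⟨h1, h2, h3, h4⟩
    · rw [h1, h2]
    · rw [h1, h2, swap_comm]
    · exact (TwoInv.disj_swap (swap_apply_of_ne_of_ne h1.symm h3.symm)
        (swap_apply_of_ne_of_ne h2.symm h4.symm)).commute
  have c1 : ∀ s ∈ S, ∀ t ∈ S, s * t = t * s := by
    rintro _ ⟨i, rfl⟩ _ ⟨j, rfl⟩
    wlog hij : i ≤ j generalizing i j
    · exact (this j i (by omega)).symm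
    obtain ⟨d, rfl⟩ := Nat.exists_eq_add_of_le hij
    have := ((c0 d).map (MulAut.conj (x ^ i))).eq
    simp only [MulAut.conj_apply] at this
    simpa only [pow_add, mul_assoc, mul_inv_rev, inv_mul_cancel_left] using this
  have := isMulCommutative_closure c1
  have h1 : IsPGroup 2 (closure S) := fun g => ⟨1, Subtype.ext (by
    obtain ⟨g, hg⟩ := g
    show g ^ 2 ^ 1 = 1
    induction hg using closure_induction with
    | mem g hg => obtain ⟨i, rfl⟩ := hg; simp [conj_pow, pow_two]
    | one => simp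
    | mul g k hg hk h1 h2 =>
      rw [(show Commute g k from setLike_mul_comm hg hk).mul_pow, h1, h2, one_mul]
    | inv g hg h1 => rw [inv_pow, h1, inv_one])⟩
  have h2 : IsPGroup 2 (zpowers x) := IsPGroup.of_card (by rw [Nat.card_zpowers, hx])
  have h3 : zpowers x ≤ normalizer (closure S : Set (Perm α)) := by
    rw [zpowers_le]
    refine mem_normalizer_fintype fun g hg => ?_
    have : (closure S).map (MulAut.conj x).toMonoidHom ≤ closure S := by
      rw [MonoidHom.map_closure]
      refine closure_mono ?_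
      rintro _ ⟨_, ⟨i, rfl⟩, rfl⟩
      exact ⟨i + 1, by simp [pow_succ', mul_assoc]⟩
    exact this ⟨g, hg, rfl⟩
  obtain ⟨Q, hQ⟩ := (h2.to_sup_of_normal_right' h1 h3).exists_le_sylow
  rw [← hP Q (hQ (mem_sup_left (mem_zpowers x)))]
  exact hQ (mem_sup_right (subset_closure ⟨0, by simp⟩))


/-- Let n ≥ 2 and let x be an element of 2-power order of the symmetric group of degree n. Then x lies in exactly one Sylow 2-subgroup if and only if x has at most two fixed points and the nontrivial cycles of x have pairwise different lengths. -/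
theorem result (n : ℕ) (hn : 2 ≤ n)
    (x : Equiv.Perm (Fin n)) (hx : ∃ k : ℕ, orderOf x = 2 ^ k) :
    (∃! P : Sylow 2 (Equiv.Perm (Fin n)), x ∈ P) ↔ (n ≤ x.support.card + 2 ∧ x.cycleType.Nodup) := by
  have : Fact (Nat.Prime 2) := ⟨Nat.prime_two⟩
  obtain ⟨k, hk⟩ := hx
  have := cond_iff (x := x)
  rw [Fintype.card_fin] at this
  rw [← this]
  constructor
  · rintro ⟨P, -, hP⟩
    constructor
    · intro a b ha hab
      by_contra hn
      push Not at hn
      have h1 := swap_mem hk hP (a := a) (b := b) fun i => by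
        by_cases h : (x ^ i) a = a
        · exact Or.inl ⟨h, (hab i).1 h⟩
        · refine Or.inr (Or.inr ⟨h, hn i, fun e => ?_, mt (hab i).2 h⟩)
          obtain ⟨j, -, hj⟩ := (show SameCycle x b a from ⟨i, by simpa using e⟩).symm.exists_pow_eq'
          exact hn j hj
      obtain ⟨m, -, hm⟩ := (Nat.dvd_prime_pow Nat.prime_two).1 (hk ▸ period_dvd_orderOf x a)
      have p : ∀ i : ℕ, (x ^ i) a = a ↔ 2 ^ m ∣ i := fun i => hm ▸ pp _ _ i
      rcases m with _ | m
      · exact ha (by simpa using (p 1).2 (by simp))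
      have e : (x ^ 2 ^ m) ((x ^ 2 ^ m) a) = a := by
        rw [← mul_apply, ← pow_add, p, pow_succ, mul_two]
      have c : ∀ (i : ℕ) y, (x ^ i) ((x ^ 2 ^ m) y) = (x ^ 2 ^ m) ((x ^ i) y) := fun i y => by
        rw [← mul_apply, ← mul_apply, pow_mul_comm]
      have h2 := swap_mem hk hP (a := a) (b := (x ^ 2 ^ m) a) fun i => by
        rw [c]
        have := (x ^ 2 ^ m).injective.eq_iff (a := (x ^ i) a) (b := a)
        have := (x ^ 2 ^ m).injective.eq_iff (a := (x ^ i) a) (b := (x ^ 2 ^ m) a)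
        grind
      refine hn _ (eq_of_swap_mem P.isPGroup' (fun h => hn 0 h) (fun h => ?_) h1 h2).symm
      have := Nat.le_of_dvd (by positivity) ((p _).1 h.symm)
      rw [pow_succ] at this
      have := Nat.two_pow_pos m
      omega
    · intro a b c ha hb hc
      by_contra h
      push Not at h
      have f : ∀ y, x y = y → ∀ i : ℕ, (x ^ i) y = y := fun y hy i =>
        pow_apply_eq_self_of_apply_eq_self hy i
      exact h.2.2 (eq_of_swap_mem P.isPGroup' h.1 h.2.1
        (swap_mem hk hP fun i => Or.inl ⟨f a ha i, f b hb i⟩)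
        (swap_mem hk hP fun i => Or.inl ⟨f a ha i, f c hc i⟩))
  · intro h
    obtain ⟨P, hP⟩ := (IsPGroup.of_card (G := zpowers x) (p := 2)
      (by rw [Nat.card_zpowers, hk])).exists_le_sylow
    exact ⟨P, hP (mem_zpowers x), fun Q hQ =>
      uniq n (Fin n) (by simp) x h Q P hQ (hP (mem_zpowers x))⟩

end Cfsg.Agent.S4349
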