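import Mathlib
import Cfsg.Statements.S4351
import Cfsg.Agent.CIT.General
import Cfsg.Agent.CIT.Higman
import Cfsg.Agent.CIT.Martineau
import Cfsg.Agent.CIT.SpecPG
import Cfsg.Agent.Suz.Final
-- import your own Cfsg.Agent.* helpers here

set_option autoImplicit false
open Cfsg

namespace Cfsg.Agent.S4351

theorem simple_Sz {G : Type*} [Group G] (h : Lie.IsoSuzuki G) : IsSimpleGroup G := by
  obtain ⟨F, i1, i2, m, hm, hF, ⟨e⟩⟩ := h
  have := CIT.isSimpleGroup_lieSz hm hF
  exact e.isSimpleGroup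

theorem simple_L2 {G F : Type*} [Group G] [Field F] [Fintype F] (hF : 4 ≤ Fintype.card F)
    (e : G ≃* Matrix.ProjectiveSpecialLinearGroup (Fin 2) F) : IsSimpleGroup G := by
  have : IsSimpleGroup (Matrix.ProjectiveSpecialLinearGroup (Fin 2) F) :=
    Matrix.ProjectiveSpecialLinearGroup.rank_two_simple (by rwa [Nat.card_eq_fintype_card])
  exact e.isSimpleGroup

theorem simple_of_type {G : Type*} [Group G] (h : CIT.IsSimpleCITType G) : IsSimpleGroup G := by
  rcases h with ⟨F, i, j, n, h1, h, ⟨e⟩⟩ | h | ⟨F, i, j, -, h, -, ⟨e⟩⟩ | ⟨F, i, j, h, ⟨e⟩⟩ |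
    ⟨F, i, j, -, ⟨e⟩⟩
  · exact simple_L2 (by rw [h]; exact Nat.pow_le_pow_right (n := 2) (by norm_num) h1) e
  · exact simple_Sz h
  · exact simple_L2 (by omega) e
  · exact simple_L2 (by omega) e
  · have := Class.PSL_isSimpleGroup (ι := Fin 3) (F := F) (by simp)
    exact e.isSimpleGroup

/-- Let G be a finite non-solvable group in which the centralizer of every non-identity element is nilpotent. Then G is a non-abelian simple group; or G has a normal subgroup of index 2 isomorphic to PSL(2, 9); or G has a nontrivial normal elementary abelian 2-subgroup N such that G/N is isomorphic to PSL(2, q) for some q = 2ⁿ ≥ 4 or is a simple group of Suzuki type (simple, of the order of a Suzuki group). -/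
theorem result {G : Type*} [Group G] [Finite G] (hG : ¬ Group.IsSolvable G)
    (hCN : ∀ x : G, x ≠ 1 → Group.IsNilpotent (Subgroup.centralizer ({x} : Set G))) :
    (IsSimpleGroup G ∧ ¬ IsMulCommutative G) ∨
    (∃ (N : Subgroup G), N.Normal ∧ N.index = 2 ∧ ∃ (F : Type) (_ : Field F) (_ : Fintype F), Fintype.card F = 9 ∧
        Nonempty (N ≃* Matrix.ProjectiveSpecialLinearGroup (Fin 2) F)) ∨
    (∃ (N : Subgroup G) (_ : N.Normal), N ≠ ⊥ ∧ IsPGroup 2 N ∧ IsMulCommutative N ∧ (∀ x ∈ N, x * x = 1) ∧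
        ((∃ (F : Type) (_ : Field F) (_ : Fintype F), CharP F 2 ∧ 4 ≤ Fintype.card F ∧
            Nonempty (G ⧸ N ≃* Matrix.ProjectiveSpecialLinearGroup (Fin 2) F)) ∨ Cfsg.IsSuzuki (G ⧸ N))) := by
  have h := CIT.cit_of_cn hG hCN
  rcases CIT.cit_general hG h with h1 | ⟨N, h1, h2, h3⟩ | ⟨Q, i, rfl, h2, h3⟩
  · exact Or.inl ⟨simple_of_type h1, fun e => hG (Group.isSolvable_of_comm e.is_comm.comm)⟩
  · exact Or.inr (Or.inl ⟨N, h1, h2, h3⟩)
  · have hQ := Grp.pCore_isPGroup 2 G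
    rcases h3 with h3 | h3
    · obtain ⟨h4, h5⟩ := CIT.elemAb_of_L2 h _ hQ h3
      obtain ⟨F, i1, i2, n, hn, hF, e⟩ := h3
      refine Or.inr (Or.inr ⟨_, i, h2, hQ, h4, h5, Or.inl ⟨F, i1, i2, ?_, ?_, e⟩⟩)
      · exact CIT.charP_of_card Nat.prime_two hF
      · rw [hF]; exact Nat.pow_le_pow_right (n := 2) (by norm_num) hn
    · obtain ⟨h4, h5⟩ := CIT.elemAb_of_Sz h _ hQ h3
      exact Or.inr (Or.inr ⟨_, i, h2, hQ, h4, h5,
        Or.inr (Suz.isSuzuki_of_isoSuzuki (simple_Sz h3) h3)⟩)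

end Cfsg.Agent.S4351
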