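import Cfsg.Statements.S4357
import Cfsg.Agent.Class.PSL2Tetra
import Cfsg.Agent.S0262

set_option autoImplicit false
open Cfsg

namespace Cfsg.Agent.S4357

open Cfsg.Agent.Class Cfsg.Agent.Class.Dickson KSG KSG.M2 Matrix MatrixGroups Subgroup

/-- `x` lies in two Sylow `p`-subgroups -/
def Two (p : ℕ) {G : Type*} [Group G] (x : G) : Prop :=
  ∃ P P' : Sylow p G, P ≠ P' ∧ x ∈ P ∧ x ∈ P'

theorem smul_mem {G : Type*} [Group G] {p : ℕ} {P : Sylow p G} {x : G} (hx : x ∈ P) (g : G) :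
    g * x * g⁻¹ ∈ g • P := smul_mem_pointwise_smul x (MulAut.conj g) (P : Subgroup G) hx

theorem red_iff {G : Type*} [Group G] [Finite G] (p : ℕ) [Fact p.Prime] :
    (∃ Q : Sylow p G, ∀ x : G, (∃ k : ℕ, orderOf x = p ^ k) → ∃ P : Sylow p G, P ≠ Q ∧ x ∈ P) ↔
      ∀ (x : G) (k : ℕ), x ^ p ^ k = 1 → Two p x := by
  constructor
  · rintro ⟨Q, hQ⟩ x k hx
    obtain ⟨S, hS⟩ := (isPGroup_zpowers_of_pow hx).exists_le_sylow
    obtain ⟨g, rfl⟩ := MulAction.exists_smul_eq G S Q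
    obtain ⟨P, h1, h2⟩ := hQ (g * x * g⁻¹) (((Nat.dvd_prime_pow Fact.out).1
      (orderOf_dvd_of_pow_eq_one (n := p ^ k) (by simp [hx]))).imp fun _ => And.right)
    exact ⟨g⁻¹ • P, S, fun h => h1 (inv_smul_eq_iff.1 h), by simpa [mul_assoc] using smul_mem h2 g⁻¹,
      hS (mem_zpowers x)⟩
  · refine fun h => ⟨default, fun x ⟨k, hk⟩ => ?_⟩
    obtain ⟨P, P', h1, h2, h3⟩ := h x k (hk ▸ pow_orderOf_eq_one x)
    by_cases h4 : P = default
    · exact ⟨P', fun e => h1 (h4.trans e.symm), h3⟩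
    · exact ⟨P, h4, h2⟩

theorem mem_of_central {G : Type*} [Group G] {p : ℕ} (P : Sylow p G) {z : G} (hz : z ∈ center G)
    {k : ℕ} (h : z ^ p ^ k = 1) : z ∈ P := by
  have : (zpowers z).Normal := ⟨fun a ha g => by
    rwa [mem_center_iff.1 (zpowers_le.2 hz ha) g, mul_inv_cancel_right]⟩
  exact (isPGroup_zpowers_of_pow h).le_sylow_of_normal P (mem_zpowers z)

variable {F : Type*} [Field F] [Fintype F]

theorem cent_card (h2 : (2 : F) ≠ 0) {g : SL(2, F)} {k : ℕ} (hg : g ^ 2 ^ k = 1)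
    (hs : ¬ IsScal (g : Matrix (Fin 2) (Fin 2) F)) :
    (g : Matrix (Fin 2) (Fin 2) F).trace ^ 2 ≠ 4 ∧ 4 ∣ Nat.card (centralizer ({g} : Set SL(2, F))) ∧
      ((∃ k, Nat.card (centralizer ({g} : Set SL(2, F))) = 2 ^ k) ↔
        (∃ k : ℕ, Fintype.card F + 1 = 2 ^ k) ∨ ∃ k : ℕ, Fintype.card F = 2 ^ k + 1) := by
  have : Fact (ringChar F).Prime := ⟨CharP.char_is_prime F _⟩
  have ht : (g : Matrix (Fin 2) (Fin 2) F).trace ^ 2 ≠ 4 := fun h => by
    have h1 := orderOf_dvd_of_pow_eq_one (pslMk_pow_char_of_trace (ringChar F) h)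
    have h3 : orderOf (pslMk F g) ∣ 2 ^ k :=
      orderOf_dvd_of_pow_eq_one (by rw [← map_pow, hg, map_one])
    exact hs (SL_isScal_iff.2 (pslMk_eq_one_iff.1 (orderOf_eq_one_iff.1 (Nat.eq_one_of_dvd_coprimes
      (Nat.Coprime.pow_right k ((Nat.coprime_primes this.out Nat.prime_two).2
        (ringChar_ne_two h2))) h1 h3))))
  have h4 : 4 ∣ Nat.card (centralizer ({g} : Set SL(2, F))) := by
    refine Dvd.dvd.trans ?_ (orderOf_dvd_natCard _ (self_mem_cent g))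
    obtain ⟨j, -, hj⟩ := (Nat.dvd_prime_pow Nat.prime_two).1 (orderOf_dvd_of_pow_eq_one hg)
    rw [hj]
    refine pow_dvd_pow 2 (show 2 ≤ j from ?_)
    by_contra h
    exact SL_sq_ne_one_of_trace ht (orderOf_dvd_iff_pow_eq_one.1
      (hj ▸ pow_dvd_pow 2 (show j ≤ 1 by omega)))
  refine ⟨ht, h4, ?_⟩
  have h5 := Fintype.one_lt_card (α := F)
  have key : ∀ k : ℕ, 2 ^ k = 1 ∨ 2 ^ k = 2 ∨ 4 ∣ 2 ^ k := fun k => by
    rcases k with _ | _ | k
    exacts [Or.inl rfl, Or.inr (Or.inl rfl), Or.inr (Or.inr ⟨2 ^ k, by ring⟩)]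
  rcases card_cent_cases ht with ⟨-, h⟩ | ⟨-, h⟩ <;> rw [h, Nat.card_eq_fintype_card] at h4 ⊢
  · refine ⟨fun ⟨k, hk⟩ => Or.inr ⟨k, by omega⟩, ?_⟩
    rintro (⟨k, hk⟩ | ⟨k, hk⟩)
    · have := key k
      omega
    · exact ⟨k, by omega⟩
  · refine ⟨Or.inl, ?_⟩
    rintro (h | ⟨k, hk⟩)
    · exact h
    · have := key k
      exact ⟨2, by omega⟩

theorem cmp_pow : (M2.cmp 0 : SL(2, F)) ^ 2 ^ 2 = 1 := by
  rw [show 2 ^ 2 = 2 * 2 from rfl, pow_mul, sq (M2.cmp (0 : F)), SL_sq_eq_neg_one_iff.2 (trace_cmp 0),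
    neg_one_sq]

theorem main (p : ℕ) [hp : Fact p.Prime] :
    (∀ (x : SL(2, F)) (k : ℕ), x ^ p ^ k = 1 → Two p x) ↔
      (p = 2 ∧ (¬ ∃ k : ℕ, Fintype.card F + 1 = 2 ^ k) ∧ (¬ ∃ k : ℕ, Fintype.card F = 2 ^ k) ∧
        ¬ ∃ k : ℕ, Fintype.card F = 2 ^ k + 1) := by
  have hr : Fact (ringChar F).Prime := ⟨CharP.char_is_prime F _⟩
  obtain ⟨n, -, hn⟩ := FiniteField.card F (ringChar F)
  constructor
  · intro H
    have h1 : p ≠ ringChar F := by
      rintro rfl
      obtain ⟨P, P', h1, h2, h3⟩ := H (upar 1 (one_pow 2) 1) 1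
        (by rw [pow_one]; exact SL_pow_char_eq_one _ (by rw [trace_upar, mul_one]))
      obtain ⟨x, hx⟩ := sylow_SL2_eq_lineStab _ P
      obtain ⟨y, hy⟩ := sylow_SL2_eq_lineStab _ P'
      have h4 := slTo_mem_unip_of_lineStab (hx.le h2)
      have h5 := slTo_mem_unip_of_lineStab (hy.le h3)
      obtain rfl : y = x := ((mem_unip.1 h4).resolve_left fun h =>
        upar_not_isScal 1 _ one_ne_zero ((slTo_eq_one_iff _).1 h)).2 y (smul_eq_of_mem_unip h5)
      exact h1 (Sylow.ext (hx.trans hy.symm))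
    obtain rfl : p = 2 := by
      by_contra h2
      obtain ⟨x, hx⟩ := (Subgroup.isCyclic_iff_exists_zpowers_eq_top _).1
        (S0262.result (F := F) (ringChar F) p h2 h1 default)
      obtain ⟨k, hk⟩ := (default : Sylow p SL(2, F)).isPGroup' ⟨x, hx ▸ mem_zpowers x⟩
      obtain ⟨P, P', h3, h4, h5⟩ := H x k (congrArg Subtype.val hk)
      exact h3 (Sylow.ext (((default : Sylow p SL(2, F)).is_maximal' P.isPGroup'
        (hx ▸ zpowers_le.2 h4)).trans ((default : Sylow p SL(2, F)).is_maximal' P'.isPGroup'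
        (hx ▸ zpowers_le.2 h5)).symm))
    have h2 : (2 : F) ≠ 0 := two_ne_zero_of_charP (ringChar F) h1.symm
    have ho := odd_card_of_two_ne h2
    suffices ¬ ((∃ k : ℕ, Fintype.card F + 1 = 2 ^ k) ∨ ∃ k : ℕ, Fintype.card F = 2 ^ k + 1) by
      refine ⟨rfl, fun h => this (Or.inl h), fun ⟨k, hk⟩ => h1 ?_, fun h => this (Or.inr h)⟩
      exact ((Nat.prime_dvd_prime_iff_eq hr.out Nat.prime_two).1
        (hr.out.dvd_of_dvd_pow (hk ▸ hn ▸ dvd_pow_self _ n.ne_zero))).symm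
    intro h
    obtain ⟨ht, h8, h3⟩ := cent_card h2 cmp_pow (cmp_not_isScal 0)
    obtain ⟨k, hk⟩ := h3.2 h
    have hN := card_normalizer_cent ht
    have hC := card_cent_cases ht
    obtain ⟨c, hc⟩ := (Subgroup.isCyclic_iff_exists_zpowers_eq_top _).1 (isCyclic_cent ht)
    rw [← hc] at hk hN hC h8
    have key : ∀ P : Sylow 2 SL(2, F), c ∈ P →
        normalizer (zpowers c : Set SL(2, F)) = P := fun P hP => by
      refine P.is_maximal' (IsPGroup.of_card (n := k + 1) (by rw [hN, hk]; ring)) ?_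
      obtain ⟨m, hm⟩ := P.isPGroup'.exists_card_eq
      have h4 := ((zpowers c).subgroupOf P).index_mul_card
      rw [Nat.card_congr (subgroupOfEquivOfLe (zpowers_le.2 hP)).toEquiv, hk, hm] at h4
      have h5 : m ≤ k + 1 := by
        by_contra h5
        have h6 := (pow_dvd_pow 2 (show k + 2 ≤ m by omega)).trans
          (hm ▸ (P : Subgroup SL(2, F)).card_subgroup_dvd_card)
        rw [KSG.M2.card_SL2] at h6
        have h7 := Nat.Coprime.dvd_of_dvd_mul_left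
          (Nat.Coprime.pow_left _ (Nat.coprime_two_left.2 ho)) h6
        rw [← one_pow 2, Nat.pow_two_sub_pow_two, pow_add] at h7
        have h9 : 1 < Nat.card F := Finite.one_lt_card
        rcases hC with ⟨-, h⟩ | ⟨-, h⟩ <;> rw [← hk, h] at h7 <;> rw [h] at h8
        · rw [mul_comm] at h7
          have := Nat.dvd_of_mul_dvd_mul_right (by omega) h7
          omega
        · have := Nat.dvd_of_mul_dvd_mul_left (by omega) h7
          omega
      have h6 : ((zpowers c).subgroupOf P).index ∣ 2 := by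
        refine Nat.dvd_of_mul_dvd_mul_right (Nat.two_pow_pos k) ?_
        rw [h4, ← pow_succ']
        exact pow_dvd_pow 2 h5
      rw [← normal_subgroupOf_iff_le_normalizer (zpowers_le.2 hP)]
      rcases (Nat.dvd_prime Nat.prime_two).1 h6 with h | h
      · rw [index_eq_one.1 h]; infer_instance
      · exact normal_of_index_eq_two h
    obtain ⟨P, P', h3, h4, h5⟩ := H c k (by rw [← hk, Nat.card_zpowers, pow_orderOf_eq_one])
    exact h3 (Sylow.ext ((key P h4).symm.trans (key P' h5)))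
  · rintro ⟨rfl, h1, h2, h3⟩
    have h2 : (2 : F) ≠ 0 := two_ne_zero_of_charP (ringChar F) fun h => h2 ⟨n, h ▸ hn⟩
    have key : ∀ (x : SL(2, F)) (k : ℕ), x ^ 2 ^ k = 1 →
        ¬ IsScal (x : Matrix (Fin 2) (Fin 2) F) → Two 2 x := by
      intro x k hx hs
      obtain ⟨ht, -, h4⟩ := cent_card h2 hx hs
      obtain ⟨r, hr, hr1, hr2⟩ : ∃ r : ℕ, r.Prime ∧ r ∣ Nat.card (centralizer ({x} : Set SL(2, F))) ∧
          r ≠ 2 := by
        by_contra! h
        exact (h4.1 ⟨_, Nat.eq_prime_pow_of_unique_prime_dvd Nat.card_pos.ne' (h _)⟩).elim h1 h3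
      obtain ⟨u, hu, hu1, huo⟩ := SmallIso.exists_mem_orderOf hr hr1
      obtain ⟨w, hw⟩ := exists_inverting ht
      obtain ⟨g, hg1, hg2⟩ := exists_conj_pair_mem_sylow (y := w) (b := 2) hx (by
        rw [show 2 ^ 2 = 2 * 2 from rfl, pow_mul, sq w,
          SL_sq_eq_neg_one_iff.2 (trace_eq_zero_of_inverts ht hw), neg_one_sq])
        (hw ▸ inv_mem (mem_zpowers x)) default
      replace hg1 := smul_mem hg1 g⁻¹
      replace hg2 := smul_mem hg2 g⁻¹
      simp only [mul_assoc, inv_mul_cancel_left, inv_inv, inv_mul_cancel, mul_one] at hg1 hg2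
      refine ⟨_, u • _, fun h => ?_, hg1, by
        simpa [mem_centralizer_singleton_iff.1 hu] using smul_mem hg1 u⟩
      have h5 := mul_mem (h.ge (smul_mem hg2 u)) (inv_mem hg2)
      rw [mul_assoc, mul_assoc, ← mul_assoc w, conj_eq_inv_of_mem_cent hs hw (inv_mem hu), inv_inv,
        ← sq] at h5
      obtain ⟨j, hj⟩ := Sylow.isPGroup' _ ⟨_, h5⟩
      replace hj : (u ^ 2) ^ 2 ^ j = 1 := congrArg Subtype.val hj
      rw [← pow_mul, ← pow_succ'] at hj
      exact hr2 ((Nat.prime_dvd_prime_iff_eq hr Nat.prime_two).1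
        (hr.dvd_of_dvd_pow (huo ▸ orderOf_dvd_of_pow_eq_one hj)))
    intro x k hx
    by_cases hs : IsScal (x : Matrix (Fin 2) (Fin 2) F)
    · obtain ⟨P, P', h4, -⟩ := key (M2.cmp 0) 2 cmp_pow (cmp_not_isScal 0)
      exact ⟨P, P', h4, mem_of_central P (SL_mem_center_iff.2 hs) hx,
        mem_of_central P' (SL_mem_center_iff.2 hs) hx⟩
    · exact key x k hx hs

/-- Let F be a finite field with q elements, p a prime and G = SL(2, F). Say a Sylow p-subgroup Q of G is redundant when every element of p-power order lies in some Sylow p-subgroup other than Q. Then G has a redundant Sylow p-subgroup if and only if p = 2 and q is not of any of the forms 2ᵏ - 1, 2ᵏ, 2ᵏ + 1. -/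
theorem result {F : Type*} [Field F] [Fintype F] (p : ℕ) [Fact p.Prime] :
    (∃ Q : Sylow p (Matrix.SpecialLinearGroup (Fin 2) F), ∀ x : Matrix.SpecialLinearGroup (Fin 2) F,
        (∃ k : ℕ, orderOf x = p ^ k) → ∃ P : Sylow p (Matrix.SpecialLinearGroup (Fin 2) F), P ≠ Q ∧ x ∈ P) ↔
      (p = 2 ∧ (¬ ∃ k : ℕ, Fintype.card F + 1 = 2 ^ k) ∧ (¬ ∃ k : ℕ, Fintype.card F = 2 ^ k) ∧
        ¬ ∃ k : ℕ, Fintype.card F = 2 ^ k + 1) := by
  rw [red_iff, main]

end Cfsg.Agent.S4357
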