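import Cfsg.Statements.S4356
import Cfsg.Agent.S4357

set_option autoImplicit false
open Cfsg

namespace Cfsg.Agent.S4356

open Cfsg.Agent.Class.Dickson S4357 Subgroup

theorem two_iff {G H : Type*} [Group G] [Group H] [Finite G] (p : ℕ) [Fact p.Prime] (f : G →* H)
    (hf : Function.Surjective f) (hk : f.ker ≤ center G) :
    (∀ (x : H) (k : ℕ), x ^ p ^ k = 1 → Two p x) ↔ ∀ (x : G) (k : ℕ), x ^ p ^ k = 1 → Two p x := by
  have key : ∀ (P : Sylow p G) (x : G) (k : ℕ), x ^ p ^ k = 1 → f x ∈ P.mapSurjective hf →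
      x ∈ P := by
    rintro P x k hx ⟨y, hy, e⟩
    obtain ⟨j, hj⟩ := P.isPGroup' ⟨y, hy⟩
    replace hj : y ^ p ^ j = 1 := congrArg Subtype.val hj
    have hz : y⁻¹ * x ∈ center G := hk (by rw [MonoidHom.mem_ker, map_mul, map_inv, e, inv_mul_cancel])
    have hc : Commute y⁻¹ x := by
      have := mem_center_iff.1 hz y
      rw [mul_inv_cancel_left] at this
      exact (Commute.inv_left_iff.2 (by
        rw [Commute, SemiconjBy]
        conv_lhs => rw [this]
        group))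
    have := mem_of_central P hz (k := j + k) (by
      rw [hc.mul_pow, pow_add, pow_mul, inv_pow, hj, mul_comm, pow_mul, hx]; simp)
    exact mul_inv_cancel_left y x ▸ mul_mem hy this
  constructor
  · intro h x k hx
    obtain ⟨P, P', h1, h2, h3⟩ := h (f x) k (by rw [← map_pow, hx, map_one])
    obtain ⟨P, rfl⟩ := Sylow.mapSurjective_surjective hf p P
    obtain ⟨P', rfl⟩ := Sylow.mapSurjective_surjective hf p P'
    exact ⟨P, P', fun e => h1 (by rw [e]), key P x k hx h2, key P' x k hx h3⟩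
  · intro h x k hx
    obtain ⟨S, hS⟩ := (isPGroup_zpowers_of_pow hx).exists_le_sylow
    obtain ⟨S, rfl⟩ := Sylow.mapSurjective_surjective hf p S
    obtain ⟨y, hy, rfl⟩ := hS (mem_zpowers x)
    obtain ⟨j, hj⟩ := S.isPGroup' ⟨y, hy⟩
    obtain ⟨P, P', h1, h2, h3⟩ := h y j (congrArg Subtype.val hj)
    refine ⟨P.mapSurjective hf, P'.mapSurjective hf, fun e => h1 ?_, ⟨y, h2, rfl⟩, ⟨y, h3, rfl⟩⟩
    refine Sylow.ext (P.is_maximal' P'.isPGroup' fun z hz => ?_).symm
    obtain ⟨i, hi⟩ := P.isPGroup' ⟨z, hz⟩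
    exact key P' z i (congrArg Subtype.val hi) (e ▸ ⟨z, hz, rfl⟩)

/-- Let F be a finite field with q elements, p a prime and G = PSL(2, F). Say a Sylow p-subgroup Q of G is redundant when every element of p-power order lies in some Sylow p-subgroup other than Q. Then G has a redundant Sylow p-subgroup if and only if p = 2 and q is not of any of the forms 2ᵏ - 1, 2ᵏ, 2ᵏ + 1. -/
theorem result {F : Type*} [Field F] [Fintype F] (p : ℕ) [Fact p.Prime] :
    (∃ Q : Sylow p (Matrix.ProjectiveSpecialLinearGroup (Fin 2) F), ∀ x : Matrix.ProjectiveSpecialLinearGroup (Fin 2) F,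
        (∃ k : ℕ, orderOf x = p ^ k) → ∃ P : Sylow p (Matrix.ProjectiveSpecialLinearGroup (Fin 2) F), P ≠ Q ∧ x ∈ P) ↔
      (p = 2 ∧ (¬ ∃ k : ℕ, Fintype.card F + 1 = 2 ^ k) ∧ (¬ ∃ k : ℕ, Fintype.card F = 2 ^ k) ∧
        ¬ ∃ k : ℕ, Fintype.card F = 2 ^ k + 1) := by
  rw [red_iff, two_iff p (pslMk F) pslMk_surjective (QuotientGroup.ker_mk' _).le, main]

end Cfsg.Agent.S4356
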