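import Cfsg.Statements.S4358
import Cfsg.Agent.Class.Wr.Val
import Cfsg.Agent.Class.Wr.Basic
import Cfsg.Agent.KSG.GLFlag

set_option autoImplicit false
open Cfsg

namespace Cfsg.Agent.S4358

open Matrix Equiv _root_.Cfsg.Agent.KSG.GLn _root_.Cfsg.Agent.Class.Wr

section
variable {F : Type*} [Field F] {ι : Type*} [Fintype ι] [DecidableEq ι]

/-- diagonal matrices -/
def dgm (F : Type*) [Field F] (ι : Type*) [Fintype ι] [DecidableEq ι] : (ι → Fˣ) →* GL ι F :=
  (Units.map (Matrix.diagonalRingHom ι F).toMonoidHom).comp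
    (MulEquiv.piUnits (M := fun _ : ι => F)).symm.toMonoidHom

theorem dgm_coe (f : ι → Fˣ) : (dgm F ι f : Matrix ι ι F) = diagonal fun i => (f i : F) := rfl

theorem mon_apply (f : ι → Fˣ) (σ : Perm ι) (k l : ι) :
    ((dgm F ι f * pm F σ : GL ι F) : Matrix ι ι F) k l = if k = σ l then (f k : F) else 0 := by
  rw [Units.val_mul, mul_pm_apply, dgm_coe, diagonal_apply]

/-- the monomial wreath product -/
def wr (F : Type*) [Field F] (ι : Type*) [Fintype ι] [DecidableEq ι] : WrData (GL ι F) Fˣ ι where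
  base := dgm F ι
  top := pm F
  conj σ f := by
    rw [mul_inv_eq_iff_eq_mul]
    ext k l
    rw [mon_apply, Units.val_mul, pm_mul_apply, dgm_coe, diagonal_apply]
    simp only [Equiv.symm_apply_eq]
    rfl
  inj f σ h := by
    have h1 : ∀ k l, (diagonal fun i => (f i : F)) k l = if k = σ l then 1 else 0 := fun k l => by
      rw [← dgm_coe, h, pm_apply]
    have h2 : ∀ k, k = σ k := fun k => by
      by_contra hk
      have := h1 k k
      rw [if_neg hk, diagonal_apply_eq] at this
      exact (f k).ne_zero this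
    refine ⟨funext fun k => Units.ext ?_, Equiv.ext fun k => (h2 k).symm⟩
    have := h1 k k
    rwa [if_pos (h2 k), diagonal_apply_eq] at this

theorem exists_ne_two {α : Type*} {a b c : α} (h1 : a ≠ b) (h2 : a ≠ c) (h3 : b ≠ c) (i m : α) :
    ∃ k, (k = a ∨ k = b ∨ k = c) ∧ k ≠ i ∧ k ≠ m := by
  by_contra h
  push Not at h
  have ha := h a (by simp)
  have hb := h b (by simp)
  have hc := h c (by simp)
  by_cases a1 : a = i <;> by_cases a2 : b = i <;> by_cases a3 : c = i <;> simp_all

/-- an element normalising the Sylow subgroup is monomial -/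
theorem col_mon {D : Subgroup Fˣ} {T : Subgroup (Perm ι)} (hT : ∀ σ ∈ T, σ ≠ 1 → ∀ k, σ k ≠ k)
    (h3 : ∀ i m : ι, ∃ k, k ≠ i ∧ k ≠ m) {ω : Fˣ} (hω : ω ∈ D) (hω1 : ω ≠ 1) {g : GL ι F}
    (hg : ∀ y ∈ (wr F ι).sub D T, g * y * g⁻¹ ∈ (wr F ι).sub D T) (i : ι) :
    ∃ l, ∀ k, k ≠ l → (g : Matrix ι ι F) k i = 0 := by
  obtain ⟨f, -, σ, hσ, h⟩ := hg _ ((wr F ι).e_mem_sub T i hω)
  have hc : (ω : F) - 1 ≠ 0 := sub_ne_zero.2 fun h => hω1 (Units.ext h)
  have key : ∀ k l, (if k = σ l then (f k : F) else 0) = (1 : Matrix ι ι F) k l +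
      ((ω : F) - 1) * (g : Matrix ι ι F) k i * ((g⁻¹ : GL ι F) : Matrix ι ι F) i l := by
    intro k l
    have h1 : (((wr F ι).e i ω : GL ι F) : Matrix ι ι F) = 1 + single i i ((ω : F) - 1) := by
      rw [WrData.e_apply]
      change diagonal _ = _
      ext a b
      by_cases hab : a = b
      · subst hab
        by_cases ha : a = i
        · subst ha; simp
        · simp [ha, Ne.symm ha]
      · rw [diagonal_apply_ne _ hab, Matrix.add_apply, one_apply_ne hab, single_apply_of_ne, add_zero]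
        rintro ⟨rfl, rfl⟩; exact hab rfl
    rw [← mon_apply]
    change (((wr F ι).base f * (wr F ι).top σ : GL ι F) : Matrix ι ι F) k l = _
    rw [← h, Units.val_mul, Units.val_mul, h1, mul_add, add_mul, mul_one, Units.mul_inv,
      Matrix.add_apply]
    congr 1
    simp only [Matrix.mul_apply, single, of_apply, ite_and, mul_ite, mul_zero, Finset.sum_ite_eq,
      Finset.mem_univ, if_true, ite_mul, zero_mul, Finset.sum_ite_irrel, Finset.sum_const_zero]
    ring
  obtain ⟨l, hl⟩ : ∃ l, ((g⁻¹ : GL ι F) : Matrix ι ι F) i l ≠ 0 := by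
    by_contra h0
    push Not at h0
    have := congrFun (congrFun (Units.inv_mul g) i) i
    simp only [Matrix.mul_apply, h0, zero_mul, Finset.sum_const_zero, one_apply_eq] at this
    exact zero_ne_one this
  by_cases h1 : σ = 1
  · subst h1
    refine ⟨l, fun k hk => ?_⟩
    have := key k l
    rw [if_neg (by simpa using hk), one_apply_ne hk, zero_add] at this
    exact ((mul_eq_zero.1 ((mul_eq_zero.1 this.symm).resolve_right hl)).resolve_left hc)
  · exfalso
    obtain ⟨k, hk1, hk2⟩ := h3 l (σ l)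
    have a1 := key k k
    have a2 := key k l
    rw [if_neg (hT σ hσ h1 k).symm, one_apply_eq] at a1
    rw [if_neg hk2, one_apply_ne hk1, zero_add] at a2
    have : (g : Matrix ι ι F) k i = 0 := 
      ((mul_eq_zero.1 ((mul_eq_zero.1 a2.symm).resolve_right hl)).resolve_left hc)
    simp [this] at a1

theorem exists_comm {f : ι → Fˣ} {σ : Perm ι} (h1 : ∀ k, σ k ≠ k) (h2 : ∀ k, σ (σ k) ≠ k)
    [Nonempty ι] (hF : ∀ c : F, ∃ a : F, a ≠ 0 ∧ 1 + a * c ≠ 0) :
    ∃ g : GL ι F, g * (dgm F ι f * pm F σ) = (dgm F ι f * pm F σ) * g ∧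
      ∃ i, ∀ l, ∃ k, k ≠ l ∧ (g : Matrix ι ι F) k i ≠ 0 := by
  set x := dgm F ι f * pm F σ with hx
  have hxa : ∀ k l, (x : Matrix ι ι F) k l = if k = σ l then (f k : F) else 0 := mon_apply f σ
  by_cases hd : ((x : Matrix ι ι F) - 1).det = 0
  · obtain ⟨v, hv0, hv⟩ := Matrix.exists_mulVec_eq_zero_iff.2 hd
    obtain ⟨w, hw0, hw⟩ := Matrix.exists_vecMul_eq_zero_iff.2 hd
    rw [sub_mulVec, one_mulVec, sub_eq_zero] at hv
    rw [vecMul_sub, vecMul_one, sub_eq_zero] at hw
    obtain ⟨a, ha, ha1⟩ := hF (w ⬝ᵥ v)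
    have hv' : ∀ l, v l ≠ 0 → v (σ l) ≠ 0 := fun l hl => by
      rw [← hv]
      simp only [mulVec, dotProduct, hxa, EmbeddingLike.apply_eq_iff_eq, ite_mul, zero_mul,
        Finset.sum_ite_eq, Finset.mem_univ, if_true]
      exact mul_ne_zero (f _).ne_zero hl
    obtain ⟨i, hi⟩ := Function.ne_iff.1 hw0
    obtain ⟨l, hl⟩ := Function.ne_iff.1 hv0
    refine ⟨Matrix.GeneralLinearGroup.mkOfDetNeZero (1 + vecMulVec (a • v) w) ?_, ?_, i, fun m => ?_⟩
    · rw [vecMulVec_eq Unit, det_one_add_replicateCol_mul_replicateRow]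
      simpa using ha1
    · ext1
      change (1 + vecMulVec (a • v) w) * (x : Matrix ι ι F) = x * (1 + vecMulVec (a • v) w)
      rw [add_mul, mul_add, vecMulVec_mul, mul_vecMulVec, hw, mulVec_smul, hv, one_mul, mul_one]
    · obtain ⟨k, hk, hki, hkm⟩ := exists_ne_two (h1 l).symm (h2 l).symm (h1 (σ l)).symm i m
      refine ⟨k, hkm, ?_⟩
      change (1 + vecMulVec (a • v) w) k i ≠ 0
      rw [Matrix.add_apply, one_apply_ne hki, zero_add, vecMulVec_apply]
      refine mul_ne_zero (mul_ne_zero ha ?_) hi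
      rcases hk with rfl | rfl | rfl
      exacts [hl, hv' _ hl, hv' _ (hv' _ hl)]
  · obtain ⟨i⟩ := ‹Nonempty ι›
    refine ⟨Matrix.GeneralLinearGroup.mkOfDetNeZero _ hd, ?_, i, fun m => ?_⟩
    · ext1
      change ((x : Matrix ι ι F) - 1) * x = x * (x - 1)
      noncomm_ring
    · by_cases hm : m = i
      · refine ⟨σ i, hm ▸ h1 i, ?_⟩
        change ((x : Matrix ι ι F) - 1) (σ i) i ≠ 0
        rw [Matrix.sub_apply, hxa, if_pos rfl, one_apply_ne (h1 i), sub_zero]
        exact (f _).ne_zero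
      · refine ⟨i, Ne.symm hm, ?_⟩
        change ((x : Matrix ι ι F) - 1) i i ≠ 0
        rw [Matrix.sub_apply, hxa, if_neg (h1 i).symm, one_apply_eq]
        simp

end

/-- Let p be an odd prime and F a finite field with q elements such that p divides q - 1 but p² does not. Then GL(p, F) has a Sylow p-subgroup Q such that every element of p-power order lies in some Sylow p-subgroup other than Q (a redundant Sylow p-subgroup). -/
theorem result {F : Type*} [Field F] [Fintype F] (p : ℕ) [Fact p.Prime]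
    (hp : p ≠ 2) (h1 : p ∣ Fintype.card F - 1) (h2 : ¬ p ^ 2 ∣ Fintype.card F - 1) :
    ∃ Q : Sylow p (Matrix.GeneralLinearGroup (Fin p) F), ∀ x : Matrix.GeneralLinearGroup (Fin p) F,
      (∃ k : ℕ, orderOf x = p ^ k) → ∃ P : Sylow p (Matrix.GeneralLinearGroup (Fin p) F), P ≠ Q ∧ x ∈ P := by
  have hp' : p.Prime := Fact.out
  have hodd : Odd p := hp'.odd_of_ne_two hp
  have h3 : 3 ≤ p := by have := hp'.two_le; omega
  have hq : 1 < Fintype.card F := Fintype.one_lt_card
  have hq4 : 4 ≤ Fintype.card F := by have := Nat.le_of_dvd (by omega) h1; omega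
  have hnd : ¬ p ∣ Nat.card F := fun h => by
    rw [Nat.card_eq_fintype_card] at h
    have := (Nat.dvd_sub_iff_right hq.le h).1 h1
    exact hp'.one_lt.ne' (Nat.dvd_one.1 this)
  obtain ⟨m, rfl⟩ : ∃ m, p = m + 1 := ⟨p - 1, by omega⟩
  have hrot : finRotate (m + 1) ^ (m + 1) = 1 := by
    have := (isCycle_finRotate_of_le (n := m + 1) (by omega)).orderOf
    rw [support_finRotate_of_le (by omega), Finset.card_univ, Fintype.card_fin] at this
    exact orderOf_dvd_iff_pow_eq_one.1 (by rw [this])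
  obtain ⟨T, hT⟩ := (show IsPGroup (m + 1) (Subgroup.zpowers (finRotate (m + 1))) from by
    rintro ⟨_, k, rfl⟩
    exact ⟨1, Subtype.ext (by
      simp only [pow_one, SubmonoidClass.coe_pow, OneMemClass.coe_one]
      rw [← zpow_natCast, ← _root_.zpow_mul, mul_comm, _root_.zpow_mul, zpow_natCast, hrot,
        _root_.one_zpow])⟩).exists_le_sylow
  obtain ⟨D⟩ : Nonempty (Sylow (m + 1) Fˣ) := inferInstance
  have hS : IsSyl (m + 1) ((wr F (Fin (m + 1))).sub D T) := by
    refine WrData.isSyl_sub _ D T ?_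
    rw [val_card_GL hnd, (lte_odd hodd Finite.one_lt_card (by simpa using h1)).val_prod
      Finite.one_lt_card, Nat.card_fin, Nat.card_units]
  have hD : Nat.card D = m + 1 := by
    rw [isSyl_sylow D, Nat.card_units, Nat.card_eq_fintype_card]
    have a1 : 1 ≤ padicValNat (m + 1) (Fintype.card F - 1) :=
      one_le_padicValNat_of_dvd (by omega) h1
    have a2 : ¬ 2 ≤ padicValNat (m + 1) (Fintype.card F - 1) := fun h =>
      h2 ((padicValNat_dvd_iff_le (by omega)).2 h)
    rw [show padicValNat (m + 1) (Fintype.card F - 1) = 1 by omega, pow_one]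
  obtain ⟨ω, hω, hω1⟩ : ∃ ω ∈ (D : Subgroup Fˣ), ω ≠ 1 := by
    by_contra h
    push Not at h
    rw [(Subgroup.eq_bot_iff_forall _).2 h, Subgroup.card_bot] at hD
    omega
  have hfp : ∀ σ ∈ (T : Subgroup (Perm (Fin (m + 1)))), σ ≠ 1 → ∀ k, σ k ≠ k := by
    intro σ hσ h1 k hk
    obtain ⟨n, hn⟩ := T.isPGroup' ⟨σ, hσ⟩
    have a := Equiv.Perm.card_compl_support_modEq (p := m + 1) (n := n) (σ := σ)
      (congrArg Subtype.val hn)
    rw [Fintype.card_fin] at a
    have a1 : 0 < σ.supportᶜ.card := Finset.card_pos.2 ⟨k, by simpa using hk⟩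
    have a2 : σ.supportᶜ.card < m + 1 := by
      have := Finset.card_compl σ.support
      have := Finset.card_pos.2 (Finset.nonempty_iff_ne_empty.2
        (mt Equiv.Perm.support_eq_empty_iff.1 h1))
      simp only [Fintype.card_fin] at *
      omega
    have := Nat.le_of_dvd a1 ((Nat.modEq_zero_iff_dvd).1 (a.trans (Nat.modEq_zero_iff_dvd.2 dvd_rfl)))
    omega
  have hthree : ∀ i l : Fin (m + 1), ∃ k, k ≠ i ∧ k ≠ l := fun i l => by
    obtain ⟨k, -, hk⟩ := exists_ne_two (a := (⟨0, by omega⟩ : Fin (m + 1))) (b := ⟨1, by omega⟩)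
      (c := ⟨2, by omega⟩) (by simp) (by simp) (by simp) i l
    exact ⟨k, hk⟩
  refine ⟨hS.toSylow, fun x ⟨k, hk⟩ => ?_⟩
  obtain ⟨R, hR⟩ := (IsPGroup.of_card (G := Subgroup.zpowers x) (n := k)
    (by rw [Nat.card_zpowers, hk])).exists_le_sylow
  have hxR : x ∈ R := hR (Subgroup.mem_zpowers x)
  by_cases hRQ : R = hS.toSylow
  swap
  · exact ⟨R, hRQ, hxR⟩
  subst hRQ
  suffices ∃ g : GL (Fin (m + 1)) F, g⁻¹ * x * g ∈ (wr F (Fin (m + 1))).sub D T ∧
      ∃ i, ∀ l, ∃ k, k ≠ l ∧ (g : Matrix (Fin (m + 1)) (Fin (m + 1)) F) k i ≠ 0 by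
    obtain ⟨g, hg, i, hi⟩ := this
    refine ⟨g • hS.toSylow, fun h => ?_, ?_⟩
    · obtain ⟨l, hl⟩ := col_mon hfp hthree hω hω1 (g := g) (fun y hy =>
        (Subgroup.mem_normalizer_iff.1 (Sylow.smul_eq_iff_mem_normalizer.1 h) y).1 hy) i
      obtain ⟨k, hk1, hk2⟩ := hi l
      exact hk2 (hl k hk1)
    · change x ∈ ((g • hS.toSylow : Sylow _ _) : Subgroup _)
      rw [Sylow.coe_subgroup_smul, Subgroup.mem_pointwise_smul_iff_inv_smul_mem]
      rw [hS.coe_toSylow]
      simpa using hg
  have hx' : x ∈ (wr F (Fin (m + 1))).sub D T := hxR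
  obtain ⟨f, hf, σ, hσ, hx⟩ := id hx'
  change x = dgm F _ f * pm F σ at hx
  by_cases h1 : σ = 1
  · subst h1
    rw [map_one, mul_one] at hx
    by_cases hinj : Function.Injective f
    · have hfp : ∀ i, (f i : F) ^ (m + 1) = 1 := fun i => by
        have := pow_card_eq_one' (G := D) (x := ⟨f i, hf i⟩)
        rw [hD] at this
        exact congrArg (fun u : D => ((u : Fˣ) : F)) this
      refine ⟨Matrix.GeneralLinearGroup.mkOfDetNeZero (vandermonde fun i => (f i : F))
        (det_vandermonde_ne_zero_iff.2 (Units.val_injective.comp hinj)), ?_, 0, fun l => ?_⟩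
      · convert (wr F (Fin (m + 1))).top_mem_sub D (hT (Subgroup.mem_zpowers _)) using 1
        rw [mul_assoc, inv_mul_eq_iff_eq_mul, hx]
        ext k l
        change (diagonal (fun i => (f i : F)) * vandermonde fun i => (f i : F)) k l =
          (vandermonde (fun i => (f i : F)) * (pm F (finRotate (m + 1)) : GL _ F)) k l
        rw [mul_pm_apply, diagonal_mul, vandermonde_apply, vandermonde_apply, finRotate_apply,
          Fin.val_add, ← pow_eq_pow_mod _ (hfp k), pow_add, Fin.val_one', ← pow_eq_pow_mod _ (hfp k)]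
        ring
      · obtain ⟨k, hk, -⟩ := hthree l l
        refine ⟨k, hk, ?_⟩
        change (vandermonde fun i => (f i : F)) k 0 ≠ 0
        simp
    · obtain ⟨i, j, hij, hne⟩ := Function.not_injective_iff.1 hinj
      refine ⟨Matrix.GeneralLinearGroup.mkOfDetNeZero (transvection i j (1 : F))
        (by rw [det_transvection_of_ne _ _ hne]; exact one_ne_zero), ?_, j, fun l => ?_⟩
      · convert hx' using 1
        rw [mul_assoc, inv_mul_eq_iff_eq_mul, hx]
        ext1
        change diagonal (fun i => (f i : F)) * transvection i j (1 : F) =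
          transvection i j (1 : F) * diagonal fun i => (f i : F)
        ext a b
        rw [diagonal_mul, mul_diagonal, transvection, Matrix.add_apply, Matrix.one_apply, single]
        by_cases hab : a = b
        · subst hab; ring
        · by_cases h : i = a ∧ j = b
          · obtain ⟨rfl, rfl⟩ := h
            simp [hij, hne]
          · simp [hab, h]
      · by_cases hl : l = j
        · refine ⟨i, hl ▸ hne, ?_⟩
          change transvection i j (1 : F) i j ≠ 0
          simp [transvection, one_apply_ne hne]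
        · refine ⟨j, Ne.symm hl, ?_⟩
          change transvection i j (1 : F) j j ≠ 0
          simp [transvection, hne]
  · have h2 : σ * σ ≠ 1 := fun h => by
      obtain ⟨n, hn⟩ := T.isPGroup' ⟨σ, hσ⟩
      have a : σ ^ (m + 1) ^ n = 1 := congrArg Subtype.val hn
      obtain ⟨c, hc⟩ := hodd.pow (n := n)
      rw [hc, pow_succ, pow_mul, sq, h, one_pow, one_mul] at a
      exact h1 a
    obtain ⟨g, hg, hi⟩ := exists_comm (f := f) (hfp σ hσ h1) (hfp _ (mul_mem hσ hσ) h2) (fun c => by
      classical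
      obtain ⟨a, ha⟩ : ∃ a : F, a ∉ ({0, -c⁻¹} : Finset F) := by
        by_contra h
        push Not at h
        have := Finset.card_le_card (show Finset.univ ⊆ ({0, -c⁻¹} : Finset F) from fun a _ => h a)
        have := this.trans Finset.card_le_two
        rw [Finset.card_univ] at this
        omega
      simp only [Finset.mem_insert, Finset.mem_singleton, not_or] at ha
      refine ⟨a, ha.1, fun h => ha.2 ?_⟩
      have hc : c ≠ 0 := by rintro rfl; simp at h
      field_simp
      linear_combination h)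
    refine ⟨g, ?_, hi⟩
    convert hx' using 1
    rw [mul_assoc, inv_mul_eq_iff_eq_mul, hx, hg]

end Cfsg.Agent.S4358
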