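import Mathlib
import Cfsg.Statements.S4363
import Cfsg.Agent.FH.Turull
import Cfsg.Agent.FH.Ext

set_option autoImplicit false
open Cfsg

namespace Cfsg.Agent.S4363

/-- Let G be a finite solvable group and σ an automorphism of G of prime order r not dividing the order of G, with fixed-point subgroup C. Then the Fitting height of G exceeds that of C by at most 2: if C has a chain of normal subgroups 1 = C₀ ≤ ⋯ ≤ Cₙ = C with nilpotent factors, then G has such a chain of length n + 2. -/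
theorem result {G : Type*} [Group G] [Finite G]
    (hG : Group.IsSolvable G) (σ : MulAut G) (r : ℕ) (hr : r.Prime) (hσ : orderOf σ = r) (hcop : ¬ r ∣ Nat.card G)
    (C : Subgroup G) (hC : ∀ g : G, g ∈ C ↔ σ g = g) (n : ℕ) (hn : (∃ F : Fin (n + 1) → Subgroup ↥C, F 0 = ⊥ ∧ F (Fin.last n) = ⊤ ∧ Monotone F ∧ (∀ i, (F i).Normal) ∧ ∀ i : Fin n, ∃ k : ℕ, (F i.succ).lowerCentralSeries k ≤ F i.castSucc)) :
    (∃ F : Fin ((n + 2) + 1) → Subgroup G, F 0 = ⊥ ∧ F (Fin.last (n + 2)) = ⊤ ∧ Monotone F ∧ (∀ i, (F i).Normal) ∧ ∀ i : Fin (n + 2), ∃ k : ℕ, (F i.succ).lowerCentralSeries k ≤ F i.castSucc) := by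
  have := Solv.Ext.finite_SD (A := MulAut G) (G := G)
  rw [FH.chain_iff, FH.resN_eq_bot_iff_subtype, ← FH.resN_map_iG (A := MulAut G)] at hn
  rw [FH.chain_iff, ← FH.resN_range (A := MulAut G)]
  have e : Nat.card (Subgroup.zpowers (Solv.Ext.iA _ G σ)) = r := by
    rw [Nat.card_zpowers, orderOf_injective _ Solv.Ext.iA_injective, hσ]
  refine FH.turull (α := Solv.Ext.iA _ G σ) (FH.solv_range hG) (by rw [e]; exact hr)
    (FH.norm_range ⊤ trivial) (by rw [e, Solv.Ext.card_range_iG]; exact hr.coprime_iff_not_dvd.mpr hcop)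
    (eq_bot_iff.mpr ((FH.resN_mono n ?_).trans hn.le))
  rintro _ ⟨⟨g, rfl⟩, hg⟩
  exact Subgroup.mem_map_of_mem _ ((hC g).mpr (FH.iG_mem_cent1.mp hg))

end Cfsg.Agent.S4363
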