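import Cfsg.Statements.S4394
import Cfsg.Agent.FGS.SchSyl
import Cfsg.Agent.PLocal.HHExp
import Cfsg.Agent.PLocal.Hyperplane
import Cfsg.Agent.PLocal.PConstr
import Cfsg.Agent.Solv.MinNonNilpotent

set_option autoImplicit false
open Cfsg

namespace Cfsg.Agent.S4394

open Subgroup

open Cfsg.Agent.SchSyl Cfsg.Agent.PLocal Module
open scoped commutatorElement

theorem exists_sch {X : Type*} [Group X] [Finite X] (p : ℕ) [hp : Fact p.Prime]
    (hX : Cfsg.IsMinimalNonNilpotent X) (P : Sylow p X) (hPn : (P : Subgroup X).Normal)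
    (hP1 : (P : Subgroup X) ≠ ⊥) : ∃ (q : ℕ) (φ : MulAut (P : Subgroup X)), Sch p q φ := by
  obtain ⟨q, r, hq, hr, hqr, S, R, x, hS, hRn, hSR, hSn, hx⟩ := Solv.minNonNilpotent_structure hX
  have := Fact.mk hq
  have := Fact.mk hr
  have hpq : q ≠ p := by
    rintro rfl
    have := Sylow.unique_of_normal P hPn
    exact hSn (Subsingleton.elim S P ▸ hPn)
  have hpr : r = p := by
    by_contra hne
    have h1 : Nat.card X ∣ Nat.card S * Nat.card R := by
      rw [← (R : Subgroup X).index_mul_card, ← relIndex_top_right, ← hSR, relIndex_sup_right]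
      exact Nat.mul_dvd_mul_right (relIndex_dvd_card _ _) _
    obtain ⟨a, ha⟩ := S.isPGroup'.exists_card_eq
    obtain ⟨b, hb⟩ := R.isPGroup'.exists_card_eq
    obtain ⟨c, hc⟩ := P.isPGroup'.exists_card_eq
    have hc0 : c ≠ 0 := by rintro rfl; exact hP1 (card_eq_one.1 (by simpa using hc))
    have h2 : p ∣ Nat.card X := (hc ▸ dvd_pow_self p hc0).trans (P : Subgroup X).card_subgroup_dvd_card
    rcases (Nat.Prime.dvd_mul hp.out).1 (h2.trans h1) with h3 | h3
    · rw [ha] at h3; exact hpq ((Nat.prime_dvd_prime_iff_eq hp.out hq).1 (hp.out.dvd_of_dvd_pow h3)).symm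
    · rw [hb] at h3; exact hne ((Nat.prime_dvd_prime_iff_eq hp.out hr).1 (hp.out.dvd_of_dvd_pow h3)).symm
  subst hpr
  have := Sylow.unique_of_normal P hPn
  obtain rfl : R = P := Subsingleton.elim _ _
  have hcent : ∀ (y : X) (U : Subgroup X), y ∈ zpowers x → U ≤ R → zpowers y ⊔ U ≠ ⊤ →
      ∀ u ∈ U, y * u * y⁻¹ = u := fun y U hy hU hne u hu => by
    have hc : (Nat.card (zpowers y)).Coprime r := by
      obtain ⟨a, ha⟩ := (S.isPGroup'.to_le (zpowers_le.2 (hS ▸ hy) : zpowers y ≤ S)).exists_card_eq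
      rw [ha]; exact Nat.Coprime.pow_left _ ((Nat.coprime_primes hq hr).2 hqr)
    have := Solv.le_centralizer_of_isNilpotent_of_coprime (hX.2 _ hne) le_sup_right le_sup_left
      (R.isPGroup'.to_le hU) hc hu y (mem_zpowers y)
    rw [this, mul_inv_cancel_right]
  have hdis : (S : Subgroup X) ⊓ R = ⊥ := IsPGroup.disjoint_of_ne q r hqr _ _ S.isPGroup' R.isPGroup' |>.eq_bot
  refine ⟨q, MulAut.conjNormal x, R.isPGroup', hq, hqr, ?_, fun h => hx ?_, fun U hU hinv u hu => ?_⟩
  · rw [← map_pow]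
    ext u
    refine hcent (x ^ q) R (pow_mem (mem_zpowers x) q) le_rfl (fun h => hx ?_) u u.2
    obtain ⟨a, ha, b, hb, hab⟩ := mem_sup_of_normal_right.1 (h ▸ mem_top x : x ∈ zpowers (x ^ q) ⊔ R)
    have hb1 : b = 1 := by
      have : b ∈ (S : Subgroup X) ⊓ R := mem_inf.2 ⟨by
        rw [hS, eq_inv_mul_of_mul_eq hab]
        exact mul_mem (inv_mem (zpowers_le.2 (pow_mem (mem_zpowers x) q) ha)) (mem_zpowers x), hb⟩
      rwa [hdis, mem_bot] at this
    rw [hb1, mul_one] at hab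
    subst hab
    have h1 : (orderOf a).Coprime q := by
      exact Nat.Coprime.symm (mem_zpowers_pow_iff.1 ha)
    obtain ⟨k, hk⟩ := (S.isPGroup'.to_le (zpowers_le.2 (hS ▸ mem_zpowers a) : zpowers a ≤ S)).exists_card_eq
    rw [Nat.card_zpowers] at hk
    have : k = 0 := by
      by_contra h0
      rw [hk] at h1
      exact hq.one_lt.ne' (Nat.Coprime.eq_one_of_dvd h1.symm (dvd_pow_self q h0))
    rw [this, pow_zero, orderOf_eq_one_iff] at hk
    rw [hk]; exact one_mem _
  · intro u hu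
    have := congrArg (fun ψ : MulAut (R : Subgroup X) => ((ψ ⟨u, hu⟩ : R) : X)) h
    simp only [MulAut.conjNormal_apply, MulAut.one_apply] at this
    rw [mul_inv_eq_iff_eq_mul] at this
    exact this.symm
  · ext
    refine hcent x (U.map (R : Subgroup X).subtype) (mem_zpowers x) (map_subtype_le U) (fun h => hU ?_) u
      (mem_map_of_mem _ hu)
    have hn : zpowers x ≤ normalizer ((U.map (R : Subgroup X).subtype : Subgroup X) : Set X) := by
      rw [zpowers_le]
      refine mem_normalizer_fintype ?_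
      rintro _ ⟨v, hv, rfl⟩
      exact ⟨_, hinv v hv, rfl⟩
    rw [eq_top_iff]
    intro v _
    have hv : (v : X) ∈ zpowers x ⊔ U.map (R : Subgroup X).subtype := h ▸ mem_top _
    rw [← SetLike.mem_coe, coe_mul_of_left_le_normalizer_right _ _ hn] at hv
    obtain ⟨a, ha, b, hb, hab⟩ := hv
    have ha1 : a = 1 := by
      have : a ∈ (S : Subgroup X) ⊓ R := mem_inf.2 ⟨hS ▸ ha, by
        rw [eq_mul_inv_of_mul_eq hab]
        exact mul_mem v.2 (inv_mem (map_subtype_le U hb))⟩
      rwa [hdis, mem_bot] at this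
    obtain ⟨w, hw, rfl⟩ := hb
    simp only [ha1, one_mul, coe_subtype] at hab
    exact Subtype.ext hab ▸ hw

theorem big {G : Type*} [Group G] [Finite G] {p : ℕ} [hp : Fact p.Prime] (h5 : 3 < p)
    (hG : IsPSolvable p G) (Q : Sylow p G) (hQ : ∀ a b : (Q : Subgroup G), ⁅a, b⁆ ∈ center (Q : Subgroup G)) :
    (Q : Subgroup G) ≤ pPrimePCore p G := by
  obtain ⟨X, _, _, f, hEA, σ, hf, -, -, hσ, hval⟩ := HH.exists_hh_rep (isPConstrained_of_isPSolvable hG)
  intro a ha
  by_contra hne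
  have h1 : (QuotientGroup.mk a : G ⧸ pPrimePCore p G) ≠ 1 := fun h => hne ((QuotientGroup.eq_one_iff a).1 h)
  obtain ⟨k, hk⟩ := Q.isPGroup' ⟨a, ha⟩
  have h2 : orderOf (QuotientGroup.mk a : G ⧸ pPrimePCore p G) ∣ p ^ k := by
    apply orderOf_dvd_of_pow_eq_one
    rw [← QuotientGroup.mk_pow, show a ^ p ^ k = 1 from congrArg Subtype.val hk, QuotientGroup.mk_one]
  obtain ⟨n, -, hn⟩ := (Nat.dvd_prime_pow hp.out).1 h2
  obtain ⟨n, rfl⟩ : ∃ m, n = m + 1 := ⟨n - 1, by
    rcases n with _ | n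
    · exact absurd (orderOf_eq_one_iff.1 (by simpa using hn)) h1
    · rfl⟩
  apply HH.theoremB_weak σ hσ (IsPSolvable.quotient hG _) HH.pCore_quotient_pPrimePCore hn
  refine pow_eq_zero_of_le (m := 2) ?_ ?_
  · have : p - 1 ≤ p ^ n * (p - 1) := Nat.le_mul_of_pos_left _ (pow_pos hp.out.pos n)
    omega
  · ext v
    obtain ⟨b, hb, hbv⟩ : v.val ∈ (Q : Subgroup G).map f :=
      Grp.pCore_le_sylow (Q.mapSurjective hf) v.val_mem
    have h3 := congrArg (fun z : (Q : Subgroup G) => f z) (mem_center_iff.1 (hQ ⟨a, ha⟩ ⟨b, hb⟩) ⟨a, ha⟩)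
    simp only [coe_mul, commutatorElement_def, coe_inv, map_mul, map_inv, hbv] at h3
    simp only [pow_two, End.mul_apply, LinearMap.sub_apply, End.one_apply, EA.val_sub, hval,
      LinearMap.zero_apply, EA.val_zero]
    rw [h3]; group

theorem small {G : Type*} [Group G] [Finite G] {p q : ℕ} [hp : Fact p.Prime] (h3 : p ≤ 3)
    (hG : IsPSolvable p G) (hO : pPrimeCore p G = ⊥) (Q : Sylow p G) {φ : MulAut (Q : Subgroup G)}
    (h : Sch p q φ) : (Q : Subgroup G) ≤ pCore p G := by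
  have hC := centralizer_pCore_le_of_isPSolvable hG hO
  have hOQ : pCore p G ≤ Q := Grp.pCore_le_sylow Q
  have hZO : ∀ z ∈ center (Q : Subgroup G), (z : G) ∈ pCore p G := fun z hz => hC fun b hb =>
    congrArg Subtype.val (mem_center_iff.1 hz ⟨b, hOQ hb⟩)
  by_cases hna : center (Q : Subgroup G) = ⊤
  · exact fun a ha => hZO ⟨a, ha⟩ (hna ▸ mem_top _)
  by_contra hne
  let π := QuotientGroup.mk' (pCore p G)
  have hπ : ∀ g, π g = 1 ↔ g ∈ pCore p G := fun g => QuotientGroup.eq_one_iff g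
  let A := (Q : Subgroup G).map π
  let K := pPrimeCore p (G ⧸ pCore p G)
  have hA : IsElementaryAbelian p A := by
    refine ⟨⟨⟨?_⟩⟩, ?_⟩
    · rintro ⟨_, a, ha, rfl⟩ ⟨_, b, hb, rfl⟩
      ext1
      change π a * π b = π b * π a
      rw [← commutatorElement_eq_one_iff_mul_comm, ← map_commutatorElement, hπ]
      exact hZO _ (h.comm_mem ⟨a, ha⟩ ⟨b, hb⟩)
    · rintro _ ⟨a, ha, rfl⟩
      rw [← map_pow, hπ]
      exact hZO _ (h.pow_mem ⟨a, ha⟩)
  have hA1 : A ≠ ⊥ := fun h1 => hne fun a ha => (hπ a).1 (mem_bot.1 (h1 ▸ mem_map_of_mem π ha))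
  have hKc := Grp.pPrimeCore_coprime p (G ⧸ pCore p G)
  have hAK : A ⊓ K = ⊥ := by
    obtain ⟨k, hk⟩ := (elemAb_isPGroup hA).exists_card_eq
    exact inf_eq_bot_of_coprime (hk ▸ hKc.symm.pow_left k)
  have hKA : ¬ K ≤ centralizer (A : Set _) := fun h1 => hA1 (by
    have := (le_centralizer_iff.1 h1).trans
      (centralizer_pPrimeCore_le_of_isPSolvable (IsPSolvable.quotient hG _) (Grp.pCore_quotient_pCore p G))
    rw [← hAK, inf_eq_left.2 this])
  have hex := mt (le_of_hyperplane_centralizers_le hA hA1 le_normalizer_of_normal hKc (centralizer (A : Set _))) hKA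
  push Not at hex
  obtain ⟨B', hBA, hBi, hB'⟩ := hex
  obtain ⟨k', ⟨hkK, hkB⟩, hkA⟩ := SetLike.not_le_iff_exists.1 hB'
  obtain ⟨k, rfl⟩ := QuotientGroup.mk'_surjective _ k'
  let B := B'.comap π
  have hcomap : A.comap π = Q := by rw [comap_map_eq, QuotientGroup.ker_mk', sup_eq_left.2 hOQ]
  have hBQ : B ≤ Q := hcomap ▸ comap_mono hBA
  have hBi' : (B.subgroupOf Q).index = p := by
    change B.relIndex Q = p
    rw [relIndex_comap]; exact hBi
  have hOB : pCore p G ≤ B := fun x hx => by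
    change π x ∈ B'
    rw [(hπ x).2 hx]; exact one_mem _
  have hkB1 : ∀ b ∈ B, k * b * k⁻¹ ∈ B := fun b hb => by
    change π _ ∈ B'
    rw [map_mul, map_mul, map_inv, ← hkB _ hb, mul_inv_cancel_right]; exact hb
  have hkB2 : ∀ b ∈ B, k⁻¹ * b * k ∈ B := fun b hb => by
    change π _ ∈ B'
    rw [map_mul, map_mul, map_inv, mul_assoc, hkB _ hb, inv_mul_cancel_left]; exact hb
  let Z := (center (Q : Subgroup G)).map (Q : Subgroup G).subtype
  have hZc : ∀ z ∈ Z, ∀ a ∈ (Q : Subgroup G), a * z = z * a := by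
    rintro _ ⟨z, hz, rfl⟩ a ha
    exact congrArg Subtype.val (mem_center_iff.1 hz ⟨a, ha⟩)
  have hZB : Z ≤ B := by
    rintro _ ⟨z, hz, rfl⟩
    exact hOB (hZO z hz)
  have hcZ : ∀ a ∈ (Q : Subgroup G), ∀ b ∈ (Q : Subgroup G), ⁅a, b⁆ ∈ Z := fun a ha b hb =>
    ⟨_, h.comm_mem ⟨a, ha⟩ ⟨b, hb⟩, rfl⟩
  by_cases hkZ : ∀ z ∈ Z, k * z * k⁻¹ ∈ Z
  · have hkn : k ∈ normalizer (Z : Set G) := mem_normalizer_fintype hkZ
    let D : Subgroup G :=
      { carrier := {g | (∀ z ∈ Z, g * z = z * g) ∧ ∀ b ∈ B, g * b * g⁻¹ * b⁻¹ ∈ Z}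
        one_mem' := ⟨fun z _ => by simp, fun b _ => by simp⟩
        mul_mem' := fun {x y} hx hy => ⟨fun z hz => by
            rw [mul_assoc, hy.1 z hz, ← mul_assoc, hx.1 z hz, mul_assoc], fun b hb => by
          have := Z.mul_mem (hy.2 b hb) (hx.2 b hb)
          rw [← mul_assoc, ← mul_assoc, ← mul_assoc, ← hx.1 _ (hy.2 b hb)] at this
          convert this using 1; group⟩
        inv_mem' := fun {x} hx => ⟨fun z hz => by
            rw [inv_mul_eq_iff_eq_mul, ← mul_assoc, hx.1 z hz, mul_inv_cancel_right], fun b hb => by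
          have h1 := Z.inv_mem (hx.2 b hb)
          have h2 := hx.1 _ h1
          have : x⁻¹ * b * x⁻¹⁻¹ * b⁻¹ = x⁻¹ * ((x * b * x⁻¹ * b⁻¹)⁻¹ * x) := by group
          rw [this, ← h2, inv_mul_cancel_left]; exact h1⟩ }
    have hD : IsPGroup p D := by
      rintro ⟨g, hg⟩
      have h1 : g ^ p ∈ pCore p G := hC fun b hb => by
        have hz := hg.2 b (hOB hb)
        have key : ∀ n : ℕ, g ^ n * b = (g * b * g⁻¹ * b⁻¹) ^ n * b * g ^ n := fun n => by
          induction n with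
          | zero => simp
          | succ n ih =>
            rw [pow_succ', mul_assoc, ih, ← mul_assoc, ← mul_assoc, hg.1 _ (pow_mem hz n), pow_succ]
            simp only [mul_assoc, inv_mul_cancel_left]
        obtain ⟨z, hz1, hz2⟩ := hz
        have h2 : (g * b * g⁻¹ * b⁻¹) ^ p = 1 := by
          rw [← hz2]; exact congrArg Subtype.val (h.center_pow hna hz1)
        rw [key, h2, one_mul]
      obtain ⟨j, hj⟩ := Grp.pCore_isPGroup p G ⟨_, h1⟩
      exact ⟨j + 1, Subtype.ext (by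
        have := congrArg Subtype.val hj
        simpa [pow_succ', pow_mul] using this)⟩
    have hDQ : D = Q := Q.is_maximal' hD fun a ha =>
      ⟨fun z hz => hZc z hz a ha, fun b hb => hcZ a ha b (hBQ hb)⟩
    apply hkA
    rintro _ ⟨a, ha, rfl⟩
    have h1 : k * a * k⁻¹ ∈ D := ⟨fun z hz => by
        have := hZc _ ((mem_normalizer_iff''.1 hkn z).1 hz) a ha
        calc k * a * k⁻¹ * z = k * (a * (k⁻¹ * z * k)) * k⁻¹ := by group
          _ = _ := by rw [this]; group, fun b hb => by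
        have := hkZ _ (hcZ a ha _ (hBQ (hkB2 b hb)))
        convert this using 1
        rw [commutatorElement_def]; group⟩
    rw [hDQ] at h1
    have h2 : π k * π a * (π k)⁻¹ * (π a)⁻¹ ∈ A ⊓ K := mem_inf.2 ⟨by
        rw [← map_inv, ← map_inv, ← map_mul, ← map_mul, ← map_mul]
        exact mem_map_of_mem π (mul_mem h1 (inv_mem ha)), by
        have := K.mul_mem hkK (Normal.conj_mem inferInstance _ (K.inv_mem hkK) (π a))
        simpa only [mul_assoc] using this⟩
    rw [hAK, mem_bot, ← commutatorElement_def, commutatorElement_eq_one_iff_mul_comm] at h2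
    exact h2.symm
  · have hkZ' := hkZ
    push Not at hkZ'
    obtain ⟨z, hz, hzk⟩ := hkZ'
    have huB := hkB1 z (hZB hz)
    have hcard : Nat.card (center (Q : Subgroup G)) = p :=
      h.card_center hna (u := ⟨_, hBQ huB⟩) (fun h1 => hzk ⟨_, h1, rfl⟩) hBi' fun b hb => Subtype.ext (by
        have := hZc z hz _ (hBQ (hkB2 b hb))
        change k * z * k⁻¹ * b = b * (k * z * k⁻¹)
        calc k * z * k⁻¹ * b = k * (z * (k⁻¹ * b * k)) * k⁻¹ := by group
          _ = _ := by rw [← this]; group)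
    have hcardZ : Nat.card Z = p := by rw [← hcard]; exact card_map_of_injective (Q : Subgroup G).subtype_injective
    have hgen : ∀ w ∈ Z, k * w * k⁻¹ ∈ Z → w = 1 := fun w hw hkw => by
      by_contra hw1
      rcases eq_bot_or_eq_of_le_of_card_prime hcardZ (zpowers_le.2 hw) with h1 | h1
      · exact hw1 (zpowers_eq_bot.1 h1)
      · rw [← h1] at hz
        obtain ⟨j, rfl⟩ := mem_zpowers_iff.1 hz
        rw [← conj_zpow] at hzk
        exact hzk (zpow_mem hkw j)
    refine h.small hna h3 hcard hBi' (fun a ha b hb => Subtype.ext ?_) (fun b hb => Subtype.ext ?_)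
    · have := hgen _ (hcZ _ a.2 _ b.2) (by
        have := hcZ _ (hBQ (hkB1 _ ha)) _ (hBQ (hkB1 _ hb))
        convert this using 1
        simp only [commutatorElement_def, coe_subtype]; group)
      exact commutatorElement_eq_one_iff_mul_comm.1 this
    · exact hgen _ ⟨_, h.pow_mem b, rfl⟩ (by
        have : (k * b * k⁻¹) ^ p ∈ Z := ⟨_, h.pow_mem ⟨_, hBQ (hkB1 _ hb)⟩, rfl⟩
        rw [conj_pow] at this
        exact this)


/-- Let X be a finite minimal non-nilpotent group (not nilpotent, every proper subgroup nilpotent) with a nontrivial normal Sylow p-subgroup P. If G is a finite p-solvable group whose Sylow p-subgroups are isomorphic to P, then G has p-length at most 1. -/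
theorem result {G X : Type*} [Group G] [Finite G] [Group X] [Finite X] (p : ℕ) [Fact p.Prime]
    (hX : Cfsg.IsMinimalNonNilpotent X) (P : Sylow p X) (hPn : (P : Subgroup X).Normal) (hP1 : (P : Subgroup X) ≠ ⊥)
    (hG : Cfsg.IsPSolvable p G) (Q : Sylow p G) (hQ : Nonempty (↥(Q : Subgroup G) ≃* ↥(P : Subgroup X))) : Cfsg.PLengthLE p 1 G := by
  obtain ⟨e⟩ := hQ
  obtain ⟨q, φ, h⟩ := exists_sch p hX P hPn hP1
  have h1 := h.congr e.symm
  suffices h2 : (Q : Subgroup G) ≤ pPrimePCore p G by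
    rw [pLengthLE_succ_iff, pLengthLE_zero_iff, ← index_eq_card, Nat.coprime_comm,
      Nat.Prime.coprime_iff_not_dvd Fact.out]
    exact fun h3 => Q.not_dvd_index (h3.trans (index_dvd_of_le h2))
  rcases lt_or_ge 3 p with h3 | h3
  · exact big h3 hG Q h1.comm_mem
  · let π := QuotientGroup.mk' (pPrimeCore p G)
    let Q' := Q.mapSurjective (QuotientGroup.mk'_surjective (pPrimeCore p G))
    have hinj : Function.Injective (π.subgroupMap (Q : Subgroup G)) := by
      rw [injective_iff_map_eq_one]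
      intro a ha
      have h4 : (a : G) ∈ (Q : Subgroup G) ⊓ pPrimeCore p G :=
        ⟨a.2, (QuotientGroup.eq_one_iff _).1 (congrArg Subtype.val ha)⟩
      obtain ⟨k, hk⟩ := Q.isPGroup'.exists_card_eq
      rw [inf_eq_bot_of_coprime (hk ▸ (Grp.pPrimeCore_coprime p G).symm.pow_left k), mem_bot] at h4
      exact Subtype.ext h4
    let e' : (Q : Subgroup G) ≃* (Q' : Subgroup _) :=
      MulEquiv.ofBijective (π.subgroupMap (Q : Subgroup G)) ⟨hinj, π.subgroupMap_surjective _⟩
    have := small h3 (IsPSolvable.quotient hG _) (Grp.pPrimeCore_quotient_pPrimeCore p G) Q' (h1.congr e')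
    exact fun a ha => this (mem_map_of_mem π ha)

end Cfsg.Agent.S4394
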