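import Cfsg.Statements.S4395
import Cfsg.Agent.FGS.SchUniv

set_option autoImplicit false
universe u
open Cfsg

namespace Cfsg.Agent.S4395

open Subgroup Cfsg.Agent.SchSyl Cfsg.Agent.Transfer Cfsg.Agent.SchU

section

variable {p q r : ℕ} [hp : Fact p.Prime] [hq : Fact q.Prime] {P G : Type*} [Group P] [Finite P]
  [Group G] [Finite G] {φ : MulAut P} {ι : P →* G} {g : G}

omit [Finite P] [Finite G] in
theorem iota_pow (hι : ∀ x, ι (φ x) = g * ι x * g⁻¹) (n : ℕ) (x : P) :
    ι ((φ ^ n) x) = g ^ n * ι x * (g ^ n)⁻¹ := by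
  induction n with
  | zero => simp
  | succ n ih => rw [pow_succ', MulAut.mul_apply, hι, ih, pow_succ']; group

theorem min_of_model (hpq : p ≠ q) (h : Sch p q φ) (hinj : Function.Injective ι)
    (hι : ∀ x, ι (φ x) = g * ι x * g⁻¹) (hgen : ∀ y, ∃ x, ∃ i : ℕ, y = ι x * g ^ i)
    (hg : orderOf g = q ^ r) :
    ¬ HasNormalPComplement p G ∧ ∀ K : Subgroup G, K ≠ ⊤ → HasNormalPComplement p K := by
  have hcop : q.Coprime p := (Nat.coprime_primes hq.out hp.out).2 hpq.symm
  have hBp : IsPGroup p ι.range := h.pg.of_surjective _ ι.rangeRestrict_surjective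
  haveI hBn : ι.range.Normal := ⟨by
    rintro _ ⟨b, rfl⟩ y
    obtain ⟨x, i, rfl⟩ := hgen y
    exact ⟨x * (φ ^ i) b * x⁻¹, by rw [map_mul, map_mul, map_inv, iota_pow hι]; group⟩⟩
  have hcen : ∀ c : G, (∀ x, ι x * c = c * ι x) → g * c = c * g → c ∈ center G := by
    intro c h1 h2
    rw [mem_center_iff]
    intro y
    obtain ⟨x, i, rfl⟩ := hgen y
    have : Commute (g ^ i) c := Commute.pow_left h2 i
    rw [mul_assoc, this.eq, ← mul_assoc, h1, mul_assoc]
  constructor
  · intro hn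
    have := HasNormalPComplement.mem_centralizer hn hBp (g := g) (le_normalizer_of_normal (mem_top g))
      (hg ▸ hcop.pow_left r)
    refine h.ne_one (MulEquiv.ext fun x => hinj ?_)
    rw [hι, ← this _ ⟨x, rfl⟩, mul_inv_cancel_right]; rfl
  intro K hK
  by_cases hk : ∃ k ∈ K, ∃ x, ∃ i : ℕ, k = ι x * g ^ i ∧ i.Coprime q
  swap
  · push Not at hk
    have hc : g ^ q ∈ center G := hcen _ (fun x => by
      have := iota_pow hι q x
      rw [h.pow] at this
      rw [eq_mul_inv_iff_mul_eq] at this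
      exact this) (Commute.pow_right rfl q)
    haveI : (zpowers (g ^ q)).Normal := ⟨fun n hn y => by
      rw [mem_center_iff.1 (zpowers_le.2 hc hn) y, mul_inv_cancel_right]; exact hn⟩
    refine HasNormalPComplement.of_le (K := zpowers (g ^ q) ⊔ ι.range) ?_ ?_
    · refine hasNormalPComplement_iff_exists_normal.2 ⟨(zpowers (g ^ q)).subgroupOf _, inferInstance,
        ?_, ?_⟩
      · rw [Nat.card_congr (subgroupOfEquivOfLe le_sup_left).toEquiv, Nat.card_zpowers]
        exact (hcop.pow_left r).coprime_dvd_left (hg ▸ orderOf_pow_dvd q)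
      · obtain ⟨n, hn⟩ := hBp.exists_card_eq
        have : (zpowers (g ^ q)).relIndex (zpowers (g ^ q) ⊔ ι.range) ∣ p ^ n := by
          rw [relIndex_sup_left, ← hn]; exact relIndex_dvd_card _ _
        obtain ⟨m, -, hm⟩ := (Nat.dvd_prime_pow hp.out).1 this
        exact ⟨m, hm⟩
    · intro k hkK
      obtain ⟨x, i, rfl⟩ := hgen k
      obtain ⟨c, rfl⟩ : q ∣ i := by
        by_contra hd
        exact hk _ hkK x i rfl ((Nat.Prime.coprime_iff_not_dvd hq.out).2 hd).symm
      rw [pow_mul]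
      exact mul_mem (mem_sup_right ⟨x, rfl⟩) (mem_sup_left (pow_mem (mem_zpowers _) c))
  obtain ⟨k, hkK, x, i, hk, hi⟩ := hk
  obtain ⟨m, hm⟩ := exists_pow_eq_self_of_coprime (hg ▸ hi.pow_right r : i.Coprime (orderOf g))
  let U := K.comap ι
  have hU : ∀ u ∈ U, ∃ u' ∈ U, (φ ^ i) u = x⁻¹ * u' * x := by
    intro u hu
    obtain ⟨u', hu'⟩ := hBn.conj_mem _ ⟨u, rfl⟩ k
    refine ⟨u', ?_, hinj ?_⟩
    · show ι u' ∈ K
      rw [hu']; exact K.mul_mem (K.mul_mem hkK hu) (K.inv_mem hkK)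
    · rw [iota_pow hι, map_mul, map_mul, map_inv, hu', hk]; group
  haveI := normal_of_fixS_le h le_rfl
  have hfix : ∀ z ∈ fixS φ, ∀ n : ℕ, (φ ^ n) z = z := by
    intro z hz n
    induction n with
    | zero => rfl
    | succ n ih => rw [pow_succ', MulAut.mul_apply, ih, mem_fixS.1 hz]
  have hUZ : U ≤ fixS φ := by
    by_cases hW : U ⊔ fixS φ = ⊤
    · refine h.fix U (fun e => hK ?_) (inv_of_pow h hi fun u hu => ?_)
      · have hB : ∀ y, ι y ∈ K := fun y => (e ▸ mem_top y : y ∈ U)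
        have hgK : g ∈ K := by
          rw [← hm]
          exact K.pow_mem ((K.mul_mem_cancel_left (hB x)).1 (hk ▸ hkK)) m
        rw [eq_top_iff]
        intro y _
        obtain ⟨x, i, rfl⟩ := hgen y
        exact K.mul_mem (hB x) (K.pow_mem hgK i)
      · obtain ⟨u', hu', e⟩ := hU u hu
        obtain ⟨a, ha, z, hz, rfl⟩ := mem_sup_of_normal_right.1 (hW ▸ mem_top x : x ∈ U ⊔ fixS φ)
        have hz' := mem_center_iff.1 (fixS_le_center h hz)
        rw [e, ← mul_assoc, hz', mul_inv_rev, mul_assoc z⁻¹, mul_assoc z⁻¹, mul_inv_cancel_left]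
        exact U.mul_mem (U.mul_mem (U.inv_mem ha) hu') ha
    · have hWn := normal_of_fixS_le h (U := U ⊔ fixS φ) le_sup_right
      refine le_sup_left.trans (h.fix _ hW (inv_of_pow h hi fun w hw => ?_))
      obtain ⟨a, ha, z, hz, rfl⟩ := mem_sup_of_normal_right.1 hw
      obtain ⟨u', hu', e⟩ := hU a ha
      rw [map_mul, hfix z hz, e]
      exact mul_mem (by simpa using hWn.conj_mem _ (mem_sup_left hu') x⁻¹) (mem_sup_right hz)
  have hel : ∀ y ∈ K, ∃ c ∈ center G, ∃ n : ℕ, y = c * k ^ n := by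
    intro y hy
    obtain ⟨x', j, rfl⟩ := hgen y
    have hι1 : ∀ w, ((ι w : G) : G ⧸ ι.range) = 1 := fun w =>
      (QuotientGroup.eq_one_iff (N := ι.range) _).2 ⟨w, rfl⟩
    have h1 : (k : G ⧸ ι.range) = (g ^ i : G) := by
      rw [hk, QuotientGroup.mk_mul, hι1, one_mul]
    have h2 : ι x' * g ^ j * (k ^ (m * j))⁻¹ ∈ ι.range := by
      rw [← QuotientGroup.eq_one_iff, QuotientGroup.mk_mul, QuotientGroup.mk_mul,
        hι1, one_mul, QuotientGroup.mk_inv,
        QuotientGroup.mk_pow _ k, h1, ← QuotientGroup.mk_pow, pow_mul, hm, mul_inv_cancel]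
    obtain ⟨u, hu⟩ := h2
    have h3 : u ∈ fixS φ := hUZ (show ι u ∈ K from
      hu ▸ K.mul_mem hy (K.inv_mem (K.pow_mem hkK _)))
    refine ⟨ι u, hcen _ (fun x => ?_) ?_, m * j, by rw [hu]; group⟩
    · rw [← map_mul, ← map_mul, mem_center_iff.1 (fixS_le_center h h3)]
    · have := hι u
      rw [mem_fixS.1 h3, eq_mul_inv_iff_mul_eq] at this
      exact this.symm
  letI : CommGroup K :=
    { (inferInstance : Group K) with
      mul_comm := fun a b => Subtype.ext (by
        obtain ⟨c, hc, n, e⟩ := hel a a.2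
        obtain ⟨d, hd, m, e'⟩ := hel b b.2
        have h1 : ∀ y, Commute y c := mem_center_iff.1 hc
        have h2 : ∀ y, Commute y d := mem_center_iff.1 hd
        show (a : G) * b = b * a
        rw [e, e']
        exact (((h1 _).symm.mul_right (h1 _).symm).mul_left
          ((h2 _).mul_right ((Commute.refl k).pow_pow n m))).eq) }
  exact hasNormalPComplement_of_isNilpotent p

omit [Finite P] in
theorem exists_model (h1 : ¬ HasNormalPComplement p G)
    (h2 : ∀ K : Subgroup G, K ≠ ⊤ → HasNormalPComplement p K) {t : ℕ} (hpq : p ≠ q)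
    (hc : Nat.card G = p ^ t * q ^ r) :
    ∃ (B : Subgroup G) (_ : B.Normal) (g : G), Sch p q (MulAut.conjNormal g : MulAut B) ∧
      orderOf g = q ^ r ∧ zpowers g ⊔ B = ⊤ ∧ zpowers g ⊓ B = ⊥ := by
  obtain ⟨B, q', g, hBn, hB, hq', hne, ⟨k, hk⟩, hgc, htop⟩ :=
    exists_of_minimal_not_hasNormalPComplement h1 h2
  haveI := Fact.mk hq'
  have hk0 : k ≠ 0 := by
    rintro rfl
    rw [pow_zero, orderOf_eq_one_iff] at hk
    exact hgc (hk ▸ one_mem _)
  obtain rfl : q' = q := by
    have : q' ∣ p ^ t * q ^ r := hc ▸ (hk ▸ dvd_pow_self q' hk0 : q' ∣ orderOf g).trans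
      (orderOf_dvd_natCard g)
    rcases (Nat.Prime.dvd_mul hq').1 this with h3 | h3
    · exact absurd ((Nat.prime_dvd_prime_iff_eq hq' hp.out).1 (hq'.dvd_of_dvd_pow h3)) hne
    · exact (Nat.prime_dvd_prime_iff_eq hq' hq.out).1 (hq'.dvd_of_dvd_pow h3)
  have hcop : q'.Coprime p := (Nat.coprime_primes hq' hp.out).2 hne
  have hg : IsPGroup q' (zpowers g) := IsPGroup.of_card ((Nat.card_zpowers g).trans hk)
  have hdis : zpowers g ⊓ B = ⊥ := (IsPGroup.disjoint_of_ne q' p hne _ _ hg hB).eq_bot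
  have hcent : ∀ (y : G) (U : Subgroup G), y ∈ zpowers g → U ≤ B → y ∈ normalizer (U : Set G) →
      zpowers y ⊔ U ≠ ⊤ → ∀ u ∈ U, y * u * y⁻¹ = u := fun y U hy hU hn hne u hu => by
    have := HasNormalPComplement.mem_centralizer_of_le (h2 _ hne) (hB.to_le hU) le_sup_right
      (mem_sup_left (mem_zpowers y)) hn
      ((hcop.pow_left k).coprime_dvd_left (hk ▸ orderOf_dvd_of_mem_zpowers hy)) u hu
    rw [← this, mul_inv_cancel_right]
  refine ⟨B, hBn, g, ⟨hB, hq', hne, ?_, fun h => hgc ?_, fun U hU hinv u hu => ?_⟩, ?_, htop, hdis⟩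
  · rw [← map_pow]
    ext u
    refine hcent (g ^ q') B (pow_mem (mem_zpowers g) q') le_rfl
      (le_normalizer_of_normal (mem_top _)) (fun h => ?_) u u.2
    obtain ⟨a, ha, b, hb, hab⟩ := mem_sup_of_normal_right.1 (h ▸ mem_top g : g ∈ zpowers (g ^ q') ⊔ B)
    have hb1 : b = 1 := by
      have : b ∈ zpowers g ⊓ B := mem_inf.2 ⟨by
        rw [eq_inv_mul_of_mul_eq hab]
        exact mul_mem (inv_mem (zpowers_le.2 (pow_mem (mem_zpowers g) q') ha)) (mem_zpowers g), hb⟩
      rwa [hdis, mem_bot] at this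
    rw [hb1, mul_one] at hab
    subst hab
    have h1 : q'.Coprime (orderOf a) := mem_zpowers_pow_iff.1 ha
    rw [hk] at h1
    exact hq'.one_lt.ne' (Nat.Coprime.eq_one_of_dvd h1 (dvd_pow_self q' hk0))
  · intro u hu
    have := congrArg Subtype.val (DFunLike.congr_fun h ⟨u, hu⟩)
    exact (mul_inv_eq_iff_eq_mul.1 this).symm
  · have hn : g ∈ normalizer ((U.map B.subtype : Subgroup G) : Set G) := by
      refine PLocal.Amb.mem_normalizer_of_cj_le (PLocal.Amb.cj_le_iff_forall.2 ?_)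
      rintro _ ⟨v, hv, rfl⟩
      exact ⟨_, hinv v hv, rfl⟩
    refine Subtype.ext (hcent g _ (mem_zpowers g) (map_subtype_le U) hn (fun h => hU ?_) u ⟨u, hu, rfl⟩)
    rw [eq_top_iff]
    intro v _
    obtain ⟨a, ha, _, ⟨b, hb, rfl⟩, hab⟩ := (PLocal.Amb.mem_sup_of_le_normalizer_right
      (zpowers_le.2 hn)).1 (h ▸ mem_top _ : (v : G) ∈ zpowers g ⊔ U.map B.subtype)
    have : a ∈ zpowers g ⊓ B := ⟨ha, by
      rw [eq_mul_inv_of_mul_eq hab.symm]; exact B.mul_mem v.2 (B.inv_mem b.2)⟩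
    rw [hdis, mem_bot] at this
    rw [this, one_mul] at hab
    rwa [show v = b from Subtype.ext hab]
  · obtain ⟨n, hn⟩ := hB.exists_card_eq
    have h3 : (zpowers g).IsComplement' B :=
      isComplement'_of_disjoint_and_mul_eq_univ (disjoint_iff.2 hdis) (by
        rw [← mul_normal, htop, coe_top])
    have h4 := h3.card_mul
    rw [Nat.card_zpowers, hk, hn, hc] at h4
    have h5 := congrArg (fun m => m.factorization q') h4
    simp only [Nat.factorization_mul (pow_pos hq'.pos _).ne' (pow_pos hp.out.pos _).ne',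
      Nat.factorization_mul (pow_pos hp.out.pos _).ne' (pow_pos hq'.pos _).ne',
      hq'.factorization_pow, hp.out.factorization_pow, Finsupp.add_apply, Finsupp.single_eq_same,
      Finsupp.single_eq_of_ne hne] at h5
    rw [hk]; congr 1; omega

end


/-- Let p ≠ q be primes, r ≥ 1, a the multiplicative order of p modulo q, and a₀ = a when a is odd, a₀ = 3a/2 when a is even. Call a finite group minimal non-p-nilpotent when it has no normal p-complement but every proper subgroup has one. Then there is a minimal non-p-nilpotent group G₀ of order p^a₀ · q^r such that every minimal non-p-nilpotent group of order p^t · q^r (any t) is a quotient of G₀ by a central subgroup. -/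
theorem result (p q r : ℕ) [Fact p.Prime] [Fact q.Prime] (hpq : p ≠ q) (hr : 1 ≤ r) (a a₀ : ℕ)
    (ha : a = orderOf (p : ZMod q)) (ha₀ : a₀ = if a % 2 = 1 then a else 3 * a / 2) :
    ∃ (G₀ : Type u) (_ : Group G₀) (_ : Finite G₀),
      (¬ Cfsg.HasNormalPComplement p G₀ ∧ ∀ K : Subgroup G₀, K ≠ ⊤ → Cfsg.HasNormalPComplement p ↥K) ∧ Nat.card G₀ = p ^ a₀ * q ^ r ∧
      ∀ (X : Type u) [Group X] [Finite X], (¬ Cfsg.HasNormalPComplement p X ∧ ∀ K : Subgroup X, K ≠ ⊤ → Cfsg.HasNormalPComplement p ↥K) →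
        (∃ t : ℕ, Nat.card X = p ^ t * q ^ r) → ∃ φ : G₀ →* X, Function.Surjective φ ∧ φ.ker ≤ Subgroup.center G₀ := by
  have hq : q.Prime := Fact.out
  obtain ⟨F, _, _, ζ, hF⟩ := exists_gen hpq
  obtain ⟨Z, β, hβ, hgen, hcard, huniv⟩ := hF.exists_form.{u}
  rw [← ha, ← ha₀] at hcard
  have hS := sch_rot.{u} hpq hF hβ hgen hcard
  haveI : NeZero (q ^ r) := ⟨(pow_pos hq.pos r).ne'⟩
  let C := Multiplicative (ZMod (q ^ r))
  have hC : Nat.card C = q ^ r := Nat.card_zmod _
  obtain ⟨c, hc⟩ := IsCyclic.exists_generator (α := C)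
  have hco : orderOf c = q ^ r := (orderOf_eq_card_of_forall_mem_zpowers hc).trans hC
  have hc' : ∀ d : C, ∃ i : ℕ, d = c ^ i := fun d => by
    obtain ⟨i, hi⟩ := (mem_powers_iff_mem_zpowers.2 (hc d))
    exact ⟨i, hi.symm⟩
  let act : C →* MulAut (Heis.{u} β) := monoidHomOfForallMemZpowers hc
    (g' := rot hF.ne_zero hβ) (by
      rw [hco]
      exact (orderOf_dvd_of_pow_eq_one hS.pow).trans (dvd_pow_self q (by omega)))
  have hact : act c = rot hF.ne_zero hβ := monoidHomOfForallMemZpowers_apply_gen _ _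
  haveI : Finite (Heis.{u} β ⋊[act] C) := Finite.of_equiv _ SemidirectProduct.equivProd.symm
  refine ⟨Heis.{u} β ⋊[act] C, inferInstance, inferInstance,
    min_of_model (r := r) (g := SemidirectProduct.inr c) hpq hS SemidirectProduct.inl_injective
      (fun x => by rw [← hact, SemidirectProduct.inl_aut, map_inv]) (fun y => ?_) ?_, ?_, ?_⟩
  · obtain ⟨i, hi⟩ := hc' y.right
    exact ⟨y.left, i, by rw [← map_pow, ← hi, SemidirectProduct.inl_left_mul_inr_right]⟩
  · rw [orderOf_injective _ SemidirectProduct.inr_injective, hco]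
  · rw [SemidirectProduct.card, card_heis, hcard, hC]
  rintro X _ _ ⟨h1, h2⟩ ⟨t, ht⟩
  obtain ⟨B, hBn, g, hsch, hg, htop, hdis⟩ := exists_model h1 h2 hpq ht
  obtain ⟨j, hj, ψ, hψs, hψφ, hψ1⟩ := exists_psi hsch hF hβ hgen huniv
  have hgj : orderOf (g ^ j) = q ^ r := by
    rw [← hg]; exact Nat.Coprime.orderOf_pow (hg ▸ (hj.pow_right r).symm)
  let fg : C →* X := monoidHomOfForallMemZpowers hc (g' := g ^ j) (by rw [hco, hgj])
  have hfg : fg c = g ^ j := monoidHomOfForallMemZpowers_apply_gen _ _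
  have hι : ∀ x, (B.subtype.comp ψ) (rot hF.ne_zero hβ x) =
      g ^ j * (B.subtype.comp ψ) x * (g ^ j)⁻¹ := fun x => by
    rw [MonoidHom.comp_apply, hψφ, ← map_pow]; rfl
  refine ⟨SemidirectProduct.lift (B.subtype.comp ψ) fg (fun d => MonoidHom.ext fun x => ?_), ?_, ?_⟩
  · obtain ⟨i, rfl⟩ := hc' d
    show (B.subtype.comp ψ) (act (c ^ i) x) = fg (c ^ i) * (B.subtype.comp ψ) x * (fg (c ^ i))⁻¹
    rw [map_pow, hact, iota_pow hι, map_pow, hfg]
  · rw [← MonoidHom.range_eq_top, eq_top_iff, ← htop, sup_le_iff, zpowers_le]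
    constructor
    · obtain ⟨m, hm⟩ := exists_pow_eq_self_of_coprime (hg ▸ hj.pow_right r : j.Coprime (orderOf g))
      exact ⟨SemidirectProduct.inr (c ^ m), by rw [SemidirectProduct.lift_inr, map_pow, hfg, hm]⟩
    · intro b hb
      obtain ⟨x, hx⟩ := hψs ⟨b, hb⟩
      exact ⟨SemidirectProduct.inl x, by
        rw [SemidirectProduct.lift_inl, MonoidHom.comp_apply, hx]; rfl⟩
  · intro y hy
    have hy' : (ψ y.left : X) * fg y.right = 1 := hy
    obtain ⟨i, hi⟩ := hc' y.right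
    have h3 : fg y.right ∈ zpowers g ⊓ B := ⟨by
      rw [hi, map_pow, hfg]; exact pow_mem (pow_mem (mem_zpowers g) j) i, by
      rw [eq_inv_of_mul_eq_one_right hy']; exact B.inv_mem (ψ y.left).2⟩
    rw [hdis, mem_bot] at h3
    have h4 : y.right = 1 := by
      rw [hi, map_pow, hfg, ← orderOf_dvd_iff_pow_eq_one, hgj] at h3
      rw [hi, ← orderOf_dvd_iff_pow_eq_one, hco]; exact h3
    rw [h3, mul_one] at hy'
    have h5 := hψ1 _ (Subtype.ext hy')
    rw [mem_center_iff]
    intro w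
    obtain ⟨n, hn⟩ := hc' w.right
    have h6 : act w.right y.left = y.left := by
      rw [hn, map_pow, hact, rot_pow]
      exact Heis.ext (by simp [h5]) rfl
    ext
    · simp [h4, h6, h5]
    · rw [SemidirectProduct.mul_left, SemidirectProduct.mul_left, h4, h6, map_one, MulAut.one_apply,
        central _ _ h5]
    · simp [h4]

end Cfsg.Agent.S4395
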