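import Cfsg.Statements.S4404
import Cfsg.Agent.XG.Basic
import Cfsg.Agent.Grp.AutCard
import Cfsg.Agent.Grp.AutPrimeCount
import Cfsg.Agent.Grp.PRank
import Cfsg.Agent.Grp.UniqueOrderP
import Cfsg.Agent.Grp.CardProduct
import Cfsg.Agent.PLocal.AmbSyl
import Cfsg.Agent.Solv.HallPi
import Cfsg.Agent.Solv.CoprimeSylow
import Cfsg.Agent.S1450

set_option autoImplicit false
open Cfsg

namespace Cfsg.Agent.S4404

open Subgroup Cfsg.Agent.Solv Cfsg.Agent.Solv.Ext Cfsg.Agent.XG Cfsg.Agent.PLocal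
  Cfsg.Agent.PLocal.Amb
open scoped commutatorElement IsMulCommutative

theorem not_sq_dvd {p : ℕ} (hp : p.Prime) (hp2 : p ≠ 2) (hp3 : p ≠ 3) : ¬ p ^ 2 ∣ 20160 := by
  intro h1
  have h2 : p ^ 2 ∣ 35 := (Nat.Coprime.mul_right
    (((Nat.coprime_primes hp Nat.prime_two).2 hp2).pow 2 6)
    (((Nat.coprime_primes hp Nat.prime_three).2 hp3).pow 2 2)).dvd_of_dvd_mul_left h1
  have h3 : p ≤ 5 := by
    by_contra hh
    have := Nat.le_of_dvd (by norm_num) h2
    nlinarith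
  have := hp.two_le
  interval_cases p <;> simp_all

theorem zmod5 : ∀ a : ZMod 5, a ^ 3 = 1 → a = 1 := by decide

section

variable {V : Type*} [CommGroup V]

/-- `[V, g]` -/
def Cm (g : MulAut V) : Subgroup V where
  carrier := {v | ∃ m, v = m⁻¹ * g m}
  one_mem' := ⟨1, by simp⟩
  mul_mem' := by
    rintro _ _ ⟨m, rfl⟩ ⟨n, rfl⟩
    exact ⟨m * n, by rw [map_mul, mul_inv, mul_mul_mul_comm]⟩
  inv_mem' := by
    rintro _ ⟨m, rfl⟩
    exact ⟨m⁻¹, by rw [map_inv, mul_inv]⟩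

/-- automorphisms trivial modulo `W` -/
def Mv (W : Subgroup V) : Subgroup (MulAut V) where
  carrier := {g | ∀ m, m⁻¹ * g m ∈ W}
  one_mem' := fun m => by simp
  mul_mem' := fun {g h} hg hh m => by
    have := W.mul_mem (hh m) (hg (h m))
    rwa [mul_assoc, mul_inv_cancel_left] at this
  inv_mem' := fun {g} hg m => by
    have := W.inv_mem (hg (g⁻¹ m))
    rwa [MulAut.apply_inv_self, mul_inv, inv_inv, mul_comm] at this

theorem Cm_le_iff {g : MulAut V} {W : Subgroup V} : Cm g ≤ W ↔ g ∈ Mv W :=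
  ⟨fun h m => h ⟨m, rfl⟩, fun h _ ⟨m, e⟩ => e ▸ h m⟩

theorem mem_Mv_self (g : MulAut V) : g ∈ Mv (Cm g) := Cm_le_iff.1 le_rfl

theorem apply_mem {g : MulAut V} {W : Subgroup V} (h : g ∈ Mv W) {w : V} (hw : w ∈ W) : g w ∈ W := by
  have := W.mul_mem hw (h w)
  rwa [mul_inv_cancel_left] at this

theorem mem_Cm_conj {g r : MulAut V} {v : V} : r v ∈ Cm (r * g * r⁻¹) ↔ v ∈ Cm g := by
  constructor
  · rintro ⟨m, e⟩
    refine ⟨r⁻¹ m, r.injective ?_⟩
    rw [e, map_mul, map_inv, MulAut.apply_inv_self]; rfl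
  · rintro ⟨m, rfl⟩
    exact ⟨r m, by simp⟩

theorem card_Cm_conj (g r : MulAut V) : Nat.card (Cm (r * g * r⁻¹)) = Nat.card (Cm g) :=
  (Nat.card_congr (r.toEquiv.subtypeEquiv fun _ => mem_Cm_conj.symm)).symm

variable [Finite V] (he : ∀ v : V, v ^ 2 = 1)
include he

omit [Finite V] in
theorem two : IsPGroup 2 V := fun v => ⟨1, by rw [pow_one, he]⟩

omit [Finite V] in
theorem eq_one_of_fix {g : MulAut V} (hg : Odd (orderOf g)) {v : V} (hv : v ∈ Cm g) (h : g v = v) :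
    v = 1 := by
  obtain ⟨m, rfl⟩ := hv
  have : g m = m := fix_of_fix_diff (A := MulAut V) (two he) hg h
  rw [this, inv_mul_cancel]

omit he in
theorem le_Cm {g : MulAut V} {K : Subgroup V} (hK : ∀ v ∈ K, g v ∈ K)
    (hf : ∀ v ∈ K, g v = v → v = 1) : K ≤ Cm g := by
  let f : K → K := fun v => ⟨(v : V)⁻¹ * g v, K.mul_mem (K.inv_mem v.2) (hK v v.2)⟩
  have hinj : Function.Injective f := by
    intro a b e
    have e' : (a : V)⁻¹ * g a = (b : V)⁻¹ * g b := congrArg Subtype.val e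
    have := hf (a * (b : V)⁻¹) (K.mul_mem a.2 (K.inv_mem b.2)) (by
      rw [map_mul, map_inv, mul_inv_eq_iff_eq_mul, mul_assoc, ← e', mul_inv_cancel_left])
    exact Subtype.ext (mul_inv_eq_one.1 this)
  intro v hv
  obtain ⟨m, hm⟩ := Finite.surjective_of_injective hinj ⟨v, hv⟩
  exact ⟨m, (congrArg Subtype.val hm).symm⟩

theorem card_mod {g : MulAut V} {r : ℕ} (hr : r.Prime) (hr2 : r ≠ 2) (hg : g ^ r = 1)
    {K : Subgroup V} (hK : ∀ v ∈ K, g v ∈ K) (hle : K ≤ Cm g) : Nat.card K ≡ 1 [MOD r] := by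
  have h1 := Grp.APC.card_modEq_fix hr hg K hK
  have : K ⊓ Grp.APC.fixSub g = ⊥ := eq_bot_iff.2 fun v hv => eq_one_of_fix he
    ((hr.odd_of_ne_two hr2).of_dvd_nat (orderOf_dvd_of_pow_eq_one hg)) (hle hv.1) hv.2
  rwa [this, card_bot] at h1

theorem irr {g : MulAut V} (hg : g ^ 3 = 1) (h4 : Nat.card (Cm g) = 4) {K : Subgroup V}
    (hK : ∀ v ∈ K, g v ∈ K) (hne : Cm g ⊓ K ≠ ⊥) : Cm g ≤ K := by
  have h1 := card_mod he Nat.prime_three (by norm_num) hg (K := Cm g ⊓ K)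
    (fun v hv => ⟨apply_mem (mem_Mv_self g) hv.1, hK v hv.2⟩) inf_le_left
  have h2 : Nat.card (Cm g ⊓ K : Subgroup V) ≤ 4 := h4 ▸ card_le_of_le inf_le_left
  have h3 : Nat.card (Cm g ⊓ K : Subgroup V) ≠ 1 := fun e => hne (card_eq_one.1 e)
  unfold Nat.ModEq at h1
  exact inf_eq_left.1 (eq_of_le_of_card_ge inf_le_left (by omega))

theorem index_dvd {A : Type*} [Group A] [MulDistribMulAction A V] {B : Subgroup V} (hB : Inv A B)
    {k : ℕ} (hk : Nat.card B = 2 ^ k) :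
    (Ker A B).index ∣ ∏ i ∈ Finset.range k, (2 ^ k - 2 ^ i) := by
  obtain ⟨φ, hφ⟩ := exists_toMulAut hB
  have hk' : φ.ker = Ker A B := by
    ext a
    constructor
    · intro ha x hx
      have := hφ a ⟨x, hx⟩
      rw [MonoidHom.mem_ker.1 ha] at this
      exact this.symm
    · intro ha
      exact MulEquiv.ext fun x => Subtype.ext (by rw [hφ]; exact ha x x.2)
  rw [← hk', ← Grp.card_mulAut_of_elemAb mul_comm (fun x => Subtype.ext (he x)) hk, index_ker]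
  have : Finite (MulAut B) := Finite.of_injective _ DFunLike.coe_injective
  exact card_subgroup_dvd_card _

theorem index_dvd' {A : Type*} [Group A] [MulDistribMulAction A V] {B : Subgroup V} (hB : Inv A B)
    (h16 : Nat.card B ≤ 16) : (Ker A B).index ∣ 20160 := by
  obtain ⟨k, hk⟩ := ((two he).to_subgroup B).exists_card_eq
  refine (index_dvd he hB hk).trans ?_
  have : k ≤ 4 := (Nat.pow_le_pow_iff_right one_lt_two).1 (by rw [← hk]; simpa using h16)
  interval_cases k <;> decide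

theorem card_dvd {W : Subgroup V} (h16 : Nat.card W ≤ 16) {J : Subgroup (MulAut V)}
    (hJ : J ≤ Mv W) (hodd : ∀ g ∈ J, Odd (orderOf g)) : Nat.card J ∣ 20160 := by
  have h1 := index_dvd' he (A := J) (B := W) (fun g w hw => apply_mem (hJ g.2) hw) h16
  have : Ker J W = ⊥ := eq_bot_iff.2 fun g hg => Subtype.ext (MulEquiv.ext fun m =>
    fix_of_fix_diff (A := MulAut V) (two he) (hodd g g.2) (hg _ (hJ g.2 m)))
  rwa [this, index_bot] at h1

omit he in
theorem card_sup_le {g h : MulAut V} (hg : Nat.card (Cm g) = 4) (hh : Nat.card (Cm h) = 4) :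
    Nat.card (Cm g ⊔ Cm h : Subgroup V) ≤ 16 := by
  have := Grp.card_sup_dvd (Cm g) (Cm h)
  rw [hg, hh] at this
  exact Nat.le_of_dvd (by norm_num) this

theorem three {T : Subgroup (MulAut V)} (hT : IsPGroup 3 T) {x b : MulAut V} (hx : x ∈ T)
    (hb : b ∈ T) (h3 : x ^ 3 = 1) (h4 : Nat.card (Cm x) = 4)
    (hc : Commute b (x⁻¹ * (b * x * b⁻¹))) : Cm (b * x * b⁻¹) = Cm x := by
  have hfin : Finite (MulAut V) := Finite.of_injective _ DFunLike.coe_injective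
  obtain ⟨y, hy⟩ : ∃ y, y = b * x * b⁻¹ := ⟨_, rfl⟩
  have hy4 : Nat.card (Cm y) = 4 := by rw [hy, card_Cm_conj, h4]
  have hy3 : y ^ 3 = 1 := by rw [hy, conj_pow, h3]; group
  have hyT : y ∈ T := hy ▸ T.mul_mem (T.mul_mem hb hx) (T.inv_mem hb)
  have hw : b * y * b⁻¹ = y * x⁻¹ * y := by
    rw [← hy] at hc
    calc b * y * b⁻¹ = (b * x * b⁻¹) * (b * (x⁻¹ * y)) * b⁻¹ := by group
      _ = y * x⁻¹ * y := by rw [hc.eq, ← hy]; group
  rw [← hy]
  have hJ : IsPGroup 3 (T ⊓ Mv (Cm x ⊔ Cm y) : Subgroup _) := hT.to_inf_left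
  have hodd : ∀ g ∈ T, Odd (orderOf g) := fun g hg => by
    obtain ⟨k, hk⟩ := IsPGroup.iff_orderOf.1 hT ⟨g, hg⟩
    rw [← orderOf_coe] at hk
    rw [hk]
    exact Odd.pow (by decide)
  have hd := card_dvd he (card_sup_le h4 hy4) (J := T ⊓ Mv (Cm x ⊔ Cm y)) inf_le_right
    fun g hg => hodd g hg.1
  obtain ⟨k, hk⟩ := hJ.exists_card_eq
  have hk2 : k ≤ 2 := by
    by_contra hh
    rw [hk] at hd
    exact absurd ((pow_dvd_pow 3 (show 3 ≤ k by omega)).trans hd) (by norm_num)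
  have hcomm : IsMulCommutative (T ⊓ Mv (Cm x ⊔ Cm y) : Subgroup _) := by
    obtain rfl | h | h : k = 2 ∨ k = 1 ∨ k = 0 := by omega
    · exact IsPGroup.isMulCommutative_of_card_eq_prime_sq hk
    · rw [h, pow_one] at hk
      have := isCyclic_of_prime_card hk
      infer_instance
    · rw [h, pow_zero] at hk
      rw [card_eq_one.1 hk]
      infer_instance
  have hxy : Commute x y := setLike_mul_comm (s := (T ⊓ Mv (Cm x ⊔ Cm y) : Subgroup _))
    ⟨hx, Cm_le_iff.1 le_sup_left⟩ ⟨hyT, Cm_le_iff.1 le_sup_right⟩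
  have hw' : b * y * b⁻¹ = x⁻¹ * y⁻¹ := by
    rw [hw, ← hxy.inv_left.eq, mul_assoc, eq_inv_of_mul_eq_one_left (show y * y * y = 1 by
      rw [← hy3]; simp [pow_succ])]
  have hxU : ∀ v ∈ Cm y, x v ∈ Cm y := fun v hv => by
    have := (mem_Cm_conj (r := x)).2 hv
    rwa [hxy.eq, mul_inv_cancel_right] at this
  have hyU : ∀ v ∈ Cm x, y v ∈ Cm x := fun v hv => by
    have := (mem_Cm_conj (r := y)).2 hv
    rwa [← hxy.eq, mul_inv_cancel_right] at this
  by_cases hne : Cm x ⊓ Cm y = ⊥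
  swap
  · exact (eq_of_le_of_card_ge (irr he h3 h4 hxU hne) (by rw [h4, hy4])).symm
  exfalso
  have f1 : ∀ v ∈ Cm x, y v = v := fun v hv => by
    have : v⁻¹ * y v ∈ Cm x ⊓ Cm y := ⟨(Cm x).mul_mem ((Cm x).inv_mem hv) (hyU v hv), v, rfl⟩
    rw [hne, mem_bot, inv_mul_eq_one] at this
    exact this.symm
  have f2 : ∀ v ∈ Cm y, x v = v := fun v hv => by
    have : v⁻¹ * x v ∈ Cm x ⊓ Cm y := ⟨⟨v, rfl⟩, (Cm y).mul_mem ((Cm y).inv_mem hv) (hxU v hv)⟩
    rw [hne, mem_bot, inv_mul_eq_one] at this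
    exact this.symm
  have l1 : Cm x ≤ Cm (y * x) := le_Cm (fun v hv => hyU _ (apply_mem (mem_Mv_self x) hv))
    fun v hv e => eq_one_of_fix he (hodd x hx) hv
      (by rwa [MulAut.mul_apply, f1 _ (apply_mem (mem_Mv_self x) hv)] at e)
  have l2 : Cm y ≤ Cm (y * x) := le_Cm (fun v hv => apply_mem (mem_Mv_self y) (hxU v hv))
    fun v hv e => eq_one_of_fix he (hodd y hyT) hv (by rwa [MulAut.mul_apply, f2 _ hv] at e)
  have l3 : Cm (y * x) ≤ Cm (b * y * b⁻¹) := Cm_le_iff.2 (by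
    rw [← inv_mem_iff, mul_inv_rev, ← hw']; exact mem_Mv_self _)
  have c1 := card_le_of_le ((sup_le l1 l2).trans l3)
  rw [Grp.card_sup_of_disjoint _ _ hne, card_Cm_conj, h4, hy4] at c1
  omega

theorem pair {p : ℕ} (hp : p.Prime) (hp2 : p ≠ 2) (hp3 : p ≠ 3) {R : Subgroup (MulAut V)}
    (hR : IsPGroup p R) {g h : MulAut V} (hg : g ∈ 𝐍[R]) (hg3 : g ^ 3 = 1) (hh3 : h ^ 3 = 1)
    (hg4 : Nat.card (Cm g) = 4) (hh4 : Nat.card (Cm h) = 4) (hy : g⁻¹ * h ∈ R) :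
    Nat.card (Cm g ⊔ Cm h : Subgroup V) ≤ 8 := by
  have hfin : Finite (MulAut V) := Finite.of_injective _ DFunLike.coe_injective
  have := Fact.mk hp
  obtain ⟨y, rfl⟩ : ∃ y, h = g * y := ⟨g⁻¹ * h, by group⟩
  rw [inv_mul_cancel_left] at hy
  by_cases hy1 : y = 1
  · rw [hy1, mul_one, sup_idem, hg4]; norm_num
  have h16 := card_sup_le hg4 hh4
  obtain ⟨W, hW⟩ : ∃ W, W = Cm g ⊔ Cm (g * y) := ⟨_, rfl⟩
  have m1 : g ∈ Mv W := Cm_le_iff.1 (hW ▸ le_sup_left)
  have m2 : y ∈ Mv W := ((Mv W).mul_mem_cancel_left m1).1 (Cm_le_iff.1 (hW ▸ le_sup_right))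
  rw [← hW] at h16 ⊢
  have hd := card_dvd he h16 (J := R ⊓ Mv W) inf_le_right fun g hg => by
    obtain ⟨k, hk⟩ := IsPGroup.iff_orderOf.1 hR ⟨g, hg.1⟩
    rw [← orderOf_coe] at hk
    rw [hk]
    exact (hp.odd_of_ne_two hp2).pow
  obtain ⟨k, hk⟩ := (hR.to_inf_left (K := Mv W)).exists_card_eq
  have hk1 : k ≤ 1 := by
    by_contra hh
    rw [hk] at hd
    exact not_sq_dvd hp hp2 hp3 ((pow_dvd_pow p (show 2 ≤ k by omega)).trans hd)
  have hz : zpowers y = R ⊓ Mv W ∧ orderOf y = p := by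
    have hle : zpowers y ≤ R ⊓ Mv W := zpowers_le.2 ⟨hy, m2⟩
    have h1 := card_dvd_of_le hle
    rw [hk, Nat.card_zpowers] at h1
    have h2 := ((Nat.dvd_prime hp).1 (h1.trans ((pow_dvd_pow p hk1).trans (by rw [pow_one])))).resolve_left
      fun e => hy1 (orderOf_eq_one_iff.1 e)
    refine ⟨eq_of_le_of_card_ge hle ?_, h2⟩
    rw [hk, Nat.card_zpowers, h2]
    exact (Nat.pow_le_pow_right hp.pos hk1).trans (by rw [pow_one])
  have hgy : g * y * g⁻¹ ∈ zpowers y :=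
    hz.1 ▸ ⟨conj_mem_of_mem_normalizer hg hy, (Mv W).mul_mem ((Mv W).mul_mem m1 m2) ((Mv W).inv_mem m1)⟩
  have hyp : y ^ p = 1 := hz.2 ▸ pow_orderOf_eq_one y
  have hC : Cm y ≤ W := Cm_le_iff.2 m2
  have i1 : ∀ v ∈ Cm y, g v ∈ Cm y := fun v hv =>
    Cm_le_iff.2 (zpowers_le.2 (mem_Mv_self y) hgy) (mem_Cm_conj.2 hv)
  have hmod := card_mod he hp hp2 hyp (fun v hv => apply_mem (mem_Mv_self y) hv) le_rfl
  obtain ⟨j, hj⟩ := ((two he).to_subgroup (Cm y)).exists_card_eq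
  have hj4 : j ≤ 4 := (Nat.pow_le_pow_iff_right one_lt_two).1
    (by rw [← hj]; exact (card_le_of_le hC).trans h16)
  have hj0 : j ≠ 0 := by
    rintro rfl
    have h0 : Cm y = ⊥ := card_eq_one.1 hj
    refine hy1 (MulEquiv.ext fun m => ?_)
    have : m⁻¹ * y m ∈ Cm y := ⟨m, rfl⟩
    rw [h0, mem_bot, inv_mul_eq_one] at this
    exact this.symm
  rw [hj] at hmod
  have hpd : p ∣ 2 ^ j - 1 := (Nat.modEq_iff_dvd' Nat.one_le_two_pow).1 hmod.symm
  have hcase : j = 3 ∨ p = 5 := by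
    interval_cases j
    · exact absurd rfl hj0
    · exact absurd (Nat.dvd_one.1 hpd) hp.ne_one
    · exact absurd ((Nat.prime_dvd_prime_iff_eq hp Nat.prime_three).1 hpd) hp3
    · exact Or.inl rfl
    · rcases (Nat.Prime.dvd_mul hp).1 (show p ∣ 3 * 5 from hpd) with h | h
      · exact absurd ((Nat.prime_dvd_prime_iff_eq hp Nat.prime_three).1 h) hp3
      · exact Or.inr ((Nat.prime_dvd_prime_iff_eq hp Nat.prime_five).1 h)
  rcases hcase with rfl | rfl
  · have key : ∀ k : MulAut V, k ^ 3 = 1 → Nat.card (Cm k) = 4 → Cm k ≤ W →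
        (∀ v ∈ Cm y, k v ∈ Cm y) → Cm k ≤ Cm y := fun k k3 k4 kW kI => irr he k3 k4 kI fun e => by
      have := card_le_of_le (sup_le kW hC)
      rw [Grp.card_sup_of_disjoint _ _ e, k4, hj] at this
      omega
    have := card_le_of_le (sup_le (key g hg3 hg4 (hW ▸ le_sup_left) i1)
      (key (g * y) hh3 hh4 (hW ▸ le_sup_right) fun v hv => i1 _ (apply_mem (mem_Mv_self y) hv)))
    rwa [← hW, hj] at this
  · exfalso
    obtain ⟨i, hi⟩ := mem_zpowers_iff.1 hgy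
    have h1 := Grp.pow_conj_of_conj_eq hi.symm 3
    rw [hg3, one_mul, inv_one, mul_one] at h1
    have h2 : (i ^ 3 : ℤ) ≡ 1 [ZMOD 5] := by
      have := zpow_eq_zpow_iff_modEq.1 (h1.symm.trans (zpow_one y).symm)
      rwa [hz.2] at this
    have h3 : i ≡ 1 [ZMOD 5] := by
      have := zmod5 i (by exact_mod_cast (ZMod.intCast_eq_intCast_iff _ _ 5).2 h2)
      exact (ZMod.intCast_eq_intCast_iff i 1 5).1 (by exact_mod_cast this)
    have h5 : y ^ i = y := by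
      conv_rhs => rw [← zpow_one y]
      exact zpow_eq_zpow_iff_modEq.2 (by rw [hz.2]; exact h3)
    have hc : Commute g y := by
      rw [h5] at hi
      exact (mul_inv_eq_iff_eq_mul.1 hi.symm)
    rw [hc.mul_pow, hg3, one_mul] at hh3
    have := orderOf_dvd_of_pow_eq_one hh3
    rw [hz.2] at this
    exact absurd this (by norm_num)

omit he in
theorem eq_of_lt {K L : Subgroup V} (h4 : Nat.card L = 4) (h : ¬ L ≤ K) {a b : V} (ha : a ∈ L ⊓ K)
    (hb : b ∈ L ⊓ K) (ha1 : a ≠ 1) (hb1 : b ≠ 1) : a = b := by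
  have hlt : L ⊓ K < L := lt_of_le_of_ne inf_le_left fun e => h (inf_eq_left.1 e)
  have h1 := Grp.card_lt_card_of_lt hlt
  have h2 := card_dvd_of_le hlt.le
  rw [h4] at h1 h2
  by_contra hab
  have h3 : ({1, a, b} : Set V).ncard = 3 := Set.ncard_eq_three.2 ⟨1, a, b, ha1.symm, hb1.symm, hab, rfl⟩
  have h5 : ({1, a, b} : Set V) ⊆ (L ⊓ K : Subgroup V) := by
    rintro _ (rfl | rfl | rfl)
    exacts [one_mem _, ha, hb]
  have h6 := Set.ncard_le_ncard h5
  rw [h3, ← Nat.card_coe_set_eq] at h6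
  have h7 : Nat.card (L ⊓ K : Subgroup V) = 3 := le_antisymm (by omega) h6
  rw [h7] at h2
  exact absurd h2 (by norm_num)

theorem block {p : ℕ} (hp : p.Prime) (hp2 : p ≠ 2) (hp3 : p ≠ 3) {R : Subgroup (MulAut V)}
    (hR : IsPGroup p R) {x : MulAut V} (hx : x ∈ 𝐍[R]) (h3 : x ^ 3 = 1)
    (h4 : Nat.card (Cm x) = 4) :
    ∃ B : Subgroup V, Nat.card B ≤ 16 ∧ Cm x ≤ B ∧ ∀ r ∈ R, ∀ v ∈ B, r v ∈ B := by
  have c4 : ∀ r, Nat.card (Cm (r * x * r⁻¹)) = 4 := fun r => by rw [card_Cm_conj, h4]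
  have c8 : ∀ r ∈ R, ∀ s ∈ R, Nat.card (Cm (r * x * r⁻¹) ⊔ Cm (s * x * s⁻¹) : Subgroup V) ≤ 8 := by
    intro r hr s hs
    refine pair he hp hp2 hp3 hR (mul_mem (mul_mem (le_normalizer hr) hx) (inv_mem (le_normalizer hr)))
      (by rw [conj_pow, h3]; group) (by rw [conj_pow, h3]; group) (c4 r) (c4 s) ?_
    have := R.mul_mem (R.mul_mem hr (inv_conj_mem_of_mem_normalizer hx
      (R.mul_mem (R.inv_mem hr) hs))) (R.inv_mem hs)
    convert this using 1
    group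
  have cn : ∀ r ∈ R, ∀ s ∈ R, ∃ u ∈ Cm (r * x * r⁻¹) ⊓ Cm (s * x * s⁻¹), u ≠ 1 := by
    intro r hr s hs
    refine ((Cm (r * x * r⁻¹) ⊓ Cm (s * x * s⁻¹)).bot_or_exists_ne_one).resolve_left fun e => ?_
    have := c8 r hr s hs
    rw [Grp.card_sup_of_disjoint _ _ e, c4, c4] at this
    omega
  have e1 : (1 : MulAut V) * x * 1⁻¹ = x := by group
  suffices h : ∃ W : Subgroup V, Nat.card W ≤ 16 ∧ ∀ r ∈ R, Cm (r * x * r⁻¹) ≤ W by
    obtain ⟨W, hW, h⟩ := h
    refine ⟨⨆ r : R, Cm ((r : MulAut V) * x * (r : MulAut V)⁻¹), (card_le_of_le (iSup_le fun r : R => h r r.2)).trans hW,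
      le_trans (le_of_eq (by rw [coe_one, e1])) (le_iSup _ (1 : R)), fun r hr v hv => ?_⟩
    have : (⨆ s : R, Cm ((s : MulAut V) * x * (s : MulAut V)⁻¹)) ≤
        (⨆ s : R, Cm ((s : MulAut V) * x * (s : MulAut V)⁻¹)).comap r.toMonoidHom := iSup_le fun s v hv => by
      refine le_iSup (fun s : R => Cm ((s : MulAut V) * x * (s : MulAut V)⁻¹)) (⟨r, hr⟩ * s) ?_
      have := (mem_Cm_conj (r := r)).2 hv
      change r v ∈ _
      convert this using 2
      simp [mul_assoc]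
    exact this hv
  by_cases h0 : ∀ r ∈ R, Cm (r * x * r⁻¹) ≤ Cm x
  · exact ⟨Cm x, by omega, h0⟩
  push Not at h0
  obtain ⟨s, hs, hsx⟩ := h0
  have hsx' : ¬ Cm x ≤ Cm (s * x * s⁻¹) := fun h =>
    hsx (eq_of_le_of_card_ge h (by rw [c4, h4])).ge
  have h8 := c8 1 (one_mem _) s hs
  rw [e1] at h8
  refine ⟨Cm x ⊔ Cm (s * x * s⁻¹), by omega, ?_⟩
  have key : ∀ r ∈ R, ¬ Cm (r * x * r⁻¹) ≤ Cm x ⊔ Cm (s * x * s⁻¹) →
      ∃ u ∈ Cm (r * x * r⁻¹), u ∈ Cm x ⊓ Cm (s * x * s⁻¹) ∧ u ≠ 1 := by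
    intro r hr hn
    obtain ⟨u, hu, hu1⟩ := cn r hr 1 (one_mem _)
    obtain ⟨w, hw, hw1⟩ := cn r hr s hs
    rw [e1] at hu
    obtain rfl := eq_of_lt (c4 r) hn ⟨hu.1, mem_sup_left hu.2⟩ ⟨hw.1, mem_sup_right hw.2⟩ hu1 hw1
    exact ⟨u, hu.1, ⟨hu.2, hw.2⟩, hu1⟩
  intro r hr
  by_contra hn
  have mx : x ∈ Mv (Cm x ⊔ Cm (s * x * s⁻¹)) := Cm_le_iff.1 le_sup_left
  have e2 : x * r * x⁻¹ * x * (x * r * x⁻¹)⁻¹ = x * (r * x * r⁻¹) * x⁻¹ := by group
  obtain ⟨u, hu, hu', hu1⟩ := key r hr hn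
  obtain ⟨w, hw, hw', hw1⟩ := key _ (conj_mem_of_mem_normalizer hx hr) (fun h => hn fun v hv => by
    rw [e2] at h
    have := apply_mem (inv_mem mx) (h (mem_Cm_conj.2 hv))
    rwa [MulAut.inv_apply_self] at this)
  obtain rfl := eq_of_lt h4 hsx' hu' hw' hu1 hw1
  rw [e2, ← MulAut.apply_inv_self V x u, mem_Cm_conj] at hw
  have := eq_of_lt (c4 r) hn ⟨hw, apply_mem (inv_mem mx) (mem_sup_left hu'.1)⟩
    ⟨hu, mem_sup_left hu'.1⟩ (fun e => hu1 ((map_eq_one_iff _ (x⁻¹).injective).1 e)) hu1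
  refine hu1 (eq_one_of_fix he (Odd.of_dvd_nat (by decide) (orderOf_dvd_of_pow_eq_one h3)) hu'.1 ?_)
  rw [← this, MulAut.apply_inv_self, this]

end

theorem not_cyclic {S : Type*} [Group S] [Finite S] {r : ℕ} (hr : r.Prime) {F C : Subgroup S}
    (hF : IsElementaryAbelian r F) (h3 : Nat.card F = r ^ 3) {K : Subgroup F}
    (hK : ∀ k ∈ K, (k : S) ∈ C) (hi : ¬ r ^ 2 ∣ K.index) : ¬ IsCyclic ↥(F ⊓ C) := by
  intro hc
  have h1 : Nat.card ↥(F ⊓ C) ∣ r := by
    rw [← IsCyclic.exponent_eq_card]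
    exact Monoid.exponent_dvd_of_forall_pow_eq_one fun g => Subtype.ext (hF.2 g g.2.1)
  have h2 : Nat.card K ∣ r := by
    refine dvd_trans ?_ h1
    rw [← card_map_of_injective F.subtype_injective]
    refine card_dvd_of_le ?_
    rintro _ ⟨k, hk, rfl⟩
    exact ⟨k.2, hK k hk⟩
  have h4 := K.card_mul_index
  rw [h3] at h4
  obtain ⟨m, hm⟩ := h2
  refine hi ⟨m, Nat.eq_of_mul_eq_mul_left (Nat.card_pos (α := K)) ?_⟩
  rw [h4, pow_succ, hm]
  ring

/-- Let S be a finite solvable group and M a normal elementary abelian 2-subgroup of S. Suppose S contains an elementary abelian subgroup of order p³ for some odd prime p, and a cyclic 3-subgroup Q such that the cubes of the elements of Q centralize M and the commutator subgroup [Q, M] has order 4 (a four-group inside M). Then S contains an elementary abelian subgroup F of order r³, for some odd prime r, whose centralizer of [Q, M] in F — the subgroup C_F([Q, M])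 — is not cyclic. -/
theorem result {S : Type*} [Group S] [Finite S]
    [Group.IsSolvable S] (M : Subgroup S) [M.Normal] (hM : Cfsg.IsElementaryAbelian 2 M)
    (p : ℕ) (hp : p.Prime) (hp2 : p ≠ 2) (E : Subgroup S) (hE : Cfsg.IsElementaryAbelian p E) (hE3 : Nat.card ↥E = p ^ 3)
    (Q : Subgroup S) (hQc : IsCyclic ↥Q) (hQ3 : IsPGroup 3 ↥Q)
    (hQ1 : ∀ x ∈ Q, x ^ 3 ∈ Subgroup.centralizer (M : Set S)) (hQM : Nat.card ↥⁅Q, M⁆ = 4) :
    ∃ (r : ℕ) (F : Subgroup S), r.Prime ∧ r ≠ 2 ∧ Cfsg.IsElementaryAbelian r F ∧ Nat.card ↥F = r ^ 3 ∧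
      ¬ IsCyclic ↥(F ⊓ Subgroup.centralizer ((⁅Q, M⁆ : Subgroup S) : Set S)) := by
  have hMc := hM.1
  have he : ∀ v : M, v ^ 2 = 1 := fun v => Subtype.ext (hM.2 v v.2)
  obtain ⟨x, rfl⟩ := (Subgroup.isCyclic_iff_exists_zpowers_eq_top Q).1 hQc
  let ρ : S →* MulAut M := MulAut.conjNormal
  have hρ : ∀ (g : S) (m : M), ((ρ g m : M) : S) = g * m * g⁻¹ := fun g m => rfl
  have hU : ⁅zpowers x, M⁆ = (Cm (ρ x)).map M.subtype := by
    apply le_antisymm
    · rw [commutator_le]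
      intro q hq m hm
      have h1 : ρ q ∈ Mv (Cm (ρ x)) := (zpowers_le.2 (mem_Mv_self (ρ x)) :
        zpowers x ≤ (Mv (Cm (ρ x))).comap ρ) hq
      refine ⟨_, h1 ⟨m, hm⟩, ?_⟩
      rw [mul_comm]
      rfl
    · rintro _ ⟨_, ⟨m, rfl⟩, rfl⟩
      rw [mul_comm]
      exact commutator_mem_commutator (mem_zpowers x) m.2
  have h4 : Nat.card (Cm (ρ x)) = 4 := by
    rw [← hQM, hU, card_map_of_injective M.subtype_injective]
  have h3 : ρ x ^ 3 = 1 := by
    rw [← map_pow]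
    refine MulEquiv.ext fun m => Subtype.ext ?_
    rw [hρ, ← hQ1 x (mem_zpowers x) m m.2, mul_inv_cancel_right]
    rfl
  have fin : ∀ (r : ℕ) (F : Subgroup S) (B : Subgroup M) (n : ℕ), r.Prime →
      IsElementaryAbelian r F → Nat.card F = r ^ 3 → Cm (ρ x) ≤ B →
      (∀ f ∈ F, ∀ v ∈ B, ρ f v ∈ B) → ¬ r ^ 2 ∣ n →
      (∀ (A : Type _) [Group A] [MulDistribMulAction A M], Inv A B → (Ker A B).index ∣ n) →
      ¬ IsCyclic ↥(F ⊓ centralizer ((⁅zpowers x, M⁆ : Subgroup S) : Set S)) := by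
    intro r F B n hr hF hF3 hB hI hn hd
    let _ : MulDistribMulAction F M := MulDistribMulAction.compHom _ (ρ.comp F.subtype)
    refine not_cyclic hr hF hF3 (K := Ker F B) (fun k hk => ?_)
      fun h => hn (h.trans (hd F fun f v hv => hI f f.2 v hv))
    rw [hU]
    rintro _ ⟨v, hv, rfl⟩
    have : (k : S) * v * (k : S)⁻¹ = v := congrArg Subtype.val (hk v (hB hv))
    exact (mul_inv_eq_iff_eq_mul.1 this).symm
  by_cases hr3 : PRankLE 3 2 S
  · have hp3 : p ≠ 3 := by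
      rintro rfl
      have := hr3 E hE.1 hE.2
      rw [hE3] at this
      omega
    have := Fact.mk hp
    obtain ⟨k, hk⟩ := hQ3.exists_card_eq
    obtain ⟨H, hH, hQH⟩ := Pi.exists_isPiHall_ge (π := {q | q ≠ 2}) (K := zpowers x) fun q hq hd => by
      rw [hk] at hd
      obtain rfl := (Nat.prime_dvd_prime_iff_eq hq Nat.prime_three).1 (hq.dvd_of_dvd_pow hd)
      decide
    have hH' := Pi.isPiHallOf_top.2 hH
    have : Group.IsSolvable (⊤ : Subgroup S) := inferInstance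
    obtain ⟨g, -, hg⟩ := Pi.exists_conj_le_hallOf hH' (le_top : E ≤ ⊤) fun q hq hd => by
      rw [hE3] at hd
      obtain rfl := (Nat.prime_dvd_prime_iff_eq hq hp).1 (hq.dvd_of_dvd_pow hd)
      exact hp2
    replace hg : cj(g, E) ≤ H := hg
    have hodd : Odd (Nat.card H) := Nat.odd_iff.2 (Nat.two_dvd_ne_zero.1 fun h =>
      hH'.2.1 2 Nat.prime_two h rfl)
    have hk0 : k ≠ 0 := by
      rintro rfl
      rw [card_eq_one.1 hk, commutator_bot_left, card_bot] at hQM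
      omega
    obtain ⟨P, N, hN, hNP⟩ := (S1450.result hodd 3
      ((dvd_pow_self 3 hk0).trans (hk ▸ card_dvd_of_le hQH)) (fun A hA h => by
        rw [← card_map_of_injective H.subtype_injective]
        refine hr3 _ (map_isMulCommutative A _) ?_
        rintro _ ⟨a, ha, rfl⟩
        rw [← map_pow, h a ha, map_one])).2.1 (Or.inl rfl)
    obtain ⟨l, hl⟩ := P.isPGroup'.exists_card_eq
    have hNc : ¬ 3 ∣ Nat.card N := hNP.index_eq_card ▸ P.not_dvd_index
    have hn : H ≤ 𝐍[N.map H.subtype] := by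
      rw [Subgroup.le_normalizer_iff]
      rintro h hh _ ⟨n, hn, rfl⟩
      exact ⟨_, hN.conj_mem n hn ⟨h, hh⟩, rfl⟩
    obtain ⟨R, hR⟩ := exists_invariant_sylow (zpowers x) (N.map H.subtype) (hQH.trans hn) (by
      rw [hk, card_map_of_injective H.subtype_injective]
      exact ((Nat.Prime.coprime_iff_not_dvd Nat.prime_three).2 hNc).pow_left k)
      (Or.inr inferInstance) p
    have hRs := isSyl_map_subtype R
    have hE' : IsElementaryAbelian p cj(g, E) := ⟨by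
      have := hE.1
      exact map_isMulCommutative _ _, by
      rintro _ ⟨a, ha, rfl⟩
      rw [← map_pow, hE.2 a ha, map_one]⟩
    have hEN : cj(g, E) ≤ N.map H.subtype := by
      have h1 : (cj(g, E)).subgroupOf H ≤ N := Grp.le_normal_of_coprime_card_index (by
        rw [Grp.card_subgroupOf_of_le hg, card_cj, hE3, hNP.symm.index_eq_card, hl]
        exact ((Nat.coprime_primes hp Nat.prime_three).2 hp3).pow _ _)
      intro a ha
      exact ⟨⟨a, hg ha⟩, h1 ha, rfl⟩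
    obtain ⟨g', -, hg'⟩ := hRs.exists_cj_le (IsPGroup.of_card (by rw [card_cj, hE3])) hEN
    obtain ⟨B, hB, hxB, hBI⟩ := block he hp hp2 hp3 (hRs.pgrp.map ρ)
      (le_normalizer_map ρ (mem_map_of_mem ρ (hR (mem_zpowers x)))) h3 h4
    have hE'' : IsElementaryAbelian p cj(g', cj(g, E)) := ⟨by
      have := hE'.1
      exact map_isMulCommutative _ _, by
      rintro _ ⟨a, ha, rfl⟩
      rw [← map_pow, hE'.2 a ha, map_one]⟩
    have hc : Nat.card cj(g', cj(g, E)) = p ^ 3 := by rw [card_cj, card_cj, hE3]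
    refine ⟨p, _, hp, hp2, hE'', hc, fin p _ B 20160 hp hE'' hc hxB
      (fun f hf => hBI _ (mem_map_of_mem ρ (hg' hf))) (not_sq_dvd hp hp2 hp3)
      fun A _ _ h => index_dvd' he h hB⟩
  · obtain ⟨A, hA, hA3, hA9⟩ : ∃ A : Subgroup S, IsMulCommutative A ∧ (∀ a ∈ A, a ^ 3 = 1) ∧
        3 ^ 2 < Nat.card A := by
      unfold PRankLE at hr3
      push Not at hr3
      exact hr3
    obtain ⟨T, hT, hQT⟩ := exists_isSyl_ge hQ3 le_top
    obtain ⟨g, -, hg⟩ := hT.exists_cj_le (R := A)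
      (fun a => ⟨1, Subtype.ext (by rw [pow_one]; exact hA3 a a.2)⟩) le_top
    obtain ⟨B, hBn, hBc, hB3, -, hBC⟩ := Grp.PRank.exists_max_elab_normal (p := 3) (by norm_num)
      hT.pgrp ⊥ inferInstance (by simp)
    have h9 : ¬ Nat.card B ≤ 3 ^ 2 := fun h => by
      have := Grp.PRank.card_le_sq_of_omega_centralizer hT.pgrp B h hBC ((cj(g, A)).subgroupOf T)
        (by
          have : IsMulCommutative cj(g, A) := map_isMulCommutative _ _
          infer_instance)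
        (by
          rintro e ⟨a, ha, h⟩
          apply Subtype.ext
          change T.subtype e ^ 3 = 1
          rw [← h, ← map_pow, hA3 a ha, map_one])
      rw [Grp.card_subgroupOf_of_le hg, card_cj] at this
      omega
    obtain ⟨k, hk⟩ := (hT.pgrp.to_subgroup B).exists_card_eq
    obtain ⟨F, hFB, hF⟩ := Sylow.exists_subgroup_le_card_pow_prime_of_le_card (n := 3)
      Nat.prime_three hT.pgrp (H := B) (by
        rw [hk] at h9 ⊢
        exact Nat.pow_le_pow_right (by norm_num)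
          ((Nat.pow_lt_pow_iff_right (by norm_num)).1 (not_le.1 h9)))
    have hF' : IsElementaryAbelian 3 (F.map T.subtype) := ⟨by
      have : IsMulCommutative F := ⟨⟨fun a b => Subtype.ext (setLike_mul_comm (hFB a.2) (hFB b.2))⟩⟩
      exact map_isMulCommutative _ _, by
      rintro _ ⟨a, ha, rfl⟩
      rw [← map_pow, hB3 a (hFB ha), map_one]⟩
    have hc : Nat.card (F.map T.subtype) = 3 ^ 3 := by
      rw [card_map_of_injective T.subtype_injective, hF]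
    refine ⟨3, _, Nat.prime_three, by norm_num, hF', hc, fin 3 _ (Cm (ρ x)) 6 Nat.prime_three hF' hc
      le_rfl ?_ (by norm_num) fun A _ _ h => index_dvd he h (k := 2) h4⟩
    rintro _ ⟨b, hb, rfl⟩ v hv
    have hxT : x ∈ T := hQT (mem_zpowers x)
    rw [← three he (hT.pgrp.map ρ) (mem_map_of_mem ρ hxT) (mem_map_of_mem ρ b.2) h3 h4 ?_]
    · exact mem_Cm_conj.2 hv
    · have h1 : (⟨x, hxT⟩ : T)⁻¹ * (b * ⟨x, hxT⟩ * b⁻¹) ∈ B := by
        have := B.mul_mem (hBn.conj_mem' b (hFB hb) ⟨x, hxT⟩) (B.inv_mem (hFB hb))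
        convert this using 1
        group
      have h2 : Commute b ((⟨x, hxT⟩ : T)⁻¹ * (b * ⟨x, hxT⟩ * b⁻¹)) := setLike_mul_comm (hFB hb) h1
      simpa using h2.map (ρ.comp T.subtype)

end Cfsg.Agent.S4404
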