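import Cfsg.Statements.S4408
import Cfsg.Agent.S1349
import Cfsg.Agent.Grp.Fitting

set_option autoImplicit false
open Cfsg

namespace Cfsg.Agent.S4408

open Subgroup

theorem odd_inv {G : Type*} [Group G] {w : G} (h : Odd (orderOf w)) (e : w = w⁻¹) : w = 1 := by
  have : orderOf w ∣ 2 := orderOf_dvd_of_pow_eq_one (by
    rw [pow_two]; exact mul_eq_one_iff_eq_inv.mpr e)
  exact orderOf_eq_one_iff.1 ((Nat.coprime_two_right.mpr h).eq_one_of_dvd this)

/-- Let S be a finite solvable group whose Fitting subgroup F(S) has odd order, and let I be an elementary abelian 2-subgroup of S of order 2ⁿ with n ≥ 1. Then F(S) contains subgroups A₁, …, Aₙ of prime order, each normalized by I, pairwise commuting and generating a subgroup A of order |A₁|⋯|Aₙ| (their internal direct product), such that no non-identity element of I centralizes A. -/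
theorem result {S : Type*} [Group S] [Finite S]
    [Group.IsSolvable S] (hF : Odd (Nat.card ↥(Cfsg.fittingSubgroup S)))
    (I : Subgroup S) (hI : Cfsg.IsElementaryAbelian 2 I) (n : ℕ) (hn : 1 ≤ n) (hIn : Nat.card ↥I = 2 ^ n) :
    ∃ f : Fin n → Subgroup S, (∀ i, (Nat.card ↥(f i)).Prime) ∧ (∀ i, f i ≤ Cfsg.fittingSubgroup S) ∧
      (∀ i, I ≤ Subgroup.normalizer ((f i) : Set S)) ∧ (∀ i j, i ≠ j → ∀ a ∈ f i, ∀ b ∈ f j, a * b = b * a) ∧
      Nat.card ↥(⨆ i, f i) = ∏ i, Nat.card ↥(f i) ∧ I ⊓ Subgroup.centralizer ((⨆ i, f i : Subgroup S) : Set S) = ⊥ := by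
  classical
  set F := Cfsg.fittingSubgroup S with hFdef
  have hI1 : I ≠ ⊥ := PLocal.Sig.ne_bot_of_pow_le (p := 2) (k := 0)
    (by rw [hIn]; exact Nat.pow_le_pow_right two_pos hn)
  have hoddF : ∀ w ∈ F, Odd (orderOf w) := fun w hw =>
    Odd.of_dvd_nat hF (F.orderOf_dvd_natCard hw)
  have hI2 : ∀ g ∈ I, g * g = 1 := fun g hg => by rw [← pow_two]; exact hI.2 g hg
  have hfaith : I ⊓ centralizer (F : Set S) = ⊥ := by
    rw [eq_bot_iff]
    rintro g ⟨hg, hgc⟩
    exact odd_inv (hoddF g (Grp.centralizer_fitting_le S hgc))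
      (mul_eq_one_iff_eq_inv.1 (hI2 g hg))
  obtain ⟨V, hVF, hVc, hAV, hf⟩ := S1349.exists_abelian (L := F) (A := I) inferInstance hF hI hI1
    le_normalizer_of_normal hfaith
  obtain ⟨x, a, C, -, hC, hx, hxa, hgen⟩ := S1349.exists_dual
    (PLocal.Sig.not_dvd_of_le hVF hF.not_two_dvd_nat) hI hIn hAV hf n le_rfl
  rw [Nat.sub_self, pow_zero, card_eq_one] at hC
  rw [hC, sup_bot_eq] at hgen
  have hy : ∀ i, ∃ y ∈ zpowers (x i), (orderOf y).Prime := by
    intro i
    have h1 : orderOf (x i) ≠ 1 := mt orderOf_eq_one_iff.mp (hx i).2.1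
    obtain ⟨p, hp, hd⟩ := Nat.exists_prime_and_dvd h1
    refine ⟨x i ^ (orderOf (x i) / p), npow_mem_zpowers _ _, ?_⟩
    rw [orderOf_pow_orderOf_div (orderOf_pos _).ne' hd]; exact hp
  choose y hyx hyp using hy
  have hyV : ∀ i, y i ∈ V := fun i => (zpowers_le.2 (hx i).1) (hyx i)
  have hinv : ∀ i, ∀ w ∈ zpowers (y i), a i * w * (a i)⁻¹ = w⁻¹ := by
    intro i w hw
    obtain ⟨k, rfl⟩ := (zpowers_le.2 (hyx i)) hw
    have := congrArg (· ^ k) (hx i).2.2.2.1
    simpa only [conj_zpow, inv_zpow] using this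
  have hcom : ∀ i j, i ≠ j → ∀ w ∈ zpowers (y j), Commute (a i) w := by
    intro i j hij w hw
    obtain ⟨k, rfl⟩ := (zpowers_le.2 (hyx j)) hw
    exact Commute.zpow_right (hxa i j hij) k
  have hVcomm : ∀ u ∈ V, ∀ v ∈ V, u * v = v * u := fun u hu v hv =>
    setLike_mul_comm hu hv
  have hpair : Pairwise fun i j : Fin n => ∀ u v : S, u ∈ zpowers (y i) → v ∈ zpowers (y j) →
      Commute u v := fun i j _ u v hu hv =>
    hVcomm u (zpowers_le.2 (hyV i) hu) v (zpowers_le.2 (hyV j) hv)
  have hind : iSupIndep fun i => zpowers (y i) := by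
    intro i
    rw [disjoint_def]
    intro w hw hw'
    have hle : (⨆ j, ⨆ (_ : j ≠ i), zpowers (y j)) ≤ centralizer {a i} := by
      refine iSup₂_le fun j hj u hu => ?_
      rw [mem_centralizer_singleton_iff]
      exact (hcom i j (Ne.symm hj) u hu).symm.eq
    have h1 := mem_centralizer_singleton_iff.1 (hle hw')
    have h2 := hinv i w hw
    rw [← h1, mul_inv_cancel_right] at h2
    exact odd_inv (hoddF w (hVF (zpowers_le.2 (hyV i) hw))) h2
  refine ⟨fun i => zpowers (y i), fun i => by rw [Nat.card_zpowers]; exact hyp i,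
    fun i => zpowers_le.2 (hVF (hyV i)), fun i => hgen.trans (iSup_le fun j => zpowers_le.2 ?_),
    fun i j hij u hu v hv => (hpair hij u v hu hv).eq, ?_, ?_⟩
  · refine Subgroup.mem_normalizer_fintype fun w hw => ?_
    by_cases hij : j = i
    · subst hij
      rw [hinv j w hw]; exact inv_mem hw
    · rw [(hcom j i hij w hw).eq, mul_inv_cancel_right]; exact hw
  · rw [← noncommPiCoprod_range (hcomm := hpair), ← Nat.card_pi]
    exact (Nat.card_congr (MonoidHom.ofInjective
      (injective_noncommPiCoprod_of_iSupIndep hind)).toEquiv).symm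
  · rw [eq_bot_iff]
    rintro g ⟨hg, hgc⟩
    have hIc : ∀ u ∈ I, ∀ v ∈ I, u * v = v * u := fun u hu v hv => by
      haveI := hI.1
      exact setLike_mul_comm hu hv
    have hpa : Pairwise fun i j : Fin n => ∀ u v : S, u ∈ zpowers (a i) → v ∈ zpowers (a j) →
        Commute u v := fun i j _ u v hu hv =>
      hIc u (zpowers_le.2 (hx i).2.2.1 hu) v (zpowers_le.2 (hx j).2.2.1 hv)
    have hg' := hgen hg
    rw [← noncommPiCoprod_range (hcomm := hpa)] at hg'
    obtain ⟨c, rfl⟩ := hg'
    have hc : ∀ j, c j = 1 := by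
      intro j
      have hyj : y j ∈ ⨆ i, zpowers (y i) := mem_iSup_of_mem j (mem_zpowers _)
      have h1 : Commute (y j) (noncommPiCoprod hpa c) := hgc (y j) hyj
      have e := Finset.mul_noncommProd_erase Finset.univ (Finset.mem_univ j) (fun i => (c i : S))
        (fun i _ k _ h => hpa h _ _ (c i).2 (c k).2)
      rw [noncommPiCoprod_apply] at h1
      replace h1 := e ▸ h1
      have h2 : Commute (y j) ((Finset.univ.erase j).noncommProd (fun i => (c i : S))
          (fun i _ k _ h => hpa h _ _ (c i).2 (c k).2)) := by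
        refine Finset.noncommProd_commute _ _ _ _ fun i hi => ?_
        obtain ⟨k, hk⟩ := (c i).2
        rw [← hk]
        exact ((hcom i j (Finset.ne_of_mem_erase hi) _ (mem_zpowers _)).symm).zpow_right k
      have h3 : Commute (y j) (c j : S) := by
        have := h1.mul_right h2.inv_right
        rwa [mul_inv_cancel_right] at this
      obtain ⟨k, hk⟩ := (c j).2
      have h4 := hI2 _ (hx j).2.2.1
      apply Subtype.ext
      rcases Int.even_or_odd' k with ⟨m, rfl | rfl⟩
      · rw [← hk]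
        simp only [zpow_mul, zpow_ofNat, pow_two, h4, one_zpow, OneMemClass.coe_one]
      · exfalso
        have h5 : (c j : S) = a j := by
          rw [← hk]
          simp only [zpow_add, zpow_mul, zpow_ofNat, pow_two, h4, one_zpow, one_mul, pow_one]
        have h6 := hinv j _ (mem_zpowers _)
        rw [← h5, ← h3.eq, mul_inv_cancel_right] at h6
        have := odd_inv (hoddF _ (hVF (hyV j))) h6
        have h7 := hyp j
        rw [this, orderOf_one] at h7
        exact Nat.not_prime_one h7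
    have : c = 1 := funext hc
    rw [this, map_one]; exact one_mem _

end Cfsg.Agent.S4408
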