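import Mathlib
import Cfsg.Statements.S4411
import Cfsg.Agent.S0618
import Cfsg.Agent.PLocal.AmbSyl
import Cfsg.Agent.PLocal.PConstr
import Cfsg.Agent.PLocal.PSolvHall
import Cfsg.Agent.PLocal.Factorization
import Cfsg.Agent.Solv.HallPi
import Cfsg.Agent.Solv.Factorized
import Cfsg.Agent.Solv.Coprime
import Cfsg.Agent.Solv.Coprime2
import Cfsg.Agent.Class.SL2Sylow
-- import your own Cfsg.Agent.* helpers here

set_option autoImplicit false
set_option linter.style.haveILetI false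
open Cfsg Subgroup Cfsg.Agent.PLocal Cfsg.Agent.PLocal.Amb
open scoped commutatorElement Pointwise

namespace Cfsg.Agent.S4411

universe u

/-- `p`-solvable groups have Hall `{p, q}`-subgroups -/
theorem exists_hall_pq {p q : ℕ} [hp : Fact p.Prime] [hq : Fact q.Prime] (n : ℕ) :
    ∀ (X : Type u) [Group X] [Finite X], Nat.card X = n → IsPSolvable p X →
      ∃ Y : Subgroup X, IsPiHall {p, q} Y := by
  induction n using Nat.strong_induction_on with
  | _ n ih =>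
  intro X _ _ hn hX
  have sub : ∀ M : Subgroup X, M ≠ ⊤ → (∀ r : ℕ, r.Prime → r ∈ ({p, q} : Set ℕ) → ¬ r ∣ M.index) →
      ∃ Y : Subgroup X, IsPiHall {p, q} Y := fun M hM h => by
    obtain ⟨Y, hY⟩ := ih _ (hn ▸ Grp.card_lt_of_ne_top hM) M rfl (IsPSolvable.subgroup hX M)
    exact ⟨_, Solv.Pi.isPiHallOf_top.1 (Solv.Pi.hallOf_of_relIndex (Solv.Pi.isPiHallOf_map_subtype.2 hY)
      le_top (by rwa [relIndex_top_right]))⟩
  rcases subsingleton_or_nontrivial X with h | h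
  · refine ⟨⊤, fun r hr hd => ?_, fun r hr _ => by rw [index_top]; exact hr.not_dvd_one⟩
    rw [card_top, Nat.card_of_subsingleton (1 : X)] at hd
    exact absurd hd hr.not_dvd_one
  obtain ⟨N, hN, hN1, hNp⟩ := IsPSolvable.exists_normal hX
  obtain ⟨Y, hY⟩ := ih _ (hn ▸ Grp.card_quotient_lt N hN1) (X ⧸ N) rfl
    (IsPSolvable.quotient hX N)
  by_cases hπ : ∀ r : ℕ, r.Prime → r ∣ Nat.card N → r ∈ ({p, q} : Set ℕ)
  · exact ⟨_, Solv.Pi.hall_comap _ (QuotientGroup.mk'_surjective N)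
      (by rwa [QuotientGroup.ker_mk']) hY⟩
  have hNp' : (Nat.card N).Coprime p := hNp.resolve_left fun h => hπ fun r hr hd => by
    obtain ⟨k, hk⟩ := h.exists_card_eq
    exact Or.inl ((Nat.prime_dvd_prime_iff_eq hr hp.out).1 (hr.dvd_of_dvd_pow (hk ▸ hd)))
  by_cases hYt : Y.comap (QuotientGroup.mk' N) = ⊤
  swap
  · exact sub _ hYt (by
      rw [index_comap_of_surjective _ (QuotientGroup.mk'_surjective N)]; exact hY.2)
  have hNi : ∀ r : ℕ, r.Prime → r ∣ N.index → r ∈ ({p, q} : Set ℕ) := by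
    have : Y = ⊤ := by
      rw [← map_comap_eq_self_of_surjective (QuotientGroup.mk'_surjective N) Y, hYt,
        map_top_of_surjective _ (QuotientGroup.mk'_surjective N)]
    intro r hr hd
    exact hY.1 r hr (by rwa [this, card_top])
  obtain ⟨Q, hQ⟩ := exists_isSyl q N
  have hQi : ∀ r : ℕ, r.Prime → r ∈ ({p, q} : Set ℕ) → ¬ r ∣ Q.relIndex N := by
    rintro r hr (rfl | rfl)
    · exact fun hd => (hr.coprime_iff_not_dvd.1 hNp'.symm) (hd.trans (relIndex_dvd_card _ _))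
    · exact hQ.not_dvd_relIndex
  by_cases hQn : 𝐍[Q] = ⊤
  swap
  · refine sub _ hQn fun r hr hr' hd => hQi r hr hr' (hd.trans ?_)
    have h1 := hQ.frattini_sup (L := ⊤) le_top (by rw [normalizer_eq_top])
    rw [top_inf_eq] at h1
    have h2 := (Solv.isProd_sup_of_le_normalizer' (A := N) (B := 𝐍[Q])
      le_normalizer_of_normal).card_mul
    rw [h1, card_top, ← card_mul_index 𝐍[Q], ← card_inf_mul_relIndex 𝐍[Q] N, inf_comm N] at h2
    have h3 : 𝐍[Q].relIndex N = 𝐍[Q].index := by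
      refine Nat.eq_of_mul_eq_mul_left (Nat.mul_pos (Nat.card_pos (α := ↥(𝐍[Q] ⊓ N)))
        (Nat.card_pos (α := 𝐍[Q]))) ?_
      linarith
    rw [← h3]
    exact relIndex_dvd_of_le_left _ le_normalizer
  haveI := normalizer_eq_top_iff.1 hQn
  by_cases hQ1 : Q = ⊥
  · rw [hQ1, relIndex_bot_left] at hQi
    obtain ⟨K, hK⟩ := exists_right_complement'_of_coprime (N := N)
      (Solv.Pi.coprime_of_pi hNi hQi).symm
    exact ⟨K, by rwa [← hK.symm.index_eq_card], by rwa [hK.index_eq_card]⟩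
  · obtain ⟨Y', hY'⟩ := ih _ (hn ▸ Grp.card_quotient_lt Q hQ1) (X ⧸ Q) rfl
      (IsPSolvable.quotient hX Q)
    refine ⟨_, Solv.Pi.hall_comap _ (QuotientGroup.mk'_surjective Q) ?_ hY'⟩
    rw [QuotientGroup.ker_mk']
    intro r hr hd
    obtain ⟨k, hk⟩ := hQ.2.exists_card_eq
    exact Or.inr ((Nat.prime_dvd_prime_iff_eq hr hq.out).1 (hr.dvd_of_dvd_pow (hk ▸ hd)))

/-- the automizer is `p`-solvable -/
def PS (p : ℕ) {G : Type*} [Group G] (H : Subgroup G) : Prop :=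
  IsPSolvable p (↥𝐍[H] ⧸ (𝐂[H]).subgroupOf 𝐍[H])

theorem PS.of_map {p : ℕ} [Fact p.Prime] {G G' : Type*} [Group G] [Group G'] (f : G →* G')
    (hf : Function.Injective f) {H : Subgroup G} (h : PS p (H.map f)) : PS p H := by
  let φ : 𝐍[H] →* 𝐍[H.map f] := (f.comp (𝐍[H]).subtype).codRestrict _ fun x =>
    map_normalizer_le f H ⟨x, x.2, rfl⟩
  refine IsPSolvable.of_injective h (QuotientGroup.map _ _ φ fun x hx =>
    map_centralizer_le f H ⟨x, hx, rfl⟩) ?_
  rw [injective_iff_map_eq_one]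
  intro x hx
  obtain ⟨x, rfl⟩ := QuotientGroup.mk_surjective x
  have hx' := (QuotientGroup.eq_one_iff (φ x)).1 hx
  rw [QuotientGroup.eq_one_iff]
  intro y hy
  exact hf (by rw [map_mul, map_mul]; exact hx' _ ⟨y, hy, rfl⟩)

theorem PS.of_comap {p : ℕ} [Fact p.Prime] {G G' : Type*} [Group G] [Group G'] [Finite G]
    (f : G →* G') (hf : Function.Surjective f) {H : Subgroup G'} (h : PS p (H.comap f)) :
    PS p H := by
  have e := map_comap_eq_self_of_surjective hf H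
  have e1 := map_normalizer_le f (H.comap f)
  have e2 := map_centralizer_le f (H.comap f)
  rw [e] at e1 e2
  let φ : 𝐍[H.comap f] →* 𝐍[H] := (f.comp (𝐍[H.comap f]).subtype).codRestrict _ fun x =>
    e1 ⟨x, x.2, rfl⟩
  refine IsPSolvable.of_surjective h (QuotientGroup.map _ _ φ fun x hx => e2 ⟨x, hx, rfl⟩) ?_
  intro x
  obtain ⟨⟨x, hx⟩, rfl⟩ := QuotientGroup.mk_surjective x
  obtain ⟨y, rfl⟩ := hf x
  exact ⟨(⟨y, le_normalizer_comap f hx⟩ : 𝐍[H.comap f]), rfl⟩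

/-- a `q`-element acts non-trivially -/
def Act (q : ℕ) {G : Type*} [Group G] (L H : Subgroup G) : Prop :=
  ∃ x ∈ L, x ∈ 𝐍[H] ∧ x ∉ 𝐂[H] ∧ ∃ k : ℕ, x ^ q ^ k = 1

theorem act_of_dvd {q : ℕ} [hq : Fact q.Prime] {G : Type*} [Group G] [Finite G]
    {L H : Subgroup G} (hL : L ≤ 𝐍[H]) (h : q ∣ (𝐂[H]).relIndex L) : Act q ⊤ H ∧ Act q L H := by
  obtain ⟨T, hT⟩ := exists_isSyl q L
  by_cases h1 : T ≤ 𝐂[H]
  · exact absurd (h.trans (relIndex_dvd_of_le_left _ h1)) hT.not_dvd_relIndex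
  · obtain ⟨x, hx, hx'⟩ := SetLike.not_le_iff_exists.1 h1
    have := isPGroup_iff.1 hT.2 x hx
    exact ⟨⟨x, trivial, hL (hT.le hx), hx', this⟩, x, hT.le hx, hL (hT.le hx), hx', this⟩

theorem dvd_of_act {q : ℕ} [hq : Fact q.Prime] {G : Type*} [Group G] [Finite G]
    {L H : Subgroup G} (h : Act q L H) : q ∣ (𝐂[H]).relIndex 𝐍[H] := by
  obtain ⟨x, -, h1, h2, k, h3⟩ := h
  by_contra hd
  haveI := normal_subgroupOf' (Amb.normalizer_le_normalizer_centralizer H)
  refine h2 (mem_of_pow_mem_of_coprime (n := (𝐂[H]).relIndex 𝐍[H])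
    (pow_index_mem ((𝐂[H]).subgroupOf 𝐍[H]) ⟨x, h1⟩) ?_)
  exact Nat.Coprime.coprime_dvd_left (orderOf_dvd_of_pow_eq_one h3)
    (Nat.Coprime.pow_left _ (hq.out.coprime_iff_not_dvd.2 hd))

theorem Act.map {q : ℕ} {G G' : Type*} [Group G] [Group G'] {L H : Subgroup G} (h : Act q L H)
    (f : G →* G') (hf : Function.Injective f) : Act q ⊤ (H.map f) := by
  obtain ⟨x, -, h1, h2, k, h3⟩ := h
  refine ⟨f x, trivial, map_normalizer_le f H ⟨x, h1, rfl⟩, fun h4 => h2 fun y hy =>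
    hf (by rw [map_mul, map_mul]; exact h4 _ ⟨y, hy, rfl⟩), k, by rw [← map_pow, h3, map_one]⟩

/-- the local step: Thompson factorization in a Hall `{p,q}`-subgroup -/
theorem local_step {p q : ℕ} [hp : Fact p.Prime] [hq : Fact q.Prime] (hpq : p ≠ q)
    (h23 : ¬ ((p = 2 ∧ q = 3) ∨ (p = 3 ∧ q = 2))) {G : Type*} [Group G] [Finite G]
    {H T : Subgroup G} (hH : IsPGroup p H) (hN : IsPSolvable p 𝐍[H]) (hT : IsSyl p T 𝐍[H])
    (ha : q ∣ (𝐂[H]).relIndex 𝐍[H]) :
    Act q 𝐍[omegaOne p (T ⊓ 𝐂[T])] H ∨ Act q 𝐍[thompsonSubgroupOf p T] H := by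
  obtain ⟨Y₀, hY₀⟩ := exists_hall_pq (q := q) _ 𝐍[H] rfl hN
  have hY₁ := Solv.Pi.isPiHallOf_map_subtype.2 hY₀
  obtain ⟨T₁, hT₁⟩ := exists_isSyl p (Y₀.map (𝐍[H]).subtype)
  have hT₂ : IsSyl p T₁ 𝐍[H] := isSyl_of_not_dvd_relIndex hT₁.2 (hT₁.le.trans hY₁.1) fun hd => by
    rw [← relIndex_mul_relIndex _ _ _ hT₁.le hY₁.1] at hd
    exact (hp.out.dvd_mul.1 hd).elim hT₁.not_dvd_relIndex (hY₁.2.2 p hp.out (Or.inl rfl))
  obtain ⟨g, hg, hgT⟩ := hT.exists_cj_eq hT₂
  have hY := Solv.Pi.hallOf_conj_smul_of_mem_normalizer hY₁ (le_normalizer hg)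
  have hTY : T ≤ MulAut.conj g • Y₀.map (𝐍[H]).subtype := hgT ▸ cj_mono g hT₁.le
  generalize MulAut.conj g • Y₀.map (𝐍[H]).subtype = Y at hY hTY
  have hHT : H ≤ T := hT.le_of_le_normalizer hH le_normalizer hT.le
  have hYs : IsPSolvable p Y := IsPSolvable.of_le hN hY.1
  have hfac : IsThompsonFactorizable p Y := by
    rw [isThompsonFactorizable_iff_quotient]
    by_contra hnf
    obtain ⟨h1, E, -, -, -, hn, ⟨e⟩⟩ := S0618.result (IsPSolvable.quotient hYs _)
      (Grp.pPrimeCore_quotient_pPrimeCore p Y) hnf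
    have h2 : Nat.card (Matrix.SpecialLinearGroup (Fin 2) (ZMod p)) ∣ Nat.card Y := by
      rw [← Nat.card_congr e.toEquiv]
      exact (card_quotient_dvd_card _).trans ((card_subgroup_dvd_card E).trans
        (card_quotient_dvd_card _))
    rw [Class.card_SL2, ZMod.card] at h2
    have h3 : 2 ∣ Nat.card Y ∧ 3 ∣ Nat.card Y := by
      rcases h1 with rfl | rfl
      · exact ⟨Dvd.dvd.trans (by norm_num) h2, Dvd.dvd.trans (by norm_num) h2⟩
      · exact ⟨Dvd.dvd.trans (by norm_num) h2, Dvd.dvd.trans (by norm_num) h2⟩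
    have h4 := hY.2.1 2 Nat.prime_two h3.1
    have h5 := hY.2.1 3 Nat.prime_three h3.2
    simp only [Set.mem_insert_iff, Set.mem_singleton_iff] at h4 h5
    omega
  obtain ⟨S, hS⟩ := (hT.mono hTY hY.1).exists_sylow
  have hYC : Y ≤ 𝐍[𝐂[H]] := hY.1.trans (Amb.normalizer_le_normalizer_centralizer H)
  haveI := normal_subgroupOf' hYC
  set π := QuotientGroup.mk' ((𝐂[H]).subgroupOf Y)
  set A := 𝐂[omegaOne p ((S : Subgroup Y) ⊓ 𝐂[(S : Subgroup Y)])]
  set B := 𝐍[thompsonSubgroupOf p (S : Subgroup Y)]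
  have hprod : Solv.IsProd ⊤ (A.map π) (B.map π) := Solv.isProd_top fun y => by
    obtain ⟨y, rfl⟩ := QuotientGroup.mk'_surjective _ y
    obtain ⟨x, hx, c, hc, m, hm, rfl⟩ := hfac S y
    refine ⟨_, ⟨c, hc, rfl⟩, _, ⟨m, hm, rfl⟩, ?_⟩
    have : π x = 1 := by
      rw [QuotientGroup.mk'_apply, QuotientGroup.eq_one_iff, ← Amb.centralizer_subgroupOf
        (hHT.trans hTY)]
      haveI := normal_subgroupOf' hY.1
      exact centralizer_anti (Grp.le_pCore inferInstance (Amb.isPGroup_subgroupOf hH Y))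
        (Grp.pPrimeCore_le_centralizer_pCore p Y hx)
    rw [map_mul, map_mul, this, one_mul]
  have hd : q ∣ (𝐂[H]).relIndex Y := by
    have h1 : (𝐂[H]).relIndex 𝐍[H] ∣ (𝐂[H]).relIndex Y * Y.relIndex 𝐍[H] := by
      rw [← inf_relIndex_right 𝐂[H] Y, relIndex_mul_relIndex _ _ _ inf_le_right hY.1]
      exact relIndex_dvd_of_le_left _ inf_le_left
    exact (hq.out.dvd_mul.1 (ha.trans h1)).resolve_right (hY.2.2 q hq.out (Or.inr rfl))
  have hd2 := hprod.card_dvd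
  rw [card_top] at hd2
  have key : ∀ (D : Subgroup Y) (L : Subgroup G), D.map Y.subtype ≤ L → q ∣ Nat.card (D.map π) →
      Act q L H := fun D L hL h => by
    rw [← relIndex_ker, QuotientGroup.ker_mk', ← Amb.map_subtype_subgroupOf D,
      relIndex_subgroupOf (map_subtype_le D)] at h
    obtain ⟨x, h1, h2⟩ := (act_of_dvd ((map_subtype_le D).trans hY.1) h).2
    exact ⟨x, hL h1, h2⟩
  have hST : (S : Subgroup Y).map Y.subtype = T := by rw [hS, Amb.map_subgroupOf_of_le hTY]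
  rcases hq.out.dvd_mul.1 (hd.trans hd2) with h | h
  · refine Or.inl (key A _ ((map_centralizer_le _ _).trans ?_) h)
    rw [map_omegaOne_center _ Y.subtype_injective, hST]
    exact centralizer_le_normalizer' _
  · refine Or.inr (key B _ ((map_normalizer_le _ _).trans ?_) h)
    rw [map_thompsonSubgroupOf _ Y.subtype_injective, hST]

theorem main {p q : ℕ} [hp : Fact p.Prime] [hq : Fact q.Prime] (hpq : p ≠ q)
    (h23 : ¬ ((p = 2 ∧ q = 3) ∨ (p = 3 ∧ q = 2))) (n : ℕ) :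
    ∀ (G : Type u) [Group G] [Finite G], Nat.card G = n →
      (∀ H : Subgroup G, IsPGroup p H → PS p H) → ∀ H : Subgroup G, IsPGroup p H →
      Act q ⊤ H ∧ Act q 𝐍[H] H →
      ∃ K T : Subgroup G, IsSyl p T ⊤ ∧ K ≤ T ∧ T ≤ 𝐍[K] ∧ Act q ⊤ K := by
  induction n using Nat.strong_induction_on with
  | _ n ih =>
  intro G _ _ hn hsol H₀ hH₀ ⟨ha₀, _⟩
  have both : ∀ {X : Type u} [Group X] {H : Subgroup X}, Act q ⊤ H → Act q ⊤ H ∧ Act q 𝐍[H] H :=
    fun h => ⟨h, by obtain ⟨x, -, h1, h2⟩ := h; exact ⟨x, h1, h1, h2⟩⟩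
  have hcop : ∀ {x : G} {k : ℕ}, x ^ q ^ k = 1 → (orderOf x).Coprime p := fun h =>
    Nat.Coprime.coprime_dvd_left (orderOf_dvd_of_pow_eq_one h)
      (Nat.Coprime.pow_left _ ((Nat.coprime_primes hq.out hp.out).2 hpq.symm))
  by_cases hO : pCore p G = ⊥
  swap
  · set R := pCore p G
    have hR : IsPGroup p R := Grp.pCore_isPGroup p G
    by_cases hRa : Act q ⊤ R
    · obtain ⟨T, hT⟩ := exists_isSyl p (⊤ : Subgroup G)
      exact ⟨R, T, hT, hT.le_of_le_normalizer hR le_top le_normalizer_of_normal,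
        le_normalizer_of_normal, hRa⟩
    obtain ⟨x, -, h1, h2, k, h3⟩ := ha₀
    have hxR : x ∈ 𝐂[R] := by
      by_contra h
      exact hRa ⟨x, trivial, le_normalizer_of_normal (mem_top x), h, k, h3⟩
    set π := QuotientGroup.mk' R
    have hπ := QuotientGroup.mk'_surjective R
    have hk : IsPGroup p π.ker := by rwa [QuotientGroup.ker_mk']
    obtain ⟨K, T, hT, h4, h5, y, -, h6, h7, l, h8⟩ := ih _ (hn ▸ Grp.card_quotient_lt R hO) (G ⧸ R)
      rfl (fun H hH => (hsol _ (hH.comap_of_ker_isPGroup π hk)).of_comap π hπ) (H₀.map π)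
      (hH₀.map π) (both ⟨π x, trivial, map_normalizer_le π H₀ ⟨x, h1, rfl⟩, fun h => h2 (by
        have hx := zpowers_le.2 h1
        have e := Solv.coprime_commutator_eq_bot (zpowers x) H₀ hx
          (Solv.coprime_card_of_isPGroup hH₀ (by rw [Nat.card_zpowers]; exact hcop h3))
          (Or.inr (Solv.isSolvable_of_isPGroup hH₀)) (by
            rw [commutator_eq_bot_iff_le_centralizer, le_centralizer_iff]
            refine (zpowers_le.2 hxR).trans (centralizer_anti ?_)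
            rw [← QuotientGroup.ker_mk' R, ← Subgroup.map_eq_bot_iff, map_commutator,
              commutator_eq_bot_iff_le_centralizer, le_centralizer_iff, MonoidHom.map_zpowers]
            exact zpowers_le.2 h)
        rw [commutator_eq_bot_iff_le_centralizer, le_centralizer_iff] at e
        exact e (mem_zpowers x)), k, by rw [← map_pow, h3, map_one]⟩)
    obtain ⟨Q, hQ, hQy⟩ := exists_isPGroup_map_eq π hπ (isPGroup_zpowers ⟨l, h8⟩)
    obtain ⟨z, hz, rfl⟩ : y ∈ Q.map π := hQy ▸ mem_zpowers y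
    refine ⟨K.comap π, T.comap π, isSyl_of_not_dvd_relIndex (hT.2.comap_of_ker_isPGroup π hk)
      le_top ?_, comap_mono h4, (comap_mono h5).trans (le_normalizer_comap π), z, trivial,
      le_normalizer_comap π h6, fun h => h7 ?_, isPGroup_iff.1 hQ z hz⟩
    · rw [relIndex_top_right, index_comap_of_surjective _ hπ, ← relIndex_top_right]
      exact hT.not_dvd_relIndex
    · rw [← map_comap_eq_self_of_surjective hπ K]
      exact map_centralizer_le π _ ⟨z, h, rfl⟩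
  obtain ⟨⟨H, T⟩, ⟨hH, ha, hT⟩, hmax⟩ := Set.Finite.exists_maximalFor
    (fun HT : Subgroup G × Subgroup G => toLex (Nat.card HT.2, Nat.card HT.1))
    {HT | IsPGroup p HT.1 ∧ Act q ⊤ HT.1 ∧ IsSyl p HT.2 𝐍[HT.1]} (Set.toFinite _)
    (by obtain ⟨T, hT⟩ := exists_isSyl p 𝐍[H₀]; exact ⟨(H₀, T), hH₀, ha₀, hT⟩)
  simp only at hH ha hT
  have hmax' : ∀ K U : Subgroup G, IsPGroup p K → Act q ⊤ K → IsPGroup p U → U ≤ 𝐍[K] →
      Nat.card U ≤ Nat.card T ∧ (Nat.card T ≤ Nat.card U → Nat.card K ≤ Nat.card H) := by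
    intro K U h1 h2 h3 h4
    obtain ⟨V, hV, hUV⟩ := exists_isSyl_ge h3 h4
    have h5 := card_le_of_le hUV
    have h6 : ¬ toLex (Nat.card T, Nat.card H) < toLex (Nat.card V, Nat.card K) := fun h =>
      h.not_ge (hmax (j := (K, V)) ⟨h1, h2, hV⟩ h.le)
    rw [Prod.Lex.toLex_lt_toLex] at h6
    simp only at h6
    omega
  have hHT : H ≤ T := hT.le_of_le_normalizer hH le_normalizer hT.le
  by_cases hTs : IsSyl p T ⊤
  · exact ⟨H, T, hTs, hHT, hT.le, ha⟩
  exfalso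
  have hd := dvd_of_act ha
  have hL : 𝐍[H] ≤ 𝐍[𝐂[H] ⊔ H] :=
    le_normalizer_sup (Amb.normalizer_le_normalizer_centralizer H) le_rfl
  have hLN : 𝐂[H] ⊔ H ≤ 𝐍[H] := sup_le (centralizer_le_normalizer' H) le_normalizer
  have hT₀ := hT.inf_of_le hLN hL
  have hTT₀ : T ≤ 𝐍[T ⊓ (𝐂[H] ⊔ H)] := le_normalizer_inf le_normalizer (hT.le.trans hL)
  have hHT₀ : H ≤ T ⊓ (𝐂[H] ⊔ H) := le_inf hHT le_sup_right
  have e₀ : T ⊓ (𝐂[H] ⊔ H) = H := by
    have h1 := hT₀.frattini_sup hLN hL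
    rw [sup_assoc, sup_eq_right.2 (le_inf le_normalizer (hHT.trans hTT₀))] at h1
    have h2 : (𝐂[H]).relIndex 𝐍[H] = (𝐂[H]).relIndex (𝐍[H] ⊓ 𝐍[T ⊓ (𝐂[H] ⊔ H)]) := by
      nth_rewrite 1 [← h1]
      rw [sup_comm]
      exact relIndex_sup_of_le_normalizer
        (inf_le_left.trans (Amb.normalizer_le_normalizer_centralizer H))
    obtain ⟨x, h3, -, h4, h5⟩ := (act_of_dvd inf_le_left (h2 ▸ hd)).2
    exact (eq_of_le_of_card_ge hHT₀ ((hmax' _ T hT₀.2 ⟨x, trivial, h3.2,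
      fun h => h4 (centralizer_anti hHT₀ h), h5⟩ hT.2 hTT₀).2 le_rfl)).symm
  have hNs : IsPSolvable p 𝐍[H] := by
    haveI := normal_subgroupOf' (Amb.normalizer_le_normalizer_centralizer H)
    refine isPSolvable_of_normal_of_quotient _ ?_ (hsol H hH)
    refine IsPSolvable.of_mulEquiv ?_ (subgroupOfEquivOfLe (centralizer_le_normalizer' H)).symm
    haveI := normal_subgroupOf' (centralizer_le_normalizer' H)
    refine isPSolvable_of_normal_of_quotient (H.subgroupOf 𝐂[H])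
      (isPSolvable_of_isPGroup (Amb.isPGroup_subgroupOf hH _)) (isPSolvable_of_coprime ?_)
    have h1 := hT₀.not_dvd_relIndex
    rw [e₀, relIndex_sup_of_le_normalizer (centralizer_le_normalizer' H)] at h1
    exact (hp.out.coprime_iff_not_dvd.2 h1).symm
  have hT1 : T ≠ ⊥ := by
    rintro rfl
    obtain ⟨x, -, -, h2, -⟩ := ha
    rw [le_bot_iff.1 hHT] at h2
    exact h2 (fun y hy => by rw [mem_bot.1 hy, one_mul, mul_one])
  obtain ⟨P, hP, hTP⟩ := exists_isSyl_ge hT.2 (le_top : T ≤ ⊤)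
  have hlt := lt_inf_normalizer hP.2 (lt_of_le_of_ne hTP fun e => hTs (e ▸ hP))
  have fin : ∀ U : Subgroup G, U ≠ ⊥ → U ≤ T → 𝐍[T] ≤ 𝐍[U] → ¬ Act q 𝐍[U] H := by
    rintro U hU1 hUT hU ⟨x, h1, h2, h3, k, h4⟩
    have hne : 𝐍[U] ≠ ⊤ := fun e => hU1 (le_bot_iff.1 (hO ▸ Grp.le_pCore
      (normalizer_eq_top_iff.1 e) (hT.2.to_le hUT)))
    have hHU : H ≤ 𝐍[U] := hHT.trans (le_normalizer.trans hU)
    obtain ⟨K, V, hV, h5, h6, h7⟩ := ih _ (hn ▸ Grp.card_lt_of_ne_top hne) 𝐍[U] rfl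
      (fun K hK => (hsol _ (hK.map _)).of_map _ (𝐍[U]).subtype_injective) (H.subgroupOf 𝐍[U])
      (Amb.isPGroup_subgroupOf hH _) (both ⟨⟨x, h1⟩, trivial,
        le_normalizer_comap (𝐍[U]).subtype h2,
        by rw [Amb.centralizer_subgroupOf hHU]; exact h3, k, Subtype.ext h4⟩)
    have h8 := (hmax' (K.map (𝐍[U]).subtype) (V.map (𝐍[U]).subtype) ((hV.2.to_le h5).map _)
      (h7.map _ (𝐍[U]).subtype_injective) (hV.2.map _)
      ((map_mono h6).trans (map_normalizer_le _ _))).1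
    have h9 := hV.map (𝐍[U]).subtype
    rw [← MonoidHom.range_eq_map, range_subtype] at h9
    have h10 := h9.card_le (hP.2.to_le (inf_le_left : P ⊓ 𝐍[T] ≤ P)) (inf_le_right.trans hU)
    have := Grp.card_lt_of_lt hlt
    omega
  rcases local_step hpq h23 hH hNs hT hd with h | h
  · exact fin _ (omegaOne_ne_bot_of_isPGroup (hT.2.to_le inf_le_left)
      (Amb.inf_centralizer_ne_bot hT.2 hT.2 le_normalizer hT1))
      ((omegaOne_le _).trans inf_le_left) ((le_normalizer_inf le_rfl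
        (Amb.normalizer_le_normalizer_centralizer T)).trans (normalizer_le_normalizer_omegaOne _)) h
  · exact fin _ (thompsonSubgroupOf_ne_bot_of_isPGroup hT.2 hT1) (thompsonSubgroupOf_le T)
      (normalizer_le_normalizer_thompsonSubgroupOf T) h

/-- Let p and q be distinct primes with {p, q} ≠ {2, 3}, and let G be a finite group such that for every p-subgroup H of G the automizer N_G(H)/C_G(H) is p-solvable. If q divides the order of N_G(H)/C_G(H) for some p-subgroup H, then a Sylow p-subgroup of G has a normal subgroup K (normal in the Sylow subgroup) such that q divides the order of N_G(K)/C_G(K). -/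
theorem result {G : Type*} [Group G] [Finite G]
    (p q : ℕ) [Fact p.Prime] [Fact q.Prime] (hpq : p ≠ q) (h23 : ¬ ((p = 2 ∧ q = 3) ∨ (p = 3 ∧ q = 2)))
    (hsol : ∀ H : Subgroup G, IsPGroup p ↥H →
      Cfsg.IsPSolvable p (↥(Subgroup.normalizer (H : Set G)) ⧸ (Subgroup.centralizer (H : Set G)).subgroupOf (Subgroup.normalizer (H : Set G))))
    (H : Subgroup G) (hH : IsPGroup p ↥H)
    (hq : q ∣ ((Subgroup.centralizer (H : Set G)).subgroupOf (Subgroup.normalizer (H : Set G))).index)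
    (Gp : Sylow p G) :
    ∃ K : Subgroup G, K ≤ (Gp : Subgroup G) ∧ (Gp : Subgroup G) ≤ Subgroup.normalizer (K : Set G) ∧
      q ∣ ((Subgroup.centralizer (K : Set G)).subgroupOf (Subgroup.normalizer (K : Set G))).index := by
  obtain ⟨K, T, hT, h1, h2, h3⟩ := main hpq h23 _ G rfl hsol H hH (act_of_dvd le_rfl hq)
  obtain ⟨g, -, hg⟩ := (isSyl_top Gp).exists_cj_eq hT
  refine ⟨cj(g, K), hg ▸ cj_mono g h1, ?_, dvd_of_act (h3.map (MulAut.conj g).toMonoidHom
    (MulAut.conj g).injective)⟩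
  rw [← hg, normalizer_cj]
  exact cj_mono g h2

end Cfsg.Agent.S4411
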