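import Mathlib
import Cfsg.Statements.S4415
import Cfsg.Agent.H41.Cub6
import Cfsg.Agent.S3788
import Cfsg.Agent.S1288
import Cfsg.Agent.PLocal.PSolv

set_option autoImplicit false
open Cfsg

namespace Cfsg.Agent.S4415

/-- Let S be a finite solvable group acting faithfully on a finite-dimensional space E over the field with three elements, with O₃(S) = 1. Let B ≤ S have order 3 and suppose: E = E₀ ⊕ E₁ with B fixing E₁ pointwise, E₀ B-invariant of order 27 and indecomposable under B (a generator of B has a single Jordan block on E₀); B normalizes but does not centralize some subgroup Q of S that is elementary abelian of order 4; and B is the centre of a Sylow 3-subgroup of S. Put R = [O_{3'}(S), B]. Then R is elementary abelian of order 4 or extraspecial of order 32 containing an elementary abelian subgroup of order 8 (a central product of two quaternion groups), and E is the direct sum of a subspace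 fixed pointwise by R and an RB-invariant subspace on which the subgroup RB acts faithfully and irreducibly. -/
theorem result {S : Type*} [Group S] [Finite S]
    [Group.IsSolvable S] {E : Type*} [AddCommGroup E] [Module (ZMod 3) E] [Finite E] (ρ : Representation (ZMod 3) S E)
    (hfaith : Function.Injective ρ) (hO3 : Cfsg.pCore 3 S = ⊥)
    (B : Subgroup S) (hB : Nat.card ↥B = 3) (b : S) (hb : Subgroup.zpowers b = B)
    (E₀ E₁ : Submodule (ZMod 3) E) (hE01 : E₀ ⊓ E₁ = ⊥) (hE01' : E₀ ⊔ E₁ = ⊤)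
    (hE1 : ∀ v ∈ E₁, ρ b v = v) (hE0inv : ∀ v ∈ E₀, ρ b v ∈ E₀) (hE0 : Nat.card ↥E₀ = 27)
    (hind : ∃ v ∈ E₀, ρ b (ρ b v - v) - (ρ b v - v) ≠ 0)
    (Q : Subgroup S) (hQ : Cfsg.IsElementaryAbelian 2 Q) (hQ4 : Nat.card ↥Q = 4)
    (hBQ : B ≤ Subgroup.normalizer (Q : Set S)) (hBQ' : ¬ B ≤ Subgroup.centralizer (Q : Set S))
    (P : Sylow 3 S) (hBZ : (Subgroup.center ↥(P : Subgroup S)).map (P : Subgroup S).subtype = B) :
    ((Cfsg.IsElementaryAbelian 2 ⁅Cfsg.pPrimeCore 3 S, B⁆ ∧ Nat.card ↥⁅Cfsg.pPrimeCore 3 S, B⁆ = 4) ∨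
      (Cfsg.IsExtraspecial 2 ↥⁅Cfsg.pPrimeCore 3 S, B⁆ ∧ Nat.card ↥⁅Cfsg.pPrimeCore 3 S, B⁆ = 32 ∧
        ∃ A : Subgroup S, A ≤ ⁅Cfsg.pPrimeCore 3 S, B⁆ ∧ Cfsg.IsElementaryAbelian 2 A ∧ Nat.card ↥A = 8)) ∧
    ∃ F₀ F₁ : Submodule (ZMod 3) E, F₀ ⊓ F₁ = ⊥ ∧ F₀ ⊔ F₁ = ⊤ ∧
      (∀ r ∈ ⁅Cfsg.pPrimeCore 3 S, B⁆, ∀ v ∈ F₁, ρ r v = v) ∧ (∀ r ∈ ⁅Cfsg.pPrimeCore 3 S, B⁆ ⊔ B, ∀ v ∈ F₀, ρ r v ∈ F₀) ∧
      (∀ r ∈ ⁅Cfsg.pPrimeCore 3 S, B⁆ ⊔ B, (∀ v ∈ F₀, ρ r v = v) → r = 1) ∧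
      (∀ N : Submodule (ZMod 3) E, N ≤ F₀ → (∀ r ∈ ⁅Cfsg.pPrimeCore 3 S, B⁆ ⊔ B, ∀ v ∈ N, ρ r v ∈ N) → N = ⊥ ∨ N = F₀) := by
  subst hb
  have : Fact (Nat.Prime 3) := ⟨Nat.prime_three⟩
  have h3 : b ^ 3 = 1 := by rw [← hB, Nat.card_zpowers, pow_orderOf_eq_one]
  have hd : H41.Cub.dm ρ b ≤ 2 := by
    have h1 : H41.Cub.rg ρ b ≤ LinearMap.range ((ρ b - 1).domRestrict E₀) := by
      refine H41.Cub.rg_le fun v => ?_
      obtain ⟨x, hx, y, hy, rfl⟩ := Submodule.mem_sup.1 (hE01' ▸ Submodule.mem_top : v ∈ E₀ ⊔ E₁)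
      exact ⟨⟨x, hx⟩, by simp [hE1 y hy]⟩
    have h2 := LinearMap.finrank_range_add_finrank_ker ((ρ b - 1).domRestrict E₀)
    have h4 : Module.finrank (ZMod 3) E₀ = 3 := by
      rw [H41.Cub.card_sub] at hE0
      exact Nat.pow_right_injective (by norm_num : 2 ≤ 3) hE0
    obtain ⟨v, hv, hv0⟩ := hind
    have hv1 := sub_mem (hE0inv v hv) hv
    have h5 : LinearMap.ker ((ρ b - 1).domRestrict E₀) ≠ ⊥ := by
      rw [Submodule.ne_bot_iff]
      refine ⟨⟨_, sub_mem (hE0inv _ hv1) hv1⟩, ?_, fun e => hv0 (congrArg Subtype.val e)⟩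
      have e1 := H41.Cub.three (ρ b v)
      have e2 := H41.Cub.three (ρ b (ρ b v))
      simp only [LinearMap.mem_ker, LinearMap.domRestrict_apply, LinearMap.sub_apply, map_sub,
        Module.End.one_apply, H41.Cub.bbb h3]
      linear_combination (norm := abel) e1 - e2
    have h6 : Module.finrank (ZMod 3) (LinearMap.ker ((ρ b - 1).domRestrict E₀)) ≠ 0 := by
      rwa [Ne, Submodule.finrank_eq_zero]
    have h7 := Submodule.finrank_mono h1
    unfold H41.Cub.dm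
    omega
  obtain ⟨a, ha, hab⟩ : ∃ a ∈ Q, b * a ≠ a * b := by
    by_contra h
    push Not at h
    exact hBQ' (Subgroup.zpowers_le.2 fun a ha => (h a ha).symm)
  obtain ⟨t, ht, f⟩ := H41.Cub.four_of_ab h3 (A := Q) (fun x hx => ⟨1, hQ.2 x hx⟩)
    (fun x hx y hy => congrArg Subtype.val (hQ.1.is_comm.comm (⟨x, hx⟩ : Q) ⟨y, hy⟩))
    (fun x hx => (Subgroup.mem_normalizer_iff.1 (hBQ (Subgroup.mem_zpowers b)) x).1 hx) ha hab
  have hBP : Subgroup.zpowers b ≤ Cfsg.pPrimePCore 3 S := by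
    refine S3788.result PLocal.isPSolvable_of_isSolvable P _
      (hBZ ▸ Subgroup.map_subtype_le _) ?_ inferInstance (Or.inl (by norm_num))
    refine le_trans ?_ (Subgroup.centralizer_le_normalizer _)
    rw [← hBZ]
    rintro x hx _ ⟨c, hc, rfl⟩
    exact (congrArg Subtype.val (Subgroup.mem_center_iff.1 hc ⟨x, hx⟩)).symm
  have htK : t ∈ Cfsg.pPrimeCore 3 S := by
    have hn : (Cfsg.pPrimePCore 3 S).Normal := Subgroup.Normal.comap inferInstance _
    have hbN := hBP (Subgroup.mem_zpowers b)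
    have h1 := hn.conj_mem _ (mul_mem (hn.conj_mem b hbN t) (inv_mem hbN)) b
    have ti : t⁻¹ = t := inv_eq_of_mul_eq_one_right f.sq
    rw [ti, show t * b * t * b⁻¹ = t * (b * t * b⁻¹) by group, ← f.rot,
      show b * (b * (b * t * b⁻¹) * b⁻¹) * b⁻¹ = b ^ 3 * t * (b ^ 3)⁻¹ by rw [pow_three']; group,
      h3] at h1
    refine S1288.mem_of_coprime (by simpa using h1) ?_
    exact Nat.Coprime.coprime_dvd_left (orderOf_dvd_of_pow_eq_one (hQ.2 t ht)) (by norm_num)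
  exact H41.Cub.final hfaith hO3 h3 hd f (Grp.pPrimeCore_coprime 3 S) htK

end Cfsg.Agent.S4415
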