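import Mathlib
import Cfsg.Statements.S5235
import Cfsg.Agent.Fus.Resist
import Cfsg.Agent.FT.Metacyclic
import Cfsg.Agent.S4399
-- import your own Cfsg.Agent.* helpers here

set_option autoImplicit false
open Cfsg

namespace Cfsg.Agent.S5235

open Cfsg.Agent.Fus Cfsg.FusionSystem

open Subgroup
open scoped commutatorElement

section Pure

variable {G : Type*} [Group G]

theorem exists_gens {a b : G} [(zpowers a).Normal] (hab : zpowers a ⊔ zpowers b = ⊤)
    (U : Subgroup G) : ∃ g, ∃ h ∈ U, U ⊓ zpowers a = zpowers g ∧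
      ∀ y ∈ U, ∃ c ∈ zpowers g, ∃ j : ℤ, y = c * h ^ j := by
  obtain ⟨n, hn⟩ := (le_zpowers_iff a (U ⊓ zpowers a)).1 inf_le_right
  let π := QuotientGroup.mk' (zpowers a)
  obtain ⟨m, hm⟩ := (le_zpowers_iff (π b) (U.map π)).1 (by
    rintro _ ⟨y, -, rfl⟩
    obtain ⟨c, hc, i, rfl⟩ := Grp.PChain.mem_sup_zpowers.1 (hab ▸ mem_top y)
    rw [map_mul, map_zpow, show π c = 1 from (QuotientGroup.eq_one_iff c).2 hc, one_mul]
    exact ⟨i, rfl⟩)
  obtain ⟨h, hh, e⟩ : π b ^ m ∈ U.map π := hm ▸ mem_zpowers _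
  refine ⟨_, h, hh, hn, fun y hy => ?_⟩
  obtain ⟨j, hj⟩ : π y ∈ zpowers (π b ^ m) := hm ▸ ⟨y, hy, rfl⟩
  refine ⟨y * (h ^ j)⁻¹, hn ▸ mem_inf.2 ⟨mul_mem hy (U.inv_mem (zpow_mem hh j)), ?_⟩, j, by simp⟩
  simp only [← e] at hj
  rw [← QuotientGroup.eq_one_iff, ← QuotientGroup.mk'_apply, map_mul, map_inv,
    map_zpow, hj, mul_inv_cancel]

theorem mem_of_zpow_odd (hG : IsPGroup 2 G) {U : Subgroup G} {c : G} {m : ℤ} (hm : Odd m)
    (h : c ^ m ∈ U) : c ∈ U := by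
  obtain ⟨k, hk⟩ := hG c
  obtain ⟨u, v, e⟩ : IsCoprime m (2 ^ k) := (Int.isCoprime_two_right.2 hm).pow_right
  have : c = (c ^ m) ^ u * (c ^ 2 ^ k) ^ v := by
    rw [← zpow_natCast, ← zpow_mul, ← zpow_mul, ← zpow_add, mul_comm m, mul_comm _ v]
    push_cast
    rw [e, zpow_one]
  rw [this, hk, one_zpow, mul_one]
  exact zpow_mem h u

theorem normal_zpowers {a c : G} [hn : (zpowers a).Normal] (hc : c ∈ zpowers a) :
    (zpowers c).Normal := ⟨by
  rintro _ ⟨j, rfl⟩ y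
  obtain ⟨i, rfl⟩ := hc
  obtain ⟨k, hk⟩ := hn.conj_mem a (mem_zpowers a) y
  simp only at hk
  refine ⟨k * j, ?_⟩
  simp only
  rw [← conj_zpow, ← conj_zpow, ← hk, ← zpow_mul, ← zpow_mul, ← zpow_mul]
  congr 1; ring⟩

theorem comm_mem_sq [Finite G] {a c : G} [(zpowers a).Normal] (hc : c ∈ zpowers a) (y : G) :
    ⁅y, c⁆ ∈ zpowers (c ^ 2) := by
  obtain ⟨k, hk⟩ := (normal_zpowers hc).conj_mem c (mem_zpowers c) y
  simp only at hk
  rw [commutatorElement_def, ← hk]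
  obtain ⟨m, rfl | rfl⟩ := Int.even_or_odd' k
  · have h1 : zpowers (c ^ (2 * m)) = zpowers c := eq_of_le_of_card_ge
      (zpowers_le.2 ⟨_, rfl⟩) (by
        rw [Nat.card_zpowers, Nat.card_zpowers, hk, ← MulAut.conj_apply, MulEquiv.orderOf_eq])
    have h2 : zpowers c ≤ zpowers (c ^ 2) := h1 ▸ zpowers_le.2 ⟨m, by
      simp only; rw [zpow_mul]; norm_cast⟩
    exact h2 (mul_mem ⟨_, rfl⟩ (Subgroup.inv_mem _ (mem_zpowers c)))
  · exact ⟨m, by simp only; rw [zpow_add_one, zpow_mul, mul_inv_cancel_right]; norm_cast⟩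

theorem core [Finite G] (hG : IsPGroup 2 G) {a b : G} [(zpowers a).Normal]
    (hab : zpowers a ⊔ zpowers b = ⊤) {Q N : Subgroup G} (hQN : Q ≤ N)
    (hn : ∀ y ∈ N, ∀ q ∈ Q, y * q * y⁻¹ ∈ Q) (hne : ¬ N ≤ Q)
    (H : ∀ M ≤ Q, (∀ f, HomOn Q f → (∀ x ∈ Q, f x ∈ Q) → ∀ x ∈ M, f x ∈ M) → ∀ y ∈ N,
      (∀ q ∈ Q, ⁅q, y⁆ ∈ M) → (∀ q ∈ M, ⁅q, y⁆ ∈ closure {u | ∃ q ∈ Q, u = q ^ 2}) → y ∈ Q) :
    Nat.card (Abelianization G) = 4 ∧ (∀ x : Abelianization G, x ^ 2 = 1) ∧ Nat.card G ≠ 4 := by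
  set Sq := closure {u | ∃ q ∈ Q, u = q ^ 2}
  have hSq : ∀ q ∈ Q, zpowers (q ^ 2) ≤ Sq := fun q hq =>
    zpowers_le.2 (Subgroup.subset_closure ⟨q, hq, rfl⟩)
  have hcQ : ∀ q ∈ Q, ∀ y ∈ N, ⁅q, y⁆ ∈ Q := fun q hq y hy => by
    simpa [commutatorElement_def, mul_assoc] using mul_mem hq (hn y hy _ (Subgroup.inv_mem _ hq))
  have H0 : ∀ y ∈ N, (∀ q ∈ Q, ⁅q, y⁆ ∈ Sq) → y ∈ Q := fun y hy h =>
    H Q le_rfl (fun f _ h => h) y hy (fun q hq => hcQ q hq y hy) h
  obtain ⟨g, h, hh, hg, hgen⟩ := exists_gens hab N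
  have hgN : g ∈ N := (hg ▸ mem_zpowers g : g ∈ N ⊓ zpowers a).1
  have hga : g ∈ zpowers a := (hg ▸ mem_zpowers g : g ∈ N ⊓ zpowers a).2
  have hgQ : g ∉ Q := fun hgQ => by
    have : h ∈ Q := H0 h hh fun q hq => by
      obtain ⟨c, hc, j, rfl⟩ := hgen q (hQN hq)
      have : ⁅c * h ^ j, h⁆ = ⁅h, c⁆⁻¹ := by simp only [commutatorElement_def]; group
      rw [this]
      exact Subgroup.inv_mem _ (hSq c (zpowers_le.2 hgQ hc) (comm_mem_sq (zpowers_le.2 hga hc) h))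
    refine hne fun y hy => ?_
    obtain ⟨c, hc, j, rfl⟩ := hgen y hy
    exact mul_mem (zpowers_le.2 hgQ hc) (zpow_mem this j)
  have hg2 : zpowers (g ^ 2) ≤ zpowers g := zpowers_le.2 (npow_mem_zpowers g 2)
  have hcg : ∀ y, ⁅y, g ^ 2⁆ = ⁅y, g⁆ ^ 2 := fun y => Grp.CommPow.commutator_pow_right (by
    obtain ⟨i, hi⟩ := hg2 (comm_mem_sq hga y)
    exact hi ▸ (Commute.refl g).zpow_left i) 2
  have hg2Q : g ^ 2 ∈ Q := H0 _ (pow_mem hgN 2) fun q hq => by
    rw [hcg]; exact hSq _ (hcQ q hq g hgN) (mem_zpowers _)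
  have := normal_zpowers (pow_mem (pow_mem hga 2) 2)
  let π := QuotientGroup.mk' (zpowers ((g ^ 2) ^ 2))
  let D := (centralizer {π g}).comap π
  have hD : ∀ y, y ∈ D ↔ ⁅y, g⁆ ∈ zpowers ((g ^ 2) ^ 2) := fun y => by
    rw [mem_comap, mem_centralizer_singleton_iff, ← commutatorElement_eq_one_iff_mul_comm,
      ← map_commutatorElement]
    exact QuotientGroup.eq_one_iff _
  have hsq2 : ∀ v ∈ zpowers (g ^ 2), v ^ 2 ∈ zpowers ((g ^ 2) ^ 2) := by
    rintro _ ⟨i, rfl⟩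
    exact ⟨i, by simp only [← zpow_natCast, ← zpow_mul]; congr 1; ring⟩
  have hDsq : ∀ y, y ^ 2 ∈ D := fun y => by
    have h1 := comm_mem_sq hga y
    have : ⁅y ^ 2, g⁆ = ⁅y, ⁅y, g⁆⁆ * ⁅y, g⁆ ^ 2 := by
      simp only [commutatorElement_def, pow_two]; group
    rw [hD, this]
    exact mul_mem (zpowers_le.2 (hsq2 _ h1) (comm_mem_sq (zpowers_le.2 hga (hg2 h1)) y)) (hsq2 _ h1)
  have hodd : ∀ c ∈ zpowers a, ∀ y : G, ⁅y, c⁆ ∉ zpowers ((c ^ 2) ^ 2) → c ^ 2 ∈ zpowers ⁅y, c⁆ := by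
    intro c hc y hy
    obtain ⟨k, hk⟩ := comm_mem_sq hc y
    simp only at hk
    refine mem_of_zpow_odd hG (m := k) (Int.not_even_iff_odd.1 ?_) (hk ▸ mem_zpowers _)
    rintro ⟨m, rfl⟩
    exact hy ⟨m, by simp only; rw [← hk, ← two_mul, zpow_mul]; norm_cast⟩
  obtain ⟨h', hh', hh'D⟩ : ∃ h' ∈ Q, h' ∉ D := by
    by_contra hc
    push Not at hc
    exact hgQ (H0 g hgN fun q hq => hSq _ hg2Q ((hD q).1 (hc q hq)))
  have hg4 : (g ^ 2) ^ 2 ∈ ⁅Q, Q⁆ := by
    obtain ⟨i, hi⟩ := hodd g hga h' (fun h => hh'D ((hD _).2 h))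
    simp only at hi
    have := zpow_mem (commutator_mem_commutator hh' hg2Q) i
    rwa [hcg, ← zpow_natCast, ← zpow_mul, mul_comm, zpow_mul, hi, zpow_natCast] at this
  obtain ⟨y, hyQ, hy2, hyD⟩ : ∃ y ∈ Q, y ^ 2 ∈ ⁅Q, Q⁆ ∧ y ∉ D := by
    by_contra hc
    push Not at hc
    refine hgQ (H (closure {y | y ∈ Q ∧ y ^ 2 ∈ ⁅Q, Q⁆}) ((closure_le _).2 fun y hy => hy.1)
      (fun f hf hm => (hf.mono ((closure_le _).2 fun y hy => hy.1)).mem_of_closure fun y hy =>
        Subgroup.subset_closure ⟨hm y hy.1, by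
          rw [← hf.map_pow hy.1]
          exact ((commutator_le (H₃ := hf.pre ⁅Q, Q⁆)).2 (fun a ha b hb => ⟨AC.commElt_mem ha hb, by
            rw [hf.map_commutator ha hb]
            exact commutator_mem_commutator (hm a ha) (hm b hb)⟩) hy.2).2⟩) g hgN
      (fun q _ => zpowers_le.2 (Subgroup.subset_closure (by exact ⟨hg2Q, hg4⟩)) (comm_mem_sq hga q))
      fun q hq => hSq _ hg2Q ((hD q).1 ((closure_le _).2 (fun y hy => hc y hy.1 hy.2) hq)))
  have haD : zpowers a ≤ D := zpowers_le.2 ((hD a).2 (by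
    obtain ⟨i, rfl⟩ := hga
    rw [((Commute.refl a).zpow_right i).commutator_eq]; exact one_mem _))
  have ha2 : a ^ 2 ∈ commutator G := zpowers_le.2 (commutator_mem_commutator (mem_top y) (mem_top a))
    (hodd a (mem_zpowers a) y fun ⟨k, hk⟩ => hyD ((hD y).2 (by
      obtain ⟨i, rfl⟩ := hga
      simp only at hk ⊢
      rw [Grp.CommPow.commutator_zpow_right (hk ▸ (((Commute.refl a).pow_left 2).pow_left 2).zpow_left k),
        ← hk]
      refine ⟨k, ?_⟩
      simp only [← zpow_natCast, ← zpow_mul]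
      congr 1; ring)))
  obtain ⟨c, hc, j, e⟩ := Grp.PChain.mem_sup_zpowers.1 (hab ▸ mem_top y)
  have hj : Odd j := Int.not_even_iff_odd.1 (by
    rintro ⟨m, rfl⟩
    refine hyD (e ▸ mul_mem (haD hc) ?_)
    rw [zpow_add, ← pow_two]; exact hDsq _)
  have k1 : Abelianization.of a ^ 2 = 1 := by
    rw [← map_pow]; exact (QuotientGroup.eq_one_iff _).2 ha2
  have k2 : Abelianization.of y ^ 2 = 1 := by
    rw [← map_pow]; exact (QuotientGroup.eq_one_iff _).2 (commutator_mono le_top le_top hy2)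
  obtain ⟨f, hf⟩ := AC.exists_hom₂ k1 k2 (Commute.all _ _)
  have hsurj : Function.Surjective f := by
    have h1 : zpowers a ≤ f.range.comap Abelianization.of := zpowers_le.2 ⟨_, by simpa using hf 1 0⟩
    have h2 : y ∈ f.range.comap Abelianization.of := ⟨_, by simpa using hf 0 1⟩
    have h3 : f.range.comap Abelianization.of = ⊤ := top_le_iff.1 (hab ▸ sup_le h1 (zpowers_le.2
      (mem_of_zpow_odd hG hj ((mul_mem_cancel_left (h1 hc)).1 (e ▸ h2)))))
    intro x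
    obtain ⟨x, rfl⟩ := QuotientGroup.mk_surjective x
    exact (h3 ▸ mem_top x : x ∈ f.range.comap Abelianization.of)
  have hna : ¬ IsMulCommutative G := fun hc => hyD ((hD y).2 (by
    rw [commutatorElement_eq_one_iff_mul_comm.2 (hc.is_comm.comm y g)]; exact one_mem _))
  refine ⟨le_antisymm ((Nat.card_le_card_of_surjective f hsurj).trans (by simp))
    (Grp.MaxClass.sq_le_index_commutator hG fun h => hna h.isMulCommutative), fun x => ?_,
    fun h => hna (IsPGroup.isMulCommutative_of_card_eq_prime_sq (p := 2) h)⟩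
  obtain ⟨x, rfl⟩ := hsurj x
  rw [← map_pow, show x ^ 2 = 1 by revert x; decide, map_one]

end Pure

/-- Let F be a saturated fusion system over a finite 2-group S (p = 2) and P a metacyclic subgroup of S strongly closed in F that is not dihedral, not semidihedral and not generalized quaternion (here the group of order 2, the Klein four-group and the cyclic group of order 4 also count as excluded). Then P is normal in F. -/
theorem result {Ω : Type*} [Group Ω] {S : Subgroup Ω} [Finite S] (p : ℕ) [Fact p.Prime] (hS : IsPGroup p S) (F : Cfsg.FusionSystem S) (hF : F.IsSaturated p) (P : Subgroup Ω) (hP : F.StronglyClosed P) (hp : p = 2) (hm : Cfsg.IsMetacyclic ↥P) (hd : ¬ ∃ m : ℕ, Nonempty (↥P ≃* DihedralGroup m)) (hq : ¬ ∃ m : ℕ, Nonempty (↥P ≃* QuaternionGroup m)) (hsd : ¬ Cfsg.IsQuasiDihedral ↥P) : F.IsNormal P := by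
  subst hp
  refine isNormal_of_le_essential hS hF (weaklyClosed_of_stronglyClosed hP) fun R hR => ?_
  by_contra hne
  have : Finite P := finite_of_le hP.1
  have hRS := hR.1.1
  have : Finite R := finite_of_le hRS
  obtain ⟨a, b, _, hab⟩ := FT.R2.isMetacyclic_iff.1 hm
  have hPn := le_normalizerIn_of_weaklyClosed (weaklyClosed_of_stronglyClosed hP)
  obtain ⟨h1, h2, h3⟩ := core (isPGroup_of_le hS hP.1) hab (Q := R.subgroupOf P)
    (N := (normalizerIn S R).subgroupOf P) (comap_mono (le_normalizerIn hRS))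
    (fun y hy q hq => conj_mem_of_mem_normalizerIn (P := R) hy hq)
    (fun h => hne (le_of_normalizer_le hS hP.1 (hRS.trans hPn) fun x hx hx' => h (x := ⟨x, hx⟩) hx'))
    (fun M hM hinv y hy k1 k2 => by
      replace hy : (y : Ω) ∈ normalizerIn S R := hy
      have hc : ∀ q : R, ((q⁻¹ * conjAut R y hy.2 q : R) : Ω) = ⁅(q : Ω)⁻¹, (y : Ω)⁆ := fun q => by
        simp [commutatorElement_def, mul_assoc]
      refine (conjAut_mem_inn_iff hRS (isCentric_self hR.1) hy).1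
        ((ess_of_essential hS hF hR).toRad.mem_inn_of_three (isPGroup_of_le hS hRS)
        (L := (M.map P.subtype).subgroupOf R) (M := P.subgroupOf R) ?_
        (inv_subgroupOf_of_stronglyClosed hRS hP)
        (autInducedBy_le_autGroup F hRS (conjAut_mem_autInducedBy hy)) (fun q => ?_)
        (fun q hq => ?_) ?_)
      · classical
        rintro α hα x ⟨x', hx', e⟩
        have hm := isMap_afn hRS hα
        let f : P → P := fun u => if h : (u : Ω) ∈ R then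
          ⟨afn α u, hm.mem_of_stronglyClosed hP h u.2⟩ else 1
        have hf : ∀ u : P, (u : Ω) ∈ R → (f u : Ω) = afn α u := fun u hu => by simp [f, hu]
        refine ⟨f x', hinv f (fun u hu v hv => Subtype.ext ?_) (fun u hu => ?_) x' hx', ?_⟩
        · rw [coe_mul, hf u hu, hf v hv, hf (u * v) (mul_mem hu hv), coe_mul, afn_map_mul α (x := u) (y := v) hu hv]
        · rw [mem_subgroupOf, hf u hu]; exact afn_mem α hu
        · rw [coe_subtype, hf x' (hM hx'), show (x' : Ω) = x from e, afn_coe]; rfl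
      · rw [mem_subgroupOf, hc]
        simpa [commutatorElement_def, mul_assoc] using mul_mem
          (conj_mem_of_mem_normalizerIn (hPn (hRS (Subgroup.inv_mem _ q.2))) y.2) (Subgroup.inv_mem _ y.2)
      · rw [mem_subgroupOf, hc]
        exact ⟨_, k1 ⟨q, hq⟩⁻¹ (Subgroup.inv_mem _ q.2), rfl⟩
      · rintro q ⟨q', hq', e⟩
        obtain ⟨u, hu, e'⟩ := ((closure_le ((((frattini R).map R.subtype)).comap P.subtype)).2 (by
          rintro _ ⟨v, hv, rfl⟩
          exact ⟨⟨v, hv⟩ ^ 2, Grp.PFrattini.pow_mem_frattini (isPGroup_of_le hS hRS) _, rfl⟩)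
          (k2 _ (Subgroup.inv_mem _ hq')))
        suffices q⁻¹ * conjAut R y hy.2 q = u from this ▸ hu
        refine Subtype.ext ?_
        rw [hc, ← show (q' : Ω) = q from e]
        exact e'.symm)
  rcases S4399.result (isPGroup_of_le hS hP.1) h1 h2 with h | ⟨k, h⟩ | ⟨k, h, x, y, h4, h5, h6⟩ | ⟨k, h⟩
  · exact h3 h
  · exact hd ⟨_, h⟩
  · exact hsd ⟨k + 3, by omega, h, x, y, h4, h5, h6⟩
  · exact hq ⟨_, h⟩

end Cfsg.Agent.S5235
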