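import Cfsg.Statements.S4418
import Mathlib
import Cfsg.Agent.Grp.MetaAut
import Cfsg.Agent.Fus.EssTools
import Cfsg.Agent.Fus.GroupFus
import Cfsg.Agent.Transfer.Control
import Cfsg.Agent.Inv.SylowTwo
import Cfsg.Agent.Grp.Cores
import Cfsg.Agent.S5235
import Cfsg.Agent.S0949
import Cfsg.Agent.S0205

set_option autoImplicit false
open Cfsg

namespace Cfsg.Agent.S4418

theorem dih {X Q : Type*} [Group X] [Group Q] (f : X →* Q) (hf : ∀ a b, f a * f b = f b * f a)
    {m : ℕ} (e : X ≃* DihedralGroup m) (x : X) : f x ^ 2 = 1 := by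
  have h : ∀ i, f (e.symm (DihedralGroup.sr i)) ^ 2 = 1 := fun i => by
    rw [← map_pow, ← map_pow, pow_two, DihedralGroup.sr_mul_self, map_one, map_one]
  obtain ⟨y, rfl⟩ := e.symm.surjective x
  rcases y with i | i
  · have : DihedralGroup.r i = DihedralGroup.sr 0 * DihedralGroup.sr i := by simp
    rw [this, map_mul, map_mul, Commute.mul_pow (hf _ _), h, h, one_mul]
  · exact h i

theorem quat {X Q : Type*} [Group X] [Finite X] [Group Q] (hX : IsPGroup 2 X) (f : X →* Q)
    (hf : ∀ a b, f a * f b = f b * f a) (hx : ¬ ∀ x, f x ^ 2 = 1)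
    {m : ℕ} (e : X ≃* QuaternionGroup m) : IsCyclic X := by
  have h : ∀ i, f (e.symm (QuaternionGroup.a i)) ^ 2 = 1 := fun i => by
    have h1 : QuaternionGroup.a i * QuaternionGroup.xa 0 * QuaternionGroup.a i =
        QuaternionGroup.xa 0 := by simp
    have h2 := congrArg (fun y => f (e.symm y)) h1
    simp only [map_mul] at h2
    rw [hf (e.symm (QuaternionGroup.a i)), mul_assoc] at h2
    rw [pow_two]
    exact mul_left_cancel (h2.trans (mul_one _).symm)
  rcases Nat.even_or_odd m with ⟨k, hk⟩ | hm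
  · exfalso
    apply hx
    intro x
    obtain ⟨y, rfl⟩ := e.symm.surjective x
    rcases y with i | i
    · exact h i
    · rw [← map_pow, ← map_pow, QuaternionGroup.xa_sq]
      have : (QuaternionGroup.a (m : ZMod (2 * m)) : QuaternionGroup m) =
          QuaternionGroup.a (k : ZMod (2 * m)) ^ 2 := by
        rw [pow_two, QuaternionGroup.a_mul_a, ← Nat.cast_add, ← hk]
      rw [this, map_pow, map_pow, h]
  · haveI : NeZero m := ⟨by rintro rfl; simp at hm⟩
    obtain ⟨k, hk⟩ := hX.exists_card_eq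
    rw [Nat.card_congr e.toEquiv, Nat.card_eq_fintype_card, QuaternionGroup.card] at hk
    have h1 : m = 1 := Nat.eq_one_of_dvd_coprimes
      ((Nat.coprime_two_right.2 hm).pow_right k) dvd_rfl (hk ▸ dvd_mul_left m 4)
    subst h1
    haveI := QuaternionGroup.quaternionGroup_one_isCyclic
    exact isCyclic_of_surjective e.symm e.symm.surjective

theorem qd {X Q : Type*} [Group X] [Finite X] [Group Q] (hX : IsPGroup 2 X) (f : X →* Q)
    (hf : ∀ a b, f a * f b = f b * f a) (h : IsQuasiDihedral X) (g : X) : f g ^ 2 = 1 := by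
  obtain ⟨n, hn, hc, x, y, hx, hy, hyx⟩ := h
  obtain ⟨m, rfl⟩ : ∃ m, n = m + 3 := ⟨n - 3, by omega⟩
  have e1 : m + 3 - 1 = m + 2 := by omega
  rw [e1] at hyx
  have hp : 1 ≤ 2 ^ m := Nat.one_le_two_pow
  have e2 : 2 ^ (m + 2) - 1 = 2 * (2 * 2 ^ m - 1) + 1 := by rw [pow_add]; omega
  have hi := Grp.MaxClass.index_zpowers_of_orderOf (p := 2) two_pos (by omega) hc (by simpa using hx)
  have hyn : y ∉ Subgroup.zpowers x := by
    rintro ⟨k, rfl⟩
    simp only at hyx
    rw [((Commute.refl x).zpow_left k).eq, mul_inv_cancel_right, e2, pow_succ,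
      right_eq_mul, ← orderOf_dvd_iff_pow_eq_one, hx] at hyx
    have := Nat.le_of_dvd (by omega) hyx
    rw [pow_add] at this
    omega
  have htop := Grp.MaxClass.sup_zpowers_eq_top_of_prime_index Nat.prime_two hi hyn
  have hfy : f y ^ 2 = 1 := by rw [← map_pow, ← hy, pow_orderOf_eq_one, map_one]
  have hfx : f x ^ 2 = 1 := by
    have h1 := congrArg f hyx
    rw [map_mul, map_mul, hf y x, map_inv, mul_inv_cancel_right, map_pow, e2, pow_succ,
      right_eq_mul, pow_mul] at h1
    have h2 : (f x ^ 2) ^ 2 ^ (m + 3) = 1 := by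
      rw [← pow_mul, mul_comm, pow_mul, ← map_pow, ← hx, pow_orderOf_eq_one, map_one, one_pow]
    rw [← orderOf_eq_one_iff]
    refine Nat.eq_one_of_dvd_coprimes (Nat.Coprime.pow_right (m + 3) (Nat.coprime_two_right.2 ?_))
      (orderOf_dvd_of_pow_eq_one h1) (orderOf_dvd_of_pow_eq_one h2)
    exact ⟨2 ^ m - 1, by omega⟩
  let K : Subgroup X :=
    { carrier := {g | f g ^ 2 = 1}
      mul_mem' := fun {a b} ha hb => by
        simp only [Set.mem_setOf_eq] at ha hb ⊢
        rw [map_mul, Commute.mul_pow (hf _ _), ha, hb, one_mul]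
      one_mem' := by simp
      inv_mem' := fun {a} ha => by
        simp only [Set.mem_setOf_eq] at ha ⊢
        rw [map_inv, inv_pow, ha, inv_one] }
  have : (⊤ : Subgroup X) ≤ K := by
    rw [← htop]
    exact sup_le ((Subgroup.zpowers_le).2 hfx) ((Subgroup.zpowers_le).2 hfy)
  exact this (Subgroup.mem_top g)


/-- Let G be a finite group whose Sylow 2-subgroup S is metacyclic via a cyclic normal subgroup N of S with S/N cyclic of order greater than 2. Then G is soluble. -/
theorem result {G : Type*} [Group G] [Finite G] (S : Sylow 2 G) (N : Subgroup ↥(S : Subgroup G)) [hN : N.Normal] (hNc : IsCyclic N) (hQc : IsCyclic (↥(S : Subgroup G) ⧸ N)) (hQ : 2 < Nat.card (↥(S : Subgroup G) ⧸ N)) : Group.IsSolvable G := by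
  have hS := S.isPGroup'
  have hm : IsMetacyclic (S : Subgroup G) := ⟨N, hN, hNc, hQc⟩
  let f := QuotientGroup.mk' N
  have hf : ∀ a b, f a * f b = f b * f a := fun a b => by
    obtain ⟨g, hg⟩ := hQc.exists_zpow_surjective
    obtain ⟨i, hi⟩ := hg (f a)
    obtain ⟨j, hj⟩ := hg (f b)
    rw [← hi, ← hj]
    exact ((Commute.refl g).zpow_zpow i j).eq
  have hx : ¬ ∀ x, f x ^ 2 = 1 := by
    intro h
    obtain ⟨g, hg⟩ := IsCyclic.exists_ofOrder_eq_natCard (α := ↥(S : Subgroup G) ⧸ N)
    obtain ⟨x, rfl⟩ := QuotientGroup.mk'_surjective N g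
    have := Nat.le_of_dvd two_pos (orderOf_dvd_of_pow_eq_one (h x))
    change orderOf (f x) = _ at hg
    omega
  have hnpc : HasNormalPComplement 2 G → Group.IsSolvable G := by
    rintro ⟨T, K, hK, hc⟩
    have h1 : Group.IsSolvable K := S0205.result (by
      rw [← Nat.not_even_iff_odd, even_iff_two_dvd, ← hc.index_eq_card]
      exact T.not_dvd_index)
    have h2 : IsPGroup 2 (G ⧸ K) := by
      obtain ⟨k, hk⟩ := T.isPGroup'.exists_card_eq
      exact IsPGroup.of_card (n := k) (by rw [← hk, ← hc.symm.index_eq_card]; rfl)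
    haveI := h2.isNilpotent
    exact solvable_of_ker_le_range K.subtype (QuotientGroup.mk' K) (by simp)
  by_cases hcyc : IsCyclic (S : Subgroup G)
  · obtain ⟨K, hK, hc⟩ := Inv.exists_normal_complement_of_cyclic_sylow_two S hcyc
    exact hnpc ⟨S, K, hK, hc⟩
  have hq : ¬ ∃ m : ℕ, Nonempty (↥(S : Subgroup G) ≃* QuaternionGroup m) := by
    rintro ⟨m, ⟨e⟩⟩
    exact hcyc (quat hS f hf hx e)
  have hNm := S5235.result 2 hS (groupFusionSystem (S : Subgroup G)) (Fus.isSaturated_group S) S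
    (Fus.stronglyClosed_top _) rfl hm (fun ⟨m, ⟨e⟩⟩ => hx (dih f hf e)) hq
    (fun h => hx (qd hS f hf h))
  by_cases hA : ∀ α ∈ (groupFusionSystem (S : Subgroup G)).autGroup S, (orderOf α).Coprime 2 → α = 1
  · have h1 := Fus.eq_inner_of_isNormal_top hNm
      (Fus.autGroup_top_le_inn hS (Fus.isSaturated_group S) hA)
    refine hnpc (Transfer.hasNormalPComplement_of_no_fusion S fun x hx g hg => ?_)
    have h2 : conjHom (Subgroup.zpowers x) g ∈
        (groupFusionSystem (S : Subgroup G)).Hom (Subgroup.zpowers x) := by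
      refine ⟨(Subgroup.zpowers_le).2 hx, ?_, g, fun _ => rfl⟩
      rintro ⟨_, k, rfl⟩
      change g * x ^ k * g⁻¹ ∈ _
      rw [← conj_zpow]
      exact Subgroup.zpow_mem _ hg k
    rw [h1] at h2
    obtain ⟨-, v, hv, h3⟩ := h2
    exact ⟨v, hv, (h3 ⟨x, Subgroup.mem_zpowers x⟩).symm⟩
  push Not at hA
  obtain ⟨α, -, hc, h1⟩ := hA
  rcases Grp.MetaAut.main hS hm hc h1 with h | ⟨n, -, ⟨e⟩⟩
  · exact absurd ⟨2, h⟩ hq
  have hn : 2 ≤ n := by
    by_contra hn
    apply hx
    intro x
    rw [← map_pow, ← map_one f]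
    congr 1
    apply e.injective
    rw [map_pow, map_one]
    have : 2 ^ n ∣ 2 := by
      have : n = 0 ∨ n = 1 := by omega
      rcases this with rfl | rfl <;> simp
    have h2 : ∀ y : Multiplicative (ZMod (2 ^ n)), y ^ 2 = 1 := fun y =>
      orderOf_dvd_iff_pow_eq_one.1 ((orderOf_dvd_natCard y).trans (by simpa using this))
    exact Prod.ext (h2 _) (h2 _)
  let O := pPrimeCore 2 G
  let T := S.mapSurjective (QuotientGroup.mk'_surjective O)
  have hO : Odd (Nat.card O) := Nat.coprime_two_right.1 (Grp.pPrimeCore_coprime 2 G)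
  have e2 : ↥(S : Subgroup G) ≃* ↥(T : Subgroup (G ⧸ O)) := by
    refine MulEquiv.ofBijective ((QuotientGroup.mk' O).subgroupMap (S : Subgroup G))
      ⟨?_, (QuotientGroup.mk' O).subgroupMap_surjective _⟩
    refine (injective_iff_map_eq_one ((QuotientGroup.mk' O).subgroupMap (S : Subgroup G))).2 ?_
    intro s hs
    have h3 : (s : G) ∈ O := (QuotientGroup.eq_one_iff _).1 (congrArg Subtype.val hs)
    obtain ⟨k, hk⟩ := hS.exists_card_eq
    have h4 : orderOf (s : G) = 1 :=
      Nat.eq_one_of_dvd_coprimes ((Grp.pPrimeCore_coprime 2 G).pow_right k)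
        (Subgroup.orderOf_dvd_natCard _ h3) (hk ▸ Subgroup.orderOf_dvd_natCard _ s.2)
    exact Subtype.ext (orderOf_eq_one_iff.1 h4)
  obtain ⟨hT, -, hi⟩ := S0949.result T n hn
    ((e2.symm.trans e).trans (MulEquiv.prodMultiplicative _ _).symm) (fun K hK hodd => by
      have := Grp.le_pPrimeCore hK (Nat.coprime_two_right.2 hodd)
      rwa [Grp.pPrimeCore_quotient_pPrimeCore, le_bot_iff] at this)
  haveI := T.isPGroup'.isNilpotent
  haveI : Group.IsSolvable ((G ⧸ O) ⧸ (T : Subgroup (G ⧸ O))) := S0205.result (by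
    change Odd (T : Subgroup (G ⧸ O)).index
    rcases hi with h | h <;> rw [h] <;> decide)
  haveI : Group.IsSolvable (G ⧸ O) :=
    solvable_of_ker_le_range (T : Subgroup (G ⧸ O)).subtype (QuotientGroup.mk' (T : Subgroup (G ⧸ O)))
      (by simp)
  haveI : Group.IsSolvable O := S0205.result hO
  exact solvable_of_ker_le_range O.subtype (QuotientGroup.mk' O) (by simp)

end Cfsg.Agent.S4418
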