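import Cfsg.Statements.S4419
import Mathlib
import Cfsg.Agent.Grp.MetaAut
import Cfsg.Agent.Transfer.Frobenius
import Cfsg.Agent.Grp.Cores

set_option autoImplicit false
open Cfsg

namespace Cfsg.Agent.S4419

/-- Let p be a prime and G a finite group whose Sylow p-subgroups are metacyclic (a cyclic normal subgroup with cyclic quotient). Then G has a normal p-complement if and only if the order of G/O_{p′,p}(G) is coprime to p² − 1. -/
theorem result {G : Type*} [Group G] [Finite G] (p : ℕ) [Fact p.Prime] (S : Sylow p G) (hS : Cfsg.IsMetacyclic ↥(S : Subgroup G)) : Cfsg.HasNormalPComplement p G ↔ Nat.Coprime (Nat.card (G ⧸ Cfsg.pPrimePCore p G)) (p ^ 2 - 1) := by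
  have hp : p.Prime := Fact.out
  haveI hPN : (pPrimePCore p G).Normal := by unfold pPrimePCore; infer_instance
  have hle : pPrimeCore p G ≤ pPrimePCore p G := by
    intro x hx
    change QuotientGroup.mk' _ x ∈ pCore p _
    rw [QuotientGroup.mk'_apply, (QuotientGroup.eq_one_iff x).2 hx]
    exact Subgroup.one_mem _
  constructor
  · intro h
    obtain ⟨N, hN, hc, k, hk⟩ := Transfer.hasNormalPComplement_iff_exists_normal.1 h
    have h1 := Subgroup.index_dvd_of_le ((Grp.le_pPrimeCore hN hc).trans hle)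
    rw [hk] at h1
    refine Nat.Coprime.coprime_dvd_left h1 (Nat.Coprime.pow_left k ?_)
    have h2 : 1 ≤ p ^ 2 := Nat.one_le_pow _ _ hp.pos
    have h3 : Nat.Coprime (p ^ 2) (p ^ 2 - 1) := by
      obtain ⟨c, hc⟩ := Nat.exists_eq_add_of_le' h2
      rw [hc]; simp
    exact Nat.Coprime.coprime_dvd_left (dvd_pow_self p two_ne_zero) h3
  · intro h
    by_contra hn
    obtain ⟨B, q, g, hB, hq, hqp, ⟨k, hk⟩, hgN, hgC⟩ :=
      Transfer.exists_qElement_of_not_hasNormalPComplement hn
    obtain ⟨T, hT⟩ := hB.exists_le_sylow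
    have hBm : IsMetacyclic B :=
      FT.R2.isMetacyclic_of_le hT (FT.R2.isMetacyclic_of_surjective (S.equiv T).toMonoidHom
        (S.equiv T).surjective hS)
    let φ : MulAut B := B.normalizerMonoidHom ⟨g, hgN⟩
    have hφ : φ ≠ 1 := by
      intro h1
      apply hgC
      rw [Subgroup.mem_centralizer_iff]
      intro b hb
      have h2 := congrArg (fun ψ : MulAut B => (ψ ⟨b, hb⟩ : G)) h1
      have h3 : g * b * g⁻¹ = b := by simpa [φ] using h2
      exact (mul_inv_eq_iff_eq_mul.1 h3).symm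
    have hφq : orderOf φ ∣ q ^ k := by
      rw [← hk]
      refine (orderOf_map_dvd _ _).trans ?_
      rw [Subgroup.orderOf_mk]
    obtain ⟨j, -, hj⟩ := (Nat.dvd_prime_pow hq).1 hφq
    have hqφ : q ∣ orderOf φ := by
      rw [hj]
      refine dvd_pow_self q ?_
      rintro rfl
      exact hφ (orderOf_eq_one_iff.1 (by simpa using hj))
    have hq2 := Grp.MetaAut.prime_dvd_sq_sub_one hB hBm hq hqp (hqφ.trans (orderOf_dvd_natCard φ))
    have hc : (q ^ k).Coprime (Nat.card (G ⧸ pPrimePCore p G)) :=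
      Nat.Coprime.pow_left k (Nat.Coprime.coprime_dvd_left hq2 h.symm)
    have g1 : g ∈ pPrimePCore p G := by
      rw [← QuotientGroup.eq_one_iff, ← orderOf_eq_one_iff]
      refine Nat.eq_one_of_dvd_coprimes hc ?_ (orderOf_dvd_natCard _)
      rw [← hk]
      exact orderOf_map_dvd (QuotientGroup.mk' _) g
    have g2 : g ∈ pPrimeCore p G := by
      rw [← QuotientGroup.eq_one_iff, ← orderOf_eq_one_iff]
      obtain ⟨m, hm⟩ := Grp.pCore_isPGroup p (G ⧸ pPrimeCore p G) ⟨_, g1⟩
      have h3 : (g : G ⧸ pPrimeCore p G) ^ p ^ m = 1 := congrArg Subtype.val hm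
      refine Nat.eq_one_of_dvd_coprimes (a := q ^ k) (b := p ^ m)
        (Nat.Coprime.pow _ _ ((Nat.coprime_primes hq hp).2 hqp)) ?_ (orderOf_dvd_of_pow_eq_one h3)
      rw [← hk]
      exact orderOf_map_dvd (QuotientGroup.mk' _) g
    apply hgC
    rw [Subgroup.mem_centralizer_iff]
    intro b hb
    have h4 : b⁻¹ * (g * b * g⁻¹) ∈ B :=
      B.mul_mem (B.inv_mem hb) ((Subgroup.mem_normalizer_iff.1 hgN b).1 hb)
    have h5 : b⁻¹ * (g * b * g⁻¹) ∈ pPrimeCore p G := by
      have : b⁻¹ * (g * b * g⁻¹) = (b⁻¹ * g * b⁻¹⁻¹) * g⁻¹ := by group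
      rw [this]
      exact Subgroup.mul_mem _ (Subgroup.Normal.conj_mem inferInstance _ g2 _)
        (Subgroup.inv_mem _ g2)
    obtain ⟨m, hm⟩ := hB.exists_card_eq
    have h6 : orderOf (b⁻¹ * (g * b * g⁻¹)) = 1 :=
      Nat.eq_one_of_dvd_coprimes ((Grp.pPrimeCore_coprime p G).pow_right m)
        (Subgroup.orderOf_dvd_natCard _ h5) (hm ▸ Subgroup.orderOf_dvd_natCard _ h4)
    rw [orderOf_eq_one_iff, inv_mul_eq_one] at h6
    exact (mul_inv_eq_iff_eq_mul.1 h6.symm).symm

end Cfsg.Agent.S4419
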