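import Mathlib
import Cfsg.Statements.S4439
import Cfsg.Agent.Block.FongRed

set_option autoImplicit false
open Cfsg

namespace Cfsg.Agent.S4439
open Cfsg.Agent.Char
open Cfsg.Agent.Block

/-- Let G be a finite p-solvable group and B a p-block of G with defect group P (relative to a maximal ideal M of the algebraic integers containing p). Then the height of every irreducible character in B is at most the exponent of p in the index of the centre of P in P. -/
theorem result {G : Type*} [Group G] [Finite G] (p : ℕ) [Fact p.Prime] (M : Ideal Cfsg.AlgInt) (hM : Cfsg.IsPModular p M) (hsolv : Cfsg.IsPSolvable p G) (B : Set (Cfsg.IrrCharacter G)) (hB : Cfsg.IsPBlock M B) (P : Subgroup G) (hP : Cfsg.IsDefectGroup p M B P) (χ : Cfsg.IrrCharacter G) (hχ : χ ∈ B) : Cfsg.blockHeight p B (χ : G → ℂ) ≤ ((Subgroup.center P).index).factorization p := by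
  revert P χ
  refine fong_induction hM (fun G _ _ B => ∀ P : Subgroup G, IsDefectGroup p M B P →
    ∀ χ ∈ B, blockHeight p B (χ : G → ℂ) ≤ ((Subgroup.center P).index).factorization p)
    ?_ ?_ G hsolv B hB
  · intro G _ _ _ hG θ hinv hB P hP χ hχ
    obtain ⟨S, rfl⟩ := (isDefectGroup_above_iff hM (Grp.not_dvd_card_pPrimeCore p G) hinv hB).1 hP
    refine (Nat.sub_le _ _).trans (factorization_charDegree_le_of_invariant
      (PLocal.isPConstrained_of_isPSolvable hG) θ.2 ?_ χ.2 (mem_above_singleton.1 hχ) S)
    rw [eq_top_iff]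
    intro g _
    rw [mem_inertia, ← coe_conjIrr, hinv]
  · intro G _ _ _ hG θ T _ hNT _ hT B' B hsub hind ih P hP χ hχ
    have hb : IsPBlock M {θ} :=
      isPBlock_singleton_of_not_dvd hM (Grp.not_dvd_card_pPrimeCore p G) θ
    obtain ⟨ψ, hψ, e⟩ := (mem_iff_of_isInducedBlock_aboveIn hM hb hT.le hsub hind).1 hχ
    obtain ⟨D, hD⟩ := exists_isDefectGroup hM hind.1
    obtain ⟨y, rfl⟩ := exists_conj_eq_defectGroup hM hind.2.1
      (isDefectGroup_map_of_isInducedBlock_aboveIn hM hb hT.le hsub hind hD) hP
    rw [e, blockHeight_of_isInducedBlock_aboveIn hM hb hT.le hsub hind,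
      ← index_center_congr ((D.equivMapOfInjective _ T.subtype_injective).trans
        (Subgroup.equivMapOfInjective _ _ (MulAut.conj y).injective))]
    exact ih D hD ψ hψ

end Cfsg.Agent.S4439
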