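import Mathlib
import Cfsg.Statements.S4440
import Cfsg.Agent.Block.IBrQuot
import Cfsg.Agent.Block.FongRed
import Cfsg.Agent.Char.TripleIso

set_option autoImplicit false
open Cfsg

namespace Cfsg.Agent.S4440
open Cfsg.Agent.Char
open Cfsg.Agent.Block Subgroup MonoidAlgebra
open scoped ComplexConjugate
universe u

theorem dvd_orderOf_map {G H : Type*} [Group G] [Group H] [Finite G] {p : ℕ} [hp : Fact p.Prime]
    (f : G →* H) (hf : ¬ p ∣ Nat.card f.ker) {x : G} (hx : p ∣ orderOf x) : p ∣ orderOf (f x) := by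
  have h1 : x ^ orderOf (f x) ∈ f.ker := by rw [MonoidHom.mem_ker, map_pow, pow_orderOf_eq_one]
  have h2 : orderOf x ∣ orderOf (f x) * Nat.card f.ker := by
    rw [orderOf_dvd_iff_pow_eq_one, pow_mul, ← orderOf_dvd_iff_pow_eq_one]
    exact f.ker.orderOf_dvd_natCard h1
  exact ((hp.out.dvd_mul).1 (hx.trans h2)).resolve_right hf

theorem coeff_mul_eq_zero {G : Type*} [Group G] [Finite G] {p : ℕ} [Fact p.Prime]
    (K : Subgroup G) [K.Normal] (hK : ¬ p ∣ Nat.card K) {z w : MonoidAlgebra ℂ G}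
    (hz : ∀ g, p ∣ orderOf g → z.coeff g = 0) (hw : ∀ g ∉ K, w.coeff g = 0) {x : G}
    (hx : p ∣ orderOf x) : (z * w).coeff x = 0 := by
  have := Fintype.ofFinite G
  rw [coeff_mul_right]
  refine Finset.sum_eq_zero fun g _ => ?_
  by_cases hg : g ∈ K
  · rw [hz, zero_mul]
    have h1 := dvd_orderOf_map (QuotientGroup.mk' K) (by rwa [QuotientGroup.ker_mk']) hx
    have h2 : QuotientGroup.mk' K (x * g⁻¹) = QuotientGroup.mk' K x := by
      rw [map_mul, map_inv, QuotientGroup.mk'_apply K g, (QuotientGroup.eq_one_iff g).2 hg]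
      simp
    exact (h2 ▸ h1).trans (orderOf_map_dvd _ _)
  · rw [hw g hg, mul_zero]

theorem aux {p : ℕ} [hp : Fact p.Prime] {M : Ideal AlgInt} (hM : IsPModular p M) (G : Type u)
    [Group G] [Finite G] (hG : IsPSolvable p G) (U : Set (IrrCharacter G)) (hU : RegSet p U) :
    eSet U ∈ intAlg M G := by
  induction hn : (pPrimeCore p G).index using Nat.strong_induction_on generalizing G with
  | _ n ih =>
  classical
  have := Fintype.ofFinite G
  let N := pPrimeCore p G
  have := Fintype.ofFinite N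
  have hN : ¬ p ∣ Nat.card N := Grp.not_dvd_card_pPrimeCore p G
  by_cases htop : N = ⊤
  · exact eSet_mem_intAlg_of_not_dvd hM (by rwa [htop, card_top] at hN) U
  refine eSet_mem_intAlg_of_closed hM fun χ hχ ψ hχψ => ?_
  obtain ⟨θ, hθ⟩ := exists_irr_under N χ
  have hψθ := over_of_sameBlock hM hN hχψ hθ
  have hb : IsPBlock M {θ} := isPBlock_singleton_of_not_dvd hM hN θ
  by_cases hT : blockStab N {θ} = ⊤
  · have hinv : ∀ g : G, conjIrr N θ g = θ := fun g =>
      conjIrr_mem_of_mem_blockStab (b := {θ}) (hT ▸ mem_top g) rfl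
    obtain ⟨Γ, _, _, f, lam, c, Φ, h⟩ := exists_centralModel N θ.2 fun g n => by
      rw [← conjIrr_apply, hinv]
    have hA : ¬ p ∣ Nat.card f.ker := fun hd => by
      rcases (hp.out.dvd_mul).1 (hd.trans h.card_ker') with h1 | h1
      · exact hN (h1.trans (charDegree_irr_dvd_card θ))
      · exact hN (h1.trans (detOrder_dvd_card _))
    have hcore : f.ker = pPrimeCore p Γ := by
      rw [← Grp.comap_pPrimeCore_eq_of_surjective f h.surj (not_dvd_iff_coprime.1 hA),
        Grp.pPrimeCore_quotient_pPrimeCore, MonoidHom.comap_bot]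
    have hΓ : IsPSolvable p Γ := PLocal.isPSolvable_of_ker_of_range f
      (PLocal.isPSolvable_of_coprime (not_dvd_iff_coprime.1 hA))
      (PLocal.IsPSolvable.subgroup (PLocal.IsPSolvable.quotient hG N) _)
    have hidx : f.ker.index = N.index := by
      rw [index_ker, MonoidHom.range_eq_top.2 h.surj, card_top]; rfl
    have hU0 : RegSet p (U ∩ above N {θ}) := by
      intro g hg
      rw [← coeff_eSet, ← eSet_mul_eSet]
      exact coeff_mul_eq_zero N hN (z := eSet U) hU (w := eSet (above N {θ}))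
        (fun g hg => blockCoeff_above_of_notMem _ hg) hg
    let U' : Set (IrrCharacter Γ) := (fun χ' => (Φ χ').1) '' {χ' | χ'.1 ∈ U}
    have hU' : RegSet p U' := by
      intro γ hγ
      obtain ⟨g, hg, hc⟩ := h.ne_zero γ
      have h1 : p ∣ orderOf g := by
        have := dvd_orderOf_map f hA hγ
        rw [← hg] at this
        exact this.trans (orderOf_map_dvd (QuotientGroup.mk' N) g)
      have h2 := hU0 g h1
      have e : U ∩ above N {θ} = Subtype.val ''
          {χ' : {χ : IrrCharacter G // classInner (fun n : N => χ.1 n) θ ≠ 0} | χ'.1 ∈ U} := by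
        ext x
        simp only [Set.mem_inter_iff, mem_above_singleton, Set.mem_image, Set.mem_ofPred_eq]
        exact ⟨fun hx => ⟨⟨x, hx.2⟩, hx.1, rfl⟩, by rintro ⟨y, hy, rfl⟩; exact ⟨hy, y.2⟩⟩
      rw [blockCoeff, e, finsum_mem_image Subtype.val_injective.injOn,
        mul_eq_zero_iff_left (inv_ne_zero (card_ne_zero G))] at h2
      rw [blockCoeff, finsum_mem_image (s := {χ' | χ'.1 ∈ U}) (g := fun χ' => (Φ χ').1)
        (Subtype.val_injective.comp Φ.injective).injOn]
      refine mul_eq_zero_of_right _ (mul_left_cancel₀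
        (mul_ne_zero θ.2.one_ne_zero ((map_ne_zero conj).2 hc)) ?_)
      rw [mul_zero, mul_finsum_mem]
      refine Eq.trans (finsum_mem_congr rfl fun x _ => ?_) h2
      rw [h.apply_one, h.apply x g γ hg, map_mul]
      ring
    have hQ : pCore p Γ ≠ ⊥ := fun hb => by
      have h1 := PLocal.centralizer_pPrimeCore_le_of_isPSolvable hΓ hb
      rw [← hcore] at h1
      have h2 : f.ker = ⊤ := eq_top_iff.2 fun x _ => h1 fun y hy =>
        (mem_center_iff.1 (h.ker_le hy) x).symm
      rw [h2, index_top] at hidx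
      exact htop (index_eq_one.1 hidx.symm)
    have hint : eSet U' ∈ intAlg M Γ := by
      refine hU'.mem_intAlg_of_quotient hM (pCore p Γ) (Grp.pCore_isPGroup p Γ)
        (ih _ ?_ _ (PLocal.IsPSolvable.quotient hΓ _) _ (hU'.domSet _ _) rfl)
      rw [← hn]
      change _ < N.index
      rw [← hidx, hcore]
      refine (index_antitone (Grp.map_pPrimeCore_le_of_surjective p _
        (QuotientGroup.mk'_surjective (pCore p Γ)))).trans_lt ?_
      rw [index_map, QuotientGroup.ker_mk', MonoidHom.range_eq_top.2 (QuotientGroup.mk'_surjective _),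
        index_top, mul_one]
      refine index_strictAnti (left_lt_sup.2 fun hle => hQ ?_)
      rw [← Grp.pCore_inf_pPrimeCore p Γ, inf_eq_left.2 hle]
    have := Fintype.ofFinite f.ker
    have hB := isPBlock_above_of_isPConstrained hM (PLocal.isPConstrained_of_isPSolvable hΓ) hcore
      (θ := ⟨_, isIrrCharacter_linear lam⟩) fun g => Subtype.ext (funext fun z => by
        rw [conjIrr_apply]
        refine congrArg (fun x => (lam x : ℂ)) (Subtype.ext ?_)
        change g * z * g⁻¹ = z
        rw [mem_center_iff.1 (h.ker_le z.2) g, mul_inv_cancel_right])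
    have hmem : ∀ χ', (Φ χ').1 ∈ above f.ker {⟨_, isIrrCharacter_linear lam⟩} := by
      intro χ'
      rw [mem_above_singleton]
      have : (fun z : f.ker => (Φ χ').1.1 z) = (Φ χ').1.1 1 • fun z => (lam z : ℂ) := by
        funext z
        rw [(Φ χ').2 z, mul_comm]; rfl
      rw [this, classInner_smul_left, (isIrrCharacter_linear lam).inner_self, mul_one]
      exact (Φ χ').1.2.one_ne_zero
    obtain ⟨x, hx, e⟩ := mem_of_eSet_mem_intAlg hM hint ⟨⟨χ, hθ⟩, hχ, rfl⟩
      (sameBlock_of_mem hM hB (hmem ⟨χ, hθ⟩) (hmem ⟨ψ, hψθ⟩))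
    obtain rfl : x = ⟨ψ, hψθ⟩ := Φ.injective (Subtype.ext e)
    exact hx
  · set T := blockStab N {θ}
    have := Fintype.ofFinite T
    have hNT : N ≤ T := le_blockStab _
    obtain ⟨χ', hχ', e1⟩ := exists_mem_aboveIn_of_mem_above (hNT := hNT) hM hb le_rfl
      (mem_above_singleton.2 hθ)
    obtain ⟨ψ', hψ', e2⟩ := exists_mem_aboveIn_of_mem_above (hNT := hNT) hM hb le_rfl
      (mem_above_singleton.2 hψθ)
    let U' : Set (IrrCharacter T) := {η | η ∈ aboveIn hNT {θ} ∧ ∃ ξ ∈ U, ξ.1 = indFun T η.1}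
    have e : res ℂ T (eSet U) * eSet (aboveIn hNT {θ}) = eSet U' := by
      refine eq_eSet_of_om (mul_mem (res_mem_ZA T (eSet_mem_ZA U)) (eSet_mem_ZA _)) ?_ ?_
      · rintro η ⟨h1, ξ, hξ, e⟩
        rw [om_mul_central η.2 (eSet_mem_ZA _), om_eSet_of_mem h1, mul_one,
          ← om_indFun T _ (eSet_mem_ZA U), ← e, om_eSet_of_mem hξ]
      · intro η hη
        rw [om_mul_central η.2 (eSet_mem_ZA _)]
        by_cases h1 : η ∈ aboveIn hNT {θ}
        · rw [← om_indFun T _ (eSet_mem_ZA U)]
          exact mul_eq_zero_of_left (om_eSet_of_notMem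
            (ψ := ⟨_, isIrr_indFun_of_mem_aboveIn hM hb le_rfl h1⟩) fun h => hη ⟨h1, _, h, rfl⟩) _
        · rw [om_eSet_of_notMem h1, mul_zero]
    have hU' : RegSet p U' := by
      intro t ht
      have := Fintype.ofFinite (N.subgroupOf T)
      rw [← coeff_eSet, ← e]
      refine coeff_mul_eq_zero (N.subgroupOf T) ?_ (fun g hg => ?_) (fun g hg => ?_) ht
      · rwa [Nat.card_congr (subgroupOfEquivOfLe hNT).toEquiv]
      · exact hU g (by rwa [orderOf_coe])
      · rw [aboveIn_eq_above]
        exact blockCoeff_above_of_notMem _ hg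
    have hint := ih _ (by
      rw [← hn]
      refine (index_antitone (Grp.pPrimeCore_subgroupOf_le p T)).trans_lt ?_
      change N.relIndex T < N.index
      rw [← relIndex_mul_index hNT]
      exact lt_mul_of_one_lt_right (Nat.pos_of_ne_zero FiniteIndex.index_ne_zero)
        (one_lt_index_of_ne_top hT)) T (PLocal.IsPSolvable.subgroup hG T) U' hU' rfl
    obtain ⟨-, ξ, hξ, e3⟩ := mem_of_eSet_mem_intAlg hM hint (χ := χ') ⟨hχ', χ, hχ, e1⟩
      ((sameBlock_indFun_iff hM hb le_rfl hχ' hψ').1 (e1 ▸ e2 ▸ hχψ))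
    rwa [show ψ = ξ from Subtype.ext (e2.trans e3.symm)]


/-- Let G be a finite p-solvable group and fix a maximal ideal M of the algebraic integers containing p. Let U be a set of irreducible characters of G such that the class function Σ_{χ ∈ U} χ(1)·χ vanishes at every p-singular element of G. Then U is a union of p-blocks: if χ ∈ U and ψ lies in the same block as χ, then ψ ∈ U. -/
theorem result {G : Type*} [Group G] [Finite G] (p : ℕ) [Fact p.Prime] (M : Ideal Cfsg.AlgInt) (hM : Cfsg.IsPModular p M) (hsolv : Cfsg.IsPSolvable p G) (U : Set (Cfsg.IrrCharacter G)) (hU : ∀ x : G, p ∣ orderOf x → ∑ᶠ χ ∈ U, (χ : G → ℂ) 1 * (χ : G → ℂ) x = 0) (χ : Cfsg.IrrCharacter G) (hχ : χ ∈ U) (ψ : Cfsg.IrrCharacter G) (hψ : Cfsg.SameBlock M (χ : G → ℂ) (ψ : G → ℂ)) : ψ ∈ U := by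
  refine mem_of_eSet_mem_intAlg hM (aux hM G hsolv U fun g hg => ?_) hχ hψ
  have h := hU g⁻¹ (by rwa [orderOf_inv])
  rw [blockCoeff, finsum_mem_congr rfl fun ξ _ => by rw [← ξ.2.map_inv], h, mul_zero]

end Cfsg.Agent.S4440
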