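import Cfsg.Statements.S4479
import Mathlib
import Cfsg.Agent.Block.KleinOrder
import Cfsg.Agent.Char.Quot

set_option autoImplicit false
open Cfsg

namespace Cfsg.Agent.S4479


/-- An order formula from the principal 2-block. Let G be a finite group of order 4·g₀ with g₀ odd having no normal 2-complement (no normal subgroup of order g₀); let P be a Sylow 2-subgroup, J an involution of P, and fix a maximal ideal M of the algebraic integers containing 2. Suppose the principal 2-block consists of the principal character and three further distinct characters χ₁, χ₂, χ₃ of degrees x₁, x₂, x₃, with χ_i(J) = ε_i = ±1. Then, writing c(J) and c(P) for the orders of the centralizers of J and of P, the order of G equals 8·α·c(J)³/c(P)² with α = x₁x₂x₃ / ((x₁ + ε₁)(x₂ + ε₂)(x₃ + ε₃)). -/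
theorem result {G : Type*} [Group G] [Finite G] (M : Ideal Cfsg.AlgInt) (hM : Cfsg.IsPModular 2 M) (g₀ : ℕ) (hg₀ : Odd g₀) (hG : Nat.card G = 4 * g₀) (hnc : ¬ ∃ N : Subgroup G, N.Normal ∧ Nat.card N = g₀) (P : Sylow 2 G) (J : G) (hJ : J ∈ (P : Subgroup G)) (hJ2 : orderOf J = 2) (χ₁ χ₂ χ₃ : Cfsg.IrrCharacter G) (ε₁ ε₂ ε₃ : ℤ) (hB : Cfsg.principalBlock M G = {χ : Cfsg.IrrCharacter G | (χ : G → ℂ) = (fun _ => 1) ∨ χ = χ₁ ∨ χ = χ₂ ∨ χ = χ₃}) (hdist : (χ₁ : G → ℂ) ≠ (fun _ => 1) ∧ (χ₂ : G → ℂ) ≠ (fun _ => 1) ∧ (χ₃ : G → ℂ) ≠ (fun _ => 1) ∧ χ₁ ≠ χ₂ ∧ χ₁ ≠ χ₃ ∧ χ₂ ≠ χ₃) (hε : (ε₁ = 1 ∨ ε₁ = -1) ∧ (ε₂ = 1 ∨ ε₂ = -1) ∧ (ε₃ = 1 ∨ ε₃ = -1)) (hval : (χ₁ : G → ℂ) J = ε₁ ∧ (χ₂ : G → ℂ) J = ε₂ ∧ (χ₃ : G → ℂ) J = ε₃) : (Nat.card G : ℚ) = 8 * (((Cfsg.charDegree (χ₁ : G → ℂ) : ℚ) * Cfsg.charDegree (χ₂ : G → ℂ) * Cfsg.charDegree (χ₃ : G → ℂ)) / ((Cfsg.charDegree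 (χ₁ : G → ℂ) + ε₁) * (Cfsg.charDegree (χ₂ : G → ℂ) + ε₂) * (Cfsg.charDegree (χ₃ : G → ℂ) + ε₃))) * (Nat.card (Subgroup.centralizer ({J} : Set G)) : ℚ) ^ 3 / (Nat.card (Subgroup.centralizer ((P : Subgroup G) : Set G)) : ℚ) ^ 2 := by
  obtain ⟨hP, hone⟩ := Cfsg.Agent.Block.KleinOrder.klein_of_card hg₀ hG hnc P
  obtain ⟨r, hr, hc⟩ := Cfsg.Agent.Block.KleinOrder.count hM P hP hone hJ hJ2 hB hdist hε hval
  have hs := Cfsg.Agent.Block.KleinOrder.degree_sum hM hJ2 hB hdist hval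
  have hs' : (1 : ℚ) + ε₁ * charDegree (χ₁ : G → ℂ) + ε₂ * charDegree (χ₂ : G → ℂ) +
    ε₃ * charDegree (χ₃ : G → ℂ) = 0 := by exact_mod_cast hs
  have p1 : (charDegree (χ₁ : G → ℂ) : ℚ) ≠ 0 := by
    exact_mod_cast (Cfsg.Agent.Char.charDegree_pos_of_isIrr χ₁.2).ne'
  have p2 : (charDegree (χ₂ : G → ℂ) : ℚ) ≠ 0 := by
    exact_mod_cast (Cfsg.Agent.Char.charDegree_pos_of_isIrr χ₂.2).ne'
  have p3 : (charDegree (χ₃ : G → ℂ) : ℚ) ≠ 0 := by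
    exact_mod_cast (Cfsg.Agent.Char.charDegree_pos_of_isIrr χ₃.2).ne'
  have hcard := Subgroup.index_mul_card (Subgroup.centralizer ({J} : Set G))
  have hcP : (Nat.card (Subgroup.centralizer ((P : Subgroup G) : Set G)) : ℚ) ≠ 0 := by
    exact_mod_cast Nat.card_pos.ne'
  have hr0 : (r : ℚ) ≠ 0 := by
    rintro h
    have : r = 0 := by exact_mod_cast h
    rw [this, zero_mul] at hr
    exact Nat.card_pos.ne hr
  rw [← hcard, ← hr]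
  push_cast
  generalize (charDegree (χ₁ : G → ℂ) : ℚ) = x₁ at *
  generalize (charDegree (χ₂ : G → ℂ) : ℚ) = x₂ at *
  generalize (charDegree (χ₃ : G → ℂ) : ℚ) = x₃ at *
  generalize (Nat.card (Subgroup.centralizer ((P : Subgroup G) : Set G)) : ℚ) = c at *
  generalize ((Subgroup.centralizer ({J} : Set G)).index : ℚ) = k at *
  have q1 : (ε₁ : ℚ) ^ 2 = 1 := by rcases hε.1 with h | h <;> simp [h]
  have q2 : (ε₂ : ℚ) ^ 2 = 1 := by rcases hε.2.1 with h | h <;> simp [h]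
  have q3 : (ε₃ : ℚ) ^ 2 = 1 := by rcases hε.2.2 with h | h <;> simp [h]
  have key : (x₁ + ε₁) * (x₂ + ε₂) * (x₃ + ε₃) = x₁ * x₂ * x₃ * (1 + ε₁ / x₁ + ε₂ / x₂ + ε₃ / x₃) := by
    field_simp
    linear_combination (ε₁ * ε₂ * ε₃ : ℚ) * hs' - (ε₂ * ε₃ * x₁ : ℚ) * q1 - (ε₁ * ε₃ * x₂ : ℚ) * q2
      - (ε₁ * ε₂ * x₃ : ℚ) * q3
  have hne : 1 + ε₁ / x₁ + ε₂ / x₂ + ε₃ / x₃ ≠ 0 := by
    intro h
    rw [h, mul_zero] at hc
    exact hr0 (by simpa using hc.symm)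
  rw [key]
  generalize 1 + ε₁ / x₁ + ε₂ / x₂ + ε₃ / x₃ = s at *
  field_simp
  linear_combination hc

end Cfsg.Agent.S4479
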