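import Cfsg.Statements.S4480
import Mathlib
import Cfsg.Agent.Block.KleinOrder
import Cfsg.Agent.Char.Quot
import Cfsg.Agent.Char.RealClifford

set_option autoImplicit false
open Cfsg

namespace Cfsg.Agent.S4480

open Cfsg Cfsg.Agent.Char Cfsg.Agent.Block Cfsg.Agent.Block.KleinOrder in
theorem odd_sq {G : Type*} [Group G] [Finite G] (P : Sylow 2 G) (hP : IsKleinFour (P : Subgroup G))
    (s : G) : Odd (orderOf (s * s)) := by
  by_contra h
  rw [Nat.not_odd_iff_even] at h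
  obtain ⟨k, hk⟩ := h
  have hpos := orderOf_pos (s * s)
  have h4 : (s ^ k) ^ 2 ^ 2 = 1 := by
    rw [← pow_mul, show k * 2 ^ 2 = 2 * ((k + k)) by ring, pow_mul, sq, ← hk, pow_orderOf_eq_one]
  have hp : IsPGroup 2 (Subgroup.zpowers (s ^ k)) := by
    rintro ⟨_, n, rfl⟩
    refine ⟨2, Subtype.ext ?_⟩
    simp only [SubmonoidClass.coe_pow, OneMemClass.coe_one]
    rw [← zpow_natCast, ← zpow_mul, mul_comm, zpow_mul, zpow_natCast, h4, one_zpow]
  obtain ⟨Q, hQ⟩ := hp.exists_le_sylow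
  have hmem : s ^ k ∈ (Q : Subgroup G) := hQ (Subgroup.mem_zpowers _)
  have e := Sylow.equiv Q P
  have h2 : (e ⟨_, hmem⟩) ^ 2 = 1 := by
    have := Monoid.pow_exponent_eq_one (e ⟨_, hmem⟩)
    rwa [hP.exponent_two] at this
  rw [← map_pow, e.map_eq_one_iff] at h2
  have h3 : (s * s) ^ k = 1 := by
    have := congrArg Subtype.val h2
    simp only [SubmonoidClass.coe_pow, OneMemClass.coe_one] at this
    rw [← sq, ← pow_mul, mul_comm, pow_mul, this]
  have := Nat.le_of_dvd (by omega) (orderOf_dvd_of_pow_eq_one h3)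
  omega


/-- Same setting as the Klein-four order formula: G of order 4·g₀ (g₀ odd) with no normal 2-complement, P a Sylow 2-subgroup, J an involution of P, M over 2, principal 2-block {1, χ₁, χ₂, χ₃} with χ_i(J) = ε_i = ±1. Suppose ε₁ε₂ε₃ = −1 and ε₃ = −1, and put q = x₃ = χ₃(1). Then there is a natural number m with 4·c(J) = m·c(P)·(q + 1), and the order of G equals (m³·c(P)/4)·(q³ − q)/2, that is 8·#G = m³·c(P)·(q³ − q). -/
theorem result {G : Type*} [Group G] [Finite G] (M : Ideal Cfsg.AlgInt) (hM : Cfsg.IsPModular 2 M) (g₀ : ℕ) (hg₀ : Odd g₀) (hG : Nat.card G = 4 * g₀) (hnc : ¬ ∃ N : Subgroup G, N.Normal ∧ Nat.card N = g₀) (P : Sylow 2 G) (J : G) (hJ : J ∈ (P : Subgroup G)) (hJ2 : orderOf J = 2) (χ₁ χ₂ χ₃ : Cfsg.IrrCharacter G) (ε₁ ε₂ ε₃ : ℤ) (hB : Cfsg.principalBlock M G = {χ : Cfsg.IrrCharacter G | (χ : G → ℂ) = (fun _ => 1) ∨ χ = χ₁ ∨ χ = χ₂ ∨ χ = χ₃}) (hdist : (χ₁ : G → ℂ) ≠ (fun _ => 1) ∧ (χ₂ : G → ℂ)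 ≠ (fun _ => 1) ∧ (χ₃ : G → ℂ) ≠ (fun _ => 1) ∧ χ₁ ≠ χ₂ ∧ χ₁ ≠ χ₃ ∧ χ₂ ≠ χ₃) (hε : (ε₁ = 1 ∨ ε₁ = -1) ∧ (ε₂ = 1 ∨ ε₂ = -1) ∧ (ε₃ = 1 ∨ ε₃ = -1)) (hval : (χ₁ : G → ℂ) J = ε₁ ∧ (χ₂ : G → ℂ) J = ε₂ ∧ (χ₃ : G → ℂ) J = ε₃) (hprod : ε₁ * ε₂ * ε₃ = -1) (hε₃ : ε₃ = -1) : ∃ m : ℕ, 4 * Nat.card (Subgroup.centralizer ({J} : Set G)) = m * Nat.card (Subgroup.centralizer ((P : Subgroup G) : Set G)) * (Cfsg.charDegree (χ₃ : G → ℂ) + 1) ∧ 8 * Nat.card G = m ^ 3 * Nat.card (Subgroup.centralizer ((P : Subgroup G) : Set G)) * (Cfsg.charDegree (χ₃ : G → ℂ) ^ 3 - Cfsg.charDegree (χ₃ : G → ℂ)) := by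
  open Cfsg.Agent.Char Cfsg.Agent.Block Cfsg.Agent.Block.KleinOrder in
  classical
  have := Fintype.ofFinite G
  obtain ⟨hP, hone⟩ := klein_of_card hg₀ hG hnc P
  obtain ⟨r, hr, hc⟩ := count hM P hP hone hJ hJ2 hB hdist hε hval
  have hs := degree_sum hM hJ2 hB hdist hval
  have p1 := charDegree_pos_of_isIrr χ₁.2
  have p2 := charDegree_pos_of_isIrr χ₂.2
  have p3 := charDegree_pos_of_isIrr χ₃.2
  subst hε₃
  have h12 : ε₁ = 1 ∧ ε₂ = 1 := by
    rcases hε.1 with rfl | rfl <;> rcases hε.2.1 with rfl | rfl <;> omega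
  obtain ⟨rfl, rfl⟩ := h12
  have hodd : ∀ (χ : IrrCharacter G) (ε : ℤ), (χ : G → ℂ) J = ε → (ε = 1 ∨ ε = -1) →
      fsInd (χ : G → ℂ) = 0 ∨ fsInd (χ : G → ℂ) = 1 := by
    intro χ ε h1 h2
    by_cases hr : ∀ g, ((χ : G → ℂ) g).im = 0
    · right
      obtain ⟨k, hk⟩ := four_dvd_degree_sub hP χ (n := ε) fun z hz hz1 => by
        rw [← h1, χ.2.isClassFunction.eq_of_isConj (hone z J (Cfsg.Agent.Inv.Klein.orderOf_eq hP hz hz1) hJ2)]
      refine fsInd_eq_one_of_odd_degree χ.2 hr (d := charDegree (χ : G → ℂ)) ?_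
        (Block.cast_charDegree χ.2.isCharacter).symm
      rw [Nat.odd_iff]
      omega
    · left; exact fsInd_eq_zero_of_not_real χ.2 hr
  have hfs : 1 + fsInd (χ₁ : G → ℂ) + fsInd (χ₂ : G → ℂ) - fsInd (χ₃ : G → ℂ) = 0 := by
    have h0 : ∑ s : G, (1 + (χ₁ : G → ℂ) (s * s) + (χ₂ : G → ℂ) (s * s) - (χ₃ : G → ℂ) (s * s))
        = 0 := Finset.sum_eq_zero fun s _ => by
      have := phi_odd hM hJ2 hB hdist hval (odd_sq P hP s)
      push_cast at this
      linear_combination this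
    simp only [Finset.sum_add_distrib, Finset.sum_sub_distrib, Finset.sum_const, Finset.card_univ,
      ← Nat.card_eq_fintype_card, nsmul_eq_mul, mul_one] at h0
    have hG0 := card_ne_zero G
    simp only [fsInd_def]
    field_simp
    linear_combination h0
  have hν : fsInd (χ₁ : G → ℂ) = 0 := by
    rcases hodd χ₁ _ hval.1 hε.1 with a | a <;> rcases hodd χ₂ _ hval.2.1 hε.2.1 with b | b <;>
      rcases hodd χ₃ _ hval.2.2 hε.2.2 with c | c <;> rw [a, b, c] at hfs <;> norm_num at hfs <;>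
      exact a
  have hnr : irrConj χ₁ ≠ χ₁ := by
    intro h
    rcases fsInd_eq_one_or_of_real χ₁.2 (irrConj_eq_self_iff.1 h) with a | a <;> simp [hν] at a
  have hreal : ((irrConj χ₁ : G → ℂ) + (irrConj χ₂ : G → ℂ) - (irrConj χ₃ : G → ℂ)) =
      (χ₁ : G → ℂ) + χ₂ - χ₃ := by
    funext y
    simp only [Pi.add_apply, Pi.sub_apply, irrConj_apply]
    rcases Nat.even_or_odd (orderOf y) with hy | hy
    · have h := phi_even hM P hP hone hJ2 hB hε hval hy
      have h' := congrArg (starRingEnd ℂ) h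
      simp only [map_add, map_mul, map_one, map_intCast, map_ofNat] at h'
      push_cast at h h'
      linear_combination h' - h
    · have h := phi_odd hM hJ2 hB hdist hval hy
      have h' := congrArg (starRingEnd ℂ) h
      simp only [map_add, map_mul, map_one, map_intCast, map_zero] at h'
      push_cast at h h'
      linear_combination h' - h
  have h21 : irrConj χ₂ = χ₁ := by
    by_contra hne
    have := congrArg (fun f => classInner f (χ₁ : G → ℂ)) hreal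
    simp only [classInner_sub_left, classInner_add_left, irr_inner, if_neg hnr, if_neg hne,
      if_neg hdist.2.2.2.1.symm, if_neg hdist.2.2.2.2.1.symm, if_true] at this
    split_ifs at this <;> norm_num at this
  have hx : charDegree (χ₂ : G → ℂ) = charDegree (χ₁ : G → ℂ) := by
    rw [← h21, charDegree_irrConj]
  have hcard := Subgroup.index_mul_card (Subgroup.centralizer ({J} : Set G))
  rw [← hcard, ← hr]
  rw [hx] at hs hc
  have hq : charDegree (χ₃ : G → ℂ) = 2 * charDegree (χ₁ : G → ℂ) + 1 := by omega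
  rw [hq] at hc ⊢
  generalize charDegree (χ₁ : G → ℂ) = x at *
  generalize Nat.card (Subgroup.centralizer ((P : Subgroup G) : Set G)) = c at *
  generalize (Subgroup.centralizer ({J} : Set G)).index = k at *
  have hk : k * (x + 1) ^ 2 = (2 * r) ^ 2 * (x * (2 * x + 1)) := by
    have hx0 : (x : ℚ) ≠ 0 := by exact_mod_cast p1.ne'
    have hx1 : (2 * x + 1 : ℚ) ≠ 0 := by positivity
    push_cast at hc
    field_simp at hc
    have : (k * (x + 1) ^ 2 : ℚ) = (2 * r) ^ 2 * (x * (2 * x + 1)) := by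
      linear_combination hc / 2
    exact_mod_cast this
  have hcop : Nat.Coprime ((x + 1) ^ 2) (x * (2 * x + 1)) := by
    refine Nat.Coprime.pow_left 2 (Nat.Coprime.mul_right (by simp) ?_)
    rw [show 2 * x + 1 = x + (x + 1) by ring, Nat.coprime_add_self_right]
    simp
  have hdvd : (x + 1) ∣ 2 * r := by
    rw [← Nat.pow_dvd_pow_iff two_ne_zero]
    exact hcop.dvd_of_dvd_mul_right ⟨k, by rw [← hk, mul_comm]⟩
  obtain ⟨m, hm⟩ := hdvd
  refine ⟨m, by nlinarith [hm], ?_⟩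
  have hk2 : k = m ^ 2 * (x * (2 * x + 1)) := by
    rw [hm] at hk
    exact Nat.eq_of_mul_eq_mul_right (show 0 < (x + 1) ^ 2 by positivity) (by rw [hk]; ring)
  have : (2 * x + 1) ^ 3 - (2 * x + 1) = 4 * x * (x + 1) * (2 * x + 1) := by
    rw [Nat.sub_eq_iff_eq_add (Nat.le_self_pow (by norm_num) _)]; ring
  rw [this, hk2, show 8 * (m ^ 2 * (x * (2 * x + 1)) * (r * c)) =
    4 * (m ^ 2 * (x * (2 * x + 1)) * ((2 * r) * c)) by ring, hm]
  ring

end Cfsg.Agent.S4480
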