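import Cfsg.Statements.S4501
import Mathlib
import Cfsg.Agent.Small.BT
import Cfsg.Agent.Small.PrimeSylow
import Cfsg.Agent.Block.KleinOrder
import Cfsg.Agent.Class.SmallIso
import Cfsg.Agent.S0144
import Cfsg.Agent.S3331
import Cfsg.Agent.S3968

set_option autoImplicit false
open Cfsg

namespace Cfsg.Agent.S4501

open Cfsg.Agent.Small Cfsg.Agent.Char Cfsg.Agent.Block Subgroup

theorem three_case {G : Type*} [Group G] [Finite G] [IsSimpleGroup G] (hG : ¬ IsMulCommutative G)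
    {p q a b : ℕ} (hp : p.Prime) (hq : q.Prime) (hpq : p ≠ q) (hp3 : p ≠ 3) (hq3 : q ≠ 3)
    (h : Nat.card G = p ^ a * q ^ b * 3) : Nonempty (G ≃* alternatingGroup (Fin 5)) ∨
      Nonempty (G ≃* Matrix.ProjectiveSpecialLinearGroup (Fin 2) (ZMod 7)) := by
  have : Fact (Nat.Prime 3) := ⟨Nat.prime_three⟩
  obtain ⟨S⟩ : Nonempty (Sylow 3 G) := inferInstance
  have hS : Nat.card (S : Subgroup G) = 3 := by
    rw [card_sylow_subgroup (k := 1) (m := p ^ a * q ^ b) (by rw [h]; ring) ?_ S, pow_one]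
    intro h4
    rcases Nat.prime_three.dvd_mul.mp h4 with h5 | h5
    · exact hp3 ((Nat.prime_dvd_prime_iff_eq Nat.prime_three hp).mp
        (Nat.prime_three.dvd_of_dvd_pow h5)).symm
    · exact hq3 ((Nat.prime_dvd_prime_iff_eq Nat.prime_three hq).mp
        (Nat.prime_three.dvd_of_dvd_pow h5)).symm
  have hs := not_isSolvable hG
  rcases S3331.result (S : Subgroup G) hS (S0904.result p q 3 a b hp hq hpq hp3 hq3 h S) with
    ⟨N, hN, h1, -, h2⟩ | ⟨N, hN, h1, -, ⟨e⟩⟩ | h1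
  · exfalso
    have : Group.IsSolvable (G ⧸ N) := by
      rcases h2 with h2 | ⟨⟨e⟩⟩
      · have := isCyclic_of_prime_card h2
        infer_instance
      · have : Group.IsSolvable (Equiv.Perm (Fin 3)) :=
          S0144.result 2 3 1 1 Nat.prime_two Nat.prime_three (by simp [Fintype.card_perm, Nat.factorial])
        exact Group.isSolvable_of_surjective (f := e.symm.toMonoidHom) e.symm.surjective
    exact hs (Group.isSolvable_of_ker_le_range N.subtype (QuotientGroup.mk' N) (by simp))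
  · rcases hN.eq_bot_or_eq_top with rfl | rfl
    · exact Or.inl ⟨QuotientGroup.quotientBot.symm.trans e⟩
    · exact absurd ⟨⟨fun x y => congrArg Subtype.val (h1.is_comm.comm ⟨x, mem_top x⟩ ⟨y, mem_top y⟩)⟩⟩
        hG
  · exact Or.inr h1

theorem key {p q m i r : ℕ} (hp : p.Prime) (hq : q.Prime)
    (hm : ∀ l : ℕ, l.Prime → l ∣ m → l = 2 ∨ l = p ∨ l = q) (hr : r ∣ m) {x y z : ℤ}
    (hx : x ∣ m) (hy : y ∣ m) (hz : z ∣ m) (x4 : x % 4 = 1) (y4 : y % 4 = 1) (z4 : z % 4 = 1)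
    (x1 : x ≠ 1) (y1 : y ≠ 1) (z1 : z ≠ 1) (hs : 1 + x + y + z = 0)
    (h : i * ((x + 1) * (y + 1) * (z + 1)) = 8 * r ^ 2 * (x * y * z))
    (hqx : ¬ (q : ℤ) ∣ x) (hpy : ¬ (p : ℤ) ∣ y) : z = -3 := by
  have aux : ∀ w : ℤ, w ∣ m → w % 4 = 1 → w ≠ 1 → (p : ℤ) ∣ w ∨ (q : ℤ) ∣ w := by
    intro w h1 h2 h3
    obtain ⟨l, hl, h4⟩ := Nat.exists_prime_and_dvd (n := w.natAbs) (by omega)
    have h5 := Int.natCast_dvd.2 h4
    rcases hm l hl (Int.natCast_dvd_natCast.1 (h5.trans h1)) with rfl | rfl | rfl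
    · omega
    · exact Or.inl h5
    · exact Or.inr h5
  have hpx := (aux x hx x4 x1).resolve_right hqx
  have hqy := (aux y hy y4 y1).resolve_left hpy
  obtain ⟨w, hw⟩ : ∃ w, z + 1 = 2 * w := ⟨(z + 1) / 2, by omega⟩
  by_contra h3
  obtain ⟨l, hl, h4⟩ := Nat.exists_prime_and_dvd (n := w.natAbs) (by omega)
  have h5 := Int.natCast_dvd.2 h4
  have h6 : (l : ℤ) ∣ x + y := by
    rw [show x + y = -2 * w by omega]; exact h5.mul_left _
  have hl' := Nat.prime_iff_prime_int.1 hl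
  have h7 : (l : ℤ) ∣ 8 * r ^ 2 * (x * y * z) := by
    rw [← h, hw]; exact ((h5.mul_left _).mul_left _).mul_left _
  have h8 : l = 2 ∨ l ∣ m := by
    rcases hl'.dvd_or_dvd h7 with h8 | h8
    · rcases hl'.dvd_or_dvd h8 with h8 | h8
      · left
        have : l ∣ 2 ^ 3 := Int.natCast_dvd_natCast.1 h8
        exact (Nat.prime_dvd_prime_iff_eq hl Nat.prime_two).1 (hl.dvd_of_dvd_pow this)
      · exact Or.inr ((Int.natCast_dvd_natCast.1 (hl'.dvd_of_dvd_pow h8)).trans hr)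
    · right
      rw [← Int.natCast_dvd_natCast]
      rcases hl'.dvd_or_dvd h8 with h8 | h8
      · rcases hl'.dvd_or_dvd h8 with h8 | h8
        · exact h8.trans hx
        · exact h8.trans hy
      · exact h8.trans hz
  rcases h8.elim Or.inl (hm l hl) with rfl | rfl | rfl
  · omega
  · exact hpy ((dvd_add_right hpx).1 h6)
  · exact hqx ((dvd_add_left hqy).1 h6)

theorem exists_three {p q m i r : ℕ} (hp : p.Prime) (hq : q.Prime)
    (hm : ∀ l : ℕ, l.Prime → l ∣ m → l = 2 ∨ l = p ∨ l = q) (hr : r ∣ m) {x y z : ℤ}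
    (hx : x ∣ m) (hy : y ∣ m) (hz : z ∣ m) (x4 : x % 4 = 1) (y4 : y % 4 = 1) (z4 : z % 4 = 1)
    (x1 : x ≠ 1) (y1 : y ≠ 1) (z1 : z ≠ 1) (hs : 1 + x + y + z = 0)
    (h : i * ((x + 1) * (y + 1) * (z + 1)) = 8 * r ^ 2 * (x * y * z)) :
    x = -3 ∨ y = -3 ∨ z = -3 := by
  have aux : ∀ w : ℤ, w ∣ m → w % 4 = 1 → w ≠ 1 → (p : ℤ) ∣ w ∨ (q : ℤ) ∣ w := by
    intro w h1 h2 h3
    obtain ⟨l, hl, h4⟩ := Nat.exists_prime_and_dvd (n := w.natAbs) (by omega)
    have h5 := Int.natCast_dvd.2 h4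
    rcases hm l hl (Int.natCast_dvd_natCast.1 (h5.trans h1)) with rfl | rfl | rfl
    · omega
    · exact Or.inl h5
    · exact Or.inr h5
  have nd : ∀ l : ℕ, l.Prime → ¬ (l : ℤ) ∣ x ∨ ¬ (l : ℤ) ∣ y ∨ ¬ (l : ℤ) ∣ z := by
    intro l hl
    by_contra h1
    push Not at h1
    have : (l : ℤ) ∣ 1 := by
      rw [show (1 : ℤ) = -(x + y + z) by omega]; exact ((h1.1.add h1.2.1).add h1.2.2).neg_right
    exact hl.ne_one (Nat.dvd_one.1 (Int.natCast_dvd_natCast.1 this))
  rcases nd q hq with h1 | h1 | h1 <;> rcases nd p hp with h2 | h2 | h2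
  · exact absurd (aux x hx x4 x1) (by tauto)
  · exact Or.inr (Or.inr (key hp hq hm hr hx hy hz x4 y4 z4 x1 y1 z1 hs h h1 h2))
  · exact Or.inr (Or.inl (key (i := i) hp hq hm hr hx hz hy x4 z4 y4 x1 z1 y1 (by omega)
      (by linear_combination h) h1 h2))
  · exact Or.inr (Or.inr (key (i := i) hp hq hm hr hy hx hz y4 x4 z4 y1 x1 z1 (by omega)
      (by linear_combination h) h1 h2))
  · exact absurd (aux y hy y4 y1) (by tauto)
  · exact Or.inl (key (i := i) hp hq hm hr hy hz hx y4 z4 x4 y1 z1 x1 (by omega)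
      (by linear_combination h) h1 h2)
  · exact Or.inr (Or.inl (key (i := i) hp hq hm hr hz hx hy z4 x4 y4 z1 x1 y1 (by omega)
      (by linear_combination h) h1 h2))
  · exact Or.inl (key (i := i) hp hq hm hr hz hy hx z4 y4 x4 z1 y1 x1 (by omega)
      (by linear_combination h) h1 h2)
  · exact absurd (aux z hz z4 z1) (by tauto)

theorem exists_deg_three {G : Type*} [Group G] [Finite G] [IsSimpleGroup G]
    (hG : ¬ IsMulCommutative G) {p q a b : ℕ} (hp : p.Prime) (hq : q.Prime) (hp2 : p ≠ 2)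
    (hq2 : q ≠ 2) (h : Nat.card G = 4 * (p ^ a * q ^ b)) :
    ∃ χ : IrrCharacter G, charDegree (χ : G → ℂ) = 3 := by
  obtain ⟨P⟩ : Nonempty (Sylow 2 G) := inferInstance
  obtain ⟨M, hM⟩ := exists_isPModular Nat.prime_two
  have hodd : Odd (p ^ a * q ^ b) := (hp.odd_of_ne_two hp2).pow.mul (hq.odd_of_ne_two hq2).pow
  obtain ⟨hP, hone⟩ := KleinOrder.klein_of_card hodd h (by
    rintro ⟨N, hN, h1⟩
    rcases hN.eq_bot_or_eq_top with rfl | rfl
    · rw [card_bot] at h1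
      exact not_isSolvable hG (S0144.result 2 2 2 0 Nat.prime_two Nat.prime_two (by rw [h, ← h1]; rfl))
    · rw [card_top] at h1
      have := Nat.card_pos (α := G)
      omega) P
  obtain ⟨χ₁, χ₂, χ₃, n, h1, h2, h3, h12, h13, h23, hB, hv, hε, -⟩ := klein_principal hM P hP hone
  obtain ⟨J, hJ⟩ := exists_prime_orderOf_dvd_card' (G := (P : Subgroup G)) 2
    (by rw [hP.card_four]; norm_num)
  have hJ2 : orderOf (J : G) = 2 := by rw [orderOf_coe, hJ]
  have hB' : principalBlock M G =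
      {χ : IrrCharacter G | (χ : G → ℂ) = (fun _ => 1) ∨ χ = χ₁ ∨ χ = χ₂ ∨ χ = χ₃} := by
    rw [hB]; ext χ
    simp only [Set.mem_insert_iff, Set.mem_singleton_iff, Set.mem_ofPred_eq]
    exact or_congr_left Subtype.ext_iff
  have hd : (χ₁ : G → ℂ) ≠ (fun _ => 1) ∧ (χ₂ : G → ℂ) ≠ (fun _ => 1) ∧
      (χ₃ : G → ℂ) ≠ (fun _ => 1) ∧ χ₁ ≠ χ₂ ∧ χ₁ ≠ χ₃ ∧ χ₂ ≠ χ₃ :=
    ⟨fun h => h1 (Subtype.ext h), fun h => h2 (Subtype.ext h), fun h => h3 (Subtype.ext h),
      h12, h13, h23⟩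
  have e1 := hε χ₁ (by simp [hB])
  have e2 := hε χ₂ (by simp [hB])
  have e3 := hε χ₃ (by simp [hB])
  have hval := And.intro (hv χ₁ J hJ2) (And.intro (hv χ₂ J hJ2) (hv χ₃ J hJ2))
  obtain ⟨r, hr, hc⟩ := KleinOrder.count hM P hP hone J.2 hJ2 hB' hd ⟨e1, e2, e3⟩ hval
  have hs := KleinOrder.degree_sum hM hJ2 hB' hd hval
  have f : ∀ χ : IrrCharacter G, χ ≠ irrOne G → (n χ = 1 ∨ n χ = -1) →
      n χ * charDegree (χ : G → ℂ) ∣ (Nat.card G : ℤ) ∧ n χ * charDegree (χ : G → ℂ) % 4 = 1 ∧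
      n χ * charDegree (χ : G → ℂ) ≠ 1 ∧
      (n χ : ℚ) / charDegree (χ : G → ℂ) = 1 / ((n χ * charDegree (χ : G → ℂ) : ℤ) : ℚ) ∧
      ((n χ * charDegree (χ : G → ℂ) : ℤ) : ℚ) ≠ 0 ∧
      (n χ * charDegree (χ : G → ℂ) = -3 → charDegree (χ : G → ℂ) = 3) := by
    intro χ hχ he
    have i1 := Int.natCast_dvd_natCast.2 (χ.2.deg_dvd_card (cast_charDegree χ.2.isCharacter).symm)
    have i2 := four_dvd_degree_sub hP χ (n := n χ) fun z hz hz1 => hv χ z (by
      have := hP.exponent_two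
      refine orderOf_eq_prime ?_ hz1
      have h5 := Monoid.pow_exponent_eq_one (⟨z, hz⟩ : (P : Subgroup G))
      rw [this] at h5
      exact congrArg Subtype.val h5)
    have i3 : charDegree (χ : G → ℂ) ≠ 1 := fun h => hχ (SelfC.eq_irrOne_of_perfect
      (commutator_eq_top hG) (by rw [← cast_charDegree χ.2.isCharacter, h, Nat.cast_one]))
    have i4 := charDegree_ne_zero χ.2
    rcases he with he | he <;> rw [he] at i2 ⊢
    · refine ⟨by simpa using i1, by omega, by omega, by simp, by simpa using i4, by omega⟩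
    · refine ⟨by simpa using i1, by omega, by omega, by simp [neg_div, div_neg], by simpa using i4,
        by omega⟩
  obtain ⟨a1, a2, a3, a4, a5, a6⟩ := f χ₁ h1 e1
  obtain ⟨b1, b2, b3, b4, b5, b6⟩ := f χ₂ h2 e2
  obtain ⟨c1, c2, c3, c4, c5, c6⟩ := f χ₃ h3 e3
  rw [a4, b4, c4] at hc
  generalize n χ₁ * charDegree (χ₁ : G → ℂ) = x at *
  generalize n χ₂ * charDegree (χ₂ : G → ℂ) = y at *
  generalize n χ₃ * charDegree (χ₃ : G → ℂ) = z at *
  have hs' : (1 : ℚ) + x + y + z = 0 := by exact_mod_cast hs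
  rcases exists_three (i := (centralizer ({(J : G)} : Set G)).index) (r := r) hp hq
    (m := Nat.card G) (fun l hl h4 => by
      rw [h] at h4
      rcases hl.dvd_mul.1 h4 with h4 | h4
      · exact Or.inl ((Nat.prime_dvd_prime_iff_eq hl Nat.prime_two).1
          (hl.dvd_of_dvd_pow (n := 2) h4))
      rcases hl.dvd_mul.1 h4 with h4 | h4
      · exact Or.inr (Or.inl ((Nat.prime_dvd_prime_iff_eq hl hp).1 (hl.dvd_of_dvd_pow h4)))
      · exact Or.inr (Or.inr ((Nat.prime_dvd_prime_iff_eq hl hq).1 (hl.dvd_of_dvd_pow h4))))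
    ((Dvd.intro _ hr).trans (card_subgroup_dvd_card _)) a1 b1 c1 a2 b2 c2 a3 b3 c3 hs (by
      field_simp at hc
      have : ((centralizer ({(J : G)} : Set G)).index : ℚ) * ((x + 1) * (y + 1) * (z + 1))
          = 8 * r ^ 2 * (x * y * z) := by
        linear_combination hc + ((centralizer ({(J : G)} : Set G)).index : ℚ) * hs'
      exact_mod_cast this) with h4 | h4 | h4
  · exact ⟨_, a6 h4⟩
  · exact ⟨_, b6 h4⟩
  · exact ⟨_, c6 h4⟩

theorem four_case {G : Type*} [Group G] [Finite G] [IsSimpleGroup G]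
    (hG : ¬ IsMulCommutative G) {q a b : ℕ} (hq : q.Prime) (hq2 : q ≠ 2) (hq3 : q ≠ 3)
    (h : Nat.card G = 4 * (3 ^ a * q ^ b)) : Nonempty (G ≃* alternatingGroup (Fin 5)) := by
  obtain ⟨χ, hχ⟩ := exists_deg_three hG Nat.prime_three hq (by norm_num) hq2 h
  have h1 : (χ : G → ℂ) 1 = (3 : ℕ) := by rw [← cast_charDegree χ.2.isCharacter, hχ]
  have h2 : χ ≠ irrOne G := by
    rintro rfl
    rw [irrOne_apply] at h1
    norm_num at h1
  have h3 : ¬ 3 ^ 2 ∣ Nat.card G := fun h3 => S3968.result 3 Nat.prime_three χ h1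
    (fun g hg => by_contra fun h4 => apply_ne_of_simple h2 h4 hg) h3 (center_eq_bot hG)
  have h4 : a = 1 := by
    rcases a with _ | _ | a
    · exact absurd (S0144.result 2 q 2 b Nat.prime_two hq (by rw [h]; ring)) (not_isSolvable hG)
    · rfl
    · exact absurd ⟨4 * 3 ^ a * q ^ b, by rw [h]; ring⟩ h3
  subst h4
  refine (three_case hG Nat.prime_two hq hq2.symm (by norm_num) hq3 (a := 2) (b := b)
    (by rw [h]; ring)).resolve_right ?_
  rintro ⟨e⟩
  have : Fact (Nat.Prime 7) := ⟨by norm_num⟩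
  have h5 := Class.gcd_mul_card_PSL2 (F := ZMod 7)
  rw [← Nat.card_congr e.toEquiv, ZMod.card, h] at h5
  have := Nat.odd_iff.1 ((hq.odd_of_ne_two hq2).pow (n := b))
  norm_num at h5
  omega

/-- Let G be a non-abelian finite simple group and p, q distinct primes. If the order of G is 4·p^a·q^b with a ≤ 2, then G is isomorphic to the alternating group of degree 5. If the order of G is 3·p^a·q^b with a ≤ 2, then G is isomorphic to the alternating group of degree 5 or to PSL(2,7). -/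
theorem result {G : Type*} [Group G] [Finite G] [IsSimpleGroup G] (hna : ∃ x y : G, x * y ≠ y * x) (p q a b : ℕ) (hp : p.Prime) (hq : q.Prime) (hpq : p ≠ q) (ha : a ≤ 2) : (Nat.card G = 4 * p ^ a * q ^ b → Nonempty (G ≃* alternatingGroup (Fin 5))) ∧ (Nat.card G = 3 * p ^ a * q ^ b → Nonempty (G ≃* alternatingGroup (Fin 5)) ∨ Nonempty (G ≃* Matrix.ProjectiveSpecialLinearGroup (Fin 2) (ZMod 7))) := by
  have hG : ¬ IsMulCommutative G := fun h => by
    obtain ⟨x, y, h1⟩ := hna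
    exact h1 (h.is_comm.comm x y)
  have hs := not_isSolvable hG
  refine ⟨fun h => ?_, fun h => ?_⟩
  · have hp2 : p ≠ 2 := by
      rintro rfl; exact hs (S0144.result 2 q (a + 2) b hp hq (by rw [h]; ring))
    have hq2 : q ≠ 2 := by
      rintro rfl; exact hs (S0144.result p 2 a (b + 2) hp hq (by rw [h]; ring))
    obtain ⟨χ, hχ⟩ := exists_deg_three hG hp hq hp2 hq2 (h.trans (mul_assoc _ _ _))
    have h1 := χ.2.deg_dvd_card (cast_charDegree χ.2.isCharacter).symm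
    rw [hχ, h, mul_assoc] at h1
    rcases Nat.prime_three.dvd_mul.1 ((Nat.Coprime.dvd_mul_left (by norm_num)).1 h1) with h2 | h2
    · obtain rfl := (Nat.prime_dvd_prime_iff_eq Nat.prime_three hp).1
        (Nat.prime_three.dvd_of_dvd_pow h2)
      exact four_case hG hq hq2 hpq.symm (h.trans (mul_assoc _ _ _))
    · obtain rfl := (Nat.prime_dvd_prime_iff_eq Nat.prime_three hq).1
        (Nat.prime_three.dvd_of_dvd_pow h2)
      exact four_case hG hp hp2 hpq (a := b) (b := a) (by rw [h]; ring)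
  · have hp3 : p ≠ 3 := by
      rintro rfl; exact hs (S0144.result 3 q (a + 1) b hp hq (by rw [h]; ring))
    have hq3 : q ≠ 3 := by
      rintro rfl; exact hs (S0144.result p 3 a (b + 1) hp hq (by rw [h]; ring))
    exact three_case hG hp hq hpq hp3 hq3 (a := a) (b := b) (by rw [h]; ring)

end Cfsg.Agent.S4501
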