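import Cfsg.Statements.S4531
import Cfsg.Agent.Block.QSD
import Cfsg.Agent.Inv.QD
import Cfsg.Agent.Block.FongRed

set_option autoImplicit false
open Cfsg

namespace Cfsg.Agent.S4531

open Cfsg.Agent.Block Subgroup

theorem regPart_indFun {G : Type*} [Group G] [Fintype G] (p : ℕ) (H : Subgroup G) (θ : H → ℂ) :
    Char.regPart p (indFun H θ) = indFun H (Char.regPart p θ) := by
  funext g
  have h : ∀ x : G, extendByZero H (Char.regPart p θ) (x⁻¹ * g * x) =
      if p ∣ orderOf g then 0 else extendByZero H θ (x⁻¹ * g * x) := fun x => by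
    by_cases hx : x⁻¹ * g * x ∈ H
    · simp only [Char.extendByZero_of_mem _ _ hx, Char.regPart, orderOf_mk]
      rw [← orderOf_conj_eq x⁻¹ g, inv_inv]
    · simp [Char.extendByZero_of_not_mem _ _ hx]
  simp only [Char.regPart, indFun, h]
  split_ifs <;> simp

theorem comm {G : Type*} [Group G] [Finite G] {p : ℕ} [Fact p.Prime] (hG : IsPConstrained p G)
    (S : Sylow p G) {z x y : G} (hz : (S : Subgroup G) ≤ centralizer {z}) (hx : x ∈ S) (hy : y ∈ S)
    (h1 : IsConj z x) (h2 : IsConj z y) : Commute x y := by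
  let π := QuotientGroup.mk' (pPrimeCore p G)
  have key : ∀ x, IsConj z x → π x ∈ centralizer (pCore p (G ⧸ pPrimeCore p G) : Set (G ⧸ pPrimeCore p G)) := fun x h => by
    obtain ⟨g, rfl⟩ := isConj_iff.1 h
    rw [map_mul, map_mul, map_inv]
    refine Normal.conj_mem inferInstance _ (fun w hw => ?_) _
    obtain ⟨s, hs, rfl⟩ := Grp.pCore_le_sylow (S.mapSurjective (QuotientGroup.mk'_surjective _)) hw
    rw [← map_mul, ← map_mul, mem_centralizer_singleton_iff.1 (hz hs)]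
  have h3 : x * y * x⁻¹ * y⁻¹ ∈ pPrimeCore p G ⊓ S := ⟨(QuotientGroup.eq_one_iff _).1 (by
    change π _ = 1
    simp only [map_mul, map_inv]
    rw [key y h2 _ (PLocal.isPConstrained_iff.1 hG (key x h1))]
    group), S.1.mul_mem (S.1.mul_mem (S.1.mul_mem hx hy) (S.1.inv_mem hx)) (S.1.inv_mem hy)⟩
  obtain ⟨n, hn⟩ := orderOf_eq_pow_of_mem S.isPGroup' h3.2
  rcases n with _ | n
  · exact commutatorElement_eq_one_iff_commute.1 (orderOf_eq_one_iff.1 hn)
  · exact absurd ((hn ▸ dvd_pow_self p n.succ_ne_zero).trans (orderOf_dvd_natCard _ h3.1))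
      (Grp.not_dvd_card_pPrimeCore p G)

theorem fuse {G : Type*} [Group G] [Finite G] {M : Ideal AlgInt} (hM : IsPModular 2 M)
    {B : Set (IrrCharacter G)} (hB : IsPBlock M B) {D : Subgroup G} (hD : IsDefectGroup 2 M B D)
    (hD' : (∃ n : ℕ, 3 ≤ n ∧ Nonempty (D ≃* DihedralGroup (2 ^ (n - 1)))) ∨ IsQuasiDihedral D)
    (hl : 3 ≤ blockRank 2 B) : ∃ z x y : G, D ≤ centralizer {z} ∧ x ∈ D ∧ y ∈ D ∧ IsConj z x ∧
      IsConj z y ∧ ¬ Commute x y ∧ ∀ w ∈ D, orderOf w = 2 → w ∈ center G → w = z := by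
  classical
  obtain ⟨e, h⟩ := exists_MP hM hB hD
  have key : ∀ {k : ℕ} {ρ τ : ZMod (2 ^ (k + 2))} (c : Inv.CycExt D (2 ^ (k + 2)) ρ τ),
      (∃ b, 1 - ρ = 2 * (2 * b + 1)) → ρ ≠ 1 ∧ (∀ a, c.s a ^ 2 = 1 →
        (∃ j, PF 2 D e (c.s a) (c.r j)) → IsConj (c.r (2 ^ (k + 1))) (c.s a)) ∧
        ∀ w ∈ D, orderOf w = 2 → w ∈ center G → w = c.r (2 ^ (k + 1)) := fun {k ρ τ} c hρ => by
    have h1 : ρ ≠ 1 := fun h1 => by
      have := QSD.odd_ne (k := k) 0
      rw [mul_zero, zero_add, ← not_or, ← Tame.rho_fix hρ, h1] at this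
      exact this (mul_one 1)
    refine ⟨h1, fun a ha ⟨j, hj⟩ => ?_, fun w hw ho hc => ?_⟩
    · rw [← (Tame.orderOf_r_eq_two c).1
        (hj.orderOf_eq.symm.trans (orderOf_eq_prime ha (c.s_ne_one a)))]
      exact hj.symm.isConj
    · rcases c.cases hw with ⟨i, rfl⟩ | ⟨i, rfl⟩
      · rw [(Tame.orderOf_r_eq_two c).1 ho]
      · have := mem_center_iff.1 hc (c.r 1)
        rw [c.r_mul_s, c.s_mul_r, c.s_inj] at this
        exact absurd (by linear_combination -this) h1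
  rcases hD' with ⟨n, hn, ⟨f⟩⟩ | hsd
  · obtain ⟨k, rfl⟩ : ∃ k, n = k + 3 := ⟨n - 3, by omega⟩
    have := Fintype.ofFinite G
    let c : Inv.CycExt D (2 ^ (k + 2)) (-1) 0 := Inv.CycExt.ofMulEquiv f (Inv.dihedralCycExt _)
    obtain ⟨h1, h2, h3⟩ := key c Dih.hρ
    have h4 := Tame.card_eq c Dih.hρ h
    rw [(Dih.main c h).1, Dih.rank_r' c h Tame.h_ne_zero] at h4
    have h5 := h2 0 (by simp [c.s_sq]) (by
      by_contra! h5
      rw [if_pos (show Tame.U0 c e from h5)] at h4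
      omega)
    refine ⟨_, c.s 0, c.s 1, Tame.le_cz c Dih.hρ, c.s_mem 0, c.s_mem 1, h5, ?_, fun h6 => ?_, h3⟩
    · by_cases h6 : PF 2 D e (c.s 0) (c.s 1)
      · exact h5.trans h6.isConj
      refine h2 1 (by simp [c.s_sq]) ?_
      by_contra! h7
      rw [if_pos (show Tame.U1 c e from ⟨h7, h6⟩)] at h4
      omega
    · rw [commute_iff_eq, c.s_mul_s, c.s_mul_s, c.r_inj] at h6
      exact h1 (by linear_combination h6)
  · obtain ⟨k, ⟨c⟩⟩ := Inv.exists_QDC hsd
    have hρ : ∃ b : ZMod (2 ^ (k + 3)), 1 - (2 ^ (k + 2) - 1) = 2 * (2 * b + 1) :=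
      ⟨-2 ^ k, by ring⟩
    have := Fintype.ofFinite (centralizer ({c.r (2 ^ (k + 2))} : Set G))
    obtain ⟨-, h1, h2⟩ := QSD.local_z (k := k + 1) c hρ (Or.inr (by simp)) (Or.inl rfl) h
      (by simp [c.s_sq])
    replace h1 := h1 (by simp [c.s_sq])
    obtain ⟨-, a2, -⟩ := QSD.main (k := k + 1) c hρ h h2 (by omega)
    have h3 := Tame.card_eq (k := k + 1 + 1) c hρ h
    obtain ⟨-, h4, h5⟩ := key (k := k + 1) c hρ
    have h6 := h4 0 (by simp [c.s_sq]) (by
      by_contra! h5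
      rw [if_pos (show Tame.U0 c e from h5)] at h3
      omega)
    obtain ⟨j, hj⟩ := Tame.exists_conj_s c hρ 0 1
    refine ⟨_, c.s 0, _, Tame.le_cz c hρ, c.s_mem 0, c.s_mem _, h6,
      h6.trans (isConj_iff.2 ⟨_, hj⟩), fun h6 => ?_, h5⟩
    rw [commute_iff_eq, c.s_mul_s, c.s_mul_s, c.r_inj] at h6
    have : (2 : ZMod (2 ^ (k + 3))) ^ 2 = 0 := by
      linear_combination -h6 + Tame.h_add_h (k := k + 2)
    rw [Inv.Z2.two_pow_eq_zero_iff] at this
    omega


/-- Let the finite group G have a 2-block B (relative to a maximal ideal M of the algebraic integers containing 2) of 2-regular rank three (three irreducible Brauer characters) whose defect group D is dihedral of order 2 ^ n with n ≥ 3 or semidihedral. Then the centre of G has odd order and G is not solvable. -/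
theorem result {G : Type*} [Group G] [Finite G] (M : Ideal Cfsg.AlgInt) (hM : Cfsg.IsPModular 2 M) (B : Set (Cfsg.IrrCharacter G)) (hB : Cfsg.IsPBlock M B) (D : Subgroup G) (hD : Cfsg.IsDefectGroup 2 M B D) (hD' : (∃ n : ℕ, 3 ≤ n ∧ Nonempty (D ≃* DihedralGroup (2 ^ (n - 1)))) ∨ Cfsg.IsQuasiDihedral D) (hl : Cfsg.blockRank 2 B = 3) : Odd (Nat.card (Subgroup.center G)) ∧ ¬ Group.IsSolvable G := by
  refine ⟨?_, fun hs => ?_⟩
  · by_contra h
    obtain ⟨w, hw⟩ := exists_prime_orderOf_dvd_card' 2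
      (even_iff_two_dvd.1 (Nat.not_odd_iff_even.1 h))
    obtain ⟨z, x, y, -, -, -, h1, -, h2, h3⟩ := fuse hM hB hD hD' hl.ge
    have : (zpowers (w : G)).Normal := ⟨fun n hn g => by
      rwa [mem_center_iff.1 (zpowers_le.2 w.2 hn) g, mul_inv_cancel_right]⟩
    rw [← orderOf_coe] at hw
    obtain rfl := h3 w (le_defectGroup_of_normal hM hB hD (zpowers (w : G))
      (IsPGroup.of_card (n := 1) (by rw [Nat.card_zpowers, hw, pow_one])) (mem_zpowers _)) hw w.2
    obtain ⟨g, rfl⟩ := isConj_iff.1 h1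
    rw [mem_center_iff.1 w.2 g, mul_inv_cancel_right] at h2
    exact h2 (mem_center_iff.1 w.2 y).symm
  refine fong_induction hM (fun G _ _ B => ∀ D : Subgroup G, IsDefectGroup 2 M B D →
    ((∃ n : ℕ, 3 ≤ n ∧ Nonempty (D ≃* DihedralGroup (2 ^ (n - 1)))) ∨ IsQuasiDihedral D) →
      ¬ 3 ≤ blockRank 2 B) ?_ ?_ G PLocal.isPSolvable_of_isSolvable B hB D hD hD' hl.ge
  · intro G _ _ _ hG θ hinv hB P hP hP' hl
    obtain ⟨z, x, y, h1, h2, h3, h4, h5, h6, -⟩ := fuse hM hB hP hP' hl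
    obtain ⟨S, rfl⟩ := (isDefectGroup_above_iff hM (Grp.not_dvd_card_pPrimeCore 2 G) hinv hB).1 hP
    exact h6 (comm (PLocal.isPConstrained_of_isPSolvable hG) S h1 h2 h3 h4 h5)
  · intro G _ _ _ hG θ T _ hNT _ hT B' B hsub hind ih P hP hP' hl
    have hb : IsPBlock M {θ} :=
      isPBlock_singleton_of_not_dvd hM (Grp.not_dvd_card_pPrimeCore 2 G) θ
    obtain ⟨D, hD⟩ := exists_isDefectGroup hM hind.1
    obtain ⟨y, rfl⟩ := exists_conj_eq_defectGroup hM hind.2.1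
      (isDefectGroup_map_of_isInducedBlock_aboveIn hM hb hT.le hsub hind hD) hP
    have f := (D.equivMapOfInjective _ T.subtype_injective).trans
      (Subgroup.equivMapOfInjective _ (MulAut.conj y).toMonoidHom (MulAut.conj y).injective)
    refine ih D hD (hP'.imp (fun ⟨n, h1, ⟨g⟩⟩ => ⟨n, h1, ⟨f.trans g⟩⟩) fun h => ?_)
      (hl.trans ((Submodule.finrank_mono (Submodule.span_le.2 ?_)).trans
        (Submodule.finrank_map_le (Char.indLinear T) _)))
    · obtain ⟨k, ⟨c⟩⟩ := Inv.exists_QDC h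
      exact Inv.QDC.isQuasiDihedral (Inv.CycExt.ofMulEquiv f c.toTop)
    · rintro _ ⟨χ, hχ, rfl⟩
      obtain ⟨ψ, hψ, e⟩ := (mem_iff_of_isInducedBlock_aboveIn hM hb hT.le hsub hind).1 hχ
      exact ⟨_, Submodule.subset_span ⟨ψ, hψ, rfl⟩, by
        simp only [pRegularPart_eq_regPart, e, regPart_indFun, Char.indLinear_apply]⟩

end Cfsg.Agent.S4531
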