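import Cfsg.Statements.S4535
import Cfsg.Agent.Sym.Alt
import Cfsg.Agent.Block.KBound
import Cfsg.Agent.Block.Contrib

set_option autoImplicit false
open Cfsg

namespace Cfsg.Agent.S4535

theorem v4a : ∀ k : Multiplicative (ZMod 2 × ZMod 2), k ^ 2 = 1 := by decide

theorem v4b : ∀ k : Multiplicative (ZMod 2 × ZMod 2), Equiv.Perm.sign (Equiv.mulLeft k) = 1 := by
  decide


/-- Let B be a p-block of a finite alternating group (relative to a maximal ideal M of the algebraic integers containing p) with a nontrivial defect group D all of whose sections have p-rank at most s. Then the p-regular rank of B is less than p ^ s. -/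
theorem result (n : ℕ) (p : ℕ) [Fact p.Prime] (M : Ideal Cfsg.AlgInt) (hM : Cfsg.IsPModular p M) (B : Set (Cfsg.IrrCharacter (alternatingGroup (Fin n)))) (hB : Cfsg.IsPBlock M B) (D : Subgroup (alternatingGroup (Fin n))) (hD : Cfsg.IsDefectGroup p M B D) (hD1 : D ≠ ⊥) (s : ℕ) (hs : Cfsg.SectionalPRankLE p s D) : Cfsg.blockRank p B < p ^ s := by
  open Cfsg.Agent.SymCh Cfsg.Agent.Block in
  classical
  have hp : p.Prime := Fact.out
  haveI : Nontrivial (Fin n) := by
    by_contra hc
    rw [not_nontrivial_iff_subsingleton] at hc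
    exact hD1 (Subsingleton.elim _ _)
  have hA := alternatingGroup.index_eq_two (α := Fin n)
  obtain ⟨B', P, χ, β, hB', hc, hP, hPD, hχ, h⟩ := exists_cover_data (N := n) (by simp) hM hB hD
  have h1 := card_eq_card_inf hPD
  have h2 := card_defectGroup hM hB' hP
  have h3 := card_defectGroup hM hB hD
  rw [h.blockDefect_eq (by simp) hM hB' hχ] at h2
  have h4 : blockDefect p B ≠ 0 := by
    intro e
    rw [e, pow_zero] at h3
    exact hD1 (Subgroup.eq_bot_of_card_eq _ h3)
  have h5 : blockDefect p B ≤ 2 → p ^ blockDefect p B ≤ p ^ s → blockRank p B < p ^ s :=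
    fun h6 h7 => (blockRank_lt_card hM hB h4).trans_le
      ((card_le_of_defect_le_two hM hB h6).trans h7)
  have h6 : 3 ≤ wt p β → blockRank p B < p ^ wt p β ∧ 2 * blockRank p B' < p ^ wt p β := by
    intro h7
    obtain ⟨t, h8, h9⟩ := exists_cover_two_mul_lt hp.two_le h7
    have h10 := blockRank_le (by simp) hM hB' hχ h h8
    have h11 := blockRank_le_two_mul hM hB' hB hc hA
    omega
  by_cases hp2 : p = 2
  · subst hp2
    have h7 := h.card_le_of_sec hM hB' hP hχ hPD hs (K := Multiplicative (ZMod 2 × ZMod 2))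
      (wt 2 β / 2) (by simp; omega) v4a (by convert v4b)
    rw [show Fintype.card (Multiplicative (ZMod 2 × ZMod 2)) = 2 ^ 2 from rfl, ← pow_mul] at h7
    have hw : 0 < wt 2 β := by
      by_contra hw
      rw [show wt 2 β = 0 by omega] at h2
      have := Subgroup.card_le_of_le (inf_le_left : P ⊓ alternatingGroup (Fin n) ≤ P)
      have h8 := Nat.one_lt_pow h4 hp.one_lt
      simp only [mul_zero, Nat.factorial_zero, Nat.factorization_one, Finsupp.coe_zero,
        Pi.zero_apply, pow_zero] at h2
      omega
    have h8 := two_mul_card_inf hA (h.not_le_alt hM hB' hP hχ hw)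
    rw [← h1, h2, h3, ← pow_succ', Nat.pow_right_inj hp.one_lt,
      Nat.factorization_factorial_mul hp] at h8
    obtain h9 | h9 | h9 : wt 2 β = 1 ∨ wt 2 β = 2 ∨ 3 ≤ wt 2 β := by omega
    · rw [h9] at h8
      simp at h8
      omega
    · rw [h9] at h8 h7
      rw [show Nat.factorial 2 = 2 from rfl, hp.factorization_self] at h8
      exact h5 (by omega) (by rwa [show blockDefect 2 B = 2 * (2 / 2) by omega])
    · rcases Nat.even_or_odd (wt 2 β) with h10 | h10
      · rw [Nat.two_mul_div_two_of_even h10] at h7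
        exact (h6 h9).1.trans_le h7
      · have h11 := blockRank_le_of_nonsplit hM hB' hB hc hA fun ψ hψ => by
          obtain ⟨γ, hγ⟩ := exists_lab_of_irr (N := n) (by simp) ψ
          exact hγ.exists_odd (by rwa [hγ.wt_eq (by simp) hM hB' hψ hχ h])
        have h12 := (h6 h9).2
        rw [← Nat.two_mul_div_two_add_one_of_odd h10, pow_succ] at h12
        omega
  · have h7 := h.card_le_of_sec hM hB' hP hχ hPD hs (K := Multiplicative (ZMod p))
      (wt p β) (by simp [mul_comm]) (fun k => by
        rw [← ofAdd_toAdd k, ← ofAdd_nsmul]; simp) fun k => sign_eq_one_of_pow hp2 (k := 1) (by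
          rw [pow_one, Equiv.pow_mulLeft, ← ofAdd_toAdd k, ← ofAdd_nsmul]; simp)
    rw [Fintype.card_multiplicative, ZMod.card] at h7
    rcases le_or_gt 3 (wt p β) with h8 | h8
    · exact (h6 h8).1.trans_le h7
    · rw [inf_eq_left.2 (le_alt_of_odd hp2 (isPGroup_of_isDefectGroup hP)), h2, h3,
        Nat.pow_right_inj hp.one_lt, factorization_mul_factorial_of_lt
          (by have := hp.two_le; omega)] at h1
      exact h5 (by omega) (h1 ▸ h7)

end Cfsg.Agent.S4535
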