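import Cfsg.Statements.S4542
import Cfsg.Agent.Block.K16Main
-- import your own Cfsg.Agent.* helpers here

set_option autoImplicit false
open Cfsg

namespace Cfsg.Agent.S4542

open Cfsg.Agent.Block Cfsg.Agent.Char
open scoped ComplexConjugate

open Subgroup Cfsg.Agent.Char Cfsg.Agent.Block

/-- Let B be a p-block of the finite group G (relative to a maximal ideal M of the algebraic integers containing p) with defect group D, and suppose D has a cyclic subgroup Z, central in D, of index at most 16 in D. Then B contains at most as many irreducible characters as D has elements (Brauer's k(B) bound holds for B); in particular this covers every 2-block of defect at most 5. -/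
theorem result {G : Type*} [Group G] [Finite G] (p : ℕ) [Fact p.Prime] (M : Ideal Cfsg.AlgInt) (hM : Cfsg.IsPModular p M) (B : Set (Cfsg.IrrCharacter G)) (hB : Cfsg.IsPBlock M B) (D : Subgroup G) (hD : Cfsg.IsDefectGroup p M B D) (Z : Subgroup G) (hZD : Z ≤ D) (hZc : ∀ z ∈ Z, ∀ d ∈ D, z * d = d * z) (hcyc : IsCyclic Z) (hidx : Z.relIndex D ≤ 16) : Nat.card B ≤ Nat.card D := by
  obtain ⟨e, h⟩ := exists_MP hM hB hD
  have hC : IsCyclic (Z.subgroupOf D) := (subgroupOfEquivOfLe hZD).isCyclic.2 hcyc
  obtain ⟨x, hx⟩ := IsCyclic.exists_ofOrder_eq_natCard (α := Z.subgroupOf D)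
  refine h.card_le_of_center (z := x.1)
    (mem_center_iff.2 fun g => Subtype.ext (hZc _ x.2 g g.2).symm) ?_
  rw [orderOf_coe, hx, ← card_mul_index (Z.subgroupOf D), mul_comm]
  exact Nat.mul_le_mul_right _ hidx

end Cfsg.Agent.S4542
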