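import Cfsg.Statements.S4543
import Cfsg.Agent.Block.Gen2B
import Cfsg.Agent.Block.TNBlk
import Cfsg.Agent.S4544
-- import your own Cfsg.Agent.* helpers here

set_option autoImplicit false
open Cfsg

namespace Cfsg.Agent.S4543

open Cfsg.Agent.Block Cfsg.Agent.Char
open scoped ComplexConjugate

open Subgroup Cfsg.Agent.Char Cfsg.Agent.Block

/-- Let B be a 2-block of the finite group G (relative to a maximal ideal M of the algebraic integers containing 2) whose defect group D has order at most 64 and is generated by two of its elements. Then B contains at most as many irreducible characters as D has elements. -/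
theorem result {G : Type*} [Group G] [Finite G] (M : Ideal Cfsg.AlgInt) (hM : Cfsg.IsPModular 2 M) (B : Set (Cfsg.IrrCharacter G)) (hB : Cfsg.IsPBlock M B) (D : Subgroup G) (hD : Cfsg.IsDefectGroup 2 M B D) (hcard : Nat.card D ≤ 64) (hgen : ∃ x ∈ D, ∃ y ∈ D, Subgroup.closure ({x, y} : Set G) = D) : Nat.card B ≤ Nat.card D := by
  obtain ⟨e, h⟩ := exists_MP hM hB hD
  obtain ⟨x, hx, y, hy, hg⟩ := hgen
  obtain ⟨z, hz, h1⟩ := Gen2.good (x := (⟨x, hx⟩ : D)) (y := ⟨y, hy⟩) (by
    rw [← map_subtype_inj, MonoidHom.map_closure, Set.image_pair, ← MonoidHom.range_eq_map,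
      range_subtype]
    exact hg) h.pgroup hcard
  have hP : D ≤ centralizer {(z : G)} := fun x hx =>
    mem_centralizer_singleton_iff.2 (congrArg Subtype.val (mem_center_iff.1 hz ⟨x, hx⟩))
  obtain ⟨e', h', -⟩ := h.exists_sub z.2 hP
  obtain ⟨f, h'', -⟩ := h'.exists_quot_fm (zpowers_cself_le (z : G)) (zpowers_le.2 z.2)
  rw [← inclusion_range hP, ← MonoidHom.range_comp] at h''
  have h2 := (h1 _ (by
    rw [← MonoidHom.comap_ker, QuotientGroup.ker_mk',
      ← comap_map_eq_self_of_injective (inclusion_injective hP) (zpowers z), MonoidHom.map_zpowers]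
    rfl)).elim (S4544.rank_le h'') fun ⟨_, _, _, _, _, _, d⟩ => (d.rank_eq_one h'').trans_le (by omega)
  rw [rank_domSet_cself hM (h.order z.2) (h.block z.2)] at h2
  obtain ⟨h3, h4⟩ := S4540.result M hM B hB D hD z z.2
    (fun d hd => mem_centralizer_singleton_iff.1 (hP hd)) _ (h.ind z.2) h'.isDefectGroup h2
  rw [h.card]
  omega

end Cfsg.Agent.S4543
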