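import Cfsg.Statements.S4545
import Cfsg.Agent.Block.OlsLoc
import Cfsg.Agent.Block.OlsGrp
import Cfsg.Agent.Block.PairFus
import Cfsg.Agent.Fus.FIso
import Cfsg.Agent.S4399
import Cfsg.Agent.S4528
import Cfsg.Agent.S4529
import Cfsg.Agent.S4530
-- import your own Cfsg.Agent.* helpers here

set_option autoImplicit false
open Cfsg

namespace Cfsg.Agent.S4545

open Cfsg.Agent.Block Cfsg.Agent.Char
open scoped ComplexConjugate

open Subgroup Cfsg.Agent.Char Cfsg.Agent.Block Cfsg.Agent.Fus Cfsg.Agent.Grp.MaxClass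

theorem card_inf {G : Type*} [Group G] {D : Subgroup G} (w : D) :
    Nat.card (D ⊓ centralizer ({(w : G)} : Set G) : Subgroup G) =
      Nat.card (centralizer ({w} : Set D)) := by
  rw [← Nat.card_congr (subgroupOfEquivOfLe (inf_le_left (a := D))).toEquiv, inf_subgroupOf_left]
  congr 3
  ext x
  simp [mem_subgroupOf, mem_centralizer_singleton_iff, Subtype.ext_iff]


/-- Let B be a 2-block of the finite group G (relative to a maximal ideal M of the algebraic integers containing 2) whose defect group D has order at most 32. Then the number of members of B of height zero is at most the index of the commutator subgroup of D in D (Olsson's bound holds for B). -/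
theorem result {G : Type*} [Group G] [Finite G] (M : Ideal Cfsg.AlgInt) (hM : Cfsg.IsPModular 2 M) (B : Set (Cfsg.IrrCharacter G)) (hB : Cfsg.IsPBlock M B) (D : Subgroup G) (hD : Cfsg.IsDefectGroup 2 M B D) (hcard : Nat.card D ≤ 32) : Nat.card {χ : Cfsg.IrrCharacter G // χ ∈ B ∧ Cfsg.blockHeight 2 B (χ : G → ℂ) = 0} ≤ (commutator ↥D).index := by
  classical
  obtain ⟨e, h⟩ := exists_MP hM hB hD
  have := charP_resField hM
  by_cases hna : commutator D = ⊥
  · rw [hna, index_bot]
    exact h.kz_le_of_comm (fun x hx y hy => congrArg Subtype.val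
      (commutatorElement_eq_one_iff_mul_comm.1 (hna.le (commutator_mem_commutator
        (mem_top (⟨y, hy⟩ : D)) (mem_top (⟨x, hx⟩ : D)))))) hcard
  have hnc : ¬ IsCyclic D := fun hc => hna (eq_bot_iff.2 (commutator_le.2 fun a _ b _ =>
    commutatorElement_eq_one_iff_mul_comm.2 (hc.isMulCommutative.is_comm.comm a b)))
  rcases (sq_le_index_commutator h.pgroup hnc).eq_or_lt with h1 | h1
  · rw [← h1]
    have h2 : Nat.card (Abelianization D) = 4 := h1.symm
    rcases S4399.result h.pgroup h2 (fun x => by_contra fun hx => hnc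
      (isCyclic_of_isCyclic_abelianization h.pgroup (isCyclic_of_orderOf_eq_card (α := Abelianization D) x
        ((orderOf_eq_prime_pow (p := 2) (n := 1) hx
          (by rw [show 2 ^ (1 + 1) = 4 from rfl, ← h2, pow_card_eq_one'])).trans h2.symm))))
      with h3 | ⟨k, h3⟩ | ⟨k, h3, a, b, h4⟩ | ⟨k, h3⟩
    · have h4 := (commutator D).card_mul_index
      rw [← h1, h3] at h4
      exact absurd (card_eq_one.1 (by omega)) hna
    · exact (S4528.result M hM B hB D hD (k + 3) (by omega) h3).2.2.2.1.le
    · exact (S4529.result M hM B hB D hD (k + 4) (by omega) h3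
        ⟨k + 3, by omega, h3, a, b, h4⟩).2.2.2.2.2.1.le
    · exact (S4530.result M hM B hB D hD (k + 3) (by omega) h3).2.2.2.1.le
  obtain ⟨E, hE⟩ := exists_fIso (Alg.pairFus h.hm.of.pair) (S' := (⊤ : Subgroup D))
    (a := fun x => if hx : x ∈ D then ⟨x, hx⟩ else 1) (b := Subtype.val)
    ⟨fun _ _ => trivial, fun y _ => y.2, fun x hx => by simp [hx], fun y _ => by simp,
      fun x hx y hy => by simp [hx, hy, mul_mem hx hy]⟩
  rcases Ols.exists_good h.pgroup (hE.saturated ((Alg.isPairFus_pairFus _).isSaturated h.hm))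
    hcard h1 hna with ⟨u, h2, h3⟩ | ⟨h2, a, t, r, h3, h4, h5, h6, h7, h8⟩
  · refine h.kz_le_of_fc u.2 (by rwa [orderOf_coe]) fun w hw => ?_
    have h4 := hw.right
    obtain ⟨g, f, h5, h6, h7⟩ := hw
    have h8 := hE.isConjElt (x := u) (y := w) ⟨conjHom _ g, ⟨g, trivial, fun _ => rfl, f, h6, by
      rwa [zpowers_map_cm, h5]⟩, h5⟩
    simp only [u.2, h4, dif_pos] at h8
    exact (card_inf ⟨w, h4⟩).trans_le (h3 _ h8)
  · rw [h2]
    exact h.kz_le_eight a.2 t.2 (by rwa [orderOf_coe]) ((card_inf a).trans h5)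
      (fun w hw ho => (card_inf ⟨w, hw⟩).trans_le (h6 _ (by rwa [← orderOf_coe]))) h3
      (congrArg Subtype.val h7) fun g hg =>
        (h8 ⟨g, hg⟩).imp (congrArg Subtype.val) (congrArg Subtype.val)

end Cfsg.Agent.S4545
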