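import Cfsg.Statements.S4573
import Cfsg.Agent.Char.Wreath
import Cfsg.Agent.Char.Monomial
import Cfsg.Agent.Solv.MinNonNilpotent

set_option autoImplicit false
universe u
open Cfsg

namespace Cfsg.Agent.S4573

open Cfsg.Agent.Char

theorem main (n : ℕ) : ∀ (G : Type u) [Group G] [Finite G], Nat.card G = n → Group.IsSolvable G →
    ∃ (M : Type u) (_ : Group M) (_ : Fintype M), (∀ χ : M → ℂ, IsIrrCharacter M χ → IsMono χ) ∧
      ∃ f : G →* M, Function.Injective f := by
  classical
  induction n using Nat.strong_induction_on with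
  | _ n ih =>
  intro G _ _ hn hs
  rcases subsingleton_or_nontrivial G with h | h
  · letI := Fintype.ofFinite G
    exact ⟨G, inferInstance, inferInstance, fun χ hχ => exists_monomial_of_isNilpotent hχ,
      MonoidHom.id G, Function.injective_id⟩
  obtain ⟨N, hN, hp⟩ := Solv.exists_normal_index_prime G
  have hlt : Nat.card N < n := by
    rw [← hn, ← N.index_mul_card]
    exact lt_mul_left Nat.card_pos hp.one_lt
  obtain ⟨M, _, _, hM, f, hf⟩ := ih _ hlt N rfl inferInstance
  obtain ⟨g, hg⟩ := exists_wr_embed N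
  letI : Fintype (G ⧸ N) := Fintype.ofFinite _
  letI : Fintype (M ≀ᵣ (G ⧸ N)) := Fintype.ofFinite _
  exact ⟨M ≀ᵣ (G ⧸ N), inferInstance, inferInstance, fun χ hχ => isMono_wr hp hM hχ,
    (wrMap f _).comp g, (wrMap_injective hf).comp hg⟩

/-- Every finite solvable group is isomorphic to a subgroup of a finite M-group, a group each of whose irreducible characters is induced from a homomorphism of some subgroup into ℂˣ. -/
theorem result {G : Type u} [Group G] [Finite G] (hsolv : Group.IsSolvable G) : ∃ (M : Type u) (_ : Group M) (_ : Fintype M), (∀ χ : M → ℂ, Cfsg.IsIrrCharacter M χ → (∃ (H : Subgroup M) (lam : ↥H →* ℂˣ), χ = Cfsg.indFun H (fun h => (lam h : ℂ)))) ∧ ∃ f : G →* M, Function.Injective f := by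
  exact main _ G rfl hsolv

end Cfsg.Agent.S4573
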