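import Cfsg.Statements.S4587
import Cfsg.Agent.Char.SolvDeg
import Cfsg.Agent.S4172
import Cfsg.Agent.S4584
import Cfsg.Agent.Grp.MaxClass
import Cfsg.Agent.FGS.SubCount

set_option autoImplicit false
open Cfsg

namespace Cfsg.Agent.S4587

open Subgroup PLocal PLocal.Amb Cfsg.Agent.Char.SolvDeg
open scoped commutatorElement

theorem card_centralizer_eq {P : Type*} [Group P] [Finite P] {p : ℕ} (hp : p.Prime)
    (A : Subgroup P) [A.Normal] (hc : IsMulCommutative A) (hA : A.index = p) {y : P} (hy : y ∉ A) :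
    Nat.card (centralizer ({y} : Set P)) = (commutator P).index := by
  have h1 : Nat.card (commutator P) ≤ (centralizer ({y} : Set P)).index := by
    rw [← FGS.ncard_setOf_isConj, ← Nat.card_coe_set_eq]
    refine Nat.card_le_card_of_injective (fun d => ⟨d * y, ?_⟩) fun a b e =>
      Subtype.ext (mul_right_cancel (congrArg Subtype.val e))
    obtain ⟨a, -, e⟩ := (Grp.MaxClass.mem_commutator_iff_of_abelian A hc
      (Grp.MaxClass.sup_zpowers_eq_top_of_prime_index hp hA hy)).1 d.2
    exact isConj_iff.2 ⟨a, by rw [← e, commutatorElement_def, inv_mul_cancel_right]⟩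
  have h2 := (centralizer ({y} : Set P)).card_mul_index
  rw [le_antisymm (S4584.index_centralizer_le y) h1, ← (commutator P).card_mul_index,
    mul_comm] at h2
  exact Nat.eq_of_mul_eq_mul_left Nat.card_pos h2

theorem transfer_eq {P A : Type*} [Group P] [Finite P] [CommGroup A] (Q : Subgroup P) (ψ : Q →* A)
    (r : Q) (h : ∀ (t : P) (k : ℕ) (ht : t⁻¹ * r ^ k * t ∈ Q), t ∉ Q → ψ ⟨_, ht⟩ = 1) :
    MonoidHom.transfer ψ r = ψ r := by
  classical
  let _ : Fintype (Quotient (MulAction.orbitRel (zpowers (r : P)) (P ⧸ Q))) := Fintype.ofFinite _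
  rw [MonoidHom.transfer_eq_prod_quotient_orbitRel_zpowers_quot,
    Finset.prod_eq_single (Quotient.mk _ ((1 : P) : P ⧸ Q))]
  · set q : P ⧸ Q := (Quotient.mk (MulAction.orbitRel (zpowers (r : P)) (P ⧸ Q))
      ((1 : P) : P ⧸ Q)).out with hq
    have h1 : q = ((1 : P) : P ⧸ Q) := by
      obtain ⟨⟨_, i, rfl⟩, e⟩ := Quotient.mk_out (s := MulAction.orbitRel (zpowers (r : P)) (P ⧸ Q))
        ((1 : P) : P ⧸ Q)
      rw [hq, ← e]
      exact QuotientGroup.eq.2 (by simpa using zpow_mem r.2 i)
    have h2 : q.out ∈ Q := by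
      have := QuotientGroup.eq.1 ((QuotientGroup.out_eq' q).trans h1)
      simpa using this
    have h3 : Function.minimalPeriod ((r : P) • ·) q = 1 := by
      rw [Function.minimalPeriod_eq_one_iff_isFixedPt, h1]
      exact QuotientGroup.eq.2 (by simp)
    have h4 : ∀ ht, (⟨q.out⁻¹ * (r : P) ^ Function.minimalPeriod ((r : P) • ·) q * q.out, ht⟩ : Q) =
        (⟨_, h2⟩ : Q)⁻¹ * r * ⟨_, h2⟩ := fun ht => Subtype.ext (by simp [h3])
    rw [h4, map_mul, map_mul, map_inv, mul_comm, mul_inv_cancel_left]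
  · refine fun q _ hq => h _ _ _ fun ht => hq ?_
    rw [← q.out_eq, ← QuotientGroup.out_eq' q.out]
    congr 1
    exact QuotientGroup.eq.2 (by simpa using ht)
  · simp

variable {G : Type*} [Group G] [Finite G] {p : ℕ} [hp : Fact p.Prime]

theorem comm_of_layer (P : Sylow p G) (hC : centralizer (layer G : Set G) = ⊥)
    (htr : ∀ K L : Subgroup G, IsComponent K → IsComponent L → ∃ x ∈ (P : Subgroup G), L = cj(x, K))
    {K L : Subgroup G} (hK : IsComponent K) (hL : IsComponent L) (hKL : K ≠ L)
    (hi : (layer G).relIndex P = p)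
    (hi' : (commutator P).relIndex ((layer G).subgroupOf P) = p) :
    IsMulCommutative ((layer G).subgroupOf P) := by
  set Q := (layer G).subgroupOf P with hQ
  have hcen : ∀ z : G, (∀ L : Subgroup G, IsComponent L → z ∈ centralizer (L : Set G)) → z = 1 := fun z hz => by
    rw [← mem_bot, ← hC, ← zpowers_le, le_centralizer_iff, layer_le_iff]
    intro L hL
    rw [le_centralizer_iff, zpowers_le]
    exact hz L hL
  have hne : ∀ L, IsComponent L → L ≠ K → L ≤ centralizer (K : Set G) := fun L hL h =>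
    commutator_eq_bot_iff_le_centralizer.1 (comp_commute_of_ne hL hK h)
  have hn : ∀ t : P, t ∉ Q → cj((t : G)⁻¹, K) ≠ K := fun t ht e => by
    have h1 : Q ⊔ zpowers t ≤ 𝐍[K].subgroupOf P :=
      sup_le (comap_mono (layer_le_normalizer_comp hK))
        (zpowers_le.2 (inv_mem_iff.1 (cj_eq_iff.1 e)))
    rw [FGS.sup_zpowers_eq_top_of_prime_index (H := Q) (by
      rw [show Q.index = p from hi]; exact hp.out) ht] at h1
    obtain ⟨x, hx, e'⟩ := htr K L hK hL
    exact hKL (e' ▸ (cj_eq_iff.2 (h1 (mem_top ⟨x, hx⟩))).symm)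
  let j : Q →* 𝐍[K] := ((P : Subgroup G).subtype.comp Q.subtype).codRestrict _
    fun x => layer_le_normalizer_comp hK x.2
  let f : Q →* MulAut K := K.normalizerMonoidHom.comp j
  have hf : ∀ q : Q, f q = 1 ↔ ((q : P) : G) ∈ centralizer (K : Set G) := fun q => by
    change j q ∈ K.normalizerMonoidHom.ker ↔ _
    rw [normalizerMonoidHom_ker]
    rfl
  let ψ := (Abelianization.of (G := f.range)).comp f.rangeRestrict
  have hψ : ∀ q : Q, ((q : P) : G) ∈ centralizer (K : Set G) → ψ q = 1 := fun q hq => by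
    change Abelianization.of (f.rangeRestrict q) = 1
    rw [show f.rangeRestrict q = 1 from Subtype.ext ((hf q).2 hq), map_one]
  have hV : ∀ r : Q, ((r : P) : G) ∈ K → MonoidHom.transfer ψ r = ψ r := fun r hr =>
    transfer_eq Q ψ r fun t k _ ht => hψ _ (hne _ (comp_conj hK _) (hn t ht)
      ⟨_, pow_mem hr k, by simp⟩)
  have hR : IsSyl p ((P : Subgroup G) ⊓ layer G ⊓ K) K :=
    ((isSyl_top P).inf_of_le le_top le_normalizer_of_normal).inf_of_le (comp_le_layer hK)
      (layer_le_normalizer_comp hK)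
  have hdec : ∀ q : Q, ∃ r : Q, ((r : P) : G) ∈ K ∧ ψ r = ψ q := fun q => by
    have h1 : layer G ≤ K ⊔ centralizer (K : Set G) := layer_le_iff.2 fun L hL => by
      by_cases e : L = K
      · exact e ▸ le_sup_left
      · exact (hne L hL e).trans le_sup_right
    obtain ⟨k, hk, c, hc, e⟩ := (mem_sup_of_le_normalizer_left (centralizer_le_normalizer _)).1
      (h1 q.2)
    replace e : k * c = ((q : P) : G) := e.symm
    obtain ⟨a, ha⟩ := P.isPGroup' q
    have h2 : Commute k c := hc k hk
    have h3 : k ^ p ^ a = 1 := hcen _ fun L hL => by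
      by_cases e' : L = K
      · have : k ^ p ^ a * c ^ p ^ a = 1 := by
          rw [← h2.mul_pow, e]
          exact congrArg Subtype.val ha
        rw [e', eq_inv_of_mul_eq_one_left this]
        exact inv_mem (pow_mem hc _)
      · exact le_centralizer_iff.1 (hne L hL e') (pow_mem hk _)
    have h4 : k ∈ (P : Subgroup G) ⊓ layer G ⊓ K := by
      refine hR.le_of_normalizes (PE.isPGroup_zpowers ⟨a, h3⟩) (zpowers_le.2 hk) (zpowers_le.2 ?_)
        (mem_zpowers k)
      rw [eq_mul_inv_of_mul_eq e]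
      refine mul_mem (le_normalizer_inf le_normalizer (inf_le_right.trans
        (layer_le_normalizer_comp hK)) ⟨(q : P).2, q.2⟩) (inv_mem ?_)
      exact centralizer_le_normalizer _ (centralizer_le inf_le_right hc)
    refine ⟨⟨⟨k, h4.1.1⟩, h4.1.2⟩, hk, ?_⟩
    rw [← mul_inv_eq_one, mul_comm, ← map_inv, ← map_mul]
    refine hψ _ ?_
    change ((q : P) : G)⁻¹ * k ∈ _
    rw [← e, mul_inv_rev, inv_mul_cancel_right]
    exact inv_mem hc
  have hs : Function.Surjective ((MonoidHom.transfer ψ).comp Q.subtype) := fun b => by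
    obtain ⟨b, rfl⟩ := QuotientGroup.mk'_surjective _ b
    obtain ⟨q, rfl⟩ := f.rangeRestrict_surjective b
    obtain ⟨r, hr, e⟩ := hdec q
    exact ⟨r, (hV r hr).trans e⟩
  have h1 : Nat.card (Abelianization f.range) ∣ p := by
    rw [← card_top, ← MonoidHom.range_eq_top.2 hs, ← index_ker]
    exact (index_dvd_of_le (H := (commutator P).subgroupOf Q) fun x hx =>
      Abelianization.commutator_subset_ker (MonoidHom.transfer ψ) hx).trans hi'.dvd
  have h2 : IsCyclic f.range := Grp.MaxClass.isCyclic_of_isCyclic_abelianization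
    ((P.isPGroup'.to_subgroup Q).of_surjective _ f.rangeRestrict_surjective)
    (isCyclic_of_card_dvd_prime h1)
  have h3 : ∀ a b : Q, ((⁅a, b⁆ : Q) : P).1 ∈ centralizer (K : Set G) := fun a b => by
    rw [← hf, map_commutatorElement, commutatorElement_eq_one_iff_mul_comm]
    exact congrArg Subtype.val (mul_comm' (f.rangeRestrict a) (f.rangeRestrict b))
  refine ⟨⟨fun a b => commutatorElement_eq_one_iff_mul_comm.1 (Subtype.ext (Subtype.ext
    (hcen _ fun L hL => ?_)))⟩⟩
  obtain ⟨x, hx, rfl⟩ := htr K L hK hL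
  rintro _ ⟨y, hy, rfl⟩
  have : Q.Normal := normal_subgroupOf
  have h4 := h3 (MulAut.conjNormal (⟨x, hx⟩ : P)⁻¹ a) (MulAut.conjNormal (⟨x, hx⟩ : P)⁻¹ b) y hy
  have h5 := congrArg (fun z => x * z * x⁻¹) h4
  simpa [commutatorElement_def, mul_assoc] using h5

theorem exists_normal (P : Sylow p G) (hcore : pPrimeCore p G = ⊥)
    (hcore' : (⁅(P : Subgroup G), (P : Subgroup G)⁆).normalCore = ⊥)
    (hnas : ¬ ∃ S : Subgroup G, S.Normal ∧ IsSimpleGroup S ∧ ¬ IsMulCommutative S ∧
      centralizer (S : Set G) = ⊥) (h : (commutator P).index = p ^ 2)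
    (hna : ¬ IsMulCommutative (P : Subgroup G)) :
    ∃ N : Subgroup G, N.Normal ∧ N.relIndex P = p ∧ IsMulCommutative (N.subgroupOf P) := by
  have hΦ : frattini P = commutator P := by
    obtain ⟨d, hd⟩ := FGS.SubCount.exists_index_frattini P.isPGroup' fun hc => hna inferInstance
    have h1 := Grp.PFrattini.commutator_le_frattini P.isPGroup'
    by_contra hc
    have := index_strictAnti (lt_of_le_of_ne h1 (Ne.symm hc))
    simp only [h, hd] at this
    have := (Nat.pow_lt_pow_iff_right hp.out.one_lt).1 this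
    omega
  have hFn : (generalizedFittingSubgroup G).Normal := inferInstanceAs (_ ⊔ _ : Subgroup G).Normal
  obtain ⟨⟨h0, hmin⟩, hcyc, htr⟩ := S4172.result p P hna (hΦ ▸ h) hcore
    (by rwa [hΦ, map_subtype_commutator])
  set N := generalizedFittingSubgroup G with hN
  have h1 : commutator P ≤ N.subgroupOf P := by
    rw [_root_.commutator_def, commutator_le]
    intro a _ b _
    rw [mem_subgroupOf, ← QuotientGroup.eq_one_iff]
    change QuotientGroup.mk' N ⁅(a : G), (b : G)⁆ = 1
    rw [map_commutatorElement, commutatorElement_eq_one_iff_mul_comm]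
    exact congrArg Subtype.val (mul_comm' (⟨_, mem_map_of_mem _ a.2⟩ :
      (P : Subgroup G).map (QuotientGroup.mk' N)) ⟨_, mem_map_of_mem _ b.2⟩)
  have hdvd : ∀ M : Subgroup G, M.Normal → M ⊓ P = ⊥ → M = ⊥ := fun M hM e => by
    have := ((isSyl_top P).inf_of_le le_top le_normalizer_of_normal).eq_bot_iff.1
      ((inf_comm _ M).trans e)
    exact le_bot_iff.1 (hcore ▸ le_sSup ⟨hM, ((Nat.Prime.coprime_iff_not_dvd hp.out).2 this).symm⟩)
  have hPN : IsPGroup p N → N ≤ P := fun h => (le_pCore' h).trans (Grp.pCore_le_sylow P)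
  have h2 : commutator P ≠ N.subgroupOf P := fun e => by
    have h3 : N ⊓ P ≤ (frattini P).map (P : Subgroup G).subtype := by
      rw [hΦ, e, subgroupOf_map_subtype]
    have h4 : (𝐎[p, N]).Normal := normalizer_eq_top_iff.1 (top_le_iff.1
      (le_normalizer_of_normal.trans (normalizer_le_normalizer_pRes p N)))
    have h5 := hPN (isPGroup_of_pRes_le IsPGroup.of_bot
      (hdvd _ h4 (S4172.pRes_inf_eq_bot P le_normalizer_of_normal h3)).le)
    rw [inf_of_le_left h5, hΦ, map_subtype_commutator, ← normal_le_normalCore, hcore'] at h3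
    exact h0 (le_bot_iff.1 h3)
  have h3 : N.subgroupOf P ≠ ⊤ → N.relIndex P = p ∧
      (commutator P).relIndex (N.subgroupOf P) = p := fun h3 => by
    obtain ⟨j, hj, e⟩ := (Nat.dvd_prime_pow hp.out).1 (h ▸ index_dvd_of_le h1)
    have h4 := index_strictAnti (lt_of_le_of_ne h1 h2)
    simp only [h, e] at h4
    have h5 := (Nat.pow_lt_pow_iff_right hp.out.one_lt).1 h4
    have h6 : j ≠ 0 := fun e' => h3 (index_eq_one.1 (by rw [e, e', pow_zero]))
    rw [show j = 1 by omega, pow_one] at e
    have h7 := relIndex_mul_index h1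
    rw [e, h, sq] at h7
    exact ⟨e, Nat.eq_of_mul_eq_mul_right hp.out.pos h7⟩
  by_cases hc : IsMulCommutative N
  · have h4 : IsMulCommutative (N.subgroupOf P) := ⟨⟨fun a b => Subtype.ext (Subtype.ext
      (le_centralizer_iff_isMulCommutative.2 hc b.2 _ a.2))⟩⟩
    refine ⟨N, hFn, (h3 fun e => hna ⟨⟨fun a b => ?_⟩⟩).1, h4⟩
    exact congrArg Subtype.val (mul_comm' (⟨a, e.ge (mem_top a)⟩ : N.subgroupOf P)
      ⟨b, e.ge (mem_top b)⟩)
  have hC : centralizer (N : Set G) = ⊥ := by
    by_contra hC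
    exact hc (le_centralizer_iff_isMulCommutative.1 (hmin _ inferInstance hC))
  have hE : layer G ≠ ⊥ := fun e => by
    have h4 : N = fittingSubgroup G := by rw [hN, generalizedFittingSubgroup, e, bot_sup_eq]
    have h5 : Group.IsSolvable N := h4 ▸ inferInstance
    by_cases h6 : ⁅N, N⁆ = ⊥
    · exact hc (le_centralizer_iff_isMulCommutative.1 (commutator_eq_bot_iff_le_centralizer.1 h6))
    · exact (Solv.commutator_lt_of_isSolvable h5 h0).not_ge (hmin _ inferInstance h6)
  have hNE : N = layer G := le_antisymm (hmin _ inferInstance hE) le_sup_left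
  obtain ⟨K, hK⟩ : ∃ K : Subgroup G, IsComponent K := by
    by_contra hcon
    push Not at hcon
    exact hE (layer_eq_bot_iff.2 hcon)
  obtain ⟨L, hL, hKL⟩ : ∃ L : Subgroup G, IsComponent L ∧ K ≠ L := by
    by_contra hcon
    push Not at hcon
    have h4 : N = K := hNE.trans (le_antisymm (layer_le_iff.2 fun L hL => (hcon L hL).ge)
      (comp_le_layer hK))
    refine hnas ⟨N, hFn, ?_, hc, hC⟩
    rw [h4] at hC ⊢
    have h5 : center K = ⊥ := eq_bot_iff.2 fun z hz => Subtype.ext (mem_bot.1 (hC.le fun y hy =>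
      congrArg Subtype.val (mem_center_iff.1 hz ⟨y, hy⟩)))
    have := hK.2.2
    exact ((QuotientGroup.quotientMulEquivOfEq h5).trans QuotientGroup.quotientBot).symm.isSimpleGroup
  have h4 : N.subgroupOf P ≠ ⊤ := fun e => by
    obtain ⟨x, hx, e'⟩ := htr hc K L hK hL
    exact hKL (e' ▸ (cj_eq_iff.2 (layer_le_normalizer_comp hK
      (hNE.le (e.ge (mem_top (⟨x, hx⟩ : P)))))).symm)
  obtain ⟨h5, h6⟩ := h3 h4
  refine ⟨N, hFn, h5, ?_⟩
  rw [hNE] at hC h5 h6 ⊢
  exact comm_of_layer P hC (htr hc) hK hL hKL h5 h6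

theorem exists_conj (P : Sylow p G) {S : Subgroup G} (hS : IsPGroup p S) :
    ∃ g : G, ∀ s ∈ S, g * s * g⁻¹ ∈ (P : Subgroup G) := by
  obtain ⟨g, -, h⟩ := (isSyl_top P).exists_cj_le hS le_top
  exact ⟨g, fun s hs => h ⟨s, hs, rfl⟩⟩

omit [Finite G] hp in
theorem card_dvd (P : Sylow p G) (y : P) :
    Nat.card (centralizer ({y} : Set P)) ∣ Nat.card (centralizer ({(y : G)} : Set G)) :=
  card_dvd_of_injective (((P : Subgroup G).subtype.comp (Subgroup.subtype _)).codRestrict _
    fun z => mem_centralizer_singleton_iff.2 (congrArg Subtype.val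
      (mem_centralizer_singleton_iff.1 z.2))) fun _ _ e =>
    Subtype.ext (Subtype.ext (congrArg (fun z : centralizer ({(y : G)} : Set G) => z.1) e))


/-- Let G be a finite group, p a prime and P a Sylow p-subgroup of order at least p². Assume that G has no nontrivial normal subgroup of order prime to p, that the derived subgroup P' of P contains no nontrivial normal subgroup of G, and that G is not almost simple (there is no non-abelian simple normal subgroup of G with trivial centralizer). Then [P : P'] = p² if and only if some p-element x of G has centralizer whose order has p-part exactly p². -/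
theorem result {G : Type*} [Group G] [Finite G] (p : ℕ) [Fact p.Prime] (P : Sylow p G) (hbig : p ^ 2 ∣ Nat.card G) (hcore : Cfsg.pPrimeCore p G = ⊥)
    (hcore' : (⁅(P : Subgroup G), (P : Subgroup G)⁆).normalCore = ⊥) (hnas : ¬ ∃ S : Subgroup G, S.Normal ∧ IsSimpleGroup S ∧ ¬ IsMulCommutative S ∧ Subgroup.centralizer (S : Set G) = ⊥) :
    (⁅(P : Subgroup G), (P : Subgroup G)⁆).relIndex (P : Subgroup G) = p ^ 2 ↔
      ∃ x : G, (∃ k : ℕ, orderOf x = p ^ k) ∧ (Nat.card (Subgroup.centralizer ({x} : Set G))).factorization p = 2 := by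
  have hp : p.Prime := Fact.out
  have e0 : (⁅(P : Subgroup G), (P : Subgroup G)⁆).relIndex (P : Subgroup G) =
      (commutator P).index := by
    rw [← map_subtype_commutator, relIndex, subgroupOf, comap_map_eq_self_of_injective
      (subtype_injective _)]
  have hP2 : p ^ 2 ∣ Nat.card P := by
    rw [P.card_eq_multiplicity]
    exact pow_dvd_pow p ((hp.pow_dvd_iff_le_factorization Nat.card_pos.ne').1 hbig)
  rw [e0]
  constructor
  · intro h
    by_cases hna : IsMulCommutative (P : Subgroup G)
    · refine ⟨1, ⟨0, by simp⟩, ?_⟩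
      rw [show centralizer ({1} : Set G) = ⊤ by
        simp [eq_top_iff', mem_centralizer_singleton_iff], card_top]
      rw [show commutator P = ⊥ from commutator_eq_bot_iff_le_centralizer.2 fun a _ b _ =>
        mul_comm' b a, index_bot, P.card_eq_multiplicity] at h
      exact Nat.pow_right_injective hp.two_le h
    obtain ⟨N, hN, h1, h2⟩ := exists_normal P hcore hcore' hnas h hna
    have h3 := fun y hy => (card_centralizer_eq hp (N.subgroupOf P) h2 h1 (y := y) hy).trans h
    obtain ⟨x, hx⟩ := FGS.exists_notMem_of_index_ne_one (H := N.subgroupOf P)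
      (h1.trans_ne hp.ne_one)
    refine ⟨x, ?_, le_antisymm ?_ ?_⟩
    · rw [Subgroup.orderOf_coe]
      exact IsPGroup.iff_orderOf.1 P.isPGroup' x
    · have hxc : (x : G) ∈ centralizer ({(x : G)} : Set G) := mem_centralizer_singleton_iff.2 rfl
      obtain ⟨S, hS, hxS⟩ := exists_isSyl_ge (PE.isPGroup_zpowers (pe_coe.2 (P.isPGroup' x)))
        (zpowers_le.2 hxc)
      obtain ⟨g, hg⟩ := exists_conj P hS.pgrp
      have h4 := h3 ⟨_, hg x (hxS (mem_zpowers _))⟩ fun hc => hx (by
        simpa [mul_assoc, mem_subgroupOf] using hN.conj_mem' _ hc g)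
      rw [← Nat.pow_le_pow_iff_right hp.one_lt, ← hS.card_eq_pow, ← h4]
      refine Nat.card_le_card_of_injective (fun s => ⟨⟨_, hg s s.2⟩,
        mem_centralizer_singleton_iff.2 (Subtype.ext ?_)⟩) fun a b e => Subtype.ext ?_
      · have := congrArg (fun z => g * z * g⁻¹) (mem_centralizer_singleton_iff.1 (hS.le s.2))
        simpa [mul_assoc] using this
      · simpa using e
    · exact (hp.pow_dvd_iff_le_factorization Nat.card_pos.ne').1 (h3 x hx ▸ card_dvd P x)
  · rintro ⟨x, ⟨k, hk⟩, hx⟩
    obtain ⟨g, hg⟩ := exists_conj P (PE.isPGroup_zpowers ⟨k, hk ▸ pow_orderOf_eq_one x⟩)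
    let y : P := ⟨_, hg x (mem_zpowers x)⟩
    have h1 : Nat.card (centralizer ({y} : Set P)) ≤ p ^ 2 := by
      obtain ⟨j, hj⟩ := (P.isPGroup'.to_subgroup (centralizer ({y} : Set P))).exists_card_eq
      have h2 := card_dvd P y
      have h3 : Nat.card (centralizer ({(y : G)} : Set G)) =
          Nat.card (centralizer ({x} : Set G)) := by
        refine Nat.card_congr ((MulAut.conj g⁻¹).toEquiv.subtypeEquiv fun z => ?_)
        simp only [mem_centralizer_singleton_iff, y]
        constructor
        · intro h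
          simpa [mul_assoc] using congrArg (fun z => g⁻¹ * z * g) h
        · intro h
          simpa [mul_assoc] using congrArg (fun z => g * z * g⁻¹) h
      rw [hj, h3, hp.pow_dvd_iff_le_factorization Nat.card_pos.ne', hx] at h2
      exact hj ▸ Nat.pow_le_pow_right hp.pos h2
    refine le_antisymm ?_ ?_
    · have h2 := (centralizer ({y} : Set P)).card_mul_index
      rw [← (commutator P).card_mul_index] at h2
      have h4 : 0 < Nat.card (commutator P) := Nat.card_pos
      refine Nat.le_of_mul_le_mul_left (h2.ge.trans ?_) h4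
      rw [mul_comm]
      exact Nat.mul_le_mul (S4584.index_centralizer_le y) h1
    · by_cases hc : IsCyclic P
      · rw [show commutator P = ⊥ from commutator_eq_bot_iff_le_centralizer.2 fun a _ b _ =>
          mul_comm' b a, index_bot]
        exact Nat.le_of_dvd Nat.card_pos hP2
      · exact Grp.MaxClass.sq_le_index_commutator P.isPGroup' hc


end Cfsg.Agent.S4587
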