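import Cfsg.Statements.S4591
import Cfsg.Agent.Char.PPrimeDeg
import Cfsg.Agent.Char.Degrees
import Cfsg.Agent.Transfer.Tate
import Cfsg.Agent.PLocal.AmbSyl

set_option autoImplicit false
open Cfsg

namespace Cfsg.Agent.S4591

open Cfsg.Agent.Char Subgroup Cfsg.Agent.PLocal.Amb

variable {G : Type*} [Group G] [Finite G] {p : ℕ} [Fact p.Prime]

theorem not_dvd_card_of_inf_eq_bot (P : Sylow p G) (L : Subgroup G) [L.Normal]
    (h : (P : Subgroup G) ⊓ L = ⊥) : ¬ p ∣ Nat.card L :=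
  ((isSyl_top P).inf_of_le le_top (by rw [normalizer_eq_top])).eq_bot_iff.1 h

theorem not_dvd_card_of_inf_centralizer (P : Sylow p G) (N : Subgroup G) [N.Normal]
    (hN : N ⊓ centralizer ((P : Subgroup G) : Set G) = ⊥) : ¬ p ∣ Nat.card N := by
  refine not_dvd_card_of_inf_eq_bot P N ?_
  by_contra hne
  refine inf_centralizer_ne_bot P.isPGroup' (P.isPGroup'.to_le inf_le_left)
    (le_normalizer_inf le_normalizer (by rw [normalizer_eq_top]; exact le_top)) hne ?_
  rw [eq_bot_iff, ← hN]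
  exact inf_le_inf_right _ inf_le_right

theorem le_ker (P : Sylow p G) (N : Subgroup G) [N.Normal]
    (hN : N ⊓ centralizer ((P : Subgroup G) : Set G) = ⊥) (χ : IrrCharacter G)
    (hd : ¬ p ∣ charDegree χ.1) : ∀ n ∈ N, χ.1 n = χ.1 1 := by
  letI : Fintype G := Fintype.ofFinite G
  letI : Fintype N := Fintype.ofFinite N
  have hPN : (P : Subgroup G) ≤ 𝐍[N] := by rw [normalizer_eq_top]; exact le_top
  obtain ⟨θ, h1, h2, -⟩ := exists_invBy_under_not_dvd (le_top : N ≤ ⊤) P.isPGroup'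
    (by rw [normalizer_eq_top]; exact le_top) hPN (topIrr χ) (invBy_topIrr _ χ) hd
  have hG := gcorr_centralizer P.isPGroup' hPN (not_dvd_card_of_inf_centralizer P N hN)
    hN.symm bot_le
  have h3 : InvBy (P : Subgroup G) (irrOne N).1 := fun _ _ _ _ _ => rfl
  obtain ⟨ξ, h4, h5⟩ := hG.ex θ h1
  obtain ⟨ξ', h6, h7⟩ := hG.ex _ h3
  have h8 : ∀ ξ : IrrCharacter (⊥ : Subgroup G), ξ.1 = fun _ => 1 := fun ξ =>
    eq_one_of_charKer_eq_top ξ.2 (Subsingleton.elim _ _)
  have h9 : ξ' = ξ := Subtype.ext ((h8 ξ').trans (h8 ξ).symm)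
  have h10 := hG.inj θ _ h1 h3 ξ h4 h5 (h9 ▸ h7)
  have h11 : classInner (fun n : N => χ.1 n) (fun _ => 1) ≠ 0 := by
    have := coe_nmult_topIrr χ θ
    rw [h10] at this
    rw [h10] at h2
    intro h
    rw [show classInner (fun n : N => χ.1 n) (irrOne N).1 = 0 from h, Nat.cast_eq_zero] at this
    exact h2 (this ▸ dvd_zero p)
  exact fun n hn => restrict_eq_const_of_inner_one_ne_zero N χ.2 h11 ⟨n, hn⟩

theorem core_le_ker (P : Sylow p G) (N : Subgroup G) [N.Normal]
    (hN : N ⊓ centralizer ((P : Subgroup G) : Set G) = ⊥) (χ : IrrCharacter G)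
    (hd : ¬ p ∣ charDegree χ.1) (C : Subgroup G) [C.Normal]
    (hC : C ≤ N ⊔ ⁅(P : Subgroup G), (P : Subgroup G)⁆) : ∀ c ∈ C, χ.1 c = χ.1 1 := by
  letI : Fintype G := Fintype.ofFinite G
  letI : Fintype C := Fintype.ofFinite C
  have hPN : (P : Subgroup G) ≤ 𝐍[N] := by rw [normalizer_eq_top]; exact le_top
  obtain ⟨η, h1, h2⟩ := exists_under_not_dvd (p := p) (le_top : N ⊔ P ≤ ⊤) (topIrr χ) hd
  have h1' : nmult le_top (topIrr χ).1 η.1 ≠ 0 := fun h => h1 (h ▸ dvd_zero p)
  have h3 : ∀ x : (N ⊔ P : Subgroup G), (x : G) ∈ N → η.1 x = η.1 1 := fun x hx =>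
    apply_eq_of_nmult_ne_zero le_top (topIrr χ) η h1' (le_ker P N hN χ hd x hx)
  have h4 := η.2.deg_dvd_index_of_norm_eq (coe_charDegree_irr η).symm (N.subgroupOf (N ⊔ P))
    (fun a ha => by rw [h3 a ha])
  obtain ⟨k, hk⟩ := relIndex_sup_eq_pow P.isPGroup' hPN
  have h5 : charDegree η.1 = 1 := by
    rw [show (N.subgroupOf (N ⊔ P)).index = p ^ k from hk] at h4
    exact Nat.eq_one_of_dvd_coprimes
      (((Nat.Prime.coprime_iff_not_dvd Fact.out).mpr h2).pow_left k) h4 dvd_rfl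
  rw [charDegree_eq_one_iff η.2.isCharacter] at h5
  have h6 : N ⊔ ⁅(P : Subgroup G), (P : Subgroup G)⁆ ≤ (charKer η.1).map (N ⊔ P).subtype := by
    refine sup_le (fun n hn => ⟨⟨n, mem_sup_left hn⟩, (mem_charKer_irr η).2 (h3 _ hn), rfl⟩) ?_
    refine le_trans (commutator_mono (le_sup_right (a := N)) (le_sup_right (a := N))) ?_
    rw [← Subgroup.map_subtype_commutator]
    exact map_mono (commutator_le_charKer_of_one η.2.isCharacter h5)
  have hCH : C ≤ N ⊔ P := hC.trans (sup_le_sup_left (Solv.commutator_le_of_le_normalizer le_normalizer) _)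
  have h7 : nmult hCH η.1 (irrOne C).1 = 1 := nmult_eq_one_of_extends hCH η (irrOne C) fun c => by
    obtain ⟨y, hy, e⟩ := h6 (hC c.2)
    have : (⟨c, hCH c.2⟩ : (N ⊔ P : Subgroup G)) = y := Subtype.ext e.symm
    rw [this, (mem_charKer_irr η).1 hy, h5]
    rfl
  have h8 := nmult_trans_ne_zero le_top hCH (topIrr χ).2.isCharacter η (irrOne C).2.isCharacter
    h1' (by rw [h7]; exact one_ne_zero)
  have h9 : classInner (fun n : C => χ.1 n) (fun _ => 1) ≠ 0 := by
    intro h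
    have := coe_nmult_topIrr χ (irrOne C)
    rw [show classInner (fun n : C => χ.1 n) (irrOne C).1 = 0 from h, Nat.cast_eq_zero] at this
    exact h8 this
  exact fun n hn => restrict_eq_const_of_inner_one_ne_zero C χ.2 h9 ⟨n, hn⟩

theorem inf_le_commutator (P : Sylow p G) {x : G} (hxP : x ∈ (P : Subgroup G))
    (hx : ∀ χ : IrrCharacter G, ¬ p ∣ charDegree χ.1 → χ.1 x = χ.1 1) :
    (⟨x, hxP⟩ : (P : Subgroup G)) ∈ commutator (P : Subgroup G) := by
  refine mem_commutator_of_forall_hom fun μ => ?_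
  obtain ⟨ψ, h1, h2⟩ := exists_over_not_dvd (p := p) (le_top : (P : Subgroup G) ≤ ⊤)
    (by rw [relIndex_top_right]; exact P.not_dvd_index) ⟨_, isIrrCharacter_hom μ⟩
    (by rw [charDegree_eq_of_one_eq (n := 1) (by simp)]; exact (Fact.out : p.Prime).not_dvd_one)
  obtain ⟨χ, rfl⟩ := exists_topIrr_eq ψ
  have := apply_eq_of_nmult_ne_zero le_top (topIrr χ) ⟨_, isIrrCharacter_hom μ⟩
    (fun h => h1 (h ▸ dvd_zero p)) (n := ⟨x, hxP⟩) (hx χ h2)
  simpa using this

theorem pRes_inf_eq_bot (P : Sylow p G) (K : Subgroup G) [K.Normal]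
    (hK : ∀ x (hx : x ∈ (P : Subgroup G)), x ∈ K →
      (⟨x, hx⟩ : (P : Subgroup G)) ∈ commutator (P : Subgroup G)) :
    (P : Subgroup G) ⊓ 𝐎[p, K] = ⊥ := by
  have hPK : (P : Subgroup G) ≤ 𝐍[K] := by rw [normalizer_eq_top]; exact le_top
  have h1 := Transfer.tate (p := p) (H := (P : Subgroup G).subgroupOf (K ⊔ P))
    (isSyl_of_le P le_sup_right).not_dvd_relIndex (fun μ x hx => by
      have h2 : ((x : (K ⊔ P : Subgroup G)) : G) ∈ K :=
        pRes_sup_le P.isPGroup' hPK (mem_map_of_mem _ hx)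
      have h3 := hK _ x.2 h2
      have h4 : commutator (P : Subgroup G) ≤
          (μ.comp (subgroupOfEquivOfLe (le_sup_right : (P : Subgroup G) ≤ K ⊔ P)).symm.toMonoidHom).ker :=
        Abelianization.commutator_subset_ker _
      exact h4 h3)
  rw [Transfer.pResidual_eq_bot_iff.2 (isPGroup_subgroupOf P.isPGroup' _), Subgroup.map_bot] at h1
  rw [← pRes_sup_eq P.isPGroup' hPK, eq_bot_iff]
  rintro x ⟨hxP, y, hy, rfl⟩
  have : y ∈ pResidual p (K ⊔ P : Subgroup G) ⊓ (P : Subgroup G).subgroupOf (K ⊔ P) := ⟨hy, hxP⟩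
  rw [h1, mem_bot] at this
  rw [this, map_one]
  exact one_mem _

theorem inf_centralizer_eq_bot (P : Sylow p G) (L : Subgroup G) [L.Normal]
    (hp : ¬ p ∣ Nat.card L)
    (hL : ∀ x ∈ L, ∀ χ : IrrCharacter G, ¬ p ∣ charDegree χ.1 → χ.1 x = χ.1 1) :
    L ⊓ 𝐂[(P : Subgroup G)] = ⊥ := by
  have hPL : (P : Subgroup G) ≤ 𝐍[L] := by rw [normalizer_eq_top]; exact le_top
  have hG := gcorr_centralizer P.isPGroup' hPL hp rfl inf_le_left
  rw [eq_bot_iff]
  intro c hc
  have h0 := eq_one_of_forall_irr (g := (⟨c, hc⟩ : (L ⊓ 𝐂[(P : Subgroup G)] : Subgroup G)))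
    fun ξ => by
      obtain ⟨θ, h1, h2⟩ := hG.surj ξ (invBy_of_centralizer _ inf_le_right)
      obtain ⟨ψ, h3, h4⟩ := exists_over_not_dvd_of_invBy (le_top : L ≤ ⊤) le_top P.isPGroup' hPL
        (by rw [relIndex_top_right]; exact P.not_dvd_index) θ h1
        (fun h => hp (h.trans (charDegree_irr_dvd_card θ)))
        (fun h => hp (h.trans (detOrder_dvd_card _)))
      obtain ⟨χ, rfl⟩ := exists_topIrr_eq ψ
      refine apply_eq_of_nmult_ne_zero inf_le_left θ ξ (fun h => h2 (h ▸ dvd_zero p)) ?_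
      exact apply_eq_of_nmult_ne_zero le_top (topIrr χ) θ h3 (hL c hc.1 χ h4)
  exact mem_bot.2 (congrArg Subtype.val h0)

/-- Let G be a finite group, p a prime and P a Sylow p-subgroup, and let N be the largest normal subgroup of G in which P has trivial centralizer (N is normal with C_N(P) = 1 and contains every normal subgroup with that property). Then the intersection of the kernels of the irreducible characters of G of degree prime to p is the normal core in G of the subgroup N·P' (P' the derived subgroup of P). In particular, when G has no nontrivial normal subgroup of order prime to p, that intersection is the normal core of P'. -/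
theorem result {G : Type*} [Group G] [Finite G] (p : ℕ) [Fact p.Prime] (P : Sylow p G) (N : Subgroup G) [N.Normal]
    (hN : N ⊓ Subgroup.centralizer ((P : Subgroup G) : Set G) = ⊥)
    (hmax : ∀ L : Subgroup G, L.Normal → L ⊓ Subgroup.centralizer ((P : Subgroup G) : Set G) = ⊥ → L ≤ N) :
    {g : G | ∀ χ : Cfsg.IrrCharacter G, ¬ p ∣ Cfsg.charDegree (χ : G → ℂ) → (χ : G → ℂ) g = (χ : G → ℂ) 1} =
      ((N ⊔ ⁅(P : Subgroup G), (P : Subgroup G)⁆).normalCore : Set G) := by
  let K : Subgroup G := ⨅ χ : {χ : IrrCharacter G // ¬ p ∣ charDegree χ.1}, charKer χ.1.1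
  have hK : ∀ g, g ∈ K ↔ ∀ χ : IrrCharacter G, ¬ p ∣ charDegree χ.1 → χ.1 g = χ.1 1 := by
    intro g
    simp only [K, mem_iInf, mem_charKer_irr, Subtype.forall]
  haveI : K.Normal := Subgroup.normal_iInf_normal fun χ => inferInstance
  ext g
  rw [Set.mem_setOf_eq, ← hK, SetLike.mem_coe]
  revert g
  change ∀ g, g ∈ K ↔ _
  suffices h : K = (N ⊔ ⁅(P : Subgroup G), (P : Subgroup G)⁆).normalCore from fun g => by rw [h]
  refine le_antisymm ?_ fun c hc => (hK c).2 fun χ hd =>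
    core_le_ker P N hN χ hd _ (normalCore_le _) c hc
  rw [normal_le_normalCore]
  have hPK : (P : Subgroup G) ≤ 𝐍[K] := by rw [normalizer_eq_top]; exact le_top
  have h1 : ∀ x (hx : x ∈ (P : Subgroup G)), x ∈ K →
      (⟨x, hx⟩ : (P : Subgroup G)) ∈ commutator (P : Subgroup G) :=
    fun x hx hxK => inf_le_commutator P hx ((hK x).1 hxK)
  haveI : (𝐎[p, K]).Normal := inferInstance
  have h2 := not_dvd_card_of_inf_eq_bot P _ (pRes_inf_eq_bot P K h1)
  have h3 := hmax _ inferInstance (inf_centralizer_eq_bot P _ h2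
    fun x hx => (hK x).1 (pRes_le p K hx))
  have h4 : IsSyl p ((P : Subgroup G) ⊓ K) K :=
    (isSyl_top P).inf_of_le le_top (by rw [normalizer_eq_top])
  rw [← h4.pRes_sup]
  refine sup_le_sup h3 fun x hx => ?_
  rw [← Subgroup.map_subtype_commutator]
  exact mem_map_of_mem _ (h1 x hx.1 hx.2)

end Cfsg.Agent.S4591
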