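import Cfsg.Statements.S4609
import Cfsg.Agent.Block.KThree
import Cfsg.Agent.Grp.MaxClass
import Cfsg.Agent.S0972
-- import your own Cfsg.Agent.* helpers here

set_option autoImplicit false
open Cfsg

namespace Cfsg.Agent.S4609

open Cfsg.Agent.Block Cfsg.Agent.Char
open scoped ComplexConjugate

open Subgroup

/-- Let G be a finite group, p a prime, M a maximal ideal of the algebraic integers containing p, and B a p-block of G with defect group D containing exactly three irreducible characters. Suppose the number of height-zero characters of B equals the number of height-zero characters of its Brauer correspondent b, the block of N_G(D) with defect group D inducing B (as the Alperin–McKay conjecture predicts). Then D has order 3. -/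
theorem result {G : Type*} [Group G] [Finite G] (p : ℕ) [Fact p.Prime] (M : Ideal Cfsg.AlgInt) (hM : Cfsg.IsPModular p M) (B : Set (Cfsg.IrrCharacter G)) (hB : Cfsg.IsPBlock M B) (D : Subgroup G) (hD : Cfsg.IsDefectGroup p M B D) (hk : Nat.card B = 3)
    (b : Set (Cfsg.IrrCharacter (Subgroup.normalizer (D : Set G)))) (hbB : Cfsg.IsInducedBlock M (Subgroup.normalizer (D : Set G)) b B)
    (hbD : Cfsg.IsDefectGroup p M b (D.subgroupOf (Subgroup.normalizer (D : Set G))))
    (hAM : Nat.card {χ : Cfsg.IrrCharacter G // χ ∈ B ∧ Cfsg.blockHeight p B (χ : G → ℂ) = 0} =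
           Nat.card {ψ : Cfsg.IrrCharacter (Subgroup.normalizer (D : Set G)) // ψ ∈ b ∧ Cfsg.blockHeight p b (ψ : Subgroup.normalizer (D : Set G) → ℂ) = 0}) :
    Nat.card D = 3 := by
  set N := normalizer (D : Set G)
  set D' := D.subgroupOf N
  haveI : D'.Normal := normal_subgroupOf_of_le le_rfl
  have hD' : IsPGroup p D' := isPGroup_of_isDefectGroup hbD
  obtain ⟨c, hc, hsub, hV⟩ := exists_block_domSet_defectGroup hM ⁅D', D'⁆
    (hD'.to_le (commutator_le_left D' D')) hbB.1 hbD
  haveI : (D'.map (QuotientGroup.mk' ⁅D', D'⁆)).Normal :=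
    Normal.map inferInstance _ (QuotientGroup.mk'_surjective _)
  have hab : ∀ a ∈ D'.map (QuotientGroup.mk' ⁅D', D'⁆), ∀ a' ∈ D'.map (QuotientGroup.mk' ⁅D', D'⁆),
      a * a' = a' * a := by
    rintro _ ⟨a, ha, rfl⟩ _ ⟨a', ha', rfl⟩
    rw [← commutatorElement_eq_one_iff_mul_comm, ← map_commutatorElement]
    exact (QuotientGroup.eq_one_iff _).2 (commutator_mem_commutator ha ha')
  have h0 := (S0972.result p M hM c hc _ hV).1 hab
  have h1 : Nat.card c ≤ 3 := by
    refine le_trans ?_ ((hAM.symm.trans_le ?_).trans hk.le)
    · refine Nat.card_le_card_of_injective (fun ψ : c =>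
        ⟨inflateIrr _ (QuotientGroup.mk'_surjective _) ψ.1, hsub ψ.2, ?_⟩) fun ψ η e =>
          Subtype.ext (inflateIrr_injective _ (QuotientGroup.mk'_surjective _) (congrArg Subtype.val e))
      have := (blockHeight_eq_zero_iff_index hM hc hV _).1 (h0 ψ ψ.2)
      rw [index_map_eq _ (QuotientGroup.mk'_surjective _)
        (by rw [QuotientGroup.ker_mk']; exact commutator_le_left D' D')] at this
      rw [blockHeight_eq_zero_iff_index hM hbB.1 hbD]
      exact this
    · exact Nat.card_le_card_of_injective (fun χ => ⟨χ.1, χ.2.1⟩) fun χ η e =>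
        Subtype.ext (congrArg (fun χ : B => χ.1) e)
  have h2 := card_le_three_of_normal hM hc hV (fun a ha a' ha' => hab a' ha' a ha) h1
  have h3 : (commutator D').index ≤ 3 := by
    have e : ((QuotientGroup.mk' ⁅D', D'⁆).comp D'.subtype).ker = commutator D' := by
      rw [← MonoidHom.comap_ker, QuotientGroup.ker_mk', ← map_subtype_commutator,
        comap_map_eq_self_of_injective D'.subtype_injective]
    rwa [← e, index_ker, MonoidHom.range_comp, range_subtype]
  have hp2 := (Fact.out : p.Prime).two_le
  have h4 : IsCyclic D' := by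
    by_contra h
    have := Grp.MaxClass.sq_le_index_commutator hD' h
    nlinarith
  have h5 : commutator D' = ⊥ := by
    let _ := h4.commGroup
    exact (commutator_eq_bot_iff_center_eq_top _).2 CommGroup.center_eq_top
  rw [h5, index_bot, Nat.card_congr (subgroupOfEquivOfLe le_normalizer).toEquiv] at h3
  have h6 : Nat.card D ≠ 2 := fun e => by
    have := (S4607.result p M hM B hB D hD).2 e
    omega
  have h7 : Nat.card D ≠ 1 := fun e => by
    have h8 := card_defectGroup hM hB hD
    rw [e, eq_comm, Nat.pow_eq_one, or_iff_right (by omega)] at h8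
    have := card_eq_one_of_defect_zero hM hB h8
    omega
  have : 0 < Nat.card D := Nat.card_pos
  omega

end Cfsg.Agent.S4609
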