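import Cfsg.Statements.S4621
import Mathlib
import Cfsg.Agent.SolvLin.Coprime

set_option autoImplicit false
open Cfsg

namespace Cfsg.Agent.S4621

/-- Let F be a finite field of odd characteristic, V a finite-dimensional vector space over F, and G a finite solvable group acting faithfully and linearly on V with the order of G coprime to the number of vectors of V. Then there are two vectors x, y ∈ V such that the only element of G fixing both x and y is the identity. -/
theorem result {F : Type*} [Field F] [Fintype F] (hF : ringChar F ≠ 2) {V : Type*} [AddCommGroup V] [Module F V] [FiniteDimensional F V] [Finite V]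
    {G : Type*} [Group G] [Finite G] [Group.IsSolvable G] (ρ : Representation F G V) (hfaith : Function.Injective ρ) (hcop : (Nat.card G).Coprime (Nat.card V)) :
    ∃ x y : V, ∀ g : G, ρ g x = x → ρ g y = y → g = 1 := by
  letI : MulDistribMulAction G (Multiplicative V) :=
    { smul := fun g v => Multiplicative.ofAdd (ρ g v.toAdd)
      one_smul := fun v => by change Multiplicative.ofAdd (ρ 1 _) = _; simp
      mul_smul := fun a b v => by
        change Multiplicative.ofAdd (ρ (a * b) _) = _
        rw [map_mul]
        rfl
      smul_one := fun a => map_zero (ρ a)
      smul_mul := fun a v w => map_add (ρ a) v.toAdd w.toAdd }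
  obtain ⟨x, y, h⟩ := SolvLin.base2_coprime (A := G) (K := Multiplicative V) inferInstance hcop
  exact ⟨x.toAdd, y.toAdd, fun g hx hy => hfaith (by
    rw [map_one]
    exact LinearMap.ext fun v => h g hx hy v)⟩

end Cfsg.Agent.S4621
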