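import Cfsg.Statements.S4642
import Mathlib
import Cfsg.Agent.Block.Fong

set_option autoImplicit false
open Cfsg

set_option linter.style.haveILetI false
set_option linter.unusedVariables false

namespace Cfsg.Agent.S4642

open Block Cfsg.Agent.Char Subgroup

/-- Let G be a finite group, p a prime, M a maximal ideal of the algebraic integers containing p, K the largest normal subgroup of G of order prime to p, and L the preimage in G of the largest normal p-subgroup of G/K. Let Q be a Sylow p-subgroup of L and suppose C_G(Q) ≤ L. Let θ be an irreducible character of K invariant under conjugation by every element of G, and let B be the set of irreducible characters of G whose restriction to K contains θ. Then B is a block of G, every Sylow p-subgroup of G is a defect group of B, and B is of principal type: for every p-subgroup R of G exactly one block of C_G(R) induces B. -/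
theorem result {G : Type*} [Group G] [Fintype G] (p : ℕ) [Fact p.Prime] (M : Ideal Cfsg.AlgInt) (hM : Cfsg.IsPModular p M) (K : Subgroup G) (hK : K = Cfsg.pPrimeCore p G) [Fintype K] (L : Subgroup G) (hL : L = Cfsg.pPrimePCore p G) (Q : Subgroup G) (hQL : Q ≤ L) (hQp : IsPGroup p Q) (hQS : ¬ p ∣ Q.relIndex L) (hCQ : Subgroup.centralizer (Q : Set G) ≤ L) (θ : Cfsg.IrrCharacter K) (hθ : ∀ g : G, Cfsg.IsConjCharOf K g (θ : K → ℂ) (θ : K → ℂ)) (B : Set (Cfsg.IrrCharacter G)) (hBdef : ∀ χ : Cfsg.IrrCharacter G, χ ∈ B ↔ Cfsg.classInner (fun k : K => (χ : G → ℂ) k) (θ : K → ℂ) ≠ 0) : Cfsg.IsPBlock M B ∧ (∀ S : Sylow p G, Cfsg.IsDefectGroup p M B S) ∧ ∀ R : Subgroup G, IsPGroup p R → ∃! f : Set (Cfsg.IrrCharacter (Subgroup.centralizer (R : Set G))), Cfsg.IsInducedBlock M (Subgroup.centralizer (R : Set G)) f B := by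
  haveI := charP_resField hM
  haveI : K.Normal := hK ▸ inferInstance
  have hG : IsPConstrained p G := by
    subst hL
    exact PLocal.isPConstrained_iff.2 ((PLocal.centralizer_le_pPrimePCore_iff
      (PLocal.isSylowIn_of_not_dvd_relIndex hQL hQp hQS)).1 hCQ)
  have h : ∀ g : G, conjIrr K θ g = θ := fun g => by
    have := (eq_conjIrr_inv_iff K (g := g⁻¹)).2 (hθ g⁻¹)
    rw [inv_inv] at this
    exact this.symm
  have hBe : B = above K {θ} := Set.ext fun χ => by rw [hBdef, mem_above_singleton]
  subst hBe
  have hB := isPBlock_above_of_isPConstrained hM hG hK h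
  have hNp : ¬ p ∣ Nat.card K :=
    hK ▸ (Nat.Prime.coprime_iff_not_dvd Fact.out).1 (Grp.pPrimeCore_coprime p G).symm
  refine ⟨hB, fun S => (isDefectGroup_above_iff hM hNp h hB).2 ⟨S, rfl⟩, fun R hR => ?_⟩
  have hb := isPBlock_singleton_of_not_dvd hM hNp θ
  have hS := isStable_singleton h
  have h1 : Alg.IsPrim (Alg.Z (resField M) (centralizer (R : Set G)))
      (Alg.br R (gbar M (above K {θ}))) := by
    rw [gbar_above_of_isStable hS]
    refine Alg.IsPrim.isPrim_br_of_isPConstrained (regSupp hM) hG ?_
      ((inv_sbar_iff hM hb).2 (isStable_iff_blockStab.1 hS).ge) hR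
    subst hK
    exact isPrim_bar_subtype hM hb
  obtain ⟨f, hf, h2⟩ := exists_block_of_isPrim_subtype hM h1
  refine ⟨f, (isInducedBlock_cent_iff_br hM hR hf hB).2 ?_, fun f' hf' => ?_⟩
  · rw [h2]; exact h1.idem
  · have h3 := (isInducedBlock_cent_iff_br hM hR hf'.1 hB).1 hf'
    have h4 := isPrim_bar_subtype hM hf'.1
    refine bar_inj_of_block hM (subtype_injective _) hf'.1 hf ?_
    rw [h2]
    exact (h1.eq_of_mul_ne_zero (Alg.isComm_Z _) h4 (by rw [h3]; exact h4.ne_zero)).symm

end Cfsg.Agent.S4642
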