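import Cfsg.Statements.S4724
import Mathlib
import Cfsg.Agent.Perm.ItoTI
import Cfsg.Agent.S0253
import Cfsg.Agent.S3278

set_option autoImplicit false
open Cfsg

namespace Cfsg.Agent.S4724

open Finset Subgroup MulAction Cfsg.Agent.Char Cfsg.Agent.Perm Cfsg.Agent.Perm.ItoTI
  Cfsg.Agent.Char.ModSl2
open scoped MatrixGroups ComplexConjugate

theorem exists_mu {G : Type*} [Group G] [Finite G] {p : ℕ} [hp : Fact p.Prime] {u : G}
    (hu : orderOf u = p) (hG : ¬ p ^ 2 ∣ Nat.card G) {χ : G → ℂ} (hχ : IsIrrCharacter G χ)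
    (h1 : χ 1 = p) : ∃ μ : normalizer (zpowers u : Set G) →* ℂˣ,
      ∀ y : normalizer (zpowers u : Set G),
        (∀ c ∈ zpowers u, c * y = y * c → c = 1) → χ y = μ y := by
  classical
  let N := normalizer (zpowers u : Set G)
  let Q := (zpowers u).subgroupOf N
  have := Fintype.ofFinite Q
  have hQ : Nat.card Q = p := by
    rw [Nat.card_congr (subgroupOfEquivOfLe le_normalizer).toEquiv, Nat.card_zpowers, hu]
  have hp0 : (p : ℂ) ≠ 0 := Nat.cast_ne_zero.2 hp.out.ne_zero
  obtain ⟨μ, hμ⟩ := exists_hom_of_isCharacter_one ((hχ.isCharacter.restrict N).cosetAvg Q) (by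
    rw [sum_eq_single 1, hQ]
    · simp [h1, hp0]
    · intro n _ hn
      have h2 : orderOf ((n : N) : G) = p := by
        have h3 := orderOf_dvd_natCard n
        rw [hQ, Nat.dvd_prime hp.out, orderOf_eq_one_iff] at h3
        rw [Subgroup.orderOf_coe, Subgroup.orderOf_coe, h3.resolve_left hn]
      rw [one_mul]
      exact hχ.eq_zero_of_pow_dvd hp.out h1 (n := 1) hG (by simp) h2.symm.dvd
    · simp)
  refine ⟨μ, fun y hy => ?_⟩
  have h2 : ∀ n : Q, χ ((y * n : N) : G) = χ y := fun n => by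
    let f : Q → Q := fun v => ⟨(y⁻¹ * v * y⁻¹⁻¹) * (v : N)⁻¹,
      mul_mem (Normal.conj_mem inferInstance _ v.2 _) (inv_mem v.2)⟩
    obtain ⟨v, rfl⟩ := Finite.injective_iff_surjective.1 (show Function.Injective f from
      fun v w h => by
        have h3 : ((y⁻¹ * v * y⁻¹⁻¹) * (v : N)⁻¹ : N) = (y⁻¹ * w * y⁻¹⁻¹) * (w : N)⁻¹ :=
          congrArg Subtype.val h
        have h4 : ((w : N)⁻¹ * v) * y = y * ((w : N)⁻¹ * v) := by
          calc _ = (w : N)⁻¹ * y * ((y⁻¹ * v * y⁻¹⁻¹) * (v : N)⁻¹) * v := by group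
            _ = _ := by rw [h3]; group
        have h5 := hy _ (mul_mem (inv_mem w.2) v.2 : (w : N)⁻¹ * v ∈ Q) (congrArg Subtype.val h4)
        exact Subtype.ext (inv_mul_eq_one.1 (Subtype.ext h5)).symm) n
    rw [← hχ.isClassFunction y ((v : N) : G)]
    congr 1
    simp only [f, Subgroup.coe_mul, Subgroup.coe_inv]
    group
  have h3 := congrFun hμ y
  simp only [h2, sum_const, card_univ, ← Nat.card_eq_fintype_card, hQ, nsmul_eq_mul] at h3
  rwa [inv_mul_cancel_left₀ hp0] at h3

theorem main {G Ω : Type*} [Group G] [Finite G] [Fintype Ω] [DecidableEq Ω] [MulAction G Ω]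
    [FaithfulSMul G Ω] [IsPretransitive G Ω] {p : ℕ} [hp : Fact p.Prime] (hΩ : Nat.card Ω = p)
    (huniq : ∃! χ : IrrCharacter G, charDegree (χ : G → ℂ) = p) (P : Sylow p G) (E : Subgroup G)
    (hPE : (P : Subgroup G) ⊔ E = normalizer ((P : Subgroup G) : Set G))
    (hPE' : (P : Subgroup G) ⊓ E = ⊥) (hNE : Nat.card (normalizer (E : Set G)) = 2 * Nat.card E)
    (hTI : ∀ g ∉ normalizer (E : Set G), ∀ y ∈ E, g * y * g⁻¹ ∈ E → y = 1) :
    5 ≤ p ∧ Nonempty (G ≃* PSL(2, ZMod p)) := by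
  classical
  have := Fintype.ofFinite G
  obtain ⟨⟨χ, hχ⟩, hχd, huniq⟩ := huniq
  have hχ1 : χ 1 = p := by rw [← Block.cast_charDegree hχ.isCharacter, hχd]
  have hsq : p ^ 2 ≤ Nat.card G := hχd ▸ Codeg.charDegree_sq_le hχ
  have hG := not_sq_dvd_card_of_prime_degree (G := G) hΩ
  have h5 : 5 ≤ p := by
    have h1 := hsq.trans (Nat.le_of_dvd (Nat.factorial_pos _) (card_dvd_factorial G Ω))
    rw [hΩ] at h1
    by_contra h2
    have h3 := hp.out.two_le
    have h4 : p ≠ 4 := by rintro rfl; exact absurd hp.out (by decide)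
    have : p = 2 ∨ p = 3 := by omega
    rcases this with rfl | rfl <;> exact absurd h1 (by decide)
  have hn : ¬ (P : Subgroup G).Normal := fun h => by
    obtain ⟨d, hd, h1⟩ := card_normalizer_sylow_of_prime_degree hΩ P
    rw [normalizer_eq_top, card_top] at h1
    have := Nat.le_of_dvd (by omega) hd
    have : d < p := by omega
    nlinarith
  have hfr : ∀ (K : Subgroup G) [K.Normal], (P : Subgroup G) ≤ K →
      normalizer ((P : Subgroup G) : Set G) ⊔ K = ⊤ := fun K _ => P.normalizer_sup_eq_top'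
  obtain ⟨u, e, hP, hu, hc⟩ := exists_coord_of_prime_degree hΩ P
  rw [hP] at hPE hPE' hn hfr
  have hEN : E ≤ normalizer (zpowers u : Set G) := hPE ▸ le_sup_right
  have hC := centralizer_eq_of_coord hc
  have hu1 : u ≠ 1 := fun h => hp.out.one_lt.ne' (by rw [← hu, h, orderOf_one])
  have hcu : ∀ y ∈ E, u * y = y * u → y = 1 := fun y hy h => by
    rw [← mem_bot, ← hPE']
    refine ⟨hC ▸ mem_centralizer_iff.2 fun v hv => ?_, hy⟩
    obtain ⟨k, rfl⟩ := mem_zpowers_iff.1 hv
    exact (show Commute u y from h).zpow_left k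
  have hcomm : ∀ y ∈ E, y ≠ 1 → ∀ c ∈ zpowers u, c * y = y * c → c = 1 := fun y hy h1 c hc h => by
    by_contra h2
    obtain ⟨k, hk⟩ := mem_zpowers_iff.1 (TwoTr.mem_zpowers_of_prime hp.out hu hc h2)
    exact h1 (hcu y hy (hk ▸ (show Commute c y from h).zpow_left k))
  have hexp : ∀ g : G, g ∈ normalizer (zpowers u : Set G) → ∃ a : ℕ, g * u * g⁻¹ = u ^ a :=
    fun g hg => by
      obtain ⟨a, ha⟩ := mem_powers_iff_mem_zpowers.2 ((mem_normalizer_iff.1 hg u).1 (mem_zpowers u))
      exact ⟨a, ha.symm⟩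
  have hcyc : IsCyclic E := by
    have : IsCyclic (MulAut (zpowers u)) := by
      have := isCyclic_of_prime_card (α := zpowers u) (p := p) (by rw [Nat.card_zpowers, hu])
      have : Fact (Nat.card (zpowers u)).Prime := by rw [Nat.card_zpowers, hu]; exact hp
      exact isCyclic_of_injective (IsCyclic.mulAutMulEquiv (zpowers u)).toMonoidHom
        (MulEquiv.injective _)
    refine isCyclic_of_injective (((zpowers u).normalizerMonoidHom).comp (inclusion hEN))
      ((injective_iff_map_eq_one _).2 fun y hy => Subtype.ext (hcu y y.2 ?_))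
    exact (mul_inv_eq_iff_eq_mul.1
      (congrArg Subtype.val (DFunLike.congr_fun hy ⟨u, mem_zpowers u⟩))).symm
  obtain ⟨x, hxE⟩ := (isCyclic_iff_exists_zpowers_eq_top (α := E)).1 hcyc
  have hxp : ∀ y ∈ E, ∃ j : ℕ, y = x ^ j := fun y hy => by
    obtain ⟨j, hj⟩ := mem_powers_iff_mem_zpowers.2 (hxE ▸ mem_top (⟨y, hy⟩ : E) : _ ∈ zpowers x)
    exact ⟨j, (congrArg Subtype.val hj).symm⟩
  have hEc : ∀ a ∈ E, ∀ b ∈ E, a * b = b * a := fun a ha b hb => by
    obtain ⟨i, rfl⟩ := hxp a ha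
    obtain ⟨j, rfl⟩ := hxp b hb
    exact pow_mul_comm _ _ _
  have hN : ∀ g ∈ normalizer (zpowers u : Set G), ∃ i j : ℕ, g = u ^ i * x ^ j := fun g hg => by
    obtain ⟨a, ha, b, hb, rfl⟩ := TwoTr.mem_sup_of_conj
      (fun b hb a ha => (mem_normalizer_iff.1 (hEN hb) a).1 ha) (hPE ▸ hg)
    obtain ⟨i, rfl⟩ := mem_powers_iff_mem_zpowers.2 ha
    obtain ⟨j, rfl⟩ := hxp b hb
    exact ⟨i, j, rfl⟩
  obtain ⟨μ, hμ⟩ := exists_mu hu hG hχ hχ1
  have hμ' : ∀ y : E, y ≠ 1 → χ y = μ.comp (inclusion hEN) y := fun y hy =>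
    hμ (inclusion hEN y) (hcomm y y.2 fun h => hy (Subtype.ext h))
  have hsimple : IsSimpleGroup G := by
    have : Nontrivial G := ⟨u, 1, hu1⟩
    refine ⟨fun K hK => or_iff_not_imp_left.2 fun hK0 => ?_⟩
    by_contra hK1
    obtain ⟨y, hy⟩ := exists_prime_orderOf_dvd_card' p
      (prime_dvd_card_normal_of_prime_degree hΩ K hK0)
    obtain ⟨g, hg⟩ := exists_conj_mem_zpowers hu hG ((Subgroup.orderOf_coe y).trans hy)
    have hPK : zpowers u ≤ K := zpowers_le.2 (zpowers_le.2 (hK.conj_mem _ y.2 g)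
      (TwoTr.mem_zpowers_of_prime hp.out hu hg fun h => hp.out.one_lt.ne' (by
        rw [← hy, ← Subgroup.orderOf_coe, conj_eq_one_iff.1 h, orderOf_one])))
    have h1 : ∀ q : G ⧸ K, q ∈ zpowers (x : G ⧸ K) := fun q => by
      obtain ⟨g, rfl⟩ := QuotientGroup.mk_surjective q
      obtain ⟨a, ha, b, hb, rfl⟩ := mem_sup_of_normal_right.1 (hfr K hPK ▸ mem_top g)
      obtain ⟨i, j, rfl⟩ := hN a ha
      rw [QuotientGroup.mk_mul, QuotientGroup.mk_mul, (QuotientGroup.eq_one_iff b).2 hb,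
        (QuotientGroup.eq_one_iff _).2 (pow_mem (hPK (mem_zpowers u)) i), one_mul, mul_one,
        QuotientGroup.mk_pow]
      exact npow_mem_zpowers _ j
    have h2 : (x : G ⧸ K) ≠ 1 := fun h => hK1 (eq_top_iff.2 fun g _ => by
      simpa [h] using h1 g)
    have : IsCyclic (G ⧸ K) := ⟨_, h1⟩
    let _ := IsCyclic.commGroup (α := G ⧸ K)
    obtain ⟨ν, hν⟩ := CommGroup.exists_apply_ne_one_of_hasEnoughRootsOfUnity (G ⧸ K) ℂ h2
    have h3 := congrFun (congrArg Subtype.val ((huniq ⟨_, hχ.mul_linear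
      (ν.comp (QuotientGroup.mk' K))⟩ (charDegree_eq_of_one_eq (by simp [hχ1]))))) x
    have h4 : χ x ≠ 0 := by
      rw [hμ' x fun h => h2 (by simp [h])]
      exact Units.ne_zero _
    exact hν (Units.ext ((mul_eq_left₀ h4).1 h3))
  have hnc : ¬ IsMulCommutative G := fun h => hn inferInstance
  have hzol : ∀ (g : G) (a : ℕ), g * u * g⁻¹ = u ^ a → (a : ZMod p) ^ ((p - 1) / 2) = 1 :=
    fun g a h => by
      obtain ⟨b, hb⟩ := affine_of_conj_eq_pow hc h
      exact zolotarev (by omega) e hb (Small.sign_toPerm_eq_one hnc (toPermHom G Ω) g)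
  have hdet : ∀ ψ : G → ℂ, IsCharacter G ψ → detChar (fun y : E => ψ y) = 1 := fun ψ hψ => by
    rw [detChar_restrict hψ]
    ext y
    rw [← coe_detHom, Small.hom_comm_eq_one hnc]
    rfl
  have : Nonempty Ω := ⟨e 0⟩
  let H := stabilizer G (e 0)
  let π := indFun H fun _ => 1
  have hπ : IsCharacter G π := isCharacter_indFun H isCharacter_one
  have hHi : H.index = p := by rw [index_stabilizer_of_transitive, hΩ]
  have hπ1 : π 1 = p := (indFun_one H _).trans (by rw [hHi, mul_one])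
  have ha1 : ∀ y ∈ E, y ≠ 1 → ∀ a : ℕ, y * u * y⁻¹ = u ^ a → ¬ a ≡ 1 [MOD p] :=
    fun y hy h1 a ha h => h1 (hcu y hy (by
      rw [pow_eq_pow_of_modEq h (hu ▸ pow_orderOf_eq_one u), pow_one] at ha
      exact (mul_inv_eq_iff_eq_mul.1 ha).symm))
  have hπE : ∀ y : E, y ≠ 1 → π y = 1 := fun y hy => by
    obtain ⟨a, ha⟩ := hexp y (hEN y.2)
    obtain ⟨b, hb⟩ := affine_of_conj_eq_pow hc ha
    have h1 : (1 : ZMod p) - a ≠ 0 := fun h => ha1 y y.2 (fun h => hy (Subtype.ext h)) a ha
      ((ZMod.natCast_eq_natCast_iff _ _ _).1 (by rw [Nat.cast_one, sub_eq_zero.1 h]))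
    refine (PermChar.indFun_stabilizer_one_of_pretransitive _ _).trans ?_
    rw [Nat.cast_eq_one, Nat.card_eq_one_iff_exists]
    refine ⟨⟨e (b / (1 - a)), (hb _).trans (congrArg e (by field_simp; ring))⟩, fun ⟨ω, hω⟩ => ?_⟩
    obtain ⟨i, rfl⟩ := e.surjective ω
    have h2 := e.injective ((hb i).symm.trans hω)
    exact Subtype.ext (congrArg e (by field_simp; linear_combination -h2))
  have hχE : ∀ y ∈ E, y ≠ 1 → χ y = 1 := fun y hy h1 => by
    have h2 : (fun y : E => χ y) + (fun _ => 1) =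
        (fun y : E => π y) + fun y => (μ.comp (inclusion hEN) y : ℂ) := by
      ext z
      by_cases hz : z = 1
      · simp [hz, hχ1, hπ1]
      · simp only [Pi.add_apply, hμ' z hz, hπE z hz, add_comm]
    have h3 := congrFun (congrArg detChar h2) ⟨y, hy⟩
    rw [detChar_add (hχ.isCharacter.restrict E) isCharacter_one, detChar_add (hπ.restrict E)
      (isCharacter_hom _), hdet χ hχ.isCharacter, hdet π hπ, detChar_hom,
      detChar_of_one isCharacter_one rfl, one_mul, one_mul] at h3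
    exact (hμ' ⟨y, hy⟩ fun h => h1 (congrArg Subtype.val h)).trans h3.symm
  obtain ⟨s, hs, hsE⟩ : ∃ s ∈ normalizer (E : Set G), s ∉ E := by
    by_contra! h
    have h1 := card_le_of_le (show normalizer (E : Set G) ≤ E from h)
    have := Nat.card_pos (α := E)
    omega
  refine ⟨h5, ?_⟩
  by_cases hsx : cj hs x = x
  · have h1 : ∀ a ∈ normalizer (E : Set G), ∀ b ∈ E, a * b = b * a := fun a ha b hb => by
      by_cases haE : a ∈ E
      · exact hEc a haE b hb
      · have h2 := hEc _ ((ItoTI.mul_mem_iff hNE (inv_mem hs) ha).2 (by simp [haE, hsE])) b hb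
        obtain ⟨j, rfl⟩ := hxp b hb
        have h3 : Commute s x := mul_inv_eq_iff_eq_mul.1 (congrArg Subtype.val hsx)
        rw [← mul_inv_cancel_left s a]
        exact (h3.pow_right j).mul_left h2
    have h2 : ∀ a ∈ normalizer (E : Set G), ∀ b ∈ normalizer (E : Set G), a * b = b * a :=
      fun a ha b hb => by
        by_cases haE : a ∈ E
        · exact (h1 b hb a haE).symm
        by_cases hbE : b ∈ E
        · exact h1 a ha b hbE
        have h3 := h1 a ha _ ((ItoTI.mul_mem_iff hNE (inv_mem ha) hb).2 (by simp [haE, hbE]))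
        rw [← mul_inv_cancel_left a b]
        exact (Commute.refl a).mul_right h3
    have h3 := fun v hv => sq_eq_one hnc h2 hNE hTI (v := v) hv
    have hcE : Nat.card E = orderOf x := by rw [← Nat.card_zpowers, hxE, card_top]
    have h4 : x ≠ 1 := fun h => by
      have h6 : E = ⊥ := eq_bot_of_card_eq _ (by rw [hcE, h, orderOf_one])
      rw [h6, normalizer_eq_top, card_top, card_bot] at hNE
      nlinarith
    have h6 : orderOf x = 2 := orderOf_eq_prime (Subtype.ext (h3 x (le_normalizer x.2))) h4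
    have h7 : centralizer ({(x : G)} : Set G) = normalizer (E : Set G) := by
      refine le_antisymm (fun g hg => ?_) fun g hg => mem_centralizer_singleton_iff.2 (h1 g hg x x.2)
      by_contra h7
      exact h4 (Subtype.ext (hTI g h7 x x.2 (by
        rw [mem_centralizer_singleton_iff.1 hg, mul_inv_cancel_right]; exact x.2)))
    have h8 : IsKleinFour (centralizer ({(x : G)} : Set G)) := by
      have h8 : Nat.card (centralizer ({(x : G)} : Set G)) = 4 := by rw [h7, hNE, hcE, h6]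
      have : Nontrivial (centralizer ({(x : G)} : Set G)) :=
        Finite.one_lt_card_iff_nontrivial.1 (by omega)
      exact ⟨h8, (Monoid.exponent_eq_prime_iff Nat.prime_two).2 fun g hg =>
        orderOf_eq_prime (Subtype.ext (h3 g (h7 ▸ g.2))) hg⟩
    obtain ⟨f⟩ := S3278.result (x : G) ((Subgroup.orderOf_coe x).trans h6) _ le_rfl h8 (by simp)
      (by rw [subgroupOf_self]; infer_instance)
    have h9 : p ∣ 60 := by
      have h9 := orderOf_dvd_natCard u
      rwa [hu, Nat.card_congr f.toEquiv, nat_card_alternatingGroup, Nat.card_fin] at h9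
    have h10 : ∀ q : ℕ, q.Prime → 5 ≤ q → q ∣ 60 → q = 5 := fun q h1 h2 h3 => by
      have := Nat.le_of_dvd (by norm_num) h3
      interval_cases q <;> first | rfl | omega | exact absurd h1 (by decide)
    obtain rfl := h10 p hp.out h5 h9
    obtain ⟨f'⟩ := S0253.result (ZMod.card 5)
    exact ⟨f.trans f'.symm⟩
  let _ := IsCyclic.commGroup (α := E)
  obtain ⟨lam, hlam⟩ := CommGroup.exists_apply_ne_one_of_hasEnoughRootsOfUnity E ℂ
    (mul_inv_eq_one.not.2 hsx)
  have hlam' : lam (cj hs x) ≠ lam x := fun h => hlam (by rw [map_mul, map_inv, h, mul_inv_cancel])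
  obtain ⟨φ, hφ, hφ1, hφE, hφu⟩ := exists_phi hEc hNE hTI hs hsE lam
    (fun h => hlam' (DFunLike.congr_fun h x).symm) hχ hχ1 (by omega) hχE
  have h1 : ∀ y : E, (lam y : ℂ) * lam (cj hs y) = 1 := fun y => by
    have h2 : (fun y : E => φ y) + (fun _ => 1) = (fun y : E => π y) +
        ((fun y => (lam y : ℂ)) + fun y => (lam.comp (cj hs) y : ℂ)) := by
      ext z
      by_cases hz : z = 1
      · simp [hz, hφ1, hπ1, add_assoc]
      · simp only [Pi.add_apply, hφE z hz, hπE z hz, add_comm, MonoidHom.comp_apply]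
    have h3 := congrFun (congrArg detChar h2) y
    rw [detChar_add (hφ.isCharacter.restrict E) isCharacter_one, detChar_add (hπ.restrict E)
      ((isCharacter_hom _).add (isCharacter_hom _)), detChar_add (isCharacter_hom _)
      (isCharacter_hom _), hdet φ hφ.isCharacter, hdet π hπ, detChar_hom, detChar_hom,
      detChar_of_one isCharacter_one rfl, one_mul, one_mul] at h3
    exact h3.symm
  have h2 : ∀ y : E, (lam (cj hs y) : ℂ) = (lam y : ℂ)⁻¹ := fun y => eq_inv_of_mul_eq_one_right (h1 y)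
  have h3 := hφu _ hφ.conj (by simp [hφ1]) fun y => by
    rw [← hφ.isGen.map_inv]
    by_cases hy : y = 1
    · simp [hy]
    · rw [← Subgroup.coe_inv, hφE _ (inv_ne_one.2 hy), hφE _ hy, h2, h2]
      simp [add_comm]
  have hx1 : x ≠ 1 := fun h => hsx (by rw [h, map_one])
  have hx1' : (x : G) ≠ 1 := fun h => hx1 (Subtype.ext h)
  obtain ⟨a, ha⟩ := hexp x (hEN x.2)
  have ha2 : a ^ ((p - 1) / 2) ≡ 1 [MOD p] :=
    (ZMod.natCast_eq_natCast_iff _ _ _).1 (by simpa using hzol x a ha)
  have hx2 : x ^ ((p - 1) / 2) = 1 := by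
    have h4 : ∀ m : ℕ, (x : G) ^ m * u * ((x : G) ^ m)⁻¹ = u ^ a ^ m := fun m => by
      induction m with
      | zero => simp
      | succ m ih =>
        rw [pow_succ a, mul_comm (a ^ m), pow_mul, ← ha, conj_pow, ← ih, pow_succ']
        group
    by_contra h
    exact ha1 _ (pow_mem x.2 _) (fun h' => h (Subtype.ext h')) _ (h4 _) ha2
  refine ModDeg.nonempty_psl hu hG (by omega) hn hN ha (congrArg Subtype.val hx2) ha2
    (ha1 x x.2 hx1' a ha) ?_ hφ.isCharacter (charDegree_eq_of_one_eq hφ1)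
    (fun g => (hφ.isGen.map_inv g).trans (congrFun h3 g).symm) H (fun h => hG ?_) ?_
    (w := lam x) (by rw [← Units.val_pow_eq_pow_val, ← map_pow, hx2, map_one, Units.val_one])
    (fun h => hlam' (Units.ext ?_)) (by rw [hφE x hx1, h2])
  · obtain ⟨b, hb⟩ := FiniteField.exists_nonsquare (F := ZMod p) (by
      rw [ZMod.ringChar_zmod_n]; omega)
    have hb0 : b ≠ 0 := by rintro rfl; exact hb ⟨0, by simp⟩
    have h4 : fus p u ⊆ ((range p).erase 0).erase b.val := fun c hc => by
      obtain ⟨h4, g, hg⟩ := mem_fus.1 hc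
      have h6 := hzol g c (mul_inv_eq_iff_eq_mul.2 hg)
      refine mem_erase.2 ⟨?_, mem_erase.2 ⟨?_, mem_range.2 h4⟩⟩
      · rintro rfl
        rw [ZMod.natCast_zmod_val, show (p - 1) / 2 = p / 2 by
          have := hp.out.eq_two_or_odd; omega] at h6
        exact hb ((ZMod.euler_criterion p hb0).2 h6)
      · rintro rfl
        rw [Nat.cast_zero, zero_pow (by omega)] at h6
        exact zero_ne_one h6
    have h6 := card_le_card h4
    rw [card_erase_of_mem (mem_erase.2 ⟨(ZMod.val_ne_zero b).2 hb0, mem_range.2 b.val_lt⟩),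
      card_erase_of_mem (mem_range.2 hp.out.pos), card_range] at h6
    omega
  · rw [← H.index_mul_card, hHi, pow_two]
    exact Nat.mul_dvd_mul_left p h
  · rw [← classInner_indFun_right H _ hφ.isClassFunction, hφ.isCharacter.inner_symm hπ]
    by_contra h
    have h4 := hπ.one_le_of_inner_ne_zero hφ h
    rw [hπ1, hφ1, Complex.natCast_re, Complex.natCast_re, Nat.cast_le] at h4
    omega
  · rw [h2]
    exact inv_eq_of_mul_eq_one_left (by rw [← pow_two, h])

/-- Let G be a transitive permutation group of prime degree p having exactly one irreducible character of degree p. Let P be a Sylow p-subgroup and suppose N_G(P) = P·E for a subgroup E with P ∩ E = 1, such that the normalizer of E has order 2·#E and E meets each of its conjugates by elements outside its normalizer trivially. Then p is 5, 7 or 11 and G is isomorphic to PSL(2, p). -/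
theorem result {α : Type*} [Fintype α] [DecidableEq α] {p : ℕ} [Fact p.Prime] (hα : Fintype.card α = p) (G : Subgroup (Equiv.Perm α)) [MulAction.IsPretransitive G α] (huniq : ∃! χ : Cfsg.IrrCharacter G, Cfsg.charDegree (χ : G → ℂ) = p) (P : Sylow p G) (E : Subgroup G) (hPE : (P : Subgroup G) ⊔ E = Subgroup.normalizer ((P : Subgroup G) : Set G)) (hPE' : (P : Subgroup G) ⊓ E = ⊥) (hNE : Nat.card (Subgroup.normalizer (E : Set G)) = 2 * Nat.card E) (hTI : ∀ g : G, g ∉ Subgroup.normalizer (E : Set G) → E ⊓ E.map (MulAut.conj g).toMonoidHom = ⊥) : (p = 5 ∨ p = 7 ∨ p = 11) ∧ ∃ (F : Type) (_ : Field F) (_ : Fintype F), Fintype.card F = p ∧ Nonempty (G ≃* Matrix.ProjectiveSpecialLinearGroup (Fin 2) F) := by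
  have hΩ : Nat.card α = p := by rw [Nat.card_eq_fintype_card, hα]
  obtain ⟨h5, ⟨f⟩⟩ := main hΩ huniq P E hPE hPE' hNE fun g hg y hy h => by
    have h1 : g * y * g⁻¹ ∈ (⊥ : Subgroup G) := hTI g hg ▸ ⟨h, y, hy, rfl⟩
    exact conj_eq_one_iff.1 h1
  refine ⟨?_, ZMod p, inferInstance, inferInstance, ZMod.card p, ⟨f⟩⟩
  let _ := MulAction.compHom α f.symm.toMonoidHom
  have : FaithfulSMul PSL(2, ZMod p) α :=
    ⟨fun h => f.symm.injective (FaithfulSMul.eq_of_smul_eq_smul (α := α) h)⟩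
  have : IsPretransitive PSL(2, ZMod p) α := ⟨fun a b => by
    obtain ⟨g, hg⟩ := exists_smul_eq G a b
    exact ⟨f g, by rw [← hg]; exact congrArg (· • a) (f.symm_apply_apply g)⟩⟩
  exact galois h5 hΩ

end Cfsg.Agent.S4724
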