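import Mathlib
import Cfsg.Statements.S4736
import Cfsg.Agent.S4439
import Cfsg.Agent.S4713
import Cfsg.Agent.S0915
import Cfsg.Agent.Block.Principal
import Cfsg.Agent.Block.Count
import Cfsg.Agent.Block.Dominate

set_option autoImplicit false
open Cfsg

namespace Cfsg.Agent.S4736
open Cfsg.Agent.Char
open Cfsg.Agent.Block

/-- Let p be a prime, M a maximal ideal of the algebraic integers containing p, and G a finite p-solvable group with Sylow p-subgroup P. Then P is abelian if and only if every irreducible character in the principal p-block of G has height zero. -/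
theorem result {G : Type*} [Group G] [Finite G] (p : ℕ) [Fact p.Prime] (M : Ideal Cfsg.AlgInt) (hM : Cfsg.IsPModular p M) (hsolv : Cfsg.IsPSolvable p G) (P : Sylow p G) : IsMulCommutative P ↔ ∀ χ ∈ Cfsg.principalBlock M G, Cfsg.blockHeight p (Cfsg.principalBlock M G) (χ : G → ℂ) = 0 := by
  have hB : IsPBlock M (principalBlock M G) := isPBlock_principal
  have h1 := irrOne_mem_principal (G := G) hM
  constructor
  · intro hc χ hχ
    have hP : IsDefectGroup p M (principalBlock M G) (P : Subgroup G) := by
      rw [isDefectGroup_sylow_iff hM hB, blockDefect_eq_of_height_zero h1 (blockHeight_one _),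
        charDegree_irrOne]
      simp
    have h := S4439.result p M hM hsolv _ hB _ hP χ hχ
    have e : Subgroup.center (P : Subgroup G) = ⊤ :=
      eq_top_iff.2 fun a _ => Subgroup.mem_center_iff.2 fun b => hc.1.1 b a
    simpa [e] using h
  · intro h
    set N := pPrimeCore p G
    have hs := QuotientGroup.mk'_surjective N
    have hq := PLocal.IsPSolvable.quotient hsolv N
    have h2 := ((S4713.result p hq (P.mapSurjective hs)).2 fun ψ hd => ?_).2
    · refine ⟨⟨fun a b => ?_⟩⟩
      have h3 := congrArg Subtype.val (h2.1.1 ⟨_, a, a.2, rfl⟩ ⟨_, b, b.2, rfl⟩)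
      have h4 : ((a * b * (b * a)⁻¹ : (P : Subgroup G)) : G) ∈ (P : Subgroup G) ⊓ N := by
        refine Subgroup.mem_inf.2 ⟨Subtype.property _, ?_⟩
        rw [← QuotientGroup.eq_one_iff, ← QuotientGroup.mk'_apply]
        simp only [Subgroup.coe_mul, Subgroup.coe_inv, map_mul, map_inv] at h3 ⊢
        rw [h3, mul_inv_cancel]
      rw [Grp.inf_eq_bot_of_isPGroup_of_coprime P.isPGroup' (Grp.pPrimeCore_coprime p G),
        Subgroup.mem_bot] at h4
      exact mul_inv_eq_one.1 (Subtype.ext h4)
    · have hψ : ψ ∈ principalBlock M (G ⧸ N) :=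
        S0915.result p M hM hq (Grp.pPrimeCore_quotient_pPrimeCore p G) (irrOne _) ψ
      have h3 := (blockHeight_eq_zero_iff ⟨_, h1⟩ _).1
        (h _ (inflateIrr_mem_principalBlock hM _ hs hψ)) _ h1
      rw [charDegree_inflateIrr, charDegree_irrOne, Nat.factorization_one, Finsupp.zero_apply,
        Nat.le_zero, Nat.factorization_eq_zero_iff] at h3
      rcases h3 with h3 | h3 | h3
      · exact h3 Fact.out
      · exact h3 hd
      · exact charDegree_irr_ne_zero ψ h3

end Cfsg.Agent.S4736
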