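import Cfsg.Statements.S4802
import Mathlib
import Cfsg.Agent.Char.Quot
import Cfsg.Agent.Char.Irr

set_option autoImplicit false
open Cfsg

set_option linter.style.haveILetI false
set_option linter.unusedVariables false

namespace Cfsg.Agent.S4802

open Cfsg.Agent.Char Subgroup

theorem isConj_of_irr {G : Type*} [Group G] [Finite G] {g h : G}
    (H : ∀ χ : IrrCharacter G, (χ : G → ℂ) g = 0 ∨ (χ : G → ℂ) h = (χ : G → ℂ) g) : IsConj g h := by
  by_contra hc
  have h1 := sum_irr_mul_conj_of_not_isConj hc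
  have h2 := sum_irr_mul_conj_of_isConj (IsConj.refl g)
  rw [Finset.sum_congr rfl fun (χ : IrrCharacter G) _ => (by rcases H χ with h | h <;> simp [h] :
    (χ : G → ℂ) g * (starRingEnd ℂ) ((χ : G → ℂ) g) =
      (χ : G → ℂ) g * (starRingEnd ℂ) ((χ : G → ℂ) h)), h1] at h2
  exact (Nat.cast_ne_zero.2 Nat.card_pos.ne') h2.symm

/-- Let N < M be normal subgroups of the finite group G and g ∈ M ∖ N. Then the conjugacy class of g is exactly M ∖ N if and only if every irreducible complex character of G whose kernel contains N takes the same value at all elements of M ∖ N, and every irreducible complex character of G whose kernel does not contain N vanishes at g. -/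
theorem result {G : Type*} [Group G] [Finite G] (N M : Subgroup G) [N.Normal] [M.Normal] (hNM : N < M) (g : G) (hgM : g ∈ M) (hgN : g ∉ N) : {h : G | IsConj g h} = (M : Set G) \ (N : Set G) ↔ ((∀ χ : Cfsg.IrrCharacter G, (∀ x ∈ N, (χ : G → ℂ) x = (χ : G → ℂ) 1) → ∀ x ∈ M, x ∉ N → ∀ y ∈ M, y ∉ N → (χ : G → ℂ) x = (χ : G → ℂ) y) ∧ (∀ χ : Cfsg.IrrCharacter G, (∃ x ∈ N, (χ : G → ℂ) x ≠ (χ : G → ℂ) 1) → (χ : G → ℂ) g = 0)) := by
  have := Fintype.ofFinite N
  constructor
  · intro h
    have h1 : ∀ x ∈ M, x ∉ N → IsConj g x := fun x hx hx' => (Set.ext_iff.1 h x).2 ⟨hx, hx'⟩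
    refine ⟨fun χ _ x hx hx' y hy hy' => ?_, fun χ hχ => ?_⟩
    · rw [← χ.2.isClassFunction.eq_of_isConj (h1 x hx hx'),
        χ.2.isClassFunction.eq_of_isConj (h1 y hy hy')]
    · have h2 := sum_coset_eq_zero χ.2 N hχ g
      rw [Finset.sum_congr rfl fun (n : N) _ => (χ.2.isClassFunction.eq_of_isConj
        (h1 (g * n) (mul_mem hgM (hNM.le n.2)) fun hn => hgN
          ((mul_mem_cancel_right n.2).1 hn))).symm, Finset.sum_const, nsmul_eq_mul] at h2
      exact (mul_eq_zero.1 h2).resolve_left (Nat.cast_ne_zero.2 Finset.univ_nonempty.card_pos.ne')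
  · rintro ⟨h1, h2⟩
    ext x
    refine ⟨fun hx => ?_, fun hx => isConj_of_irr fun χ => ?_⟩
    · obtain ⟨c, rfl⟩ := isConj_iff.1 hx
      exact ⟨Normal.conj_mem ‹_› g hgM c, fun hn => hgN (by
        simpa [mul_assoc] using Normal.conj_mem ‹N.Normal› _ hn c⁻¹)⟩
    · by_cases hk : ∀ x ∈ N, (χ : G → ℂ) x = (χ : G → ℂ) 1
      · exact Or.inr (h1 χ hk x hx.1 hx.2 g hgM hgN)
      · push Not at hk
        exact Or.inl (h2 χ hk)

end Cfsg.Agent.S4802
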