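import Cfsg.Statements.S4755
import Mathlib
import Cfsg.Agent.S4802
import Cfsg.Agent.S0943

set_option autoImplicit false
open Cfsg

set_option linter.style.haveILetI false
set_option linter.unusedVariables false

namespace Cfsg.Agent.S4755

open Cfsg.Agent.Char Subgroup

/-- Let x, y be non-identity elements of the finite group G such that χ(x' y') = χ(x') χ(y') for all conjugates x' of x, y' of y and every irreducible character χ. Then the conjugacy class of x y is the set of all products of a conjugate of x with a conjugate of y; every irreducible character of degree greater than 1 vanishes at x y; and the conjugacy class of x y is the coset of the commutator subgroup containing x y. -/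
theorem result {G : Type*} [Group G] [Finite G] (x y : G) (hx : x ≠ 1) (hy : y ≠ 1) (h : ∀ (a b : G) (χ : Cfsg.IrrCharacter G), (χ : G → ℂ) (a * x * a⁻¹ * (b * y * b⁻¹)) = (χ : G → ℂ) (a * x * a⁻¹) * (χ : G → ℂ) (b * y * b⁻¹)) : (∀ z : G, IsConj (x * y) z ↔ ∃ a b : G, z = a * x * a⁻¹ * (b * y * b⁻¹)) ∧ (∀ χ : Cfsg.IrrCharacter G, (χ : G → ℂ) 1 ≠ 1 → (χ : G → ℂ) (x * y) = 0) ∧ (∀ z : G, IsConj (x * y) z ↔ (x * y)⁻¹ * z ∈ commutator G) := by
  have h0 : ∀ (a b : G) (χ : IrrCharacter G),
      (χ : G → ℂ) (a * x * a⁻¹ * (b * y * b⁻¹)) = (χ : G → ℂ) (x * y) := fun a b χ => by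
    have h1 := h 1 1 χ
    simp only [one_mul, inv_one, mul_one] at h1
    rw [h, h1, χ.2.isClassFunction x a, χ.2.isClassFunction y b]
  have h2 : ∀ χ : IrrCharacter G, (χ : G → ℂ) 1 ≠ 1 → (χ : G → ℂ) (x * y) = 0 := fun χ hχ => by
    have h1 := h 1 1 χ
    simp only [one_mul, inv_one, mul_one] at h1
    have h3 := S0943.result χ x y fun u v hu hv => by
      obtain ⟨a, rfl⟩ := isConj_iff.1 hu
      obtain ⟨b, rfl⟩ := isConj_iff.1 hv
      exact h0 a b χ
    rw [← h1] at h3
    by_contra h4
    exact hχ (mul_right_cancel₀ h4 (by rw [← h3, one_mul]))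
  refine ⟨fun z => ⟨fun hz => ?_, ?_⟩, h2, fun z => ⟨fun hz => ?_, fun hz => ?_⟩⟩
  · obtain ⟨c, rfl⟩ := isConj_iff.1 hz
    exact ⟨c, c, by group⟩
  · rintro ⟨a, b, rfl⟩
    exact (isConj_iff_irr _ _).2 fun χ => (h0 a b χ).symm
  · obtain ⟨c, rfl⟩ := isConj_iff.1 hz
    have := commutator_mem_commutator (mem_top (x * y)⁻¹) (mem_top c)
    rw [commutatorElement_def] at this
    simpa [mul_assoc, _root_.commutator] using this
  · refine S4802.isConj_of_irr fun χ => ?_
    by_cases h1 : (χ : G → ℂ) 1 = 1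
    · right
      have := apply_mul_of_mem_charKer χ.2.isClassFunction
        (commutator_le_charKer_of_one χ.2.isCharacter h1 hz) (x * y)
      rwa [mul_inv_cancel_left] at this
    · exact Or.inl (h2 χ h1)

end Cfsg.Agent.S4755
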