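import Cfsg.Statements.S4756
import Cfsg.Agent.Char.SolvDeg
import Cfsg.Agent.S4755

set_option autoImplicit false
open Cfsg

namespace Cfsg.Agent.S4756

open Cfsg.Agent.Char Cfsg.Agent.Char.SolvDeg Subgroup
open scoped commutatorElement

variable {G : Type*} [Group G] [Finite G]

theorem exists_eq_comm {D : Subgroup G} [hD : D.Normal] {w : G}
    (h : ∀ d ∈ D, w * d = d * w → d = 1) {d : G} (hd : d ∈ D) :
    ∃ e ∈ D, d = w⁻¹ * e⁻¹ * w * e := by
  let f : D → D := fun e => ⟨w⁻¹ * (e : G)⁻¹ * w * e, mul_mem (hD.conj_mem' _ (inv_mem e.2) w) e.2⟩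
  have hf : Function.Injective f := fun e e' he => by
    have h1 : w⁻¹ * (e : G)⁻¹ * w * e = w⁻¹ * (e' : G)⁻¹ * w * e' := congrArg Subtype.val he
    refine Subtype.ext (mul_inv_eq_one.1 (h _ (mul_mem e.2 (inv_mem e'.2)) ?_))
    calc w * (e * (e' : G)⁻¹) = e * w * (w⁻¹ * (e : G)⁻¹ * w * e) * (e' : G)⁻¹ := by group
      _ = e * (e' : G)⁻¹ * w := by rw [h1]; group
  obtain ⟨e, he⟩ := Finite.surjective_of_injective hf ⟨d, hd⟩
  exact ⟨e, e.2, (congrArg Subtype.val he).symm⟩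

omit [Finite G] in
theorem eq_of_pe {p q a : ℕ} [hp : Fact p.Prime] (hq : q.Prime) {x : G} (hx : x ≠ 1) (h : PE p x)
    (ho : orderOf x = q ^ a) : q = p := by
  by_contra hc
  refine hx (mem_bot.1 (h.mem_of_pow_mem (s := q ^ a) (fun hd => hc ((Nat.prime_dvd_prime_iff_eq
    hp.out hq).1 (hp.out.dvd_of_dvd_pow hd)).symm) (mem_bot.2 (ho ▸ pow_orderOf_eq_one x))))

theorem backward {p : ℕ} [hp : Fact p.Prime] (P : Sylow p G) (A C D : Subgroup G)
    [hPn : (P : Subgroup G).Normal] (hA : IsCyclic A) (hAp : (Nat.card A).Coprime p)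
    (hAP : A ⊔ P = ⊤) (hC : IsMulCommutative C) (hCA : C ≤ centralizer (A : Set G))
    [hD : D.Normal] (hCD : C ⊔ D = P) (hf : ∀ a ∈ A, a ≠ 1 → ∀ d ∈ D, a * d = d * a → d = 1)
    (x y : G) (χ : IrrCharacter G) (hx : x ≠ 1) (hy : y ≠ 1) {r s a b : ℕ} (hr : r.Prime)
    (hs : s.Prime) (hrs : r ≠ s) (ha : orderOf x = r ^ a) (hb : orderOf y = s ^ b) :
    χ.1 (x * y) = χ.1 x * χ.1 y := by
  classical
  let _ : Fintype D := Fintype.ofFinite _
  have hdec : ∀ z : G, ∃ a ∈ A, ∃ c ∈ C, ∃ d ∈ D, z = a * c * d := fun z => by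
    obtain ⟨a, ha, u, hu, rfl⟩ := mem_sup_of_normal_right.1 (hAP.ge (mem_top z))
    obtain ⟨c, hc, d, hd, rfl⟩ := mem_sup_of_normal_right.1 (hCD.ge hu)
    exact ⟨a, ha, c, hc, d, hd, (mul_assoc _ _ _).symm⟩
  by_cases hk : ∃ n ∈ D, χ.1 n ≠ χ.1 1
  · have h0 : ∀ z, z ∉ (P : Subgroup G) → χ.1 z = 0 := fun z hz => by
      obtain ⟨a, ha, c, hc, d, hd, rfl⟩ := hdec z
      have hcP : c ∈ (P : Subgroup G) := hCD.le (mem_sup_left hc)
      have ha1 : a ≠ 1 := fun e => hz (by
        rw [e, one_mul]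
        exact mul_mem hcP (hCD.le (mem_sup_right hd)))
      have h1 : ∀ d ∈ D, a * c * d = d * (a * c) → d = 1 := fun d hd e => by
        obtain ⟨k, hk⟩ := P.isPGroup' ⟨c, hcP⟩
        have h2 : (a * c) ^ p ^ k = a ^ p ^ k := by
          rw [Commute.mul_pow (hCA hc a ha), show c ^ p ^ k = 1 from congrArg Subtype.val hk,
            mul_one]
        refine hf _ (pow_mem ha (p ^ k)) (fun e' => ha1 (mem_bot.1 (PE.mem_of_pow_mem ⟨k, e'⟩
          ((Nat.Prime.coprime_iff_not_dvd hp.out).1 hAp.symm)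
          (mem_bot.2 (congrArg Subtype.val (pow_card_eq_one' (x := (⟨a, ha⟩ : A)))))))) d hd ?_
        rw [← h2]
        exact (Commute.pow_left e _)
      have h2 : ∀ d ∈ D, χ.1 (a * c * d) = χ.1 (a * c) := fun d hd => by
        obtain ⟨e, -, rfl⟩ := exists_eq_comm h1 hd
        rw [← χ.2.isClassFunction (a * c) e⁻¹]
        group
      have h3 := sum_coset_eq_zero χ.2 D hk (a * c)
      rw [Finset.sum_congr rfl fun (n : D) _ => h2 n n.2, Finset.sum_const, nsmul_eq_mul,
        mul_eq_zero] at h3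
      rw [h2 d hd]
      exact h3.resolve_left (Nat.cast_ne_zero.2 Finset.univ_nonempty.card_pos.ne')
    have h1 : ¬ (x ∈ (P : Subgroup G) ∧ y ∈ (P : Subgroup G)) := fun h => hrs
      ((eq_of_pe hr hx (pe_coe.2 (P.isPGroup' ⟨x, h.1⟩)) ha).trans
        (eq_of_pe hs hy (pe_coe.2 (P.isPGroup' ⟨y, h.2⟩)) hb).symm)
    have h2 : x * y ∉ (P : Subgroup G) := fun h => by
      have h3 : x ∈ (P : Subgroup G) := by
        refine mem_of_coprime_pow (((Nat.coprime_primes hr hs).2 hrs).pow a b)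
          (by rw [← ha, pow_orderOf_eq_one]; exact one_mem _) ?_
        rw [← QuotientGroup.eq_one_iff, QuotientGroup.mk_mul, mul_eq_one_iff_eq_inv] at h
        rw [← QuotientGroup.eq_one_iff, QuotientGroup.mk_pow, h, inv_pow, ← QuotientGroup.mk_pow,
          ← hb, pow_orderOf_eq_one, QuotientGroup.mk_one, inv_one]
      exact h1 ⟨h3, (mul_mem_cancel_left h3).1 h⟩
    rw [h0 _ h2]
    rcases not_and_or.1 h1 with h | h
    · rw [h0 _ h, zero_mul]
    · rw [h0 _ h, mul_zero]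
  · push Not at hk
    have h1 : commutator G ≤ charKer χ.1 := by
      refine le_trans ?_ fun n hn => (mem_charKer_irr χ).2 (hk n hn)
      rw [_root_.commutator_def, commutator_le]
      intro u _ v _
      obtain ⟨a, ha, c, hc, d, hd, rfl⟩ := hdec u
      obtain ⟨a', ha', c', hc', d', hd', rfl⟩ := hdec v
      rw [← QuotientGroup.eq_one_iff, ← QuotientGroup.mk'_apply, map_commutatorElement,
        commutatorElement_eq_one_iff_commute, map_mul _ _ d, map_mul _ _ d',
        QuotientGroup.mk'_apply D d, QuotientGroup.mk'_apply D d',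
        (QuotientGroup.eq_one_iff d).2 hd, (QuotientGroup.eq_one_iff d').2 hd', mul_one, mul_one]
      refine Commute.map ?_ _
      have h1 : Commute a a' := congrArg Subtype.val (mul_comm' (⟨a, ha⟩ : A) ⟨a', ha'⟩)
      have h2 : Commute c c' := congrArg Subtype.val (mul_comm' (⟨c, hc⟩ : C) ⟨c', hc'⟩)
      have h3 : Commute a c' := hCA hc' a ha
      have h4 : Commute a' c := hCA hc a' ha'
      exact (h1.mul_right h3).mul_left (h4.symm.mul_right h2)
    obtain ⟨μ, hμ⟩ := χ.2.isCharacter.exists_linear (one_eq_one_of_commutator_le χ.2 h1)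
    simp [hμ]

theorem forward (h : ∀ (x y : G) (χ : IrrCharacter G), x ≠ 1 → y ≠ 1 →
    (∃ p q a b : ℕ, p.Prime ∧ q.Prime ∧ p ≠ q ∧ orderOf x = p ^ a ∧ orderOf y = q ^ b) →
      χ.1 (x * y) = χ.1 x * χ.1 y) {x y : G} {p q : ℕ} (hp : p.Prime) (hq : q.Prime) (hpq : p ≠ q)
    (hx : orderOf x = p) (hy : orderOf y = q) (z : G) :
    IsConj (x * y) z ↔ (x * y)⁻¹ * z ∈ commutator G := by
  have h1 : x ≠ 1 := fun e => hp.one_lt.ne (by rw [← hx, e, orderOf_one])
  have h2 : y ≠ 1 := fun e => hq.one_lt.ne (by rw [← hy, e, orderOf_one])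
  refine (S4755.result x y h1 h2 fun a b χ => h _ _ χ (by simpa using h1) (by simpa using h2)
    ⟨p, q, 1, 1, hp, hq, hpq, ?_, ?_⟩).2.2 z
  · rw [pow_one, ← hx]
    exact (MulAut.conj a).orderOf_eq x
  · rw [pow_one, ← hy]
    exact (MulAut.conj b).orderOf_eq y


/-- For a finite group G the following are equivalent. (1) χ(x y) = χ(x) χ(y) for every irreducible character χ and all non-identity elements x, y of prime power orders for two different primes. (2) G is a p-group for some prime p, or G is abelian, or for some prime p: G = A P with P a normal Sylow p-subgroup and A a nontrivial cyclic subgroup of order prime to p such that, with C = C_P(A) and D = [A, P], one has P = C D, C abelian, D normal in G, C ∩ D = 1, and A acts fixed-point-freely on D (no non-identity element of A centralizes a non-identity element of D). -/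
theorem result {G : Type*} [Group G] [Finite G] : (∀ (x y : G) (χ : Cfsg.IrrCharacter G), x ≠ 1 → y ≠ 1 → (∃ p q a b : ℕ, p.Prime ∧ q.Prime ∧ p ≠ q ∧ orderOf x = p ^ a ∧ orderOf y = q ^ b) → (χ : G → ℂ) (x * y) = (χ : G → ℂ) x * (χ : G → ℂ) y) ↔ ((∃ p : ℕ, p.Prime ∧ IsPGroup p G) ∨ IsMulCommutative G ∨ ∃ (p : ℕ) (_ : Fact p.Prime) (P : Sylow p G) (A : Subgroup G), (P : Subgroup G).Normal ∧ IsCyclic ↥A ∧ A ≠ ⊥ ∧ (Nat.card ↥A).Coprime p ∧ A ⊔ (P : Subgroup G) = ⊤ ∧ IsMulCommutative ↥((P : Subgroup G) ⊓ Subgroup.centralizer (A : Set G)) ∧ (⁅A, (P : Subgroup G)⁆).Normal ∧ ((P : Subgroup G) ⊓ Subgroup.centralizer (A : Set G)) ⊔ ⁅A, (P : Subgroup G)⁆ = (P : Subgroup G) ∧ ((P : Subgroup G) ⊓ Subgroup.centralizer (A : Set G)) ⊓ ⁅A, (P : Subgroup G)⁆ = ⊥ ∧ ∀ a ∈ A, a ≠ 1 → ∀ d ∈ ⁅A, (P : Subgroup G)⁆, a * d = d * a → d = 1) := by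
  constructor
  · intro h
    by_cases h1 : ∃ p : ℕ, p.Prime ∧ IsPGroup p G
    · exact Or.inl h1
    by_cases h2 : IsMulCommutative G
    · exact Or.inr (Or.inl h2)
    refine Or.inr (Or.inr ?_)
    have h3 : commutator G ≠ ⊥ := fun e => h2 ⟨⟨fun a b => commutatorElement_eq_one_iff_mul_comm.1
      (mem_bot.1 (e ▸ commutator_mem_commutator (mem_top a) (mem_top b)))⟩⟩
    obtain ⟨p, hp, hd⟩ := Nat.exists_prime_and_dvd (fun e => h3 (card_eq_one.1 e))
    have := Fact.mk hp
    obtain ⟨x, hx⟩ := exists_prime_orderOf_dvd_card' p hd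
    rw [← Subgroup.orderOf_coe] at hx
    have h4 : IsPGroup p (commutator G) := by
      rw [IsPGroup.iff_card]
      refine ⟨_, Nat.eq_prime_pow_of_unique_prime_dvd Nat.card_pos.ne' fun {q} hq hqd => ?_⟩
      by_contra hne
      have := Fact.mk hq
      obtain ⟨y, hy⟩ := exists_prime_orderOf_dvd_card' q hqd
      rw [← Subgroup.orderOf_coe] at hy
      have h5 := (forward h hp hq (Ne.symm hne) hx hy 1).2
        (by rw [mul_one]; exact inv_mem (mul_mem x.2 y.2))
      rw [isConj_one_left, mul_eq_one_iff_eq_inv] at h5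
      rw [h5, orderOf_inv, hy] at hx
      exact hne hx
    obtain ⟨P, hP⟩ := h4.exists_le_sylow
    have hPn : (P : Subgroup G).Normal := Normal.of_commutator_le G hP
    obtain ⟨A, hA⟩ := exists_right_complement'_of_coprime (N := (P : Subgroup G))
      P.card_coprime_index
    have hAp : (Nat.card A).Coprime p := by
      rw [← hA.symm.index_eq_card]
      exact ((Nat.Prime.coprime_iff_not_dvd hp).2 P.not_dvd_index).symm
    have hA1 : A ≠ ⊥ := fun e => h1 ⟨p, hp, by
      have := hA.sup_eq_top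
      rw [e, sup_bot_eq] at this
      exact fun g => pe_coe.2 (P.isPGroup' ⟨g, this.ge (mem_top g)⟩)⟩
    have hf : ∀ a ∈ A, a ≠ 1 → ∀ d ∈ commutator G, a * d = d * a → d = 1 := fun a ha ha1 d hd e => by
      obtain ⟨q, hq, hqd⟩ := Nat.exists_prime_and_dvd (fun e => ha1 (orderOf_eq_one_iff.1 e))
      have hpq : p ≠ q := fun e => (Nat.Prime.coprime_iff_not_dvd hp).1 hAp.symm
        (e ▸ hqd.trans (A.orderOf_dvd_natCard ha))
      have hy := orderOf_pow_orderOf_div (orderOf_pos a).ne' hqd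
      set y := a ^ (orderOf a / q)
      have hyd : Commute y d := Commute.pow_left e _
      have hxy : ((x : G) * y)⁻¹ * y ∈ commutator G := by
        simpa [mul_assoc] using (inferInstance : (commutator G).Normal).conj_mem' _ (inv_mem x.2) y
      have h5 := ((forward h hp hq hpq hx hy y).2 hxy).symm.trans
        ((forward h hp hq hpq hx hy (y * d)).2 (by rw [← mul_assoc]; exact mul_mem hxy hd))
      have h6 := h5.pow q
      rw [← hy, pow_orderOf_eq_one, isConj_one_right, hyd.mul_pow, pow_orderOf_eq_one, one_mul,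
        hy] at h6
      exact mem_bot.1 ((pe_coe.2 (h4 ⟨d, hd⟩)).mem_of_pow_mem
        (fun e => hpq ((Nat.prime_dvd_prime_iff_eq hp hq).1 e)) (mem_bot.2 h6))
    obtain ⟨a₀, ha₀, ha₀1⟩ := (bot_or_exists_ne_one A).resolve_left hA1
    have hD : ⁅A, (P : Subgroup G)⁆ = commutator G := by
      refine le_antisymm (commutator_mono le_top le_top) fun d hd => ?_
      obtain ⟨e, he, rfl⟩ := exists_eq_comm (hf a₀ ha₀ ha₀1) hd
      simpa [commutatorElement_def] using commutator_mem_commutator (inv_mem ha₀) (inv_mem (hP he))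
    have hAc : IsMulCommutative A := ⟨⟨fun a b => Subtype.ext
      (commutatorElement_eq_one_iff_mul_comm.1 (mem_bot.1 (hA.disjoint.le_bot
        ⟨hP (commutator_mem_commutator (mem_top _) (mem_top _)),
          (⁅a, b⁆ : A).2⟩)))⟩⟩
    have hcyc : IsCyclic A := by
      by_contra hc
      obtain ⟨k, hk⟩ := h4.exists_card_eq
      exact h3 (le_bot_iff.1 (Solv.le_of_centralizers_le_of_solvable A (commutator G) hc
        le_normalizer_of_normal (hk ▸ hAp.pow_right k) (isSolvable_of_isPGroup h4) ⊥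
        fun a ha ha1 d hd => hf a ha ha1 d hd.1 (mem_centralizer_singleton_iff.1 hd.2).symm))
    have hCD : ((P : Subgroup G) ⊓ centralizer (A : Set G)) ⊓ commutator G = ⊥ :=
      eq_bot_iff.2 fun d hd => hf a₀ ha₀ ha₀1 d hd.2 (hd.1.2 a₀ ha₀)
    refine ⟨p, this, P, A, hPn, hcyc, hA1, hAp, by rw [sup_comm, hA.sup_eq_top], ⟨⟨fun a b =>
      Subtype.ext (commutatorElement_eq_one_iff_mul_comm.1 (mem_bot.1 (hCD.le
        ⟨(⁅a, b⁆ : ↥((P : Subgroup G) ⊓ centralizer (A : Set G))).2,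
          commutator_mem_commutator (mem_top _) (mem_top _)⟩)))⟩⟩, hD ▸ inferInstance, ?_,
      hD ▸ hCD, hD ▸ hf⟩
    rw [hD]
    refine le_antisymm (sup_le inf_le_left hP) fun u hu => ?_
    obtain ⟨a, ha⟩ := (Subgroup.isCyclic_iff_exists_zpowers_eq_top A).1 hcyc
    obtain ⟨e, he, h5⟩ := exists_eq_comm (hf a (ha ▸ mem_zpowers a) fun e => hA1 (by
      rw [← ha, e, zpowers_one_eq_bot])) (d := a⁻¹ * u⁻¹ * a * u) (by
        simpa [commutatorElement_def, _root_.commutator_def] using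
          commutator_mem_commutator (mem_top a⁻¹) (mem_top u⁻¹))
    rw [← inv_mul_cancel_right u e]
    refine mul_mem (mem_sup_left (mem_inf.2 ⟨mul_mem hu (inv_mem (hP he)), ?_⟩)) (mem_sup_right he)
    have h6 : Commute a (u * e⁻¹) := by
      change _ = _
      calc a * (u * e⁻¹) = u * a * (a⁻¹ * u⁻¹ * a * u) * e⁻¹ := by group
        _ = u * e⁻¹ * a := by rw [h5]; group
    rw [← ha]
    rintro _ ⟨i, rfl⟩
    exact h6.zpow_left i
  · rintro (⟨p, hp, h⟩ | h | ⟨p, hp, P, A, h1, h2, -, h3, h4, h5, h6, h7, -, h8⟩) x y χ hx hy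
      ⟨r, s, a, b, hr, hs, hrs, ha, hb⟩
    · have := Fact.mk hp
      exact absurd ((eq_of_pe hr hx (h x) ha).trans (eq_of_pe hs hy (h y) hb).symm) hrs
    · obtain ⟨μ, hμ⟩ := χ.2.isCharacter.exists_linear
        (χ.2.one_eq_one_of_comm fun a b => mul_comm' a b)
      simp [hμ]
    · exact backward P A _ _ h2 h3 h4 h5 inf_le_right h7 h8 x y χ hx hy hr hs hrs ha hb


end Cfsg.Agent.S4756
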