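import Cfsg.Statements.S4758
import Mathlib
import Cfsg.Agent.Char.DiffFour3
import Cfsg.Agent.Class.SL2Cover
import Cfsg.Agent.S0253
import Cfsg.Agent.Grp.Cores

set_option autoImplicit false
open Cfsg

namespace Cfsg.Agent.S4758

set_option linter.style.haveILetI false

open Subgroup Cfsg.Agent.Char Cfsg.Agent.Char.Four

theorem exists_central {G : Type*} [Group G] [Finite G] {P : Subgroup G} (hP : IsPGroup 2 P)
    {u : G} (hu : u ∈ P) (h1 : u ≠ 1) : ∃ w ∈ P, w ≠ 1 ∧ w * w = 1 ∧ ∀ x ∈ P, x * w = w * x := by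
  haveI : Nontrivial P := ⟨⟨⟨u, hu⟩, 1, fun e => h1 (congrArg Subtype.val e)⟩⟩
  haveI := hP.center_nontrivial
  obtain ⟨k, hk⟩ := IsPGroup.iff_card.1 (hP.to_subgroup (center P))
  obtain ⟨w, hw⟩ := exists_prime_orderOf_dvd_card' (G := center P) 2 (by
    rw [hk]
    refine dvd_pow_self 2 ?_
    rintro rfl
    exact Finite.one_lt_card.ne' hk)
  obtain ⟨a, b⟩ := orderOf_eq_prime_iff.1 hw
  refine ⟨w, w.1.2, fun e => b (Subtype.ext (Subtype.ext e)), ?_, fun x hx => ?_⟩
  · simpa [pow_two] using congrArg (fun y : center P => ((y : P) : G)) a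
  · exact congrArg Subtype.val (mem_center_iff.1 w.2 ⟨x, hx⟩)

theorem four {G : Type*} [Group G] [Finite G] {Q : Type*} [Group Q] [Fintype Q] (f : G →* Q)
    (hs : Function.Surjective f) {u : G} (h1 : f u ≠ 1) (D : Data (f u)) (hu : u * u ≠ 1)
    (hc : Nat.card (centralizer ({u} : Set G)) = 4) (hj : ∀ g, IsConj (f g) (f u) → IsConj g u) :
    orderOf u = 4 ∧ ∀ d, f d = 1 → d * (u * u) = u * u * d → d = 1 ∨ d = u * u := by
  classical
  have hle : zpowers u ≤ centralizer {u} := zpowers_le.2 (mem_centralizer_singleton_iff.2 rfl)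
  have h4 : orderOf u ∣ 2 ^ 2 := by simpa [hc] using card_dvd_of_le hle
  have ho : orderOf u = 4 := orderOf_eq_prime_pow (p := 2) (n := 1) (by simpa [pow_two] using hu)
    (orderOf_dvd_iff_pow_eq_one.1 h4)
  have he : zpowers u = centralizer {u} := eq_of_le_of_card_ge hle (by simp [hc, ho])
  have hz : u * u * (u * u) = 1 := by
    have := pow_orderOf_eq_one u
    rw [ho] at this
    rw [← this]; simp only [pow_succ, pow_zero, one_mul, mul_assoc]
  have loc0 : ∀ w, w * u = u * w → w * w = 1 → w = 1 ∨ w = u * u := fun w hw hw2 => by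
    obtain ⟨k, hk, rfl⟩ := Finset.mem_image.1 (mem_zpowers_iff_mem_range_orderOf.1
      (he ▸ mem_centralizer_singleton_iff.2 hw))
    rw [ho, Finset.mem_range] at hk
    interval_cases k
    · simp
    · exact absurd (by simpa using hw2) hu
    · simp [pow_two]
    · refine absurd ?_ hu
      have : u ^ 3 * u ^ 3 = u * u * (u * u) * (u * u) := by
        simp only [pow_succ, pow_zero, one_mul, mul_assoc]
      rwa [this, hz, one_mul] at hw2
  have loc : ∀ g, f g ≠ 1 → f g * f g = 1 → u * u * g = g * (u * u) → g * g = u * u :=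
    fun g a b c => by
      obtain ⟨x, hx⟩ := isConj_iff.1 (hj g (D.cj _ a b))
      rcases loc0 (x * (u * u) * x⁻¹) (by
        nth_rewrite 3 4 [← hx]
        rw [conj_mul, conj_mul, c]) (by rw [conj_mul, hz]; simp) with h | h
      · exact absurd (by simpa using h) hu
      · nth_rewrite 3 4 [← hx] at h
        rw [conj_mul] at h
        exact (mul_left_cancel (mul_right_cancel h)).symm
  obtain ⟨P, hP⟩ := (IsPGroup.of_card (n := 2) (by simp [ho]) : IsPGroup 2 (zpowers u)).exists_le_sylow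
  have huP : u ∈ (P : Subgroup G) := hP (mem_zpowers u)
  obtain ⟨w, -, hw1, hw2, hw⟩ := exists_central P.2 huP (fun e => hu (by simp [e]))
  obtain rfl := (loc0 w (hw u huP).symm hw2).resolve_left hw1
  have hR : Nat.card ((P : Subgroup G).map f) = 4 := by
    obtain ⟨e⟩ := D.iso
    rw [← Sylow.coe_mapSurjective hs, Sylow.card_eq_multiplicity, Nat.card_congr e.toEquiv,
      nat_card_alternatingGroup, Nat.card_fin]
    have : Nat.factorization (Nat.factorial 5 / 2) 2 = 2 := by decide +kernel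
    rw [this]
    rfl
  have sq : ∀ q ∈ (P : Subgroup G).map f, q * q = 1 := fun q hq => by
    have h := orderOf_dvd_natCard _ hq
    rw [hR, orderOf_dvd_iff_pow_eq_one] at h
    rcases D.pw q with e | e | e
    · rwa [pow_two] at e
    · rw [show 4 = 3 + 1 from rfl, pow_succ, e, one_mul] at h
      simp [h]
    · rw [show 5 = 4 + 1 from rfl, pow_succ, h, one_mul] at e
      simp [e]
  obtain ⟨v, hvP, hv1, hvu⟩ : ∃ v ∈ (P : Subgroup G), f v ≠ 1 ∧ f v ≠ f u := by
    by_contra h
    push Not at h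
    have : Nat.card ((P : Subgroup G).map f) ≤ ({1, f u} : Finset Q).card := by
      rw [← Set.ncard_coe_finset, ← Nat.card_coe_set_eq]
      refine Nat.card_mono (Set.toFinite _) ?_
      rintro _ ⟨v, hv, rfl⟩
      by_cases e : f v = 1
      · simp [e]
      · simp [h v hv e]
    have h2 := Finset.card_le_two (a := (1 : Q)) (b := f u)
    omega
  have huv : f (u * v) ≠ 1 := fun e => hvu (by
    rw [map_mul] at e
    rw [eq_inv_of_mul_eq_one_right e, inv_eq_of_mul_eq_one_right D.sq])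
  refine ⟨ho, fun d hd hdz => ?_⟩
  have iv : ∀ s ∈ (P : Subgroup G), f s ≠ 1 → s⁻¹ * d * s = d⁻¹ := fun s hs h => by
    have a := loc s h (sq _ ⟨s, hs, rfl⟩) (hw s hs).symm
    have b := loc (s * d) (by rwa [map_mul, hd, mul_one])
      (by rw [map_mul, hd, mul_one]; exact sq _ ⟨s, hs, rfl⟩)
      (by rw [← mul_assoc, ← hw s hs, mul_assoc, ← hdz, ← mul_assoc])
    rw [← a] at b
    calc s⁻¹ * d * s = s⁻¹ * s⁻¹ * (s * d * (s * d)) * d⁻¹ := by group
      _ = d⁻¹ := by rw [b]; group
  have a := iv u huP h1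
  have b := iv v hvP hv1
  have c := iv (u * v) (mul_mem huP hvP) huv
  have e : d⁻¹ = d := by
    calc d⁻¹ = v⁻¹ * (u⁻¹ * d * u) * v := by rw [← c]; group
      _ = (v⁻¹ * d * v)⁻¹ := by rw [a]; group
      _ = d := by rw [b, inv_inv]
  rw [e] at a
  exact loc0 d (by rw [← inv_mul_eq_iff_eq_mul, ← mul_assoc, a]) (by
    nth_rewrite 1 [← e]; exact inv_mul_cancel d)

/-- Let u ≠ 1 be an element of the finite group G such that every non-principal irreducible character χ satisfies χ(1) − χ(u) = 4 or χ(u) = 0. Then O(G), the largest normal subgroup of odd order, is abelian, and either G ⧸ O(G) ≅ PSL₂(5) and u is an involution, or G ⧸ O(G) ≅ SL₂(5) and u has order 4. -/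
theorem result {G : Type*} [Group G] [Finite G] (u : G) (hu : u ≠ 1) (hyp : ∀ χ : Cfsg.IrrCharacter G, (χ : G → ℂ) ≠ (fun _ => (1 : ℂ)) → ((χ : G → ℂ) 1 - (χ : G → ℂ) u = 4 ∨ (χ : G → ℂ) u = 0)) : IsMulCommutative ↥(Cfsg.oddCore G) ∧ ((Nonempty (G ⧸ Cfsg.oddCore G ≃* Matrix.ProjectiveSpecialLinearGroup (Fin 2) (ZMod 5)) ∧ orderOf u = 2) ∨ (Nonempty (G ⧸ Cfsg.oddCore G ≃* Matrix.SpecialLinearGroup (Fin 2) (ZMod 5)) ∧ orderOf u = 4)) := by
  classical
  haveI := Fintype.ofFinite G
  have H : Hyp u := ⟨hu, fun χ hχ h => hyp ⟨χ, hχ⟩ h⟩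
  obtain ⟨e2⟩ := S0253.zmod
  have core : ∀ {Q : Type _} [Group Q] [Fintype Q] (f : G →* Q), Function.Surjective f → f u ≠ 1 →
      Data (f u) → oddCore G ≤ f.ker := fun {Q} _ _ f hs h1 D => by
    obtain ⟨e⟩ := D.iso
    haveI : IsSimpleGroup Q := e.isSimpleGroup
    rw [← Subgroup.map_eq_bot_iff]
    refine (Normal.map inferInstance f hs).eq_bot_or_eq_top.resolve_right fun h => ?_
    have := Grp.orderOf_coprime_of_mem_pPrimeCore
      (Grp.map_pPrimeCore_le_of_surjective 2 f hs (h ▸ mem_top (f u)))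
    rw [orderOf_eq_prime (by rw [pow_two, D.sq]) h1] at this
    norm_num at this
  by_cases h2 : u * u = 1
  · have D := H.invol h2
    have hO : oddCore G = ⊥ := le_bot_iff.1 (by
      simpa using core (MonoidHom.id G) Function.surjective_id hu D)
    obtain ⟨e⟩ := D.iso
    refine ⟨by rw [hO]; infer_instance, Or.inl ⟨⟨((QuotientGroup.quotientMulEquivOfEq hO).trans
      QuotientGroup.quotientBot).trans (e.trans e2.symm)⟩, orderOf_eq_prime (by rwa [pow_two]) hu⟩⟩
  set N := normalClosure ({u * u} : Set G) with hN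
  haveI : Fintype (G ⧸ N) := Fintype.ofFinite _
  set f := QuotientGroup.mk' N with hf
  have hs : Function.Surjective f := QuotientGroup.mk'_surjective N
  have hk : f.ker = N := QuotientGroup.ker_mk' N
  have hzN : u * u ∈ N := subset_normalClosure rfl
  have h3 : ∀ χ, IsIrrCharacter G χ → χ 1 = 3 → χ u = -1 → ∀ n ∈ f.ker, χ n = χ 1 :=
    fun χ hχ h3 hv n hn => by
      haveI := charKer_normal hχ.isClassFunction
      refine (mem_charKer_iff hχ.isCharacter).1 (normalClosure_le_normal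
        (Set.singleton_subset_iff.2 ((mem_charKer_iff hχ.isCharacter).2 ?_)) (hk ▸ hn))
      rw [(rec3 H.perfect hχ.isCharacter h3 u).1, hv, h3]; simp; norm_num
  have h1 : f u ≠ 1 := fun e => by
    obtain ⟨χ, hχ, a, b⟩ := H.exists_three
    have := h3 χ hχ a b u e
    rw [a, b] at this
    norm_num at this
  have D := (H.map f hs h1).invol (by rw [← map_mul, ← MonoidHom.mem_ker, hk]; exact hzN)
  obtain ⟨hc, hj⟩ := H.count f hs h1 h3
  obtain ⟨ho, hd⟩ := four f hs h1 D h2 (hc.trans D.card) hj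
  simp only [← MonoidHom.mem_ker, hk] at hd
  have hON : oddCore G ≤ N := hk ▸ core f hs h1 D
  set z := u * u with hz
  have hz2 : z * z = 1 := by
    have := pow_orderOf_eq_one u
    rw [ho] at this
    rw [← this, hz]; simp only [pow_succ, pow_zero, one_mul, mul_assoc]
  have hoz : orderOf z = 2 := orderOf_eq_prime (by rwa [pow_two]) h2
  have hzO : z ∉ oddCore G := fun h => by
    have := Grp.orderOf_coprime_of_mem_pPrimeCore h
    rw [hoz] at this
    norm_num at this
  have hi : ((oddCore G).subgroupOf N).index = 2 := by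
    have ho' : orderOf (⟨z, hzN⟩ : N) = 2 := by rw [← orderOf_coe, hoz]
    obtain ⟨R, hR⟩ := (IsPGroup.of_card (n := 1) (by rw [Nat.card_zpowers, ho', pow_one]) :
      IsPGroup 2 (zpowers (⟨z, hzN⟩ : N))).exists_le_sylow
    have hzR := hR (mem_zpowers _)
    obtain ⟨w, -, hw1, -, hw⟩ := exists_central R.2 hzR fun e => h2 (congrArg Subtype.val e)
    have hwz : w = ⟨z, hzN⟩ := Subtype.ext ((hd w w.2 (congrArg Subtype.val (hw _ hzR)).symm).resolve_left
      fun e => hw1 (Subtype.ext e))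
    have hR2 : (R : Subgroup N) = zpowers ⟨z, hzN⟩ := le_antisymm (fun x hx => by
      rcases hd x x.2 (congrArg Subtype.val (hwz ▸ hw x hx)) with e | e
      · rw [show x = 1 from Subtype.ext e]; exact one_mem _
      · rw [show x = ⟨z, hzN⟩ from Subtype.ext e]; exact mem_zpowers _) hR
    have hmin : (Nat.card N).minFac = 2 := (Nat.minFac_eq_two_iff _).2 (ho' ▸ orderOf_dvd_natCard _)
    have hcy : IsCyclic R := by rw [hR2]; infer_instance
    have hK := IsCyclic.isComplement' hmin hcy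
    have hle := Grp.le_pPrimeCore (p := 2) (MonoidHom.normal_ker _) ((Nat.Prime.coprime_iff_not_dvd
      Nat.prime_two).2 (hK.index_eq_card ▸ R.not_dvd_index)).symm
    rw [Grp.pPrimeCore_eq_subgroupOf_of_normal] at hle
    have := index_dvd_of_le hle
    rw [hK.symm.index_eq_card, hR2, Nat.card_zpowers, ho', Nat.dvd_prime Nat.prime_two] at this
    exact this.resolve_left fun e => hzO (mem_subgroupOf.1 (index_eq_one.1 e ▸ mem_top (⟨z, hzN⟩ : N)))
  have hq : ∀ n ∈ N, n ∉ oddCore G → (n : G ⧸ oddCore G) = z := fun n hn h => by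
    rw [QuotientGroup.eq]
    refine mem_subgroupOf.1 ((mul_mem_iff_of_index_two hi (a := (⟨n, hn⟩ : N)⁻¹) (b := ⟨z, hzN⟩)).2 ?_)
    simp [mem_subgroupOf, h, hzO]
  refine ⟨⟨⟨MonoidHom.FixedPointFree.commute_all_of_involutive
    (φ := (MulAut.conjNormal z : MulAut (oddCore G))) (fun d h => ?_) fun d => Subtype.ext ?_⟩⟩,
    Or.inr ⟨?_, ho⟩⟩
  · have := congrArg Subtype.val h
    rw [MulAut.conjNormal_apply, mul_inv_eq_iff_eq_mul] at this
    exact Subtype.ext ((hd d (hON d.2) this.symm).resolve_right fun e => hzO (e ▸ d.2))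
  · simp only [MulAut.conjNormal_apply]
    calc z * (z * d * z⁻¹) * z⁻¹ = z * z * d * (z * z)⁻¹ := by group
      _ = d := by rw [hz2]; simp
  obtain ⟨e⟩ := D.iso
  set σ := (e.trans e2.symm).toMonoidHom.comp (QuotientGroup.lift (oddCore G) f (hON.trans hk.ge)) with hσ
  have hσ1 : ∀ g : G, σ g = 1 ↔ g ∈ N := fun g => by simp [hσ, hf]
  have hker : σ.ker = zpowers (z : G ⧸ oddCore G) := le_antisymm (fun x hx => by
    obtain ⟨g, rfl⟩ := QuotientGroup.mk_surjective x
    by_cases h : g ∈ oddCore G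
    · rw [(QuotientGroup.eq_one_iff g).2 h]; exact one_mem _
    · rw [hq g ((hσ1 g).1 hx) h]; exact mem_zpowers _) (zpowers_le.2 ((hσ1 z).2 hzN))
  haveI : Fact (Nat.Prime 5) := ⟨by norm_num⟩
  refine Class.Dickson.nonempty_equiv_SL2_of_cover (F := ZMod 5) (by decide +revert) (by simp) ?_ σ
    (fun y => ?_) ?_ ?_
  · have := map_commutator_eq G (QuotientGroup.mk' (oddCore G))
    rw [H.perfect, MonoidHom.range_eq_top.2 (QuotientGroup.mk'_surjective _),
      map_top_of_surjective _ (QuotientGroup.mk'_surjective _)] at this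
    exact this.symm
  · obtain ⟨g, hg⟩ := hs ((e.trans e2.symm).symm y)
    exact ⟨g, by simp [hσ, hg]⟩
  · rw [hker, zpowers_le, mem_center_iff]
    intro x
    obtain ⟨g, rfl⟩ := QuotientGroup.mk_surjective x
    have := hq (g * z * g⁻¹) (Normal.conj_mem inferInstance z hzN g) fun h =>
      hzO (by simpa [mul_assoc] using Normal.conj_mem inferInstance _ h g⁻¹)
    rwa [QuotientGroup.mk_mul, QuotientGroup.mk_mul, QuotientGroup.mk_inv, mul_inv_eq_iff_eq_mul] at this
  · rw [hker, Nat.card_zpowers]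
    exact orderOf_eq_prime (by rw [pow_two, ← QuotientGroup.mk_mul, hz2]; rfl)
      fun e => hzO ((QuotientGroup.eq_one_iff z).1 e)

end Cfsg.Agent.S4758
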