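import Cfsg.Statements.S4759
import Cfsg.Agent.Block.DGNSolv
import Cfsg.Agent.Char.ExtraspecialChar
import Cfsg.Agent.FT.BG6_3
import Cfsg.Agent.S0205
-- import your own Cfsg.Agent.* helpers here

set_option autoImplicit false
open Cfsg

namespace Cfsg.Agent.S4759

open Cfsg.Agent.Block Cfsg.Agent.Char
open scoped ComplexConjugate

open Subgroup Cfsg.Agent.PLocal.Amb

/-- Let G be a finite group that is the semidirect product of a normal extraspecial 2-subgroup E and a complement H acting faithfully on E (no non-identity element of H centralizes E), and suppose H has a normal subgroup K of odd order with [E, K] = E. Then every faithful irreducible character θ of E (there is exactly one) extends to G: some irreducible character of G restricts to θ on E. -/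
theorem result {G : Type*} [Group G] [Finite G] (E H : Subgroup G) [E.Normal] (hE : Cfsg.IsExtraspecial 2 ↥E) (hEH : E ⊓ H = ⊥) (hEHtop : E ⊔ H = ⊤) (hfaith : ∀ h ∈ H, (∀ e ∈ E, h * e = e * h) → h = 1) (K : Subgroup G) (hKH : K ≤ H) (hKn : ∀ h ∈ H, ∀ k ∈ K, h * k * h⁻¹ ∈ K) (hKodd : Odd (Nat.card ↥K)) (hEK : ⁅E, K⁆ = E) (θ : Cfsg.IrrCharacter ↥E) (hθ : ∀ e : ↥E, (θ : ↥E → ℂ) e = (θ : ↥E → ℂ) 1 → e = 1) : ∃ χ : Cfsg.IrrCharacter G, ∀ e : ↥E, (χ : G → ℂ) e = (θ : ↥E → ℂ) e := by
  have hHK : H ≤ 𝐍[K] := le_normalizer_iff_cj.2 fun h hh => by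
    rintro _ ⟨k, hk, rfl⟩
    exact hKn h hh k hk
  have hcop : (Nat.card E).Coprime (Nat.card K) := by
    obtain ⟨n, hn⟩ := IsPGroup.iff_card.1 hE.1.1
    exact hn ▸ ((Nat.coprime_two_left.2 hKodd).pow_left n)
  have hle := FT.inf_centralizer_le_commutator_of_commutator_eq le_normalizer_of_normal hcop.symm hEK
  rw [← map_subtype_commutator, hE.1.2.2] at hle
  obtain ⟨z, hz, hz'⟩ := (Nat.card_eq_two_iff' (1 : center E)).1 hE.2
  refine exists_ext_of_comm_fixed hEH hEHtop hKH hHK (S0205.result hKodd) hcop (fun a ha b hb => ?_)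
    θ fun g n => ?_
  · obtain ⟨a, ha', rfl⟩ := hle ha
    exact (congrArg Subtype.val (mem_center_iff.1 ha' ⟨b, hb.1⟩)).symm
  have hv := fun x => extraspecial_irr_vanish (x := x) hE θ.2
    ⟨z, z.2, fun h => hz (Subtype.ext (hθ _ h))⟩
  have hc : MulAut.conjNormal g n ∈ center E ↔ n ∈ center E := SetLike.ext_iff.1
    (characteristic_iff_comap_eq.1 (inferInstance : (center E).Characteristic) (MulAut.conjNormal g)) n
  change θ.1 (MulAut.conjNormal g n) = _
  by_cases h1 : n ∈ center E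
  · by_cases h2 : n = 1
    · rw [h2, map_one]
    · exact congrArg (θ.1 ·.1) ((hz' ⟨_, hc.2 h1⟩ fun h => h2 ((MulEquiv.map_eq_one_iff _).1
        (congrArg Subtype.val h))).trans (hz' ⟨_, h1⟩ fun h => h2 (congrArg Subtype.val h)).symm)
  · exact (hv _ (mt hc.1 h1)).trans (hv _ h1).symm

end Cfsg.Agent.S4759
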