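import Cfsg.Statements.S4807
import Cfsg.Agent.Char.RelMcKay

set_option autoImplicit false
open Cfsg

namespace Cfsg.Agent.S4807

open Cfsg.Agent.Char Cfsg.Agent.PLocal.Amb Subgroup
open scoped ComplexConjugate

theorem finsum_ne_zero_iff {Γ : Type*} [Group Γ] [Finite Γ] {L H : Subgroup Γ} (h : L ≤ H)
    (χ : IrrCharacter H) (ν : IrrCharacter L) :
    (∑ᶠ l : L, χ.1 (inclusion h l) * conj (ν.1 l)) ≠ 0 ↔ nmult h χ.1 ν.1 ≠ 0 := by
  letI : Fintype L := Fintype.ofFinite L
  rw [nmult_ne_zero_iff, finsum_eq_sum_of_fintype, classInner_def,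
    mul_ne_zero_iff_left (inv_ne_zero (card_ne_zero L))]
  rfl

/-- Let p be a prime and G a finite p-solvable group, L a normal subgroup of G, S a Sylow p-subgroup of G and P the subgroup generated by L and S (so P/L is a Sylow p-subgroup of G/L), and let ν be an irreducible complex character of L that is invariant under conjugation by every element of P. Let N be the normalizer of P in G (it contains L). Then the number of irreducible characters of G of degree prime to p lying over ν (restriction to L not orthogonal to ν) equals the number of irreducible characters of N of degree prime to p lying over ν. -/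
theorem result {G : Type*} [Group G] [Finite G] (p : ℕ) [Fact p.Prime] (hG : Cfsg.IsPSolvable p G) (L : Subgroup G) [L.Normal] (S : Sylow p G) (P : Subgroup G) (hP : P = L ⊔ (S : Subgroup G)) (hLN : L ≤ (Subgroup.normalizer ((P : Subgroup G) : Set G))) (ν : Cfsg.IrrCharacter ↥L) (hν : ∀ x ∈ P, Cfsg.IsConjCharOf L x (ν : ↥L → ℂ) (ν : ↥L → ℂ)) : Nat.card {χ : Cfsg.IrrCharacter G // ¬ p ∣ Cfsg.charDegree (χ : G → ℂ) ∧ (∑ᶠ l : ↥L, (χ : G → ℂ) (l : G) * (starRingEnd ℂ) ((ν : ↥L → ℂ) l)) ≠ 0} = Nat.card {ψ : Cfsg.IrrCharacter ↥(Subgroup.normalizer ((P : Subgroup G) : Set G)) // ¬ p ∣ Cfsg.charDegree (ψ : ↥(Subgroup.normalizer ((P : Subgroup G) : Set G)) → ℂ) ∧ (∑ᶠ l : ↥L, (ψ : ↥(Subgroup.normalizer ((P : Subgroup G) : Set G)) → ℂ) (Subgroup.inclusion hLN l) * (starRingEnd ℂ) ((ν : ↥L → ℂ) l)) ≠ 0} := by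
  subst hP
  have h := mkCnt_eq_normalizer (p := p) (r := False) False.elim _ (le_top : L ≤ ⊤) rfl
    (by rw [normalizer_eq_top L]) (isSyl_top S) (PLocal.isPSolvable_top_iff.2 hG) (ν := ν)
    (fun x hx => hν x (mem_sup_right hx)) False.elim (le_inf le_top hLN)
  rw [mkCnt_congr (top_inf_eq _) _ hLN] at h
  refine Eq.trans ?_ (h.trans ?_)
  · refine Nat.card_congr (Equiv.subtypeEquiv (irrCongr topEquiv) fun χ => and_congr ?_ ?_)
    · exact ⟨fun h => ⟨h, False.elim⟩, fun h => h.1⟩
    · exact finsum_ne_zero_iff le_top (topIrr χ) ν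
  · refine Nat.card_congr (Equiv.subtypeEquivRight fun χ => and_congr ?_ ?_)
    · exact ⟨fun h => h.1, fun h => ⟨h, False.elim⟩⟩
    · exact (finsum_ne_zero_iff hLN χ ν).symm

end Cfsg.Agent.S4807
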