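import Cfsg.Statements.S4763
import Cfsg.Agent.Char.Degrees
import Cfsg.Agent.Char.Gallagher
import Cfsg.Agent.S4807

set_option autoImplicit false
open Cfsg

namespace Cfsg.Agent.S4763

open Cfsg.Agent.Char Subgroup
open scoped commutatorElement

variable {G : Type*} [Group G] [Finite G] {p : ℕ} [hp : Fact p.Prime]

theorem card_add {α : Type*} [Finite α] (P : α → Prop) :
    Nat.card {a // P a} + Nat.card {a // ¬ P a} = Nat.card α := by
  classical
  rw [← Nat.card_sum]
  exact Nat.card_congr (Equiv.sumCompl P)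

theorem comm_quot (N : Subgroup G) [hNn : N.Normal] (hN1 : N ≠ ⊥) (hN : (Nat.card N).Coprime p)
    {k : ℕ} (hk : N.index = p ^ k)
    (hone : Nat.card {χ : IrrCharacter G // p ∣ charDegree (χ : G → ℂ)} = 1) (a b : G ⧸ N) :
    a * b = b * a := by
  classical
  let _ : Fintype G := Fintype.ofFinite _
  refine comm_of_isPGroup_of_not_dvd (IsPGroup.of_card (p := p) hk) (fun β hβ => ?_) a b
  let β' := inflateIrr _ (QuotientGroup.mk'_surjective N) β
  have hβ' : ∀ n : N, β'.1 n = β'.1 1 := fun n => by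
    change β.1 (n : G) = β.1 1
    rw [(QuotientGroup.eq_one_iff _).2 n.2]
  obtain ⟨θ, n, hn⟩ : ∃ (θ : IrrCharacter N) (n : N), θ.1 n ≠ θ.1 1 := by
    by_contra hc
    push Not at hc
    exact hN1 (eq_bot_iff.2 fun x hx => congrArg Subtype.val
      (eq_one_of_forall_irr (g := (⟨x, hx⟩ : N)) fun θ => hc θ _))
  obtain ⟨χ, h1, h2⟩ : ∃ χ : IrrCharacter G, p ∣ charDegree χ.1 ∧ χ.1 n ≠ χ.1 1 := by
    by_cases hI : inertia N θ.1 = ⊤
    · obtain ⟨ψ, ⟨hψ, h1, -⟩, -⟩ := S0867.result N θ.1 θ.2 ((inertia_eq_top_iff N).1 hI) _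
        (coe_charDegree_irr θ).symm (by
          rw [hk]
          exact (Nat.Coprime.mul_left (hN.coprime_dvd_left (detOrder_dvd_card _))
            (hN.coprime_dvd_left (charDegree_irr_dvd_card θ))).symm.pow_left k)
      refine ⟨⟨_, gallagher_isIrr hψ.isCharacter (funext h1 ▸ θ.2) β'.2 hβ'⟩, ?_, ?_⟩
      · rw [charDegree_eq_of_one_eq (n := charDegree β.1 * charDegree ψ) (by
          rw [Nat.cast_mul, coe_charDegree_irr, coe_charDegree_of_isCharacter hψ.isCharacter]
          rfl)]
        exact hβ.mul_right _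
      · change β'.1 n * ψ n ≠ β'.1 1 * ψ ((1 : N) : G)
        rw [hβ', h1, h1]
        exact fun e => hn (mul_left_cancel₀ β'.2.one_ne_zero e)
    · obtain ⟨χ, hχ, h0⟩ := exists_irr_over N θ.2
      obtain ⟨e, -, -, he⟩ := exists_charDegree_eq_of_over N hχ θ.2 h0
      refine ⟨⟨χ, hχ⟩, ?_, fun e => hn (apply_eq_of_inner_ne_zero (hχ.isCharacter.restrict N) θ.2
        h0 e)⟩
      obtain ⟨j, -, hj⟩ := (Nat.dvd_prime_pow hp.out).1
        (hk ▸ index_dvd_of_le (le_inertia N θ.2.isClassFunction))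
      rw [he, hj]
      refine ((dvd_pow_self p fun e => hI ?_).mul_left _).mul_right _
      rwa [e, pow_zero, index_eq_one] at hj
  have : χ = β' := congrArg Subtype.val ((Nat.card_eq_one_iff_unique.1 hone).1.elim ⟨χ, h1⟩ ⟨β', hβ⟩)
  exact h2 (this ▸ hβ' n)

theorem card_classes (P : Sylow p G)
    (h : normalizer ((P : Subgroup G) : Set G) ≤ centralizer ((P : Subgroup G) : Set G)) :
    Nat.card (ConjClasses ↥(normalizer ((P : Subgroup G) : Set G))) =
      Nat.card {C : ConjClasses G // ¬ p ∣ Nat.card C.carrier} := by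
  refine Nat.card_eq_of_bijective (fun C => ⟨ConjClasses.map (Subgroup.subtype _) C, ?_⟩) ⟨?_, ?_⟩
  · obtain ⟨x, rfl⟩ := ConjClasses.exists_rep C
    change ¬ p ∣ Nat.card (ConjClasses.mk (x : G)).carrier
    rw [Nat.card_coe_set_eq, FGS.ncard_carrier_mk]
    exact fun hd => P.not_dvd_index (hd.trans (index_dvd_of_le fun y hy =>
      mem_centralizer_singleton_iff.2 (h x.2 y hy)))
  · intro C D e
    obtain ⟨x, rfl⟩ := ConjClasses.exists_rep C
    obtain ⟨y, rfl⟩ := ConjClasses.exists_rep D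
    obtain ⟨g, hg⟩ := isConj_iff.1 (ConjClasses.mk_eq_mk_iff_isConj.1 (congrArg Subtype.val e))
    replace hg : g⁻¹⁻¹ * x * g⁻¹ = y := by rwa [inv_inv]
    obtain ⟨n, hn, e'⟩ := P.conj_eq_normalizer_conj_of_mem_centralizer x g⁻¹ (h x.2)
      (hg ▸ h y.2)
    exact ConjClasses.mk_eq_mk_iff_isConj.2 (isConj_iff.2 ⟨⟨n, hn⟩⁻¹, Subtype.ext (by
      simpa using e'.symm.trans hg)⟩)
  · rintro ⟨C, hC⟩
    obtain ⟨x, rfl⟩ := ConjClasses.exists_rep C
    rw [Nat.card_coe_set_eq, FGS.ncard_carrier_mk] at hC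
    obtain ⟨Q⟩ : Nonempty (Sylow p ↥(centralizer ({x} : Set G))) := inferInstance
    let Q' : Sylow p G := (Q.isPGroup'.map (Subgroup.subtype _)).toSylow (by
      rw [index_map_subtype, hp.out.dvd_mul]
      exact fun hd => hd.elim Q.not_dvd_index hC)
    obtain ⟨g, hg⟩ := MulAction.exists_smul_eq G P Q'
    refine ⟨ConjClasses.mk ⟨g⁻¹ * x * g, centralizer_le_normalizer _ fun y hy => ?_⟩,
      Subtype.ext (ConjClasses.mk_eq_mk_iff_isConj.2 (isConj_iff.2 ⟨g, by simp [mul_assoc]⟩))⟩
    have h1 : g * y * g⁻¹ ∈ (Q' : Subgroup G) := hg ▸ ⟨y, hy, rfl⟩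
    have h2 := mem_centralizer_singleton_iff.1 (map_subtype_le _ h1)
    calc y * (g⁻¹ * x * g) = g⁻¹ * (g * y * g⁻¹ * x) * g := by group
      _ = g⁻¹ * x * g * y := by rw [h2]; group

theorem card_mckay (hG : IsPSolvable p G) (P : Sylow p G) :
    Nat.card {χ : IrrCharacter G // ¬ p ∣ charDegree χ.1} =
      Nat.card {χ : IrrCharacter ↥(normalizer ((P : Subgroup G) : Set G)) //
        ¬ p ∣ charDegree χ.1} := by
  have h := S4807.result p hG ⊥ P P (bot_sup_eq _).symm bot_le (irrOne _) fun _ _ _ _ _ => rfl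
  refine Eq.trans ?_ (h.trans ?_)
  · refine Nat.card_congr (Equiv.subtypeEquivRight fun χ => (and_iff_left ?_).symm)
    rw [finsum_unique, Subsingleton.elim default 1]
    simpa [irrOne] using χ.2.one_ne_zero
  · refine Nat.card_congr (Equiv.subtypeEquivRight fun χ => and_iff_left ?_)
    rw [finsum_unique, Subsingleton.elim default 1, map_one]
    simpa [irrOne] using χ.2.one_ne_zero


/-- Let p be a prime and G a finite group that is not nilpotent and has a normal p-complement (a normal subgroup of order prime to p and index a power of p). If G has exactly one irreducible complex character of degree divisible by p, then G has exactly one conjugacy class whose size is divisible by p. -/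
theorem result {G : Type*} [Group G] [Finite G] (p : ℕ) [Fact p.Prime] (hnil : ¬ Group.IsNilpotent G) (N : Subgroup G) [N.Normal] (hN : (Nat.card N).Coprime p) (hidx : ∃ k : ℕ, N.index = p ^ k) (hone : Nat.card {χ : Cfsg.IrrCharacter G // p ∣ Cfsg.charDegree (χ : G → ℂ)} = 1) : Nat.card {C : ConjClasses G // p ∣ Nat.card C.carrier} = 1 := by
  obtain ⟨k, hk⟩ := hidx
  have hp : p.Prime := Fact.out
  have hN1 : N ≠ ⊥ := fun e => hnil (by
    rw [e, index_bot] at hk
    exact (IsPGroup.of_card (p := p) hk).isNilpotent)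
  have hc := comm_quot N hN1 hN hk hone
  obtain ⟨P⟩ : Nonempty (Sylow p G) := inferInstance
  have h : normalizer ((P : Subgroup G) : Set G) ≤ centralizer ((P : Subgroup G) : Set G) := by
    intro g hg x hx
    have h1 : x * g * x⁻¹ * g⁻¹ ∈ N := by
      rw [← QuotientGroup.eq_one_iff]
      simp only [QuotientGroup.mk_mul, QuotientGroup.mk_inv]
      rw [hc x g]
      group
    have h2 : x * g * x⁻¹ * g⁻¹ ∈ (P : Subgroup G) := by
      have := mul_mem hx ((mem_normalizer_iff.1 hg _).1 (inv_mem hx))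
      simpa only [mul_assoc] using this
    obtain ⟨j, hj⟩ := P.isPGroup'.exists_card_eq
    have h3 := (disjoint_of_coprime_natCard (hj ▸ hN.pow_right j)).le_bot ⟨h1, h2⟩
    rwa [mem_bot, mul_inv_eq_one, mul_inv_eq_iff_eq_mul] at h3
  have h1 := card_mckay (PLocal.isPSolvable_of_normal_of_quotient N
    (PLocal.isPSolvable_of_coprime hN) (PLocal.isPSolvable_of_isPGroup (IsPGroup.of_card hk))) P
  have h2 : ∀ χ : IrrCharacter ↥(normalizer ((P : Subgroup G) : Set G)), ¬ p ∣ charDegree χ.1 := by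
    intro χ hd
    have h3 := hd.trans (χ.2.deg_dvd_index_center (coe_charDegree_irr χ).symm)
    refine P.not_dvd_index ((h3.trans (index_dvd_of_le (H := (P : Subgroup G).subgroupOf _)
      fun x hx => mem_center_iff.2 fun g => Subtype.ext (h g.2 x hx).symm)).trans ?_)
    exact relIndex_dvd_index_of_le le_normalizer
  rw [Nat.card_congr (Equiv.subtypeUnivEquiv h2), card_irr, card_classes P h] at h1
  have h3 := card_add fun χ : IrrCharacter G => p ∣ charDegree χ.1
  have h4 := card_add fun C : ConjClasses G => p ∣ Nat.card C.carrier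
  rw [card_irr] at h3
  omega


end Cfsg.Agent.S4763
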