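import Cfsg.Statements.S4811
import Cfsg.Agent.Char.MinNonab

set_option autoImplicit false
open Cfsg

namespace Cfsg.Agent.S4811

open Cfsg.Agent.Char

theorem card_le_two {V : Type*} (Γ : SimpleGraph V) (P : V → Prop)
    (h1 : ∀ a b, P a → P b → Γ.Reachable a b) (h2 : ∀ a b, ¬ P a → ¬ P b → Γ.Reachable a b) :
    Nat.card Γ.ConnectedComponent ≤ 2 := by
  have : Nat.card Γ.ConnectedComponent ≤ Nat.card Prop :=
    Nat.card_le_card_of_injective (fun c => P c.out) fun c d h => by
      have h' : P c.out = P d.out := h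
      rw [← c.out_eq, ← d.out_eq]
      refine SimpleGraph.ConnectedComponent.sound ?_
      by_cases hc : P c.out
      · exact h1 _ _ hc (h' ▸ hc)
      · exact h2 _ _ hc (h' ▸ hc)
  simpa using this

theorem reach {G : Type*} [Group G] {d : ℕ} (hd : d ∈ cdSet G) (a b : degreePrimes G)
    (ha : a.1 ∣ d) (hb : b.1 ∣ d) : ((degreeGraph G).induce (degreePrimes G)).Reachable a b := by
  by_cases h : a = b
  · rw [h]
  have h' : a.1 ≠ b.1 := fun e => h (Subtype.ext e)
  exact SimpleGraph.Adj.reachable ⟨h', a.2.1, b.2.1, d, hd,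
    ((Nat.coprime_primes a.2.1 b.2.1).2 h').mul_dvd_of_dvd_of_dvd ha hb⟩

/-- For every finite solvable group G the character degree graph of G (vertices: the primes dividing some irreducible complex character degree; edges: distinct primes whose product divides some degree) has at most two connected components. -/
theorem result {G : Type*} [Group G] [Finite G] [Group.IsSolvable G] : Nat.card ((Cfsg.degreeGraph G).induce (Cfsg.degreePrimes G)).ConnectedComponent ≤ 2 := by
  classical
  letI := Fintype.ofFinite G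
  by_cases h : commutator G ≤ ⁅commutator G, commutator G⁆
  · have h0 : commutator G = ⊥ := by
      by_contra hne
      exact (IsSolvable.commutator_lt_of_ne_bot hne).not_ge h
    have h1 : ∀ a : degreePrimes G, False := by
      rintro ⟨a, ha, _, ⟨χ, rfl⟩, hd⟩
      rw [charDegree_eq_of_one_eq (n := 1) (by
        simpa using one_eq_one_of_commutator_le χ.2 (h0 ▸ bot_le))] at hd
      exact ha.one_lt.ne' (Nat.dvd_one.1 hd)
    exact card_le_two _ (fun _ => True) (fun a => (h1 a).elim) fun a => (h1 a).elim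
  rcases degree_dichotomy h with ⟨p, K, _, hp, hP, hab⟩ | ⟨r, L, _, hr, hL, h1, h2, h3, h4⟩
  · haveI := Fact.mk hp
    obtain ⟨β, hβ⟩ := exists_charDegree_ne_one hab
    obtain ⟨k, hk⟩ := hP.exists_card_eq
    have hpβ : p ∣ charDegree β.1 := by
      obtain ⟨j, -, hj⟩ := (Nat.dvd_prime_pow hp).1 (hk ▸ charDegree_irr_dvd_card β)
      rw [hj] at hβ ⊢
      exact dvd_pow_self p fun h => hβ (by rw [h, pow_zero])
    let v : degreePrimes G := ⟨p, hp, _, cdSet_subset_of_surjective _
      (QuotientGroup.mk'_surjective K) ⟨β, rfl⟩, hpβ⟩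
    have key : ∀ a, ((degreeGraph G).induce (degreePrimes G)).Reachable a v := by
      rintro ⟨a, ha, _, ⟨χ, rfl⟩, hd⟩
      by_cases hpχ : p ∣ charDegree χ.1
      · exact reach ⟨χ, rfl⟩ _ _ hd hpχ
      · refine reach (exists_mul_degree_of_coprime K β χ ?_) _ _ (hd.mul_left _) (hpβ.mul_right _)
        rw [K.index_eq_card, hk]
        exact ((Nat.Prime.coprime_iff_not_dvd hp).2 hpχ).symm.pow_right _
    exact card_le_two _ (fun _ => True) (fun a b _ _ => (key a).trans (key b).symm)
      fun a b h => (h trivial).elim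
  · have key : ∀ a : degreePrimes G, (∃ b : degreePrimes G, b.1 = r ∧
        ((degreeGraph G).induce (degreePrimes G)).Reachable a b) ∨ ∃ b : degreePrimes G,
        b.1 ∣ L.index ∧ ((degreeGraph G).induce (degreePrimes G)).Reachable a b := by
      rintro ⟨a, ha, _, ⟨χ, rfl⟩, hd⟩
      obtain ⟨ψ, hψ, h0⟩ := exists_irr_inner_restrict_ne_zero L χ.2
      obtain ⟨e, he, hed⟩ := exists_deg_eq_mul_dvd_index L hψ χ.2 h0
      have he' : charDegree χ.1 = e * charDegree ψ := charDegree_eq_of_one_eq (by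
        rw [he, Nat.cast_mul, coe_charDegree_of_isCharacter hψ.isCharacter])
      rcases (Nat.Prime.dvd_mul ha).1 (he' ▸ hd) with h5 | h5
      · exact Or.inr ⟨_, h5.trans hed, SimpleGraph.Reachable.refl _⟩
      rcases h4 ⟨ψ, hψ⟩ with h6 | h6
      · obtain ⟨s, hs, hsd⟩ := Nat.exists_prime_and_dvd h1
        exact Or.inr ⟨⟨s, hs, _, h2, hsd⟩, hsd, reach h6 _ _ (h5.mul_left _) (hsd.mul_right _)⟩
      · have h7 : r ∣ charDegree χ.1 := he' ▸ Dvd.dvd.mul_left h6 e
        exact Or.inl ⟨⟨r, hr, _, ⟨χ, rfl⟩, h7⟩, rfl, reach ⟨χ, rfl⟩ _ _ hd h7⟩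
    refine card_le_two _ (fun a => ∃ b : degreePrimes G, b.1 = r ∧
        ((degreeGraph G).induce (degreePrimes G)).Reachable a b) ?_ ?_
    · rintro a b ⟨c, hc, hac⟩ ⟨d, hd, hbd⟩
      obtain rfl : c = d := Subtype.ext (hc.trans hd.symm)
      exact hac.trans hbd.symm
    · intro a b ha hb
      obtain ⟨c, hc, hac⟩ := (key a).resolve_left ha
      obtain ⟨d, hd, hbd⟩ := (key b).resolve_left hb
      exact hac.trans ((reach h2 c d hc hd).trans hbd.symm)

end Cfsg.Agent.S4811
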