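import Cfsg.Statements.S4776
import Cfsg.Agent.Char.RelGraph
import Cfsg.Agent.S4811

set_option autoImplicit false
open Cfsg

namespace Cfsg.Agent.S4776

open Cfsg.Agent.Char Cfsg.Agent.Char.RG


/-- Let N be a normal subgroup of the finite group G that is not perfect and is contained in the derived subgroup of G. Consider the common-divisor graph on the relative degree set cd(G|N) (the degrees of the irreducible complex characters of G whose kernel does not contain N; two distinct degrees adjacent when they have a common divisor greater than one). Then this graph has at most two connected components; and if a, b ∈ cd(G|N) lie in different components, then one of a, b is coprime to the index m of the derived subgroup of N in N while the other is divisible by every prime divisor of m. -/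
theorem result {G : Type*} [Group G] [Finite G] (N : Subgroup G) [N.Normal] (hN : ⁅N, N⁆ < N) (hNG : N ≤ commutator G) : Nat.card (Cfsg.commonDivisorGraph.induce (Cfsg.relCharDegrees N)).ConnectedComponent ≤ 2 ∧ ∀ (a b : ℕ) (ha : a ∈ Cfsg.relCharDegrees N) (hb : b ∈ Cfsg.relCharDegrees N), ¬ (Cfsg.commonDivisorGraph.induce (Cfsg.relCharDegrees N)).Reachable ⟨a, ha⟩ ⟨b, hb⟩ → (Nat.Coprime a (⁅N, N⁆.relIndex N) ∧ ∀ r : ℕ, r.Prime → r ∣ ⁅N, N⁆.relIndex N → r ∣ b) ∨ (Nat.Coprime b (⁅N, N⁆.relIndex N) ∧ ∀ r : ℕ, r.Prime → r ∣ ⁅N, N⁆.relIndex N → r ∣ a) := by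
  classical
  letI := Fintype.ofFinite G
  obtain ⟨p, hp, hm⟩ := exists_prime_index hN
  refine ⟨S4811.card_le_two _ (fun a => p ∣ a.1)
    (fun a b ha hb => Com.reach ⟨p, hp, ha, hb⟩ a.2 b.2) (reach_of_not_dvd hNG hp hm),
    fun a b ha hb h => ?_⟩
  rw [relIndex_commutator]
  by_cases h1 : p ∣ b
  · exact Or.inl (split_of_not_reach hNG hp hm ⟨a, ha⟩ ⟨b, hb⟩ h h1)
  · exact Or.inr (split_of_not_reach hNG hp hm ⟨b, hb⟩ ⟨a, ha⟩ (fun h2 => h h2.symm)
      (by_contra fun h2 => h (reach_of_not_dvd hNG hp hm ⟨a, ha⟩ ⟨b, hb⟩ h2 h1)))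

end Cfsg.Agent.S4776
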