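import Cfsg.Statements.S4779
import Cfsg.Agent.Char.RelGraph

set_option autoImplicit false
open Cfsg

namespace Cfsg.Agent.S4779

open Cfsg.Agent.Char Cfsg.Agent.Char.RG


/-- Let N be a solvable normal subgroup of the finite group G contained in the derived subgroup of G, and consider the common-divisor graph on the relative degree set cd(G|N) (degrees of irreducible complex characters of G whose kernel does not contain N, two distinct degrees adjacent when not coprime). If this graph has two vertices that are not joined by any path, then there is a vertex a₀ such that any two distinct vertices in the component of a₀ are adjacent, and any two distinct vertices outside that component are adjacent or have a common neighbour (one component is complete, the other has diameter at most 2). -/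
theorem result {G : Type*} [Group G] [Finite G] (N : Subgroup G) [N.Normal] [Group.IsSolvable N] (hNG : N ≤ commutator G) (hdisc : ¬ (Cfsg.commonDivisorGraph.induce (Cfsg.relCharDegrees N)).Preconnected) : ∃ a₀ : ↥(Cfsg.relCharDegrees N), (∀ b c : ↥(Cfsg.relCharDegrees N), (Cfsg.commonDivisorGraph.induce (Cfsg.relCharDegrees N)).Reachable a₀ b → (Cfsg.commonDivisorGraph.induce (Cfsg.relCharDegrees N)).Reachable a₀ c → b ≠ c → (Cfsg.commonDivisorGraph.induce (Cfsg.relCharDegrees N)).Adj b c) ∧ (∀ b c : ↥(Cfsg.relCharDegrees N), ¬ (Cfsg.commonDivisorGraph.induce (Cfsg.relCharDegrees N)).Reachable a₀ b → ¬ (Cfsg.commonDivisorGraph.induce (Cfsg.relCharDegrees N)).Reachable a₀ c → b ≠ c → (Cfsg.commonDivisorGraph.induce (Cfsg.relCharDegrees N)).Adj b c ∨ ∃ d : ↥(Cfsg.relCharDegrees N), (Cfsg.commonDivisorGraph.induce (Cfsg.relCharDegrees N)).Adj b d ∧ (Cfsg.commonDivisorGraph.induce (Cfsg.relCharDegrees N)).Adj d c) := by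
  classical
  letI := Fintype.ofFinite G
  obtain ⟨a, a₀, h⟩ : ∃ a b, ¬ (Γ N).Reachable a b := by
    simpa [SimpleGraph.Preconnected] using hdisc
  have hs : ∀ {H : Type _} [Group H] [Finite H] [Group.IsSolvable H], Nontrivial H →
      ∃ p : ℕ, p.Prime ∧ p ∣ (commutator H).index := fun h => Nat.exists_prime_and_dvd fun e =>
    (Group.IsSolvable.commutator_lt_top_of_nontrivial _).ne (Subgroup.index_eq_one.1 e)
  obtain ⟨p, hp, hm⟩ := hs (H := N) (by
    obtain ⟨χ, ⟨x, hx, h⟩, -⟩ := a.2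
    exact ⟨⟨x, hx⟩, 1, fun e => h (congrArg χ.1 (congrArg Subtype.val e))⟩)
  wlog h0 : p ∣ a₀ generalizing a a₀
  · exact this a₀ a (fun h2 => h h2.symm)
      (by_contra fun h2 => h (reach_of_not_dvd hNG hp hm a a₀ h2 h0))
  have h1 : ∀ b, (Γ N).Reachable a₀ b → p ∣ b := fun b hb => by_contra fun h2 =>
    h ((reach_of_not_dvd hNG hp hm a b
      (fun h3 => h (Com.reach ⟨p, hp, h3, h0⟩ a.2 a₀.2)) h2).trans hb.symm)
  refine ⟨a₀, fun b c hb hc hne => Com.adj ⟨p, hp, h1 b hb, h1 c hc⟩ hne, fun b c hb hc hne => ?_⟩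
  have h2 := fun b (hb : ¬ (Γ N).Reachable a₀ b) =>
    split_of_not_reach hNG hp hm b a₀ (fun h2 => hb h2.symm) h0
  suffices h3 : Near N b c by
    obtain ⟨d, hd, h3, h4⟩ := h3
    by_cases e : b = ⟨d, hd⟩
    · exact Or.inl (Com.adj (e ▸ h4) hne)
    by_cases e' : ⟨d, hd⟩ = c
    · exact Or.inl (Com.adj (e' ▸ h3) hne)
    exact Or.inr ⟨⟨d, hd⟩, Com.adj h3 e, Com.adj h4 e'⟩
  obtain ⟨θ, h3, h4, h5⟩ := mem_rcd.1 b.2
  obtain ⟨θ', h3', h4', h5'⟩ := mem_rcd.1 c.2
  by_cases e : charDegree θ = 1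
  · exact near_of_linear hNG h3 e h4 h5 c.2 (h2 b hb).1 (h2 c hc).1
  by_cases e' : charDegree θ' = 1
  · exact (near_of_linear hNG h3' e' h4' h5' b.2 (h2 c hc).1 (h2 b hb).1).symm
  obtain ⟨q, hq, hqd⟩ := hs (H := commutator N) ((Subgroup.nontrivial_iff_ne_bot _).2 fun h6 =>
    e ((commutator_le_charKer_iff ⟨θ, h3⟩).1 (h6 ▸ bot_le)))
  have key : ∀ (b : relCharDegrees N) θ, ¬ (Γ N).Reachable a₀ b → IsIrrCharacter N θ →
      Lies N b θ → charDegree θ ≠ 1 → q ∣ b := by
    intro b θ hb h3 h5 e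
    have h6 : charDegree θ ∣ b := (dvd_mul_left _ _).trans (h5.dvd h3)
    by_contra h7
    obtain ⟨η, ⟨r, hr, h8, h9⟩, s, hs, h10, h11⟩ := exists_of_nonlinear hq hqd ⟨θ, h3⟩ e
      (fun h => h7 (h.trans h6)) ((h2 b hb).1.coprime_dvd_left h6)
    obtain ⟨d, hd⟩ := exists_lies η.2
    have h12 : charDegree η.1 ∣ d := (dvd_mul_left _ _).trans (hd.dvd η.2)
    have h13 := mem_rcd.2 ⟨_, η.2, fun e => hr.one_lt.ne' (Nat.dvd_one.1
      (by rwa [e, charDegree_const_one] at h9)), hd⟩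
    exact hb ((Com.reach ⟨s, hs, (h2 b hb).2 s hs h10, h11.trans h12⟩ a₀.2 h13).trans
      (Com.reach ⟨r, hr, h9.trans h12, h8.trans h6⟩ h13 b.2))
  exact ⟨b, b.2, ⟨q, hq, key b θ hb h3 h5 e, key b θ hb h3 h5 e⟩, q, hq, key b θ hb h3 h5 e,
    key c θ' hc h3' h5' e'⟩

end Cfsg.Agent.S4779
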