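import Cfsg.Statements.S4780
import Cfsg.Agent.NDA.B1e
import Cfsg.Agent.NDA.B2c
import Cfsg.Agent.NDA.B2q
import Cfsg.Agent.NDA.Setup
import Cfsg.Agent.Char.ThreeDeg

set_option autoImplicit false
open Cfsg

namespace Cfsg.Agent.S4780

open Subgroup Cfsg.Agent.Char Cfsg.Agent.Palfy Cfsg.Agent.NDA

theorem main {G : Type*} [Group G] [Finite G] [Group.IsSolvable G] {N : Subgroup G} [N.Normal]
    (h : Ny N) : ⁅⁅N, N⁆, ⁅N, N⁆⁆ = ⊥ ∧ ∃ u v, ∀ d, DD N d → d = u ∨ d = v := by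
  by_cases c : ((CC N).relIndex N).Coprime (Nat.card (⁅N, N⁆ : Subgroup G))
  · obtain ⟨h1, h2⟩ := B2.main ⟨h, c⟩
    refine ⟨h1, ?_⟩
    by_cases e : ∃ u, DD N u
    · exact e.imp fun u hu => ⟨u, fun d hd => .inl (h2 d u hd hu)⟩
    · exact ⟨0, 0, fun d hd => (e ⟨d, hd⟩).elim⟩
  obtain ⟨p, hp, h1, h2⟩ := Nat.Prime.not_coprime_iff_dvd.1 c
  obtain ⟨x, k, L, _, hx, nx, e, le, pL, qL⟩ := h.exL hp h1
  obtain ⟨a, ha⟩ := h.b1 hp hx nx e le qL (by_contra fun ne =>
    pL (h2.trans (card_dvd_of_le (h.b2a hp hx nx e le pL qL ne))))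
  exact ha.main

theorem four {S : Set ℕ} {a b c d : ℕ} (h : ∀ x ∈ S, x = a ∨ x = b ∨ x = c ∨ x = d) :
    Nat.card S ≤ 4 :=
  (Set.ncard_le_ncard (t := {a, b, c, d}) h).trans ((Set.ncard_insert_le _ _).trans
    (Nat.succ_le_succ ((Set.ncard_insert_le _ _).trans (Nat.succ_le_succ
      ((Set.ncard_insert_le _ _).trans (Nat.succ_le_succ (Set.ncard_singleton _).le))))))

/-- Let G be a finite solvable group in which no irreducible complex character degree a with 1 < a divides a larger irreducible character degree. Then G has at most four distinct irreducible character degrees and the third derived subgroup of G is trivial. -/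
theorem result {G : Type*} [Group G] [Finite G] [Group.IsSolvable G] (hnd : ∀ a ∈ Cfsg.charDegrees G, ∀ b ∈ Cfsg.charDegrees G, 1 < a → a < b → ¬ a ∣ b) : Nat.card ↥(Cfsg.charDegrees G) ≤ 4 ∧ derivedSeries G 3 = ⊥ := by
  have pos : ∀ a ∈ charDegrees G, 0 < a := fun a ⟨χ, e⟩ => e ▸ charDegree_irr_pos χ
  have nd : ND G := fun a ha b hb h1 h2 => by_contra fun ne => hnd a ha b hb
    (by have := pos a ha; omega) (lt_of_le_of_ne (Nat.le_of_dvd (pos b hb) h2) ne) h2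
  have two : (∃ m, ∀ χ : IrrCharacter G, charDegree χ.1 = 1 ∨ charDegree χ.1 = m) →
      Nat.card (charDegrees G) ≤ 4 ∧ derivedSeries G 3 = ⊥ := fun ⟨m, h⟩ =>
    ⟨four (a := 1) (b := m) (c := m) (d := m) fun _ ⟨χ, e⟩ => e ▸ (h χ).imp_right .inl,
      derivedSeries_three_eq_bot G m m fun χ => (h χ).imp_right .inl⟩
  by_cases ne : commutator G = ⊥
  · exact two ⟨1, fun χ => .inl ((commutator_le_charKer_iff χ).1 (ne ▸ bot_le))⟩
  by_cases no : ∃ (p : ℕ) (K : Subgroup G) (_ : K.Normal), p.Prime ∧ IsPGroup p (G ⧸ K) ∧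
      ∃ a b : G ⧸ K, a * b ≠ b * a
  · obtain ⟨p, K, _, hp, h1, h2⟩ := no
    exact two (caseA nd hp K h1 h2)
  obtain ⟨N, _, h, hf⟩ := exists_ny nd (Group.IsSolvable.commutator_lt_of_ne_bot ne).not_ge
    (by_contra fun c => no (exists_pquot c)) no
  obtain ⟨h1, u, v, h2⟩ := main h
  refine ⟨four (a := 1) (b := N.index) (c := u) (d := v) ?_, eq_bot_iff.2 (h1 ▸ ?_)⟩
  · rintro _ ⟨χ, rfl⟩
    rcases cs N χ with c | c
    · exact .inr (.inr (h2 _ c))
    · exact or_iff_not_imp_left.2 fun n => .inl (nd _ ⟨χ, rfl⟩ _ hf n c)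
  · have : derivedSeries G 1 ≤ N := h.ab
    exact commutator_mono (commutator_mono this this) (commutator_mono this this)

end Cfsg.Agent.S4780
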