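import Cfsg.Statements.S4783
import Cfsg.Agent.Deg4.Main

set_option autoImplicit false
open Cfsg

namespace Cfsg.Agent.S4783

/-- A finite solvable group with exactly four distinct irreducible complex character degrees has trivial fourth derived subgroup (derived length at most 4). -/
theorem result {G : Type*} [Group G] [Finite G] [Group.IsSolvable G] (hcd : Nat.card ↥(Cfsg.charDegrees G) = 4) : derivedSeries G 4 = ⊥ := by
  obtain ⟨a, b, c, d, -, -, -, -, -, -, h⟩ := Set.ncard_eq_four.1
    (show (Cfsg.charDegrees G).ncard = 4 from hcd)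
  have h1 : ∀ χ : IrrCharacter G, charDegree χ.1 = a ∨ charDegree χ.1 = b ∨ charDegree χ.1 = c ∨
      charDegree χ.1 = d := fun χ => (h ▸ ⟨χ, rfl⟩ : charDegree χ.1 ∈ ({a, b, c, d} : Set ℕ))
  have h2 := h1 (Cfsg.Agent.Char.irrOne G)
  rw [Cfsg.Agent.Char.charDegree_irrOne] at h2
  rcases h2 with rfl | rfl | rfl | rfl
  · exact Cfsg.Agent.Deg4.derivedSeries_four_eq_bot G b c d h1
  · exact Cfsg.Agent.Deg4.derivedSeries_four_eq_bot G a c d fun χ => by have := h1 χ; tauto
  · exact Cfsg.Agent.Deg4.derivedSeries_four_eq_bot G a b d fun χ => by have := h1 χ; tauto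
  · exact Cfsg.Agent.Deg4.derivedSeries_four_eq_bot G a b c fun χ => by have := h1 χ; tauto

end Cfsg.Agent.S4783
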