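import Cfsg.Statements.S4930
import Cfsg.Agent.S4931
import Cfsg.Agent.Block.KzLin
import Cfsg.Agent.Block.ModExists
import Cfsg.Agent.Block.AlgBasic
import Cfsg.Agent.Char.AmbExt
import Cfsg.Agent.Char.PPrimeDeg

set_option autoImplicit false
open Cfsg

namespace Cfsg.Agent.S4930

open Cfsg.Agent.Char Cfsg.Agent.Block Subgroup

open Classical in
theorem sum_ker {H : Type*} [Group H] [Finite H] (A : Subgroup H) [A.Normal] :
    Nat.card A * ∑ θ : IrrCharacter H with A ≤ charKer θ.1, charDegree θ.1 ^ 2 = Nat.card H := by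
  have := Fintype.ofFinite A
  have := Fintype.ofFinite H
  have h1 : ∑ a : A, regChar H a = Nat.card H := by
    rw [Finset.sum_eq_single 1 (fun a _ ha => regChar_of_ne_one fun e => ha (Subtype.ext e))
      (by simp)]
    exact regChar_one
  rw [regChar_eq_sum] at h1
  simp only [Finset.sum_apply, Pi.smul_apply, smul_eq_mul] at h1
  rw [Finset.sum_comm] at h1
  have h2 : ((Nat.card A * ∑ θ : IrrCharacter H with A ≤ charKer θ.1, charDegree θ.1 ^ 2 : ℕ) : ℂ)
      = Nat.card H := by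
    rw [← h1, Finset.sum_filter, Finset.mul_sum]
    push_cast
    refine Finset.sum_congr rfl fun θ _ => ?_
    rw [← Finset.mul_sum]
    split_ifs with h
    · rw [Finset.sum_congr rfl fun (a : A) _ => (mem_charKer_irr θ).1 (h a.2), coe_charDegree_irr]
      simp only [Finset.sum_const, Finset.card_univ, nsmul_eq_mul, Nat.card_eq_fintype_card]
      ring
    · obtain ⟨n, hn, h1⟩ := SetLike.not_le_iff_exists.1 h
      rw [sum_normal_eq_zero θ.2 _ ⟨n, hn, mt (mem_charKer_irr θ).2 h1⟩]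
      simp
  exact_mod_cast h2

theorem ker_of_not_dvd {H : Type*} [Group H] [Finite H] {p : ℕ} [hp : Fact p.Prime]
    (Q : Subgroup H) [Q.Normal] (hQ : IsPGroup p Q) (θ : IrrCharacter H)
    (hd : ¬ p ∣ charDegree θ.1) : ⁅Q, Q⁆ ≤ charKer θ.1 := by
  classical
  obtain ⟨M, hM⟩ := exists_isPModular hp.out
  have := Fintype.ofFinite Q
  have := Fintype.ofFinite (commutator Q)
  have := Fintype.ofFinite (⁅Q, Q⁆ : Subgroup H)
  obtain ⟨L, -, hL⟩ := exists_lin_part hM hQ (θ.2.isGen.restrict Q)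
  obtain ⟨h1, h2⟩ := hL 1
  by_contra h
  obtain ⟨n, hn, h3⟩ := SetLike.not_le_iff_exists.1 h
  have h4 := sum_normal_eq_zero θ.2 _ ⟨n, hn, mt (mem_charKer_irr θ).2 h3⟩
  have e : (commutator Q).map Q.subtype = ⁅Q, Q⁆ := map_subtype_commutator Q
  have h5 : ∑ n : commutator Q, θ.1 ((1 * n : Q) : H) = ∑ n : (⁅Q, Q⁆ : Subgroup H), θ.1 n :=
    Fintype.sum_equiv (((commutator Q).equivMapOfInjective _ Q.subtype_injective).trans
      (MulEquiv.subgroupCongr e)).toEquiv _ _ fun x => by simp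
  rw [h5, h4, eq_comm, mul_eq_zero] at h2
  rw [h2.resolve_left (card_ne_zero _), zero_sub, Valuation.map_neg] at h1
  simp only [OneMemClass.coe_one] at h1
  rw [← coe_charDegree_irr, val_natCast_lt_one_iff hM] at h1
  exact hd h1

theorem ker_of_fpf {G : Type*} [Group G] [Finite G] {p : ℕ} [hp : Fact p.Prime]
    (K Q : Subgroup G) [hK : K.Normal] (hQ : IsPGroup p Q)
    (h : K ⊓ centralizer (Q : Set G) = ⊥) (χ : IrrCharacter G)
    (hd : ¬ p ∣ charDegree χ.1) : ∀ n ∈ K, χ.1 n = χ.1 1 := by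
  classical
  obtain ⟨M, hM⟩ := exists_isPModular hp.out
  have := charP_resField hM
  have := Fintype.ofFinite K
  by_contra h0
  push Not at h0
  have hv : ∀ g, val M (χ.1 g) ≤ 1 := fun g => val_le_one_of_isIntegral (χ.2.isGen.isIntegral g)
  have h1 := congrArg (red M) (sum_normal_eq_zero χ.2 K h0)
  rw [red_zero, red_sum fun s _ => hv _,
    Alg.sum_eq_sum_fixed (p := p) (fun v => by simp) hQ
      (fun a (y : K) => ⟨(a : G) * y * (a : G)⁻¹, hK.conj_mem _ y.2 _⟩)
      (fun y => by simp) (fun a b y => by simp [mul_assoc]) _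
      (fun a y _ => Finset.mem_univ _) _
      (fun a y _ => by rw [χ.2.isClassFunction y a]),
    Finset.sum_eq_single 1 (fun y hy h1 => (h1 ?_).elim) (by simp),
    red_eq_zero_iff (hv _)] at h1
  · simp only [OneMemClass.coe_one] at h1
    rw [← coe_charDegree_irr, val_natCast_lt_one_iff hM] at h1
    exact hd h1
  · have : (y : G) ∈ K ⊓ centralizer (Q : Set G) := ⟨y.2, fun a ha =>
      mul_inv_eq_iff_eq_mul.1 (congrArg Subtype.val ((Finset.mem_filter.1 hy).2 ⟨a, ha⟩))⟩
    rw [h, mem_bot] at this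
    exact Subtype.ext this

/-- Let G be a finite group, P a Sylow 2-subgroup of G with normalizer N, and P′ the commutator subgroup of P. Then the sum of the squares of the degrees of the irreducible complex characters of G of odd degree is at least the index of P′ in N (the order of N divided by the order of P′), and equality holds if and only if N has a normal complement in G: a normal subgroup K of G with K ∩ N = 1 and KN = G. -/
theorem result {G : Type*} [Group G] [Finite G] (P : Sylow 2 G) :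
    Nat.card (Subgroup.normalizer ((P : Subgroup G) : Set G)) ≤ Nat.card (commutator ↥P) * (∑ᶠ χ : {χ : Cfsg.IrrCharacter G // ¬ 2 ∣ Cfsg.charDegree (χ : G → ℂ)}, Cfsg.charDegree (χ.1 : G → ℂ) ^ 2) ∧
    (Nat.card (Subgroup.normalizer ((P : Subgroup G) : Set G)) = Nat.card (commutator ↥P) * (∑ᶠ χ : {χ : Cfsg.IrrCharacter G // ¬ 2 ∣ Cfsg.charDegree (χ : G → ℂ)}, Cfsg.charDegree (χ.1 : G → ℂ) ^ 2) ↔
      ∃ K : Subgroup G, K.Normal ∧ K ⊓ Subgroup.normalizer ((P : Subgroup G) : Set G) = ⊥ ∧ K ⊔ Subgroup.normalizer ((P : Subgroup G) : Set G) = ⊤) := by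
  classical
  have hfin : (∑ᶠ χ : {χ : IrrCharacter G // ¬ 2 ∣ charDegree (χ : G → ℂ)},
      charDegree (χ.1 : G → ℂ) ^ 2) =
      ∑ χ : IrrCharacter G with ¬ 2 ∣ charDegree χ.1, charDegree χ.1 ^ 2 := by
    rw [finsum_eq_sum_of_fintype]
    exact (Finset.sum_subtype _ (by simp) fun χ : IrrCharacter G => charDegree χ.1 ^ 2).symm
  rw [hfin]
  have h31 := S4931.result 2 P
  set N := normalizer ((P : Subgroup G) : Set G) with hN
  have hPN : (P : Subgroup G) ≤ N := le_normalizer
  have hPn : ((P : Subgroup G).subgroupOf N).Normal := normal_in_normalizer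
  set Q := (P : Subgroup G).subgroupOf N with hQ
  have hi : ¬ 2 ∣ Q.index := fun h => P.not_dvd_index (h.trans (relIndex_dvd_index_of_le hPN))
  have hc : Nat.card (⁅Q, Q⁆ : Subgroup N) = Nat.card (commutator P) := by
    rw [← card_map_of_injective N.subtype_injective, map_commutator, subgroupOf_map_subtype,
      inf_eq_left.2 hPN, ← map_subtype_commutator, card_map_of_injective (subtype_injective _)]
  have h1 := sum_ker ⁅Q, Q⁆
  rw [hc, Finset.filter_congr (q := fun θ : IrrCharacter N => ¬ 2 ∣ charDegree θ.1) fun θ _ =>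
    ⟨fun h h2 => hi (h2.trans (S4931.deg_dvd Q θ fun a ha => (mem_charKer_irr θ).1 (h ha))),
      ker_of_not_dvd Q P.2.comap_subtype θ⟩] at h1
  rw [← h1]
  refine (fun {a b c : ℕ} {R : Prop} (ha : 0 < a) (h : b ≤ c ∧ (b = c ↔ R)) =>
    (⟨Nat.mul_le_mul_left _ h.1, (mul_right_inj' ha.ne').trans h.2⟩ :
      a * b ≤ a * c ∧ (a * b = a * c ↔ R))) Nat.card_pos ?_
  set X := Finset.univ.filter fun χ : IrrCharacter G => ¬ 2 ∣ charDegree χ.1 with hX
  set Y := Finset.univ.filter fun θ : IrrCharacter N => ¬ 2 ∣ charDegree θ.1 with hY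
  have hex : ∀ θ : IrrCharacter N, ∃ χ : IrrCharacter G, θ ∈ Y →
      χ ∈ X ∧ nmult le_top (topIrr χ).1 θ.1 ≠ 0 := fun θ => by
    by_cases h : θ ∈ Y
    · obtain ⟨ψ, h2, h3⟩ := exists_over_not_dvd (p := 2) (le_top (a := N)) (by
        rw [relIndex_top_right]
        exact fun e => P.not_dvd_index (e.trans (index_dvd_of_le hPN))) θ (Finset.mem_filter.1 h).2
      obtain ⟨χ, rfl⟩ := exists_topIrr_eq ψ
      exact ⟨χ, fun _ => ⟨Finset.mem_filter.2 ⟨Finset.mem_univ _, h3⟩, fun e => h2 (by simp [e])⟩⟩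
    · exact ⟨irrOne G, fun e => absurd e h⟩
  choose c hc using hex
  have hfib : ∀ χ : IrrCharacter G, ∑ θ ∈ Y with c θ = χ, charDegree θ.1 ≤ charDegree χ.1 := by
    intro χ
    rw [← charDegree_topIrr, charDegree_eq_sum_nmult (le_top (a := N)) (topIrr χ).2.isCharacter]
    refine (Finset.sum_le_sum fun θ hθ => ?_).trans
      (Finset.sum_le_sum_of_subset (Finset.subset_univ _))
    obtain ⟨h2, rfl⟩ := Finset.mem_filter.1 hθ
    exact Nat.le_mul_of_pos_left _ (Nat.pos_of_ne_zero (hc θ h2).2)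
  have a1 : ∀ θ ∈ Y, charDegree θ.1 ^ 2 ≤ charDegree θ.1 * charDegree (c θ).1 := fun θ hθ => by
    rw [sq]
    refine Nat.mul_le_mul_left _ (le_trans ?_ (hfib (c θ)))
    exact Finset.single_le_sum (f := fun θ : IrrCharacter N => charDegree θ.1)
      (fun _ _ => Nat.zero_le _) (Finset.mem_filter.2 ⟨hθ, rfl⟩)
  have a2 : ∑ θ ∈ Y, charDegree θ.1 * charDegree (c θ).1 ≤ ∑ χ ∈ X, charDegree χ.1 ^ 2 := by
    rw [← Finset.sum_fiberwise_of_maps_to (g := c) fun θ hθ => (hc θ hθ).1]
    refine Finset.sum_le_sum fun χ _ => ?_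
    rw [Finset.sum_congr rfl fun θ hθ => by rw [(Finset.mem_filter.1 hθ).2], ← Finset.sum_mul, sq]
    exact Nat.mul_le_mul_right _ (hfib χ)
  have a3 := Finset.sum_le_sum a1
  refine ⟨a3.trans a2, fun h => ?_, ?_⟩
  · obtain ⟨K, h2, h3, h4⟩ := h31.1 fun θ hθ => by
      have hθ' : θ ∈ Y := Finset.mem_filter.2 ⟨Finset.mem_univ _, hθ⟩
      have h5 := (Finset.sum_eq_sum_iff_of_le a1).1 (le_antisymm a3 (h ▸ a2)) θ hθ'
      rw [sq, mul_right_inj' (charDegree_pos_of_isIrr θ.2).ne'] at h5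
      exact ⟨c θ, fun x => isRes_of_nmult_of_le le_top (hc θ hθ').2 h5.ge x (mem_top _)⟩
    exact ⟨K, h2, h4, h3⟩
  · rintro ⟨K, hK, h2, h3⟩
    refine le_antisymm (a3.trans a2) ?_
    have hC : K.IsComplement' N := isComplement'_of_disjoint_and_mul_eq_univ (disjoint_iff.2 h2)
      (by rw [← normal_mul, h3]; rfl)
    let π : G →* N := hC.symm.QuotientMulEquiv.toMonoidHom.comp (QuotientGroup.mk' K)
    have hπ : Function.Surjective π :=
      hC.symm.QuotientMulEquiv.surjective.comp (QuotientGroup.mk'_surjective K)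
    have hk : ∀ n ∈ π.ker, n ∈ K := fun n hn =>
      (QuotientGroup.eq_one_iff n).1 (hC.symm.QuotientMulEquiv.map_eq_one_iff.1 hn)
    have h4 : X ⊆ Y.image (inflateIrr π hπ) := fun χ hχ => by
      obtain ⟨θ, rfl⟩ := (mem_range_inflateIrr π hπ χ).2 fun n hn =>
        ker_of_fpf K P P.2 (eq_bot_iff.2 (h2 ▸ inf_le_inf_left _ (centralizer_le_normalizer _))) χ
          (Finset.mem_filter.1 hχ).2 n (hk n hn)
      exact Finset.mem_image_of_mem _ (Finset.mem_filter.2 ⟨Finset.mem_univ _, by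
        simpa [charDegree_inflateIrr] using (Finset.mem_filter.1 hχ).2⟩)
    refine (Finset.sum_le_sum_of_subset h4).trans ?_
    rw [Finset.sum_image fun a _ b _ e => inflateIrr_injective π hπ e]
    simp only [charDegree_inflateIrr, le_refl]

end Cfsg.Agent.S4930
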