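import Mathlib
import Cfsg.Statements.S4940
import Cfsg.Agent.FSI.Fin

set_option autoImplicit false
open Cfsg

namespace Cfsg.Agent.S4940

/-- Let F be a finite field of characteristic 2 and n a natural number, and let G be the symplectic group of 2n × 2n matrices over F preserving the standard alternating form. Then every irreducible complex character χ of G has Frobenius–Schur indicator 1: the sum of χ(g²) over all g in G equals the order of G (every irreducible complex representation of G can be written over the real numbers). -/
theorem result (F : Type*) [Field F] [Fintype F] [CharP F 2] (n : ℕ) (χ : Cfsg.IrrCharacter ↥(Matrix.symplecticGroup (Fin n) F)) :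
    ∑ᶠ g : ↥(Matrix.symplecticGroup (Fin n) F), (χ : ↥(Matrix.symplecticGroup (Fin n) F) → ℂ) (g * g) = (Nat.card ↥(Matrix.symplecticGroup (Fin n) F) : ℂ) := by
  have h2 : (2 : F) = 0 := CharTwo.two_eq_zero
  have h1 : Class.sympB n F = QuadraticMap.polarBilin (Class.Orth.plusQF n F) := by
    refine LinearMap.ext₂ fun x y => ?_
    rw [Class.sympB_apply, Class.Sp.form_eq, QuadraticMap.polarBilin_apply_apply,
      Class.Orth.polar_plusQF]
    exact Finset.sum_congr rfl fun i _ => by linear_combination -x (.inl i) * y (.inr i) * h2
  have e := Class.spEquiv n F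
  rw [h1] at e
  have := Fintype.ofFinite (Class.Isom (QuadraticMap.polarBilin (Class.Orth.plusQF n F)) fun _ => 0)
  have := Fintype.ofFinite (Matrix.symplecticGroup (Fin n) F)
  have h3 := FSI.fsInd_of_equiv e.symm (FSI.fsInd_Sp h2 (Class.Orth.nd_plusQF n F)) χ.2
  exact ((inv_mul_eq_one₀ (Nat.cast_ne_zero.2 Nat.card_pos.ne')).1 h3).symm

end Cfsg.Agent.S4940
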