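import Cfsg.Statements.S4997
import Mathlib
import Cfsg.Agent.SolvLin.NV

set_option autoImplicit false
open Cfsg Cfsg.Agent.Char

namespace Cfsg.Agent.S4997

/-- Let p be an odd prime and G a finite solvable group with exactly one conjugacy class consisting of vanishing elements (elements at which some irreducible complex character is zero) of order divisible by p. Let P be a Sylow p-subgroup of G. Then the order of P is at most p times the order of the largest normal p-subgroup of G. -/
theorem result {G : Type*} [Group G] [Finite G] (hsolv : Group.IsSolvable G) (p : ℕ) [Fact p.Prime] (hp : p ≠ 2) (h1 : Set.ncard {C : ConjClasses G | (∀ g ∈ C.carrier, ∃ χ : Cfsg.IrrCharacter G, (χ : G → ℂ) g = 0) ∧ ∃ g ∈ C.carrier, p ∣ orderOf g} = 1) (P : Sylow p G) : Nat.card ↥(P : Subgroup G) ≤ p * Nat.card ↥(Cfsg.pCore p G) := by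
  obtain ⟨C, hC⟩ := Set.ncard_eq_one.1 h1
  obtain ⟨c, rfl⟩ := ConjClasses.mk_surjective C
  have h := SolvLin.relIndex_dvd_prime (p := p) (b := orderOf c) (fun x ⟨χ, h1, h2⟩ hx => by
    have : ConjClasses.mk x ∈ ({ConjClasses.mk c} : Set _) := hC ▸ ⟨fun g hg => ⟨⟨χ, h1⟩,
      (h1.isClassFunction.eq_of_isConj (ConjClasses.mk_eq_mk_iff_isConj.1
        (ConjClasses.mem_carrier_iff_mk_eq.1 hg))).trans h2⟩, x, ConjClasses.mem_carrier_mk, hx⟩
    obtain ⟨y, rfl⟩ := isConj_iff.1 (ConjClasses.mk_eq_mk_iff_isConj.1 this)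
    exact orderOf_eq_orderOf_iff.2 fun n => by simp) P
  rw [← ((pCore p G).subgroupOf P).card_mul_index, mul_comm,
    Nat.card_congr (Subgroup.subgroupOfEquivOfLe (Grp.pCore_le_sylow P)).toEquiv]
  exact Nat.mul_le_mul_right _ (Nat.le_of_dvd (Fact.out : p.Prime).pos h)

end Cfsg.Agent.S4997
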