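import Cfsg.Statements.S5147
import Mathlib
import Cfsg.Agent.S5115
import Cfsg.Agent.S5135
import Cfsg.Agent.Fus.FIso2
import Cfsg.Agent.Fus.WNorm

set_option autoImplicit false
open Cfsg

namespace Cfsg.Agent.S5147

open Cfsg.FusionSystem Fus in
theorem constrained_factor {Ω Ω' : Type*} [Group Ω] [Group Ω'] {S : Subgroup Ω} {S' : Subgroup Ω'}
    [Finite S] {p : ℕ} [Fact p.Prime] (hS : IsPGroup p S) {F : FusionSystem S}
    (hF : F.IsConstrained p) {Z : Subgroup Ω} (hZ : F.StronglyClosed Z)
    (hc : ∀ x ∈ S, ∀ z ∈ Z, x * z = z * x) {θ : S →* Ω'} {E : FusionSystem S'}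
    (h : F.IsFactorSystem Z θ E) : E.IsConstrained p := by
  have hn := IsFactor.isNormal_image h hZ (isNormal_core F)
  refine ⟨IsFactor.saturated hS hF.1 hZ h, _, hn, isCentric_of_isNormal hn fun y hy => ?_⟩
  obtain ⟨x, hx, rfl⟩ := (mem_range_iff_hfn θ).1 (IsFactor.range_eq h ▸ hy.1)
  refine hfn_mem_imageAlong θ (mem_core_of_chain hS hF
    (fun i => if i = 0 then ⊥ else if i = 1 then Z else S) 2 rfl (core_le F) ?_ hx ?_) hx
  · intro i hi α hα y hy hyC
    have hm := isMap_afn (core_le F) hα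
    interval_cases i
    · exact hm.mem_of_stronglyClosed (stronglyClosed_bot F) hy hyC
    · exact hm.mem_of_stronglyClosed hZ hy hyC
    · exact hm.mem hy
  · intro i hi w hw hwC
    interval_cases i
    · show _ ∈ (⊥ : Subgroup Ω)
      rw [hc x hx w hwC]; simp
    · show _ ∈ Z
      have hwS := core_le F hw
      rw [← IsFactor.ker_eq h, mem_kerAlong]
      refine ⟨S.mul_mem (S.mul_mem (S.mul_mem hx hwS) (S.inv_mem hx)) (S.inv_mem hwS), ?_⟩
      rw [hfn_mul θ (S.mul_mem (S.mul_mem hx hwS) (S.inv_mem hx)) (S.inv_mem hwS),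
        hfn_conj θ hx hwS, hfn_inv θ hwS, ← hy.2 _ (hfn_mem_imageAlong θ hw hwS)]
      simp

/-- Let G be a finite group with Sylow 2-subgroup S whose 2-fusion system on S is constrained, and L a component of G (a subnormal quasisimple subgroup). Then the 2-fusion system of L/Z(L) on the image of S ∩ L is constrained. -/
theorem result {G : Type*} [Group G] [Finite G] (S : Sylow 2 G) (hF : (Cfsg.groupFusionSystem (S : Subgroup G)).IsConstrained 2) (L : Subgroup G) (hL : Cfsg.IsComponent L) : (Cfsg.groupFusionSystem (((S : Subgroup G).subgroupOf L).map (QuotientGroup.mk' (Subgroup.center L)))).IsConstrained 2 := by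
  have h1 := S5115.result S hF L hL.1
  have h2 : Fus.SylIn 2 ((S : Subgroup G) ⊓ L) L := (Fus.isSubnormalIn_group S hL.1).1
  obtain ⟨T, hT⟩ := h2
  rw [Subgroup.inf_subgroupOf_right] at hT
  rw [← hT] at h1 ⊢
  refine constrained_factor T.isPGroup' h1 ?_ ?_ (S5135.result 2 T (Subgroup.center L))
  · rw [Fus.groupFusionSystem_eq]
    exact Fus.stronglyClosed_ofSubgroup_inf le_top Subgroup.le_normalizer_of_normal
  · exact fun x _ z hz => Subgroup.mem_center_iff.1 hz.2 x

end Cfsg.Agent.S5147
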