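import Mathlib
import Cfsg.Statements.S5178
import Cfsg.Agent.Fus.ExtraIdx
-- import your own Cfsg.Agent.* helpers here

set_option autoImplicit false
universe u
open Cfsg

namespace Cfsg.Agent.S5178

open Cfsg.Agent.Fus Cfsg.FusionSystem

open scoped commutatorElement


/-- Let p be an odd prime, S a finite p-group containing an extraspecial subgroup Q of index p, and F a saturated fusion system over S whose largest subgroup normal in F is trivial. Then the centre of S equals the centre of Q. -/
theorem result {Ω : Type u} [Group Ω] {S : Subgroup Ω} [Finite S] (p : ℕ) [Fact p.Prime] (hp : Odd p) (hS : IsPGroup p S)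
    (Q : Subgroup Ω) (hQS : Q ≤ S) (hQ : Cfsg.IsExtraspecial p ↥Q) (hQi : (Q.subgroupOf S).index = p)
    (F : Cfsg.FusionSystem S) (hF : F.IsSaturated p) (hO : F.core = ⊥) :
    S ⊓ Subgroup.centralizer (S : Set Ω) = Q ⊓ Subgroup.centralizer (Q : Set Ω) := by
  obtain ⟨z, h, hne, hZ⟩ := Grp.ES.isES_of_isExtraspecial hQ
  have hp' : p.Prime := Fact.out
  have hz := mem_center_of_isES hS hQS hQi h
  rw [hZ]
  refine le_antisymm (fun c hc => by_contra fun hc' => ?_) (Subgroup.zpowers_le.2 hz)
  have hcQ : c ∉ Q := fun e => hc' (h.center c e fun b hb => (hc.2 b (hQS hb)).symm)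
  have := FGS.normal_of_index_eq_prime hS hQi
  have hcomm : ∀ a ∈ S, ∀ b ∈ S, ⁅a, b⁆ ∈ Subgroup.zpowers z := fun a ha b hb => by
    obtain ⟨u, hu, hu', i, rfl⟩ := exists_of_relIndex_prime hQi hc.1 hcQ ha
    obtain ⟨v, hv, hv', j, rfl⟩ := exists_of_relIndex_prime hQi hc.1 hcQ hb
    have h1 : Commute (c ^ i) (v * c ^ j) := (Commute.symm (hc.2 _ hb)).zpow_left i
    have h2 : Commute (c ^ j) u := (Commute.symm (hc.2 _ hu)).zpow_left j
    rw [commutatorElement_mul_left_eq_conj_mul, h1.commutator_eq, mul_one, mul_inv_cancel, one_mul,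
      ← commutatorElement_inv, commutatorElement_mul_left_eq_conj_mul, h2.commutator_eq, mul_one,
      mul_inv_cancel, one_mul]
    exact Subgroup.inv_mem _ (h.comm v hv' u hu')
  obtain ⟨a, ha, b, hb, hab⟩ := h.exists_pair hne
  refine hc' ((center_le_zpowers hS hF (by rintro rfl; exact absurd hp (by decide)) hO
    (fun e => ?_) (h.ord ▸ pow_orderOf_eq_one z) hz
    (fun u _ hu => Subgroup.commutator_le.2 hcomm hu)
    (hab ▸ Subgroup.commutator_mem_commutator (hQS ha) (hQS hb)) fun R hR => .inl ?_).2 hc)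
  · exact hc' ((e.le hc.1 : c = 1) ▸ one_mem _)
  have hlt := essential_lt hS hF hR
  have hZR := center_le_of_centric hR.1
  have h1 := index_center_of_essential hS hF hR hlt le_rfl h.ord (hZR hz)
    (fun q hq => hz.2 q hq) hcomm
  rw [← center_subgroupOf_self, ← Subgroup.relIndex,
    ← Subgroup.relIndex_mul_relIndex _ R S hZR hlt.le] at h1
  refine (AC.eq_of_mul_eq_sq h1 (fun e => hlt.not_ge fun s hs => isCentric_self hR.1
    ⟨hs, fun r hr => ?_⟩) fun e => hlt.not_ge (Subgroup.relIndex_eq_one.1 e)).1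
  exact ((Subgroup.relIndex_eq_one.1 e hr).2 s hs).symm

end Cfsg.Agent.S5178
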