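import Mathlib
import Cfsg.Statements.S5179
import Cfsg.Agent.Fus.ExtraIdx
-- import your own Cfsg.Agent.* helpers here

set_option autoImplicit false
universe u
open Cfsg

namespace Cfsg.Agent.S5179

open Cfsg.Agent.Fus Cfsg.FusionSystem

/-- Let p be an odd prime, S a finite p-group of order at least p⁶ containing an extraspecial subgroup Q of index p, and F a saturated fusion system over S whose largest subgroup normal in F is trivial. Then no proper subgroup of Q is essential in F: an essential subgroup of F contained in Q equals Q. -/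
theorem result {Ω : Type u} [Group Ω] {S : Subgroup Ω} [Finite S] (p : ℕ) [Fact p.Prime] (hp : Odd p) (hS : IsPGroup p S)
    (Q : Subgroup Ω) (hQS : Q ≤ S) (hQ : Cfsg.IsExtraspecial p ↥Q) (hQi : (Q.subgroupOf S).index = p)
    (h6 : p ^ 6 ≤ Nat.card S)
    (F : Cfsg.FusionSystem S) (hF : F.IsSaturated p) (hO : F.core = ⊥)
    (E : Subgroup Ω) (hEQ : E ≤ Q) (hE : F.IsEssential p E) : E = Q := by
  obtain ⟨z, h, -, -⟩ := Grp.ES.isES_of_isExtraspecial hQ
  refine hEQ.eq_or_lt.resolve_right fun hlt => ?_
  have h1 := index_center_of_essential hS hF hE hlt hQS h.ord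
    (center_le_of_centric hE.1 (mem_center_of_isES hS hQS hQi h)) h.central h.comm
  have h2 := (Subgroup.center Q).card_mul_index
  have h3 := (Q.subgroupOf S).card_mul_index
  rw [Grp.card_subgroupOf_of_le hQS, hQi, ← h2, h1, hQ.2, ← pow_succ', ← pow_succ] at h3
  rw [← h3, Nat.pow_le_pow_iff_right (Fact.out : p.Prime).one_lt] at h6
  omega

end Cfsg.Agent.S5179
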