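import Mathlib
import Cfsg.Statements.S5185
import Cfsg.Agent.Fus.EssTools
-- import your own Cfsg.Agent.* helpers here

set_option autoImplicit false
universe u
open Cfsg

namespace Cfsg.Agent.S5185

open Cfsg.Agent.Fus Cfsg.FusionSystem

/-- Let F be a saturated fusion system over a finite p-group S and H an essential subgroup of order p². Then H is elementary abelian (isomorphic to C_p × C_p) and its F-automorphism group contains a subgroup isomorphic to SL(2,p). -/
theorem result {Ω : Type u} [Group Ω] {S : Subgroup Ω} [Finite S] (p : ℕ) [Fact p.Prime] (hS : IsPGroup p S)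
    (F : Cfsg.FusionSystem S) (hF : F.IsSaturated p) (H : Subgroup Ω) (hH : F.IsEssential p H) (hcard : Nat.card H = p ^ 2) :
    Cfsg.IsElementaryAbelian p H ∧
      ∃ K : Subgroup ↥(F.autGroup H), Nonempty (↥K ≃* Matrix.SpecialLinearGroup (Fin 2) (ZMod p)) := by
  have hE := ess_of_essential hS hF hH
  have : Finite H := finite_of_le hH.1.1
  have hG : IsPGroup p H := isPGroup_of_le hS hH.1.1
  have hc : IsMulCommutative H := IsPGroup.isMulCommutative_of_card_eq_prime_sq hcard
  have hirr : ∀ L : Subgroup H, AC.Inv (F.autGroup H) L → L = ⊥ ∨ L = ⊤ := by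
    intro L hL
    by_contra h
    push Not at h
    have h1 := AC.card_eq_prime_of_ne hcard h.1 h.2
    refine hE.not_flag_two hG hL (AC.index_eq_prime_of_card hcard h1).dvd ?_
    exact h1 ▸ Subgroup.relIndex_dvd_card _ _
  have hΦ : frattini H = ⊥ := by
    rcases hirr _ (AC.inv_of_char _ (frattini H)) with h | h
    · exact h
    · exact (hE.not_flag_one hG (by simp [h])).elim
  have he : ∀ x : H, x ^ p = 1 := fun x =>
    Subgroup.mem_bot.1 (hΦ ▸ Grp.PFrattini.pow_mem_frattini hG x)
  refine ⟨⟨hc, fun a ha => congrArg Subtype.val (he ⟨a, ha⟩)⟩, ?_⟩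
  obtain ⟨t, ht, ht', k, hk⟩ := hE.ex
  obtain ⟨x, y, e, -, -, hM⟩ := AC.exists_sl2 hc.is_comm.comm he hcard ht
    (fun h => ht' (h ▸ one_mem _)) hk hirr
  let ρ := ((MulAut.congr e).toMonoidHom.comp (AC.sl2Hom (ZMod p))).codRestrict _ hM
  have hρ : Function.Injective ρ := fun a b h =>
    AC.sl2Hom_injective _ ((MulAut.congr e).injective (congrArg Subtype.val h))
  exact ⟨ρ.range, ⟨(MonoidHom.ofInjective hρ).symm⟩⟩

end Cfsg.Agent.S5185
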