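import Mathlib
import Cfsg.Statements.S5187
import Cfsg.Agent.Fus.EssSmall
import Cfsg.Agent.Fus.EssTools
-- import your own Cfsg.Agent.* helpers here

set_option autoImplicit false
universe u
open Cfsg

namespace Cfsg.Agent.S5187

open Cfsg.Agent.Fus Cfsg.FusionSystem

/-- Let F be a saturated fusion system over a finite p-group S and H an abelian essential subgroup that can be generated by two elements (its Frattini quotient has order at most p²). Then H is elementary abelian of order p², or p ≤ 3 and H is homocyclic of rank two, that is isomorphic to C_{pᵏ} × C_{pᵏ} for some k. -/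
theorem result {Ω : Type u} [Group Ω] {S : Subgroup Ω} [Finite S] (p : ℕ) [Fact p.Prime] (hS : IsPGroup p S)
    (F : Cfsg.FusionSystem S) (hF : F.IsSaturated p) (H : Subgroup Ω) (hH : F.IsEssential p H) (hab : IsMulCommutative ↥H) (hrk : (frattini ↥H).index ≤ p ^ 2) :
    (Cfsg.IsElementaryAbelian p H ∧ Nat.card H = p ^ 2) ∨
      (p ≤ 3 ∧ ∃ k : ℕ, Nonempty (↥H ≃* Multiplicative (ZMod (p ^ k) × ZMod (p ^ k)))) := by
  have : Finite H := Finite.of_injective _ (Subgroup.inclusion_injective hH.1.1)
  obtain ⟨e, -, ⟨E⟩, h2, h3, h4⟩ := (ess_of_essential hS hF hH).homocyclic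
    (hS.of_injective _ (Subgroup.inclusion_injective hH.1.1)) hab.is_comm.comm hrk
  rcases h2 with rfl | h2
  · exact Or.inl ⟨⟨hab, fun x hx => by simpa using congrArg Subtype.val (h3 ⟨x, hx⟩)⟩, h4⟩
  · exact Or.inr ⟨h2, e, ⟨E.symm⟩⟩

end Cfsg.Agent.S5187
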