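import Mathlib
import Cfsg.Statements.S5188
import Cfsg.Agent.Fus.EssSmall
import Cfsg.Agent.Fus.EssTools
-- import your own Cfsg.Agent.* helpers here

set_option autoImplicit false
universe u
open Cfsg

namespace Cfsg.Agent.S5188

open Cfsg.Agent.Fus Cfsg.FusionSystem

/-- Let F be a saturated fusion system over a finite p-group S and H an essential subgroup of order p⁴. Then H is isomorphic to one of: C_p⁴ or C_{p²} × C_p × C_p (any p); C_{p²} × C_{p²} with p ∈ {2, 3}; p^{1+2}_+ × C_p with p odd (the direct product of an extraspecial group of order p³ and exponent p with a group of order p); Q₈ × C₂ (p = 2); or the non-abelian group of order p⁴ of exponent p² whose centre is cyclic of order p² (the central product of an extraspecial group of order p³ with a cyclic group of order p²; for p = 2 this is D₈ ∘ C₄). -/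
theorem result {Ω : Type u} [Group Ω] {S : Subgroup Ω} [Finite S] (p : ℕ) [Fact p.Prime] (hS : IsPGroup p S)
    (F : Cfsg.FusionSystem S) (hF : F.IsSaturated p) (H : Subgroup Ω) (hH : F.IsEssential p H) (hcard : Nat.card H = p ^ 4) :
    Cfsg.IsElementaryAbelian p H ∨
      Nonempty (↥H ≃* Multiplicative (ZMod (p ^ 2) × ZMod p × ZMod p)) ∨
      ((p = 2 ∨ p = 3) ∧ Nonempty (↥H ≃* Multiplicative (ZMod (p ^ 2) × ZMod (p ^ 2)))) ∨
      (Odd p ∧ ∃ (E : Type) (_ : Group E) (_ : Finite E), Cfsg.IsExtraspecial p E ∧ Nat.card E = p ^ 3 ∧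
        (∀ x : E, x ^ p = 1) ∧ Nonempty (↥H ≃* E × Multiplicative (ZMod p))) ∨
      (p = 2 ∧ Nonempty (↥H ≃* QuaternionGroup 2 × Multiplicative (ZMod 2))) ∨
      (¬ IsMulCommutative ↥H ∧ (∀ x ∈ H, x ^ (p ^ 2) = 1) ∧ IsCyclic ↥(Subgroup.center ↥H) ∧
        Nat.card (Subgroup.center ↥H) = p ^ 2) := by
  have : Finite H := Finite.of_injective _ (Subgroup.inclusion_injective hH.1.1)
  have hp : p.Prime := Fact.out
  have h := ess_of_essential hS hF hH
  have hG : IsPGroup p H := .of_card hcard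
  rcases AC.comm_or H with hab | hna
  · obtain ⟨i, hi, e1, e2⟩ := h.card_frattini hcard
    obtain rfl | rfl | rfl : i = 0 ∨ i = 1 ∨ i = 2 := by omega
    · refine Or.inl ⟨⟨⟨hab⟩⟩, fun x hx => ?_⟩
      have h1 := Grp.PFrattini.pow_mem_frattini hG ⟨x, hx⟩
      rw [Subgroup.card_eq_one.1 e1, Subgroup.mem_bot] at h1
      exact congrArg Subtype.val h1
    · let : CommGroup H := { (inferInstance : Group H) with mul_comm := hab }
      obtain ⟨e⟩ := AC.equiv_of_fourth_comm hcard (by simpa using e1)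
      exact Or.inr (Or.inl ⟨e.symm⟩)
    · obtain ⟨e, -, ⟨E⟩, h2, -, h4⟩ := h.homocyclic hG hab e2.le
      obtain rfl : e = 2 := by
        have := Nat.pow_right_injective hp.two_le (hcard.symm.trans h4)
        omega
      refine Or.inr (Or.inr (Or.inl ⟨?_, ⟨E.symm⟩⟩))
      have := hp.two_le
      omega
  · obtain ⟨h1, h2⟩ := h.fourth_nonab hcard hna
    have hcZ : Nat.card (Subgroup.center H) = p ^ 2 := by
      have := (Subgroup.center H).card_mul_index
      rw [h2, hcard, show p ^ 4 = p ^ 2 * p ^ 2 by ring] at this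
      exact Nat.eq_of_mul_eq_mul_right (pow_pos hp.pos 2) this
    have hΦ : ∀ x : H, (x ^ p) ^ p = 1 := fun x => by
      have := pow_card_eq_one' (x := (⟨_, Grp.PFrattini.pow_mem_frattini hG x⟩ : frattini H))
      rw [h1] at this
      exact congrArg Subtype.val this
    by_cases hcyc : IsCyclic (Subgroup.center H)
    · refine Or.inr (Or.inr (Or.inr (Or.inr (Or.inr ⟨fun hc => ?_, fun x hx => ?_, hcyc, hcZ⟩))))
      · obtain ⟨x, y, hxy⟩ := hna
        exact hxy (commutatorElement_eq_one_iff_mul_comm.2 (hc.is_comm.comm x y))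
      · rw [pow_two, pow_mul]
        exact congrArg Subtype.val (hΦ ⟨x, hx⟩)
    have hexp : ∀ w ∈ Subgroup.center H, w ^ p = 1 := fun w hw => by
      by_contra hne
      refine hcyc (isCyclic_of_orderOf_eq_card (⟨w, hw⟩ : Subgroup.center H) ?_)
      rw [hcZ, ← Subgroup.orderOf_coe]
      exact orderOf_eq_prime_pow (by rwa [pow_one]) (by rw [pow_succ, pow_one, pow_mul, hΦ])
    have hle := Grp.PChain.le_center_of_card_eq_prime hG _ h1
    have hrel : (frattini H).relIndex (Subgroup.center H) ∣ p := by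
      have h3 := Subgroup.relIndex_mul_index hle
      have h4 := (frattini H).card_mul_index
      rw [h1, ← h3, h2, hcard, show p ^ 4 = p * (p * p ^ 2) by ring] at h4
      exact (Nat.eq_of_mul_eq_mul_right (pow_pos hp.pos 2)
        (Nat.eq_of_mul_eq_mul_left hp.pos h4)).dvd
    rcases h.nonab_core hG h2 h1 hrel hexp with ⟨h3, h4⟩ | ⟨rfl, x, y, hx, hy, hxy⟩
    · obtain ⟨x, y, hxy⟩ := hna
      obtain ⟨K, hx, hy, hK, ⟨e⟩⟩ := AC.exists_split_fourth hcard h2 hexp h1 hxy
      let φ : Shrink.{0} K ≃* K := Shrink.mulEquiv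
      have : Finite (Shrink.{0} K) := Finite.of_equiv _ φ.symm.toEquiv
      have hc : Nat.card (Shrink.{0} K) = p ^ 3 := (Nat.card_congr φ.toEquiv).trans hK
      refine Or.inr (Or.inr (Or.inr (Or.inl ⟨h3, Shrink.{0} K, inferInstance, this,
        AC.isExtraspecial_of_cube hc ⟨φ.symm ⟨x, hx⟩, φ.symm ⟨y, hy⟩, fun h => hxy ?_⟩, hc,
        fun g => φ.injective (Subtype.ext (by simpa using h4 (φ g))),
        ⟨e.trans (φ.symm.prodCongr (.refl _))⟩⟩)))
      rw [← map_commutatorElement, map_eq_one_iff _ φ.symm.injective] at h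
      exact congrArg Subtype.val h
    · obtain ⟨K, hx', hy', hK, ⟨e⟩⟩ := AC.exists_split_fourth hcard h2 hexp h1 hxy
      obtain ⟨φ⟩ := AC.nonempty_equiv_Q8 hK (x := ⟨x, hx'⟩) (y := ⟨y, hy'⟩)
        (fun h => hx (congrArg Subtype.val h)) (fun h => hy (congrArg Subtype.val h))
        (fun h => hxy (congrArg Subtype.val h))
      exact Or.inr (Or.inr (Or.inr (Or.inr (Or.inl ⟨rfl, ⟨e.trans (φ.prodCongr (.refl _))⟩⟩))))

end Cfsg.Agent.S5188
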