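import Cfsg.Statements.S5192
import Mathlib
import Cfsg.Agent.Fus.Transfer
import Cfsg.Agent.Transfer.ThompsonTransfer


set_option autoImplicit false
open Cfsg

namespace Cfsg.Agent.S5192

open MulAction Cfsg.Agent.Fus Cfsg.Agent.Transfer Cfsg.Agent.Transfer.Cocycle Cfsg.FusionSystem

theorem eq_or {G : Type*} [Group G] [Finite G] {j y : G} (hj : orderOf j = 2) (hy : y ∈ Subgroup.zpowers j) :
    y = 1 ∨ y = j := by
  classical
  rw [mem_zpowers_iff_mem_range_orderOf, hj] at hy
  obtain ⟨k, hk, rfl⟩ := Finset.mem_image.1 hy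
  have := Finset.mem_range.1 hk
  interval_cases k <;> simp


/-- A Thompson-type transfer for saturated fusion systems. Let F be a saturated fusion system on a finite 2-group S, T a subgroup of S of index 2, and i an involution of S such that every fully normalized F-conjugate of i lies in S but outside T. Then i does not lie in the hyperfocal subgroup of F (the Sylow group of the 2-residual subsystem). -/
theorem result {Ω : Type*} [Group Ω] [Finite Ω] {S : Subgroup Ω}
    (hS : IsPGroup 2 ↥S) (F : Cfsg.FusionSystem S) (hF : F.IsSaturated 2)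
    (T : Subgroup Ω) (hTS : T ≤ S) (hT : T.relIndex S = 2)
    (i : Ω) (hi : i ∈ S) (hi2 : orderOf i = 2)
    (h : ∀ j : Ω, F.IsConjElt i j → F.IsFullyNormalized (Subgroup.zpowers j) → j ∉ T) :
    i ∉ F.hyperfocalSubgroup 2 := by
  classical
  intro hmem
  obtain ⟨Q, hQ, hQn⟩ := exists_fullyNormalized F (Subgroup.zpowers_le.2 hi)
  obtain ⟨f, hf, rfl⟩ := isConj_iff.1 hQ
  have himg : ∀ {P : Subgroup Ω} {g : Ω → Ω} {x : Ω}, IsMap F P g → x ∈ P →
      img (Subgroup.zpowers x) g = Subgroup.zpowers (g x) := by
    intro P g x hg hx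
    refine img_eq_of ?_ ?_
    · rintro _ ⟨k, rfl⟩
      exact ⟨k, (hg.map_zpow hx k).symm⟩
    · rintro _ ⟨k, rfl⟩
      exact ⟨_, ⟨k, rfl⟩, hg.map_zpow hx k⟩
  rw [himg hf (Subgroup.mem_zpowers i)] at hQn
  have hjS := hf.mem (Subgroup.mem_zpowers i)
  have hj2 : orderOf (f i) = 2 := (hf.orderOf_eq (Subgroup.mem_zpowers i)).trans hi2
  have hjf : f i ∈ F.focalSubgroup := hyp_le_focal F 2
    (hf.mem_of_stronglyClosed (stronglyClosed_hyp hS hF) (Subgroup.mem_zpowers i) hmem)
  obtain ⟨X, _, _, c, hX, hc, hgen, hfoc⟩ := exists_transfer_cocycle_sat hS hF (signHom hT)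
  let j : S := ⟨f i, hjS⟩
  have hjj : j ^ 2 = 1 := Subtype.ext (by
    change f i ^ 2 = 1
    rw [← hj2, pow_orderOf_eq_one])
  let N : Subgroup S := (normalizerIn S (Subgroup.zpowers (f i))).subgroupOf S
  have hN : IsPGroup 2 N := hS.to_subgroup N
  have hcomm : ∀ n : N, (n : S) * j = j * n := by
    intro n
    rcases eq_or hj2 (conj_mem_of_mem_normalizerIn n.2 (Subgroup.mem_zpowers (f i))) with h1 | h1
    · rw [conj_eq_one_iff] at h1
      rw [h1, orderOf_one] at hj2
      omega
    · exact Subtype.ext (mul_inv_eq_iff_eq_mul.1 h1)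
  have hjN : j ∈ N := le_normalizerIn (Subgroup.zpowers_le.2 hjS) (Subgroup.mem_zpowers _)
  have h1 := hfoc j hjf
  rw [← Finset.prod_filter_mul_prod_filter_not Finset.univ (fun x => j • x = x),
    hc.prod_eq_one (Y := Finset.univ.filter fun x => ¬ j • x = x), mul_one,
    ← Finset.prod_filter_mul_prod_filter_not _ (fun x => x ∈ fixedPoints N X)] at h1
  · have h2 : ∏ x ∈ (Finset.univ.filter fun x => j • x = x).filter
        (fun x => ¬ x ∈ fixedPoints N X), c j x = 1 := by
      by_contra hne
      obtain ⟨q, hq, hq'⟩ := exists_orbit_prod_ne_one (G := N) (fun g x hx => by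
        simp only [Finset.mem_filter, Finset.mem_univ, true_and] at hx ⊢
        refine ⟨?_, fun h => hx.2 ?_⟩
        · change j • (g : S) • x = (g : S) • x
          rw [smul_smul, ← hcomm, mul_smul, hx.1]
        · have := h g⁻¹
          rw [inv_smul_smul] at this
          rwa [this]) hne
      simp only [Finset.mem_filter, Finset.mem_univ, true_and] at hq
      apply hq'
      rw [Finset.prod_congr rfl (g := fun _ => c j q), Finset.prod_const]
      · obtain ⟨k, hk⟩ := hN.card_orbit q
        rw [Nat.card_eq_fintype_card, Fintype.card_subtype] at hk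
        rw [hk]
        rcases k with _ | k
        · exact absurd (mem_fixedPoints_iff_card_orbit_eq_one.2
            (by rw [Fintype.card_subtype, hk, pow_zero])) hq.2
        · rw [pow_succ', pow_mul, Int.units_sq, one_pow]
      · intro x hx
        obtain ⟨g, rfl⟩ := (Finset.mem_filter.1 hx).2
        have h3 := hc j g q
        rw [← hcomm, hc, hq.1, mul_comm] at h3
        exact (mul_right_cancel h3).symm
    rw [h2, mul_one, Finset.prod_congr rfl (g := fun _ => -1), Finset.prod_const,
      Odd.neg_one_pow] at h1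
    · exact absurd h1 (by decide)
    · have h4 := hN.card_modEq_card_fixedPoints X
      rw [Nat.card_eq_fintype_card, Nat.card_eq_fintype_card, Fintype.card_subtype] at h4
      have h5 : (Finset.univ.filter fun x => j • x = x).filter (fun x => x ∈ fixedPoints N X) =
          Finset.univ.filter (fun x => x ∈ fixedPoints N X) := by
        ext x
        simp only [Finset.mem_filter, Finset.mem_univ, true_and]
        exact ⟨fun h => h.2, fun h => ⟨h ⟨j, hjN⟩, h⟩⟩
      rw [h5, Nat.odd_iff, ← h4]
      omega
    · intro x hx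
      simp only [Finset.mem_filter, Finset.mem_univ, true_and] at hx
      obtain ⟨P, g, hg, h6⟩ := hgen x
      obtain ⟨hy, e⟩ := h6 j hx.1
      rw [e]
      apply signHom_of_not_mem
      have hNP : normalizerIn S (Subgroup.zpowers (f i)) ≤ P := fun y hy =>
        (h6 ⟨y, hy.1⟩ (hx.2 ⟨⟨y, hy.1⟩, hy⟩)).1
      have h7 := (hg.mono hNP).fullyNormalized_img hQn
      rw [himg hg hy] at h7
      refine h _ ?_ h7
      exact (hg.comp' hf fun y hy' => by
        obtain ⟨k, rfl⟩ := hy'
        rw [hf.map_zpow (Subgroup.mem_zpowers i)]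
        exact P.zpow_mem hy k).isConjElt (Subgroup.mem_zpowers i)
  · intro x hx
    simp only [Finset.mem_filter, Finset.mem_univ, true_and] at hx ⊢
    rwa [smul_left_cancel_iff]
  · intro x hx
    simp only [Finset.mem_filter, Finset.mem_univ, true_and] at hx
    have h8 : period j x ∣ 2 := pow_smul_eq_iff_period_dvd.1 (by rw [hjj, one_smul])
    rcases (Nat.dvd_prime Nat.prime_two).1 h8 with h9 | h9
    · exact absurd (period_eq_one_iff.1 h9) hx
    · rw [h9, hjj, hc.one]

end Cfsg.Agent.S5192
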