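import Cfsg.Statements.S5207
import Cfsg.Agent.RV.Fus
import Cfsg.Agent.RV.Mod13
import Cfsg.Agent.RV.Mod3
import Cfsg.Agent.RV.ModL
import Cfsg.Agent.RV.Mod5

set_option autoImplicit false
open Cfsg

namespace Cfsg.Agent.S5207

open Cfsg.Agent.RV Cfsg.Agent.Fus Matrix

/-- A finite group with coordinates on a Sylow subgroup such that `P` holds. -/
def Mdl (p : ℕ) (P : (M2 p → Prop) → (V2 p → Prop) → Prop) : Prop :=
  ∃ (G : Type) (_ : Group G) (_ : Finite G) (T : Sylow p G) (u : V2 p → ZMod p → G), Co T u ∧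
    P (WF (groupFusionSystem (T : Subgroup G)) u) (EF (groupFusionSystem (T : Subgroup G)) u)

theorem Mdl.res {p : ℕ} [Fact p.Prime] (hp : (2 : ZMod p) ≠ 0) {P Q : (M2 p → Prop) → (V2 p → Prop) → Prop}
    (h : Mdl p P) (k : ∀ W E, Dat W E → P W E → Res Q W E) : Mdl p Q := by
  obtain ⟨G, _, _, T, u, h1, h2⟩ := h
  obtain ⟨B, B', -, h3, h4⟩ := h1.res (k _ _ (h1.dat hp (isSaturated_group T)) h2)
  exact ⟨G, _, ‹_›, T, _, h3, h4⟩

theorem mdl_three {p : ℕ} [Fact p.Prime] (h : ∃ (G : Type) (_ : Group G) (_ : Finite G) (u : V2 p → ZMod p → G),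
    Hs u ∧ ¬ p ^ 4 ∣ Nat.card G ∧ Three (Fz u)) : Mdl p fun _ E => Three E := by
  obtain ⟨G, _, _, u, h1, h2, h3⟩ := h
  obtain ⟨T, hT⟩ := h1.exists_sylow h2
  exact ⟨G, _, ‹_›, T, u, hT, by rwa [funext fun v => propext (hT.EF_group v)]⟩

theorem mdl3 : (Mdl 3 fun W E => NF 1 0 2 W E ∧ ∀ A, W A → A 0 0 * A 0 1 = 0) ∧
    Mdl 3 fun W E => NF 1 0 2 W E ∧ ∃ A, W A ∧ A 0 0 * A 0 1 ≠ 0 := by
  obtain ⟨G, _, _, N, u, h1, h2, h3, h4, h5, g, h6, h7⟩ := mod3
  have hp : (2 : ZMod 3) ≠ 0 := by decide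
  have m : ∀ v c, u v c ∈ N := fun v c => by
    convert N.mul_self_mem_of_index_two h3 (u v c ^ 2) using 1
    rw [← pow_add, h1.pow, show ((2 + 2 : ℕ) : ZMod 3) = 1 from rfl, one_smul, one_mul]
  let w : V2 3 → ZMod 3 → N := fun v c => ⟨u v c, m v c⟩
  have hw : Hs w := ⟨fun _ _ _ _ => Subtype.ext (h1.mul ..), fun _ _ e => h1.inj _ _ (congrArg Subtype.val e)⟩
  obtain ⟨T, hT⟩ := h1.exists_sylow h2
  obtain ⟨R, hR⟩ := hw.exists_sylow fun k => h2 (k.trans N.card_subgroup_dvd_card)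
  have d := hT.dat hp (isSaturated_group T)
  have d' := hR.dat hp (isSaturated_group R)
  have k1 : ∀ A, WF (groupFusionSystem (R : Subgroup N)) w A → WF (groupFusionSystem (T : Subgroup G)) u A := by
    simp only [hT.WF_group hp, hR.WF_group hp]
    exact fun A ⟨n, e⟩ => ⟨n, fun v c => (e v c).imp fun _ => congrArg Subtype.val⟩
  have k2 : ∀ v, EF (groupFusionSystem (R : Subgroup N)) w v ↔ EF (groupFusionSystem (T : Subgroup G)) u v := by
    simp only [hT.EF_group, hR.EF_group]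
    refine fun v => ⟨fun ⟨c, k, e⟩ => ⟨c, k, N.subtype.map_isConj e⟩, fun ⟨c, k, e⟩ => ?_⟩
    obtain ⟨s, e⟩ := isConj_iff.1 e
    by_cases hs : s ∈ N
    · exact ⟨c, k, isConj_iff.2 ⟨⟨s, hs⟩, Subtype.ext e⟩⟩
    · obtain ⟨k', e'⟩ := h7 0 k
      refine ⟨c, k', isConj_iff.2 ⟨⟨g * s, (N.mul_mem_iff_of_index_two h3).2 (iff_of_false h6 hs)⟩, Subtype.ext ?_⟩⟩
      rw [mulVec_zero, ← e] at e'
      simpa [mul_assoc] using e'
  have a := (hT.WF_group hp _).2 ⟨g, h7⟩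
  have k3 : ¬ WF (groupFusionSystem (R : Subgroup N)) w !![0, 1; 1, 1] := fun ⟨f, f1, f2⟩ => by
    obtain ⟨-, -, n, f3⟩ := isMap_group_iff.1 f1
    obtain ⟨A, s, -, f4⟩ := hT.canon hp (F := groupFusionSystem (T : Subgroup G)) (f := fun x => g * x * g⁻¹)
      (isMap_group_iff.2 ⟨le_rfl, fun x hx => by
        obtain ⟨v, c, rfl⟩ := hT.mem.1 hx
        exact (h7 v c).elim fun _ e => e ▸ hT.mem' .., g, fun _ _ => rfl⟩)
    obtain rfl : !![0, 1; 1, 1] = A :=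
      ext_iff_mulVec.2 fun v => (h7 v 0).elim fun d e => (h1.eq_iff.1 (e.symm.trans (f4 v 0))).1
    refine h6 ((N.mul_mem_cancel_left (inv_mem (mul_mem n.2 (m s 0)))).1 (h4 _ fun v c => ?_))
    have := (f4 v c).trans (congrArg Subtype.val ((f2 v _).symm.trans (f3 _ (hR.mem' ..))))
    simp only [w, Subgroup.coe_mul, Subgroup.coe_inv, ← h1.conj s v 0] at this
    rw [Commute, SemiconjBy, mul_assoc, mul_inv_eq_iff_eq_mul.1 this]
    group
  have e1 := (hT.EF_group _).2 h5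
  obtain ⟨B, B', hB, n⟩ := d'.nf3 ⟨![1, 0], _, _, (k2 _).2 e1, (k2 _).2 (d.act a e1),
    (k2 _).2 (d.act a (d.act a e1)), by decide, by decide, by decide⟩
  have n' : NF 1 0 2 (fun A => WF (groupFusionSystem (T : Subgroup G)) u (B * A * B'))
      fun v => EF (groupFusionSystem (T : Subgroup G)) u (B *ᵥ v) :=
    ⟨(k2 _).1 n.1, (k2 _).1 n.2.1, k1 _ n.2.2.1, k1 _ n.2.2.2⟩
  have e2 : ∀ A : M2 3, B * (B' * A * B) * B' = A := fun A => by simp [← mul_assoc, hB, mul_assoc _ B]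
  have k4 := not_or.1 fun H => k3 ((congrArg _ (e2 _)).mp
    ((d.chg hB).le3 (d'.chg hB) n' n H (A := B' * !![0, 1; 1, 1] * B) (by rwa [e2])))
  refine ⟨⟨N, _, inferInstance, R, _, hR.chg hB, ?_⟩, G, _, ‹_›, T, _, hT.chg hB, ?_⟩ <;>
    rw [WF_chg _ _ hB, EF_chg _ _ hB]
  · exact ⟨n, fun A a => by_contra fun e => k4.2 ⟨A, a, e⟩⟩
  · exact ⟨n', by simpa using k4.1⟩



/-- Let p be an odd prime other than 7 and S a finite p-group that is extraspecial of order p³ and exponent p. Then every saturated fusion system over S is realizable: it is the fusion system of some finite group on a Sylow p-subgroup. -/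
theorem result {Ω : Type*} [Group Ω] {S : Subgroup Ω} [Finite S] (p : ℕ) [Fact p.Prime] (hS : IsPGroup p S) (F : Cfsg.FusionSystem S) (hF : F.IsSaturated p) (hp : p ≠ 2) (hp7 : p ≠ 7) (hE : Cfsg.IsExtraspecial p ↥S) (hcard : Nat.card S = p ^ 3) (hexp : Monoid.exponent ↥S = p) : F.IsRealizable p := by
  have h2 : (2 : ZMod p) ≠ 0 := Ring.two_ne_zero (by rwa [ZMod.ringChar_zmod_n])
  obtain ⟨u, h⟩ : ∃ u : V2 p → ZMod p → Ω, Co S u := by
    obtain ⟨x, y, e⟩ : ∃ x y : S, x⁻¹ * y⁻¹ * x * y ≠ 1 := by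
      by_contra! hc
      have : Subgroup.center S = ⊤ := eq_top_iff.2 fun x _ => Subgroup.mem_center_iff.2 fun y => by
        rw [← mul_one (x * y), ← hc y x]; group
      have h3 := hE.2
      rw [this, Subgroup.card_top, hcard] at h3
      exact absurd (Nat.pow_right_injective (Fact.out : p.Prime).two_le (h3.trans (pow_one p).symm)) (by decide)
    have k := Subgroup.mem_center_iff.1 (hE.1.2.2.le (Subgroup.commutator_mem_commutator
      (Subgroup.mem_top x⁻¹) (Subgroup.mem_top y⁻¹)))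
    simp only [commutatorElement_def, inv_inv] at k
    exact exists_co h2 hcard.le (fun s hs => congrArg Subtype.val (hexp ▸ Monoid.pow_exponent_eq_one (⟨s, hs⟩ : S)))
      x.2 y.2 (fun a => e (Subtype.ext a)) (congrArg Subtype.val (k x)) (congrArg Subtype.val (k y))
  have key : ∀ {P : (M2 p → Prop) → (V2 p → Prop) → Prop}, Res P (WF F u) (EF F u) →
      (∀ W E, Dat W E → P W E → ∃ Q, Mdl p Q ∧ ∀ W' E', Dat W' E' → Q W' E' →
        ((∀ A, W A → W' A) ∧ ∀ v, E v → E' v) ∧ (∀ A, W' A → W A) ∧ ∀ v, E' v → E v) → F.IsRealizable p := by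
    intro P k1 k2
    obtain ⟨B, B', -, h3, h4⟩ := h.res k1
    obtain ⟨Q, ⟨G, _, _, T, w, h5, h6⟩, h7⟩ := k2 _ _ (h3.dat h2 hF) h4
    exact (h7 _ _ (h5.dat h2 (isSaturated_group T)) h6).elim (h3.real h2 hF h5)
  have d := h.dat h2 hF
  rcases d.cases with ⟨v, hv, k⟩ | k | ⟨B, B', hB, k⟩
  · exact h.real_one h2 hF hv k
  · rcases d.small hp hp7 k with rfl | rfl | rfl
    · refine key (d.nf3 k) fun W E d n => ?_
      by_cases m : ∀ A, W A → A 0 0 * A 0 1 = 0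
      · exact ⟨_, mdl3.1, fun W' E' d' n' => ⟨⟨fun A => d.le3 d' n n'.1 (.inl m), fun v _ => d'.all3 n'.1 v⟩,
          fun A => d'.le3 d n'.1 n (.inl n'.2), fun v _ => d.all3 n v⟩⟩
      · exact ⟨_, mdl3.2, fun W' E' d' n' => ⟨⟨fun A => d.le3 d' n n'.1 (.inr n'.2), fun v _ => d'.all3 n'.1 v⟩,
          fun A => d'.le3 d n'.1 n (.inr (by simpa using m)), fun v _ => d.all3 n v⟩⟩
    · exact key (d.nf5 k) fun W E d n => ⟨_, (mdl_three mod5).res h2 fun _ _ => Dat.nf5,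
        fun W' E' d' n' => ⟨d.le5 d' n n', d'.le5 d n' n⟩⟩
    · exact key (d.nf13 k) fun W E d n => ⟨_, (mdl_three mod13).res h2 fun _ _ => Dat.nf13,
        fun W' E' d' n' => ⟨d.le13 d' n n', d'.le13 d n' n⟩⟩
  · obtain ⟨D, σ, hD, k⟩ := (d.chg hB).two k
    obtain ⟨G, _, _, w, h3, h4, h5, h6⟩ := modL p hp D hD σ
    obtain ⟨T, hT⟩ := h3.exists_sylow h4
    refine key (Res.trans ⟨B, B', hB, k⟩) fun W E _ n => ⟨fun W' E' => (∀ A, W' A ↔ LW D σ A) ∧
      ∀ v, E' v ↔ v 0 = 0 ∨ v 1 = 0, ⟨G, _, ‹_›, T, w, hT, fun A => (hT.WF_group h2 A).trans (h5 A),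
        fun v => (hT.EF_group v).trans (h6 v)⟩, fun W' E' _ n' => ?_⟩
    simp [n.1, n.2, n'.1, n'.2]

end Cfsg.Agent.S5207
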