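import Cfsg.Statements.S5210
import Cfsg.Agent.U4F.Mat2
import Cfsg.Agent.U4K.Fin
import Cfsg.Agent.U4T.Fin

set_option autoImplicit false
open Cfsg

namespace Cfsg.Agent.S5210

theorem g3_of {K : Type*} [Field K] [U5F.Cj K] (h : 3 < U5F.Cj.q K) : U4F.G3 K := by
  classical
  obtain ⟨θ, h0, hθ⟩ := U4F.exists_pure (K := K)
  by_contra c
  have hle : Nat.card {b : K // U5F.σ b = -b} ≤ Nat.card (Fin 3) := by
    refine Nat.card_le_card_of_surjective (fun i => (![⟨0, by simp⟩, ⟨θ, hθ⟩, ⟨-θ, by simp [hθ]⟩] i)) fun ⟨b, hb⟩ => ?_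
    by_cases h1 : b = 0
    · exact ⟨0, Subtype.ext h1.symm⟩
    have h2 : (b / θ) ^ 2 = 1 := by
      by_contra h2
      exact c ⟨b / θ, by rw [map_div₀, hb, hθ, neg_div_neg_eq], div_ne_zero h1 h0, h2⟩
    rw [div_pow, div_eq_one_iff_eq (pow_ne_zero 2 h0), sq_eq_sq_iff_eq_or_eq_neg] at h2
    rcases h2 with h2 | h2
    exacts [⟨1, Subtype.ext h2.symm⟩, ⟨2, Subtype.ext h2.symm⟩]
  rw [U4F.card_pure, Nat.card_eq_fintype_card, Fintype.card_fin] at hle
  omega

/-- Let p be a prime, K a finite field with q² elements where q = pⁿ (n ≥ 1), and S a finite p-group isomorphic to a Sylow p-subgroup of the projective special unitary group PSU₄(q) realised over K. Then every saturated fusion system F over S with no nontrivial normal subgroup (O_p(F) = 1) is realizable: it is the fusion system of a finite group on a Sylow p-subgroup. -/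
theorem result {Ω : Type*} [Group Ω] {S : Subgroup Ω} [Finite S] (p : ℕ) [Fact p.Prime] (hS : IsPGroup p S) (F : Cfsg.FusionSystem S) (hF : F.IsSaturated p) {K : Type*} [Field K] [Fintype K] [CharP K p] (n : ℕ) (hn : 1 ≤ n) (hK : Fintype.card K = (p ^ n) ^ 2) (T : Sylow p (Cfsg.PSU 4 K (p ^ n))) (e : ↥S ≃* ↥(T : Subgroup (Cfsg.PSU 4 K (p ^ n)))) (hcore : F.core = ⊥) : F.IsRealizable p := by
  letI : U5F.Cj K := ⟨p ^ n, Class.U.UF.of_card hK⟩
  obtain ⟨f⟩ := U4F.exists_syl (K := K) (p := p) T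
  obtain ⟨F', a, b, h⟩ := SpF.exists_push F (e.trans f)
  refine SpF.isRealizable_of_push h ?_
  have hp : p.Prime := Fact.out
  have h2 : 2 ≤ p ^ n := U4F.two_le_q (K := K)
  by_cases q2 : p ^ n = 2
  · obtain rfl : p = 2 := ((Nat.prime_two.pow_eq_iff).1 q2).1
    refine U4T.real_two q2 (h.saturated hF) ?_
    rw [← h.imX_core, hcore]
    exact (h.g.imX_eq_bot_iff bot_le).2 rfl
  by_cases q3 : p ^ n = 3
  · obtain rfl : p = 3 := ((Nat.prime_three.pow_eq_iff).1 q3).1
    exact U4K.real_three q3 (h.saturated hF)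
  exact U4F.isRealizable_U (g3_of (show 3 < p ^ n by omega)) (h.saturated hF)

end Cfsg.Agent.S5210
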