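import Cfsg.Statements.S5212
import Mathlib
import Cfsg.Agent.Grp.MetaAut
import Cfsg.Agent.Fus.EssTools
import Cfsg.Agent.S5235

set_option autoImplicit false
open Cfsg

namespace Cfsg.Agent.S5212

/-- Let S be a finite metacyclic 2-group that is not homocyclic abelian (a direct product of cyclic groups of one common order), not dihedral, not semidihedral and not generalized quaternion. Then every saturated fusion system over S is the inner fusion system of S. -/
theorem result {Ω : Type*} [Group Ω] {S : Subgroup Ω} [Finite S] (hS : IsPGroup 2 S) (F : Cfsg.FusionSystem S) (hF : F.IsSaturated 2) (hm : Cfsg.IsMetacyclic ↥S) (hh : ¬ ∃ n k : ℕ, Nonempty (↥S ≃* Multiplicative (Fin k → ZMod (2 ^ n)))) (hd : ¬ ∃ m : ℕ, Nonempty (↥S ≃* DihedralGroup m)) (hq : ¬ ∃ m : ℕ, Nonempty (↥S ≃* QuaternionGroup m)) (hsd : ¬ Cfsg.IsQuasiDihedral ↥S) : ∀ P : Subgroup Ω, F.Hom P = (Cfsg.innerFusionSystem S).Hom P := by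
  have hN := S5235.result 2 hS F hF S (Fus.stronglyClosed_top F) rfl hm hd hq hsd
  intro P
  rw [← Fus.eq_inner_of_isNormal_top hN (Fus.autGroup_top_le_inn hS hF fun α _ hc => ?_)]
  by_contra h1
  rcases Grp.MetaAut.main hS hm hc h1 with h | ⟨n, -, ⟨e⟩⟩
  · exact hq ⟨2, h⟩
  · exact hh ⟨n, 2, ⟨(e.trans (MulEquiv.prodMultiplicative _ _).symm).trans
      (AddEquiv.toMultiplicative (LinearEquiv.finTwoArrow ℤ (ZMod (2 ^ n))).toAddEquiv.symm)⟩⟩

end Cfsg.Agent.S5212
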