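import Cfsg.Statements.S5217
import Cfsg.Agent.Bicyc.Fwd
import Cfsg.Agent.Fus.Act

set_option autoImplicit false
open Cfsg

namespace Cfsg.Agent.S5217



/-- Let S be a finite bicyclic 2-group (S = ⟨x⟩⟨y⟩) that is not metacyclic. Then S supports a saturated fusion system other than its inner fusion system if and only if the commutator subgroup of S is cyclic. -/
theorem result {Ω : Type*} [Group Ω] {S : Subgroup Ω} [Finite S] (hS : IsPGroup 2 S) (hb : ∃ x y : ↥S, ∀ g : ↥S, ∃ i j : ℤ, g = x ^ i * y ^ j) (hm : ¬ Cfsg.IsMetacyclic ↥S) : (∃ F : Cfsg.FusionSystem S, F.IsSaturated 2 ∧ ¬ ∀ P : Subgroup Ω, F.Hom P = (Cfsg.innerFusionSystem S).Hom P) ↔ IsCyclic ↥(commutator ↥S) := by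
  obtain ⟨x, y, hb⟩ := hb
  obtain ⟨a, b, h, -⟩ := Fus.exists_gIso_of_equiv (Subgroup.topEquiv (G := S)).symm
  constructor
  · rintro ⟨F, hF, hne⟩
    obtain ⟨E, hE⟩ := Fus.exists_fIso F h
    exact Bicyc.cyclic_of_noninner hS hm hb (hE.saturated hF) fun e => hne fun P => by
      rw [hE.symm.eq_inner e]
  · intro hc
    obtain ⟨E, hE, hne⟩ := Bicyc.exists_noninner_of_cyclic hS hm hc hb
    obtain ⟨F, hF⟩ := Fus.exists_fIso E h.symm
    exact ⟨F, hF.saturated hE, fun e => hne (hF.symm.eq_inner (Fus.fs_ext e))⟩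


end Cfsg.Agent.S5217
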