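import Cfsg.Statements.S5218
import Mathlib
import Cfsg.Agent.Fus.ZClosure

set_option autoImplicit false
open Cfsg

namespace Cfsg.Agent.S5218

universe u

def topFun (Q : Type u) [Group Q] : Subgroup Q := ⊤

theorem induced_topFun {Ω : Type u} [Group Ω] (T : Subgroup Ω) : inducedFunctor topFun T = T := by
  rw [inducedFunctor, topFun, ← MonoidHom.range_eq_map, Subgroup.range_subtype]

theorem isCharPFunctor_topFun (p : ℕ) : IsCharPFunctor.{u} p topFun :=
  ⟨fun _ _ _ _ _ => top_ne_bot, fun _ _ _ _ _ _ φ => Subgroup.map_top_of_surjective _ φ.surjective⟩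

theorem goodClass_class (p c : ℕ) : Fus.GoodClass.{u} p
    (fun {_} _ {S} _ => S.lowerCentralSeries c = ⊥) (fun _ _ => True) where
  norm := fun _ _ h Q _ => le_bot_iff.1
    (h ▸ Subgroup.lowerCentralSeries_mono c (Fus.normalizerIn_le _ Q))
  sc := fun _ _ h _ _ => h
  quot := fun {_} _ {S} _ _ _ _ h _ _ _ _ _ θ _ hE => by
    rw [← Subgroup.top_subtype_lowerCentralSeries,
      Subgroup.map_eq_bot_iff_of_injective _ S.subtype_injective] at h
    rw [← Fus.IsFactor.range_eq hE, MonoidHom.range_eq_map, ← Subgroup.map_lowerCentralSeries, h,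
      Subgroup.map_bot]
  model := fun _ _ _ _ _ _ => trivial

/-- Let p be a prime, n a natural number, S a nontrivial finite p-group of nilpotence class at most n(p−1)+1, and F a saturated fusion system over S. Then the subgroup generated by the pⁿ-th powers of the elements of Z(S) is normal in F. -/
theorem result {Ω : Type*} [Group Ω] {S : Subgroup Ω} [Finite S] (p : ℕ) [Fact p.Prime] (hS : IsPGroup p S) (F : Cfsg.FusionSystem S) (hF : F.IsSaturated p) (n : ℕ) (hS1 : S ≠ ⊥) (hcl : Subgroup.lowerCentralSeries S (n * (p - 1) + 1) = ⊥) : F.IsNormal (Cfsg.powerClosure p n (S ⊓ Subgroup.centralizer (S : Set Ω))) := by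
  change F.IsNormal (powerClosure p n (FusionSystem.centralizerIn S S))
  have hV := Grp.Reg.powerClosure_le (p := p) n (FusionSystem.centralizerIn S S)
  have hVS := hV.trans inf_le_left
  have hn : S ≤ Subgroup.normalizer (powerClosure p n (FusionSystem.centralizerIn S S) : Set Ω) :=
    fun x hx => Subgroup.centralizer_le_normalizer _
      fun y hy => ((Fus.mem_centralizerIn.1 (hV hy)).2 x hx).symm
  refine Fus.isNormal_iff_isNMap.2 ⟨hVS, fun P f hf => Fus.isMap_nSys.1
    (Fus.sub_of_pow_center (isCharPFunctor_topFun p) (goodClass_class p _) n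
      (fun F hS h hc => ?_) F hS hF hcl S (Fus.nSys F _ hVS hn) (fun P f hf => ?_)
      (fun P f hf => Fus.isMap_nSys.2 hf.isNMap) P f hf)⟩
  · rw [induced_topFun]
    exact Fus.base_class hS h n hc
  · rw [induced_topFun] at hf
    obtain ⟨hP, g, hg, e, hi⟩ := hf
    have hPS : P ≤ S := hP.trans inf_le_left
    rw [sup_eq_right.2 hPS] at hg
    have := Fus.finite_of_le hVS
    refine (Fus.isMap_nSys.2 (Fus.isNMap_of_isMap hg hPS hVS (le_inf hPS (hPS.trans hn))
      ((hg.mono hVS).img_eq_self (Fus.HomOn.mem_of_closure (hg.homOn.mono hVS) ?_)))).congr e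
    rintro _ ⟨x, hx, rfl⟩
    rw [hg.map_pow hx.1]
    exact Grp.Reg.pow_mem_powerClosure (hg.mem_centralizerIn_of_img le_rfl hi hx.1 hx)

end Cfsg.Agent.S5218
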