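import Cfsg.Statements.S5219
import Mathlib
import Cfsg.Agent.S5218

set_option autoImplicit false
open Cfsg

namespace Cfsg.Agent.S5219

theorem pow_eq_one {e : ℕ} (G : Type*) [Group G] [Group.IsNilpotent G] :
    (∀ z ∈ Subgroup.center G, z ^ e = 1) → ∀ x : G, x ^ e ^ Group.nilpotencyClass G = 1 := by
  refine Group.nilpotent_center_quotient_ind (P := fun G _ _ => (∀ z ∈ Subgroup.center G, z ^ e = 1) →
    ∀ x : G, x ^ e ^ Group.nilpotencyClass G = 1) G (fun G _ _ _ x => Subsingleton.elim _ _) ?_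
  intro G _ _ ih h x
  rcases subsingleton_or_nontrivial G with _ | _
  · exact Subsingleton.elim _ _
  rw [Group.nilpotencyClass_eq_quotient_center_plus_one, pow_succ, pow_mul]
  refine h _ ((QuotientGroup.eq_one_iff _).1 (ih (fun z hz => ?_) (x : G ⧸ Subgroup.center G)))
  obtain ⟨y, rfl⟩ := QuotientGroup.mk_surjective z
  refine (QuotientGroup.eq_one_iff (y ^ e)).2 (Subgroup.mem_center_iff.2 fun g => ?_)
  have h1 : g⁻¹ * y * g * y⁻¹ ∈ Subgroup.center G := by
    rw [← QuotientGroup.eq_one_iff]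
    have := Subgroup.mem_center_iff.1 hz (g : G ⧸ Subgroup.center G)
    simp only [QuotientGroup.mk_mul, QuotientGroup.mk_inv]
    rw [mul_assoc _ (y : G ⧸ Subgroup.center G), ← this]
    group
  have h2 : (g⁻¹ * y * g) ^ e = y ^ e := by
    have h3 : g⁻¹ * y * g = (g⁻¹ * y * g * y⁻¹) * y := by group
    rw [h3, Commute.mul_pow (Subgroup.mem_center_iff.1 h1 y).symm, h _ h1, one_mul]
  have h4 : (g⁻¹ * y * g) ^ e = g⁻¹ * y ^ e * g := by
    simpa using conj_pow (a := g⁻¹) (b := y) (i := e)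
  rw [h4] at h2
  conv_lhs => rw [← h2]
  group

/-- Let p be a prime, n a natural number, S a nontrivial finite p-group of nilpotence class at most n(p−1)+1, and F a saturated fusion system over S with no nontrivial normal subgroup (O_p(F) = 1). Then S has exponent dividing p^(n²(p−1)+n). -/
theorem result {Ω : Type*} [Group Ω] {S : Subgroup Ω} [Finite S] (p : ℕ) [Fact p.Prime] (hS : IsPGroup p S) (F : Cfsg.FusionSystem S) (hF : F.IsSaturated p) (n : ℕ) (hS1 : S ≠ ⊥) (hcl : Subgroup.lowerCentralSeries S (n * (p - 1) + 1) = ⊥) (hcore : F.core = ⊥) : Monoid.exponent ↥S ∣ p ^ (n ^ 2 * (p - 1) + n) := by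
  have h1 := Fus.le_core (S5218.result p hS F hF n hS1 hcl)
  rw [hcore, le_bot_iff] at h1
  have := hS.isNilpotent
  have h2 := pow_eq_one (e := p ^ n) S fun z hz => Subtype.ext (by
    have : (z : Ω) ^ p ^ n ∈ powerClosure p n (S ⊓ Subgroup.centralizer (S : Set Ω)) :=
      Grp.Reg.pow_mem_powerClosure ⟨z.2, fun y hy =>
        congrArg Subtype.val (Subgroup.mem_center_iff.1 hz ⟨y, hy⟩)⟩
    rwa [h1, Subgroup.mem_bot] at this)
  rw [← Subgroup.top_subtype_lowerCentralSeries,
    Subgroup.map_eq_bot_iff_of_injective _ S.subtype_injective,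
    Subgroup.lowerCentralSeries_eq_bot_iff_nilpotencyClass_le] at hcl
  refine (Monoid.exponent_dvd_of_forall_pow_eq_one h2).trans ?_
  rw [← pow_mul]
  refine pow_dvd_pow p ((Nat.mul_le_mul_left n hcl).trans (le_of_eq (by ring)))

end Cfsg.Agent.S5219
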