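import Cfsg.Statements.S5258
import Cfsg.Agent.U5F.Fin

set_option autoImplicit false
open Cfsg

namespace Cfsg.Agent.S5258

/-- Let p be a prime, K a finite field with q² elements where q = pⁿ (n ≥ 1), and S a finite p-group isomorphic to a Sylow p-subgroup of the projective special unitary group PSU₅(q) realised over K. Then every saturated fusion system over S is realizable: it is the fusion system of a finite group on a Sylow p-subgroup. -/
theorem result {Ω : Type*} [Group Ω] {S : Subgroup Ω} [Finite S] (p : ℕ) [Fact p.Prime] (hS : IsPGroup p S) (F : Cfsg.FusionSystem S) (hF : F.IsSaturated p) {K : Type*} [Field K] [Fintype K] [CharP K p] (n : ℕ) (hn : 1 ≤ n) (hK : Fintype.card K = (p ^ n) ^ 2) (T : Sylow p (Cfsg.PSU 5 K (p ^ n))) (e : ↥S ≃* ↥(T : Subgroup (Cfsg.PSU 5 K (p ^ n)))) : F.IsRealizable p := by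
  letI : U5F.Cj K := ⟨p ^ n, Class.U.UF.of_card hK⟩
  obtain ⟨f⟩ := U5F.exists_syl (K := K) (p := p) T
  obtain ⟨F', a, b, h⟩ := SpF.exists_push F (e.trans f)
  exact SpF.isRealizable_of_push h (U5F.isRealizable_U (h.saturated hF))

end Cfsg.Agent.S5258
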