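import Cfsg.Statements.S5261
import Cfsg.Agent.D4F.QN
import Cfsg.Agent.D4F.QT
import Cfsg.Agent.D4F.LinR

set_option autoImplicit false
open Cfsg

namespace Cfsg.Agent.S5261

open Cfsg.Agent.D4F in
theorem inp (K : Type*) [Field K] [Tri K] : Inp K where
  ess _ H _ hE := ess_QR H.sat hE
  genQ _ H hE _ hα := (sq_of H.toNf hE fun _ => H.tor ⟨_, _, rfl⟩).gen H.ω hα
  genR _ H hE _ hα := genR (sr_of H.toNf hE).sa (sr_of H.toNf hE).lc H.ψ hα
  tor F H hQ hR :=
    have r := torR (sr_of H hR).sa H.form (sr_of H hR).lc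
    have q := sq_of H hQ r.1
    ⟨1, F, fIso_one F, H.form, q.tor, q.om, r.2⟩

/-- Let p be a prime, q = pⁿ (n ≥ 1), K a finite field with q³ elements, and S a finite p-group isomorphic to a Sylow p-subgroup of the twisted group ³D₄(q) realised over K. Then every saturated fusion system over S is realizable: it is the fusion system of a finite group on a Sylow p-subgroup. -/
theorem result {Ω : Type*} [Group Ω] {S : Subgroup Ω} [Finite S] (p : ℕ) [Fact p.Prime] (hS : IsPGroup p S) (F : Cfsg.FusionSystem S) (hF : F.IsSaturated p) {K : Type*} [Field K] [Fintype K] [CharP K p] (n : ℕ) (hn : 1 ≤ n) (hK : Fintype.card K = (p ^ n) ^ 3) (T : Sylow p ↥(Cfsg.Lie.twistedD4 K (p ^ n))) (e : ↥S ≃* ↥(T : Subgroup ↥(Cfsg.Lie.twistedD4 K (p ^ n)))) : F.IsRealizable p :=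
  D4F.result_of p F hF n hn hK T e (inp K)

end Cfsg.Agent.S5261
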