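import Cfsg.Statements.S5262
import Cfsg.Agent.RFS.Fin

set_option autoImplicit false
open Cfsg

namespace Cfsg.Agent.S5262

/-- Let m ≥ 0, K a finite field with 2^(2m+1) elements, and S a finite 2-group isomorphic to a Sylow 2-subgroup of the Ree group ²F₄(2^(2m+1)) realised over K (its defining field endomorphism being t ↦ t^(2^m); m = 0 gives ²F₄(2)). Then every saturated fusion system over S is realizable: it is the fusion system of a finite group on a Sylow 2-subgroup. -/
theorem result {Ω : Type*} [Group Ω] {S : Subgroup Ω} [Finite S] (hS : IsPGroup 2 S) (F : Cfsg.FusionSystem S) (hF : F.IsSaturated 2) {K : Type*} [Field K] [Fintype K] (m : ℕ) (hK : Fintype.card K = 2 ^ (2 * m + 1)) (T : Sylow 2 ↥(Cfsg.Lie.twistedF4 K (2 ^ m))) (e : ↥S ≃* ↥(T : Subgroup ↥(Cfsg.Lie.twistedF4 K (2 ^ m)))) : F.IsRealizable 2 := by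
  obtain ⟨_, L, n, M⟩ := Oct.exists_model' hK
  have : Finite (Cfsg.Lie.twistedF4 K (2 ^ m)) := inferInstance
  let T' : Sylow 2 ↥(Cfsg.Lie.twistedF4 K (2 ^ m)) :=
    (Oct.isPGroup_U.of_surjective _ L.N.rangeRestrict_surjective).toSylow M.card
  obtain ⟨F', a, b, h⟩ := SpF.exists_push F (e.trans ((T.equiv T').trans (MonoidHom.ofInjective L.inj).symm))
  exact SpF.isRealizable_of_push h (RFS.isRealizable_U (h.saturated hF))

end Cfsg.Agent.S5262
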