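import Cfsg.Statements.S5269
import Cfsg.Agent.Fus.MCNB
import Cfsg.Agent.Fus.FIso

set_option autoImplicit false
open Cfsg

namespace Cfsg.Agent.S5269

/-- Let p ≥ 5 be a prime, S a finite p-group of maximal class of order p^n with n ≥ 4, F a saturated fusion system over S, and E an F-essential subgroup that is normal in S. Then E has index p in S; moreover E is the two-step centralizer Γ₁ = C_S([S,S]/γ₄(S)) or E = C_S(Z₂(S)), unless S has order p^4 and E is extraspecial of order p³ and exponent p. -/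
theorem result {Ω : Type*} [Group Ω] {S : Subgroup Ω} [Finite S] (p : ℕ) [Fact p.Prime] (hS : IsPGroup p ↥S) (n : ℕ) (hn : Nat.card S = p ^ n) (h4 : 4 ≤ n) (hmax : Subgroup.lowerCentralSeries S (n - 2) ≠ ⊥) (F : Cfsg.FusionSystem S) (hF : F.IsSaturated p) (hp : 5 ≤ p) (Γ₁ : Subgroup Ω) (hΓ₁ : ∀ x : Ω, x ∈ Γ₁ ↔ x ∈ S ∧ ∀ y ∈ Subgroup.lowerCentralSeries S 1, x * y * x⁻¹ * y⁻¹ ∈ Subgroup.lowerCentralSeries S 3) (E : Subgroup Ω) (hE : F.IsEssential p E) (hEn : (E.subgroupOf S).Normal) : (E.subgroupOf S).index = p ∧ (E = Γ₁ ∨ E = (S ⊓ Subgroup.centralizer (((Subgroup.upperCentralSeries ↥S 2).map S.subtype) : Set Ω)) ∨ (n = 4 ∧ Nat.card ↥E = p ^ 3 ∧ Cfsg.IsExtraspecial p ↥E ∧ Monoid.exponent ↥E = p)) := by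
  obtain ⟨b, hb⟩ := Fus.gIso_of_injective (MonoidHom.id S) Function.injective_id
  rw [MonoidHom.range_eq_top.2 Function.surjective_id] at hb
  obtain ⟨F', hF'⟩ := Fus.exists_fIso F hb
  have hE' := hF'.essential hE
  have e0 : Fus.imX (Fus.hfn (MonoidHom.id S)) E = E.subgroupOf S := Subgroup.ext fun y => by
    have := hb.map_mem_imX_iff hE.1.1 y.2
    rwa [Fus.hfn_coe] at this
  rw [e0] at hE'
  have hM := (Fus.MC.isMC_iff hn (by omega)).2 hmax
  obtain ⟨c, hc⟩ := Fus.MCN.exists_NE hS (hF'.saturated hF) hE'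
  obtain ⟨h1, h2⟩ := hc.main hM hp h4
    (Fus.essential_lt (hS.to_subgroup _) (hF'.saturated hF) hE').ne
  have e1 : ∀ L : Subgroup S, E.subgroupOf S = L → E = L.map S.subtype := fun L e => by
    rw [← e, Subgroup.map_subgroupOf_eq_of_le hE.1.1]
  have e2 : ∀ k (y : S), y ∈ FGS.LcsLie.gam S k ↔ (y : Ω) ∈ S.lowerCentralSeries k := fun k y => by
    rw [← Subgroup.mem_map_iff_mem S.subtype_injective, Subgroup.map_lowerCentralSeries,
      ← MonoidHom.range_eq_map, Subgroup.range_subtype]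
    rfl
  have e := Subgroup.subgroupOfEquivOfLe hE.1.1
  refine ⟨h1, ?_⟩
  rcases h2 with h | h | ⟨h3, h4, h5, h6⟩
  · refine Or.inl ((e1 _ h).trans (Subgroup.ext fun x => ?_))
    rw [hΓ₁]
    constructor
    · rintro ⟨x, hx, rfl⟩
      exact ⟨x.2, fun y hy => (e2 3 _).1 (hx ⟨y, Subgroup.lowerCentralSeries_le_self S 1 hy⟩
        ((e2 1 _).2 hy))⟩
    · rintro ⟨hx, hx'⟩
      exact ⟨⟨x, hx⟩, fun y hy => (e2 3 _).2 (hx' y ((e2 1 _).1 hy)), rfl⟩
  · refine Or.inr (Or.inl ((e1 _ h).trans (Subgroup.ext fun x => ?_)))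
    rw [← hM.centralizer_ucs_two h4]
    constructor
    · rintro ⟨x, hx, rfl⟩
      refine ⟨x.2, ?_⟩
      rintro _ ⟨y, hy, rfl⟩
      exact congrArg Subtype.val (hx y hy)
    · rintro ⟨hx, hx'⟩
      exact ⟨⟨x, hx⟩, fun y hy => Subtype.ext (hx' y ⟨y, hy, rfl⟩), rfl⟩
  · have : Finite E := Fus.finite_of_le hE.1.1
    have hc := (Nat.card_congr e.toEquiv).symm.trans h4
    refine Or.inr (Or.inr ⟨h3, hc, Fus.AC.isExtraspecial_of_cube hc
      ((Fus.AC.comm_or E).resolve_left fun hab => ?_),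
      (Monoid.exponent_eq_of_mulEquiv e).symm.trans h6⟩)
    have := h5.2
    rw [show Subgroup.center (E.subgroupOf S) = ⊤ from eq_top_iff.2 fun x _ =>
      Subgroup.mem_center_iff.2 fun y => e.injective (by rw [map_mul, map_mul, hab]),
      Subgroup.card_top, h4] at this
    exact absurd (Nat.pow_right_injective (by omega) (this.trans (pow_one p).symm)) (by norm_num)

end Cfsg.Agent.S5269
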