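import Mathlib
import Cfsg.Statements.S5270
import Cfsg.Agent.Fus.Pearl
-- import your own Cfsg.Agent.* helpers here

set_option autoImplicit false
open Cfsg

namespace Cfsg.Agent.S5270

open Cfsg.Agent.Fus Cfsg.FusionSystem

/-- Let p ≥ 5 be a prime, S a finite p-group of maximal class of order p^n with n ≥ 4, and F a saturated fusion system over S. If some map of F defined on the second centre Z₂(S) with image Z₂(S) does not carry Z(S) into itself, then the centralizer C_S(Z₂(S)) is an F-essential subgroup. -/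
theorem result {Ω : Type*} [Group Ω] {S : Subgroup Ω} [Finite S] (p : ℕ) [Fact p.Prime] (hS : IsPGroup p ↥S) (n : ℕ) (hn : Nat.card S = p ^ n) (h4 : 4 ≤ n) (hmax : Subgroup.lowerCentralSeries S (n - 2) ≠ ⊥) (F : Cfsg.FusionSystem S) (hF : F.IsSaturated p) (hp : 5 ≤ p) (φ : ↥((Subgroup.upperCentralSeries ↥S 2).map S.subtype) →* Ω) (hφ : φ ∈ F.Hom ((Subgroup.upperCentralSeries ↥S 2).map S.subtype)) (hφZ : φ.range = ((Subgroup.upperCentralSeries ↥S 2).map S.subtype)) (hmove : ∃ (z : Ω) (hz : z ∈ ((Subgroup.upperCentralSeries ↥S 2).map S.subtype)), z ∈ ((Subgroup.center ↥S).map S.subtype) ∧ φ ⟨z, hz⟩ ∉ ((Subgroup.center ↥S).map S.subtype)) : F.IsEssential p (S ⊓ Subgroup.centralizer (((Subgroup.upperCentralSeries ↥S 2).map S.subtype) : Set Ω)) := by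
  have h := (MC.isMC_iff hn (by omega)).2 hmax
  change F.IsEssential p (centralizerIn S (ucs S 2))
  have e : (centralizerIn S (ucs S 2)).subgroupOf S = MC.K S (n - 3) := by
    rw [← h.centralizer_ucs_two h4]
    ext x
    refine ⟨fun hx y hy => Subtype.ext (hx.2 _ ⟨y, hy, rfl⟩), fun hx => ⟨x.2, ?_⟩⟩
    rintro _ ⟨y, hy, rfl⟩
    exact congrArg Subtype.val (hx y hy)
  have hle : ucs S 2 ≤ centralizerIn S (ucs S 2) := by
    rintro _ ⟨y, hy, rfl⟩
    rw [h.ucs_eq h4] at hy
    exact e.ge (MC.gam_one_le_K _ (FGS.LcsLie.gam_anti (by omega) hy))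
  have hf : IsMap F (ucs S 2) (fn φ) := isMap_fn hφ
  have hi : img (ucs S 2) (fn φ) = ucs S 2 := (range_eq_img φ fun x => (fn_coe φ x).symm).symm.trans hφZ
  obtain ⟨g, hg, e'⟩ := sat_extend_centralizer hS hF hf (by
    rw [hi]
    refine sat_fullyCentralized hS hF (fullyNormalized_of_le_normalizer F (ucs_le _ _) ?_)
    refine (Subgroup.normal_subgroupOf_iff_le_normalizer (ucs_le _ _)).1 ?_
    rw [ucs, Subgroup.subgroupOf, Subgroup.comap_map_eq_self_of_injective S.subtype_injective]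
    infer_instance)
  rw [sup_eq_right.2 hle] at hg
  obtain ⟨z, hz, hz1, hz2⟩ := hmove
  rw [map_center_eq] at hz1 hz2
  refine essential_of_move hS hF (centralizerIn_le _ _) ?_ hg
    (fun x hx => hg.mem_centralizerIn_of_img hle ((img_congr e').trans hi) hx hx) (hle hz) hz1 ?_
  · rw [Subgroup.relIndex, e, h.index_K (by omega) (by omega)]
  · rwa [e' z hz, fn_apply φ hz]

end Cfsg.Agent.S5270
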