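import Cfsg.Statements.S5272
import Mathlib
import Cfsg.Agent.Fus.AxZJ

set_option autoImplicit false
open Cfsg

namespace Cfsg.Agent.S5272

/-- An axiomatic Glauberman–Thompson nilpotency criterion for fusion systems. Let p be an odd prime, F a saturated fusion system over a finite p-group S, and 𝒜 a nonempty family of abelian subgroups of S. For Q ≤ S write I(Q) for the intersection of the members of 𝒜 contained in Q. Assume (invariance) that for every Q ≤ S containing a member of 𝒜, every F-automorphism of Q maps I(Q) into itself, and (replacement) that for every subgroup B of S of nilpotency class at most 2, if some member of 𝒜 contains [B,B] but not B, then B normalizes some member of 𝒜 that contains [B,B] but not B. Then F is the inner fusion system of S if and only if the normalizer fusion system of I(S) in F is the inner fusion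 system of N_S(I(S)). -/
theorem result {Ω : Type*} [Group Ω] {S : Subgroup Ω} [Finite S] (p : ℕ) [Fact p.Prime] (hS : IsPGroup p ↥S) (F : Cfsg.FusionSystem S) (hF : F.IsSaturated p) (hp : p ≠ 2) (𝒜 : Set (Subgroup Ω)) (h𝒜 : ∀ A ∈ 𝒜, A ≤ S ∧ IsMulCommutative ↥A) (hne : 𝒜.Nonempty) (hinv : ∀ Q : Subgroup Ω, Q ≤ S → (∃ A ∈ 𝒜, A ≤ Q) → ∀ α ∈ F.autGroup Q, ∀ x : ↥Q, (x : Ω) ∈ (⨅ A ∈ {A : Subgroup Ω | A ∈ 𝒜 ∧ A ≤ Q}, A) → (((α : MulAut ↥Q) x : ↥Q) : Ω) ∈ (⨅ A ∈ {A : Subgroup Ω | A ∈ 𝒜 ∧ A ≤ Q}, A)) (hrep : ∀ B : Subgroup Ω, B ≤ S → ⁅⁅B, B⁆, B⁆ = ⊥ → (∃ A ∈ 𝒜, ⁅B, B⁆ ≤ A ∧ ¬ B ≤ A) → ∃ A ∈ 𝒜, ⁅B, B⁆ ≤ A ∧ ¬ B ≤ A ∧ B ≤ Subgroup.normalizer (A : Set Ω)) : (∀ P : Subgroup Ω, F.Hom P = (Cfsg.innerFusionSystem S).Hom P) ↔ ∀ N : Cfsg.FusionSystem (Cfsg.FusionSystem.normalizerIn S (⨅ A ∈ 𝒜, A)), F.IsNormalizerSystem (⨅ A ∈ 𝒜, A) N → ∀ P : Subgroup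 Ω, N.Hom P = (Cfsg.innerFusionSystem (Cfsg.FusionSystem.normalizerIn S (⨅ A ∈ 𝒜, A))).Hom P := by
  simp only [← sInf_eq_iInf] at hinv
  rw [← sInf_eq_iInf]
  have hinv' : ∀ Q : Subgroup Ω, Q ≤ S → (∃ A ∈ 𝒜, A ≤ Q) → ∀ α ∈ F.autGroup Q, ∀ x,
      x ∈ sInf {A | A ∈ 𝒜 ∧ A ≤ Q} → Fus.afn α x ∈ sInf {A | A ∈ 𝒜 ∧ A ≤ Q} :=
    fun Q hQ ⟨A, hA, hAQ⟩ α hα x hx => by
      have hxQ : x ∈ Q := hAQ (sInf_le (show A ∈ {A | A ∈ 𝒜 ∧ A ≤ Q} from ⟨hA, hAQ⟩) hx)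
      rw [Fus.afn_apply α hxQ]
      exact hinv Q hQ ⟨A, hA, hAQ⟩ α hα ⟨x, hxQ⟩ hx
  obtain ⟨A₀, hA₀⟩ := id hne
  have h1 : sInf 𝒜 ≤ S := (sInf_le hA₀).trans (h𝒜 A₀ hA₀).1
  have h2 : S ≤ Subgroup.normalizer ((sInf 𝒜 : Subgroup Ω) : Set Ω) := by
    have e : {A | A ∈ 𝒜 ∧ A ≤ S} = 𝒜 := Set.ext fun A => ⟨fun h => h.1, fun h => ⟨h, (h𝒜 A h).1⟩⟩
    have := hinv S le_rfl ⟨A₀, hA₀, (h𝒜 A₀ hA₀).1⟩
    rw [e] at this
    have _ : Finite (sInf 𝒜 : Subgroup Ω) := Fus.finite_of_le h1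
    refine fun g hg => Subgroup.mem_normalizer_fintype fun x hx => ?_
    exact this (MulAut.conj (⟨g, hg⟩ : S)) (Fus.inn_le_autGroup F le_rfl ⟨_, rfl⟩) ⟨x, h1 hx⟩ hx
  exact ⟨fun h N hN P => by rw [Fus.normalizerSystem_eq_of_inner hS h1 h2 (Fus.fs_ext h) hN],
    fun h P => by rw [Fus.eq_inner_of_axioms hp hS hF 𝒜 h𝒜 hne hinv' hrep h1 h2
      (Fus.nilN_of_forall_normalizerSystem hS h1 h)]⟩

end Cfsg.Agent.S5272
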