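import Cfsg.Statements.S5275
import Mathlib
import Cfsg.Agent.Fus.FunctorInst
import Cfsg.Agent.Fus.WNorm
import Cfsg.Agent.S3082

set_option autoImplicit false
open Cfsg

namespace Cfsg.Agent.S5275

/-- A Glauberman–Thompson nilpotency criterion for fusion systems relative to a strongly closed subgroup. Let p be an odd prime, F a saturated fusion system over a finite p-group S, and D a subgroup of S that is strongly closed in F. Let Z(J(D)) be the centre of the subgroup of D generated by the abelian subgroups of D of largest order. Then F is the inner fusion system of S if and only if the normalizer fusion system of Z(J(D)) in F is the inner fusion system of N_S(Z(J(D))) = S. -/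
theorem result {Ω : Type*} [Group Ω] {S : Subgroup Ω} [Finite S] (p : ℕ) [Fact p.Prime] (hS : IsPGroup p ↥S) (F : Cfsg.FusionSystem S) (hF : F.IsSaturated p) (hp : p ≠ 2) (D : Subgroup Ω) (hD : F.StronglyClosed D) : (∀ P : Subgroup Ω, F.Hom P = (Cfsg.innerFusionSystem S).Hom P) ↔ ∀ N : Cfsg.FusionSystem (Cfsg.FusionSystem.normalizerIn S (Cfsg.centerThompsonAOf D)), F.IsNormalizerSystem (Cfsg.centerThompsonAOf D) N → ∀ P : Subgroup Ω, N.Hom P = (Cfsg.innerFusionSystem (Cfsg.FusionSystem.normalizerIn S (Cfsg.centerThompsonAOf D))).Hom P := by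
  have := Fus.finite_of_le hD.1
  have hW := Fus.isFunctorOn_induced (Fus.isCharPFunctor_zjFun (p := p)) hS F
  have h1 := (hW.le D hD.1).trans hD.1
  have h2 : S ≤ Subgroup.normalizer ((inducedFunctor Fus.zjFun D : Subgroup Ω) : Set Ω) :=
    fun s hs => (hW.normalizerIn_le hD.1 (Fus.mem_normalizerIn_of_conj hs
      fun y hy => Fus.conj_mem_of_stronglyClosed hD hs hy)).2
  rw [Fus.induced_zjFun] at h1 h2
  refine ⟨fun h N hN P => by rw [Fus.normalizerSystem_eq_of_inner hS h1 h2 (Fus.fs_ext h) hN],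
    fun h P => ?_⟩
  by_contra hne
  obtain ⟨E, h3, h4, h5⟩ := Fus.exists_constrained_le_odd hp hS hF (fun h => hne (by rw [h]))
  obtain ⟨G, _, ι, hG⟩ := Fus.exists_model hS h4
  obtain ⟨_, hr, ⟨T, hT⟩, hc⟩ := id hG
  obtain ⟨b, hb⟩ := Fus.fIso_of_isRealizedBy hr
  have h6 := hb.stronglyClosed (Fus.stronglyClosed_of_sub h3 hD hD.1)
  rw [← hT, Fus.stronglyClosed_group_iff] at h6
  refine h5 (Fus.eq_inner_of_npc hr T hT (S3082.result hp T (Fus.imX (Fus.hfn ι) D)
    ⟨h6.1, fun x hx g hg => h6.2 x hx g hg⟩ (Or.inl ?_)))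
  rw [← Fus.induced_zjFun, ← (hb.g.restrict hD.1).imX_induced (Fus.isCharPFunctor_zjFun (p := p))
    (Fus.isPGroup_of_le hS hD.1), Fus.induced_zjFun, Fus.imX_hfn ι h1]
  exact Fus.npc_normalizer_of_inner hr T hT h1 h2 fun P f hf =>
    ((Fus.nilN_of_forall_normalizerSystem hS h1 h).of_sub h3).isMap_inner hS h4.1
      (Fus.fullyNormalized_of_le_normalizer E h1 h2) hf

end Cfsg.Agent.S5275
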