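import Cfsg.Statements.S5278
import Mathlib
import Cfsg.Agent.Fus.FlavB

set_option autoImplicit false
open Cfsg

namespace Cfsg.Agent.S5278

open Cfsg.Agent.Fus Cfsg.FusionSystem

/-- Let p be an odd prime, F a saturated fusion system over a finite p-group S, and T a subgroup of Z(S) such that the normalizer fusion system of J(S) in F is contained in the normalizer fusion system of T, J(S) being the subgroup generated by the abelian subgroups of S of largest order. Then either T is weakly closed in F, or Aut_F(T) has a nontrivial cyclic subgroup X of order prime to p that permutes transitively the non-identity elements of the commutator [T, X] (the subgroup of T generated by the elements ψ(t)·t⁻¹ with ψ in X and t in T). -/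
theorem result {Ω : Type*} [Group Ω] {S : Subgroup Ω} [Finite S] (p : ℕ) [Fact p.Prime] (hS : IsPGroup p ↥S) (F : Cfsg.FusionSystem S) (hF : F.IsSaturated p) (hp : p ≠ 2) (T : Subgroup Ω) (hT : T ≤ S ⊓ Subgroup.centralizer (S : Set Ω)) (hJT : ∀ NJ : Cfsg.FusionSystem (Cfsg.FusionSystem.normalizerIn S (Cfsg.thompsonSubgroupAOf S)), F.IsNormalizerSystem (Cfsg.thompsonSubgroupAOf S) NJ → ∀ NT : Cfsg.FusionSystem (Cfsg.FusionSystem.normalizerIn S T), F.IsNormalizerSystem T NT → NJ.IsSubsystemOf NT) : F.WeaklyClosed T ∨ ∃ X : Subgroup (MulAut ↥T), X ≤ F.autGroup T ∧ X ≠ ⊥ ∧ IsCyclic ↥X ∧ (Nat.card ↥X).Coprime p ∧ ∀ a b : ↥T, a ∈ Subgroup.closure {y : ↥T | ∃ ψ ∈ X, ∃ t : ↥T, y = ψ t * t⁻¹} → b ∈ Subgroup.closure {y : ↥T | ∃ ψ ∈ X, ∃ t : ↥T, y = ψ t * t⁻¹} → a ≠ 1 → b ≠ 1 → ∃ ψ ∈ X, ψ a = b := by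
  have hT' : T ≤ centralizerIn S S := hT
  have hTS : T ≤ S := hT.trans inf_le_left
  have hJ := PLocal.thompsonSubgroupAOf_le S
  refine or_iff_not_imp_right.2 fun h => ?_
  have := finite_of_le hTS
  have key := stronglyClosed_or_trOn hp F hS hF T hT' (fun P f hf x hx hxT => by
    rw [induced_jFun] at hf
    obtain ⟨-, g, hg, e, hi⟩ := isMap_normSys.1 ((isMap_normSys.2 hf).of_sub
      (hJT _ (isNormalizerSystem_normSys F hJ) _ (isNormalizerSystem_normSys F hTS)))
    rw [← e x hx, ← hi]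
    exact mem_img_of_mem g hxT) (by
    rintro ⟨f, h1, h2, ⟨t, ht, h3⟩, h4⟩
    obtain ⟨α, hα, e⟩ := h1.exists_aut (h1.img_eq_self h2)
    have e' : ∀ x : T, (α x : Ω) = f x := fun x => (afn_coe α x).symm.trans (e x x.2)
    have hc : ∀ a b : T, Commute a b := fun a b => Subtype.ext ((hT' b.2).2 a (hTS a.2))
    let K : Subgroup T :=
      { carrier := {y | ∃ s, y = α s * s⁻¹}
        one_mem' := ⟨1, by simp⟩
        mul_mem' := by
          rintro _ _ ⟨a, rfl⟩ ⟨b, rfl⟩
          refine ⟨a * b, ?_⟩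
          rw [map_mul, mul_assoc, (hc a⁻¹ _).eq, mul_inv_rev]
          simp only [mul_assoc]
        inv_mem' := by
          rintro _ ⟨a, rfl⟩
          exact ⟨a⁻¹, by rw [map_inv, mul_inv_rev, (hc _ _).eq]⟩ }
    have hK : Subgroup.closure {y : ↥T | ∃ ψ ∈ Subgroup.zpowers α, ∃ t : ↥T, y = ψ t * t⁻¹} ≤ K := by
      rw [Subgroup.closure_le]
      rintro _ ⟨ψ, hψ, t, rfl⟩
      obtain ⟨n, rfl⟩ := (mem_powers_iff_mem_zpowers.2 hψ : ψ ∈ Submonoid.powers α)
      clear hψ
      induction n with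
      | zero => simpa using K.one_mem
      | succ n ih =>
        have : (α ^ (n + 1)) t * t⁻¹ = (α ((α ^ n) t) * ((α ^ n) t)⁻¹) * ((α ^ n) t * t⁻¹) := by
          rw [pow_succ']; simp
        simp only at ih ⊢
        rw [this]
        exact K.mul_mem ⟨_, rfl⟩ ih
    have it : ∀ (k : ℕ) (x : T), ((α ^ k) x : Ω) = f^[k] x := fun k x => by
      induction k with
      | zero => rfl
      | succ k ih => rw [pow_succ', Function.iterate_succ_apply', ← ih, ← e']; rfl
    refine h ⟨Subgroup.zpowers α, Subgroup.zpowers_le.2 hα, fun h5 => h3 ?_, inferInstance,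
      (coprime_card_autGroup_of_central hS hF hT').coprime_dvd_left
        (Subgroup.card_dvd_of_le (Subgroup.zpowers_le.2 hα)), fun a b ha hb ha1 hb1 => ?_⟩
    · rw [← e' ⟨t, ht⟩, Subgroup.zpowers_eq_bot.1 h5]; rfl
    · obtain ⟨s, rfl⟩ := hK ha
      obtain ⟨t, rfl⟩ := hK hb
      obtain ⟨k, hk⟩ := h4 s s.2 t t.2
        (fun h => ha1 (mul_inv_eq_one.2 (Subtype.ext ((e' s).trans h))))
        (fun h => hb1 (mul_inv_eq_one.2 (Subtype.ext ((e' t).trans h))))
      refine ⟨α ^ k, Subgroup.npow_mem_zpowers α k, Subtype.ext ?_⟩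
      rw [it]
      simpa [e'] using hk)
  exact weaklyClosed_iff.2 ⟨hTS, fun f hf => hf.img_eq_self fun x hx => key T f hf x hx hx⟩

end Cfsg.Agent.S5278
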