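import Mathlib
import Cfsg.Statements.S5289
import Cfsg.Agent.Fus.RankRes
import Cfsg.Agent.S5234
-- import your own Cfsg.Agent.* helpers here

set_option autoImplicit false
open Cfsg

namespace Cfsg.Agent.S5289

open Cfsg.Agent.Fus Cfsg.FusionSystem

/-- Let p ≥ 5 be a prime and S a finite p-group of p-rank two (it has an elementary abelian subgroup of order p² and none of order p³) which is not the extraspecial group of order p³ and exponent p. Then S is resistant: for every saturated fusion system F over S, S is normal in F, that is, every map of F extends to an F-automorphism of S. -/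
theorem result {Ω : Type*} [Group Ω] {S : Subgroup Ω} [Finite S] (p : ℕ) [Fact p.Prime] (hS : IsPGroup p S)
    (F : Cfsg.FusionSystem S) (hF : F.IsSaturated p)
    (hp : 5 ≤ p)
    (hrank2 : ∃ E : Subgroup Ω, E ≤ S ∧ Cfsg.IsElementaryAbelian p E ∧ Nat.card E = p ^ 2)
    (hrank3 : ∀ E : Subgroup Ω, E ≤ S → Cfsg.IsElementaryAbelian p E → Nat.card E ≤ p ^ 2)
    (hnotE : ¬ (Nat.card S = p ^ 3 ∧ Monoid.exponent ↥S = p)) : F.IsNormal S := by
  have hr : PRankLE p 2 S := FT.R2.pRankLE_iff.2 hrank3
  rcases MC.isMetacyclic_or_hasE (by omega) hS with hm | hE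
  · exact S5234.result p hS F hF S (stronglyClosed_top F) (by omega) hm
  obtain ⟨k, s, M, x, y, z, h, h2 | ⟨h2, hk⟩⟩ := MC.exists_fam (by omega) hS hr hE
  swap
  · exact isNormal_top_of_no_essential hS hF fun P => h.not_essential h2 hk (by omega) hF hr
  have hp' : p.Prime := Fact.out
  have hk : 1 ≤ k := Nat.pos_of_ne_zero fun e => hnotE (by
    obtain ⟨E, -, h3, h4⟩ := hE
    have h5 : Nat.card S = p ^ 3 := by rw [h.card, e]
    rw [Subgroup.eq_top_of_card_eq E (h3.trans h5.symm)] at h4
    have : Nontrivial S := ⟨x, 1, fun e => h.hx (e ▸ one_mem M)⟩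
    exact ⟨h5, (Monoid.exponent_eq_prime_iff hp').2 fun g hg => orderOf_eq_prime (h4 g trivial) hg⟩)
  refine isNormal_top_of_no_essential hS hF fun P hP => ?_
  have hlt := essential_lt hS hF hP
  have := finite_of_le hlt.le
  have hc := h.mem_center (mt inv_mem_iff.1 h.hx) h.hz (commutatorElement_eq_one_iff_commute.1 h2)
  let c : P := ⟨z, center_le_of_centric hP.1 (map_center_eq S ▸ ⟨_, hc, rfl⟩)⟩
  have ho : orderOf c = p ^ (k + 1) := by
    rw [← h.ord, ← Subgroup.orderOf_coe, ← Subgroup.orderOf_coe z]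
  rcases AC.comm_or P with hab | hna
  · have := (card_of_essential_comm hS hF (by omega) hr hP hab).1 c
    have := Nat.le_of_dvd hp'.pos (ho ▸ orderOf_dvd_of_pow_eq_one this)
    exact this.not_gt (lt_self_pow₀ hp'.one_lt (by omega))
  have h1 := Nat.le_of_dvd (Nat.pos_of_ne_zero Subgroup.index_ne_zero_of_finite)
    (AC.sq_dvd_index_center (isPGroup_of_le hS hlt.le) hna)
  have h3 := Subgroup.card_le_of_le (Subgroup.zpowers_le.2 (Subgroup.mem_center_iff.2 fun g =>
    Subtype.ext (congrArg Subtype.val (Subgroup.mem_center_iff.1 hc ⟨g, hlt.le g.2⟩) :)) :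
      Subgroup.zpowers c ≤ Subgroup.center P)
  have h4 := card_lt_of_lt_of_le hlt le_rfl
  rw [Nat.card_zpowers, ho] at h3
  rw [← (Subgroup.center P).card_mul_index, h.card, show k + 3 = k + 1 + 2 from rfl, pow_add] at h4
  exact h4.not_ge (Nat.mul_le_mul h3 h1)

end Cfsg.Agent.S5289
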