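import Cfsg.Statements.S5299
import Mathlib
import Cfsg.Agent.Fus.SecFree
import Cfsg.Agent.Fus.Invariant

set_option autoImplicit false
universe u
open Cfsg

namespace Cfsg.Agent.S5299

/-- Let F be a saturated fusion system over a finite p-group S, H a finite group and Q a p-subgroup of H. If Q is not involved in S (no section of S is isomorphic to Q), then F is H-free: H is involved in no model of the normalizer system of a fully normalized centric subgroup. -/
theorem result {Ω : Type u} [Group Ω] {S : Subgroup Ω} [Finite S] (p : ℕ) [Fact p.Prime] (hS : IsPGroup p S)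
    (F : Cfsg.FusionSystem S) (hF : F.IsSaturated p) (H : Type*) [Group H] [Finite H] (Q : Subgroup H) (hQ : IsPGroup p Q)
    (hfree : ¬ Cfsg.Involves (↥Q) (↥S)) : F.IsSectionFree p H := by
  intro R _ _ N _ L _ ι hL hH
  have := hL.1
  obtain ⟨K, f, hf⟩ := (PLocal.CF.sec_subgroup Q).trans (PLocal.CF.sec_iff_involves.2 hH)
  obtain ⟨T⟩ : Nonempty (Sylow p K) := inferInstance
  have : Finite Q := inferInstance
  have h1 : (T : Subgroup K).map f = ⊤ := by
    have h2 := (T.mapSurjective hf).is_maximal' (hQ.to_subgroup ⊤) le_top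
    exact h2.symm
  obtain ⟨g, -, hg⟩ := (Fus.IsModel_sylIn hL).exists_conj
    (T.isPGroup'.map K.subtype) le_top
  refine hfree (PLocal.CF.sec_iff_involves.1 ?_)
  have s1 : PLocal.CF.Sec Q T := PLocal.CF.sec_of_surjective (f.comp (T : Subgroup K).subtype)
    fun y => by
      obtain ⟨x, hx, rfl⟩ := (h1.ge (Subgroup.mem_top y) : y ∈ (T : Subgroup K).map f)
      exact ⟨⟨x, hx⟩, rfl⟩
  have s2 : PLocal.CF.Sec T ι.range := PLocal.CF.sec_of_injective
    (((MulAut.conj g).toMonoidHom.comp (K.subtype.comp (T : Subgroup K).subtype)).codRestrict _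
      fun x => hg _ ⟨x, x.2, rfl⟩) fun a b h =>
    Subtype.ext (Subtype.ext ((MulAut.conj g).injective (congrArg Subtype.val h)))
  have s3 : PLocal.CF.Sec ι.range (Cfsg.FusionSystem.normalizerIn S R) :=
    PLocal.CF.sec_of_surjective _ ι.rangeRestrict_surjective
  exact ((s1.trans s2).trans s3).trans (PLocal.CF.sec_of_injective _
    (Subgroup.inclusion_injective (Fus.normalizerIn_le S R)))

end Cfsg.Agent.S5299
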