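import Mathlib
import Cfsg.Statements.S5309
import Cfsg.Agent.Fus.CompFit
-- import your own Cfsg.Agent.* helpers here

set_option autoImplicit false
open Cfsg

namespace Cfsg.Agent.S5309

open Subgroup Cfsg.Agent.Fus Cfsg.Agent.FGS Cfsg.Agent.PLocal.CF

/-- Self-centralizing property of the generalized Fitting subsystem. Let F be a saturated fusion system over a finite p-group S and D a generalized Fitting subsystem of F, over U. Then the centre of D is the largest subgroup Y of C_S(U) centralized by D in F, in the sense that every map of D extends to a map of F fixing Y elementwise: the centre of D is such a subgroup, and every such Y lies in the centre of D. -/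
theorem result {Ω : Type*} [Group Ω] {S : Subgroup Ω} [Finite S] (p : ℕ) [Fact p.Prime] (hS : IsPGroup p S) (F : Cfsg.FusionSystem S) (hF : F.IsSaturated p)
    {U : Subgroup Ω} (D : Cfsg.FusionSystem U) (hD : D.IsGeneralizedFittingOf F p) :
    (D.center ≤ Cfsg.FusionSystem.centralizerIn S U ∧ ∀ P : Subgroup Ω, D.Hom P ⊆ F.centralizerHom D.center P) ∧
      ∀ Y : Subgroup Ω, Y ≤ Cfsg.FusionSystem.centralizerIn S U →
        (∀ P : Subgroup Ω, D.Hom P ⊆ F.centralizerHom Y P) → Y ≤ D.center := by
  have hn := fitting_normal hS hD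
  obtain ⟨V, E, hE, hc⟩ := fitting_cPr hD
  have hU := Inv.le hn.1.2.2
  have := finite_of_le hU
  refine ⟨⟨(center_le_centralizerIn D).trans (centralizerIn_mono_left hU U), fun P =>
    hom_subset_centralizerHom_iff.2 fun f hf =>
      ((isCentral_iff_isCMap.1 (isCentral_center D)).2 P f hf).of_sub (Inv.sub hn.1.2.2)⟩,
    fun Y h1 h2 => ?_⟩
  have h3 := cenBy_iff.2 ⟨h1, h2⟩
  have h4 : Y ≤ U := (h3.le_cenE hS hn).trans ((cenE_le_of_fitting_le hS hn hc.le₁ fun R C hC =>
    (le_of_isSubsystemOf (hE.2.1 R C hC)).trans hc.le₂).trans hc.le₁)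
  exact (le_inf h4 le_rfl).trans (inf_le_center_of_isCMap hS hn.1.1 h3.2)

end Cfsg.Agent.S5309
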