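import Cfsg.Statements.S5316
import Cfsg.Agent.Fus.MCa3F
import Cfsg.Agent.Fus.FIso

set_option autoImplicit false
open Cfsg

namespace Cfsg.Agent.S5316

/-- Let p ≥ 5 be a prime, S a finite p-group of maximal class of order p^n with n ≥ 5 (nilpotency class n − 1), F a saturated fusion system over S, and E an F-essential subgroup that is not a pearl (not elementary abelian of order p² and not extraspecial of order p³ and exponent p). Then E has order at least p⁴. -/
theorem result {Ω : Type*} [Group Ω] {S : Subgroup Ω} [Finite S] (p : ℕ) [Fact p.Prime] (hp : 5 ≤ p) (hS : IsPGroup p ↥S) (n : ℕ) (hn : Nat.card S = p ^ n) (h5 : 5 ≤ n)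
    (hmax : Subgroup.lowerCentralSeries S (n - 2) ≠ ⊥) (F : Cfsg.FusionSystem S) (hF : F.IsSaturated p)
    (E : Subgroup Ω) (hE : F.IsEssential p E)
    (hnp : ¬ ((Nat.card ↥E = p ^ 2 ∧ Cfsg.IsElementaryAbelian p E) ∨ (Nat.card ↥E = p ^ 3 ∧ Cfsg.IsExtraspecial p ↥E ∧ Monoid.exponent ↥E = p))) :
    p ^ 4 ≤ Nat.card ↥E := by
  have hp' := (Fact.out : p.Prime)
  have : Finite E := Fus.finite_of_le hE.1.1
  have hG := Fus.isPGroup_of_le hS hE.1.1
  obtain ⟨k, hk⟩ := hG.exists_card_eq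
  have he := Fus.ess_of_essential hS hF hE
  obtain ⟨i, h1, h2, -⟩ := he.card_frattini hk
  rcases (show 4 ≤ k ∨ (k = 2 ∧ i = 0) ∨ k = 3 by omega) with h | ⟨rfl, rfl⟩ | rfl
  · rw [hk]; exact Nat.pow_le_pow_right hp'.pos h
  · have hΦ := (Grp.PFrattini.frattini_le_iff hG).1 (Subgroup.card_eq_one.1 h2).le
    exact (hnp (Or.inl ⟨hk, IsPGroup.isMulCommutative_of_card_eq_prime_sq hk, fun a ha =>
      congrArg Subtype.val (Subgroup.mem_bot.1 (hΦ.2 ⟨a, ha⟩))⟩)).elim
  rcases he.cube hk with ⟨c1, c2⟩ | ⟨-, c1, c2⟩ | ⟨h, -⟩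
  · obtain ⟨b, hb⟩ := Fus.gIso_of_injective (MonoidHom.id S) Function.injective_id
    rw [MonoidHom.range_eq_top.2 Function.surjective_id] at hb
    obtain ⟨F', hF'⟩ := Fus.exists_fIso F hb
    have e := (hb.restrict hE.1.1).equiv
    exact (Fus.MCA.no_a3 ((Fus.MC.isMC_iff hn (by omega)).2 hmax) h5 (hF'.saturated hF)
      (hF'.essential hE) hp ((hb.card_imX hE.1.1).trans hk)
      (fun x y => e.symm.injective (by rw [map_mul, map_mul, c1]))
      fun x => e.symm.injective (by rw [map_pow, c2, map_one])).elim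
  · have : Nontrivial E := Finite.one_lt_card_iff_nontrivial.1 (hk ▸ Nat.one_lt_pow (by norm_num) hp'.one_lt)
    exact (hnp (Or.inr ⟨hk, c1, (Monoid.exponent_eq_prime_iff hp').2 fun g hg =>
      orderOf_eq_prime (c2 g) hg⟩)).elim
  · omega

end Cfsg.Agent.S5316
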