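import Cfsg.Statements.S5362
import Mathlib
import Cfsg.Agent.TT.Disc
import Cfsg.Agent.TT.Classify
import Cfsg.Agent.TT.Fi22
import Cfsg.Agent.TT.Fi24
import Cfsg.Agent.S0302
import Cfsg.Agent.S0303
import Cfsg.Agent.S0813
import Cfsg.Agent.S0815
import Cfsg.Agent.S0816
import Cfsg.Agent.S0817
import Cfsg.Agent.S0818

set_option autoImplicit false
open scoped MatrixGroups
open Cfsg

namespace Cfsg.Agent.S5362

open Cfsg.Agent.TT Cfsg.Agent.Class Cfsg.Agent.Class.Orth Subgroup

theorem aut_congr {A B : Type*} [Group A] [Group B] (e : A ≃* B) {c : ℕ}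
    (h : Nat.card (MulAut B) = c * Nat.card B) : Nat.card (MulAut A) = c * Nat.card A := by
  rw [Nat.card_congr (MulAut.congr e).toEquiv, h, Nat.card_congr e.toEquiv]

theorem aut_psl4 {F : Type} [Field F] [Fintype F] (p : ℕ) [Fact p.Prime] (hF : Fintype.card F = p) :
    Nat.card (MulAut (POmega F (quadFormPlus 3 F))) =
      (2 * Nat.gcd 4 (p - 1)) * Nat.card (POmega F (quadFormPlus 3 F)) := by
  obtain ⟨e⟩ := S0302.result (F := F)
  refine aut_congr e ?_
  have h1 := card_units_mul_card_PGL (ι := Fin 4) (R := F)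
  rw [← card_units_mul_card_SL (ι := Fin 4), ← gcd_mul_card_PSL] at h1
  rw [S0813.result p 1 le_rfl (by simpa using hF) 4 (by omega) (by omega),
    Nat.eq_of_mul_eq_mul_left Nat.card_pos h1, Nat.card_eq_fintype_card, hF]
  simp [mul_assoc]

theorem aut_plus {F : Type} [Field F] [Fintype F] (p : ℕ) [Fact p.Prime] (hF : Fintype.card F = p)
    (hp : p = 2 ∨ p = 3) {m : ℕ} (hm : 3 ≤ m) :
    ∃ c, Nat.card (MulAut (POmega F (quadFormPlus m F))) =
      c * Nat.card (POmega F (quadFormPlus m F)) ∧ c ∣ 24 ∧ (3 ∣ c → m = 4) := by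
  obtain rfl | hm : m = 3 ∨ 4 ≤ m := by omega
  · refine ⟨_, aut_psl4 p hF, ?_⟩
    rcases hp with rfl | rfl <;> decide
  · refine ⟨_, S0817.result p 1 le_rfl (by simpa using hF) m hm, ?_⟩
    split_ifs <;> simp_all

theorem aut_minus {F K : Type} [Field F] [Fintype F] [Field K] [Fintype K] (p : ℕ) [Fact p.Prime]
    (hF : Fintype.card F = p) (hK : Fintype.card K = p ^ 2)
    (hp : p = 2 ∨ p = 3) {m : ℕ} (hm : 2 ≤ m) {a b : F}
    (hab : ∀ z₁ z₂ : F, z₁ ^ 2 + a * z₁ * z₂ + b * z₂ ^ 2 = 0 → z₁ = 0 ∧ z₂ = 0) :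
    ∃ c, Nat.card (MulAut (POmega F (quadFormMinus m F a b))) =
      c * Nat.card (POmega F (quadFormMinus m F a b)) ∧ ¬ 3 ∣ c := by
  obtain rfl | hm : m = 2 ∨ 3 ≤ m := by omega
  · obtain ⟨e⟩ := S0303.result (K := K) hF hK a b hab
    refine ⟨_, aut_congr e (S0815.result p 1 le_rfl (by simp) hK 4 (by omega) (by omega)), ?_⟩
    rcases hp with rfl | rfl <;> decide
  · refine ⟨_, S0818.result p 1 le_rfl (by simpa using hF) (m + 1) (by omega) a b hab, ?_⟩
    split_ifs <;> simp_all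

theorem aniso3 (z₁ z₂ : ZMod 3) : z₁ ^ 2 + 0 * z₁ * z₂ + 1 * z₂ ^ 2 = 0 → z₁ = 0 ∧ z₂ = 0 := by
  revert z₁ z₂; decide

theorem exists_swap_fixed {n : ℕ} (h : 2 ≤ n) (σ : Equiv.Perm (Fin n)) (h2 : σ * σ = 1) :
    ∃ s : Equiv.Perm (Fin n), s.IsSwap ∧ σ * s * σ⁻¹ = s := by
  by_cases h1 : σ = 1
  · exact ⟨_, ⟨⟨0, by omega⟩, ⟨1, by omega⟩, by simp, rfl⟩, by simp [h1]⟩
  · obtain ⟨i, hi⟩ : ∃ i, σ i ≠ i := by
      by_contra hn
      push Not at hn
      exact h1 (Equiv.ext hn)
    refine ⟨_, ⟨i, σ i, hi.symm, rfl⟩, ?_⟩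
    rw [← Equiv.swap_apply_apply, ← Equiv.Perm.mul_apply, h2, Equiv.Perm.one_apply,
      Equiv.swap_comm]

/-- Let D be a conjugacy class of 3-transpositions generating the finite group G, with trivial centre and trivial largest normal 2- and 3-subgroups, and suppose the commuting graph of D is not connected. Let F be the generalized Fitting subgroup of G. Then G/F is isomorphic to the symmetric group of degree 3, and F is isomorphic either to the commutator subgroup of the isometry group of the hyperbolic quadratic form in dimension 8 over the field with two elements, or to the commutator subgroup of the isometry group of the hyperbolic quadratic form in dimension 8 over the field with three elements modulo its centre. -/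
theorem result {G : Type*} [Group G] [Finite G] {D : Set G} (hD : Cfsg.IsThreeTranspositionClass D) (hZ : Subgroup.center G = ⊥) (h2 : Cfsg.pCore 2 G = ⊥) (h3 : Cfsg.pCore 3 G = ⊥) (hdisc : ¬ (Cfsg.commutingGraph D).Connected) (F : Subgroup G) [F.Normal] (hF : F = Cfsg.generalizedFittingSubgroup G) : Nonempty (G ⧸ F ≃* Equiv.Perm (Fin 3)) ∧ (Nonempty (F ≃* Cfsg.Omega (ZMod 2) (Cfsg.quadFormPlus 4 (ZMod 2))) ∨ Nonempty (F ≃* Cfsg.POmega (ZMod 3) (Cfsg.quadFormPlus 4 (ZMod 3)))) := by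
  subst hF
  haveI : Fact (Nat.Prime 3) := ⟨Nat.prime_three⟩
  obtain ⟨d, hd⟩ := nonempty_of_class hD
  have h := exists_disc hD hZ h2 h3 fun hc => hdisc ((cconn_iff ⟨d, hd⟩).1 hc)
  have hP := h.prim hd
  have hT := hP.toIsTT.preimage (closure (ccpt D d))
  have hZ' := h.center_closure hd
  obtain ⟨_, fe, -⟩ := (fiso_subtype (closure (ccpt D d)) subset_closure).exists_symm hT.conj
  have hev := h.even_ncard hd
  have hsq := h.sq_dvd hd
  obtain ⟨e1⟩ := h.nonempty_equiv_commutator hd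
  obtain ⟨e2⟩ := h.nonempty_equiv_pcomm hd
  rcases hP.known with ⟨n, hn, h1⟩ | ⟨n, hn, h1⟩ | ⟨n, hn, h1⟩ | ⟨n, hn, h1⟩ | ⟨n, hn, h1⟩ | h1 |
    h1 | h1
  · exfalso
    obtain ⟨e, he⟩ := (h1.of_feq ⟨_, fe⟩).exists_mulEquiv (by omega) hT
      closure_closure_coe_preimage hZ'
    obtain ⟨t, ht, ht2, hf⟩ := h.exists_fpf hd
    let t' : closure (ccpt D d) := ⟨t, h.le_closure hd ht⟩
    obtain ⟨s, hs, e'⟩ := exists_swap_fixed (by omega) (e t') (by
      rw [← map_mul, show t' * t' = 1 from Subtype.ext ht2, map_one])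
    obtain ⟨c, hc, rfl⟩ := he.ge hs
    rw [← map_inv, ← map_mul, ← map_mul, e.injective.eq_iff] at e'
    exact hf c hc (congrArg Subtype.val e')
  · exfalso
    obtain ⟨B, τ, -, -, h1⟩ := h1
    have := h1.ncard_mul (m := 1) fun v hv => Set.ncard_eq_one.2 ⟨v, by
      ext u
      refine ⟨fun ⟨hu, c, e⟩ => ?_, by rintro rfl; exact ⟨hv, 1, by simp⟩⟩
      obtain rfl | rfl := (by decide : ∀ c : ZMod 2, c = 0 ∨ c = 1) c
      · exact absurd (by simpa using e) hu
      · simpa using e⟩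
    rw [mul_one, show {v : Fin n → ZMod 2 | v ≠ 0} = Set.univ \ {0} by ext; simp,
      Set.ncard_diff_singleton_of_mem (Set.mem_univ _), Set.ncard_univ] at this
    simp only [Nat.card_eq_fintype_card, Fintype.card_pi, ZMod.card, Finset.prod_const,
      Finset.card_univ, Fintype.card_fin] at this
    obtain ⟨k, rfl⟩ : ∃ k, n = k + 1 := ⟨n - 1, by omega⟩
    have := Nat.one_le_two_pow (n := k)
    rw [Nat.even_iff] at hev
    omega
  · rcases (h1.of_feq ⟨_, fe⟩ hT).exists_mulEquiv hn closure_closure_coe_preimage hZ' with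
      ⟨m, hm, e, -⟩ | ⟨m, hm, e, -⟩
    · obtain ⟨c, hc, h24, h4⟩ := aut_plus 2 (ZMod.card 2) (Or.inl rfl) (m := m) (by omega)
      replace hc := aut_congr (e2.trans (pOmegaCongr e)) hc
      obtain rfl := h4 (h.not_of_aut hc)
      exact ⟨h.quotient_equiv ((h.card_quotient_dvd hc).trans h24),
        Or.inl ⟨e1.trans (Orth.commutatorCongr e)⟩⟩
    · obtain ⟨c, hc, h4⟩ := aut_minus (K := GF4) 2 (ZMod.card 2) card_GF4 (Or.inl rfl) (m := m)
        (by omega) (a := 1) (b := 1) (by decide)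
      exact absurd (h.not_of_aut (aut_congr (e2.trans (pOmegaCongr e)) hc)) h4
  · exfalso
    have := h1.ncard (by omega)
    obtain ⟨k, rfl⟩ : ∃ k, n = k + 2 := ⟨n - 2, by omega⟩
    obtain ⟨j, hj⟩ := hev
    rw [hj, show k + 2 - 1 = k + 1 from rfl] at this
    rcases neg_one_pow_eq_or ℤ (k + 2) with e | e <;> rw [e, pow_succ, pow_succ] at this <;>
      generalize (2 : ℤ) ^ k = x at this <;> push_cast at this <;> ring_nf at this <;> omega
  · obtain ⟨m, rfl | rfl⟩ := Nat.even_or_odd' n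
    · obtain ⟨Q, τ, h1⟩ := h1
      obtain ⟨e⟩ := h1.pcomm_equiv (by omega)
      by_cases hp : QF.IsPlus Q
      · obtain ⟨g, hg⟩ := hp.exists_equiv h1.1 (m := m) (by simp)
        have e3 := (e2.trans e).trans (pOmegaCongr ((OG.congr g fun v => by
          rw [plusQF_apply, hg]).trans (plusEquiv _ (ZMod 3)).symm))
        obtain ⟨c, hc, h24, h4⟩ := aut_plus 3 (ZMod.card 3) (Or.inr rfl) (m := m) (by omega)
        replace hc := aut_congr e3 hc
        obtain rfl := h4 (h.not_of_aut hc)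
        exact ⟨h.quotient_equiv ((h.card_quotient_dvd hc).trans h24), Or.inr ⟨e3⟩⟩
      · obtain ⟨k, rfl⟩ : ∃ k, m = k + 1 := ⟨m - 1, by omega⟩
        obtain ⟨g, hg⟩ := QF.exists_equiv_minus h1.1 hp (k := k) (by simp; ring) aniso3
        have e3 := (e2.trans e).trans (pOmegaCongr ((OG.congr g fun v => by
          rw [minusQF_apply, hg]).trans (minusEquiv _ (ZMod 3) 0 1).symm))
        obtain ⟨c, hc, h4⟩ := aut_minus (K := GF9) 3 (ZMod.card 3) card_GF9 (Or.inr rfl) (m := k)
          (by omega) aniso3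
        exact absurd (h.not_of_aut (aut_congr e3 hc)) h4
    · obtain ⟨e⟩ := h1.pcomm_odd (by omega)
      exact absurd (h.not_of_aut (aut_congr (e2.trans e) (S0816.result 3 1 le_rfl (by simp)
        (by decide) m (by omega)))) (by decide)
  · rw [h1.ncard, (h1.of_feq ⟨_, fe⟩ hT).card closure_closure_coe_preimage hZ'] at hsq
    exact absurd hsq (by norm_num)
  · rw [h1.ncard] at hev
    exact absurd hev (by decide)
  · rw [h1.ncard, (h1.of_feq ⟨_, fe⟩ hT).card closure_closure_coe_preimage hZ'] at hsq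
    exact absurd hsq (by norm_num)

end Cfsg.Agent.S5362
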