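import Cfsg.Statements.S5368
import Cfsg.Agent.TT.Classify
import Cfsg.Agent.TT.TypeM
import Cfsg.Agent.TT.Models
import Cfsg.Agent.S0444

set_option autoImplicit false
open scoped MatrixGroups
open Cfsg

namespace Cfsg.Agent.S5368

open Cfsg.Agent.TT Subgroup

/-- Fischer's Theorem on 3-transposition groups. Let D be a conjugacy class of 3-transpositions generating the finite group G, and suppose the centre of G is trivial and the commutator subgroup of G is simple (possibly of prime order). Then one of the following holds: (1) G is isomorphic to a symmetric group with D going to the transpositions; (2) G is isomorphic to a symplectic group over the field with two elements with D going to the transvections (elements g with g − 1 of rank one); (3) G is isomorphic to a projective special unitary group over the field with four elements with D going to the images of the unitary transvections; (4) G is isomorphic to the full isometry group of a hyperbolic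 or elliptic quadratic form over the field with two elements with D going to the orthogonal transvections; (5) G is isomorphic to the subgroup of the isometry group of a non-degenerate quadratic form over the field with three elements generated by the reflections in vectors of a fixed non-zero norm, taken modulo its centre, with D going to the images of those reflections; (6) G with D is of type M(22), M(23) or M(24). -/
theorem result {G : Type*} [Group G] [Finite G] {D : Set G} (hD : Cfsg.IsThreeTranspositionClass D) (hZ : Subgroup.center G = ⊥) (hsimple : IsSimpleGroup (commutator G)) : (∃ n : ℕ, ∃ e : G ≃* Equiv.Perm (Fin n), e '' D = {σ : Equiv.Perm (Fin n) | σ.IsSwap}) ∨ (∃ m : ℕ, ∃ e : G ≃* Matrix.symplecticGroup (Fin m) (ZMod 2), e '' D = {g : Matrix.symplecticGroup (Fin m) (ZMod 2) | ((g : Matrix (Fin m ⊕ Fin m) (Fin m ⊕ Fin m) (ZMod 2)) - 1).rank = 1}) ∨ (∃ (n : ℕ) (F : Type) (_ : Field F) (_ : Fintype F), Fintype.card F = 4 ∧ ∃ e : G ≃* Cfsg.PSU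 n F 2, e '' D = (QuotientGroup.mk : ↥(Cfsg.SU n F 2) → Cfsg.PSU n F 2) '' {g : ↥(Cfsg.SU n F 2) | (((g : Matrix.SpecialLinearGroup (Fin n) F) : Matrix (Fin n) (Fin n) F) - 1).rank = 1}) ∨ ((∃ m : ℕ, ∃ e : G ≃* ↥(Cfsg.isometryGroup (ZMod 2) (Cfsg.quadFormPlus m (ZMod 2))), e '' D = {g : ↥(Cfsg.isometryGroup (ZMod 2) (Cfsg.quadFormPlus m (ZMod 2))) | (((g : GL (Fin m ⊕ Fin m) (ZMod 2)) : Matrix (Fin m ⊕ Fin m) (Fin m ⊕ Fin m) (ZMod 2)) - 1).rank = 1}) ∨ (∃ m : ℕ, ∃ e : G ≃* ↥(Cfsg.isometryGroup (ZMod 2) (Cfsg.quadFormMinus m (ZMod 2) 1 1)), e '' D = {g : ↥(Cfsg.isometryGroup (ZMod 2) (Cfsg.quadFormMinus m (ZMod 2) 1 1)) | (((g : GL ((Fin m ⊕ Fin m) ⊕ Fin 2) (ZMod 2)) : Matrix ((Fin m ⊕ Fin m) ⊕ Fin 2) ((Fin m ⊕ Fin m) ⊕ Fin 2) (ZMod 2)) - 1).rank = 1})) ∨ (∃ n : ℕ, ∃ Q : QuadraticForm (ZMod 3) (Fin n → ZMod 3), (QuadraticMap.polarBilin Q).Nondegenerate ∧ ∃ c : ZMod 3, c ≠ 0 ∧ ∃ e : G ≃* ↥(Cfsg.reflectionSubgroup (⇑Q) c) ⧸ Subgroup.center ↥(Cfsg.reflectionSubgroup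 (⇑Q) c), e '' D = (QuotientGroup.mk : ↥(Cfsg.reflectionSubgroup (⇑Q) c) → _) '' {g : ↥(Cfsg.reflectionSubgroup (⇑Q) c) | (g : ↥(Cfsg.isometryGroup (ZMod 3) (⇑Q))) ∈ Cfsg.reflectionsOfNorm (⇑Q) c}) ∨ (Cfsg.IsOfTypeM22 G D ∨ Cfsg.IsOfTypeM23 G D ∨ Cfsg.IsOfTypeM24 G D) := by
  have hG := group_of_class hD
  by_cases hw : Wide D
  · rcases (prim_of_simple hD hsimple hw).known with ⟨n, hn, h⟩ | ⟨n, -, h⟩ | ⟨n, hn, h⟩ |
      ⟨n, hn, h⟩ | ⟨n, hn, Q, τ, h⟩ | h | h | h
    · exact Or.inl ⟨n, h.exists_mulEquiv (by omega) (isTT_of_group hG) hD.2.2 hZ⟩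
    · obtain ⟨m, -, h⟩ := h.exists_mulEquiv hD.2.2 hZ
      exact Or.inr (Or.inl ⟨m, h⟩)
    · exact Or.inr (Or.inr (Or.inr (Or.inl ((h.exists_mulEquiv hn hD.2.2 hZ).imp
        (fun ⟨m, _, h⟩ => ⟨m, h⟩) fun ⟨m, _, h⟩ => ⟨m, h⟩))))
    · exact Or.inr (Or.inr (Or.inl ⟨n, Class.GF4, inferInstance, inferInstance, Class.card_GF4,
        h.exists_mulEquiv hn hD.2.2 hZ⟩))
    · exact Or.inr (Or.inr (Or.inr (Or.inr (Or.inl ⟨n, Q, h.1, -1, by decide,
        h.exists_mulEquiv3 (by omega) hD.2.2 hZ⟩))))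
    · exact Or.inr (Or.inr (Or.inr (Or.inr (Or.inr (Or.inl (h.isOfType hD.2.2 hZ))))))
    · exact Or.inr (Or.inr (Or.inr (Or.inr (Or.inr (Or.inr (Or.inl (h.isOfType hD.2.2 hZ)))))))
    · exact Or.inr (Or.inr (Or.inr (Or.inr (Or.inr (Or.inr (Or.inr (h.isOfType hD.2.2 hZ)))))))
  · have := isSolvable_of_not_wide hG hw
    have hcomm : ∀ x y : commutator G, x * y = y * x :=
      IsSimpleGroup.comm_iff_isSolvable.2 inferInstance
    obtain ⟨a, ha⟩ := nonempty_of_class hD
    obtain ⟨b, hb, hab⟩ : ∃ b ∈ D, ¬ Commute a b := by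
      by_contra hc
      push Not at hc
      exact ne_one hD.1 ha (mem_bot.1 (hZ ▸ mem_center_of_commute hD.2.2 hc))
    have h1 : zpowers (⟨a * b, mul_mem_commutator hD ha hb⟩ : commutator G) = ⊤ := by
      have : (zpowers (⟨a * b, mul_mem_commutator hD ha hb⟩ : commutator G)).Normal :=
        ⟨fun x hx g => by rwa [hcomm g x, mul_inv_cancel_right]⟩
      refine this.eq_bot_or_eq_top.resolve_left fun h => hab ?_
      rw [zpowers_eq_bot, Subtype.ext_iff] at h
      rw [(mul_eq_one_iff hD.1 ha).1 h]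
    have h2 : closure ({a, b} : Set G) = ⊤ := by
      have ha' : a ∈ closure ({a, b} : Set G) := subset_closure (by simp)
      have hb' : b ∈ closure ({a, b} : Set G) := subset_closure (by simp)
      rw [eq_top_iff, ← hD.2.2, closure_le]
      intro c hc
      obtain ⟨k, hk⟩ : (⟨a * c, mul_mem_commutator hD ha hc⟩ : commutator G) ∈
        zpowers (⟨a * b, mul_mem_commutator hD ha hb⟩ : commutator G) := h1 ▸ mem_top _
      have hk' : (a * b) ^ k = a * c := congrArg Subtype.val hk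
      rw [← mul_cancel_left hD.1 ha c, ← hk']
      exact mul_mem ha' (zpow_mem (mul_mem ha' hb') k)
    obtain ⟨e⟩ := S0444.result hD.1 ha hb hab
    let e' : G ≃* Equiv.Perm (Fin 3) := (topEquiv.symm.trans (MulEquiv.subgroupCongr h2.symm)).trans e
    have h3 : ∀ σ : Equiv.Perm (Fin 3), σ * σ = 1 → σ ≠ 1 → ∃ x y, x ≠ y ∧ σ = Equiv.swap x y := by
      decide
    have h4 : ∀ d ∈ D, (e' d).IsSwap := fun d hd => h3 _ (by rw [← map_mul, mul_self hD.1 hd, map_one])
      ((MulEquiv.map_ne_one_iff e').2 (ne_one hD.1 hd))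
    refine Or.inl ⟨3, e', Set.Subset.antisymm ?_ fun σ hσ => ?_⟩
    · rintro _ ⟨d, hd, rfl⟩
      exact h4 d hd
    · obtain ⟨g, rfl⟩ := exists_conj_of_class (S0439.result 3 (by omega)) (h4 a ha) hσ
      exact ⟨_, hG.2.1 (e'.symm g) a ha, by simp⟩

end Cfsg.Agent.S5368
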