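import Cfsg.Statements.S5378
import Mathlib
import Cfsg.Agent.XSC.Co1Row
import Cfsg.Agent.S1718

set_option autoImplicit false
open Cfsg

namespace Cfsg.Agent.S5378

/-- Let G be a finite group of Conway type: it has an involution z whose centralizer C has generalized Fitting subgroup Q extraspecial of order 2^9 with C/Q isomorphic to the commutator subgroup of the isometry group of the hyperbolic quadratic form in dimension 8 over the field with two elements, and some conjugate of z other than z lies in Q. Then G has exactly three conjugacy classes of involutions. -/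
theorem result {G : Type*} [Group G] [Finite G] (z : G) (hz : orderOf z = 2) (Q : Subgroup (Subgroup.centralizer ({z} : Set G))) [Q.Normal] (hF : Cfsg.generalizedFittingSubgroup (Subgroup.centralizer ({z} : Set G)) = Q) (hQ : Cfsg.IsExtraspecial 2 Q) (hcard : Nat.card Q = 2 ^ 9) (e : (Subgroup.centralizer ({z} : Set G)) ⧸ Q ≃* Cfsg.Omega (ZMod 2) (Cfsg.quadFormPlus 4 (ZMod 2))) (hnwc : ∃ g : G, (∃ hq : g * z * g⁻¹ ∈ Subgroup.centralizer ({z} : Set G), (⟨g * z * g⁻¹, hq⟩ : Subgroup.centralizer ({z} : Set G)) ∈ Q) ∧ g * z * g⁻¹ ≠ z) : ∃ a b c : G, orderOf a = 2 ∧ orderOf b = 2 ∧ orderOf c = 2 ∧ ¬ IsConj a b ∧ ¬ IsConj a c ∧ ¬ IsConj b c ∧ ∀ x : G, orderOf x = 2 → IsConj x a ∨ IsConj x b ∨ IsConj x c := by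
  open XSC.C1 Spor.Leech in
  obtain ⟨φ, h, hs⟩ := exists_ker2 (S1718.result z hz Q hF hQ hcard e hnwc)
  have hb : ∀ g, g * g = 1 → ¬ IsConj (φ g) (φ b0) := fun g hg e => by
    have : b0 * b0 = 1 := by
      rcases (h.isConj_iff hs).1 e with e | e
      · exact sq_of_isConj e hg
      · exact (negOne_mul_sq b0).symm.trans (sq_of_isConj e hg)
    exact negOne_ne_one (b0_sq.symm.trans this)
  refine ⟨φ eO, φ eD, φ b0, h.orderOf_two (Or.inl isA_eO), h.orderOf_two (Or.inr (Or.inl isC_eD)),
    h.orderOf_two (Or.inr (Or.inr b0_sq)), fun e => ?_, hb _ isA_eO.1, hb _ eD_sq, fun x hx => ?_⟩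
  · rcases (h.isConj_iff hs).1 e with e | e
    · exact (isA_eO.conj e).not_isC isC_eD
    · exact (isA_eO.conj e).not_isC isC_eD.neg
  · obtain ⟨g, rfl⟩ := hs x
    rcases h.cases hx with a | a | a
    · exact Or.inl ((h.isConj_iff hs).2 (a.isConj isA_eO))
    · exact Or.inr (Or.inl (φ.map_isConj (a.isConj isC_eD)))
    · exact Or.inr (Or.inr (φ.map_isConj (conj_b0_of_sq a)))

end Cfsg.Agent.S5378
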