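import Cfsg.Statements.S5380
import Cfsg.Agent.S1719
import Cfsg.Agent.XSC.Suz3Ab
import Cfsg.Agent.XSC.SuzU43
import Cfsg.Agent.PLocal.Quasisimple
import Cfsg.Agent.Small.Tools
import Cfsg.Agent.Class.FieldTransport
import Cfsg.Agent.Class.U.Simple

set_option autoImplicit false
open Cfsg

namespace Cfsg.Agent.S5380

open Subgroup Cfsg.Agent.Comp Cfsg.Agent.XSC.SuzU43 in
/-- Let G be a finite group of Suzuki sporadic type (involution z with generalized Fitting subgroup Q of its centralizer C extraspecial of order 2^7, C/Q the commutator subgroup of the isometry group of the elliptic quadratic form in dimension 6 over the field with two elements, z not weakly closed in Q), and let Y be a subgroup of C of order 3 whose commutator subgroup with Q is non-abelian of order 8 (a quaternion group). Then the centralizer of Y in G is quasisimple, its quotient by Y is isomorphic to the projective special unitary group of dimension 4 over the field with nine elements, and the centralizer of Y has index 2 in the normalizer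 of Y. -/
theorem result {G : Type*} [Group G] [Finite G] (z : G) (hz : orderOf z = 2) (Q : Subgroup (Subgroup.centralizer ({z} : Set G))) [Q.Normal] (hF : Cfsg.generalizedFittingSubgroup (Subgroup.centralizer ({z} : Set G)) = Q) (hQ : Cfsg.IsExtraspecial 2 Q) (hcard : Nat.card Q = 2 ^ 7) (e : (Subgroup.centralizer ({z} : Set G)) ⧸ Q ≃* Cfsg.Omega (ZMod 2) (Cfsg.quadFormMinus 2 (ZMod 2) 1 1)) (hnwc : ∃ g : G, (∃ hq : g * z * g⁻¹ ∈ Subgroup.centralizer ({z} : Set G), (⟨g * z * g⁻¹, hq⟩ : Subgroup.centralizer ({z} : Set G)) ∈ Q) ∧ g * z * g⁻¹ ≠ z) (Y : Subgroup (Subgroup.centralizer ({z} : Set G))) (hY : Nat.card Y = 3) (hQY : Nat.card ↥⁅Q, Y⁆ = 8) (hQYna : ¬ IsMulCommutative ↥⁅Q, Y⁆) [((Y.map (Subgroup.subtype (Subgroup.centralizer ({z} : Set G)))).subgroupOf (Subgroup.centralizer ((Y.map (Subgroup.subtype (Subgroup.centralizer ({z} : Set G)))) : Set G))).Normal] (K : Type) [Field K] [Fintype K] (hK : Fintype.card K = 9) : Cfsg.IsQuasisimple ↥(Subgroup.centralizer ((Y.map (Subgroup.subtype (Subgroup.centralizer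 ({z} : Set G)))) : Set G)) ∧ Nonempty (↥(Subgroup.centralizer ((Y.map (Subgroup.subtype (Subgroup.centralizer ({z} : Set G)))) : Set G)) ⧸ (Y.map (Subgroup.subtype (Subgroup.centralizer ({z} : Set G)))).subgroupOf (Subgroup.centralizer ((Y.map (Subgroup.subtype (Subgroup.centralizer ({z} : Set G)))) : Set G)) ≃* Cfsg.PSU 4 K 3) ∧ (Subgroup.centralizer ((Y.map (Subgroup.subtype (Subgroup.centralizer ({z} : Set G)))) : Set G)).relIndex (Subgroup.normalizer ((Y.map (Subgroup.subtype (Subgroup.centralizer ({z} : Set G)))) : Set G)) = 2 := by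

  obtain ⟨f⟩ := S1719.result z hz Q hF hQ hcard e hnwc
  obtain ⟨f, hf⟩ := XSC.Suz3A.three_A (f.trans Spor.ModelSuz.equiv) hz hF hcard e hY hQY
  rw [x_eq, ← sub_x] at hf
  generalize Y.map (Subgroup.subtype _) = Y' at *
  subst hf
  obtain ⟨φ, h1, h2⟩ := quot f
  have : Class.U.UF Class.GF9 3 := Class.U.UF.of_card Class.card_GF9
  have hs : IsSimpleGroup (gen Spor.ModelU43.ns Spor.ModelU43.G_ss0) :=
    have := Class.U.isSimpleGroup_PSU (n := 4) (F := Class.GF9) (q := 3) (by norm_num) (by norm_num)
    Spor.ModelU43.equiv.symm.isSimpleGroup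
  have hq := PLocal.qs_of_simple hs fun h => by
    open scoped IsMulCommutative in
    have := IsSimpleGroup.prime_card (α := gen Spor.ModelU43.ns Spor.ModelU43.G_ss0)
    rw [Spor.ModelU43.G_card] at this
    norm_num at this
  have hx := mem_zpowers (ev f ns [14])
  rw [← sub_x] at hx
  refine ⟨PLocal.qs_of_central_ker ⟨?_⟩ φ h1 (h2 ▸ fun y hy => mem_center_iff.2 fun g =>
    Subtype.ext (g.2 y hy).symm) hq, ⟨((QuotientGroup.quotientMulEquivOfEq h2.symm).trans
      (QuotientGroup.quotientKerEquivOfSurjective φ h1)).trans (Spor.ModelU43.equiv.symm.trans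
        (Class.psuCongr 4 3 (Class.ringEquivGF9 hK)).symm)⟩, ?_⟩
  · obtain ⟨u, hu, v, hv, h3⟩ := comm f
    rw [← cent] at hu hv
    have h4 : φ.ker ≤ commutator _ := by
      rw [h2, subgroupOf, ← map_le_map_iff_of_injective (subtype_injective _), map_comap_eq]
      refine inf_le_right.trans ((sub_x f).trans_le (zpowers_le_of_mem ⟨_, pow_mem
        (commutator_mem_commutator (mem_top ⟨u, hu⟩) (mem_top ⟨v, hv⟩)) 2, h3⟩))
    rw [← comap_map_eq_self h4, map_commutator_eq, MonoidHom.range_eq_top.2 h1,
      ← commutator_def, hq.1.commutator_eq_top, comap_top]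
  · have h3 := Small.relIndex_centralizer_dvd_card_mulAut (sub f ns [[14]])
    have h4 : Nat.card (sub f ns [[14]]) = 3 := by rw [sub_x, Nat.card_zpowers, ord_x]
    have : Fact (Nat.Prime 3) := ⟨by norm_num⟩
    have := isCyclic_of_prime_card h4
    rw [IsCyclic.card_mulAut, h4] at h3
    refine ((Nat.dvd_prime Nat.prime_two).1 h3).resolve_left fun h => ?_
    have h5 := relIndex_eq_one.1 h (mem_normalizer_fintype (x := ev f ns [6]) fun y hy => by
      rw [sub_x] at hy ⊢
      obtain ⟨k, rfl⟩ := hy
      exact ⟨-k, by simp only [← conj_zpow, inverts, mul_inv_cancel_right, inv_zpow']⟩) _ hx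
    rw [inverts, mul_left_inj, ← mul_eq_one_iff_eq_inv, ← pow_two] at h5
    have := orderOf_dvd_of_pow_eq_one h5
    rw [ord_x] at this
    norm_num at this

end Cfsg.Agent.S5380
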