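import Cfsg.Statements.S5397
import Mathlib
import Cfsg.Agent.XSC.Co1Row
import Cfsg.Agent.S1718

set_option autoImplicit false
open Cfsg

namespace Cfsg.Agent.S5397

/-- Let G be a finite group of Conway type (involution z with generalized Fitting subgroup Q of its centralizer C extraspecial of order 2^9, C/Q the commutator subgroup of the isometry group of the hyperbolic quadratic form in dimension 8 over the field with two elements, z not weakly closed in Q). Then G has an elementary abelian subgroup A of order 2^11 containing z whose normalizer N is a split extension of A with N/A isomorphic to the automorphism group of the length-24 code built from the squares modulo 23, and N has exactly two orbits on the non-identity elements of A. -/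
theorem result {G : Type*} [Group G] [Finite G] (z : G) (hz : orderOf z = 2) (Q : Subgroup (Subgroup.centralizer ({z} : Set G))) [Q.Normal] (hF : Cfsg.generalizedFittingSubgroup (Subgroup.centralizer ({z} : Set G)) = Q) (hQ : Cfsg.IsExtraspecial 2 Q) (hcard : Nat.card Q = 2 ^ 9) (e : (Subgroup.centralizer ({z} : Set G)) ⧸ Q ≃* Cfsg.Omega (ZMod 2) (Cfsg.quadFormPlus 4 (ZMod 2))) (hnwc : ∃ g : G, (∃ hq : g * z * g⁻¹ ∈ Subgroup.centralizer ({z} : Set G), (⟨g * z * g⁻¹, hq⟩ : Subgroup.centralizer ({z} : Set G)) ∈ Q) ∧ g * z * g⁻¹ ≠ z) : ∃ A : Subgroup G, Cfsg.IsElementaryAbelian 2 A ∧ Nat.card A = 2 ^ 11 ∧ z ∈ A ∧ ∃ _ : (A.subgroupOf (Subgroup.normalizer (A : Set G))).Normal, Nonempty (↥(Subgroup.normalizer (A : Set G)) ⧸ A.subgroupOf (Subgroup.normalizer (A : Set G)) ≃* ↥Cfsg.M24) ∧ (∃ K : Subgroup ↥(Subgroup.normalizer (A : Set G)), (A.subgroupOf (Subgroup.normalizer (A : Set G))).IsComplement' K) ∧ ∃ a ∈ A, ∃ b ∈ A, a ≠ 1 ∧ b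 ≠ 1 ∧ (∀ n ∈ Subgroup.normalizer (A : Set G), n * a * n⁻¹ ≠ b) ∧ ∀ c ∈ A, c ≠ 1 → ∃ n ∈ Subgroup.normalizer (A : Set G), n * c * n⁻¹ = a ∨ n * c * n⁻¹ = b := by
  open XSC.C1 Spor.Leech LES.Co Subgroup in
  open scoped Pointwise in
  obtain ⟨φ, h, hs, rfl⟩ := exists_ker2_eq (S1718.result z hz Q hF hQ hcard e hnwc) hz
    (card_cent_of_type Q hcard e) isA_eO
  have hsq : ∀ y ∈ sgnSub.map φ, y * y = 1 := by
    rintro _ ⟨b, hb, rfl⟩
    rw [← map_mul, sgnSub_sq hb, map_one]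
  have hc := h.card_map negOne_mem_sgnSub
  rw [card_sgnSub] at hc
  let ψ : M24 →* normalizer ((sgnSub.map φ : Subgroup G) : Set G) :=
    (φ.comp permHom).codRestrict _ fun σ => h.mem_normalizer.2 (permHom_mem σ)
  have hψ : ∀ σ, (ψ σ : G) ∈ sgnSub.map φ → σ = 1 := fun σ e =>
    eq_one_of_permHom_mem_sgnSub ((h.mem_map negOne_mem_sgnSub).1 e)
  have hinj : Function.Injective ψ := (injective_iff_map_eq_one ψ).2 fun σ e =>
    hψ σ (e ▸ one_mem _)
  have hK : ((sgnSub.map φ).subgroupOf (normalizer ((sgnSub.map φ : Subgroup G) : Set G))).IsComplement'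
      ψ.range := by
    refine isComplement'_of_disjoint_and_mul_eq_univ (disjoint_def.2 ?_)
      (Set.eq_univ_of_forall fun n => ?_)
    · rintro _ h1 ⟨σ, rfl⟩
      rw [hψ σ h1, map_one]
    · obtain ⟨g, hg⟩ := hs n
      obtain ⟨σ, c, hc, rfl⟩ := mem_monoSub_iff.1 (h.mem_normalizer.1 (hg ▸ n.2))
      exact ⟨⟨φ (sgn c hc), h.mem_normalizer.2 (sgn_mem c hc)⟩, mem_map_of_mem φ (sgn_mem_sgnSub c hc),
        ψ σ, ⟨σ, rfl⟩, Subtype.ext (by rw [← hg, mono_eq, map_mul]; rfl)⟩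
  have two : ∀ {g}, orderOf (φ g) = 2 → φ g ≠ 1 := fun h2 e => by simp [e] at h2
  refine ⟨sgnSub.map φ, ⟨⟨⟨fun x y => Subtype.ext ?_⟩⟩, fun a ha => by rw [pow_two, hsq a ha]⟩,
    by omega, mem_map_of_mem φ (sgn_mem_sgnSub _ _), inferInstance,
    ⟨hK.symm.QuotientMulEquiv.trans (MonoidHom.ofInjective hinj).symm⟩, ⟨_, hK⟩,
    φ eO, mem_map_of_mem φ (sgn_mem_sgnSub _ _), φ eD, mem_map_of_mem φ (sgn_mem_sgnSub _ _),
    two hz, two (h.orderOf_two (Or.inr (Or.inl isC_eD))), fun n _ e => ?_, ?_⟩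
  · have := inv_eq_of_mul_eq_one_right (hsq _ (mul_mem x.2 y.2))
    rw [mul_inv_rev, inv_eq_of_mul_eq_one_right (hsq _ x.2),
      inv_eq_of_mul_eq_one_right (hsq _ y.2)] at this
    exact this.symm
  · rcases (h.isConj_iff hs).1 (isConj_iff.2 ⟨n, e⟩) with e | e
    · exact (isA_eO.conj e).not_isC isC_eD
    · exact (isA_eO.conj e).not_isC isC_eD.neg
  · rintro _ ⟨g, hg, rfl⟩ h1
    obtain ⟨c, hc, rfl⟩ := mem_sgnSub_iff.1 hg
    have key : ∀ {a b ha hb} (σ : M24), σ • a = b →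
        φ (permHom σ) * φ (sgn a ha) * (φ (permHom σ))⁻¹ = φ (sgn b hb) := fun σ e => by
      rw [← map_inv, ← map_mul, ← map_mul, perm_conj_sgn, sgn_congr e]
    rcases sgn_cases hc with a | a | a | a
    · exact absurd ((h _).2 (Or.inl a)) h1
    · exact absurd ((h _).2 (Or.inr a)) h1
    · rcases (isA_sgn hc).1 a with a | a
      · obtain ⟨σ, hσ⟩ := Spor.M24C.exists_smul_octad (mem_octads_iff.2 ⟨hc, a⟩)
          (mem_octads_iff.2 ⟨o1_GC, o1_card⟩)
        exact ⟨_, h.mem_normalizer.2 (permHom_mem σ), Or.inl (key σ hσ)⟩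
      · obtain ⟨σ, hσ⟩ := Spor.M24C.exists_smul_octad (mem_octads_iff.2 ⟨GC_compl hc, by
          rw [Finset.card_compl, card_golayPt, a]⟩) (mem_octads_iff.2 ⟨o1_GC, o1_card⟩)
        refine ⟨_, h.mem_normalizer.2 (permHom_mem σ), Or.inl ?_⟩
        rw [← h.neg_mul (sgn c hc), negOne_mul_sgn]
        exact key σ hσ
    · obtain ⟨σ, hσ⟩ := Spor.M24C.exists_smul_dodecad (mem_dodecads_iff.2 ⟨hc, (isC_sgn hc).1 a⟩)
        Spor.M24C.d0_mem
      exact ⟨_, h.mem_normalizer.2 (permHom_mem σ), Or.inr (key σ hσ)⟩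

end Cfsg.Agent.S5397
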