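import Cfsg.Statements.S5401
import Cfsg.Agent.TT.HubRows
import Cfsg.Agent.TT.TypeM

set_option autoImplicit false
open Cfsg

namespace Cfsg.Agent.S5401

open Cfsg.Agent.TT

/-- Existence of the Fischer 3-transposition groups: there exist finite groups generated by a conjugacy class of 3-transpositions on which they act primitively that are of type M(22), of type M(23), and of type M(24) respectively. -/
theorem result : (∃ (X : Type) (_ : Group X) (_ : Finite X) (E : Set X), Cfsg.IsThreeTranspositionClass E ∧ Cfsg.IsPrimitiveUnderConj E ∧ Cfsg.IsOfTypeM22 X E) ∧ (∃ (X : Type) (_ : Group X) (_ : Finite X) (E : Set X), Cfsg.IsThreeTranspositionClass E ∧ Cfsg.IsPrimitiveUnderConj E ∧ Cfsg.IsOfTypeM23 X E) ∧ (∃ (X : Type) (_ : Group X) (_ : Finite X) (E : Set X), Cfsg.IsThreeTranspositionClass E ∧ Cfsg.IsPrimitiveUnderConj E ∧ Cfsg.IsOfTypeM24 X E) := by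
  have := fi22_finite
  have := fi23_finite
  have := fi24_finite
  exact ⟨⟨_, _, fi22_finite, _, fi22D_class, fi22D_prim.primitive, fi22D_geom.isOfType fi22D_class.2.2 fi22_center⟩,
    ⟨_, _, fi23_finite, _, fi23D_class, fi23D_prim.primitive, fi23D_geom.isOfType fi23D_class.2.2 fi23_center⟩,
    ⟨_, _, fi24_finite, _, fi24D_class, fi24D_prim.primitive, fi24D_geom.isOfType fi24D_class.2.2 fi24_center⟩⟩

end Cfsg.Agent.S5401
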