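import Cfsg.Statements.S5402
import Mathlib
import Cfsg.Agent.TT.TildeId
import Cfsg.Agent.TT.TypeM
import Cfsg.Agent.TT.PrimGroup

set_option autoImplicit false
open Cfsg

namespace Cfsg.Agent.S5402

/-- Let G be a finite group with an involution d whose centralizer C is quasisimple, such that C modulo the subgroup generated by d is of type M(22) with respect to some conjugacy class of 3-transpositions generating it, and also has an involution whose own centralizer is quasisimple with quotient by it isomorphic to the projective special unitary group of dimension 6 over the field with four elements and which is not weakly closed in its centralizer; and suppose some conjugate of d other than d commutes with d. Then the conjugacy class of d is a class of 3-transpositions generating G, and G with this class is of type M(23). -/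
theorem result {G : Type*} [Group G] [Finite G] (d : G) (hd : orderOf d = 2) (hq : Cfsg.IsQuasisimple (Subgroup.centralizer ({d} : Set G))) [((Subgroup.zpowers d).subgroupOf (Subgroup.centralizer ({d} : Set G))).Normal] (htype : ∃ E : Set ((Subgroup.centralizer ({d} : Set G)) ⧸ (Subgroup.zpowers d).subgroupOf (Subgroup.centralizer ({d} : Set G))), Cfsg.IsThreeTranspositionClass E ∧ Cfsg.IsOfTypeM22 _ E) (hinvol : ∃ d' : (Subgroup.centralizer ({d} : Set G)) ⧸ (Subgroup.zpowers d).subgroupOf (Subgroup.centralizer ({d} : Set G)), orderOf d' = 2 ∧ Cfsg.IsQuasisimple (Subgroup.centralizer ({d'} : Set _)) ∧ (∃ (K : Type) (_ : Field K) (_ : Fintype K), Fintype.card K = 4 ∧ ∃ _ : ((Subgroup.zpowers d').subgroupOf (Subgroup.centralizer ({d'} : Set _))).Normal, Nonempty ((Subgroup.centralizer ({d'} : Set _)) ⧸ (Subgroup.zpowers d').subgroupOf (Subgroup.centralizer ({d'} : Set _)) ≃* Cfsg.PSU 6 K 2)) ∧ ∃ g, g * d' * g⁻¹ ∈ Subgroup.centralizer ({d'} : Set _) ∧ g * d' * g⁻¹ ≠ d') (hnwc : ∃ g : G, g * d * g⁻¹ ∈ Subgroup.centralizer ({d} : Set G)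 ∧ g * d * g⁻¹ ≠ d) : Cfsg.IsThreeTranspositionClass (conjugatesOf d) ∧ Cfsg.IsOfTypeM23 G (conjugatesOf d) := by
  obtain ⟨E, hE, ht⟩ := htype
  have h1 : (Subgroup.zpowers d).subgroupOf (Subgroup.centralizer ({d} : Set G)) =
      Subgroup.center _ := by
    refine le_antisymm (fun x hx => Subgroup.mem_center_iff.2 fun y => Subtype.ext ?_)
      fun x hx => (QuotientGroup.eq_one_iff x).1 (Subgroup.mem_bot.1 (ht.1 ▸ ?_))
    · obtain ⟨k, hk⟩ := hx
      have : Commute (y : G) d := Subgroup.mem_centralizer_singleton_iff.1 y.2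
      have h2 : (d ^ k : G) = x := hk
      exact (h2 ▸ this.zpow_right k : Commute (y : G) x)
    · refine Subgroup.mem_center_iff.2 fun y => ?_
      obtain ⟨y, rfl⟩ := QuotientGroup.mk_surjective y
      exact congrArg QuotientGroup.mk (Subgroup.mem_center_iff.1 hx y)
  have h2 := hq.2
  have h3 := (QuotientGroup.quotientMulEquivOfEq h1).isSimpleGroup
  have h4 := hq.1
  have h5 := Group.IsPerfect.ofSurjective (QuotientGroup.mk'_surjective
    ((Subgroup.zpowers d).subgroupOf (Subgroup.centralizer ({d} : Set G))))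
  obtain ⟨e, -⟩ := TT.exists_equiv_fi22 (TT.group_of_class hE) (TT.primitive_of_simple hE
    (let ⟨_, a, ha, b, hb, c, _⟩ := ht; ⟨a, ha, b, hb, fun e => c (e ▸ Commute.refl a)⟩)
    (h5.commutator_eq_top ▸ Subgroup.topEquiv.isSimpleGroup)) ht
  obtain ⟨h6, h7, h8⟩ := TT.m23g_of_quot hd hq.1 e hnwc
  exact ⟨h6.1.isClass h7, h6.isOfType h7 h8⟩

end Cfsg.Agent.S5402
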