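import Cfsg.Statements.S5405
import Cfsg.Agent.TT.OmegaH1

set_option autoImplicit false
open scoped MatrixGroups
open Cfsg

namespace Cfsg.Agent.S5405

open Cfsg.Agent.Class.Orth

/-- Bit positions of the coordinates. -/
def ix0 : (Fin 1 ⊕ Fin 1) ⊕ Fin 2 → ℕ := Sum.elim (Sum.elim (·.val) (·.val + 1)) (·.val + 2)

/-- Bit positions of the coordinates. -/
def ix1 : (Fin 2 ⊕ Fin 2) ⊕ Fin 2 → ℕ := Sum.elim (Sum.elim (·.val) (·.val + 2)) (·.val + 4)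

/-- Bit positions of the coordinates. -/
def ix2 : Fin 4 ⊕ Fin 4 → ℕ := Sum.elim (·.val) (·.val + 4)



set_option synthInstance.maxSize 2000 in
/-- Vanishing of first cohomology on the natural module for three small orthogonal groups over the field with two elements: for the commutator subgroup of the isometry group of the elliptic quadratic form in dimension 4, of the elliptic form in dimension 6, and of the hyperbolic form in dimension 8, every crossed homomorphism into the natural module (a map f with f(gh) = f(g) + g·f(h)) is principal (of the form g ↦ g·v − v). -/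
theorem result : (∀ f : ↥(Cfsg.Omega (ZMod 2) (Cfsg.quadFormMinus 1 (ZMod 2) 1 1)) → ((Fin 1 ⊕ Fin 1) ⊕ Fin 2 → ZMod 2), (∀ g h : ↥(Cfsg.Omega (ZMod 2) (Cfsg.quadFormMinus 1 (ZMod 2) 1 1)), f (g * h) = f g + Matrix.mulVec (((g : ↥(Cfsg.isometryGroup (ZMod 2) (Cfsg.quadFormMinus 1 (ZMod 2) 1 1))) : GL ((Fin 1 ⊕ Fin 1) ⊕ Fin 2) (ZMod 2)) : Matrix ((Fin 1 ⊕ Fin 1) ⊕ Fin 2) ((Fin 1 ⊕ Fin 1) ⊕ Fin 2) (ZMod 2)) (f h)) → ∃ v : (Fin 1 ⊕ Fin 1) ⊕ Fin 2 → ZMod 2, ∀ g : ↥(Cfsg.Omega (ZMod 2) (Cfsg.quadFormMinus 1 (ZMod 2) 1 1)), f g = Matrix.mulVec (((g : ↥(Cfsg.isometryGroup (ZMod 2) (Cfsg.quadFormMinus 1 (ZMod 2) 1 1))) : GL ((Fin 1 ⊕ Fin 1) ⊕ Fin 2) (ZMod 2)) : Matrix ((Fin 1 ⊕ Fin 1) ⊕ Fin 2) ((Fin 1 ⊕ Fin 1) ⊕ Fin 2) (ZMod 2)) v - v) ∧ (∀ f : ↥(Cfsg.Omega (ZMod 2) (Cfsg.quadFormMinus 2 (ZMod 2) 1 1)) → ((Fin 2 ⊕ Fin 2) ⊕ Fin 2 → ZMod 2), (∀ g h : ↥(Cfsg.Omega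 (ZMod 2) (Cfsg.quadFormMinus 2 (ZMod 2) 1 1)), f (g * h) = f g + Matrix.mulVec (((g : ↥(Cfsg.isometryGroup (ZMod 2) (Cfsg.quadFormMinus 2 (ZMod 2) 1 1))) : GL ((Fin 2 ⊕ Fin 2) ⊕ Fin 2) (ZMod 2)) : Matrix ((Fin 2 ⊕ Fin 2) ⊕ Fin 2) ((Fin 2 ⊕ Fin 2) ⊕ Fin 2) (ZMod 2)) (f h)) → ∃ v : (Fin 2 ⊕ Fin 2) ⊕ Fin 2 → ZMod 2, ∀ g : ↥(Cfsg.Omega (ZMod 2) (Cfsg.quadFormMinus 2 (ZMod 2) 1 1)), f g = Matrix.mulVec (((g : ↥(Cfsg.isometryGroup (ZMod 2) (Cfsg.quadFormMinus 2 (ZMod 2) 1 1))) : GL ((Fin 2 ⊕ Fin 2) ⊕ Fin 2) (ZMod 2)) : Matrix ((Fin 2 ⊕ Fin 2) ⊕ Fin 2) ((Fin 2 ⊕ Fin 2) ⊕ Fin 2) (ZMod 2)) v - v) ∧ (∀ f : ↥(Cfsg.Omega (ZMod 2) (Cfsg.quadFormPlus 4 (ZMod 2))) → (Fin 4 ⊕ Fin 4 → ZMod 2), (∀ g h : ↥(Cfsg.Omega (ZMod 2) (Cfsg.quadFormPlus 4 (ZMod 2))), f (g * h) = f g + Matrix.mulVec (((g : ↥(Cfsg.isometryGroup (ZMod 2) (Cfsg.quadFormPlus 4 (ZMod 2)))) : GL (Fin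 4 ⊕ Fin 4) (ZMod 2)) : Matrix (Fin 4 ⊕ Fin 4) (Fin 4 ⊕ Fin 4) (ZMod 2)) (f h)) → ∃ v : Fin 4 ⊕ Fin 4 → ZMod 2, ∀ g : ↥(Cfsg.Omega (ZMod 2) (Cfsg.quadFormPlus 4 (ZMod 2))), f g = Matrix.mulVec (((g : ↥(Cfsg.isometryGroup (ZMod 2) (Cfsg.quadFormPlus 4 (ZMod 2)))) : GL (Fin 4 ⊕ Fin 4) (ZMod 2)) : Matrix (Fin 4 ⊕ Fin 4) (Fin 4 ⊕ Fin 4) (ZMod 2)) v - v) := by
  refine ⟨?_, ?_, ?_⟩
  · exact h1_mat (minusQF 1 (ZMod 2) 1 1) _ (minusQF_apply 1 _ 1 1) (nd_minusQF_of_disc 1 (by decide))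
      (fun i => bitv ix0 (![5, 9, 10, 4] i)) (fun i => bitv ix0 (![7, 5, 1, 15] i))
      (by decide +kernel) (by decide +kernel) (by decide +kernel)
      (fun v => 0x111000202001000 / 16 ^ (∑ i, (v i).val * 2 ^ ix0 i) % 16)
      (by decide +kernel) (Or.inr (by decide +kernel))
  · exact h1_mat (minusQF 2 (ZMod 2) 1 1) _ (minusQF_apply 2 _ 1 1) (nd_minusQF_of_disc 2 (by decide))
      (fun i => bitv ix1 (![52, 24, 38, 20, 11, 35] i)) (fun i => bitv ix1 (![55, 45, 12, 58, 47, 43] i))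
      (by decide +kernel) (by decide +kernel) (by decide +kernel)
      (fun v => 0x1002002205003122400100310003043110020020030011240230020020100000 / 16 ^ (∑ i, (v i).val * 2 ^ ix1 i) % 16)
      (by decide +kernel) (Or.inl (by simp))
  · exact h1_mat (plusQF 4 (ZMod 2)) _ (plusQF_apply 4 _) (nd_plusQF 4 _)
      (fun i => bitv ix2 (![39, 149, 203, 136, 163, 145, 42, 19] i)) (fun i => bitv ix2 (![173, 237, 4, 147, 184, 202, 23, 38] i))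
      (by decide +kernel) (by decide +kernel) (by decide +kernel)
      (fun v => 0x7204005500602304300008300345400606003010206505000000745543400001006100a014001200092007223000100040202026000a0003832381000000000400703205002065000436300005436000105606006043030452500003474000002300210018001a0320010000900290070109010402000200000000000000000 / 16 ^ (∑ i, (v i).val * 2 ^ ix2 i) % 16)
      (by decide +kernel) (Or.inl (by simp))

end Cfsg.Agent.S5405
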