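import Cfsg.Statements.S5440
import Cfsg.Agent.F24.Setup
-- import your own Cfsg.Agent.* helpers here

set_option autoImplicit false
open Cfsg

namespace Cfsg.Agent.S5440

/-- Let G be a finite group of large Fischer type at the involution z: the generalized Fitting subgroup Q of H = C_G(z) is extraspecial of order 2^13, H has normal subgroups Q ≤ H₁ ≤ H₂ with H₁/Q of order 3, H₂/H₁ the projective special unitary group of dimension 4 over the field with nine elements and H₂ of index 2 in H, and some conjugate of z other than z lies in Q. Then H has exactly two orbits, under conjugation, on the involutions of Q other than z. -/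
theorem result {G : Type*} [Group G] [Finite G] (z : G) (Q : Subgroup (Subgroup.centralizer ({z} : Set G))) [Q.Normal] (hF : Cfsg.IsOfLargeFischerTypeAt z Q) : ∃ s t : Subgroup.centralizer ({z} : Set G), s ∈ Q ∧ t ∈ Q ∧ orderOf s = 2 ∧ orderOf t = 2 ∧ (s : G) ≠ z ∧ (t : G) ≠ z ∧ (¬ ∃ h : Subgroup.centralizer ({z} : Set G), h * s * h⁻¹ = t) ∧ ∀ x : Subgroup.centralizer ({z} : Set G), x ∈ Q → orderOf x = 2 → (x : G) ≠ z → (∃ h : Subgroup.centralizer ({z} : Set G), h * s * h⁻¹ = x) ∨ ∃ h : Subgroup.centralizer ({z} : Set G), h * t * h⁻¹ = x := by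
  obtain ⟨x, σ, ρ, h⟩ := F24.exists_F24S z Q hF
  have memP : ∀ g : Subgroup.centralizer ({z} : Set G),
      (g : G) ∈ Q.map (Subgroup.centralizer ({z} : Set G)).subtype ↔ g ∈ Q := fun g =>
    Subgroup.mem_map_iff_mem (Subgroup.centralizer ({z} : Set G)).subtype_injective
  have hu : F24.uo 0 ∈ TT.UQ.A TT.UQ.om := Or.inl (by decide)
  have hu' := TT.UQ.A_subset (by decide) hu
  have ord : ∀ v ∈ TT.UQ.Iso, orderOf (⟨σ v, h.Q_le (h.co.mem v)⟩ :
      Subgroup.centralizer ({z} : Set G)) = 2 ∧ σ v ≠ z := fun v hv =>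
    ⟨TT.orderOf_eq_two_of (fun e => hv.1 (h.co.inj v (Or.inl (congrArg Subtype.val e))))
      (Subtype.ext ((h.co.sq_eq_one_iff v).2 hv.2)), fun e => hv.1 (h.co.inj v (Or.inr e))⟩
  have key : ∀ u ∈ TT.UQ.Iso, ∀ v ∈ TT.UQ.Iso, (u ∈ TT.UQ.A TT.UQ.om ↔ v ∈ TT.UQ.A TT.UQ.om) →
      ∀ y : Subgroup.centralizer ({z} : Set G), (y : G) = σ v ∨ (y : G) = σ v * z →
      ∃ g : Subgroup.centralizer ({z} : Set G),
        g * ⟨σ u, h.Q_le (h.co.mem u)⟩ * g⁻¹ = y := by
    intro u hu v hv huv y hy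
    obtain ⟨g, hg, -, e⟩ := h.exists_conj hu hv huv
    have hg' := Subgroup.mem_centralizer_singleton_iff.2 hg
    rcases hy with hy | hy
    · exact ⟨⟨g, hg'⟩, Subtype.ext (e.trans hy.symm)⟩
    · obtain ⟨q, hq, e'⟩ := h.exists_conj_mul_z hv.1
      refine ⟨⟨q, h.Q_le hq⟩ * ⟨g, hg'⟩, Subtype.ext ?_⟩
      rw [hy, ← e', ← e]
      simp [mul_assoc]
  refine ⟨⟨σ (F24.uo 0), h.Q_le (h.co.mem _)⟩, ⟨σ F24.s1, h.Q_le (h.co.mem _)⟩,
    (memP _).1 (h.co.mem _), (memP _).1 (h.co.mem _), (ord _ hu').1, (ord _ F24.s1_mem.1).1,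
    (ord _ hu').2, (ord _ F24.s1_mem.1).2, ?_, fun y hy h2 hz => ?_⟩
  · rintro ⟨g, e⟩
    have e' : (g : G) * σ (F24.uo 0) * (g : G)⁻¹ = σ F24.s1 := congrArg Subtype.val e
    have := h.act g (F24.uo 0)
    rw [e'] at this
    exact F24.s1_mem.2 (h.co.eq_of this ▸ ((h.le ⟨g, rfl⟩).2 _).2 hu)
  · obtain ⟨v, hv, e⟩ := h.exists_of_invol ((memP y).2 hy) (by simpa using h2) hz
    by_cases hA : v ∈ TT.UQ.A TT.UQ.om
    · exact Or.inl (key _ hu' v hv (iff_of_true hu hA) y e)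
    · exact Or.inr (key _ F24.s1_mem.1 v hv (iff_of_false F24.s1_mem.2 hA) y e)

end Cfsg.Agent.S5440
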