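import Cfsg.Statements.S5442
import Mathlib
import Cfsg.Agent.F24.OuterRow
import Cfsg.Agent.TT.RowCent

set_option autoImplicit false
open Cfsg

namespace Cfsg.Agent.S5442

open Subgroup TT TT.UQ F24

/-- Let G be a finite group of large Fischer type at the involution z: the generalized Fitting subgroup Q of H = C_G(z) is extraspecial of order 2^13, H has normal subgroups Q ≤ H₁ ≤ H₂ with H₁/Q of order 3, H₂/H₁ the projective special unitary group of dimension 4 over the field with nine elements and H₂ of index 2 in H, and some conjugate of z other than z lies in Q. Let s = g z g⁻¹ be a conjugate of z lying in Q and different from z. Then the intersection of Q and g Q g⁻¹ (as subgroups of G) is elementary abelian of order 2^7; and in H/Q, writing X for the image of the centralizer of s in H and E for the image of the intersection of g Q g⁻¹ with H, E is a normal subgroup of X, elementary abelian of order 32, with X/E isomorphic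 to the alternating group of degree 6. -/
theorem result {G : Type*} [Group G] [Finite G] (z : G) (Q : Subgroup (Subgroup.centralizer ({z} : Set G))) [Q.Normal] (hF : Cfsg.IsOfLargeFischerTypeAt z Q) (s : G) (hsQ : ∃ hsc : s ∈ Subgroup.centralizer ({z} : Set G), (⟨s, hsc⟩ : Subgroup.centralizer ({z} : Set G)) ∈ Q) (hs : IsConj z s) (hs1 : s ≠ z) (g : G) (hg : g * z * g⁻¹ = s) (X E : Subgroup ((Subgroup.centralizer ({z} : Set G)) ⧸ Q)) (hX : X = ((Subgroup.centralizer ({z} : Set G) ⊓ Subgroup.centralizer ({s} : Set G)).subgroupOf (Subgroup.centralizer ({z} : Set G))).map (QuotientGroup.mk' Q)) (hE : E = ((((Q.map (Subgroup.centralizer ({z} : Set G)).subtype)).map (MulAut.conj g).toMonoidHom ⊓ Subgroup.centralizer ({z} : Set G)).subgroupOf (Subgroup.centralizer ({z} : Set G))).map (QuotientGroup.mk' Q)) : Cfsg.IsElementaryAbelian 2 ((Q.map (Subgroup.centralizer ({z} : Set G)).subtype) ⊓ ((Q.map (Subgroup.centralizer ({z} : Set G)).subtype)).map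 (MulAut.conj g).toMonoidHom) ∧ Nat.card ↥((Q.map (Subgroup.centralizer ({z} : Set G)).subtype) ⊓ ((Q.map (Subgroup.centralizer ({z} : Set G)).subtype)).map (MulAut.conj g).toMonoidHom) = 2 ^ 7 ∧ E ≤ X ∧ (∀ x ∈ X, ∀ y ∈ E, x * y * x⁻¹ ∈ E) ∧ Cfsg.IsElementaryAbelian 2 E ∧ Nat.card E = 32 ∧ ∃ _ : (E.subgroupOf X).Normal, Nonempty (↥X ⧸ E.subgroupOf X ≃* alternatingGroup (Fin 6)) := by
  obtain ⟨hc, hsQ⟩ := hsQ
  obtain ⟨x, σ, ρ, h0⟩ := exists_F24S z Q hF
  obtain ⟨x, σ, ρ, h, e, ψ, hψ, rfl⟩ := exists_F24S_at z Q hF hsQ (h0.orderOf_conj hs) hs1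
    s1_mem.1 (iff_of_true hs s1_mem.2)
  replace e : σ s1 = s := e
  have h1 : (Q.map (centralizer {z}).subtype).map (MulAut.conj g).toMonoidHom = O2C (σ s1) := by
    rw [h.Q_eq, ← O2C_conj, hg, e]
  have h2 : E.map ψ = E5 := by
    rw [hE, h1, map_map, inf_subgroupOf_right, h.map_O2C]
  have h3 : X.map ψ = HT ⊓ St1 := by
    rw [hX, map_map, inf_subgroupOf_left, ← e]
    refine le_antisymm ?_ fun k hk => ?_
    · rintro _ ⟨c, hc, rfl⟩
      exact ⟨h.range_eq.le ⟨c, rfl⟩, h.le ⟨c, rfl⟩, h.rho_apply (Or.inl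
        (conj_eq_of_comm (mem_centralizer_singleton_iff.1 hc)))⟩
    · obtain ⟨c, rfl⟩ := h.range_eq.ge hk.1
      obtain ⟨c', e1, e2⟩ := h.exists_comm s1_mem.1.1 c hk.2.2
      exact ⟨c', mem_centralizer_singleton_iff.2 e2, e1⟩
  have h4 : ∀ y, y ∈ E ↔ ψ y ∈ E5 := fun y => by rw [← h2, mem_map_iff_mem hψ]
  have h5 : ∀ y, y ∈ X ↔ ψ y ∈ HT ⊓ St1 := fun y => by rw [← h3, mem_map_iff_mem hψ]
  have h6 : ∀ y ∈ E, y * y = 1 := fun y hy => hψ (by rw [map_mul, E5_sq _ ((h4 y).1 hy), map_one])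
  have h7 := h.inf_sq h.isConj_s1 (h.ne_z _)
  obtain ⟨θ, h8, h9⟩ := exists_theta_alt
  obtain ⟨hn, h10⟩ := quot_of_ker (θ.comp ((ψ.comp X.subtype).codRestrict _ fun y => (h5 y).1 y.2))
    (h8.comp fun k => by
      obtain ⟨y, hy, e⟩ := h3.ge k.2
      exact ⟨⟨y, hy⟩, Subtype.ext e⟩) (K := E.subgroupOf X) fun c => (h4 c).trans
        (h9 ⟨ψ c, (h5 c).1 c.2⟩).symm
  have h11 : E ≤ X := fun y hy => (h5 y).2 ⟨E5_le_HT ((h4 y).1 hy), E5_le_St1 ((h4 y).1 hy)⟩
  rw [h1]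
  exact ⟨⟨⟨⟨fun a b => Subtype.ext (comm_of_sq_eq_one h7 a.2 b.2)⟩⟩, fun a ha => by
    rw [pow_two, h7 a ha]⟩, h.card_inf_O2C, h11,
    fun a ha b hb => hn.conj_mem ⟨b, h11 hb⟩ hb ⟨a, ha⟩,
    ⟨⟨⟨fun a b => Subtype.ext (comm_of_sq_eq_one h6 a.2 b.2)⟩⟩, fun a ha => by
    rw [pow_two, h6 a ha]⟩, by rw [← card_map_of_injective hψ, h2, card_E5], hn, h10⟩

end Cfsg.Agent.S5442
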