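import Cfsg.Statements.S5443
import Mathlib
import Cfsg.Agent.F24.OuterRow
import Cfsg.Agent.TT.R22Aut
import Cfsg.Agent.TT.RowCent

set_option autoImplicit false
open Cfsg

namespace Cfsg.Agent.S5443

open Subgroup Class TT TT.UQ F24

/-- The stabilizer of a vector of weight two. -/
abbrev St : Subgroup P6 := MulAction.stabilizer P6 (wv 0 1 1)

theorem card_inf {K : Subgroup P6} (h1 : KT om ≤ K) (h2 : K ≤ GT om) :
    Nat.card ↥(K ⊓ St) * 378 = Nat.card K := by
  have e : MulAction.orbit K (wv 0 1 1) = A om := by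
    ext v
    refine ⟨?_, fun hv => ?_⟩
    · rintro ⟨g, rfl⟩
      exact ((h2 g.2).2 _).2 (wv01_mem om)
    · obtain ⟨g, hg, e⟩ := KT_trans F24.om_ne (wv01_mem om) hv
      exact ⟨⟨g, h1 hg⟩, e⟩
  rw [← (MulAction.stabilizer K (wv 0 1 1)).card_mul_index, MulAction.index_stabilizer, e,
    ncard_A F24.om_ne, ← Nat.card_congr (subgroupOfEquivOfLe (inf_le_left : K ⊓ St ≤ K)).toEquiv,
    inf_subgroupOf_left]
  rfl

theorem equiv_L : Nonempty (↥(KT om ⊓ St) ≃* PSU 4 GF4 2) := by
  have hI := (isI_A F24.om_ne).loc ⟨_, wv01_mem om, rfl⟩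
  obtain ⟨τ, E, hE⟩ := exists_uCoord 4
  have hU : IsU E 4 := ⟨τ, hE⟩
  obtain ⟨e⟩ := (hU.of_feq (hU.isI_five.feq hI) hI.tt).bar_equiv le_rfl
  have h1 : closure (loc (tv '' A om) (tv (wv 0 1 1))) ≤ NT om ⊓ St := (closure_le _).2
    fun a ha => ⟨subset_closure ha.1, apply_eq_of_mem_loc (wv01_mem om) ha⟩
  generalize closure (loc (tv '' A om) (tv (wv 0 1 1))) = M at e h1
  have h2 : (commutator M).map M.subtype ≤ KT om ⊓ St := le_inf (by
    rw [map_subtype_commutator]
    exact commutator_mono (h1.trans inf_le_left) (h1.trans inf_le_left))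
    ((map_subtype_le _).trans (h1.trans inf_le_right))
  have := U.UF.of_card (q := 2) card_GF4
  have : IsSimpleGroup (PSU 4 GF4 2) := U.isSimpleGroup_PSU (by norm_num) (by norm_num)
  have h3 : commutator (PSU 4 GF4 2) = ⊤ := (this.eq_bot_or_eq_top_of_normal _
    inferInstance).resolve_left
    fun h => bot_ne_top ((psuD_model le_rfl).2.2.symm.trans ((commutator_eq_bot_iff_center_eq_top _).1 h))
  let π := e.toMonoidHom.comp (QuotientGroup.mk' _)
  have h4 : Function.Surjective (π.comp (_root_.commutator M).subtype) := by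
    rw [← MonoidHom.range_eq_top, MonoidHom.range_comp, range_subtype, map_commutator_eq,
      MonoidHom.range_eq_top.2 (e.surjective.comp (QuotientGroup.mk'_surjective _))]
    exact h3
  have h5 := Nat.card_le_card_of_surjective _ h4
  have h6 := card_inf le_rfl KT_le_GT
  have h7 := card_le_of_le h2
  have h8 := card_map_of_injective (K := commutator M) M.subtype_injective
  rw [card_KT F24.om_ne] at h6
  rw [card_psu4] at h5
  exact ⟨((MulEquiv.subgroupCongr (eq_of_le_of_card_ge h2 (by omega))).symm.trans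
    (equivMapOfInjective _ _ M.subtype_injective).symm).trans (MulEquiv.ofBijective _
      ((Nat.bijective_iff_surjective_and_card _).2 ⟨h4, by rw [card_psu4]; omega⟩))⟩

theorem equiv_O : Nonempty (↥(HT ⊓ St) ≃* isometryGroup (ZMod 2) (quadFormMinus 2 (ZMod 2) 1 1)) := by
  obtain ⟨e⟩ := equiv_L
  obtain ⟨e'⟩ := nonempty_aut_psu4_equiv
  have hle : KT om ⊓ St ≤ HT ⊓ St := inf_le_inf_right _ le_sup_left
  have : ((KT om ⊓ St).subgroupOf (HT ⊓ St)).Normal := ⟨fun a ha g =>
    ⟨KT_normal_GT _ (HT_le g.2.1) _ ha.1, St.mul_mem (St.mul_mem g.2.2 ha.2) (St.inv_mem g.2.2)⟩⟩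
  let e'' := (subgroupOfEquivOfLe hle).trans e
  refine ⟨(MulEquiv.ofBijective (MulAut.conjNormal (H := (KT om ⊓ St).subgroupOf (HT ⊓ St)))
    ((Nat.bijective_iff_injective_and_card _).2 ⟨(injective_iff_map_eq_one _).2 fun c hc => ?_,
      ?_⟩)).trans ((MulAut.congr e'').trans e')⟩
  · have h1 : ∀ k ∈ KT om ⊓ St, (c : P6) * k = k * c := fun k hk => mul_inv_eq_iff_eq_mul.1
      (congrArg (fun φ : MulAut ((KT om ⊓ St).subgroupOf (HT ⊓ St)) =>
        ((φ ⟨⟨k, hle hk⟩, hk⟩).1.1 : P6)) hc)
    rcases (HT_le c.2.1).1 with hl | hl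
    · have h2 : (c : P6) ∈ KT om ⊓ St := ⟨HT_inf_GU6.le ⟨c.2.1, hl⟩, c.2.2⟩
      have h3 : e ⟨c, h2⟩ ∈ center _ := mem_center_iff.2 fun y => by
        obtain ⟨y, rfl⟩ := e.surjective y
        rw [← map_mul, ← map_mul]
        exact congrArg e (Subtype.ext (h1 y y.2).symm)
      rw [(psuD_model le_rfl).2.2, mem_bot, e.map_eq_one_iff] at h3
      exact Subtype.ext (Subtype.ext_iff.1 h3 :)
    have key : ∀ k : Fin 6, 2 < k → ∀ i, i ≠ k → (c : P6) (Pi.single 2 1) i = 0 := fun k hk i hi => by
      have h2 := congrFun (DFunLike.congr_fun (h1 (dz (.ofAdd (Pi.single 2 1 - Pi.single k 1)))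
        ⟨dz_mem (by simp), MulAction.mem_stabilizer_iff.2 (by clear hi; revert k; decide)⟩) (Pi.single 2 1)) i
      rw [Equiv.Perm.mul_apply, show dz (.ofAdd (Pi.single 2 1 - Pi.single k 1)) (Pi.single 2 1) =
        om • Pi.single 2 1 by clear h2 hi; revert k; decide, hl.smul, Equiv.Perm.mul_apply, dz_apply] at h2
      exact (mul_eq_mul_right_iff.1 h2).resolve_left (by clear h2; revert k i; decide)
    exact absurd ((c : P6).injective ((funext fun i => by
      by_cases hi : i = 3
      exacts [key 4 (by decide) i (hi ▸ by decide), key 3 (by decide) i hi]).trans hl.zero.symm))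
      (by decide)
  · have := card_inf (K := HT) le_sup_left HT_le
    rw [Nat.card_congr (MulAut.congr e'').toEquiv, card_aut_psu4]
    rw [card_HT] at this
    generalize Nat.card ↥(HT ⊓ St) = n at this ⊢
    omega

/-- Let G be a finite group of large Fischer type at the involution z: the generalized Fitting subgroup Q of H = C_G(z) is extraspecial of order 2^13, H has normal subgroups Q ≤ H₁ ≤ H₂ with H₁/Q of order 3, H₂/H₁ the projective special unitary group of dimension 4 over the field with nine elements and H₂ of index 2 in H, and some conjugate of z other than z lies in Q. Let t be an involution of Q not conjugate to z in G, and S the set of elements of H conjugating t to t or to t z (the stabilizer of the image of t in Q modulo its centre). Then the image of S in H/Q is isomorphic to the full isometry group of the elliptic quadratic form in dimension 6 over the field with two elements. -/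
theorem result {G : Type*} [Group G] [Finite G] (z : G) (Q : Subgroup (Subgroup.centralizer ({z} : Set G))) [Q.Normal] (hF : Cfsg.IsOfLargeFischerTypeAt z Q) (t : Subgroup.centralizer ({z} : Set G)) (htQ : t ∈ Q) (ht2 : orderOf t = 2) (ht : ¬ IsConj z (t : G)) (S : Subgroup (Subgroup.centralizer ({z} : Set G))) (hS : ∀ h : Subgroup.centralizer ({z} : Set G), h ∈ S ↔ (h * t * h⁻¹ = t ∨ ((h * t * h⁻¹ : Subgroup.centralizer ({z} : Set G)) : G) = t * z)) : Nonempty (↥(S.map (QuotientGroup.mk' Q)) ≃* Cfsg.isometryGroup (ZMod 2) (Cfsg.quadFormMinus 2 (ZMod 2) 1 1)) := by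
  obtain ⟨x, σ, ρ, h, e, ψ, hψ, rfl⟩ := exists_F24S_at z Q hF htQ ((orderOf_coe t).trans ht2)
    (fun e => ht (by rw [e])) (A_subset F24.om_ne (wv01_mem om))
    (iff_of_false ht (not_not.2 (wv01_mem om)))
  have h1 : (S.map (QuotientGroup.mk' Q)).map ψ = HT ⊓ St := by
    rw [map_map]
    refine le_antisymm ?_ fun k hk => ?_
    · rintro _ ⟨c, hc, rfl⟩
      exact ⟨h.range_eq.le ⟨c, rfl⟩, h.rho_apply (e.symm ▸ ((hS c).1 hc).imp_left
        (congrArg Subtype.val))⟩
    · obtain ⟨c, rfl⟩ := h.range_eq.ge hk.1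
      have h2 := h.act c (wv 0 1 1)
      rw [show ψ.comp (QuotientGroup.mk' Q) c (wv 0 1 1) = wv 0 1 1 from hk.2, e] at h2
      exact ⟨c, (hS c).2 (h2.imp_left Subtype.ext), rfl⟩
  obtain ⟨e⟩ := equiv_O
  exact ⟨((equivMapOfInjective _ _ hψ).trans (MulEquiv.subgroupCongr h1)).trans e⟩

end Cfsg.Agent.S5443
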