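import Cfsg.Statements.S5444
import Cfsg.Agent.F24.J11

set_option autoImplicit false
open Cfsg

namespace Cfsg.Agent.S5444



/-- Let G be a finite group of large Fischer type at the involution z: the generalized Fitting subgroup Q of H = C_G(z) is extraspecial of order 2^13, H has normal subgroups Q ≤ H₁ ≤ H₂ with H₁/Q of order 3, H₂/H₁ the projective special unitary group of dimension 4 over the field with nine elements and H₂ of index 2 in H, and some conjugate of z other than z lies in Q. Let T be a Sylow 2-subgroup of H. Then T has exactly one elementary abelian subgroup A of largest order; A has order 2^11, it meets Q in a subgroup of order 2^7, and its image in H/Q has order 16. -/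
theorem result {G : Type*} [Group G] [Finite G] (z : G) (Q : Subgroup (Subgroup.centralizer ({z} : Set G))) [Q.Normal] (hF : Cfsg.IsOfLargeFischerTypeAt z Q) (T : Sylow 2 ↥(Subgroup.centralizer ({z} : Set G))) : ∃ A : Subgroup ↥(T : Subgroup (Subgroup.centralizer ({z} : Set G))), Cfsg.maxElementaryAbelianSubgroups 2 ↥(T : Subgroup (Subgroup.centralizer ({z} : Set G))) = {A} ∧ Nat.card A = 2 ^ 11 ∧ Nat.card ↥(A.map (T : Subgroup (Subgroup.centralizer ({z} : Set G))).subtype ⊓ Q) = 2 ^ 7 ∧ Nat.card ↥((A.map (T : Subgroup (Subgroup.centralizer ({z} : Set G))).subtype).map (QuotientGroup.mk' Q)) = 16 := by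
  obtain ⟨x, σ, ρ, h⟩ := F24.exists_F24S z Q hF
  obtain ⟨S, hS, hS'⟩ := h.exists_sylow
  have hH : (S : Subgroup G) ≤ Subgroup.centralizer ({z} : Set G) := hS'.trans inf_le_left
  obtain ⟨g, hg⟩ := MulAction.exists_smul_eq (Subgroup.centralizer ({z} : Set G)) T (S.subtype hH)
  let ι := (Subgroup.centralizer ({z} : Set G)).subtype.comp
    ((MulAut.conj g).toMonoidHom.comp (T : Subgroup (Subgroup.centralizer ({z} : Set G))).subtype)
  have hι : Function.Injective ι := (Subgroup.subtype_injective _).comp
    ((MulAut.conj g).injective.comp (Subgroup.subtype_injective _))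
  have hA : F24.AA z σ ≤ ι.range := fun a ha => by
    obtain ⟨t, ht, e⟩ : (⟨a, F24.AA_le ha⟩ : Subgroup.centralizer ({z} : Set G)) ∈
      ((g • T : Sylow 2 _) : Subgroup _) := by rw [hg]; exact hS ha
    exact ⟨⟨t, ht⟩, congrArg Subtype.val e⟩
  have hc : Nat.card ((F24.AA z σ).comap ι) = 2 ^ 11 := by
    rw [← Subgroup.card_map_of_injective hι, Subgroup.map_comap_eq_self hA, h.card_AA]
  have h7 : Nat.card ↥(((F24.AA z σ).comap ι).map
      (T : Subgroup (Subgroup.centralizer ({z} : Set G))).subtype ⊓ Q) = 2 ^ 7 := by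
    rw [← h.card_AA_inf_Q, ← Subgroup.card_map_of_injective (f := (MulAut.conj g).toMonoidHom) (MulAut.conj g).injective,
      ← Subgroup.card_map_of_injective (Subgroup.subtype_injective _)]
    refine congrArg (fun B : Subgroup G => Nat.card B) ?_
    rw [Subgroup.map_inf _ _ (MulAut.conj g).toMonoidHom (MulAut.conj g).injective,
      Subgroup.map_inf _ _ _ (Subgroup.subtype_injective _), Subgroup.map_map, Subgroup.map_map]
    exact congrArg₂ _ (Subgroup.map_comap_eq_self hA) (congrArg _ (Grp.conj_smul_normal g Q))
  refine ⟨_, h.max_eq T.2 ι hι hA, hc, h7, ?_⟩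
  have := Grp.card_map_mk'_mul Q (((F24.AA z σ).comap ι).map
      (T : Subgroup (Subgroup.centralizer ({z} : Set G))).subtype)
  rw [inf_comm, h7, Subgroup.card_map_of_injective (Subgroup.subtype_injective _), hc] at this
  omega

end Cfsg.Agent.S5444
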