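import Cfsg.Statements.S5447
import Cfsg.Agent.F24.M24T

set_option autoImplicit false
open Cfsg

namespace Cfsg.Agent.S5447



/-- Let G be a finite group of large Fischer type at the involution z: the generalized Fitting subgroup Q of H = C_G(z) is extraspecial of order 2^13, H has normal subgroups Q ≤ H₁ ≤ H₂ with H₁/Q of order 3, H₂/H₁ the projective special unitary group of dimension 4 over the field with nine elements and H₂ of index 2 in H, and some conjugate of z other than z lies in Q. Let T be a Sylow 2-subgroup of G, A its Thompson subgroup and M = N_G(A) its normalizer. Then M controls fusion in A (elements of A conjugate in G are conjugate in M), and M has exactly two orbits on the non-identity elements of A: those conjugate to z in G and those not. -/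
theorem result {G : Type*} [Group G] [Finite G] (z : G) (Q : Subgroup (Subgroup.centralizer ({z} : Set G))) [Q.Normal] (hF : Cfsg.IsOfLargeFischerTypeAt z Q) (T : Sylow 2 G) (A M : Subgroup G) (hA : A = Cfsg.thompsonSubgroupOf 2 (T : Subgroup G)) (hM : M = Subgroup.normalizer (A : Set G)) : (∀ a ∈ A, ∀ g : G, g * a * g⁻¹ ∈ A → ∃ m ∈ M, m * a * m⁻¹ = g * a * g⁻¹) ∧ (∃ a ∈ A, a ≠ 1 ∧ IsConj z a) ∧ (∃ a ∈ A, a ≠ 1 ∧ ¬ IsConj z a) ∧ ∀ a ∈ A, ∀ b ∈ A, a ≠ 1 → b ≠ 1 → (IsConj z a ↔ IsConj z b) → ∃ m ∈ M, m * a * m⁻¹ = b := by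
  obtain ⟨x, σ, ρ, h⟩ := F24.exists_F24S z Q hF
  obtain ⟨κ, f, hC⟩ := h.exists_Coc T
  subst hA hM
  have ne : ∀ s : Finset GolayPt, s.card = 2 ∨ s.card = 4 →
      F24.kap κ s ∈ thompsonSubgroupOf 2 (T : Subgroup G) ∧ F24.kap κ s ≠ 1 := fun s hs => by
    have he : Even s.card := by rcases hs with e | e <;> rw [e] <;> decide
    refine ⟨(hC.mem _).2 ⟨s, he, rfl⟩, fun e => ?_⟩
    have := Spor.card_of_mem_codeSets ((F24.kap_eq_one_iff hC.rel he).1 e)
    omega
  refine ⟨hC.fusion, ⟨_, (ne {none, some 0, some 1, some 2} (by decide)).1, (ne _ (by decide)).2,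
    hC.four _ (by decide)⟩, ⟨_, (ne {none, some 0} (by decide)).1, (ne _ (by decide)).2,
    hC.two _ (by decide)⟩, fun a ha b hb a1 b1 hab => ?_⟩
  by_cases hc : IsConj z a
  · obtain ⟨g, rfl⟩ := isConj_iff.1 (hc.symm.trans (hab.1 hc))
    exact hC.fusion a ha g hb
  · obtain ⟨s, hs, rfl⟩ := hC.exists_duad ha a1 hc
    obtain ⟨t, ht, rfl⟩ := hC.exists_duad hb b1 (mt hab.2 hc)
    exact hC.exists_conj hs ht

end Cfsg.Agent.S5447
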