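import Cfsg.Statements.S5448
import Cfsg.Agent.F24.M24T

set_option autoImplicit false
open scoped Pointwise
open Cfsg

namespace Cfsg.Agent.S5448



/-- Let G be a finite group of large Fischer type at the involution z: the generalized Fitting subgroup Q of H = C_G(z) is extraspecial of order 2^13, H has normal subgroups Q ≤ H₁ ≤ H₂ with H₁/Q of order 3, H₂/H₁ the projective special unitary group of dimension 4 over the field with nine elements and H₂ of index 2 in H, and some conjugate of z other than z lies in Q. Let T be a Sylow 2-subgroup of G, A its Thompson subgroup, M = N_G(A) its normalizer, and t an involution of A not conjugate to z in G. Then the centralizer of t in M, modulo A, is isomorphic to the setwise stabilizer of a two-element subset of the 24 points in the Mathieu group of degree 24 (the automorphism group of the smaller Mathieu group on 22 points). -/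
theorem result {G : Type*} [Group G] [Finite G] (z : G) (Q : Subgroup (Subgroup.centralizer ({z} : Set G))) [Q.Normal] (hF : Cfsg.IsOfLargeFischerTypeAt z Q) (T : Sylow 2 G) (A M : Subgroup G) (hA : A = Cfsg.thompsonSubgroupOf 2 (T : Subgroup G)) (hM : M = Subgroup.normalizer (A : Set G)) (t : G) (htA : t ∈ A) (ht2 : orderOf t = 2) (ht : ¬ IsConj z t) : ∃ _ : (A.subgroupOf (M ⊓ Subgroup.centralizer ({t} : Set G))).Normal, Nonempty (↥(M ⊓ Subgroup.centralizer ({t} : Set G)) ⧸ A.subgroupOf (M ⊓ Subgroup.centralizer ({t} : Set G)) ≃* ↥(Cfsg.M24 ⊓ MulAction.stabilizer (Equiv.Perm Cfsg.GolayPt) ({none, some 0} : Set Cfsg.GolayPt))) := by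
  obtain ⟨x, σ, ρ, h⟩ := F24.exists_F24S z Q hF
  obtain ⟨κ, f, hC⟩ : ∃ κ f, F24.Coc z A κ f := hA ▸ h.exists_Coc T
  subst hM
  obtain ⟨s, hs, rfl⟩ := hC.exists_duad htA (by rintro rfl; simp at ht2) ht
  obtain ⟨g, hg⟩ := Spor.M24C.exists_smul_finset (s := s) (t := {none, some 0}) (by omega)
    (by rw [hs]; decide)
  have ev : Even s.card := hs ▸ even_two
  have k : ∀ m : Subgroup.normalizer (A : Set G),
      (m : G) ∈ Subgroup.centralizer ({F24.kap κ s} : Set G) ↔
        ((g * f m * g⁻¹ : M24) : Equiv.Perm GolayPt) ∈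
          MulAction.stabilizer (Equiv.Perm GolayPt) ({none, some 0} : Set GolayPt) := fun m => by
    have e1 : ({none, some 0} : Set GolayPt) = (g : Equiv.Perm GolayPt) • (s : Set GolayPt) := by
      rw [← Finset.coe_smul_finset, show (g : Equiv.Perm GolayPt) • s = _ from hg]; simp
    rw [Subgroup.mem_centralizer_singleton_iff, ← mul_inv_eq_iff_eq_mul, hC.act m s ev,
      MulAction.mem_stabilizer_iff, e1, Subgroup.coe_mul, Subgroup.coe_mul, Subgroup.coe_inv,
      mul_smul, inv_smul_smul, mul_smul, smul_left_cancel_iff, ← Finset.coe_smul_finset,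
      Finset.coe_inj]
    have c : (s.image (f m : Equiv.Perm GolayPt)).card = 2 := by
      rw [Finset.card_image_of_injective _ (Equiv.injective _), hs]
    exact ⟨F24.eq_of_kap_eq hC.rel (c ▸ even_two) ev (by omega), fun e => congrArg _ e⟩
  let φ : ↥(Subgroup.normalizer (A : Set G) ⊓ Subgroup.centralizer ({F24.kap κ s} : Set G)) →*
      ↥(M24 ⊓ MulAction.stabilizer (Equiv.Perm GolayPt) ({none, some 0} : Set GolayPt)) :=
    (M24.subtype.comp ((MulAut.conj g).toMonoidHom.comp
      (f.comp (Subgroup.inclusion inf_le_left)))).codRestrict _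
      fun m => ⟨(g * f ⟨m, m.2.1⟩ * g⁻¹).2, (k ⟨m, m.2.1⟩).1 m.2.2⟩
  have hk : A.subgroupOf _ = φ.ker := by
    ext m
    rw [Subgroup.mem_subgroupOf, ← hC.ker ⟨m, m.2.1⟩, MonoidHom.mem_ker,
      Subtype.ext_iff (a1 := φ m)]
    change _ ↔ ((g * f ⟨m, m.2.1⟩ * g⁻¹ : M24) : Equiv.Perm GolayPt) = ((1 : M24) : Equiv.Perm _)
    rw [Subtype.coe_inj, conj_eq_one_iff]
  have : (A.subgroupOf (Subgroup.normalizer (A : Set G) ⊓
    Subgroup.centralizer ({F24.kap κ s} : Set G))).Normal := hk ▸ inferInstance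
  refine ⟨this, ⟨(QuotientGroup.quotientMulEquivOfEq hk).trans
    (QuotientGroup.quotientKerEquivOfSurjective φ fun π => ?_)⟩⟩
  obtain ⟨m, hm⟩ := hC.surj (g⁻¹ * ⟨π, π.2.1⟩ * g)
  have e : ((g * f m * g⁻¹ : M24) : Equiv.Perm GolayPt) = π := by rw [hm]; simp [mul_assoc]
  exact ⟨⟨m, m.2, (k m).2 (e ▸ π.2.2)⟩, Subtype.ext e⟩

end Cfsg.Agent.S5448
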