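import Cfsg.Statements.S5449
import Mathlib
import Cfsg.Agent.F24.U6In
import Cfsg.Agent.F24.Setup
import Cfsg.Agent.Class.FieldTransport

set_option autoImplicit false
open Cfsg

namespace Cfsg.Agent.S5449

open Cfsg.Agent.F24 Cfsg.Agent.Class Cfsg.Agent.TT Cfsg.Agent.TT.UQ Subgroup

/-- Let G be a finite group of large Fischer type at the involution z: the generalized Fitting subgroup Q of H = C_G(z) is extraspecial of order 2^13, H has normal subgroups Q ≤ H₁ ≤ H₂ with H₁/Q of order 3, H₂/H₁ the projective special unitary group of dimension 4 over the field with nine elements and H₂ of index 2 in H, and some conjugate of z other than z lies in Q. Then Q contains a four-group E, not containing z and containing an involution not conjugate to z in G, whose centralizer in G is quasisimple with quotient by E isomorphic to the projective special unitary group of dimension 6 over the field with four elements. -/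
theorem result {G : Type*} [Group G] [Finite G] (z : G) (Q : Subgroup (Subgroup.centralizer ({z} : Set G))) [Q.Normal] (hF : Cfsg.IsOfLargeFischerTypeAt z Q) : ∃ E : Subgroup G, E ≤ (Q.map (Subgroup.centralizer ({z} : Set G)).subtype) ∧ Cfsg.IsElementaryAbelian 2 E ∧ Nat.card E = 4 ∧ z ∉ E ∧ (∃ t ∈ E, orderOf t = 2 ∧ ¬ IsConj z t) ∧ Cfsg.IsQuasisimple ↥(Subgroup.centralizer (E : Set G)) ∧ ∃ (_ : (E.subgroupOf (Subgroup.centralizer (E : Set G))).Normal) (K : Type) (_ : Field K) (_ : Fintype K), Fintype.card K = 4 ∧ Nonempty (↥(Subgroup.centralizer (E : Set G)) ⧸ E.subgroupOf (Subgroup.centralizer (E : Set G)) ≃* Cfsg.PSU 6 K 2) := by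
  obtain ⟨x, σ, ρ, h⟩ := exists_F24S z Q hF
  have hc := h.co
  have h1 : ∀ a b : GF4, σ (a • uo 0) * σ (b • uo 0) = σ ((a + b) • uo 0) := fun a b => by
    rw [U6.mul_W0 hc (U6.uW 0 a) (U6.uW 0 b), add_smul]
  have h2 : ∀ a : GF4, σ (a • uo 0) ^ 2 = 1 := fun a => by
    rw [sq, h1, gf_add_self, zero_smul, hc.zero]
  have h3 : Function.Injective fun a : GF4 => σ (a • uo 0) := fun a b e => by
    have := congrFun (hc.eq_of (Or.inl e)) 0
    simpa [uo, wv3, ov] using this
  refine ⟨EE σ, fun e he => ?_, ⟨⟨⟨fun a b => Subtype.ext ?_⟩⟩, fun e he => ?_⟩, ?_, U6.z_not_mem hc,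
    ⟨σ ((1 : GF4) • uo 0), h.mem_EE.2 ⟨1, rfl⟩, orderOf_eq_prime (h2 1) fun c => ?_, fun c => ?_⟩,
    h.quasisimple_EE, EE_normal σ, GF4, inferInstance, inferInstance, card_GF4, h.quot_EE⟩
  · obtain ⟨c, rfl⟩ := h.mem_EE.1 he
    exact hc.mem _
  · obtain ⟨c, e1⟩ := h.mem_EE.1 a.2
    obtain ⟨d, e2⟩ := h.mem_EE.1 b.2
    rw [coe_mul, coe_mul, e1, e2, h1, h1, add_comm]
  · obtain ⟨c, rfl⟩ := h.mem_EE.1 he
    exact h2 c
  · rw [← card_GF4, ← Nat.card_eq_fintype_card]
    exact (Nat.card_congr (Equiv.ofBijective (fun a : GF4 => (⟨_, h.mem_EE.2 ⟨a, rfl⟩⟩ : EE σ))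
      ⟨fun a b e => h3 (congrArg Subtype.val e), fun e =>
        (h.mem_EE.1 e.2).imp fun _ e => Subtype.ext e.symm⟩)).symm
  · exact one_ne_zero (h3 (c.trans (by beta_reduce; rw [zero_smul, hc.zero])))
  · rw [one_smul] at c
    exact (h.isConj_iff (A_subset F24.om_ne (uo_mem 0))).1 c (uo_mem 0)

end Cfsg.Agent.S5449
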