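import Cfsg.Statements.S5451
import Cfsg.Agent.F24.M24B

set_option autoImplicit false
open Cfsg

namespace Cfsg.Agent.S5451

open Subgroup TT TT.UQ F24 Class in
theorem conjQ {G : Type*} [Group G] {Q : Subgroup G} {z x : G} {σ : V6 → G}
    {ρ : centralizer ({z} : Set G) →* P6} (h : F24S z Q x σ ρ) {q : G} (hq : q ∈ Q) :
    F24S z Q (q * x * q⁻¹) (fun v => q * σ v * q⁻¹) ρ := by
  have z2 := h.lx.z_sq
  have k : ∀ v, Eqv z (q * σ v * q⁻¹) (σ v) := fun v => h.co.xs.conj hq (h.co.mem v)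
  have hz : q * z * q⁻¹ = z := by rw [h.lx.z_comm q hq, mul_inv_cancel_right]
  refine ⟨h.lx, ⟨h.co.xs, fun v => mul_mem (mul_mem hq (h.co.mem v)) (inv_mem hq), fun a ha => ?_,
    by simp [h.co.zero], fun v hv => h.co.inj v ?_, fun v w => ?_, ?_, fun v => ?_⟩,
    fun g v => ?_, h.ker, h.le, h.ge, h.card, h.fused⟩
  · obtain ⟨v, hv⟩ := h.co.surj a ha
    exact ⟨v, Eqv.trans z2 hv ((k v).symm z2)⟩
  · have : Eqv z (q * σ v * q⁻¹) 1 := by simpa [Eqv] using hv
    simpa [Eqv] using ((k v).symm z2).trans z2 this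
  · rw [conj_mul, h.co.mul, cjm, ← conj_pow, hz]
  · rw [conj_pow, h.co.cube]; simp
  · rw [← h.co.act]; group
  · exact (((k v).conj (F24S.comm g).eq).trans z2 (h.act g v)).trans z2 ((k _).symm z2)

open scoped commutatorElement in
open Subgroup TT TT.UQ F24 Class in
theorem main {G : Type*} [Group G] [Finite G] {Q : Subgroup G} {z x : G} {σ : V6 → G}
    {ρ : centralizer ({z} : Set G) →* P6} (h : F24S z Q x σ ρ)
    (C : Subgroup (centralizer ({z} : Set G))) (hC : ∀ g, g ∈ C ↔ Commute (g : G) x) :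
    IsQuasisimple C ∧ IsCyclic (center C) ∧ Nat.card (center C) = 6 ∧
      ∃ (K : Type) (_ : Field K) (_ : Fintype K), Fintype.card K = 9 ∧
        Nonempty (C ⧸ center C ≃* PSU 4 K 3) := by
  let x' : C := ⟨⟨x, h.x_mem⟩, (hC _).2 (Commute.refl x)⟩
  let z' : C := ⟨⟨z, h.Q_le h.lx.z_mem⟩, (hC _).2 h.co.comm_x.symm⟩
  let ψ : C →* KT om := (ρ.comp C.subtype).codRestrict _ fun g =>
    mem_KT_of_lin (h.rho_mem_HT g) ((mem_GU6_iff (HT_le (h.rho_mem_HT g)).1).2 (by
      rw [← h.rho_x]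
      exact Commute.map (Subtype.ext ((hC g).1 g.2).eq) ρ))
  have hψ : Function.Surjective ψ := fun k =>
    let ⟨g, h1, h2⟩ := h.exists_lift_KT k.2; ⟨⟨g, (hC g).2 h2⟩, Subtype.ext h1⟩
  have inj : ∀ {a b : C}, ((a : centralizer ({z} : Set G)) : G) = (b : centralizer ({z} : Set G)) →
    a = b := fun e => Subtype.ext (Subtype.ext e)
  have oz : orderOf z' = 2 := by rw [← orderOf_coe, ← orderOf_coe]; exact h.co.xs.orderOf_z
  have ox : orderOf x' = 3 := by rw [← orderOf_coe, ← orderOf_coe]; exact h.orderOf_x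
  have hk : ψ.ker = zpowers z' := by
    refine le_antisymm (fun g hg => ?_)
      (zpowers_le_of_mem (Subtype.ext ((h.ker _).2 h.lx.z_mem)))
    rcases h.eq_of_commute_x ((h.ker g).1 (congrArg Subtype.val hg)) ((hC g).1 g.2) with e | e
    · rw [inj (b := 1) e]; exact one_mem _
    · rw [inj (b := z') e]; exact mem_zpowers _
  have hx : x' ∈ center C := mem_center_iff.2 fun g => inj ((hC g).1 g.2).eq
  have hz : z' ∈ center C := mem_center_iff.2 fun g => inj (F24S.comm g.1).eq
  have hZ : center C = (center (KT om)).comap ψ := by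
    refine le_antisymm (fun c hc => mem_center_iff.2 fun k => ?_) fun c hc => ?_
    · obtain ⟨g, rfl⟩ := hψ k
      rw [← map_mul, ← map_mul, mem_center_iff.1 hc g]
    · rw [center_KT F24.om_ne] at hc
      obtain ⟨n, hn⟩ := hc
      have : (x' ^ n)⁻¹ * c ∈ ψ.ker := by
        rw [MonoidHom.mem_ker, map_mul, map_inv, inv_mul_eq_one, map_zpow]
        refine Subtype.ext (Eq.trans ?_ hn)
        rw [← h.rho_x]; rfl
      rw [hk] at this
      exact (mul_mem_cancel_left (inv_mem (zpow_mem hx n))).1 (zpowers_le_of_mem hz this)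
  have c6 : Nat.card (center C) = 6 := by
    rw [hZ, Grp.card_comap_of_surjective ψ hψ, hk, center_KT F24.om_ne,
      Grp.card_subgroupOf_of_le (zpowers_le_of_mem (sc_mem_KT F24.om_ne)), Nat.card_zpowers,
      Nat.card_zpowers, orderOf_sc, oz]
  obtain ⟨e⟩ := KT_quot F24.om_ne GF9 card_GF9
  have e' : C ⧸ center C ≃* PSU 4 GF9 3 :=
    ((QuotientGroup.quotientMulEquivOfEq (by
      rw [← MonoidHom.comap_ker, QuotientGroup.ker_mk', hZ])).trans
      (QuotientGroup.quotientKerEquivOfSurjective ((QuotientGroup.mk' _).comp ψ)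
        ((QuotientGroup.mk'_surjective _).comp hψ))).trans e
  have := U.UF.of_card (q := 3) card_GF9
  have : IsSimpleGroup (PSU 4 GF9 3) := U.isSimpleGroup_PSU (by norm_num) (by norm_num)
  refine ⟨⟨⟨?_⟩, e'.isSimpleGroup⟩, ?_, c6, GF9, inferInstance, inferInstance, card_GF9, ⟨e'⟩⟩
  · obtain ⟨y, hY⟩ := h.exists_YS
    let y' : Fin 6 → Fin 6 → C := fun i j => ⟨y i j, (hC _).2 (hY.lf i j).comm⟩
    have hy : ∀ i j, i ≠ j → y' i j ∈ commutator C := fun i j hij => by
      obtain ⟨k, hik, hjk⟩ := exists_third hij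
      obtain ⟨π, hπ, e1, e2⟩ := exists_alt_two hik hjk.symm
      obtain ⟨g, g1, -, g3, g4⟩ := h.exists_perm hπ
      have e3 := congrArg Subtype.val (h.eq_y hY (u := g * y i k * g⁻¹) (i := k) (j := j) ⟨by
        rw [map_mul, map_mul, map_inv, (hY.lf i k).rho, g4.conj_TT (Or.inl g3), e1, e2],
        (g1.mul_left (hY.lf i k).comm).mul_left g1.inv_left⟩ hjk.symm fun e =>
          hY.nc i k hik (e.trans (IsConj.symm (isConj_iff.2 ⟨(g : G), rfl⟩))))
      rw [show y' i j = ⁅y' i k, (⟨g, (hC g).2 g1⟩ : C)⁆ from inj (by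
        change (y i j : G) = y i k * g * (y i k : G)⁻¹ * (g : G)⁻¹
        rw [← h.y_mul hY i k j, ← e3, inv_eq_of_mul_eq_one_right (h.AA_sq _ (h.y_mem hY hik).1)]
        simp [mul_assoc])]
      exact commutator_mem_commutator (mem_top _) (mem_top _)
    have h1 : ψ.ker ≤ commutator C := by
      rw [hk]
      refine zpowers_le_of_mem ((mul_mem_cancel_left (hy 4 5 (by decide))).1 ?_)
      rw [← show y' 0 1 * y' 2 3 = y' 4 5 * z' from inj (h.y_prod hY)]
      exact mul_mem (hy 0 1 (by decide)) (hy 2 3 (by decide))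
    have h2 : (commutator C).map ψ = ⊤ := by
      rw [map_commutator_eq, MonoidHom.range_eq_top.2 hψ]
      refine map_injective (KT om).subtype_injective ?_
      rw [map_commutator, ← MonoidHom.range_eq_map, range_subtype, KT_perfect F24.om_ne]
    rw [← comap_map_eq_self h1, h2, comap_top]
  · refine isCyclic_of_orderOf_eq_card ⟨x' * z', mul_mem hx hz⟩ ?_
    rw [c6, ← orderOf_coe, (show Commute x' z' from (mem_center_iff.1 hz x')).orderOf_mul_eq_mul_orderOf_of_coprime
      (by rw [ox, oz]; norm_num), ox, oz]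



/-- Let G be a finite group of large Fischer type at the involution z: the generalized Fitting subgroup Q of H = C_G(z) is extraspecial of order 2^13, H has normal subgroups Q ≤ H₁ ≤ H₂ with H₁/Q of order 3, H₂/H₁ the projective special unitary group of dimension 4 over the field with nine elements and H₂ of index 2 in H, and some conjugate of z other than z lies in Q. Let X be a subgroup of H of order 3 whose product with Q is normal in H (X maps onto the normal subgroup of order 3 of H/Q). Then the centralizer of X in H is quasisimple with cyclic centre of order 6 and central quotient isomorphic to the projective special unitary group of dimension 4 over the field with nine elements. -/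
theorem result {G : Type*} [Group G] [Finite G] (z : G) (Q : Subgroup (Subgroup.centralizer ({z} : Set G))) [Q.Normal] (hF : Cfsg.IsOfLargeFischerTypeAt z Q) (X : Subgroup (Subgroup.centralizer ({z} : Set G))) (hX : Nat.card X = 3) (hXQ : (X ⊔ Q).Normal) : Cfsg.IsQuasisimple ↥(Subgroup.centralizer ((X : Subgroup (Subgroup.centralizer ({z} : Set G))) : Set (Subgroup.centralizer ({z} : Set G)))) ∧ IsCyclic ↥(Subgroup.center ↥(Subgroup.centralizer ((X : Subgroup (Subgroup.centralizer ({z} : Set G))) : Set (Subgroup.centralizer ({z} : Set G))))) ∧ Nat.card ↥(Subgroup.center ↥(Subgroup.centralizer ((X : Subgroup (Subgroup.centralizer ({z} : Set G))) : Set (Subgroup.centralizer ({z} : Set G))))) = 6 ∧ ∃ (K : Type) (_ : Field K) (_ : Fintype K), Fintype.card K = 9 ∧ Nonempty (↥(Subgroup.centralizer ((X : Subgroup (Subgroup.centralizer ({z} : Set G))) : Set (Subgroup.centralizer ({z} : Set G)))) ⧸ Subgroup.center ↥(Subgroup.centralizer ((X : Subgroup (Subgroup.centralizer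 ({z} : Set G))) : Set (Subgroup.centralizer ({z} : Set G)))) ≃* Cfsg.PSU 4 K 3) := by
  obtain ⟨x, σ, ρ, h⟩ := F24.exists_F24S z Q hF
  have memQ : ∀ g : Subgroup.centralizer ({z} : Set G), ρ g = 1 ↔ g ∈ Q := fun g =>
    (h.ker g).trans (Subgroup.mem_map_iff_mem (Subgroup.subtype_injective _))
  have : Fact (Nat.Prime 3) := ⟨by norm_num⟩
  obtain ⟨⟨ξ, hξ⟩, ho⟩ := exists_prime_orderOf_dvd_card' (G := X) 3 (by rw [hX])
  rw [← Subgroup.orderOf_coe] at ho
  dsimp only at ho
  obtain rfl : Subgroup.zpowers ξ = X := Subgroup.eq_of_le_of_card_ge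
    (Subgroup.zpowers_le_of_mem hξ) (by rw [hX, Nat.card_zpowers, ho])
  have h1 : ρ ξ ≠ 1 := fun e => by
    have := orderOf_dvd_of_pow_eq_one (h.co.xs.pow_four ((h.ker ξ).1 e))
    rw [Subgroup.orderOf_coe, ho] at this
    norm_num at this
  have h3 : orderOf (ρ ξ) = 3 := orderOf_eq_prime (by rw [← map_pow, ← ho, pow_orderOf_eq_one, map_one]) h1
  have h2 : ∀ k ∈ F24.KT TT.UQ.om, k * ρ ξ * k⁻¹ = ρ ξ ∨ k * ρ ξ * k⁻¹ = (ρ ξ)⁻¹ := fun k hk => by
    obtain ⟨g, rfl⟩ := h.ge hk
    have : (Subgroup.zpowers ξ ⊔ Q).map ρ = Subgroup.zpowers (ρ ξ) := by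
      rw [Subgroup.map_sup, MonoidHom.map_zpowers, (Subgroup.map_eq_bot_iff Q).2
        fun q hq => (memQ q).2 hq, sup_bot_eq]
    refine (F24.mem_zpowers_three h3 (this ▸ ⟨_, hXQ.conj_mem ξ
      (Subgroup.mem_sup_left (Subgroup.mem_zpowers ξ)) g, by simp⟩)).resolve_left (by simpa using h1)
  have h4 : ρ ξ ∈ Subgroup.zpowers F24.sc := by
    refine F24.mem_zpowers_of_comm_KT F24.om_ne (h.le ⟨ξ, rfl⟩).1 fun k hk => ?_
    rw [← F24.KT_perfect F24.om_ne] at hk
    refine Subgroup.mem_centralizer_singleton_iff.1 (Subgroup.commutator_le.2 (fun a ha b hb => ?_) hk)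
      |>.symm
    rw [Subgroup.mem_centralizer_singleton_iff, ← mul_inv_eq_iff_eq_mul]
    have k : ∀ c : F24.P6, c * ρ ξ * c⁻¹ = (ρ ξ)⁻¹ → c * (ρ ξ)⁻¹ * c⁻¹ = ρ ξ := fun c e => by
      rw [← conj_inv, e, inv_inv]
    have k' : ∀ c : F24.P6, c * ρ ξ * c⁻¹ = ρ ξ → c * (ρ ξ)⁻¹ * c⁻¹ = (ρ ξ)⁻¹ := fun c e => by
      rw [← conj_inv, e]
    have ia : ∀ c : F24.P6, ∀ r s, c * r * c⁻¹ = s → c⁻¹ * s * c = r := fun c r s e => by
      rw [← e]; group
    calc _ = a * (b * (a⁻¹ * (b⁻¹ * ρ ξ * b) * a) * b⁻¹) * a⁻¹ := by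
          rw [commutatorElement_def]; group
      _ = _ := by
        rcases h2 a ha with e | e <;> rcases h2 b hb with e' | e'
        · rw [ia _ _ _ e', ia _ _ _ e, e', e]
        · rw [ia _ _ _ (k b e'), ia _ _ _ (k' a e), k b e', e]
        · rw [ia _ _ _ e', ia _ _ _ (k a e), k' b e', k a e]
        · rw [ia _ _ _ (k b e'), ia _ _ _ e, e', k a e]
  have key : ∀ η : Subgroup.centralizer ({z} : Set G), ρ η = F24.sc → η ^ 3 = 1 →
      ∃ σ', F24.F24S z (Q.map (Subgroup.centralizer ({z} : Set G)).subtype) η σ' ρ :=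
    fun η e1 e2 => by
      obtain ⟨q, hq, e⟩ := h.co.exists_conj_x (y := η) (congrArg Subtype.val e2)
        ((h.ker (⟨x, h.x_mem⟩⁻¹ * η)).1 (by simp [e1, h.rho_x]))
      exact ⟨_, e ▸ conjQ h hq⟩
  have h5 : ξ ^ 3 = 1 := by rw [← ho, pow_orderOf_eq_one]
  have h6 : ∀ g, g ∈ Subgroup.centralizer (Subgroup.zpowers ξ : Set (Subgroup.centralizer ({z} : Set G))) ↔
      Commute (g : G) ξ := fun g => by
    rw [Subgroup.zpowers_eq_closure, Subgroup.centralizer_closure,
      Subgroup.mem_centralizer_singleton_iff, Subtype.ext_iff]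
    rfl
  rcases (F24.mem_zpowers_three F24.orderOf_sc h4).resolve_left h1 with e | e
  · obtain ⟨σ', h'⟩ := key ξ e h5
    exact main h' _ h6
  · obtain ⟨σ', h'⟩ := key ξ⁻¹ (by rw [map_inv, e, inv_inv]) (by rw [inv_pow, h5, inv_one])
    exact main h' _ fun g => (h6 g).trans Commute.inv_right_iff.symm

end Cfsg.Agent.S5451
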