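import Cfsg.Statements.S5458
import Cfsg.Agent.TT.R22Elem
import Cfsg.Agent.TT.R22Aut

set_option autoImplicit false
open Cfsg

namespace Cfsg.Agent.S5458

open Cfsg.Agent.TT Subgroup

/-- Let G be a finite group with trivial centre generated by a conjugation-invariant set D of 3-transpositions on which it acts primitively, of type M(22), and suppose G also has an involution whose centralizer is quasisimple with quotient by it the projective special unitary group of dimension 6 over the field with four elements and which is not weakly closed in that centralizer. Let T be a Sylow 2-subgroup of G. Then the subgroup generated by the members of D lying in T is the Thompson subgroup of T (generated by the elementary abelian subgroups of T of largest order). -/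
theorem result {G : Type*} [Group G] [Finite G] {D : Set G} (hD : Cfsg.IsThreeTranspositionGroup D) (hprim : Cfsg.IsPrimitiveUnderConj D) (h22 : Cfsg.IsOfTypeM22 G D) (hM : ∃ d : G, orderOf d = 2 ∧ Cfsg.IsQuasisimple ↥(Subgroup.centralizer ({d} : Set G)) ∧ (∃ (_ : ((Subgroup.zpowers d).subgroupOf (Subgroup.centralizer ({d} : Set G))).Normal) (K : Type) (_ : Field K) (_ : Fintype K), Fintype.card K = 4 ∧ Nonempty (↥(Subgroup.centralizer ({d} : Set G)) ⧸ (Subgroup.zpowers d).subgroupOf (Subgroup.centralizer ({d} : Set G)) ≃* Cfsg.PSU 6 K 2)) ∧ ∃ g : G, g * d * g⁻¹ ∈ Subgroup.centralizer ({d} : Set G) ∧ g * d * g⁻¹ ≠ d) (T : Sylow 2 G) : Subgroup.closure {x : G | x ∈ D ∧ x ∈ (T : Subgroup G)} = Cfsg.thompsonSubgroupOf 2 (T : Subgroup G) := by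
  have hS := S22.of_group hD (m22g_of_type hD hprim h22) h22.1
  have top : ∀ B : Subgroup G, B ≤ closure D := fun B => hD.2.2 ▸ le_top
  have ea : ∀ {A : Subgroup T}, IsElementaryAbelian 2 A → ∀ b ∈ A.map (T : Subgroup G).subtype,
      b * b = 1 := by
    rintro A hA _ ⟨a, ha, rfl⟩
    simpa [pow_two] using congrArg Subtype.val (hA.2 a ha)
  have ea' : ∀ {B : Subgroup G}, (∀ b ∈ B, b * b = 1) →
      IsElementaryAbelian 2 (B.subgroupOf (T : Subgroup G)) := fun {B} h =>
    ⟨⟨⟨fun a b => Subtype.ext (Subtype.ext (comm_of_sq_eq_one h a.2 b.2))⟩⟩,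
      fun a ha => Subtype.ext (by simpa [pow_two] using h a ha)⟩
  have cd : ∀ A : Subgroup T, Nat.card (A.map (T : Subgroup G).subtype) = Nat.card A :=
    fun A => card_map_of_injective (subtype_injective _)
  obtain ⟨B, hBT, h1, h2⟩ : ∃ B ≤ (T : Subgroup G), (∀ b ∈ B, b * b = 1) ∧ Nat.card B = 2 ^ 10 := by
    obtain ⟨B, -, h1, h2⟩ := hS.exists_elem
    obtain ⟨P, hP⟩ := (IsPGroup.of_card h2).exists_le_sylow
    obtain ⟨g, rfl⟩ := MulAction.exists_smul_eq G P T
    refine ⟨B.map (MulAut.conj g).toMonoidHom, map_mono hP, ?_,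
      (card_map_of_injective (MulAut.conj g).injective).trans h2⟩
    rintro _ ⟨b, hb, rfl⟩
    rw [← map_mul, h1 b hb, map_one]
  have hc : ∀ x ∈ {x : G | x ∈ D ∧ x ∈ (T : Subgroup G)},
      ∀ y ∈ {x : G | x ∈ D ∧ x ∈ (T : Subgroup G)}, Commute x y := fun x hx y hy => by
    by_contra hn
    obtain ⟨n, hn'⟩ := T.isPGroup' ⟨x * y, mul_mem hx.2 hy.2⟩
    have := orderOf_dvd_of_pow_eq_one (congrArg Subtype.val hn' : (x * y) ^ 2 ^ n = 1)
    rw [orderOf_mul_of_not_commute hD.1 hx.1 hy.1 hn] at this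
    exact absurd ((by norm_num : Nat.Prime 3).dvd_of_dvd_pow this) (by norm_num)
  have hsq : ∀ b ∈ closure {x : G | x ∈ D ∧ x ∈ (T : Subgroup G)}, b * b = 1 := fun b hb => by
    induction hb using closure_induction_left with
    | one => simp
    | mul_left x hx y hy ih =>
      rw [mul_assoc, ← mul_assoc y, ← (commute_of_mem_closure (hc x hx) hy).eq, mul_assoc, ih,
        mul_one, hS.tt.sq hx.1]
    | inv_mul_cancel x hx y hy ih =>
      rw [hS.tt.inv hx.1, mul_assoc, ← mul_assoc y, ← (commute_of_mem_closure (hc x hx) hy).eq,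
        mul_assoc, ih, mul_one, hS.tt.sq hx.1]
  have hle : closure {x : G | x ∈ D ∧ x ∈ (T : Subgroup G)} ≤ T := (closure_le _).2 fun x hx => hx.2
  have key : ∀ B ≤ (T : Subgroup G), (∀ b ∈ B, b * b = 1) → Nat.card B = 2 ^ 10 →
      B ≤ closure {x : G | x ∈ D ∧ x ∈ (T : Subgroup G)} := fun B hB h h' =>
    ((hS.elem (top B) h).2 h').le.trans (closure_mono fun x hx => ⟨hx.1, hB hx.2⟩)
  refine le_antisymm ?_ ?_
  · rw [← map_subgroupOf_eq_of_le hle]
    refine map_mono (le_sSup ⟨ea' hsq, fun A hA => ?_⟩)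
    rw [← cd, ← cd, map_subgroupOf_eq_of_le hle]
    exact (hS.elem (top _) (ea hA)).1.trans (h2 ▸ card_le_of_le (key B hBT h1 h2))
  · rw [thompsonSubgroupOf, map_le_iff_le_comap]
    refine sSup_le fun A hA => map_le_iff_le_comap.1 (key _ (map_subtype_le A) (ea hA.1)
      (le_antisymm (hS.elem (top _) (ea hA.1)).1 ?_))
    have := hA.2 _ (ea' h1)
    rwa [← cd, ← cd, map_subgroupOf_eq_of_le hBT, h2] at this

end Cfsg.Agent.S5458
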