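import Cfsg.Statements.S5463
import Mathlib
import Cfsg.Agent.TT.RowCent

set_option autoImplicit false
open Cfsg

namespace Cfsg.Agent.S5463

/-- Let G be a finite group with trivial centre generated by a conjugation-invariant set D of 3-transpositions on which it acts primitively, such that for some d in D the subgroup generated by the members of D other than d commuting with d has central largest normal 2- and 3-subgroups, and suppose G with D is of type M(22). A product j of two distinct commuting members of D determines the pair: any two 2-element sets of commuting members of D with product j coincide. A product j of three distinct pairwise commuting members of D arises from exactly two such 3-element sets. -/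
theorem result {G : Type*} [Group G] [Finite G] {D : Set G} (hD : Cfsg.IsThreeTranspositionGroup D) (hprim : Cfsg.IsPrimitiveUnderConj D) (d₀ : G) (hd₀ : d₀ ∈ D) (h3 : Cfsg.pCore 3 ↥(Subgroup.closure {y : G | y ∈ D ∧ y ≠ d₀ ∧ Commute d₀ y}) ≤ Subgroup.center ↥(Subgroup.closure {y : G | y ∈ D ∧ y ≠ d₀ ∧ Commute d₀ y})) (h2 : Cfsg.pCore 2 ↥(Subgroup.closure {y : G | y ∈ D ∧ y ≠ d₀ ∧ Commute d₀ y}) ≤ Subgroup.center ↥(Subgroup.closure {y : G | y ∈ D ∧ y ≠ d₀ ∧ Commute d₀ y})) (h22 : Cfsg.IsOfTypeM22 G D) : (∀ (j : G) (l l' : List G), (l.Nodup ∧ l.length = 2 ∧ (∀ a ∈ l, a ∈ D) ∧ (∀ a ∈ l, ∀ b ∈ l, Commute a b) ∧ l.prod = j) → (l'.Nodup ∧ l'.length = 2 ∧ (∀ a ∈ l', a ∈ D) ∧ (∀ a ∈ l', ∀ b ∈ l', Commute a b) ∧ l'.prod = j) → (∀ x : G, x ∈ l ↔ x ∈ l')) ∧ ∀ (j : G) (l₀ : List G), (l₀.Nodup ∧ l₀.length = 3 ∧ (∀ a ∈ l₀, a ∈ D) ∧ (∀ a ∈ l₀, ∀ b ∈ l₀, Commute a b) ∧ l₀.prod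 = j) → ∃ l₁ l₂ : List G, (l₁.Nodup ∧ l₁.length = 3 ∧ (∀ a ∈ l₁, a ∈ D) ∧ (∀ a ∈ l₁, ∀ b ∈ l₁, Commute a b) ∧ l₁.prod = j) ∧ (l₂.Nodup ∧ l₂.length = 3 ∧ (∀ a ∈ l₂, a ∈ D) ∧ (∀ a ∈ l₂, ∀ b ∈ l₂, Commute a b) ∧ l₂.prod = j) ∧ ¬ (∀ x : G, x ∈ l₁ ↔ x ∈ l₂) ∧ ∀ l : List G, (l.Nodup ∧ l.length = 3 ∧ (∀ a ∈ l, a ∈ D) ∧ (∀ a ∈ l, ∀ b ∈ l, Commute a b) ∧ l.prod = j) → ((∀ x : G, x ∈ l ↔ x ∈ l₁) ∨ (∀ x : G, x ∈ l ↔ x ∈ l₂)) := by
  have h := TT.m22g_of_type hD hprim h22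
  constructor
  · rintro j l l' ⟨h4, h5, h6, h7, h8⟩ ⟨h4', h5', h6', h7', h8'⟩ x
    exact ⟨h.primTo.subset_of_sameOn ⟨h4', h6', h7'⟩ ⟨h4, h6, h7⟩ (by omega) (by omega)
      (TT.SameOn.of_eq (h8'.trans h8.symm)), h.primTo.subset_of_sameOn ⟨h4, h6, h7⟩
      ⟨h4', h6', h7'⟩ (by omega) (by omega) (TT.SameOn.of_eq (h8.trans h8'.symm))⟩
  · rintro j l₀ ⟨h4, h5, h6, h7, rfl⟩
    match l₀, h4, h5, h6, h7 with
    | [a, b, c], h4, h5, h6, h7 =>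
    obtain ⟨d, e, f, h8, h9, h10⟩ := h.exists_hexad ⟨h4, h6, h7⟩
    have h11 : TT.CL D [d, e, f] := TT.CL.right (l := [a, b, c]) h8
    refine ⟨[a, b, c], [d, e, f], ⟨h4, rfl, h6, h7, rfl⟩,
      ⟨h11.nodup, rfl, h11.mem, h11.comm, (h9.eq hD.2.2 h22.1).symm⟩, fun hx => ?_, ?_⟩
    · exact (List.nodup_append.1 (show ([a, b, c] ++ [d, e, f]).Nodup from h8.nodup)).2.2
        a (by simp) a ((hx a).1 (by simp)) rfl
    · rintro l ⟨h12, h13, h14, h15, h16⟩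
      exact (h.factor_cases h8 h10 ⟨h12, h14, h15⟩ h13 (TT.SameOn.of_eq h16)).imp
        (fun p _ => p.mem_iff) fun p _ => p.mem_iff

end Cfsg.Agent.S5463
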