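import Cfsg.Statements.S5466
import Mathlib
import Cfsg.Agent.TT.LocAut
import Cfsg.Agent.S0815
import Cfsg.Agent.S0283

set_option autoImplicit false
open Cfsg

namespace Cfsg.Agent.S5466

open Subgroup Cfsg.Agent.TT

/-- Let G be a finite group with trivial centre generated by a conjugation-invariant set D of 3-transpositions on which it acts primitively, such that for some d in D the subgroup generated by the members of D other than d commuting with d has central largest normal 2- and 3-subgroups, and suppose G with D is of type M(24), and let L be the commutator subgroup of G. Let d₁, d₂, d₃ be distinct pairwise commuting members of D, j their product, E the subgroup generated by d₁ d₂ and d₁ d₃ (a four-group lying in L), CL the centralizer of j in L and K its generalized Fitting subgroup. Then K is quasisimple with centre E, K is the centralizer of E in L, K modulo E is isomorphic to the projective special unitary group of dimension 6 over the field with four elements,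 CL/K is isomorphic to the symmetric group of degree 3, and CL modulo E is isomorphic to the full automorphism group of that unitary group. -/
theorem result {G : Type*} [Group G] [Finite G] {D : Set G} (hD : Cfsg.IsThreeTranspositionGroup D) (hprim : Cfsg.IsPrimitiveUnderConj D) (d₀ : G) (hd₀ : d₀ ∈ D) (h3 : Cfsg.pCore 3 ↥(Subgroup.closure {y : G | y ∈ D ∧ y ≠ d₀ ∧ Commute d₀ y}) ≤ Subgroup.center ↥(Subgroup.closure {y : G | y ∈ D ∧ y ≠ d₀ ∧ Commute d₀ y})) (h2 : Cfsg.pCore 2 ↥(Subgroup.closure {y : G | y ∈ D ∧ y ≠ d₀ ∧ Commute d₀ y}) ≤ Subgroup.center ↥(Subgroup.closure {y : G | y ∈ D ∧ y ≠ d₀ ∧ Commute d₀ y})) (h24 : Cfsg.IsOfTypeM24 G D) (L : Subgroup G) (hL : L = commutator G) (d₁ d₂ d₃ : G) (h₁ : d₁ ∈ D) (h₂ : d₂ ∈ D) (h₃ : d₃ ∈ D) (h12 : d₁ ≠ d₂) (h13 : d₁ ≠ d₃) (h23 : d₂ ≠ d₃) (c12 : Commute d₁ d₂) (c13 : Commute d₁ d₃) (c23 : Commute d₂ d₃) (E CL K : Subgroup G) (hE : E = Subgroup.closure ({d₁ * d₂, d₁ * d₃} : Set G)) (hCL : CL = L ⊓ Subgroup.centralizer ({d₁ * d₂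 * d₃} : Set G)) (hK : K = (Cfsg.generalizedFittingSubgroup ↥CL).map CL.subtype) : Cfsg.IsQuasisimple ↥K ∧ (Subgroup.center ↥K).map K.subtype = E ∧ K = L ⊓ Subgroup.centralizer (E : Set G) ∧ (∃ (_ : (E.subgroupOf K).Normal) (F : Type) (_ : Field F) (_ : Fintype F), Fintype.card F = 4 ∧ Nonempty (↥K ⧸ E.subgroupOf K ≃* Cfsg.PSU 6 F 2)) ∧ ∃ _ : (K.subgroupOf CL).Normal, Nonempty (↥CL ⧸ K.subgroupOf CL ≃* Equiv.Perm (Fin 3)) ∧ E ≤ CL ∧ ∃ (_ : (E.subgroupOf CL).Normal) (F : Type) (_ : Field F) (_ : Fintype F), Fintype.card F = 4 ∧ Nonempty (↥CL ⧸ E.subgroupOf CL ≃* MulAut (Cfsg.PSU 6 F 2)) := by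
  have h := m24g_of_type hD hprim h24
  have hg := hD.2.2
  have hZ := h24.1
  have hb : d₂ ∈ loc D d₁ := ⟨h₂, h12.symm, c12⟩
  have hc : d₃ ∈ loc (loc D d₁) d₂ := ⟨⟨h₃, h13.symm, c13⟩, h23.symm, c23⟩
  have hM := (h.2.1 d₁ h₁).2.1 d₂ hb
  have hY := hM.2.1 d₃ hc
  have hP := hY.prim (by norm_num)
  have hi := h.index_commutator hg hZ
  have hn := @h.not_mem_commutator _ _ _ _ hg hZ
  have hmul := @mul_mem_commutator _ _ _ (h.1.isClass hg)
  set Y := loc (loc (loc D d₁) d₂) d₃ with hYd
  subst hL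
  have hv : TT.CL D (List.ofFn ![d₁, d₂, d₃]) := by
    simp [TT.CL.cons_iff, h₁, hb, hc, TT.CL.nil]
  have hinj := List.nodup_ofFn.1 hv.nodup
  have hp := h.primTo.pred.exists_permHom hg (k := 2) le_rfl hv hi (hn h₁)
  rw [show (List.ofFn ![d₁, d₂, d₃]).prod = d₁ * d₂ * d₃ by simp [mul_assoc], ← hCL] at hp
  obtain ⟨f, hs, hf⟩ := hp
  have hC : ∀ c ∈ CL, ∀ w ∈ Y, c * w * c⁻¹ ∈ Y := fun c hc =>
    conj_mem_of_perm hD (hf ⟨c, hc⟩) fun w => by
      simp [hYd, mem_loc, Fin.forall_fin_succ, and_assoc]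
  have hm : ∀ i, ![d₁, d₂, d₃] i ∈ closure Y := by
    have k : ∀ j, ![d₁, d₂, d₃] j ∈ closure Y → ∀ i, ![d₁, d₂, d₃] i ∈ closure Y := fun j hj i => by
      obtain ⟨c, e⟩ := hs (Equiv.swap j i)
      have := hf c j
      rw [e, Equiv.swap_apply_left] at this
      exact this ▸ conj_mem_closure (hC c c.2) hj
    exact (h.mem_closure_three hg hZ h₁ hb hc).elim (k 0) (k 1)
  have hH : ∀ g, g ∈ closure Y ↔ Commute g d₁ ∧ Commute g d₂ ∧ Commute g d₃ := fun g => by
    refine ⟨fun e => ⟨(commute_of_mem_closure (fun _ h => h.1.1.2.2) e).symm,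
      (commute_of_mem_closure (fun _ h => h.1.2.2) e).symm,
      (commute_of_mem_closure (fun _ h => h.2.2) e).symm⟩, fun e => ?_⟩
    obtain ⟨y, hy, e'⟩ := hM.exists_mem_closure_loc hc
      (h.centralizer_two hg hZ h₁ hb ▸ mem_centralizer_pair.2 ⟨e.1, e.2.1⟩) e.2.2
    rw [← (closure Y).mul_mem_cancel_left (inv_mem hy)]
    rcases h.eq_of_commute_two hg hZ h₁ hb ((commute_of_mem_closure (fun _ h => h.1.1.2.2)
      hy).symm.inv_left.mul_left e.1) (SameOn.one_iff.1 (SameOn.iff_inv_mul.1 e'))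
      with e | e | e | e <;> rw [e]
    exacts [one_mem _, hm 0, hm 1, mul_mem (hm 0) (hm 1)]
  have hK' := h.commutator_closure hg hZ hP fun _ h => h.1.1.1
  have hKC : ⁅closure Y, closure Y⁆ ≤ CL := hK' ▸ hCL ▸ inf_le_inf_left _ fun x hx =>
    mem_centralizer_singleton_iff.2
      ((((hH x).1 hx).1.mul_right ((hH x).1 hx).2.1).mul_right ((hH x).1 hx).2.2)
  have hEK : E ≤ ⁅closure Y, closure Y⁆ := by
    rw [hE, hK', closure_le]
    rintro _ (rfl | rfl)
    exacts [⟨hmul h₁ h₂, mul_mem (hm 0) (hm 1)⟩, ⟨hmul h₁ h₃, mul_mem (hm 0) (hm 2)⟩]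
  have hcen : ∀ g, g ∈ centralizer (E : Set G) → g ∈ closure Y := fun g e => by
    rw [hE, centralizer_closure, mem_centralizer_pair] at e
    have k : ∀ b ∈ loc D d₁, Commute g (d₁ * b) → ∀ x, x = d₁ ∨ x = b →
        g * x * g⁻¹ = d₁ ∨ g * x * g⁻¹ = b := fun b hb e x hx => by
      have hl : TT.CL D [d₁, b] := by simp [TT.CL.cons_iff, h₁, hb, TT.CL.nil]
      simpa using h.primTo.subset_of_sameOn hl (hl.map_conj h.1.toIsTT (hg ▸ mem_top g))
        (by simp) (by simp) (SameOn.of_eq (by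
          rw [prod_map_conj, conj_eq_of_commute (by simpa using e)])) (e := g * x * g⁻¹)
        (List.mem_map.2 ⟨x, by simpa using hx, rfl⟩)
    have e1 : g * d₁ * g⁻¹ = d₁ := (k _ hb e.1 _ (Or.inl rfl)).resolve_right fun e2 =>
      (k _ hc.1 e.2 _ (Or.inl rfl)).elim (fun e3 => h12 (e3.symm.trans e2))
        fun e3 => h23 (e2.symm.trans e3)
    have e2 := commute_of_conj_eq e1
    refine (hH g).2 ⟨e2, ?_, ?_⟩
    · simpa using e2.inv_right.mul_right e.1
    · simpa using e2.inv_right.mul_right e.2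
  have hk : f.ker = ⁅closure Y, closure Y⁆.subgroupOf CL := by
    ext c
    rw [MonoidHom.mem_ker, mem_subgroupOf, hK', mem_inf, hH, 
      and_iff_right (mem_inf.1 (hCL.le c.2)).1]
    refine ⟨fun e => ⟨commute_of_conj_eq ?_, commute_of_conj_eq ?_, commute_of_conj_eq ?_⟩,
      fun e => Equiv.ext fun i => hinj ((hf c i).trans (conj_eq_of_commute ?_))⟩
    · simpa [e] using (hf c 0).symm
    · simpa [e] using (hf c 1).symm
    · simpa [e] using (hf c 2).symm
    · fin_cases i
      exacts [e.1, e.2.1, e.2.2]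
  obtain ⟨p1, p2, p3⟩ := psuD_model (n := 6) (by norm_num)
  obtain ⟨k1, k0, k2, ⟨_, k4⟩, _, k3⟩ := hP.locAut (hY.feq p1) p1.tt p2 p3
    (S0283.result Class.card_GF4 6 (by norm_num) (by norm_num)) (Z := E) rfl hKC hC hEK fun c hc' => by
      refine ⟨fun e => ?_, fun e w hw => ?_⟩
      · have m1 : d₁ * d₂ ∈ E := hE ▸ subset_closure (Or.inl rfl)
        have m2 : d₁ * d₃ ∈ E := hE ▸ subset_closure (Or.inr rfl)
        have k : ∀ x ∈ closure ({d₁, d₂, d₃} : Set G), x ∈ E ∨ x * d₁ ∈ E := by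
          intro x hx
          have q : d₁ * d₁ = 1 := h.1.toIsTT.sq h₁
          have t : ∀ y, y = d₁ ∨ y = d₂ ∨ y = d₃ → y * d₁ ∈ E := by
            rintro _ (rfl | rfl | rfl)
            exacts [q ▸ one_mem _, c12.eq ▸ m1, c13.eq ▸ m2]
          induction hx using closure_induction with
          | mem x hx => exact Or.inr (t x (by simpa using hx))
          | one => exact Or.inl (one_mem _)
          | mul x y hx hy ix iy =>
            have cy : Commute d₁ y := commute_of_mem_closure (by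
              rintro _ (rfl | rfl | rfl)
              exacts [Commute.refl _, c12, c13]) hy
            rcases ix with ix | ix <;> rcases iy with iy | iy
            · exact Or.inl (mul_mem ix iy)
            · exact Or.inr (mul_assoc x y d₁ ▸ mul_mem ix iy)
            · exact Or.inr (by rw [mul_assoc, ← cy.eq, ← mul_assoc]; exact mul_mem ix iy)
            · refine Or.inl ?_
              have := mul_mem ix iy
              rwa [mul_assoc, ← mul_assoc d₁, cy.eq, mul_assoc y, q, mul_one] at this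
          | inv x hx ix =>
            have cx : Commute d₁ x := commute_of_mem_closure (by
              rintro _ (rfl | rfl | rfl)
              exacts [Commute.refl _, c12, c13]) hx
            refine ix.imp inv_mem fun e => ?_
            have := inv_mem e
            rwa [← cx.eq, mul_inv_rev, inv_eq_of_mul_eq_one_right q] at this
        refine (k c (h.eq_of_commute_three hg hZ h₁ hb hc (commute_of_mem_closure e (hm 0))
          (commute_of_mem_closure e (hm 1)) e)).resolve_right fun e' => hn h₁ ?_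
        exact ((commutator G).mul_mem_cancel_left (hCL.le hc').1).1 (hK'.le (hEK e')).1
      · refine (commute_of_mem_closure ?_ (hE ▸ e)).symm
        rintro _ (rfl | rfl)
        exacts [(hw.1.1.2.2.mul_left hw.1.2.2).symm, (hw.1.1.2.2.mul_left hw.2.2).symm]
  rw [← k2] at hK
  subst hK
  have n1 : (⁅closure Y, closure Y⁆.subgroupOf CL).Normal := hk ▸ inferInstance
  have e1 := (QuotientGroup.quotientMulEquivOfEq hk.symm).trans
    (QuotientGroup.quotientKerEquivOfSurjective f hs)
  refine ⟨k1, k0, le_antisymm (le_inf (hK'.le.trans inf_le_left) ?_) ?_,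
    ⟨_, Class.GF4, _, _, Class.card_GF4, k4⟩, n1, ⟨e1⟩, hEK.trans hKC, _, Class.GF4, _, _,
    Class.card_GF4, k3 ?_⟩
  · rw [le_centralizer_iff, ← k0, PLocal.map_center_subtype]
    exact inf_le_right
  · exact fun x hx => hK'.ge ⟨hx.1, hcen x hx.2⟩
  · rw [S0815.result 2 1 le_rfl (q := 2) (by norm_num) Class.card_GF4 6 (by norm_num) (by norm_num), relIndex,
      index_eq_card, Nat.card_congr e1.toEquiv, Nat.card_eq_fintype_card]
    rfl

end Cfsg.Agent.S5466
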