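import Cfsg.Statements.S5469
import Cfsg.Agent.TT.R22Aut

set_option autoImplicit false
open Cfsg

namespace Cfsg.Agent.S5469

open Cfsg.Agent.TT Subgroup Cfsg.Agent.Class

/-- Let G be a finite group with trivial centre generated by a conjugation-invariant set D of 3-transpositions on which it acts primitively, such that for some d in D the subgroup generated by the members of D other than d commuting with d has central largest normal 2- and 3-subgroups, and suppose G with D is of type M(22). Let d₁, d₂ be distinct commuting members of D, j = d₁ d₂, K the joint centralizer of d₁ and d₂, C the centralizer of j and V the subgroup generated by d₁ and d₂. Then K has index 2 in C, V is the centre of K, and C has a normal subgroup E containing V with E/V elementary abelian of order 2^8 and C/E isomorphic to the full automorphism group of the projective special unitary group of dimension 4 over the field with four elements. -/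
theorem result {G : Type*} [Group G] [Finite G] {D : Set G} (hD : Cfsg.IsThreeTranspositionGroup D) (hprim : Cfsg.IsPrimitiveUnderConj D) (d₀ : G) (hd₀ : d₀ ∈ D) (h3 : Cfsg.pCore 3 ↥(Subgroup.closure {y : G | y ∈ D ∧ y ≠ d₀ ∧ Commute d₀ y}) ≤ Subgroup.center ↥(Subgroup.closure {y : G | y ∈ D ∧ y ≠ d₀ ∧ Commute d₀ y})) (h2 : Cfsg.pCore 2 ↥(Subgroup.closure {y : G | y ∈ D ∧ y ≠ d₀ ∧ Commute d₀ y}) ≤ Subgroup.center ↥(Subgroup.closure {y : G | y ∈ D ∧ y ≠ d₀ ∧ Commute d₀ y})) (h22 : Cfsg.IsOfTypeM22 G D) (d₁ d₂ : G) (h₁ : d₁ ∈ D) (h₂ : d₂ ∈ D) (hne : d₁ ≠ d₂) (hc : Commute d₁ d₂) (K C V : Subgroup G) (hK : K = Subgroup.centralizer ({d₁, d₂} : Set G)) (hC : C = Subgroup.centralizer ({d₁ * d₂} : Set G)) (hV : V = Subgroup.closure ({d₁, d₂} : Set G)) : K ≤ C ∧ (K.subgroupOf C).index = 2 ∧ (Subgroup.center ↥K).map K.subtype = V ∧ ∃ E : Subgroup G, V ≤ E ∧ E ≤ C ∧ (∀ c ∈ C, ∀ x ∈ E, c * x * c⁻¹ ∈ E) ∧ Nat.card E = 2 ^ 10 ∧ (∀ x ∈ E, ∀ y ∈ E, x * y *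 x⁻¹ * y⁻¹ ∈ V ∧ x ^ 2 ∈ V) ∧ ∃ (_ : (E.subgroupOf C).Normal) (F : Type) (_ : Field F) (_ : Fintype F), Fintype.card F = 4 ∧ Nonempty (↥C ⧸ E.subgroupOf C ≃* MulAut (Cfsg.PSU 4 F 2)) := by
  have hS := S22.of_group hD (m22g_of_type hD hprim h22) h22.1
  have hcl : CL D [d₁, d₂] := ⟨by simpa using hne, by simp [h₁, h₂], by simp [hc, hc.symm]⟩
  obtain ⟨τ, u, v, f, h⟩ := hS.exists_hex hcl
  have hG : Nat.card G = 2 ^ 0 * 64561751654400 := hS.m22.card hD.2.2 h22.1
  obtain ⟨Φ, e1, e2, e3, -⟩ := h.exists_surj hG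
  have hp := h.isPGroup_N hG
  have hKC : K ≤ C := fun x hx => by
    rw [hK, mem_centralizer_pair] at hx
    exact hC ▸ mem_centralizer_singleton_iff.2 (hx.1.mul_right hx.2)
  have hK' : Nat.card K = 2 ^ 10 * 25920 := by
    rw [← hS.card_pair hcl, hD.2.2, top_inf_eq, hK]
    congr 2
    ext x
    simp only [mem_centralizer_pair, mem_inf, mem_centralizer_singleton_iff, commute_iff_eq]
  have hV1 : d₁ ∈ V := hV ▸ subset_closure (by simp)
  have hV2 : d₂ ∈ V := hV ▸ subset_closure (by simp)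
  have hj : ∀ {x y}, Eqv (d₁ * d₂) x y → y ∈ V → x ∈ V := fun e hy => e.mem (mul_mem hV1 hV2) hy
  have hk : Φ.ker = (hexN (d₁ * d₂) (hpt τ u f)).subgroupOf _ := Subgroup.ext e2
  refine ⟨hKC, ?_, le_antisymm ?_ ?_, hexN (d₁ * d₂) (hpt τ u f), ?_, hC ▸ inf_le_left,
    fun c hc x hx => h.conj_mem_N (mem_centralizer_singleton_iff.1 (hC ▸ hc)) hx, e3,
    fun x hx y hy => ?_, ?_⟩
  · have := Grp.card_mul_relIndex hKC
    rw [hK', hC, hS.card_centralizer_prod hcl hG, ← hC] at this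
    change K.relIndex C = 2
    omega
  · rintro _ ⟨z, hz, rfl⟩
    have key : ∀ x, Commute x d₁ → Commute x d₂ → Commute (z : G) x := fun x e e' =>
      (congrArg Subtype.val (mem_center_iff.1 hz ⟨x, hK ▸ mem_centralizer_pair.2 ⟨e, e'⟩⟩) :).symm
    rcases hS.eq_of_commute_mu hcl (key d₁ (Commute.refl _) hc)
      (fun w hw => key w hw.1.2.2.symm hw.2.2.2.symm) with e | e | e | e <;>
      rw [coe_subtype, e]
    exacts [one_mem _, hV1, hV2, mul_mem hV1 hV2]
  · rw [hV, closure_le]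
    rintro x (rfl | rfl)
    · exact ⟨⟨x, hK ▸ mem_centralizer_pair.2 ⟨Commute.refl _, hc⟩⟩, mem_center_iff.2 fun y =>
        Subtype.ext (mem_centralizer_pair.1 (hK.le y.2)).1, rfl⟩
    · exact ⟨⟨x, hK ▸ mem_centralizer_pair.2 ⟨hc.symm, Commute.refl _⟩⟩, mem_center_iff.2 fun y =>
        Subtype.ext (mem_centralizer_pair.1 (hK.le y.2)).2, rfl⟩
  · rw [hV, closure_le]
    rintro x (rfl | rfl)
    exacts [h.mem₁_N, h.mem₂_N]
  · have hy' := h.good_of_commute hp hy (h.commute_of_mem hp hy (hD.2.2 ▸ mem_top y))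
    have hx' := h.good_of_commute hp hx (h.commute_of_mem hp hx (hD.2.2 ▸ mem_top x))
    refine ⟨hj ((hy'.cen x hx).mul_right (mem_hexN.1 (inv_mem hy)).1) (by simp), ?_⟩
    rw [pow_two]
    exact hj hx'.sq (one_mem _)
  · subst hC
    have hn : ((hexN (d₁ * d₂) (hpt τ u f)).subgroupOf (centralizer {d₁ * d₂})).Normal :=
      hk ▸ inferInstance
    exact ⟨hn, GF4, inferInstance, inferInstance, card_GF4,
      ⟨(QuotientGroup.quotientMulEquivOfEq hk.symm).trans
        (QuotientGroup.quotientKerEquivOfSurjective Φ e1)⟩⟩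

end Cfsg.Agent.S5469
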