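import Cfsg.Statements.S5472
import Cfsg.Agent.TT.Pt.OutRow
import Cfsg.Agent.S5462

set_option autoImplicit false
open Cfsg

namespace Cfsg.Agent.S5472

open Cfsg.Agent.TT Cfsg.Agent.TT.Pt Cfsg.Agent.TT.Pt.M22 Subgroup

/-- Let G be a finite group with trivial centre generated by a conjugation-invariant set D of 3-transpositions on which it acts primitively, such that for some d in D the subgroup generated by the members of D other than d commuting with d has central largest normal 2- and 3-subgroups, and suppose G with D is of type M(22). Then G has a non-inner automorphism s of order 2 whose fixed-point subgroup is isomorphic to the full automorphism group of Ω⁺(8, 2) (the commutator subgroup of the isometry group of the hyperbolic quadratic form in dimension 8 over the field with two elements), together with distinct commuting members a, b of D fixed by s such that: s, s composed with conjugation by a, and s composed with conjugation by a b represent the three classes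 (under the automorphism group) of non-inner automorphisms of order 2; the elements fixed by the automorphism s composed with conjugation by a are exactly those fixed by s and commuting with a, and they form a group isomorphic to the direct product of a group of order 2 and the symplectic group of dimension 6 over the field with two elements; and the elements fixed by the automorphism s composed with conjugation by a b form a group whose largest normal 2-subgroup is elementary abelian of order 64 with quotient isomorphic to the full isometry group of the elliptic quadratic form in dimension 6 over the field with two elements. -/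
theorem result {G : Type*} [Group G] [Finite G] {D : Set G} (hD : Cfsg.IsThreeTranspositionGroup D) (hprim : Cfsg.IsPrimitiveUnderConj D) (d₀ : G) (hd₀ : d₀ ∈ D) (h3 : Cfsg.pCore 3 ↥(Subgroup.closure {y : G | y ∈ D ∧ y ≠ d₀ ∧ Commute d₀ y}) ≤ Subgroup.center ↥(Subgroup.closure {y : G | y ∈ D ∧ y ≠ d₀ ∧ Commute d₀ y})) (h2 : Cfsg.pCore 2 ↥(Subgroup.closure {y : G | y ∈ D ∧ y ≠ d₀ ∧ Commute d₀ y}) ≤ Subgroup.center ↥(Subgroup.closure {y : G | y ∈ D ∧ y ≠ d₀ ∧ Commute d₀ y})) (h22 : Cfsg.IsOfTypeM22 G D) : ∃ (s : MulAut G) (a b : G) (Cs : Subgroup G), orderOf s = 2 ∧ s ∉ (MulAut.conj : G →* MulAut G).range ∧ (∀ g : G, g ∈ Cs ↔ s g = g) ∧ Nonempty (↥Cs ≃* MulAut (Cfsg.Omega (ZMod 2) (Cfsg.quadFormPlus 4 (ZMod 2)))) ∧ a ∈ D ∧ b ∈ D ∧ a ≠ b ∧ Commute a b ∧ s a = a ∧ s b = b ∧ (∀ t : MulAut G, orderOf t = 2 → t ∉ (MulAut.conj : G →* MulAut G).range → (IsConj t s ∨ IsConj t (s * MulAut.conj a) ∨ IsConj t (s * MulAut.conj (a * b)))) ∧ ¬ IsConj s (s * MulAut.conj a) ∧ ¬ IsConj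 s (s * MulAut.conj (a * b)) ∧ ¬ IsConj (s * MulAut.conj a) (s * MulAut.conj (a * b)) ∧ (∀ g : G, (s * MulAut.conj a) g = g ↔ g ∈ Cs ⊓ Subgroup.centralizer ({a} : Set G)) ∧ Nonempty (↥(Cs ⊓ Subgroup.centralizer ({a} : Set G)) ≃* Multiplicative (ZMod 2) × Cfsg.PSp 3 (ZMod 2)) ∧ ∃ Csab O : Subgroup G, (∀ g : G, g ∈ Csab ↔ (s * MulAut.conj (a * b)) g = g) ∧ O = (Cfsg.pCore 2 ↥Csab).map Csab.subtype ∧ Cfsg.IsElementaryAbelian 2 O ∧ Nat.card O = 64 ∧ ∃ _ : (O.subgroupOf Csab).Normal, Nonempty (↥Csab ⧸ O.subgroupOf Csab ≃* Cfsg.isometryGroup (ZMod 2) (Cfsg.quadFormMinus 2 (ZMod 2) 1 1)) := by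
  have h := m22g_of_type hD hprim h22
  obtain ⟨M⟩ : Nonempty (FM G D E.n T) := fm h hD.2.2 h22.1
  obtain ⟨hA, α, hα⟩ := M.exists_aut (ok.aut 32) sig_out
    (by rw [h.card_aut hD.2.2 h22.1, card M]; norm_num)
  replace hα : ∀ x g, M.ρ (α x g) = x.1 * M.ρ g * x.1⁻¹ := hα
  have ha : 550 < E.n := by decide +kernel
  have hb : 2751 < E.n := by decide +kernel
  have h1 : ∀ g, α ⟨M.ρ g, M.aut g⟩ = MulAut.conj g := fun g => MulEquiv.ext fun y => M.inj (by
    rw [hα, MulAut.conj_apply, map_mul, map_mul, map_inv])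
  have h4 : ∀ x, α x ∈ (MulAut.conj : G →* MulAut G).range ↔ x.1 ∈ Pt.Inn E.n T := fun x =>
    ⟨fun ⟨g, e⟩ => α.injective ((h1 g).trans e) ▸ M.inn g, fun hx => by
      obtain ⟨g, e⟩ := M.exists_of_inn hx
      exact ⟨g, by rw [← h1]; congr 1; exact Subtype.ext e⟩⟩
  let w : List ℕ → MulAut G := fun u => α ⟨E.val π u, ok.val_aut u⟩
  have h5 : ∀ u g, g ∈ (Stab E T π [u] [] []).comap M.ρ ↔ w u g = g := fun u g => by
    rw [← M.inj.eq_iff, hα, mul_inv_eq_iff_eq_mul, eq_comm, mem_comap, mem_stab]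
    simp [M.aut g]
  have h6 : w xa = w [32] * MulAut.conj (M.τ 550) := by
    rw [← h1, ← map_mul]
    exact congrArg α (Subtype.ext (val_xa.trans (by rw [← val32, ← M.map _ ha]; rfl)))
  have h7 : w xb = w [32] * MulAut.conj (M.τ 550 * M.τ 2751) := by
    rw [← h1, ← map_mul]
    exact congrArg α (Subtype.ext (val_xb.trans (by
      rw [← val32, ← M.map _ ha, ← M.map _ hb, ← map_mul]; rfl)))
  have h8 : ∀ u v, IsConj (w u) (w v) → ∃ g ∈ Aut E.n T, g * E.val π u * g⁻¹ = E.val π v :=
    fun u v e => by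
      obtain ⟨c, hc⟩ := isConj_iff.1 e
      obtain ⟨c, rfl⟩ := α.surjective c
      rw [← map_inv, ← map_mul, ← map_mul, α.injective.eq_iff] at hc
      exact ⟨c, c.2, congrArg Subtype.val hc⟩
  have h9 : ∀ q, Comp.BN.tb mI q = true → w [32] (M.τ q) = M.τ q := fun q hq =>
    (h5 _ _).1 (cent_sig M ▸ (tau_I M hq).2)
  refine ⟨w [32], M.τ 550, M.τ 2751, I9 M, ?_, fun e => sig_out (val32 ▸ (h4 _).1 e),
    fun g => cent_sig M ▸ h5 _ g, equiv_I M h.1.toIsTT, M.τ_mem ha, M.τ_mem hb,
    fun e => absurd (M.τ_inj ha hb e) (by norm_num),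
    (M.commute_iff ha hb).2 ((ok.c ha hb).1 (by decide +kernel)), h9 _ (by decide +kernel),
    h9 _ (by decide +kernel), fun t t1 t2 => ?_, ?_, ?_, ?_, fun g => ?_, equiv_a M, _, _,
    fun g => h7 ▸ h5 xb g, rfl, row_b M rfl⟩
  · refine orderOf_eq_prime ?_ fun e => sig_out (val32 ▸ (h4 _).1 (e ▸ one_mem _ : w [32] ∈ _))
    rw [← map_pow, α.map_eq_one_iff]
    exact Subtype.ext (by simpa [pow_two, val32] using ok.sq 32)
  · obtain ⟨d, hd, e⟩ := S5462.result hD hprim d₀ hd₀ h3 h2 h22 t t1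
    obtain ⟨p, hp, rfl⟩ := M.exists_pt hd
    obtain ⟨x, rfl⟩ := α.surjective t
    have e1 := hα x (M.τ p)
    rw [e, M.map p hp, Aut.conj x.2 hp] at e1
    have e2 := pow_orderOf_eq_one (α x)
    rw [t1, ← map_pow, α.map_eq_one_iff, pow_two] at e2
    obtain ⟨g, hg, u, hu, e3⟩ := cls (hA.trans (by rw [card M])) (fun q hq => by
        obtain ⟨k, hk⟩ := hprim.1 _ (M.τ_mem ha) _ (M.τ_mem hq)
        exact ⟨_, M.aut k, M.τ_inj (M.lt k ha) hq ((M.conj k ha).symm.trans hk)⟩)
      x.2 (fun e => t2 ((h4 x).2 e)) (congrArg Subtype.val e2) hp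
      (M.sp.inj _ hp _ (Aut.lt x.2 hp) e1).symm
    have e4 : IsConj (α x) (w u) := isConj_iff.2 ⟨α ⟨g, hg⟩, by
      rw [← map_inv, ← map_mul, ← map_mul]; exact congrArg α (Subtype.ext e3)⟩
    rw [← h6, ← h7]
    simp only [List.mem_cons, List.not_mem_nil, or_false] at hu
    rcases hu with rfl | rfl | rfl
    exacts [Or.inl e4, Or.inr (Or.inl e4), Or.inr (Or.inr e4)]
  · rw [← h6]
    exact fun e => let ⟨g, hg, e⟩ := h8 _ _ e; ok.not_conj (by decide +kernel) hg e
  · rw [← h7]
    exact fun e => let ⟨g, hg, e⟩ := h8 _ _ e; ok.not_conj (by decide +kernel) hg e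
  · rw [← h6, ← h7]
    exact fun e => let ⟨g, hg, e⟩ := h8 _ _ e; ok.not_conj (by decide +kernel) hg e
  · rw [← h6, ← h5, cent_xa, cent_sig_a]

end Cfsg.Agent.S5472
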