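import Cfsg.Statements.S5473
import Cfsg.Agent.TT.R22Aut

set_option autoImplicit false
open Cfsg

namespace Cfsg.Agent.S5473

open Cfsg.Agent.TT Subgroup Cfsg.Agent.Class

/-- Let G be a finite group with trivial centre generated by a conjugation-invariant set D of 3-transpositions on which it acts primitively, such that for some d in D the subgroup generated by the members of D other than d commuting with d has central largest normal 2- and 3-subgroups, and suppose G with D is of type M(22), and let A be the automorphism group of G. Let d₁, d₂ be distinct commuting members of D and j the inner automorphism of their product. Then the generalized Fitting subgroup Q of the centralizer of j in A is a large extraspecial 2-subgroup of A of order 2^11 (extraspecial; centralizer equal to its centre; normal in the centralizer of its centre; normalizing no non-trivial odd-order subgroup), and the centralizer of j modulo Q is isomorphic to the full automorphism group of the projective special unitary group of dimension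 4 over the field with four elements. -/
theorem result {G : Type*} [Group G] [Finite G] {D : Set G} (hD : Cfsg.IsThreeTranspositionGroup D) (hprim : Cfsg.IsPrimitiveUnderConj D) (d₀ : G) (hd₀ : d₀ ∈ D) (h3 : Cfsg.pCore 3 ↥(Subgroup.closure {y : G | y ∈ D ∧ y ≠ d₀ ∧ Commute d₀ y}) ≤ Subgroup.center ↥(Subgroup.closure {y : G | y ∈ D ∧ y ≠ d₀ ∧ Commute d₀ y})) (h2 : Cfsg.pCore 2 ↥(Subgroup.closure {y : G | y ∈ D ∧ y ≠ d₀ ∧ Commute d₀ y}) ≤ Subgroup.center ↥(Subgroup.closure {y : G | y ∈ D ∧ y ≠ d₀ ∧ Commute d₀ y})) (h22 : Cfsg.IsOfTypeM22 G D) (d₁ d₂ : G) (h₁ : d₁ ∈ D) (h₂ : d₂ ∈ D) (hne : d₁ ≠ d₂) (hc : Commute d₁ d₂) (j : MulAut G) (hj : j = MulAut.conj (d₁ * d₂)) (Q : Subgroup (MulAut G)) (hQ : Q = (Cfsg.generalizedFittingSubgroup ↥(Subgroup.centralizer ({j} : Set (MulAut G)))).map (Subgroup.centralizer ({j} : Set (MulAut G))).subtype) : Cfsg.IsLargeExtraspecial Q ∧ Nat.card Q = 2 ^ 11 ∧ Q ≤ Subgroup.centralizer ({j} : Set (MulAut G)) ∧ ∃ (_ : (Q.subgroupOf (Subgroup.centralizer ({j} : Set (MulAut G)))).Normal)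 (F : Type) (_ : Field F) (_ : Fintype F), Fintype.card F = 4 ∧ Nonempty (↥(Subgroup.centralizer ({j} : Set (MulAut G))) ⧸ Q.subgroupOf (Subgroup.centralizer ({j} : Set (MulAut G))) ≃* MulAut (Cfsg.PSU 4 F 2)) := by
  have hM := m22g_of_type hD hprim h22
  have hS := hM.s22_aut hD.2.2 h22.1
  have hi := conj_injective_of_center h22.1
  have hc' := hc.map (MulAut.conj : G →* MulAut G)
  have hcl : CL (MulAut.conj '' D) [MulAut.conj d₁, MulAut.conj d₂] :=
    ⟨by simpa [hi.eq_iff] using hne, by simp [hi.eq_iff, h₁, h₂], by simp [hc', hc'.symm]⟩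
  obtain ⟨τ, u, v, f, h⟩ := hS.exists_hex hcl
  have hG := hM.card_aut hD.2.2 h22.1
  obtain ⟨Φ, e1, e2, e3, e4⟩ := h.exists_surj hG
  have hp := h.isPGroup_N hG
  rw [map_mul] at hj
  subst hj
  rw [h.fstar hG, map_subgroupOf_eq_of_le (show hexN _ _ ≤ _ from inf_le_left)] at hQ
  subst hQ
  have hk : Φ.ker = (hexN _ (hpt τ u f)).subgroupOf _ := Subgroup.ext e2
  have hn : ((hexN (MulAut.conj d₁ * MulAut.conj d₂) (hpt τ u f)).subgroupOf
    (centralizer {MulAut.conj d₁ * MulAut.conj d₂})).Normal := hk ▸ inferInstance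
  obtain ⟨q, hq, hq'⟩ : ∃ q ∈ hexN (MulAut.conj d₁ * MulAut.conj d₂) (hpt τ u f),
      ¬ Commute q (MulAut.conj d₁) := by
    by_contra hn
    rw [inf_eq_left.2 fun q hq => (h.good_of_commute hp hq
      (by_contra fun e => hn ⟨q, hq, e⟩)).cl, e3] at e4
    omega
  exact ⟨h.isLarge hp (by rw [e3]; norm_num) hq hq', e3, inf_le_left, hn, GF4, inferInstance,
    inferInstance, card_GF4, ⟨(QuotientGroup.quotientMulEquivOfEq hk.symm).trans
      (QuotientGroup.quotientKerEquivOfSurjective Φ e1)⟩⟩

end Cfsg.Agent.S5473
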