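import Cfsg.Statements.S5517
import Cfsg.Agent.TT.R22Sub
import Cfsg.Agent.Class.Orth.POrder

set_option autoImplicit false
open Cfsg

namespace Cfsg.Agent.S5517

open Cfsg.Agent.TT Subgroup

theorem fact3 {m : ℕ} (hm : ¬ 3 ∣ m) : (3 ^ 9 * m).factorization 3 = 9 := by
  rw [Nat.factorization_mul (by norm_num) (by rintro rfl; simp at hm), Finsupp.add_apply,
    Nat.Prime.factorization_pow Nat.prime_three, Nat.factorization_eq_zero_of_not_dvd hm]
  simp

/-- Let G be a finite group with trivial centre generated by a conjugation-invariant set D of 3-transpositions on which it acts primitively, such that for some d in D the subgroup generated by the members of D other than d commuting with d has central largest normal 2- and 3-subgroups, and suppose G with D is of type M(22). Then G has a subgroup L generated by the members of D it contains and isomorphic to Ω(7, 3) (the commutator subgroup of the isometry group of a non-degenerate 7-dimensional quadratic form over the field with three elements, modulo its centre), and every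 Sylow 3-subgroup of L is a Sylow 3-subgroup of G. -/
theorem result {G : Type*} [Group G] [Finite G] {D : Set G} (hD : Cfsg.IsThreeTranspositionGroup D) (hprim : Cfsg.IsPrimitiveUnderConj D) (d₀ : G) (hd₀ : d₀ ∈ D) (h3 : Cfsg.pCore 3 ↥(Subgroup.closure {y : G | y ∈ D ∧ y ≠ d₀ ∧ Commute d₀ y}) ≤ Subgroup.center ↥(Subgroup.closure {y : G | y ∈ D ∧ y ≠ d₀ ∧ Commute d₀ y})) (h2 : Cfsg.pCore 2 ↥(Subgroup.closure {y : G | y ∈ D ∧ y ≠ d₀ ∧ Commute d₀ y}) ≤ Subgroup.center ↥(Subgroup.closure {y : G | y ∈ D ∧ y ≠ d₀ ∧ Commute d₀ y})) (h22 : Cfsg.IsOfTypeM22 G D) : ∃ L : Subgroup G, Cfsg.IsDSubgroup D L ∧ Nonempty (↥L ≃* Cfsg.POmega (ZMod 3) (Cfsg.quadFormOdd 3 (ZMod 3))) ∧ ∀ P : Sylow 3 ↥L, ∃ P' : Sylow 3 G, (P : Subgroup ↥L).map L.subtype = (P' : Subgroup G) := by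
  have h := m22g_of_type hD hprim h22
  obtain ⟨T, s, t⟩ := h.exists_seven
  obtain ⟨e⟩ := t.seven_equiv (center_closure_eq_bot fun z _ hz =>
    h.eq_one_of_commute_seven hD.2.2 h22.1 s t hz)
  refine ⟨closure T, le_antisymm ((closure_le _).2 fun x hx => hx.2)
    (closure_mono fun x hx => ⟨s hx, subset_closure hx⟩), ⟨e⟩, fun P => ?_⟩
  have hL : Nat.card (closure T) = 3 ^ 9 * 232960 := by
    have := Class.Orth.card_POmega_odd (F := ZMod 3) (by decide) (m := 3) (by norm_num)
    rw [← Nat.card_congr e.toEquiv, Nat.card_zmod] at this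
    simp only [Finset.prod_range_succ, Finset.prod_range_zero] at this
    omega
  have hG : Nat.card G = 3 ^ 9 * 3280076800 := h.card hD.2.2 h22.1
  have : Fact (Nat.Prime 3) := ⟨Nat.prime_three⟩
  refine ⟨Sylow.ofCard ((P : Subgroup (closure T)).map (closure T).subtype) ?_, rfl⟩
  rw [card_map_of_injective (closure T).subtype_injective, Sylow.card_eq_multiplicity, hL, hG,
    fact3 (by norm_num), fact3 (by norm_num)]

end Cfsg.Agent.S5517
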