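import Cfsg.Statements.S5518
import Cfsg.Agent.TT.R24p13

set_option autoImplicit false
open Cfsg

namespace Cfsg.Agent.S5518

open Cfsg.Agent.TT.Row Cfsg.Agent.TT.Row.R24G2 Cfsg.Agent.TT.Row.R24p13 Subgroup

/-- Let G be a finite group with trivial centre generated by a conjugation-invariant set D of 3-transpositions on which it acts primitively, such that for some d in D the subgroup generated by the members of D other than d commuting with d has central largest normal 2- and 3-subgroups, and suppose G with D is of type M(24). Then any two subgroups of order 13 are conjugate; and there are members a, b, c, d of D generating the direct product T of two symmetric groups of degree 3 (a, d non-commuting; b, c non-commuting; b and c commuting with a and d) whose centralizer K is isomorphic to the Chevalley group G₂(3), such that for every subgroup B of K of order 13: the normalizer of B lies in the normalizer of K, the normalizer F of B in K is a Frobenius group of order 78 with kernel B (order 78, centralizer of B in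 it equal to B), and the subgroup generated by F and T has index 2 in the normalizer of B. -/
theorem result {G : Type*} [Group G] [Finite G] {D : Set G} (hD : Cfsg.IsThreeTranspositionGroup D) (hprim : Cfsg.IsPrimitiveUnderConj D) (d₀ : G) (hd₀ : d₀ ∈ D) (h3 : Cfsg.pCore 3 ↥(Subgroup.closure {y : G | y ∈ D ∧ y ≠ d₀ ∧ Commute d₀ y}) ≤ Subgroup.center ↥(Subgroup.closure {y : G | y ∈ D ∧ y ≠ d₀ ∧ Commute d₀ y})) (h2 : Cfsg.pCore 2 ↥(Subgroup.closure {y : G | y ∈ D ∧ y ≠ d₀ ∧ Commute d₀ y}) ≤ Subgroup.center ↥(Subgroup.closure {y : G | y ∈ D ∧ y ≠ d₀ ∧ Commute d₀ y})) (h24 : Cfsg.IsOfTypeM24 G D) : (∀ X Y : Subgroup G, Nat.card X = 13 → Nat.card Y = 13 → ∃ g : G, X.map (MulAut.conj g).toMonoidHom = Y) ∧ ∃ (a b c d : G) (T K : Subgroup G), (∀ x ∈ [a, b, c, d], x ∈ D) ∧ ¬ Commute a d ∧ ¬ Commute b c ∧ Commute a b ∧ Commute a c ∧ Commute d b ∧ Commute d c ∧ T = Subgroup.closure ({a, b, c, d} : Set G) ∧ K = Subgroup.centralizer (T : Set G) ∧ Nonempty (↥K ≃* ↥(Cfsg.Lie.chevG2.group (ZMod 3))) ∧ ∀ B : Subgroup G, B ≤ K → Nat.card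 B = 13 → Subgroup.normalizer ((B : Subgroup G) : Set G) ≤ Subgroup.normalizer ((K : Subgroup G) : Set G) ∧ Nat.card ↥(K ⊓ Subgroup.normalizer ((B : Subgroup G) : Set G)) = 78 ∧ K ⊓ Subgroup.centralizer ((B : Subgroup G) : Set G) = B ∧ (((K ⊓ Subgroup.normalizer ((B : Subgroup G) : Set G)) ⊔ T).subgroupOf (Subgroup.normalizer ((B : Subgroup G) : Set G))).index = 2 := by
  obtain ⟨t⟩ := D24.exists_tm hD hprim h24
  refine ⟨(all t).conj, t.val ea, t.val eb, t.val ef, t.val ed, _, _, ?_, TM.not_commute (by decide +kernel),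
    TM.not_commute (by decide +kernel), (mem4 t eb (by simp)).1, (mem4 t ef (by simp)).1, (mem4 t eb (by simp)).2,
    (mem4 t ef (by simp)).2, rfl, rfl, cent_eq t ▸ equiv_g2 t, fun B hB hc => ?_⟩
  · simp only [List.forall_mem_cons]
    exact ⟨t.val_mem (by decide +kernel), t.val_mem (by decide +kernel), t.val_mem (by decide +kernel),
      t.val_mem (by decide +kernel), by simp⟩
  obtain ⟨k, hk⟩ := TT.Pt.allConj_of_sylow (p := 13) (m := 326592) (x := ⟨_, x_mem t⟩) (by norm_num)
    (by rw [cent_eq, card2]) (by norm_num) (by rw [orderOf_mk, ox]) (B.subgroupOf _)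
    (by rw [Nat.card_congr (subgroupOfEquivOfLe hB).toEquiv, hc])
  have h1 : B = zpowers ((t.conj k).val x) := by
    rw [← map_subgroupOf_eq_of_le hB, hk, MonoidHom.map_zpowers, t.val_conj]; rfl
  have h2 : ∀ e, t.val e ∈ ({t.val ea, t.val eb, t.val ef, t.val ed} : Set G) → t.val e = (t.conj k).val e :=
    fun e he => by rw [t.val_conj, ← k.2 _ (subset_closure he), mul_inv_cancel_right]
  rw [h1]
  refine row (t.conj k) hD.1 ?_ rfl
  rw [← h2 ea (by simp), ← h2 eb (by simp), ← h2 ef (by simp), ← h2 ed (by simp)]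

end Cfsg.Agent.S5518
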