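import Cfsg.Statements.S5520
import Mathlib
import Cfsg.Agent.F24.U43Uniq

set_option autoImplicit false
open Cfsg

namespace Cfsg.Agent.S5520

open Subgroup Class TT TT.UQ F24

/-- The determinant. -/
noncomputable def dt : GU6 →* GF4 := LinearMap.det.comp
  ({ toFun := fun g => IsLin.lin g.2, map_one' := rfl, map_mul' := fun _ _ => rfl } :
    GU6 →* Module.End GF4 V6)

/-- The linear isometries of determinant one. -/
noncomputable def SG : Subgroup P6 := dt.ker.map GU6.subtype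

theorem NT_le {c : GF4} (hc : c ≠ 0) : NT c ≤ SG := (closure_le _).2 (by
  rintro _ ⟨u, hu, rfl⟩
  refine ⟨⟨_, tv_lin (A_subset hc hu)⟩, (by decide : ∀ a : GF4, a * a = 1 → a = 1) _ ?_, rfl⟩
  rw [← map_mul, ← map_one dt]
  exact congrArg dt (Subtype.ext (tv_mul_self (A_subset hc hu))))

theorem dt_dz (a : ZMod 3) : dt ⟨_, dz_lin (Pi.single 0 a)⟩ = om ^ a.val := by
  have : IsLin.lin (dz_lin (Pi.single 0 a)) = Matrix.toLin' (Matrix.diagonal
      fun i => om ^ ((Pi.single 0 a : Fin 6 → ZMod 3) i).val) :=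
    LinearMap.ext fun v => funext fun i => by
      rw [Matrix.toLin'_apply, Matrix.mulVec_diagonal]; rfl
  refine (congrArg LinearMap.det this).trans ?_
  simp [Fin.prod_univ_six]

theorem dz_mem_A (a : ZMod 3) (c : GF4) (v : V6) :
    dz (.ofAdd (Pi.single 0 a)) v ∈ A (om ^ a.val * c) ↔ v ∈ A c := by
  refine or_congr ?_ ?_
  · rw [show supp (dz (.ofAdd (Pi.single 0 a)) v) = supp v from Finset.ext fun i => by
      simp [mem_supp, dz_apply, show om ≠ 0 by decide]]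
  · simp [dz_apply, Fin.prod_univ_six, mul_assoc, show om ≠ 0 by decide]

theorem eq_of_conj {c c' : GF4} (hc : c ≠ 0) (hc' : c' ≠ 0) {g : P6} (hg : g ∈ SG)
    (h : (KT c).map (MulAut.conj g).toMonoidHom = KT c') : c = c' := by
  obtain ⟨a, rfl⟩ := (by decide : ∀ c c' : GF4, c ≠ 0 → c' ≠ 0 → ∃ a : ZMod 3, om ^ a.val * c = c')
    c c' hc hc'
  obtain ⟨g, h1, rfl⟩ := hg
  have h2 := mem_stab_of_normalizes hc hc' (GU6_le g.2) fun k hk => h.le ⟨k, hk, rfl⟩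
  obtain ⟨k, h3, h4⟩ := NT_le hc ((NT_eq hc).ge (⟨(g⁻¹ * ⟨_, dz_lin (Pi.single 0 a)⟩ : GU6).2,
    fun v => by simpa [← h2] using dz_mem_A a c v⟩ : _ ∈ GU6 ⊓ stab (A c)))
  obtain rfl : k = g⁻¹ * ⟨_, dz_lin (Pi.single 0 a)⟩ := Subtype.ext h4
  have h5 := dt.ker.mul_mem h1 h3
  rw [mul_inv_cancel_left, MonoidHom.mem_ker, dt_dz] at h5
  rw [h5, one_mul]

theorem exists_conj {K : Subgroup P6} (hK : K ≤ GU6) (hZ : Nat.card (center K) = 3) {F : Type}
    [Field F] [Fintype F] (hF : Fintype.card F = 9) (e : K ⧸ center K ≃* PSU 4 F 3) :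
    ∃ g ∈ SG, ∃ c ≠ 0, K.map (MulAut.conj g).toMonoidHom = KT c := by
  obtain ⟨g, hg, h⟩ := exists_conj_KT K hK _ hZ hF e
  obtain ⟨a, ha⟩ := (by decide : ∀ c : GF4, c ≠ 0 → ∃ a : ZMod 3, om ^ a.val * c = 1)
    (dt ⟨g, hg⟩) (Group.isUnit _ |>.map dt).ne_zero
  have hc : om ^ a.val * om ≠ 0 := mul_ne_zero (pow_ne_zero _ (by decide)) (by decide)
  refine ⟨_, ⟨⟨_, dz_lin (Pi.single 0 a)⟩ * ⟨g, hg⟩, by
    rw [SetLike.mem_coe, MonoidHom.mem_ker, map_mul, dt_dz, ha], rfl⟩, _, hc, eq_KT hc ?_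
      ((card_map_of_injective (MulAut.conj _).injective).trans (card_of_psu _ hZ hF e))⟩
  rintro _ ⟨k, hk, rfl⟩
  have h1 := GU6.mul_mem (dz_lin (Pi.single 0 a)) hg
  refine ⟨GU6.mul_mem (GU6.mul_mem h1 (hK hk)) (GU6.inv_mem h1), fun v => ?_⟩
  obtain ⟨v, rfl⟩ := (dz (.ofAdd (Pi.single 0 a))).surjective v
  simpa [dz_mem_A] using NT_le_stab (by decide) (KT_le om (h.le ⟨k, hk, rfl⟩)) v

theorem exists_hom (F : Type) [Field F] [Fintype F] (hF : Fintype.card F = 4) :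
    ∃ ι : SU 6 F 2 →* P6, Function.Injective ι ∧ ι.range = SG := by
  let e := suCongr 6 2 (ringEquivGF4 hF)
  have h1 : ∀ (g : GL (Fin 6) GF4) h, dt ⟨glP g, h⟩ = g.1.det := fun g h =>
    LinearMap.det_toLin' g.1
  refine ⟨((glP.comp Matrix.SpecialLinearGroup.toGL).comp (SU 6 GF4 2).subtype).comp e.toMonoidHom,
    ((glP_injective.comp Matrix.SpecialLinearGroup.toGL_injective).comp
      Subtype.val_injective).comp e.injective, le_antisymm ?_ ?_⟩
  · rintro _ ⟨g, rfl⟩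
    exact ⟨⟨_, map_glP.le ⟨_, (e g).2, rfl⟩⟩, (h1 _ _).trans (e g).1.2, rfl⟩
  · rintro _ ⟨⟨g, hg⟩, h2, rfl⟩
    obtain ⟨g, h3, rfl⟩ := map_glP.ge hg
    obtain ⟨m, hm⟩ : ∃ m : Matrix.SpecialLinearGroup (Fin 6) GF4,
      Matrix.SpecialLinearGroup.toGL m = g := ⟨⟨g.1, (h1 g hg).symm.trans h2⟩,
        Units.ext (Matrix.SpecialLinearGroup.coe_GL_coe_matrix _)⟩
    subst hm
    obtain ⟨k, hk⟩ := e.surjective ⟨m, h3⟩
    exact ⟨k, by simp [hk]⟩

/-- In the special unitary group of dimension 6 over the field with four elements (determinant-one matrices preserving the standard Hermitian form), the subgroups K whose centre has order 3 with K modulo its centre isomorphic to the projective special unitary group of dimension 4 over the field with nine elements fall into exactly three conjugacy classes. -/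
theorem result (F : Type) [Field F] [Fintype F] (hF : Fintype.card F = 4) (F9 : Type) [Field F9] [Fintype F9] (hF9 : Fintype.card F9 = 9) : ∃ K₁ K₂ K₃ : Subgroup ↥(Cfsg.SU 6 F 2), (∀ K ∈ [K₁, K₂, K₃], Nat.card ↥(Subgroup.center ↥K) = 3 ∧ Nonempty (↥K ⧸ Subgroup.center ↥K ≃* Cfsg.PSU 4 F9 3)) ∧ (¬ ∃ g : ↥(Cfsg.SU 6 F 2), K₁.map (MulAut.conj g).toMonoidHom = K₂) ∧ (¬ ∃ g : ↥(Cfsg.SU 6 F 2), K₁.map (MulAut.conj g).toMonoidHom = K₃) ∧ (¬ ∃ g : ↥(Cfsg.SU 6 F 2), K₂.map (MulAut.conj g).toMonoidHom = K₃) ∧ ∀ K : Subgroup ↥(Cfsg.SU 6 F 2), Nat.card ↥(Subgroup.center ↥K) = 3 → Nonempty (↥K ⧸ Subgroup.center ↥K ≃* Cfsg.PSU 4 F9 3) → ∃ g : ↥(Cfsg.SU 6 F 2), K.map (MulAut.conj g).toMonoidHom = K₁ ∨ K.map (MulAut.conj g).toMonoidHom = K₂ ∨ K.map (MulAut.conj g).toMonoidHom = K₃ := by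
  obtain ⟨ι, hι, hr⟩ := exists_hom F hF
  have h1 : ∀ c ≠ 0, ((KT c).comap ι).map ι = KT c := fun c hc =>
    map_comap_eq_self (hr ▸ (KT_le c).trans (NT_le hc))
  have h2 : ∀ (K : Subgroup (SU 6 F 2)) g, (K.map (MulAut.conj g).toMonoidHom).map ι =
      (K.map ι).map (MulAut.conj (ι g)).toMonoidHom := fun K g => by
    rw [map_map, map_map]
    exact congrArg (map · K) (MonoidHom.ext fun k => by simp)
  have h3 : ∀ c ≠ 0, ∀ c' ≠ 0, c ≠ c' → ¬ ∃ g, ((KT c).comap ι).map (MulAut.conj g).toMonoidHom =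
      (KT c').comap ι := fun c hc c' hc' hn ⟨g, e⟩ => hn (eq_of_conj hc hc' (hr.le ⟨g, rfl⟩) (by
    rw [← h1 c hc, ← h2, e, h1 c' hc']))
  have h4 : ∀ c ≠ 0, Nat.card (center ((KT c).comap ι)) = 3 ∧
      Nonempty ((KT c).comap ι ⧸ center ((KT c).comap ι) ≃* PSU 4 F9 3) := fun c hc => by
    let e := (equivMapOfInjective _ _ hι).trans (MulEquiv.subgroupCongr (h1 c hc))
    obtain ⟨e'⟩ := KT_quot hc F9 hF9
    refine ⟨?_, ⟨(quotCenterCongr e).trans e'⟩⟩
    rw [Nat.card_congr (centerCongr e).toEquiv, center_KT hc,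
      Nat.card_congr (subgroupOfEquivOfLe (zpowers_sc_le hc)).toEquiv, Nat.card_zpowers, orderOf_sc]
  refine ⟨(KT 1).comap ι, (KT om).comap ι, (KT (om ^ 2)).comap ι, ?_,
    h3 _ (by decide) _ (by decide) (by decide), h3 _ (by decide) _ (by decide) (by decide),
    h3 _ (by decide) _ (by decide) (by decide), fun K hZ ⟨e⟩ => ?_⟩
  · simp only [List.mem_cons, List.not_mem_nil, or_false]
    rintro _ (rfl | rfl | rfl) <;> exact h4 _ (by decide)
  let e' := equivMapOfInjective K _ hι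
  obtain ⟨_, hg, c, hc, h5⟩ := exists_conj ((map_le_range ι K).trans (hr.le.trans
    (map_subtype_le _))) ((Nat.card_congr (centerCongr e').toEquiv).symm.trans hZ) hF9
    ((quotCenterCongr e').symm.trans e)
  obtain ⟨g, rfl⟩ := hr.ge hg
  have h6 : K.map (MulAut.conj g).toMonoidHom = (KT c).comap ι := by
    rw [← h5, ← h2, comap_map_eq_self_of_injective hι]
  refine ⟨g, ?_⟩
  rcases gf_cases c hc with rfl | rfl | rfl
  exacts [Or.inl h6, Or.inr (Or.inl h6), Or.inr (Or.inr h6)]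

end Cfsg.Agent.S5520
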