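import Cfsg.Statements.S5522
import Cfsg.Agent.Spor.M24Conj

set_option autoImplicit false
open Cfsg

namespace Cfsg.Agent.S5522

open Cfsg.Agent.Spor Cfsg.Agent.Spor.M24C Cfsg.Agent.Comp
open scoped Pointwise

/-- The Mathieu group M₁₁, realised as the stabiliser of one point of the dodecad of squares inside the stabiliser M₁₂ of that dodecad in M₂₄, acts on the twelve coordinate positions outside the dodecad of squares (its 3-transitive action of degree 12); in this action every element of prime order fixes a point, i.e. the action is elusive. -/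
theorem result (g : Equiv.Perm Cfsg.GolayPt) (hg : g ∈ Cfsg.Spor.M11) (hord : (orderOf g).Prime) :
    ∃ x : Cfsg.GolayPt, x ∉ Cfsg.Spor.squareDodecad ∧ g x = x := by
  lift g to M24 using hg.1.1
  have h1 : g ∈ fixK (MulAction.stabilizer M24 (setOf' 340831)) bD 1 := by
    refine ⟨?_, fun j hj => ?_⟩
    · rw [← squareDodecad_eq]; exact hg.1.2
    · obtain rfl : j = 0 := by omega
      rw [dg_bD (by norm_num)]
      exact hg.2
  have := chainD.forall_fixK (fun c => or' (not' (Nat.beq (Nat.land (fixC c) 16436384) 0))
    (force (mulC c c) fun d => and' (not' (Nat.beq d oneC))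
      (force (mulC d d) fun e => Nat.beq (mulC e e) oneC))) 1 (by norm_num) (by decide +kernel) g h1
  simp only [or'_eq_true, not'_eq_true, force_eq, and'_eq_true, beq_iff, ← code_mul', ← code_one',
    ← eq_iff_code] at this
  rcases this with h | ⟨h2, h8⟩
  · by_contra hne
    apply h
    apply setOf'_inj (Nat.and_lt_two_pow _ (by norm_num)) (by norm_num)
    rw [setOf'_land, ← fixSet_eq, setOf'_zero, Finset.eq_empty_iff_forall_notMem]
    intro p hp
    rw [Finset.mem_inter, mem_fixSet, show 16436384 = 340831 ^^^ 16777215 from rfl, setOf'_compl,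
      Finset.mem_compl, ← squareDodecad_eq] at hp
    exact hne ⟨p, hp.2, hp.1⟩
  · exfalso
    rw [Subgroup.orderOf_coe] at hord
    have h3 : orderOf g ∣ 2 ^ 3 := orderOf_dvd_of_pow_eq_one (by
      rw [← h8, show 2 ^ 3 = 8 from rfl]; simp only [pow_succ, pow_zero, one_mul, mul_assoc])
    have h4 := (Nat.prime_dvd_prime_iff_eq hord Nat.prime_two).1 (hord.dvd_of_dvd_pow h3)
    exact h2 (orderOf_two_iff.1 h4).2

end Cfsg.Agent.S5522
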