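import Cfsg.Statements.S5528
import Cfsg.Agent.Mon.CuDegD
import Cfsg.Agent.Mon.Fin
import Cfsg.Agent.Mon.Iso

set_option autoImplicit false
open Cfsg

namespace Cfsg.Agent.S5528

/-- Every faithful complex matrix representation of the Monster (the finitely presented group of the definitions) has degree at least 196883: an injective homomorphism from the Monster into GL_n(ℂ) forces n ≥ 196883. -/
theorem result (n : ℕ) (ρ : Cfsg.Spor.Monster →* GL (Fin n) ℂ) (hρ : Function.Injective ρ) : 196883 ≤ n := by
  obtain ⟨e⟩ := Mon.monster_iso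
  have := Mon.Deg.le_finrank (V := Fin n → ℂ) Mon.if1.toIf0
    ((Matrix.toLinAlgEquiv' (R := ℂ) (n := Fin n)).toMonoidHom.comp
      ((Units.coeHom _).comp (ρ.comp e.symm.toMonoidHom))) fun x hx => by
      have h1 : ρ (e.symm x) = 1 :=
        Units.ext ((map_eq_one_iff _ Matrix.toLinAlgEquiv'.injective).1 hx)
      simpa using (map_eq_one_iff _ hρ).1 h1
  simpa using this

end Cfsg.Agent.S5528
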