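import Cfsg.Statements.S5533
import Cfsg.Agent.MonU.TwoE6I
import Cfsg.Agent.Mon.Iso
import Cfsg.Agent.Mon.Design
import Cfsg.Agent.Class.FieldTransport

set_option autoImplicit false
open Cfsg

namespace Cfsg.Agent.S5533

/-- The Monster (realised inside the presented Bimonster) has a Klein four-subgroup E whose normalizer N has a normal subgroup K containing E such that K/E is isomorphic to the twisted group ²E₆(2) (realised over the field with four elements, as in the definitions), N/K is isomorphic to the symmetric group of degree 3, and E has no complement in K. -/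
theorem result : ∃ (E N : Subgroup Cfsg.Spor.Monster) (K : Subgroup ↥N), IsKleinFour ↥E ∧ N = Subgroup.normalizer (E : Set Cfsg.Spor.Monster) ∧ E.subgroupOf N ≤ K ∧ (∃ (F : Type) (_ : Field F) (_ : Fintype F), Fintype.card F = 4 ∧ ∃ _ : ((E.subgroupOf N).subgroupOf K).Normal, Nonempty (↥K ⧸ (E.subgroupOf N).subgroupOf K ≃* ↥(Cfsg.Lie.twistedE6 F 2))) ∧ (∃ _ : K.Normal, Nonempty (↥N ⧸ K ≃* Equiv.Perm (Fin 3))) ∧ ∀ L : Subgroup ↥K, ¬ ((E.subgroupOf N).subgroupOf K).IsComplement' L := by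
  obtain ⟨e⟩ := Mon.monster_iso
  have : Finite Spor.Monster := .of_equiv _ e.symm.toEquiv
  have h := MonU.E6.if0_map Mon.if1.toIf0 e.symm
  have ea := TT.Eqv.refl (e.symm Mon.zG) (e.symm (Mon.psi Spor.leechU))
  have eb := TT.Eqv.refl (e.symm Mon.zG) (e.symm (Mon.psi Spor.Leech.x16))
  have ha := MonU.E6.A_a h ea
  have hb := MonU.E6.D_b h ea eb
  have hn := fun L => MonU.E6.nonsplit h ea eb (L := L)
  obtain ⟨φ, h1, h2⟩ := MonU.E6.exists_perm h ha hb (h.mon.mem _) (h.mon.mem _)
  have hE := MonU.E6.E_le h ha hb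
  have hK := MonU.E6.klein h ha hb
  have hi := fun {H : Type} [Group H] {m : _ →* H} => MonU.E6.iso_of (m := m) h ha hb
  have a1 := h.ne_one_A ha
  generalize e.symm (Mon.psi Spor.leechU) = a at *
  generalize e.symm (Mon.psi Spor.Leech.x16) = b at *
  have hC : Subgroup.centralizer {a, b} ≤ Subgroup.normalizer
      ((Subgroup.closure {a, b} : Subgroup Spor.Monster) : Set Spor.Monster) := fun c hc =>
    Subgroup.centralizer_le_normalizer _
      (TT.mem_centralizer_closure_pair.2 (MonY.E0.mem_c2.1 hc))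
  have hN : (((Subgroup.closure {a, b}).subgroupOf _).subgroupOf φ.ker).Normal :=
    Subgroup.normal_subgroupOf
  let ι : Subgroup.centralizer {a, b} →* φ.ker :=
    (Subgroup.inclusion hC).codRestrict _ fun x => (h2 _).2 x.2
  have aE : a ∈ Subgroup.closure {a, b} := Subgroup.subset_closure (by simp)
  refine ⟨Subgroup.closure {a, b}, _, φ.ker, hK, rfl, fun x hx => (h2 x).2 (hE hx),
    ⟨Class.GF4, inferInstance, inferInstance, Class.card_GF4, hN,
      hi (m := (QuotientGroup.mk' (((Subgroup.closure {a, b}).subgroupOf _).subgroupOf φ.ker)).comp ι)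
        ((QuotientGroup.mk'_surjective _).comp
        fun x => ⟨⟨x.1, (h2 _).1 x.2⟩, rfl⟩) (fun x => QuotientGroup.eq_one_iff (ι x)) _ Class.card_GF4⟩,
    ⟨inferInstance, ⟨QuotientGroup.quotientKerEquivOfSurjective φ h1⟩⟩, fun L hL => ?_⟩
  refine hn ((L.map φ.ker.subtype).map (Subgroup.subtype _)) ?_ fun k hk => ?_
  · rintro ⟨_, ⟨x, hx, rfl⟩, e⟩
    have := Subgroup.disjoint_def.1 hL.disjoint (x := x) 
      (show (x.1 : Spor.Monster) ∈ Subgroup.closure {a, b} from (show x.1.1 = a from e).symm ▸ aE) hx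
    exact a1 (by rw [← e, this]; rfl)
  · obtain ⟨⟨u, v⟩, huv, -⟩ := hL.existsUnique (ι ⟨k, hk⟩)
    exact ⟨u.1.1, u.2, v.1.1, ⟨_, ⟨_, v.2, rfl⟩, rfl⟩,
      (congrArg (fun t : φ.ker => (t.1 : Spor.Monster)) huv).symm⟩

end Cfsg.Agent.S5533
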