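import Cfsg.Statements.S5534
import Cfsg.Agent.Mon.Iso
import Cfsg.Agent.Mon.IsoB
import Cfsg.Agent.Mon.NsCongr
import Cfsg.Agent.Mon.Design

set_option autoImplicit false
open Cfsg

namespace Cfsg.Agent.S5534

/-- The Monster (realised inside the presented Bimonster) has an involution whose centralizer is a non-split double cover of the Baby Monster (the finitely presented group of the definitions): the centralizer has centre of order 2, its central quotient is isomorphic to the Baby Monster, and the centre has no complement. -/
theorem result : ∃ y : Cfsg.Spor.Monster, orderOf y = 2 ∧ Cfsg.IsNonsplitDoubleCover ↥(Subgroup.centralizer ({y} : Set Cfsg.Spor.Monster)) Cfsg.Spor.BabyMonster := by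
  obtain ⟨e⟩ := Mon.monster_iso
  obtain ⟨f⟩ := Mon.baby_iso
  have h : Mon.psi Spor.leechU ∈ Mon.cA Mon.psi := IsConj.refl _
  exact ⟨e.symm _, (e.symm.orderOf_eq _).trans (Mon.if1.sq_A h),
    Mon.nonsplit_congr (Mon.centCongr e.symm _) f.symm (Mon.if1.nonsplit h)⟩

end Cfsg.Agent.S5534
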