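import Cfsg.Statements.S5535
import Mathlib
import Cfsg.Agent.MonL.Base
import Cfsg.Agent.S5461

set_option autoImplicit false
open Cfsg

namespace Cfsg.Agent.S5535

open Subgroup in
theorem aux {G : Type} [Group G] [Finite G] (hG : IsGroupOfMonsterType G) : ∃ (X N : Subgroup G), Nat.card X = 3 ∧
    N = normalizer (X : Set G) ∧ (∃ _ : (X.subgroupOf N).Normal, Nonempty (N ⧸ X.subgroupOf N ≃* Spor.Fi24)) ∧
    ∀ L : Subgroup N, ¬ (X.subgroupOf N).IsComplement' L := by
  obtain ⟨z, Q, _, hM⟩ := hG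
  obtain ⟨g, hQ, hne⟩ := hM.1.2.2.2.2
  have hs : IsConj z (g * z * g⁻¹) := isConj_iff.2 ⟨g, rfl⟩
  generalize g * z * g⁻¹ = s at *
  obtain ⟨θ, t⟩ := Mont.exists_th' hM hQ hs hne
  have := Fact.mk Nat.prime_three
  obtain ⟨P⟩ : Nonempty (Sylow 3 (centralizer ({z, s} : Set G))) := inferInstance
  have : Nontrivial P := P.isPGroup'.nontrivial_iff_card.2 ⟨_, by
    rw [t.fact Nat.prime_three (by norm_num), Agent.Spor.M24C.card_M24, ← Nat.primeFactorsList_count_eq]
    simp [Nat.primeFactorsList_ofNat], P.card_eq_multiplicity⟩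
  have := P.isPGroup'.center_nontrivial
  obtain ⟨y, hy⟩ := exists_prime_orderOf_dvd_card' 3
    ((P.isPGroup'.to_subgroup (center _)).card_eq_or_dvd.resolve_left Finite.one_lt_card.ne')
  obtain ⟨Y, hY0⟩ : ∃ Y, Y = zpowers (y.1.1.1 : G) := ⟨_, rfl⟩
  have hY : Y ≤ centralizer {z, s} := hY0 ▸ zpowers_le_of_mem y.1.1.2
  have hY3 : Nat.card Y = 3 := by rw [hY0, Nat.card_zpowers, orderOf_coe, orderOf_coe, orderOf_coe, hy]
  have hc : ∃ P : Sylow 3 (centralizer ({z, s} : Set G)), Y.subgroupOf (centralizer ({z, s} : Set G)) ≤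
      (center (P : Subgroup (centralizer ({z, s} : Set G)))).map (Subgroup.subtype _) := ⟨P, fun x hx => by
    obtain ⟨k, e⟩ := hY0.le hx
    exact ⟨(y ^ k).1, (y ^ k).2, Subtype.ext e⟩⟩
  have hKN := centralizer_le_normalizer (Y : Set G)
  obtain ⟨b, h1, h2, h3⟩ := t.three_c hY hY3 hc
  have hYC : Y ≤ centralizer Y := by rw [h2]; exact le_centralizer _
  have : (Y.subgroupOf (centralizer (Y : Set G))).Normal := normal_subgroupOf_of_le_normalizer hKN
  obtain ⟨hq, ⟨e⟩, E, -, hE, -⟩ := S5461.result z Q hM s hQ hs hne Y hY hY3 hc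
  let ν := (QuotientGroup.mk' (Y.subgroupOf (normalizer (Y : Set G)))).comp (inclusion hKN)
  have hν : ν.ker = Y.subgroupOf _ := Subgroup.ext fun k => QuotientGroup.eq_one_iff (inclusion hKN k)
  have hi : ν.range.index = 2 := by
    obtain ⟨ρ, c, -⟩ := Mont.C3A.cdata
    have q := Mont.oq_mk Nat.prime_three (by norm_num) h1 h2
    obtain ⟨π, φ, d, hx, -⟩ := t.main h3 q c
    rw [MonoidHom.range_comp, inclusion_range, index_map_eq _ (QuotientGroup.mk'_surjective _) (by
      rw [QuotientGroup.ker_mk']; exact comap_mono hYC), h2]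
    refine Mont.relIndex_eq_of_conj Nat.prime_three h1 fun y hy hy1 => ?_
    rcases Mont.mem_zpowers_three h1 hy with rfl | rfl | rfl
    · exact absurd rfl hy1
    · exact IsConj.refl _
    · obtain ⟨k, hk⟩ := Mont.x1_real
      exact (Subgroup.subtype _).map_isConj (Mont.isConj_sq d (by rw [orderOf_mk]; exact q.odd) hx hk)
  refine ⟨Y, _, hY3, rfl, ⟨inferInstance, ?_⟩, fun L hL => ?_⟩
  · refine ⟨(TT.exists_equiv_fi24_of_index_two _ hi ((QuotientGroup.quotientKerEquivRange ν).symm.trans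
      ((QuotientGroup.quotientMulEquivOfEq hν).trans e)) fun x hx => by_contra fun hx' => hx' ?_).choose⟩
    refine (mem_bot.1 (hE ▸ mem_center_iff.2 fun w => ?_) : x = 1) ▸ one_mem _
    by_cases hw : w ∈ ν.range
    · exact hx w hw
    · have := hx _ ((mul_mem_iff_of_index_two hi).2 (iff_of_false hw hx'))
      rwa [← mul_assoc, mul_left_inj] at this
  · have key : ∀ c : centralizer (Y : Set G), ∃ x ∈ center _, x * c ∈ L.comap (inclusion hKN) := fun c => by
      obtain ⟨⟨x, l⟩, e, -⟩ := hL.existsUnique (inclusion hKN c)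
      refine ⟨⟨x.1.1, hYC x.2⟩⁻¹, inv_mem (mem_center_iff.2 fun w => Subtype.ext (w.2 _ x.2).symm), ?_⟩
      rw [mem_comap, map_mul, ← e]
      exact (inv_mul_cancel_left x.1 l.1).symm ▸ l.2
    have h4 : commutator _ ≤ L.comap (inclusion hKN) := commutator_le.2 fun c _ d _ => by
      obtain ⟨x, hx, h5⟩ := key c
      obtain ⟨w, hw, h6⟩ := key d
      have := mul_mem (mul_mem (mul_mem h5 h6) (inv_mem h5)) (inv_mem h6)
      rwa [show x * c * (w * d) * (x * c)⁻¹ * (w * d)⁻¹ = x * (c * w * d * c⁻¹) * x⁻¹ * d⁻¹ * w⁻¹ by group,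
        ← mem_center_iff.1 hx, mul_inv_cancel_right, mem_center_iff.1 hw,
        show w * c * d * c⁻¹ * d⁻¹ = w * (c * d * c⁻¹ * d⁻¹) by group, ← mem_center_iff.1 hw, mul_inv_cancel_right] at this
    have hb : (b : G) ∈ Y := h2 ▸ mem_zpowers _
    have := disjoint_def.1 hL.disjoint (x := inclusion hKN ⟨b, hYC hb⟩) hb (h4 (hq.1.commutator_eq_top ▸ mem_top _))
    simp [show (b : G) = 1 from congrArg Subtype.val this] at h1

/-- The Monster (realised inside the presented Bimonster) has a subgroup X of order 3 whose normalizer N satisfies: N/X is isomorphic to the Fischer group Fi₂₄ (the full 3-transposition group presented in the definitions, whose commutator subgroup of index 2 is the simple group Fi₂₄′), and X has no complement in N. -/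
theorem result : ∃ (X N : Subgroup Cfsg.Spor.Monster), Nat.card ↥X = 3 ∧ N = Subgroup.normalizer (X : Set Cfsg.Spor.Monster) ∧ (∃ _ : (X.subgroupOf N).Normal, Nonempty (↥N ⧸ X.subgroupOf N ≃* Cfsg.Spor.Fi24)) ∧ ∀ L : Subgroup ↥N, ¬ (X.subgroupOf N).IsComplement' L := by
  have := MonL.finite_monster
  exact aux S5542.result

end Cfsg.Agent.S5535
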