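import Cfsg.Statements.S5537
import Cfsg.Agent.Mon.OddA
import Cfsg.Agent.S1705
import Cfsg.Agent.S5542
-- import your own Cfsg.Agent.* helpers here

set_option autoImplicit false
open Cfsg

namespace Cfsg.Agent.S5537

/-- The Monster (realised inside the presented Bimonster) has a subgroup isomorphic to the Thompson sporadic group (the finitely presented group of the definitions). -/
theorem result : ∃ H : Subgroup Cfsg.Spor.Monster, Cfsg.Spor.IsoTh ↥H := by
  have : Finite Spor.Monster := Nat.finite_of_card_ne_zero (by rw [S1705.result.2]; norm_num)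
  obtain ⟨-, -, -, K, -, h⟩ := Mon.Odd.exists_Th S5542.result
  exact ⟨K, h⟩

end Cfsg.Agent.S5537
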