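import Cfsg.Statements.S5538
import Cfsg.Agent.Mon.HNe
import Cfsg.Agent.Mon.Iso
-- import your own Cfsg.Agent.* helpers here

set_option autoImplicit false
open Cfsg

namespace Cfsg.Agent.S5538

/-- The Monster (realised inside the presented Bimonster) has a subgroup isomorphic to the Harada–Norton sporadic group (the finitely presented group of the definitions). -/
theorem result : ∃ H : Subgroup Cfsg.Spor.Monster, Cfsg.Spor.IsoHN ↥H := by
  obtain ⟨e⟩ := Mon.monster_iso
  obtain ⟨-, -, K, -, ⟨f⟩⟩ := Mon.HN.exists_HN Mon.if1.toIf0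
  exact ⟨K.map e.symm.toMonoidHom, ⟨(K.equivMapOfInjective _ e.symm.injective).symm.trans f⟩⟩

end Cfsg.Agent.S5538
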