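import Cfsg.Statements.S5560
import Cfsg.Agent.Block.ZStar
import Cfsg.Agent.Inv.ZStarCor
import Cfsg.Agent.Inv.Isolated
import Cfsg.Agent.FT.B11Base
import Cfsg.Agent.FT.B12Pi
import Cfsg.Agent.Grp.CoprimeIndex
import Cfsg.Agent.Grp.Cores

set_option autoImplicit false
open Cfsg

namespace Cfsg.Agent.S5560

open Cfsg.Agent.FT

/-- A Z*-type result for an odd prime p. Let G be a finite group and d an involution of G such that the product of any two conjugates of d has order a power of p. Then the product of any two conjugates of d lies in the largest normal p-subgroup O_p(G); in other words the conjugacy class of d lies in the coset O_p(G)d, and d is central modulo O_p(G). -/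
theorem result {G : Type*} [Group G] [Finite G] {p : ℕ} (hp : p.Prime) (hp2 : p ≠ 2)
    (d : G) (hd : orderOf d = 2)
    (hprod : ∀ a ∈ conjugatesOf d, ∀ b ∈ conjugatesOf d, ∃ k : ℕ, orderOf (a * b) = p ^ k) :
    ∀ a ∈ conjugatesOf d, ∀ b ∈ conjugatesOf d, a * b ∈ Cfsg.pCore p G := by
  have := Fact.mk hp
  have hdd := Inv.mul_self_of_orderOf_eq_two hd
  have hdi := Inv.inv_eq_of_orderOf_eq_two hd
  have hc : ∀ g : G, g * d * g⁻¹ ∈ conjugatesOf d := fun g => isConj_iff.2 ⟨g, rfl⟩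
  have hd' : d ∈ conjugatesOf d := mem_conjugatesOf_self
  have hiso : IsIsolatedInvolution d := ⟨hd, fun g hg => by
    obtain ⟨k, hk⟩ := hprod d hd' _ (hc g)
    have h1 : d * (g * d * g⁻¹) = 1 := Inv.eq_one_of_mul_self_of_odd (by
      calc d * (g * d * g⁻¹) * (d * (g * d * g⁻¹))
          = d * d * (g * d * g⁻¹ * (g * d * g⁻¹)) := by
            rw [mul_assoc d, ← mul_assoc _ d, ← hg.eq]; simp only [mul_assoc]
        _ = 1 := by rw [hdd, Inv.conj_mul_self hdd, one_mul])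
      (hk ▸ (hp.odd_of_ne_two hp2).pow)
    rw [← hdi.symm.trans (inv_eq_of_mul_eq_one_right h1)]⟩
  obtain ⟨N, hN, hodd, hNd⟩ : ∃ N : Subgroup G, N.Normal ∧ Odd (Nat.card N) ∧
      ∀ g, d * g * d⁻¹ * g⁻¹ ∈ N :=
    ⟨pPrimeCore 2 G, inferInstance, Nat.coprime_two_right.1 (Grp.pPrimeCore_coprime 2 G),
      Block.zstar hiso⟩
  have htop := Inv.ZStar.centralizer_sup_eq_top_of_commutator_mem hd N hodd hNd
  have hsyl : ∀ q : ℕ, q.Prime → ∃ Q, Syl q Q N ∧ d ∈ 𝒩(Q) := fun q hq => by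
    obtain ⟨Q, h1, h2⟩ := B11.exists_inv_syl hq (A := Subgroup.zpowers d) (K := N)
      (by rw [Subgroup.normalizer_eq_top]; exact le_top)
      (by rw [Nat.card_zpowers, hd]; exact Nat.coprime_two_left.2 hodd) (Or.inl inferInstance)
    exact ⟨Q, h1, h2 (Subgroup.mem_zpowers d)⟩
  obtain ⟨P, hP, hdP⟩ := hsyl p hp
  have hcop : (P.relIndex N).Coprime ((𝒞[d] ⊓ N).relIndex N) := by
    refine Nat.coprime_of_dvd fun q hq h1 h2 => ?_
    have hqp : q ≠ p := fun e => B12.syl_not_dvd hp hP (e ▸ h1)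
    obtain ⟨Q, hQ, hdQ⟩ := hsyl q hq
    refine B12.syl_not_dvd hq hQ (h2.trans (Subgroup.relIndex_dvd_of_le_left N
      (le_inf (fun y hy => ?_) hQ.1)))
    have h3 : d * y * d⁻¹ * y⁻¹ ∈ Q := Q.mul_mem ((normIn_norm Q).conj_mem hdQ hy) (Q.inv_mem hy)
    obtain ⟨k, hk⟩ := hprod d hd' _ (hc y)
    have h4 : d * y * d⁻¹ * y⁻¹ = d * (y * d * y⁻¹) := by rw [hdi]; group
    have h5 := B12.piNat_orderOf (B12.hall_isPi hQ) h3
    rw [h4, hk] at h5
    have h6 : k = 0 := by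
      by_contra h0
      exact hqp (h5 p hp (dvd_pow_self p h0)).symm
    rw [h6, pow_zero, orderOf_eq_one_iff, ← h4, mul_inv_eq_one, mul_inv_eq_iff_eq_mul] at hk
    exact mem_cent1_iff.2 hk.symm
  have key : ∀ a ∈ conjugatesOf d, ∃ y ∈ P, a = y * d * y⁻¹ := fun a ha => by
    obtain ⟨g, rfl⟩ := isConj_iff.1 ha
    have hg : g ∈ N ⊔ 𝒞[d] := by rw [sup_comm, htop]; trivial
    obtain ⟨n, hn, c, hc, rfl⟩ := (mem_sup_norm
      (by rw [Subgroup.normalizer_eq_top]; exact le_top)).1 hg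
    obtain ⟨y, hy, c', hc', rfl⟩ := Grp.exists_mul_of_coprime_relIndex hP.1 inf_le_right hcop hn
    refine ⟨y, hy, ?_⟩
    have e := mem_cent1_iff.1 (Subgroup.mul_mem _ hc'.1 hc)
    calc y * c' * c * d * (y * c' * c)⁻¹ = y * (c' * c * d) * (c' * c)⁻¹ * y⁻¹ := by group
      _ = _ := by rw [e]; group
  intro a ha b hb
  have hX : ∀ g : G, ∀ x ∈ {x | ∃ a ∈ conjugatesOf d, ∃ b ∈ conjugatesOf d, x = a * b},
      g * x * g⁻¹ ∈ {x | ∃ a ∈ conjugatesOf d, ∃ b ∈ conjugatesOf d, x = a * b} := by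
    rintro g _ ⟨a, ha, b, hb, rfl⟩
    exact ⟨g * a * g⁻¹, IsConj.trans ha (isConj_iff.2 ⟨g, rfl⟩), g * b * g⁻¹,
      IsConj.trans hb (isConj_iff.2 ⟨g, rfl⟩), by group⟩
  have hn : (Subgroup.closure {x | ∃ a ∈ conjugatesOf d, ∃ b ∈ conjugatesOf d, x = a * b}).Normal :=
    ⟨fun n hn g => by
      have := Subgroup.mem_map_of_mem (MulAut.conj g).toMonoidHom hn
      rw [MonoidHom.map_closure] at this
      exact Subgroup.closure_mono (by rintro _ ⟨x, hx, rfl⟩; exact hX g x hx) this⟩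
  refine Grp.le_pCore hn ((B12.syl_isPGroup hp hP).to_le ((Subgroup.closure_le _).2 ?_))
    (Subgroup.subset_closure ⟨a, ha, b, hb, rfl⟩)
  rintro _ ⟨a, ha, b, hb, rfl⟩
  obtain ⟨y, hy, rfl⟩ := key a ha
  obtain ⟨z, hz, rfl⟩ := key b hb
  have : y * d * y⁻¹ * (z * d * z⁻¹) = y * (d * (y⁻¹ * z) * d⁻¹) * z⁻¹ := by rw [hdi]; group
  rw [this]
  exact P.mul_mem (P.mul_mem hy ((normIn_norm P).conj_mem hdP (P.mul_mem (P.inv_mem hy) hz)))
    (P.inv_mem hz)

end Cfsg.Agent.S5560
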