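import Cfsg.Statements.S5574
import Cfsg.Agent.J4.Trio
import Cfsg.Agent.J4.MModel

set_option autoImplicit false
open Cfsg

namespace Cfsg.Agent.S5574

/-- Let G be a finite non-abelian simple group of Janko-four type (an involution z whose centralizer H has an extraspecial largest normal 2-subgroup E of order 2^13 containing its centralizer in H, a normal subgroup N ≥ E of H with N/E of order 3 and H/N the automorphism group of M₂₂, and a subgroup P ≤ N of order 3 with C_E(P) = ⟨z⟩, N_H(P) ≠ C_H(P) and P ≤ C_H(P)′). Then G has a special 2-subgroup L of order 2^15 with centre of order 8 whose normalizer M satisfies: M/L is isomorphic to the direct product of the symmetric group of degree 5 and L₃(2); L has no complement in M; M nevertheless contains subgroups isomorphic to the symmetric group of degree 5 and to L₃(2); and M contains the normalizer of some Sylow 5-subgroup and of some Sylow 7-subgroup of G. -/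
theorem result {G : Type*} [Group G] [Finite G] [IsSimpleGroup G] (hG : ¬ IsMulCommutative G) (hJ : Cfsg.IsOfJankoFourType G) :
    ∃ L : Subgroup G, Cfsg.IsSpecial 2 ↥L ∧ Nat.card ↥L = 2 ^ 15 ∧ Nat.card ↥(Subgroup.center ↥L) = 8 ∧
    Nonempty (↥(Subgroup.normalizer (L : Set G)) ⧸ L.subgroupOf (Subgroup.normalizer (L : Set G)) ≃* Equiv.Perm (Fin 5) × Matrix.SpecialLinearGroup (Fin 3) (ZMod 2)) ∧
    (∀ K : Subgroup ↥(Subgroup.normalizer (L : Set G)), ¬ (L.subgroupOf (Subgroup.normalizer (L : Set G))).IsComplement' K) ∧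
    (∃ K₁ : Subgroup G, K₁ ≤ Subgroup.normalizer (L : Set G) ∧ Nonempty (↥K₁ ≃* Equiv.Perm (Fin 5))) ∧
    (∃ K₂ : Subgroup G, K₂ ≤ Subgroup.normalizer (L : Set G) ∧ Nonempty (↥K₂ ≃* Matrix.SpecialLinearGroup (Fin 3) (ZMod 2))) ∧
    (∃ Q : Sylow 5 G, Subgroup.normalizer ((Q : Subgroup G) : Set G) ≤ Subgroup.normalizer (L : Set G)) ∧
    (∃ S : Sylow 7 G, Subgroup.normalizer ((S : Subgroup G) : Set G) ≤ Subgroup.normalizer (L : Set G)) := by
  obtain ⟨z, P, hP⟩ := hJ
  obtain ⟨h⟩ := J4.exists_MM hG hP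
  have : Fact (Nat.Prime 5) := ⟨by norm_num⟩
  have : Fact (Nat.Prime 7) := ⟨by norm_num⟩
  obtain ⟨S, c7, hS⟩ := h.exists_seven
  obtain ⟨I, hI, e5⟩ := h.exists_S5 c7
  have := h.exists_φ
  rw [← h.norm_LL] at this hS
  obtain ⟨φ, h1, h2, -, ⟨e⟩⟩ := this
  have c5 : Nat.card (Subgroup.zpowers h.f) = 5 := by rw [Nat.card_zpowers, h.f_ord]
  refine ⟨h.LL, h.special_LL, h.card_LL, by
    rw [h.center_LL, Grp.card_subgroupOf_of_le h.U_le_LL, h.card_U],
    ⟨(QuotientGroup.quotientMulEquivOfEq (SetLike.ext h2).symm).trans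
      (QuotientGroup.quotientKerEquivOfSurjective φ h1)⟩, h.no_compl_LL h.norm_LL,
    ⟨I, hI.2.1.trans ((Subgroup.centralizer_le_normalizer _).trans hS), e5⟩,
    ⟨J4.TR.L0.map h.lam, ?_, ⟨(J4.TR.L0.equivMapOfInjective _ h.lam_injective).symm.trans e⟩⟩,
    ⟨(IsPGroup.of_card (c5.trans (pow_one 5).symm)).toSylow fun e => h.not_dvd_25 ?_,
      fun n hn => ?_⟩,
    (IsPGroup.of_card (c7.trans (pow_one 7).symm)).toSylow fun e => h.not_dvd_49 ?_, hS⟩
  · rintro _ ⟨g, hg, rfl⟩
    exact h.norm_LL.ge (h.lam_L0 hg).1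
  · rw [← (Subgroup.zpowers h.f).card_mul_index, c5]
    exact mul_dvd_mul_left 5 e
  · refine h.norm_LL.ge (h.mem_NU_of (Subgroup.zpowers_le.2 h.f_mem_CU ?_))
    exact (Subgroup.mem_normalizer_iff''.1 hn _).1 (Subgroup.mem_zpowers _)
  · rw [← S.card_mul_index, c7]
    exact mul_dvd_mul_left 7 e

end Cfsg.Agent.S5574
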