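import Cfsg.Statements.S5575
import Cfsg.Agent.J4.Loc11
import Cfsg.Agent.J4.MModel
import Cfsg.Agent.Fus.EssSmall
import Cfsg.Agent.Inv.GL23Rec

set_option autoImplicit false
open Cfsg

namespace Cfsg.Agent.S5575

open Subgroup J4 Cfsg.Agent.Comp Spor Spor.M24C

variable {G : Type*} [Group G] [Finite G] {z : G} {P : Subgroup G}

omit [Finite G] in
theorem fix (h : HM z P) {k q : G} {A c v : ℕ} (r : h.R k A c) (hq : q ∈ h.E) (hv : v < 4096)
    (e : h.s v * (k * q) = k * q * h.s v) : app A v = v := by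
  obtain ⟨b, -, e1⟩ := h.conj_E hq hv
  have e2 := r.act' hv b
  rw [← e1, show k * (q * h.s v * q⁻¹) * k⁻¹ = k * q * h.s v * (k * q)⁻¹ by group, ← e,
    mul_inv_cancel_right, mul_assoc, ← pow_add, ← pow_mod_orderOf, h.z_ord, ← mul_one (h.s v),
    ← pow_zero z, h.s_eq_iff hv (app_lt _ _) (by norm_num) (Nat.mod_lt _ (by norm_num))] at e2
  exact e2.1.symm

theorem exists_GL (h : HM z P) (hs : ∀ k ∈ h.K, k * k ≠ z) : ∃ K ≤ normalizer ((zpowers h.x : Subgroup G) : Set G),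
    Nonempty (K ≃* GL (Fin 2) (ZMod 3)) := by
  have r : h.R ((h.f * h.σ) ^ 5) mS pS := ((HM.R.mul h.rep_f h.rep_σ).pow 5).of_eq
    (by decide +kernel) (by decide +kernel)
  have h1 : (h.f * h.σ) ^ 5 ∈ normalizer ((zpowers h.x : Subgroup G) : Set G) := pow_mem
    ((Small.mem_normalizer_zpowers_iff _ _).2 (h.conj_x ▸ npow_mem_zpowers _ _)) 5
  generalize (h.f * h.σ) ^ 5 = t at r h1
  have h2 : t * t = 1 := (((r.mul r).of_eq (by decide +kernel) rfl).eq_one_or).resolve_right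
    (hs _ r.memK)
  have h3 : t ∉ centralizer (P : Set G) := fun e => absurd (r.cent_iff.1 e) (by decide +kernel)
  have h4 : t * h.d * t⁻¹ = h.d⁻¹ := by
    rw [(h.conj_d r.memN).resolve_left fun e => h3 fun p hp => ?_, eq_inv_iff_mul_eq_one, ← sq,
      ← pow_succ, ← pow_mod_orderOf, h.d_ord, pow_zero]
    obtain ⟨i, rfl⟩ := h.P_eq.le hp
    exact (Commute.zpow_left (mul_inv_eq_iff_eq_mul.1 e).symm i).eq
  have h5 : ∀ a ∈ zpowers t, a = 1 ∨ a = t := fun a ha => by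
    classical
    have := Fact.mk Nat.prime_two
    obtain ⟨e, he, rfl⟩ := Finset.mem_image.1 (mem_zpowers_iff_mem_range_orderOf.1 ha)
    rw [orderOf_eq_prime (p := 2) (by rw [sq, h2]) (by rintro rfl; exact h3 (one_mem _)),
      Finset.mem_range] at he
    interval_cases e <;> simp
  have h6 : P ≤ normalizer (h.Q8 : Set G) := (le_inf h.P_le_H h.P_le_cx).trans h.norm_Q8'
  have h7 : zpowers t ≤ normalizer ((P ⊔ h.Q8 : Subgroup G) : Set G) := zpowers_le.2
    (normalizer_inf_normalizer_le_normalizer_sup _ _ ⟨r.memN, h.norm_Q8 ⟨r.memH, h1⟩⟩)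
  have h8 : t ∉ P ⊔ h.Q8 := fun e => absurd (r.mc_eq.trans ((h.ρ_eq_one _ r.memH).2
    ((sup_le le_sup_right (inf_le_left.trans le_sup_left) : P ⊔ h.Q8 ≤ _) e)) ▸ L11.ordS) (by simp)
  have h9 := Grp.card_sup_mul_card_inf_of_le_normalizer h7
  rw [show zpowers t ⊓ (P ⊔ h.Q8) = ⊥ from eq_bot_iff.2 fun a ha =>
    (h5 a ha.1).resolve_right fun e => h8 (e ▸ ha.2), card_bot, h.card_PQ, Nat.card_zpowers,
    orderOf_eq_prime (p := 2) (by rw [sq, h2]) (by rintro rfl; exact h3 (one_mem _))] at h9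
  have hQ : h.Q8 ≤ zpowers t ⊔ (P ⊔ h.Q8) := le_sup_of_le_right le_sup_right
  have := normal_subgroupOf_of_le_normalizer (H := zpowers t ⊔ (P ⊔ h.Q8)) (N := h.Q8)
    (sup_le (zpowers_le.2 (h.norm_Q8 ⟨r.memH, h1⟩)) (sup_le h6 le_normalizer))
  have s1 := h.s_mem_Q8 (v := 1024) (by simp)
  have s2 := h.s_mem_Q8 (v := 2048) (by simp)
  have sq : ∀ v (hv : h.s v ∈ h.Q8), v < 4096 → qf v = 1 → (⟨_, hv⟩ : h.Q8) ^ 2 ≠ 1 :=
    fun v _ h1 h2 e => h.z_ne (by
      simpa [_root_.sq, h.s_sq h1, h2] using congrArg Subtype.val e)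
  obtain ⟨e⟩ := Fus.AC.nonempty_equiv_Q8 h.card_Q8 (sq _ s1 (by norm_num) (by decide +kernel))
    (sq _ s2 (by norm_num) (by decide +kernel)) fun e => absurd ((h.s_comm_iff (by norm_num)
      (by norm_num)).1 (congrArg Subtype.val (commutatorElement_eq_one_iff_mul_comm.1 e)))
      (by decide +kernel)
  refine ⟨zpowers t ⊔ (P ⊔ h.Q8), sup_le (zpowers_le.2 h1)
    ((sup_le h.P_le_cx inf_le_right).trans (L11.cent_le_norm _)),
    Inv.GL23.nonempty_equiv (by omega) _ ((subgroupOfEquivOfLe hQ).trans e) (fun c hc => ?_)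
      (t := ⟨t, mem_sup_left (mem_zpowers t)⟩)
      (g := ⟨h.d, mem_sup_right (mem_sup_left h.d_mem_P)⟩) (Subtype.ext h2)
      (fun e => h8 (mem_sup_right e)) ((orderOf_mk _ _).trans h.d_ord) (Subtype.ext h4)⟩
  obtain ⟨c, hc'⟩ := c
  obtain ⟨a, ha, _, hb, rfl⟩ := (coe_mul_of_left_le_normalizer_right _ _ h7).le hc'
  obtain ⟨p, hp, q, hq, rfl⟩ := (coe_mul_of_left_le_normalizer_right _ _ h6).le hb
  have key : ∀ {A c}, h.R (a * p) A c → app A 1024 = 1024 ∧ app A 2048 = 2048 := fun r' =>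
    ⟨fix h r' hq.1 (by norm_num) (by simpa [mul_assoc] using congrArg Subtype.val (hc ⟨_, hQ s1⟩ s1)),
      fix h r' hq.1 (by norm_num) (by
        simpa [mul_assoc] using congrArg Subtype.val (hc ⟨_, hQ s2⟩ s2))⟩
  rcases h5 a ha with rfl | rfl <;> rcases h.mem_P.1 hp with rfl | rfl | rfl
  · simpa [mem_subgroupOf] using hq
  · exact absurd (key (h.R_one.mul h.rep_d)) (by decide +kernel)
  · exact absurd (key (h.R_one.mul h.R_d2)) (by decide +kernel)
  · exact absurd (key (r.mul h.R_one)) (by decide +kernel)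
  · exact absurd (key (r.mul h.rep_d)) (by decide +kernel)
  · exact absurd (key (r.mul h.R_d2)) (by decide +kernel)

/-- Let G be a finite non-abelian simple group of Janko-four type (an involution z whose centralizer H has an extraspecial largest normal 2-subgroup E of order 2^13 containing its centralizer in H, a normal subgroup N ≥ E of H with N/E of order 3 and H/N the automorphism group of M₂₂, and a subgroup P ≤ N of order 3 with C_E(P) = ⟨z⟩, N_H(P) ≠ C_H(P) and P ≤ C_H(P)′). Then a Sylow 11-subgroup of G is extraspecial of order 11^3 and exponent 11, and its normalizer has order 2^4·3·5·11^3 and contains a subgroup isomorphic to GL₂(3). -/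
theorem result {G : Type*} [Group G] [Finite G] [IsSimpleGroup G] (hG : ¬ IsMulCommutative G) (hJ : Cfsg.IsOfJankoFourType G) (U : Sylow 11 G) :
    Cfsg.IsExtraspecial 11 ↥(U : Subgroup G) ∧ Nat.card ↥(U : Subgroup G) = 11 ^ 3 ∧ Monoid.exponent ↥(U : Subgroup G) = 11 ∧
    Nat.card ↥(Subgroup.normalizer ((U : Subgroup G) : Set G)) = 2 ^ 4 * 3 * 5 * 11 ^ 3 ∧
    ∃ K : Subgroup G, K ≤ Subgroup.normalizer ((U : Subgroup G) : Set G) ∧ Nonempty (↥K ≃* GL (Fin 2) (ZMod 3)) := by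
  obtain ⟨z, P, hJ⟩ := hJ
  obtain ⟨h⟩ := J4.exists_MM hG hJ
  obtain ⟨W, h1, h2, h3, h4⟩ := h.U_spec
  obtain ⟨K, h5, ⟨e⟩⟩ := exists_GL h.toHM fun _ => h.not_sq
  have := Fact.mk (show Nat.Prime 11 by norm_num)
  have h6 : Nat.card (U : Subgroup G) = 11 ^ 3 := by
    rw [U.card_eq_multiplicity, h.card_G]; decide +kernel
  obtain ⟨c, -, h7⟩ := LA.exists_conj_le_of_card (p := 11) (L := ⊤) (Q := W) le_top le_top h6
    (by rw [card_top, h.card_G]; norm_num) (IsPGroup.of_card h1)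
  have h8 : W.map (MulAut.conj c).toMonoidHom = U := eq_of_le_of_card_ge
    (by rintro _ ⟨w, hw, rfl⟩; exact h7 w hw) (by rw [Grp.card_map_conj, h1, h6])
  have h9 : ∀ u ∈ (U : Subgroup G), u ≠ 1 → orderOf u = 11 := fun u hu h0 => by
    obtain ⟨w, hw, rfl⟩ := h8.ge hu
    refine (Inv.Count.orderOf_conj _ _).trans ?_
    by_cases e : w ∈ zpowers h.x
    · exact ((Nat.dvd_prime (by norm_num)).1 (h.x_ord ▸ orderOf_dvd_of_mem_zpowers e)).resolve_left
        fun e1 => h0 (by rw [orderOf_eq_one_iff.1 e1, map_one])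
    · obtain ⟨k, rfl⟩ := isConj_iff.1 (h4 w hw e)
      exact (Inv.Count.orderOf_conj _ _).trans h.x'_ord
  have : Nontrivial (U : Subgroup G) := Finite.one_lt_card_iff_nontrivial.1 (by omega)
  refine ⟨Fus.AC.isExtraspecial_of_cube h6 ?_, h6, (Monoid.exponent_eq_prime_iff (by norm_num)).2
    fun g hg => (orderOf_mk g.1 g.2).trans (h9 _ g.2 fun e => hg (Subtype.ext e)), ?_,
    K.map (MulAut.conj c).toMonoidHom, ?_,
    ⟨(K.equivMapOfInjective _ (MulAut.conj c).injective).symm.trans e⟩⟩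
  · by_contra! hc
    obtain ⟨k, hk⟩ := h3 _ h.x'_ord
    have := card_dvd_of_le (H := U) (K := centralizer {c * (k * h.x' * k⁻¹) * c⁻¹}) fun u hu =>
      mem_centralizer_singleton_iff.2 (congrArg Subtype.val
        (commutatorElement_eq_one_iff_mul_comm.1 (hc ⟨u, hu⟩ ⟨_, h7 _ hk⟩)))
    rw [← Inv.Count.card_centralizer_of_isConj ((isConj_iff.2 ⟨k, rfl⟩).trans
      (isConj_iff.2 ⟨c, rfl⟩)), h.card_cent_x', h6] at this
    norm_num at this
  · rw [← h8, ← map_equiv_normalizer_eq, Grp.card_map_conj, h2, h.card_norm_x]; norm_num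
  · rw [← h8, ← map_equiv_normalizer_eq, h2]; exact map_mono h5

end Cfsg.Agent.S5575
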