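import Cfsg.Statements.S5578
import Cfsg.Agent.J4.LocBig
import Cfsg.Agent.J4.MModel

set_option autoImplicit false
open Cfsg

namespace Cfsg.Agent.S5578

open Subgroup J4 J4.L11 Cfsg.Agent.Comp Spor Spor.M24C

theorem mem_norm {K : Type*} [Group K] [Finite K] {g : K} {s : Set K}
    (h : ∀ a ∈ s, g * a * g⁻¹ ∈ closure s) : g ∈ normalizer (closure s : Set K) :=
  mem_normalizer_fintype fun _ ha => (closure_le ((closure s).comap (MulAut.conj g).toMonoidHom)).2
    h ha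

theorem mob_conj {T X S N : Equiv.Perm GolayPt} (h : Mob T X S N) :
    N * T * N⁻¹ = T⁻¹ ∧ N * X * N⁻¹ = X ∧ N * S * N⁻¹ = S := by
  rw [mul_inv_eq_iff_eq_mul, mul_inv_eq_iff_eq_mul, mul_inv_eq_iff_eq_mul, eq_inv_mul_iff_mul_eq]
  refine ⟨?_, ?_, ?_⟩ <;> ext1 p <;> cases p <;>
    simp [h.T_none, h.X_none, h.N_none, h.S_none, h.T_some, h.X_some, h.N_some, h.S_some]
  split_ifs <;> simp [h.N_none, h.N_some, Odd.neg_pow (show Odd 21 by decide)]

variable {G : Type*} [Group G] [Finite G] {z : G} {P : Subgroup G} (h : MM z P)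
include h

theorem exists_inv : ∃ s ∈ centralizer {h.x'}, orderOf s = 2 ∧
    s * h.lam (mc pT) * s⁻¹ = (h.lam (mc pT))⁻¹ := by
  have hy := (h.ord_lam _).trans ordT
  have hx : h.x' * h.lam (mc pT) * h.x'⁻¹ = h.lam (mc pT) ^ 2 := by
    rw [← map_inv, ← map_mul, ← map_mul, conjXT, map_pow]
  generalize h.lam (mc pT) = y at hy hx
  have h1 := h.big_cent (e := 22) (by simp) hy
  have h2 := Grp.FourOdd.ncard_conj (normalizer ((zpowers y : Subgroup G) : Set G)) h.x'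
  have h3 := Set.ncard_le_ncard (s := {t | ∃ k ∈ normalizer ((zpowers y : Subgroup G) : Set G),
      k * h.x' * k⁻¹ = t}) (t := (h.x' * ·) '' (zpowers y : Set G)) (by
    rintro _ ⟨k, hk, rfl⟩
    refine ⟨h.x'⁻¹ * (k * h.x' * k⁻¹), h1.le (mem_centralizer_singleton_iff.2 ?_), by simp⟩
    obtain ⟨i, hi⟩ := (mem_normalizer_iff.1 (inv_mem hk) y).1 (mem_zpowers y)
    have e : h.x' * (k⁻¹ * y * k) * h.x'⁻¹ = k⁻¹ * (h.x' * y * h.x'⁻¹) * k := by
      simp only [inv_inv] at hi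
      rw [hx, ← hi, ← conj_zpow, hx, ← zpow_natCast, ← zpow_mul, mul_comm, zpow_mul, hi,
        zpow_natCast, zpow_natCast, sq, sq]; group
    calc _ = h.x'⁻¹ * k * (h.x' * (k⁻¹ * y * k) * h.x'⁻¹) * h.x' * k⁻¹ := by group
      _ = _ := by rw [e]; group)
  rw [Set.ncard_image_of_injective _ (mul_right_injective _),
    ← Nat.card_coe_set_eq (zpowers y : Set G), SetLike.coe_sort_coe, Nat.card_zpowers, hy] at h3
  rw [(h.big_spec (e := 22) (by simp) hy).2] at h2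
  have h4 := h.card_cent_x' ▸ card_dvd_of_le (inf_le_right :
    normalizer ((zpowers y : Subgroup G) : Set G) ⊓ centralizer {h.x'} ≤ _)
  obtain ⟨⟨s, hs⟩, e⟩ := exists_prime_orderOf_dvd_card' (G := ↥(normalizer
      ((zpowers y : Subgroup G) : Set G) ⊓ centralizer {h.x'})) 2 (by
    have h5 := Nat.dvd_gcd h4 (Dvd.intro_left _ h2)
    have h6 := (Nat.le_of_dvd (by norm_num) h5).trans (show _ ≤ 22 by norm_num)
    have h7 := Nat.mul_le_mul h3 (le_refl (Nat.card ↥(normalizer ((zpowers y : Subgroup G) : Set G) ⊓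
      centralizer {h.x'})))
    omega)
  rw [orderOf_mk] at e
  refine ⟨s, hs.2, e, ?_⟩
  have h5 := (mem_normalizer_iff.1 hs.1 y).1 (mem_zpowers y)
  by_contra h6
  have h7 : orderOf (y * (s * y * s⁻¹)) = 23 := ((Nat.dvd_prime (by norm_num)).1
    (hy ▸ orderOf_dvd_of_mem_zpowers (mul_mem (mem_zpowers y) h5))).resolve_left fun e =>
      h6 (eq_inv_of_mul_eq_one_right (orderOf_eq_one_iff.1 e))
  have h8 := orderOf_dvd_natCard (centralizer {y * (s * y * s⁻¹)}) (x := s)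
    (mem_centralizer_singleton_iff.2 (mul_inv_eq_iff_eq_mul.1 (by
      rw [← conj_mul, show s * (s * y * s⁻¹) * s⁻¹ = s * s * y * (s * s)⁻¹ by group,
        Inv.Count.mul_self_of_orderOf e, inv_one, mul_one, one_mul,
        mem_centralizer_singleton_iff.1 (h1.ge h5)])))
  rw [(h.big_spec (e := 22) (by simp) h7).1, e] at h8
  norm_num at h8

theorem exists_a {s : G} (hs : s ∈ centralizer {h.x'}) (h2 : orderOf s = 2) (hM : s ∉ h.M) :
    h.D s ⊓ h.V = ⊥ ∧ (∀ g ∈ h.D s, s * g * s⁻¹ ∈ h.D s) ∧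
      ∃ a : h.M, (a : G) ∈ h.D s ∧ h.π a = mc pS ∧ a * h.x' * (a : G)⁻¹ ∈ zpowers h.x' := by
  have e := inv_eq_of_mul_eq_one_right (Inv.Count.mul_self_of_orderOf h2)
  have c1 := mem_centralizer_singleton_iff.1 hs
  have hD : ∀ g ∈ h.D s, s * g * s⁻¹ ∈ h.D s := fun g hg => h.mem_D.2
    ⟨by have := (h.mem_D.1 hg).2; rwa [e] at this ⊢, by simpa [mul_assoc] using (h.mem_D.1 hg).1⟩
  have hx : h.x' ∈ h.D s := h.mem_D.2 ⟨h.lam_mem_M _, by
    rw [mul_assoc, ← c1, inv_mul_cancel_left]; exact h.lam_mem_M _⟩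
  have ht : h.t ∉ h.D s := fun ht => hM (h.cent_t_le (mem_centralizer_singleton_iff.2
    (mul_inv_eq_iff_eq_mul.1 (h.eq_t (h.mem_D.1 (hD _ ht)).1
      (mul_mem (mul_mem hs h.t_mem_cx) (inv_mem hs))
      ((Inv.Count.orderOf_conj _ _).trans h.t_ord)))))
  have b1 : h.t ∈ h.B0 := mem_sup_right (mem_zpowers _)
  have b2 : ∀ j : ℕ, h.γ ^ j ∈ h.B0 := fun j => mem_sup_left (npow_mem_zpowers _ _)
  have b3 : h.π ⟨h.γ ^ 5, h.B0_le_M (b2 5)⟩ = mc pS :=
    (map_pow h.π ⟨_, h.lam_mem_M _⟩ 5).trans (by rw [h.π_lam, G_five])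
  refine ⟨h.D_inf_V hM hx ht, hD, ?_⟩
  rcases h.D_cases hM hx ht with hf | ha | ha
  · exfalso
    have o5 : orderOf (h.γ ^ 2) = 5 := by rw [← map_pow, h.ord_lam, ordG2]
    have c2 := (h.γ_t.pow_left 2).eq
    obtain ⟨i, hi⟩ := (mem_normalizer_iff.1 (h.B0_norm (b2 2)) _).1 (mem_zpowers _)
    generalize h.γ ^ 2 = f at hf o5 c2 hi
    have c3 : s * f * s⁻¹ * h.x' * (s * f * s⁻¹)⁻¹ = f * h.x' * f⁻¹ := by
      have : s⁻¹ * h.x' * s = h.x' := by rw [mul_assoc, ← c1, inv_mul_cancel_left]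
      calc _ = s * (f * (s⁻¹ * h.x' * s) * f⁻¹) * s⁻¹ := by group
        _ = _ := by rw [this, ← hi, ← conj_zpow, c1, mul_inv_cancel_right]
    have d1 : f⁻¹ * (s * f * s⁻¹) ∈ h.D s := mul_mem (inv_mem hf) (hD _ hf)
    obtain ⟨k, hk, w, hw, d2⟩ := h.M_cent (h.mem_D.1 d1).1 (mem_centralizer_singleton_iff.2 (by
      calc _ = f⁻¹ * (s * f * s⁻¹ * h.x' * (s * f * s⁻¹)⁻¹) * (s * f * s⁻¹) := by group
        _ = _ := by rw [c3]; group))
    obtain rfl : k = 0 := by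
      by_contra h0
      obtain rfl : k = 1 := by omega
      rw [d2] at d1
      exact ht (by simpa using (h.D s).mul_mem d1 (inv_mem (zpowers_le.2 hx hw)))
    rw [pow_zero, one_mul, inv_mul_eq_iff_eq_mul] at d2
    have d3 : s * w * s⁻¹ = w := by
      obtain ⟨j, rfl⟩ := hw
      rw [← conj_zpow, c1, mul_inv_cancel_right]
    have d4 : w ^ 2 = 1 := by
      have : s * (s * f * s⁻¹) * s⁻¹ = f := by
        rw [e, ← mul_assoc, ← mul_assoc, mul_assoc _ s s, Inv.Count.mul_self_of_orderOf h2]; simp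
      rwa [d2, ← conj_mul, d2, d3, mul_assoc, mul_eq_left, ← sq] at this
    have d5 : w = 1 := orderOf_eq_one_iff.1 (Nat.eq_one_of_dvd_coprimes (by norm_num)
      (orderOf_dvd_of_pow_eq_one d4) (h.x'_ord ▸ orderOf_dvd_of_mem_zpowers hw))
    rw [d5, mul_one, mul_inv_eq_iff_eq_mul] at d2
    have d6 := eq_of_le_of_card_ge (H := zpowers h.t) (K := centralizer {h.x'} ⊓ centralizer {f})
      (zpowers_le.2 ⟨h.t_mem_cx, mem_centralizer_singleton_iff.2 c2.symm⟩) (by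
        rw [Nat.card_zpowers, h.t_ord]
        exact Nat.le_of_dvd (by norm_num) (Nat.dvd_gcd (h.card_cent_x' ▸ card_dvd_of_le inf_le_left)
          (h.card_cent_five o5 ▸ card_dvd_of_le inf_le_right)))
    exact hM (zpowers_le.2 (h.B0_le_M b1) (d6.ge ⟨hs, mem_centralizer_singleton_iff.2 d2⟩))
  · exact ⟨⟨_, h.B0_le_M (b2 5)⟩, ha, b3, (mem_normalizer_iff.1 (h.B0_norm (b2 5)) _).1
      (mem_zpowers _)⟩
  · exact ⟨⟨_, h.B0_le_M (b2 5)⟩ * ⟨_, h.B0_le_M b1⟩, ha, by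
      rw [map_mul, b3, (h.π_eq_one _).2 h.t_mem_V, mul_one],
      (mem_normalizer_iff.1 (h.B0_norm (mul_mem (b2 5) b1)) _).1 (mem_zpowers _)⟩

omit h

/-- Let G be a finite non-abelian simple group of Janko-four type (an involution z whose centralizer H has an extraspecial largest normal 2-subgroup E of order 2^13 containing its centralizer in H, a normal subgroup N ≥ E of H with N/E of order 3 and H/N the automorphism group of M₂₂, and a subgroup P ≤ N of order 3 with C_E(P) = ⟨z⟩, N_H(P) ≠ C_H(P) and P ≤ C_H(P)′). Then G has a subgroup isomorphic to PGL₂(23) (the general linear group of degree 2 over the integers modulo 23, modulo its centre). -/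
theorem result {G : Type*} [Group G] [Finite G] [IsSimpleGroup G] (hG : ¬ IsMulCommutative G) (hJ : Cfsg.IsOfJankoFourType G) :
    ∃ K : Subgroup G, Nonempty (↥K ≃* GL (Fin 2) (ZMod 23) ⧸ Subgroup.center (GL (Fin 2) (ZMod 23))) := by
  obtain ⟨z, P, hJ⟩ := hJ
  obtain ⟨h⟩ := J4.exists_MM hG hJ
  obtain ⟨s, hs, h2, hy⟩ := exists_inv h
  have c1 := mul_inv_eq_iff_eq_mul.2 (mem_centralizer_singleton_iff.1 hs)
  have hM : s ∉ h.M := fun e => by
    rw [h.eq_t e hs h2] at hy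
    have h1 := h.lam_mem_V (g := (mc pT ^ 2)⁻¹) (by
      have := mul_mem h.t_mem_V (h.toHM.mem_M.1 (h.lam_mem_M (mc pT)) _ (inv_mem h.t_mem_V))
      rwa [← mul_assoc, ← mul_assoc, hy, ← mul_inv_rev, ← sq, ← map_pow, ← map_inv] at this)
    exact absurd (ordT ▸ orderOf_dvd_of_pow_eq_one (inv_eq_one.1 h1)) (by norm_num)
  obtain ⟨h3, h4, a, ha, h5, h6⟩ := exists_a h hs h2 hM
  have hD : ∀ g, s * h.lam g * s⁻¹ ∈ h.M → h.lam g ∈ h.D s := fun g e => h.mem_D.2
    ⟨h.lam_mem_M _, by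
      rwa [inv_eq_of_mul_eq_one_right (Inv.Count.mul_self_of_orderOf h2)] at e ⊢⟩
  have hX := hD (mc pX) (by rw [c1]; exact h.lam_mem_M _)
  have hT := hD (mc pT) (by rw [hy]; exact inv_mem (h.lam_mem_M _))
  have h7 : s * a * s⁻¹ = a := by
    have m := (h.mem_D.1 (h4 _ ha)).1
    refine h.eq_of_π h3 (a := ⟨_, m⟩) (h4 _ ha) ha ((eq_S ?_ ?_).trans h5.symm)
    · obtain ⟨i, hi⟩ := h6
      refine ⟨i, ?_⟩
      have : (⟨_, h.lam_mem_M (mc pX)⟩ : h.M) ^ i = ⟨_, m⟩ * ⟨_, h.lam_mem_M (mc pX)⟩ * ⟨_, m⟩⁻¹ :=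
        Subtype.ext (by
          change h.x' ^ i = s * a * s⁻¹ * h.x' * (s * a * s⁻¹)⁻¹
          rw [← c1, conj_zpow, show h.x' ^ i = _ from hi]
          group)
      have := congrArg h.π this
      rwa [map_zpow, map_mul, map_mul, map_inv, h.π_lam] at this
    · have e := h.eq_of_π h3 (a := (a * ⟨_, h.lam_mem_M (mc pT)⟩) ^ 3) (b := 1)
        (pow_mem (mul_mem ha hT) 3) (one_mem _) (by
          rw [map_pow, map_mul, h5, h.π_lam, ST_cube, map_one])
      have : ((⟨_, m⟩ : h.M) * ⟨_, h.lam_mem_M (mc pT)⟩⁻¹) ^ 3 = 1 := Subtype.ext (by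
        simp only [coe_mul, coe_inv, coe_pow, coe_one] at e ⊢
        rw [← hy, conj_mul, conj_pow, e, mul_one, mul_inv_cancel])
      have := congrArg h.π this
      rwa [map_pow, map_mul, map_inv, h.π_lam, map_one] at this
  obtain ⟨m1, m2, m3⟩ := mob_conj mob
  have m4 := @Mob.cent _ _ _ _ mob
  have m5 := @Mob.equiv_PGL _ _ _ _ mob
  rw [← coe_mc okT, ← coe_mc okM_pX, ← coe_mc okM_pS] at *
  generalize M24C.pc pN = N at *
  let φ : h.D s →* G × Equiv.Perm GolayPt := (h.D s).subtype.prod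
    (M24.subtype.comp (h.π.comp (inclusion inf_le_left)))
  have h8 : closure {(h.lam (mc pT), (mc pT : Equiv.Perm GolayPt)), (h.x', (mc pX).1),
      ((a : G), (mc pS).1)} ≤ φ.range := (closure_le _).2 (by
    rintro _ (rfl | rfl | rfl)
    · exact ⟨⟨_, hT⟩, Prod.ext rfl (congrArg Subtype.val (h.π_lam _))⟩
    · exact ⟨⟨_, hX⟩, Prod.ext rfl (congrArg Subtype.val (h.π_lam _))⟩
    · exact ⟨⟨_, ha⟩, Prod.ext rfl (congrArg Subtype.val h5)⟩)
  obtain ⟨e⟩ := ext_equiv (t := s) (n := N) (mem_norm (s := {(h.lam (mc pT),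
    (mc pT : Equiv.Perm GolayPt)), (h.x', (mc pX).1), ((a : G), (mc pS).1)}) (by
      rintro _ (rfl | rfl | rfl)
      all_goals rw [Prod.inv_mk, Prod.mk_mul_mk, Prod.mk_mul_mk]
      · rw [hy, m1, ← Prod.inv_mk]; exact inv_mem (subset_closure (by simp))
      · rw [c1, m2]; exact subset_closure (by simp)
      · rw [h7, m3]; exact subset_closure (by simp)))
    (fun b hb => by
      obtain ⟨g, e⟩ := h8 hb
      obtain rfl : g = 1 := Subtype.ext (congrArg Prod.fst e)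
      exact (congrArg Prod.snd (e.symm.trans (map_one φ))))
    (fun b hb => by
      obtain ⟨g, e⟩ := h8 hb
      exact (congrArg Prod.fst e).symm.trans (h.eq_of_π h3 (a := inclusion inf_le_left g) (b := 1)
        g.2 (one_mem _) ((Subtype.ext (congrArg Prod.snd e)).trans (map_one _).symm)))
    (eq_bot_iff.2 fun c hc => (disjoint_of_coprime_natCard (H := centralizer {h.x'})
      (K := centralizer {h.lam (mc pT)}) (by
        rw [h.card_cent_x', (h.big_spec (e := 22) (by simp) ((h.ord_lam _).trans ordT)).1]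
        norm_num)).le_bot
      ⟨mem_centralizer_singleton_iff.2 (hc _ ⟨(_, (mc pX).1), subset_closure (by simp), rfl⟩).symm,
        mem_centralizer_singleton_iff.2
          (hc _ ⟨(_, (mc pT).1), subset_closure (by simp), rfl⟩).symm⟩)
    (eq_bot_iff.2 fun c hc => m4 (hc _ ⟨(h.lam (mc pT), _), subset_closure (by simp), rfl⟩)
      (hc _ ⟨(h.x', _), subset_closure (by simp), rfl⟩))
  obtain ⟨e'⟩ := m5 (R := _ ⊔ zpowers N) rfl
  exact ⟨_, ⟨e.trans ((MulEquiv.subgroupCongr (by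
    rw [MonoidHom.map_closure]; simp only [Set.image_insert_eq, Set.image_singleton]; rfl)).trans e')⟩⟩

end Cfsg.Agent.S5578
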