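import Cfsg.Statements.S5579
import Cfsg.Agent.J4.ClsZ
import Cfsg.Agent.J4.ClsT
import Cfsg.Agent.J4.LocBig
import Cfsg.Agent.S5575
import Cfsg.Agent.S5576

set_option autoImplicit false
open Cfsg

namespace Cfsg.Agent.S5579

open Cfsg.Agent.J4 Cfsg.Agent.Grp.Cls Subgroup

section

variable {G : Type*} [Group G] [Finite G]

omit [Finite G] in
theorem ord_conj {a b : G} (h : IsConj a b) : orderOf a = orderOf b := by
  obtain ⟨c, rfl⟩ := isConj_iff.1 h
  exact (orderOf_injective (MulAut.conj c).toMonoidHom (MulAut.conj c).injective a).symm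

theorem exists_mem {g : G} {p : ℕ} (hp : p ∣ orderOf g) : ∃ i ∈ zpowers g, orderOf i = p :=
  ⟨_, npow_mem_zpowers g _, orderOf_pow_orderOf_div (orderOf_pos g).ne' hp⟩

theorem ord_dvd {g : G} {p c : ℕ}
    (hc : ∀ a : G, orderOf a = p → Nat.card (centralizer ({a} : Set G)) = c)
    (hp : p ∣ orderOf g) : orderOf g ∣ c := by
  obtain ⟨i, hi, e⟩ := exists_mem hp
  rw [← hc i e]
  exact Subgroup.orderOf_dvd_natCard _ (mem_cent_of_mem_zpowers hi)

theorem cls_prime' {p m c n : ℕ} (hp : p.Prime) (hG : Nat.card G = p * m) (hm : ¬ p ∣ m)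
    (hc : ∀ a : G, orderOf a = p → Nat.card (centralizer ({a} : Set G)) = c ∧
      Nat.card (normalizer ((zpowers a : Subgroup G) : Set G)) = n) :
    cls {g : G | orderOf g = p} * n = (p - 1) * c := by
  have := Fact.mk hp
  obtain ⟨a, ha⟩ := exists_prime_orderOf_dvd_card' (G := G) p ⟨m, hG⟩
  obtain ⟨U, hU⟩ := Small.exists_sylow_eq_zpowers hG hm ha
  rw [← (hc a ha).2, ← hU]
  exact cls_prime U (by rw [hU, Nat.card_zpowers, ha]) fun a ha => (hc a ha).1

theorem conj_five {a b : Equiv.Perm (Fin 5)} (ha : orderOf a = 5) (hb : orderOf b = 5) :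
    IsConj a b := by
  have h1 := Equiv.Perm.isCycle_of_prime_order'' (σ := a) (by simp [Nat.prime_five])
    (by simpa using ha)
  have h2 := Equiv.Perm.isCycle_of_prime_order'' (σ := b) (by simp [Nat.prime_five])
    (by simpa using hb)
  exact h1.isConj h2 (by rw [← h1.orderOf, ← h2.orderOf, ha, hb])

variable {z : G} {P : Subgroup G} (h : MM z P)
include h

theorem conj_in_seven {y u v : G} (hy : orderOf y = 7) (hu : orderOf u = 5) (hv : orderOf v = 5)
    (h1 : u ∈ centralizer ({y} : Set G)) (h2 : v ∈ centralizer ({y} : Set G)) :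
    ∃ c ∈ centralizer ({y} : Set G), c * u * c⁻¹ = v := by
  obtain ⟨I, hI, ⟨e⟩⟩ := h.exists_S5 (S := zpowers y) (by rw [Nat.card_zpowers, hy])
  rw [Small.centralizer_zpowers] at hI
  have key : ∀ w : G, orderOf w = 5 → w ∈ centralizer ({y} : Set G) → w ∈ I := fun w o hw => by
    obtain ⟨s, hs, i, hi, rfl⟩ := LA.direct_decomp hI hw
    have h3 : s ^ 7 = 1 := orderOf_dvd_iff_pow_eq_one.1 (hy ▸ orderOf_dvd_of_mem_zpowers hs)
    have h4 : (s * i) ^ 21 = s * i := by
      rw [pow_eq_pow_mod 21 (pow_orderOf_eq_one _), o]; simp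
    rw [← h4, Commute.mul_pow (hI.2.2.1 s hs i hi), pow_eq_pow_mod 21 h3]
    simpa using pow_mem hi 21
  have o : ∀ w : I, orderOf (e w) = orderOf (w : G) := fun w => by
    rw [MulEquiv.orderOf_eq, Subgroup.orderOf_coe]
  obtain ⟨c, hc⟩ := isConj_iff.1 (conj_five ((o ⟨u, key u hu h1⟩).trans hu)
    ((o ⟨v, key v hv h2⟩).trans hv))
  refine ⟨e.symm c, hI.2.1 (e.symm c).2, ?_⟩
  have := congrArg (fun x => (e.symm x : G)) hc
  simpa using this

theorem cls_seven : cls {g : G | orderOf g = 7} = 2 := by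
  have := cls_prime' (G := G) (p := 7) (m := 12396510149439651840) (by norm_num)
    (by rw [h.card_G]) (by norm_num) fun a ha =>
    ⟨h.card_cent_seven ha, h.card_norm_seven (by rw [Nat.card_zpowers, ha])⟩
  omega

theorem cls_35 : cls {g : G | orderOf g = 35} = 2 := by
  have o5 : ∀ g : G, orderOf g = 35 → orderOf (g ^ 5) = 7 := fun g hg => by
    rw [orderOf_pow, hg]; rfl
  have o7 : ∀ g : G, orderOf g = 35 → orderOf (g ^ 7) = 5 := fun g hg => by
    rw [orderOf_pow, hg]; rfl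
  rw [← cls_seven h]
  refine cls_eq_of_pow 5 o5 (fun y hy => ?_) fun a ha b hb e => ?_
  · have := Fact.mk Nat.prime_five
    obtain ⟨f, hf⟩ := exists_prime_orderOf_dvd_card' (G := centralizer ({y} : Set G)) 5
      (by rw [h.card_cent_seven hy]; norm_num)
    rw [← Subgroup.orderOf_coe] at hf
    have hc : Commute (y ^ 3) f :=
      (Commute.symm (mem_centralizer_singleton_iff.1 f.2)).pow_left 3
    have h1 : orderOf (y ^ 3) = 7 := by rw [orderOf_pow, hy]; rfl
    refine ⟨y ^ 3 * f, ?_, ?_⟩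
    · rw [Set.mem_ofPred_eq, hc.orderOf_mul_eq_mul_orderOf_of_coprime (by rw [h1, hf]; norm_num),
        h1, hf]
    · rw [hc.mul_pow, ← hf, pow_orderOf_eq_one, hf, mul_one, ← pow_mul,
        pow_eq_pow_mod _ (pow_orderOf_eq_one y), hy]
      simp
  · obtain ⟨c, hc⟩ := isConj_iff.1 e
    have h1 := LA.isConj_conj c a
    have h2 : orderOf (c * a * c⁻¹) = 35 := (ord_conj h1).symm.trans ha
    rw [← conj_pow] at hc
    generalize c * a * c⁻¹ = a' at *
    obtain ⟨d, hd, e1⟩ := conj_in_seven h (o5 b hb) (o7 a' h2) (o7 b hb)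
      (hc ▸ pow_mem (mem_cent_of_mem_zpowers (npow_mem_zpowers _ _)) 7)
      (pow_mem (mem_cent_of_mem_zpowers (npow_mem_zpowers _ _)) 7)
    have h3 : ∀ g : G, orderOf g = 35 → g = (g ^ 5) ^ 3 * (g ^ 7) ^ 3 := fun g hg => by
      rw [← pow_mul, ← pow_mul, ← pow_add, pow_eq_pow_mod _ (pow_orderOf_eq_one g), hg]; simp
    refine h1.trans (isConj_iff.2 ⟨d, ?_⟩)
    rw [h3 a' h2, h3 b hb, ← e1, hc, conj_pow]
    nth_rw 2 [← mul_inv_eq_iff_eq_mul.2 (mem_centralizer_singleton_iff.1 hd)]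
    rw [conj_pow]
    group

theorem cls_big {p e : ℕ} (hp : (p, e) ∈ [(23, 22), (29, 28), (31, 10), (37, 12), (43, 14)]) :
    cls {g : G | orderOf g = p} = (p - 1) / e := by
  have := fun a b c => cls_prime' (G := G) (p := p) (m := 86775571046077562880 / p) a b c
    fun a ha => h.big_spec hp ha
  rw [h.card_G] at this
  simp only [List.mem_cons, Prod.mk.injEq, List.not_mem_nil, or_false] at hp
  rcases hp with ⟨rfl, rfl⟩ | ⟨rfl, rfl⟩ | ⟨rfl, rfl⟩ | ⟨rfl, rfl⟩ | ⟨rfl, rfl⟩ <;>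
  · have := this (by norm_num) (by norm_num) (by norm_num)
    omega

omit h in
open Classical in
/-- The type of an element. -/
noncomputable def τ (z g : G) : ℕ :=
  if ∃ i ∈ zpowers g, IsConj z i then 0 else if 2 ∣ orderOf g then 2 else
    if 3 ∣ orderOf g then 3 else orderOf g

omit h [Finite G] in
theorem τ_conj (a b : G) (e : IsConj a b) : τ z a = τ z b := by
  have : ∀ a b : G, IsConj a b → (∃ i ∈ zpowers a, IsConj z i) → ∃ i ∈ zpowers b, IsConj z i := by
    rintro a b e ⟨i, hi, e1⟩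
    obtain ⟨c, rfl⟩ := isConj_iff.1 e
    exact ⟨_, conj_mem_zpowers c hi, e1.trans (LA.isConj_conj c i)⟩
  rw [τ, τ, ord_conj e, propext ⟨this a b e, this b a e.symm⟩]

theorem two_dvd {g : G} (hg : ∃ i ∈ zpowers g, IsConj z i) : 2 ∣ orderOf g := by
  obtain ⟨i, hi, e⟩ := hg
  exact h.ord_of_z e ▸ orderOf_dvd_of_mem_zpowers hi

theorem τ_eq {n : ℕ} (h2 : ¬ 2 ∣ n) (h3 : ¬ 3 ∣ n) : {g | τ z g = n} = {g | orderOf g = n} := by
  ext g
  simp only [Set.mem_ofPred_eq, τ]
  have := two_dvd h (g := g)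
  split_ifs with a1 a2 a3
  · have := this a1
    omega
  · omega
  · omega
  · rfl

theorem τ_zero : cls {g | τ z g = 0} = 27 := by
  rw [← Cl.cls_z h]
  refine cls_congr (fun g hg => ?_) fun g hg => ⟨g, if_pos ⟨z, hg, IsConj.refl z⟩, IsConj.refl g⟩
  have := orderOf_pos g
  simp only [Set.mem_ofPred_eq, τ] at hg
  split_ifs at hg with a1
  · obtain ⟨i, hi, e⟩ := a1
    obtain ⟨c, rfl⟩ := isConj_iff.1 e.symm
    exact ⟨_, conj_mem_zpowers c hi, (LA.isConj_conj c g).symm⟩
  · omega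

theorem τ_two : cls {g | τ z g = 2} = 10 := by
  rw [← Cl.cls_t h]
  refine cls_congr (fun g hg => ?_) fun g hg => ⟨g, ?_, IsConj.refl g⟩
  · simp only [Set.mem_ofPred_eq, τ] at hg
    split_ifs at hg with a1 a2 a3
    · obtain ⟨i, hi, e⟩ := exists_mem a2
      obtain ⟨c, hc⟩ := isConj_iff.1
        ((h.two_classes e).resolve_left fun e1 => a1 ⟨i, hi, e1⟩).symm
      exact ⟨_, hc ▸ conj_mem_zpowers c hi, (LA.isConj_conj c g).symm⟩
    all_goals omega
  · rw [Set.mem_ofPred_eq, τ, if_neg, if_pos (h.t_ord ▸ orderOf_dvd_of_mem_zpowers hg)]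
    rintro ⟨i, hi, e⟩
    exact h.not_isConj (invol_unique hi hg (h.ord_of_z e) h.t_ord ▸ e)

theorem τ_three : cls {g | τ z g = 3} = 6 := by
  rw [← Cl.cls_three h]
  congr 1
  ext g
  simp only [Set.mem_ofPred_eq, τ]
  have := two_dvd h (g := g)
  split_ifs with a1 a2 a3
  · have := this a1
    simp only [false_iff]
    omega
  all_goals omega

theorem τ_mem (h11 : ∀ U : Sylow 11 G, Monoid.exponent (U : Subgroup G) = 11) (g : G) :
    τ z g ∈ ({0, 2, 3, 1, 5, 7, 35, 11, 23, 29, 31, 37, 43} : Finset ℕ) := by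
  rw [τ]
  split_ifs with a1 a2 a3
  · simp
  · simp
  · simp
  have big : ∀ p e, (p, e) ∈ [(23, 22), (29, 28), (31, 10), (37, 12), (43, 14)] →
      p ∣ orderOf g → orderOf g = p := fun p e hp hd =>
    Nat.dvd_antisymm (ord_dvd (fun a ha => (h.big_spec hp ha).1) hd) hd
  have cop : ∀ p, p.Prime → ¬ p ∣ orderOf g → (orderOf g).Coprime p := fun p hp hd =>
    (hp.coprime_iff_not_dvd.2 hd).symm
  have c2 := cop 2 (by norm_num) a2
  have c3 := cop 3 (by norm_num) a3
  have d35 : orderOf g ∣ 35 → orderOf g ∈ ({0, 2, 3, 1, 5, 7, 35, 11, 23, 29, 31, 37, 43} :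
      Finset ℕ) := fun e => by
    have := Nat.mem_divisors.2 ⟨e, by norm_num⟩
    generalize orderOf g = n at this
    revert n
    decide
  by_cases b1 : 23 ∣ orderOf g
  · rw [big 23 22 (by simp) b1]; simp
  by_cases b2 : 29 ∣ orderOf g
  · rw [big 29 28 (by simp) b2]; simp
  by_cases b3 : 31 ∣ orderOf g
  · rw [big 31 10 (by simp) b3]; simp
  by_cases b4 : 37 ∣ orderOf g
  · rw [big 37 12 (by simp) b4]; simp
  by_cases b5 : 43 ∣ orderOf g
  · rw [big 43 14 (by simp) b5]; simp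
  by_cases b6 : 5 ∣ orderOf g
  · exact d35 (((c2.pow_right 6).mul_right c3).dvd_of_dvd_mul_left
      (ord_dvd (fun _ => h.card_cent_five) b6))
  by_cases b7 : 7 ∣ orderOf g
  · exact d35 (((c2.pow_right 3).mul_right c3).dvd_of_dvd_mul_left
      (ord_dvd (fun _ => h.card_cent_seven) b7))
  have h1 : orderOf g ∣ 11 ^ 3 := by
    refine ((((((((c2.pow_right 21).mul_right (c3.pow_right 3)).mul_right
      (cop 5 (by norm_num) b6)).mul_right (cop 7 (by norm_num) b7)).mul_right
      (cop 23 (by norm_num) b1)).mul_right (cop 29 (by norm_num) b2)).mul_right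
      (cop 31 (by norm_num) b3)).mul_right (cop 37 (by norm_num) b4)).mul_right
      (cop 43 (by norm_num) b5) |>.dvd_of_dvd_mul_left ?_
    have := orderOf_dvd_natCard g
    rwa [h.card_G] at this
  have := Fact.mk (show Nat.Prime 11 by norm_num)
  obtain ⟨U, hU⟩ := Small.exists_mem_sylow_of_pow (orderOf_dvd_iff_pow_eq_one.1 h1)
  have h2 := Monoid.order_dvd_exponent (⟨g, hU⟩ : (U : Subgroup G))
  rw [h11, Subgroup.orderOf_mk] at h2
  rcases (Nat.dvd_prime (by norm_num)).1 h2 with e | e <;> rw [e] <;> simp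

end



/-- Let G be a finite non-abelian simple group of Janko-four type (an involution z whose centralizer H has an extraspecial largest normal 2-subgroup E of order 2^13 containing its centralizer in H, a normal subgroup N ≥ E of H with N/E of order 3 and H/N the automorphism group of M₂₂, and a subgroup P ≤ N of order 3 with C_E(P) = ⟨z⟩, N_H(P) ≠ C_H(P) and P ≤ C_H(P)′). Then G has exactly 62 conjugacy classes. -/
theorem result {G : Type*} [Group G] [Finite G] [IsSimpleGroup G] (hG : ¬ IsMulCommutative G) (hJ : Cfsg.IsOfJankoFourType G) :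
    Nat.card (ConjClasses G) = 62 := by
  obtain ⟨x, y, hx, hy, h1, h2⟩ := S5576.result hG hJ
  have h3 := fun U => (S5575.result hG hJ U).2.2.1
  obtain ⟨z, P, hJ⟩ := hJ
  obtain ⟨h⟩ := exists_MM hG hJ
  rw [card_eq_sum (τ z) τ_conj _ (τ_mem h h3)]
  repeat rw [Finset.sum_insert (by simp)]
  rw [Finset.sum_singleton, τ_zero h, τ_two h, τ_three h]
  repeat rw [τ_eq h (by norm_num) (by norm_num)]
  rw [cls_eq_one (S := {g : G | orderOf g = 1}) orderOf_one fun g hg => by
      rw [orderOf_eq_one_iff.1 hg],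
    cls_eq_one (S := {g : G | orderOf g = 5}) h.f_ord fun g => h.isConj_f, cls_seven h, cls_35 h,
    cls_eq_two (S := {g : G | orderOf g = 11}) hx hy h1 h2, cls_big h (e := 22) (by simp),
    cls_big h (e := 28) (by simp), cls_big h (e := 10) (by simp), cls_big h (e := 12) (by simp),
    cls_big h (e := 14) (by simp)]
  norm_num

end Cfsg.Agent.S5579
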