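import Cfsg.Statements.S5586
import Mathlib
import Cfsg.Agent.MonU.AmC
import Cfsg.Agent.MonU.UqL
import Cfsg.Agent.MonU.EqMG
import Cfsg.Agent.Mon.Iso

set_option autoImplicit false
open Cfsg

namespace Cfsg.Agent.S5586

/-- The Monster is the only group generated by three subgroups C, N, L of the following kind: the largest normal 2-subgroup of C is extraspecial of order 2^25 of plus type, contains its centralizer in C, and has quotient C modulo it isomorphic to the first Conway group; N modulo its largest normal 2-subgroup is isomorphic to the direct product of the symmetric group of degree 3 and M₂₄; L modulo its largest normal 2-subgroup is the direct product of a normal subgroup isomorphic to L₃(2) and a normal subgroup B of order 2160 having a normal subgroup T of order 3 with B/T the symmetric group of degree 6, with T centralized by a subgroup of index 2 of B and with the commutator subgroup of B perfect of order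 1080 (the triple cover of the alternating group of degree 6 extended by an automorphism); and the indices [N : N ∩ C] = 3, [L : L ∩ N] = [L : L ∩ C] = 7 and [L : L ∩ N ∩ C] = 21. -/
theorem result {G : Type*} [Group G] (C N L : Subgroup G) (hgen : C ⊔ N ⊔ L = ⊤)
    (hQ : Cfsg.IsExtraspecial 2 ↥((Cfsg.pCore 2 ↥C).map C.subtype)) (hQc : Nat.card ↥((Cfsg.pCore 2 ↥C).map C.subtype) = 2 ^ 25)
    (hplus : ∃ E : Subgroup G, E ≤ ((Cfsg.pCore 2 ↥C).map C.subtype) ∧ Cfsg.IsElementaryAbelian 2 E ∧ Nat.card ↥E = 2 ^ 13)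
    (hcc : C ⊓ Subgroup.centralizer (((Cfsg.pCore 2 ↥C).map C.subtype) : Set G) ≤ ((Cfsg.pCore 2 ↥C).map C.subtype))
    (hCo : Cfsg.Spor.IsoCo1 (↥C ⧸ Cfsg.pCore 2 ↥C))
    (hN : Nonempty (↥N ⧸ Cfsg.pCore 2 ↥N ≃* Equiv.Perm (Fin 3) × ↥Cfsg.M24))
    (hL : ∃ A B : Subgroup (↥L ⧸ Cfsg.pCore 2 ↥L), A.Normal ∧ B.Normal ∧ A ⊓ B = ⊥ ∧ A ⊔ B = ⊤ ∧
      Nonempty (↥A ≃* Matrix.SpecialLinearGroup (Fin 3) (ZMod 2)) ∧ Nat.card ↥B = 2160 ∧
      ∃ (T : Subgroup ↥B) (_ : T.Normal), Nat.card ↥T = 3 ∧ Nonempty (↥B ⧸ T ≃* Equiv.Perm (Fin 6)) ∧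
        (Subgroup.centralizer (T : Set ↥B)).index = 2 ∧ Nat.card ↥(commutator ↥B) = 1080 ∧
        ⁅commutator ↥B, commutator ↥B⁆ = commutator ↥B)
    (hNC : C.relIndex N = 3) (hLN : N.relIndex L = 7) (hLC : C.relIndex L = 7) (hLNC : (N ⊓ C).relIndex L = 21) :
    Cfsg.Spor.IsoM G := by
  obtain ⟨fC, J, j⟩ := MonU.Am.exists_JD hQ hQc hcc hCo
  have := MonU.Am.finite_of_relIndex (H := C) (K := L) (by omega)
  obtain ⟨A, B, _, _, h1, h2, ⟨e⟩, hB, -⟩ := hL
  obtain ⟨α, l⟩ := MonU.Am.exists_LD h1 h2 e hB hLN hLC hLNC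
  obtain ⟨J, Θ, t, x, rfl, d⟩ := MonU.Am.exists_dat j hN.some hNC l
  have := d.fin
  obtain ⟨g, hg, hs⟩ := d.exists_g
  obtain ⟨ι, τ, h3, h4, h5, h6⟩ := MonU.amal0_local J N d.inj d.ker d.Q_le d.mem_N' d.mem_C hg hs
  have a : MonU.Am.AD J.range N ι τ := ⟨h4, Subgroup.ext fun g => ⟨fun ⟨c, hc⟩ => by
      obtain ⟨y, rfl⟩ := MonU.mkC_surjective c
      exact ⟨y, (h5 y).symm.trans hc⟩, fun ⟨y, hy⟩ => ⟨_, (h5 y).trans hy⟩⟩,
    fun n hn h => d.mem_C n hn (h5 _ ▸ h), fun c => by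
      obtain ⟨y, rfl⟩ := MonU.mkC_surjective c
      rw [h5, MonU.Fr.mkC_mem_Nx]
      exact ⟨d.mono_of, d.mem_N⟩, h3, h6, hNC⟩
  obtain ⟨ι, τ, a, h7⟩ := a.exists_amal l
  have h8 : J.range ≤ MonU.gen ⊤ ι τ := by
    rw [← a.range]; rintro _ ⟨c, rfl⟩; exact MonU.mem_gen _ _ trivial
  have h9 : N ≤ MonU.gen ⊤ ι τ := d.mem_of_max (fun n _ h => h8 h) a.hτ (MonU.tau_mem_gen _ _ _)
    fun h => by
      have := h7.beta _ _ .z trivial trivial
      rw [mul_assoc, ← a.comm h, inv_mul_cancel_left] at this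
      exact absurd (a.inj' this) (by decide)
  have ht : MonU.gen ⊤ ι τ = ⊤ := eq_top_mono
    (sup_le (sup_le h8 h9) (l.le_of' (fun _ _ h => h8 h) fun _ _ h => h9 h)) hgen
  obtain ⟨ι', τ', -, -, -, k1, k2⟩ := MonU.exists_amal_MG
  obtain ⟨f, -, -, k3⟩ := MonU.exists_hom_MG k1 k2 h7
  have k4 := MonU.card_M h7 a.inj
  rw [ht, Subgroup.card_top, ← MonU.card_MG] at k4
  have : Finite Mon.MG := Nat.finite_of_card_ne_zero (by rw [MonU.card_MG]; norm_num)
  obtain ⟨m⟩ := Mon.monster_iso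
  exact ⟨(m.trans (MulEquiv.ofBijective f ((MonoidHom.range_eq_top.1
    (k3.trans ht)).bijective_of_nat_card_le k4.ge))).symm⟩

end Cfsg.Agent.S5586
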