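import Cfsg.Statements.S5587
import Cfsg.Agent.Mon.BvFin
import Cfsg.Agent.Mon.BvEx

set_option autoImplicit false
open Cfsg

namespace Cfsg.Agent.S5587

theorem aux (F : Type*) [Field F] [NeZero (2 : F)] {n : ℕ} (h : n ≤ 4371)
    (ρ : Spor.BabyMonster →* GL (Fin n) F) (hρ : Function.Injective ρ) :
    (∀ W : Submodule F (Fin n → F), (∀ g, ∀ v ∈ W, (ρ g : Matrix (Fin n) (Fin n) F).mulVec v ∈ W) →
      W = ⊥ ∨ W = ⊤) ∧ ∀ ρ' : Spor.BabyMonster →* GL (Fin n) F, Function.Injective ρ' →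
        ∃ P : GL (Fin n) F, ∀ g, ρ' g = P * ρ g * P⁻¹ := by
  let L : GL (Fin n) F →* Module.End F (Fin n → F) :=
    (Matrix.toLinAlgEquiv' (R := F) (n := Fin n)).toMonoidHom.comp (Units.coeHom _)
  have hL : Function.Injective L := Matrix.toLinAlgEquiv'.injective.comp Units.val_injective
  have hn : Module.finrank F (Fin n → F) ≤ 4371 := by simpa using h
  refine ⟨Mon.baby_irred (ρ := L.comp ρ) (hL.comp hρ) hn, fun ρ' hρ' => ?_⟩
  obtain ⟨f, hf⟩ := Mon.baby_uniq (ρ := L.comp ρ) (ρ' := L.comp ρ') (hL.comp hρ) (hL.comp hρ') hn hn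
  let P : GL (Fin n) F := ⟨LinearMap.toMatrix' f.toLinearMap, LinearMap.toMatrix' f.symm.toLinearMap,
    by rw [← LinearMap.toMatrix'_comp, f.comp_symm, LinearMap.toMatrix'_id],
    by rw [← LinearMap.toMatrix'_comp, f.symm_comp, LinearMap.toMatrix'_id]⟩
  have hP : ∀ v, L P v = f v := fun v => LinearMap.toMatrix'_mulVec _ v
  refine ⟨P, fun g => eq_mul_inv_of_mul_eq (hL (LinearMap.ext fun v => ?_))⟩
  rw [map_mul, map_mul, Module.End.mul_apply, Module.End.mul_apply, hP, hP]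
  exact (hf g v).symm

/-- Over any field F whose characteristic is not 2, the Baby Monster (the finitely presented group of the definitions) has a faithful linear representation of degree 4371; every such representation is irreducible over F, and any two are equivalent. -/
theorem result (F : Type*) [Field F] (hF : ringChar F ≠ 2) :
    (∃ ρ : Cfsg.Spor.BabyMonster →* GL (Fin 4371) F, Function.Injective ρ) ∧
    ∀ ρ : Cfsg.Spor.BabyMonster →* GL (Fin 4371) F, Function.Injective ρ →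
      (∀ W : Submodule F (Fin 4371 → F), (∀ g : Cfsg.Spor.BabyMonster, ∀ v ∈ W, (ρ g : Matrix (Fin 4371) (Fin 4371) F).mulVec v ∈ W) → W = ⊥ ∨ W = ⊤) ∧
      ∀ ρ' : Cfsg.Spor.BabyMonster →* GL (Fin 4371) F, Function.Injective ρ' →
        ∃ P : GL (Fin 4371) F, ∀ g : Cfsg.Spor.BabyMonster, ρ' g = P * ρ g * P⁻¹ := by
  have h2 : (2 : F) ≠ 0 := Ring.two_ne_zero hF
  have : NeZero (2 : F) := ⟨h2⟩
  exact ⟨Mon.exists_rep_4371 F h2, aux F le_rfl⟩

end Cfsg.Agent.S5587
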