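import Cfsg.Statements.S5590
import Cfsg.Agent.Mon.CxE
import Cfsg.Agent.Mon.BvDim
import Cfsg.Agent.Mon.IsoB

set_option autoImplicit false
open Cfsg

namespace Cfsg.Agent.S5590

open Cfsg.Agent.Mon Cfsg.Agent.Mon.Cx Cfsg.Agent.Mon.Bv Cfsg.Agent.TT in
theorem vs {F V G : Type*} [Field F] [AddCommGroup V] [Module F V] [FiniteDimensional F V] [Group G]
    [Finite G] {ρ : G →* Module.End F V} (h2 : (2 : F) ≠ 0) (h3 : (3 : F) ≠ 0)
    (hρ : ∀ g, ρ g = 1 → g = 1) (hn : Module.finrank F V ≤ 4371) (Pt : G → Prop) (T : G → G → Prop)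
    (Ge : Geo Pt T) : VS Pt ρ := by
  have : NeZero (2 : F) := ⟨h2⟩
  obtain ⟨x, -, hx, -⟩ := Ge.ex
  have h1 : ρ x ≠ 1 := fun e => (Ge.xs hx).z_ne (hρ x e)
  have W := Ge.wt hx h1 hn
  have e : ∀ K, fixS ρ K = Eig ρ K 1 := fun K => Submodule.ext fun _ => mem_Eig_one.symm
  refine ⟨h2, h3, fun hz => ?_, fun l => ?_, fun l => ?_, fun v hv => ?_⟩
  · obtain ⟨s, l⟩ := Ge.exists_ln hz
    have := W.dim_V Ge l
    rw [e]; omega
  · by_contra c
    rcases W.bot l.p l.mem c with a | a | a
    exacts [(Ge.xs l.q).z_ne a, l.ne a, Ge.notT l a]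
  · rw [e, e]; exact (W.dim_A0 Ge l).2 hn
  · rcases Ge.irred hx h1 hn (fixS ρ ⊤) (fun g v h => by rwa [h g trivial]) with a | a
    · exact a.le fun g _ => hv g
    · exact absurd (LinearMap.ext fun w => a.ge trivial x trivial) h1


/-- Let F be a field of characteristic neither 2 nor 3 and ρ a faithful linear representation of the Baby Monster of degree 4371 over F. Then every extension of the Baby Monster by the corresponding module splits: if E is a group with an abelian normal subgroup A, an identification of E/A with the Baby Monster, and an additive identification of A with F^4371 under which conjugation by g ∈ E acts as ρ of the image of g, then A has a complement in E. -/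
theorem result (F : Type*) [Field F] (hF2 : ringChar F ≠ 2) (hF3 : ringChar F ≠ 3) (ρ : Cfsg.Spor.BabyMonster →* GL (Fin 4371) F) (hρ : Function.Injective ρ)
    (E : Type*) [Group E] (A : Subgroup E) [A.Normal] (e : E ⧸ A ≃* Cfsg.Spor.BabyMonster)
    (φ : Additive ↥A ≃+ (Fin 4371 → F))
    (hφ : ∀ (g : E) (a b : ↥A), (b : E) = g * a * g⁻¹ → φ (Additive.ofMul b) =
      (ρ (e (QuotientGroup.mk g)) : Matrix (Fin 4371) (Fin 4371) F).mulVec (φ (Additive.ofMul a))) :
    ∃ K : Subgroup E, A.IsComplement' K := by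
  have c : ∀ p : ℕ, p.Prime → ringChar F ≠ p → (p : F) ≠ 0 := fun p hp h e =>
    ((Nat.dvd_prime hp).1 ((ringChar.spec F p).1 e)).elim CharP.ringChar_ne_one h
  obtain ⟨i⟩ := Mon.baby_iso
  let r : Cfsg.Spor.BabyMonster →* Module.End F (Fin 4371 → F) :=
    (Matrix.toLinAlgEquiv' (R := F) (n := Fin 4371)).toMulEquiv.toMonoidHom.comp
      ((Units.coeHom _).comp ρ)
  let X : Mon.Cx.Ext F (Fin 4371 → F) (Mon.BQ (Mon.psi Spor.leechU)) E :=
    { ρ := r.comp i.symm.toMonoidHom
      π := (e.trans i).toMonoidHom.comp (QuotientGroup.mk' A)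
      j := fun v => ((φ.symm v).toMul : A)
      surj := (e.trans i).surjective.comp (QuotientGroup.mk'_surjective A)
      add := fun v w => by rw [map_add]; rfl
      inj := fun v h => φ.symm.injective
        (by rw [map_zero]; exact show (φ.symm v).toMul = 1 from Subtype.ext h)
      ker := fun γ => ((map_eq_one_iff _ (e.trans i).injective).trans
        (QuotientGroup.eq_one_iff γ)).trans ⟨fun h => ⟨φ (.ofMul ⟨γ, h⟩), by simp⟩,
          fun ⟨v, h⟩ => h ▸ Subtype.prop _⟩
      conj := fun γ v => by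
        have := hφ γ (φ.symm v).toMul ⟨_, Subgroup.Normal.conj_mem ‹_› _ (φ.symm v).toMul.2 γ⟩ rfl
        rw [ofMul_toMul, φ.apply_symm_apply, ← φ.eq_symm_apply] at this
        rw [← mul_inv_eq_iff_eq_mul]
        refine (congrArg (fun a : Additive A => (a.toMul : E)) this).trans ?_
        simp [r] }
  obtain ⟨s, hs⟩ := Mon.Cx.baby_split (Mon.if1.baby_BQ (IsConj.refl _)) X
    (vs (by simpa using c 2 (by norm_num) hF2) (by simpa using c 3 (by norm_num) hF3) (fun g h =>
      i.symm.injective (hρ (Units.ext ((Matrix.toLinAlgEquiv' (R := F)).injective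
        (h.trans (by simp)))))) (by simp))
  let σ := MonoidHom.mk' s fun a b => hs.2 a trivial b trivial
  have m : ∀ γ, X.π γ = 1 ↔ γ ∈ A := fun γ =>
    (map_eq_one_iff _ (e.trans i).injective).trans (QuotientGroup.eq_one_iff γ)
  refine ⟨σ.range, Subgroup.isComplement'_of_disjoint_and_mul_eq_univ
    (Subgroup.disjoint_def.2 ?_) (Set.eq_univ_of_forall fun γ => ?_)⟩
  · rintro _ a ⟨g, rfl⟩
    rw [(hs.1 g trivial).symm.trans ((m _).2 a), map_one]
  · exact ⟨γ * (s (X.π γ))⁻¹, (m _).1 (by simp [hs.1 _ trivial]), _, ⟨X.π γ, rfl⟩,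
      inv_mul_cancel_right _ _⟩

end Cfsg.Agent.S5590
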