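import Cfsg.Statements.S5720
import Cfsg.Agent.Fix6.Scott
import Cfsg.Agent.Fix6.Defn
import Cfsg.Agent.Fix6.Cross
import Cfsg.Agent.Fix6.Red

set_option autoImplicit false
open Cfsg

namespace Cfsg.Agent.S5720

/-- Let H be a finite group whose soluble radical (largest soluble normal subgroup) has index greater than 120. Then for every field K and every finite-dimensional K-linear representation of H on a space V there is a non-identity element h of H whose fixed-point subspace on V has dimension at least (dim V)/6. -/
theorem result {H : Type*} [Group H] [Finite H] (hR : 120 < (Cfsg.solvableRadical H).index)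
    {K V : Type*} [Field K] [AddCommGroup V] [Module K V] [FiniteDimensional K V] (ρ : Representation K H V) :
    ∃ h : H, h ≠ 1 ∧ (Module.finrank K V : ℚ) / 6 ≤ Module.finrank K (LinearMap.ker (ρ h - 1)) := by
  by_contra hne
  push Not at hne
  have hs : Fix6.Small ρ := fun h hh => by
    have := hne h hh
    rw [lt_div_iff₀ (by norm_num)] at this
    rw [mul_comm]
    exact_mod_cast this
  have hs' := hs.baseChange (AlgebraicClosure K)
  obtain ⟨p, _, hp, hp3, φ, hφ⟩ := Fix6.red hR hs'.two hs'.three hs'.five
  have h := hs'.comp φ hφ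
  by_cases hpK : (p : AlgebraicClosure K) = 0
  · have : CharP (AlgebraicClosure K) p := (CharP.charP_iff_prime_eq_zero Fact.out).2 hpK
    exact Fix6.defn p hp hp3 _ h
  refine Fix6.cross p hp hp3 ?_ ?_ hpK _ h
  · refine mod_cast h.char (q := 2) (by norm_num) (g := Fix6.ww * Fix6.ww) ?_ fun e => ?_
    · rw [pow_two]
      apply Fix6.sl_ext <;> simp [Matrix.mul_apply, Fin.sum_univ_two]
    · have h1 := congrArg (fun g : Matrix.SpecialLinearGroup (Fin 2) (ZMod p) => g 0 0) e
      simp only [Fix6.sl_mul, Fix6.ww00, Fix6.ww01, Fix6.ww10] at h1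
      have h4 : ((2 : ℕ) : ZMod p) = 0 := by
        push_cast
        rw [show (1 : Matrix.SpecialLinearGroup (Fin 2) (ZMod p)) 0 0 = 1 from rfl] at h1
        linear_combination -h1
      have := Nat.le_of_dvd (by norm_num) ((ZMod.natCast_eq_zero_iff _ _).1 h4)
      omega
  · exact mod_cast h.char (q := 3) (by norm_num) (g := Fix6.xx) (by rw [pow_three', Fix6.xx_cube]) Fix6.xx_ne

end Cfsg.Agent.S5720
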