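import Cfsg.Statements.S5726
import Mathlib
import Cfsg.Agent.Perm.PermModule

set_option autoImplicit false
open Cfsg

namespace Cfsg.Agent.S5726


/-- If a finite group acts faithfully and transitively on a set with p^k elements, p a prime and k ≥ 1, then some element of order p fixes no point. -/
theorem result {G Ω : Type*} [Group G] [Finite G] [MulAction G Ω] [FaithfulSMul G Ω] [Fintype Ω] (htr : MulAction.IsPretransitive G Ω)
    (p k : ℕ) (hp : p.Prime) (hk : 1 ≤ k) (hΩ : Fintype.card Ω = p ^ k) :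
    ∃ g : G, orderOf g = p ∧ ∀ ω : Ω, g • ω ≠ ω := by
  haveI := Fact.mk hp
  obtain ⟨P⟩ : Nonempty (Sylow p G) := inferInstance
  have hc : Nat.card Ω = p ^ k := by rw [Nat.card_eq_fintype_card, hΩ]
  have hP := Perm.sylow_isPretransitive hc P
  have h1 : 1 < Fintype.card Ω := by
    rw [hΩ]; exact Nat.one_lt_pow (by omega) hp.one_lt
  haveI : Nontrivial Ω := Fintype.one_lt_card_iff_nontrivial.1 h1
  haveI : Nontrivial (P : Subgroup G) := by
    obtain ⟨a, b, hab⟩ := exists_pair_ne Ω
    obtain ⟨g, hg⟩ := hP.exists_smul_eq a b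
    refine ⟨⟨g, 1, fun h => hab ?_⟩⟩
    rw [h, one_smul] at hg; exact hg
  have hZ : Nontrivial (Subgroup.center (P : Subgroup G)) := P.isPGroup'.center_nontrivial
  have hZp : IsPGroup p (Subgroup.center (P : Subgroup G)) := P.isPGroup'.to_subgroup _
  obtain ⟨n, hn⟩ := hZp.exists_card_eq
  have hn0 : n ≠ 0 := by
    rintro rfl
    have := Finite.one_lt_card (α := Subgroup.center (P : Subgroup G))
    simp [hn] at this
  obtain ⟨z, hz⟩ := exists_prime_orderOf_dvd_card' (G := Subgroup.center (P : Subgroup G)) p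
    (by rw [hn]; exact dvd_pow_self p hn0)
  refine ⟨((z : (P : Subgroup G)) : G), by rw [Subgroup.orderOf_coe, Subgroup.orderOf_coe, hz], ?_⟩
  intro ω hω
  have hall : ∀ x : Ω, ((z : (P : Subgroup G)) : G) • x = x := by
    intro x
    obtain ⟨g, hg⟩ := hP.exists_smul_eq ω x
    have hc : (g : G) * (z : (P : Subgroup G)) = (z : (P : Subgroup G)) * (g : G) := by
      have := Subgroup.mem_center_iff.1 z.2 g
      exact_mod_cast congrArg Subtype.val this
    have hg' : (g : G) • ω = x := hg
    rw [← hg', ← mul_smul, ← hc, mul_smul, hω]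
  have h1 : ((z : (P : Subgroup G)) : G) = 1 :=
    FaithfulSMul.eq_of_smul_eq_smul (α := Ω) (fun x => by rw [hall, one_smul])
  have h2 : z = 1 := by
    apply Subtype.ext; apply Subtype.ext; exact h1
  rw [h2, orderOf_one] at hz
  exact hp.one_lt.ne hz

end Cfsg.Agent.S5726
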