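import Cfsg.Statements.S5727
import Cfsg.Agent.FGS.IndexP

set_option autoImplicit false
open Cfsg

namespace Cfsg.Agent.S5727

open MulAction

/-- If a finite group acts faithfully and transitively on a set with m·p elements, where p is a prime and 1 ≤ m ≤ p, then some element of order p fixes no point. -/
theorem result {G Ω : Type*} [Group G] [Finite G] [MulAction G Ω] [FaithfulSMul G Ω] [Fintype Ω] (htr : MulAction.IsPretransitive G Ω)
    (p m : ℕ) (hp : p.Prime) (hm : 1 ≤ m) (hmp : m ≤ p) (hΩ : Fintype.card Ω = m * p) :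
    ∃ g : G, orderOf g = p ∧ ∀ ω : Ω, g • ω ≠ ω := by
  classical
  have := Fact.mk hp
  obtain ⟨P, hP, hPi⟩ : ∃ P : Subgroup G, IsPGroup p P ∧ ¬ p ∣ P.index :=
    ⟨(default : Sylow p G), Sylow.isPGroup' _, Sylow.not_dvd_index _⟩
  have hidx : ∀ ω : Ω, p ∣ (stabilizer P ω).index := fun ω => by
    have h1 : (stabilizer G ω).index = m * p := by
      rw [index_stabilizer_of_transitive, Nat.card_eq_fintype_card, hΩ]
    have h2 := Subgroup.relIndex_mul_index (inf_le_right : stabilizer G ω ⊓ P ≤ P)
    have h3 := Subgroup.index_dvd_of_le (inf_le_left : stabilizer G ω ⊓ P ≤ _)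
    rw [← h2, h1, Subgroup.inf_relIndex_right] at h3
    exact ((Nat.Prime.dvd_mul hp).1 ((Dvd.intro_left _ rfl).trans h3)).resolve_right hPi
  have hne : Nonempty Ω := Fintype.card_pos_iff.1 (hΩ ▸ Nat.mul_pos hm hp.pos)
  by_cases h : ∀ ω : Ω, (stabilizer P ω).index = p
  · have := Fintype.ofFinite P
    have hpow : ∀ x : P, x ^ p = 1 := fun x => eq_of_smul_eq_smul (α := Ω) fun ω => by
      have := FGS.normal_of_index_eq_prime hP (h ω)
      have h1 := (stabilizer P ω).pow_index_mem x
      rw [h ω] at h1
      exact h1.trans (one_smul _ _).symm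
    by_contra hn
    push Not at hn
    have h1 : ∀ x : P, p ≤ (Finset.univ.filter fun ω : Ω => x • ω = ω).card := fun x => by
      have h2 := (hP.to_subgroup (Subgroup.zpowers x)).card_modEq_card_fixedPoints Ω
      have h3 : Nat.card (fixedPoints (Subgroup.zpowers x) Ω) =
          (Finset.univ.filter fun ω : Ω => x • ω = ω).card := by
        rw [← Fintype.card_subtype, ← Nat.card_eq_fintype_card]
        exact Nat.card_congr (Equiv.subtypeEquivRight fun ω =>
          ⟨fun h => h ⟨x, Subgroup.mem_zpowers x⟩, fun h g =>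
            (Subgroup.zpowers_le (H := stabilizer P ω)).2 h g.2⟩)
      rw [h3, Nat.card_eq_fintype_card, hΩ] at h2
      refine Nat.le_of_dvd (Finset.card_pos.2 ?_) ((h2.dvd_iff dvd_rfl).1 (Dvd.intro_left _ rfl))
      by_cases hx : x = 1
      · exact ⟨hne.some, by simp [hx]⟩
      · obtain ⟨ω, hω⟩ := hn x ((Subgroup.orderOf_coe x).trans (orderOf_eq_prime (hpow x) hx))
        exact ⟨ω, Finset.mem_filter.2 ⟨Finset.mem_univ _, hω⟩⟩
    have h2 : ∀ ω : Ω, (Finset.univ.filter fun x : P => x • ω = ω).card * p = Fintype.card P :=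
      fun ω => by
        rw [← Nat.card_eq_fintype_card, ← (stabilizer P ω).card_mul_index, h ω,
          Nat.card_eq_fintype_card, Fintype.card_subtype]
        rfl
    have h3 : ∑ x : P, (Finset.univ.filter fun ω : Ω => x • ω = ω).card =
        ∑ ω : Ω, (Finset.univ.filter fun x : P => x • ω = ω).card := by
      simp only [Finset.card_filter]
      exact Finset.sum_comm
    have h4 : (∑ x : P, (Finset.univ.filter fun ω : Ω => x • ω = ω).card) * p =
        m * Fintype.card P * p := by
      rw [h3, Finset.sum_mul, Finset.sum_congr rfl fun ω _ => h2 ω, Finset.sum_const,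
        Finset.card_univ, hΩ, smul_eq_mul, mul_right_comm]
    have h5 := Nat.eq_of_mul_eq_mul_right hp.pos h4
    rw [← Finset.add_sum_erase _ _ (Finset.mem_univ 1)] at h5
    have h6 := Finset.card_nsmul_le_sum (Finset.univ.erase (1 : P)) _ p fun x _ => h1 x
    rw [Finset.card_erase_of_mem (Finset.mem_univ _), Finset.card_univ, smul_eq_mul] at h6
    have h7 : (Finset.univ.filter fun ω : Ω => (1 : P) • ω = ω).card = m * p := by simp [hΩ]
    obtain ⟨n, hn⟩ := Nat.exists_eq_add_one_of_ne_zero (Fintype.card_ne_zero (α := P))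
    rw [hn, Nat.add_sub_cancel] at h6
    rw [h7, hn] at h5
    have := hp.two_le
    nlinarith
  · push Not at h
    obtain ⟨ω, hω⟩ := h
    obtain ⟨k, hk⟩ := hP.index (stabilizer P ω)
    have h1 : p ^ 2 ≤ (stabilizer P ω).index := by
      rw [hk]
      refine Nat.pow_le_pow_right hp.pos ?_
      by_contra hlt
      obtain rfl | rfl : k = 0 ∨ k = 1 := by omega
      · exact hp.one_lt.ne' (Nat.dvd_one.1 (by simpa [hk] using hidx ω))
      · exact hω (by simpa using hk)
    have h2 : orbit P ω = Set.univ := by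
      refine Set.eq_of_subset_of_ncard_le (Set.subset_univ _) ?_
      rw [← index_stabilizer, Set.ncard_univ, Nat.card_eq_fintype_card, hΩ]
      nlinarith
    have : Nontrivial P := by
      by_contra h
      have : Subsingleton P := not_nontrivial_iff_subsingleton.1 h
      rw [Subsingleton.elim (stabilizer P ω) ⊤, Subgroup.index_top] at h1
      nlinarith [hp.two_le]
    have := hP.center_nontrivial
    obtain ⟨z, hz⟩ := exists_prime_orderOf_dvd_card' (G := Subgroup.center P) p
      ((hP.to_subgroup _).card_eq_or_dvd.resolve_left Finite.one_lt_card.ne')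
    refine ⟨((z : P) : G), (Subgroup.orderOf_coe _).trans ((Subgroup.orderOf_coe _).trans hz), fun α hα => hp.one_lt.ne' ?_⟩
    have h3 : ∀ β : Ω, ∃ y : P, y • α = β := fun β => by
      have h4 : β ∈ orbit P α := by
        rw [orbit_eq_iff.2 (h2 ▸ Set.mem_univ α : α ∈ orbit P ω), h2]
        trivial
      exact h4
    have h4 : (z : P) = 1 := eq_of_smul_eq_smul (α := Ω) fun β => by
      obtain ⟨y, rfl⟩ := h3 β
      rw [one_smul, smul_smul, ← Subgroup.mem_center_iff.1 z.2 y, mul_smul]
      exact congrArg _ hα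
    rw [← hz, ← Subgroup.orderOf_coe, h4, orderOf_one]

end Cfsg.Agent.S5727
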