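import Cfsg.Statements.S5728


set_option autoImplicit false
open Cfsg

namespace Cfsg.Agent.S5728

/-- An elusive transitive action. Let p = 2^s − 1 be a prime and let F be the field with p² elements. Inside the group of affine maps x ↦ a·x + b of F (a ≠ 0), consider the subgroup of maps with both coefficients in the prime field. Then every element of prime order of the affine group is conjugate, within the affine group, to an element of that subgroup; equivalently, in the transitive action of the affine group on the cosets of that subgroup (of degree p(p + 1)) every element of prime order fixes a point. -/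
theorem result (p s : ℕ) [Fact p.Prime] (hs : p = 2 ^ s - 1)
    (g : Equiv.Perm (GaloisField p 2)) (hg : g ∈ Cfsg.affineGroup (GaloisField p 2)) (hord : (orderOf g).Prime) :
    ∃ x ∈ Cfsg.affineGroup (GaloisField p 2), ∃ a b : ZMod p, a ≠ 0 ∧
      ∀ y : GaloisField p 2, (x * g * x⁻¹) y = algebraMap (ZMod p) (GaloisField p 2) a * y + algebraMap (ZMod p) (GaloisField p 2) b := by
  obtain ⟨a, b, hab⟩ := hg
  have hp : p.Prime := Fact.out
  by_cases ha : a = 1
  · subst ha
    have hb : b ≠ 0 := by
      rintro rfl
      have : g = 1 := Equiv.ext fun x => by simp [hab]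
      rw [this, orderOf_one] at hord
      exact Nat.not_prime_one hord
    refine ⟨(Equiv.mulLeft₀ b hb)⁻¹, Subgroup.inv_mem _ ⟨Units.mk0 b hb, 0, fun x => by simp⟩,
      1, 1, one_ne_zero, fun y => ?_⟩
    simp [hab, mul_add, ← mul_assoc, hb]
  · have ha' : (a : GaloisField p 2) - 1 ≠ 0 := fun e => ha (Units.ext (sub_eq_zero.1 e))
    set x := Equiv.addRight (b / ((a : GaloisField p 2) - 1)) with hx
    have h1 : ∀ y, (x * g * x⁻¹) y = a * y := fun y => by
      simp [hx, hab]
      field_simp
      ring
    have h2 : ∀ (n : ℕ) (y), ((x * g * x⁻¹) ^ n) y = a ^ n * y := fun n => by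
      induction n with
      | zero => simp
      | succ n ih => intro y; rw [pow_succ, Equiv.Perm.mul_apply, ih, h1, pow_succ, mul_assoc]
    have h3 : (a : GaloisField p 2) ^ orderOf g = 1 := by
      have := h2 (orderOf g) 1
      rw [conj_pow, pow_orderOf_eq_one] at this
      simpa using this.symm
    have := Fact.mk hord
    have h4 : orderOf a = orderOf g := orderOf_eq_prime (Units.ext h3) ha
    have h5 : orderOf g ∣ (p - 1) * 2 ^ s := by
      have h6 := orderOf_dvd_natCard a
      rw [h4, Nat.card_units, GaloisField.card p 2 two_ne_zero] at h6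
      have h7 : 2 ^ s = p + 1 := by have := hp.pos; omega
      rwa [h7, mul_comm, ← Nat.sq_sub_sq]
    have h6 : (a : GaloisField p 2) ^ p = a := by
      have h7 : orderOf a ∣ p - 1 := by
        rw [h4]
        rcases (Nat.Prime.dvd_mul hord).1 h5 with h | h
        · exact h
        · rw [(Nat.prime_dvd_prime_iff_eq hord Nat.prime_two).1 (hord.dvd_of_dvd_pow h)]
          rcases s with _ | s
          · exact absurd (Nat.dvd_one.1 h) hord.one_lt.ne'
          · rw [pow_succ] at hs
            omega
      have h8 := congrArg Units.val (orderOf_dvd_iff_pow_eq_one.1 h7)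
      rw [← pow_sub_one_mul hp.ne_zero, ← Units.val_pow_eq_pow_val, h8, Units.val_one, one_mul]
    obtain ⟨c, hc⟩ : (a : GaloisField p 2) ∈ (algebraMap (ZMod p) (GaloisField p 2)).fieldRange :=
      bot_le (a := (algebraMap (ZMod p) (GaloisField p 2)).fieldRange)
        ((Subfield.mem_bot_iff_pow_eq_self _ p).2 h6)
    refine ⟨x, ⟨1, _, fun y => by simp [hx]; rfl⟩, c, 0, fun e => a.ne_zero ?_, fun y => ?_⟩
    · rw [← hc, e, map_zero]
    · rw [h1, hc, map_zero, add_zero]

end Cfsg.Agent.S5728
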