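import Cfsg.Statements.S5736
import Cfsg.Agent.Class.PSL2Binary

set_option autoImplicit false
open Cfsg

namespace Cfsg.Agent.S5736

open Matrix MatrixGroups Subgroup MulAction Cfsg.Agent.Chev Cfsg.Agent.Class.Dickson

variable {F : Type*} [Field F] [Fintype F]

theorem pow_two_iff : (∃ a : ℕ, Fintype.card F = 2 ^ a) ↔ (2 : F) = 0 := by
  constructor
  · rintro ⟨a, ha⟩
    have := FiniteField.cast_card_eq_zero F
    rw [ha, Nat.cast_pow] at this
    exact_mod_cast pow_eq_zero_iff'.1 this |>.1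
  · intro h2
    have : CharP F 2 := (CharP.charP_iff_prime_eq_zero Nat.prime_two).2 (by exact_mod_cast h2)
    obtain ⟨n, -, hn⟩ := FiniteField.card F 2
    exact ⟨n, hn⟩

theorem odd_pow_iff : (∃ a : ℕ, Odd a ∧ Fintype.card F = 2 ^ a) ↔
    (2 : F) = 0 ∧ ∀ w : F, w ^ 2 + w + 1 ≠ 0 := by
  have key : ∀ k : ℕ, 2 ^ (2 * k) % 3 = 1 := fun k => by rw [pow_mul, Nat.pow_mod]; simp
  constructor
  · rintro ⟨_, ⟨k, rfl⟩, ha⟩
    have h2 := pow_two_iff.1 ⟨_, ha⟩
    refine ⟨h2, fun w hw => ?_⟩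
    have h3 : w ^ 3 = 1 := by linear_combination (w - 1) * hw
    have h4 := FiniteField.pow_card w
    have := key k
    rw [ha, pow_eq_pow_mod _ h3, show 2 ^ (2 * k + 1) % 3 = 2 by rw [pow_succ]; omega] at h4
    exact one_ne_zero (by linear_combination hw - h4 - w * h2 : (1 : F) = 0)
  · rintro ⟨h2, hw⟩
    obtain ⟨a, ha⟩ := pow_two_iff.2 h2
    refine ⟨a, Nat.not_even_iff_odd.1 ?_, ha⟩
    rintro ⟨k, rfl⟩
    classical
    have : Fact (Nat.Prime 3) := ⟨Nat.prime_three⟩
    obtain ⟨u, hu⟩ := exists_prime_orderOf_dvd_card (G := Fˣ) 3 (by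
      have := key k
      rw [Fintype.card_units, ha, ← two_mul]
      omega)
    obtain ⟨h3, h1⟩ := orderOf_eq_prime_iff.1 hu
    have h4 : (u : F) ^ 3 = 1 := by rw [← Units.val_pow_eq_pow_val, h3, Units.val_one]
    refine hw u (mul_left_cancel₀ (sub_ne_zero.2 (mt Units.val_eq_one.1 h1)) ?_)
    linear_combination h4

theorem sylow_iff (h2 : (2 : F) = 0) (H : Subgroup PSL(2, F)) :
    (∃ P : Sylow 2 PSL(2, F), H = P) ↔ ∃ x, H = (unip x).comap (pslTo F) := by
  have : CharP F 2 := (CharP.charP_iff_prime_eq_zero Nat.prime_two).2 (by exact_mod_cast h2)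
  constructor
  · rintro ⟨P, rfl⟩
    obtain ⟨Q, hQ⟩ := exists_sylow_PSL2_eq_unip 2 (inf F)
    obtain ⟨k, rfl⟩ := exists_smul_eq PSL(2, F) Q P
    refine ⟨k • inf F, Subgroup.ext fun g => ?_⟩
    rw [Sylow.coe_subgroup_smul, hQ, mem_pointwise_smul_iff_inv_smul_mem, mem_comap, mem_comap,
      ← pslTo_smul, ← conj_mem_unip]
    simp
  · rintro ⟨x, rfl⟩
    exact (exists_sylow_PSL2_eq_unip 2 x).imp fun _ h => h.symm

omit [Field F] [Fintype F]

/-- Let F be a finite field with q ≥ 4 elements, q ≠ 5, let G = PSL₂(F) and let H be a proper subgroup of G. Then the action of G on the cosets of H is binary if and only if H is trivial, or q is a power of 2 and H is a Sylow 2-subgroup, or q = 2^a with a odd and H has order 3. Here an action is binary (relational complexity 2) when, for every n ≥ 2 and all n-tuples I, J of points, if for every pair of positions some group element carries the corresponding pair of entries of I to those of J, then a single group element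 carries I to J. -/
theorem result {F : Type*} [Field F] [Fintype F] (h4 : 4 ≤ Fintype.card F) (h5 : Fintype.card F ≠ 5)
    (H : Subgroup (Matrix.ProjectiveSpecialLinearGroup (Fin 2) F)) (hH : H ≠ ⊤) :
    (∀ (n : ℕ) (I J : Fin n → Matrix.ProjectiveSpecialLinearGroup (Fin 2) F ⧸ H), 2 ≤ n →
        (∀ i j : Fin n, i ≠ j → ∃ g : Matrix.ProjectiveSpecialLinearGroup (Fin 2) F, g • I i = J i ∧ g • I j = J j) → ∃ g : Matrix.ProjectiveSpecialLinearGroup (Fin 2) F, ∀ i, g • I i = J i) ↔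
      (H = ⊥ ∨ ((∃ a : ℕ, Fintype.card F = 2 ^ a) ∧ ∃ P : Sylow 2 (Matrix.ProjectiveSpecialLinearGroup (Fin 2) F), H = P) ∨
        ((∃ a : ℕ, Odd a ∧ Fintype.card F = 2 ^ a) ∧ Nat.card H = 3)) := by
  have key := isBin_iff_PSL2 (Ω := PSL(2, F) ⧸ H) (ω := ((1 : PSL(2, F)) : _ ⧸ H)) h4 h5
    (by rwa [stabilizer_quotient])
  rw [stabilizer_quotient] at key
  refine key.trans (or_congr Iff.rfl (or_congr ?_ ?_))
  · rw [pow_two_iff]
    exact and_congr_right fun h2 => (sylow_iff h2 H).symm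
  · rw [odd_pow_iff, and_assoc]

end Cfsg.Agent.S5736
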