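import Cfsg.Statements.S5735
import Cfsg.Agent.Class.U.U3Binary
import Cfsg.Agent.S5736
import Cfsg.Agent.S5737
import Cfsg.Agent.Bender.Cor

set_option autoImplicit false
open Cfsg

namespace Cfsg.Agent.S5735

open Matrix MatrixGroups Subgroup MulAction Cfsg.Agent.Chev Cfsg.Agent.Class.Dickson

section

variable {G G' : Type*} [Group G] [Group G']

theorem isBin_map (e : G ≃* G') {H : Subgroup G} (h : IsBin G (G ⧸ H)) :
    IsBin G' (G' ⧸ H.map e.toMonoidHom) := by
  let φ : G ⧸ H ≃ G' ⧸ H.map e.toMonoidHom := Quotient.congr e.toEquiv fun a b => by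
    rw [QuotientGroup.leftRel_apply, QuotientGroup.leftRel_apply, mem_map_equiv]
    simp
  have hφ : ∀ (g : G) (x : G ⧸ H), φ (g • x) = e g • φ x := by
    rintro g ⟨x⟩
    exact congrArg QuotientGroup.mk (map_mul e g x)
  have hφ' : ∀ (g : G) x y, g • φ.symm x = φ.symm y ↔ e g • x = y := fun g x y => by
    rw [Equiv.eq_symm_apply, hφ, φ.apply_symm_apply]
  intro n I J hn hIJ
  obtain ⟨g, hg⟩ := h n (φ.symm ∘ I) (φ.symm ∘ J) hn fun i j hij => by
    obtain ⟨g, h1, h2⟩ := hIJ i j hij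
    obtain ⟨g, rfl⟩ := e.surjective g
    exact ⟨g, (hφ' _ _ _).2 h1, (hφ' _ _ _).2 h2⟩
  exact ⟨e g, fun i => (hφ' _ _ _).1 (hg i)⟩

theorem map_symm_map (e : G ≃* G') (H : Subgroup G) :
    (H.map e.toMonoidHom).map e.symm.toMonoidHom = H := by
  ext; simp

theorem isBin_map_iff (e : G ≃* G') (H : Subgroup G) :
    IsBin G (G ⧸ H) ↔ IsBin G' (G' ⧸ H.map e.toMonoidHom) :=
  ⟨isBin_map e, fun h => map_symm_map e H ▸ isBin_map e.symm h⟩

theorem sylow_map [Finite G] (e : G ≃* G') {H : Subgroup G} (h : ∃ P : Sylow 2 G, H = P) :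
    ∃ P : Sylow 2 G', H.map e.toMonoidHom = P := by
  obtain ⟨P, rfl⟩ := h
  exact ⟨P.mapSurjective (f := e.toMonoidHom) e.surjective, rfl⟩

theorem center_map [Finite G] (e : G ≃* G') {H : Subgroup G}
    (h : ∃ P : Sylow 2 G, H = (center P).map (P : Subgroup G).subtype) :
    ∃ P : Sylow 2 G', H.map e.toMonoidHom = (center P).map (P : Subgroup G').subtype := by
  obtain ⟨P, rfl⟩ := h
  refine ⟨P.mapSurjective (f := e.toMonoidHom) e.surjective, Subgroup.ext fun x => ⟨?_, ?_⟩⟩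
  · rintro ⟨_, ⟨g, hg, rfl⟩, rfl⟩
    refine ⟨⟨_, g, g.2, rfl⟩, mem_center_iff.2 ?_, rfl⟩
    rintro ⟨_, k, hk, rfl⟩
    exact Subtype.ext ((map_mul e _ _).symm.trans
      ((congrArg (fun x => e x.1) (mem_center_iff.1 hg ⟨k, hk⟩)).trans (map_mul e _ _)))
  · rintro ⟨⟨_, g, hg, rfl⟩, hc, rfl⟩
    refine ⟨g, ⟨⟨g, hg⟩, mem_center_iff.2 fun k => Subtype.ext (e.injective ?_), rfl⟩, rfl⟩
    exact (map_mul e _ _).trans
      ((congrArg Subtype.val (mem_center_iff.1 hc ⟨_, k, k.2, rfl⟩)).trans (map_mul e _ _).symm)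

end

theorem nonempty_SL_equiv {F : Type*} [Field F] (h2 : (2 : F) = 0) :
    Nonempty (SL(2, F) ≃* PSL(2, F)) :=
  ⟨MulEquiv.ofBijective (pslMk F) ⟨(injective_iff_map_eq_one _).2 fun g hg =>
    (pslMk_eq_one_iff.1 hg).elim id fun e => e.trans (Subtype.ext (by
      ext i j
      simp only [SpecialLinearGroup.coe_neg, Matrix.neg_apply]
      linear_combination -(1 : SL(2, F)).1 i j * h2)), pslMk_surjective⟩⟩

/-- Let G be a finite simple group with exactly one conjugacy class of involutions, and let H be a proper subgroup of even order. Then the action of G on the cosets of H is binary if and only if one of the following holds: G ≅ SL₂(2^a) with a ≥ 2 and H is a Sylow 2-subgroup; G is a Suzuki group Sz(2^(2a+1)) with a ≥ 1 and H is the centre of a Sylow 2-subgroup; G ≅ PSU₃(2^a) with a ≥ 2 and H is the centre of a Sylow 2-subgroup. Here an action is binary (relational complexity 2) when, for every n ≥ 2 and all n-tuples I, J of points,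 if for every pair of positions some group element carries the corresponding pair of entries of I to those of J, then a single group element carries I to J. -/
theorem result {G : Type*} [Group G] [Finite G] [IsSimpleGroup G] (hinv : ∃ s : G, orderOf s = 2)
    (hone : ∀ s t : G, orderOf s = 2 → orderOf t = 2 → IsConj s t)
    (H : Subgroup G) (hH : H ≠ ⊤) (heven : Even (Nat.card H)) :
    (∀ (n : ℕ) (I J : Fin n → G ⧸ H), 2 ≤ n →
        (∀ i j : Fin n, i ≠ j → ∃ g : G, g • I i = J i ∧ g • I j = J j) → ∃ g : G, ∀ i, g • I i = J i) ↔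
      (((∃ (F : Type) (_ : Field F) (_ : Fintype F) (a : ℕ), 2 ≤ a ∧ Fintype.card F = 2 ^ a ∧ Nonempty (G ≃* Matrix.SpecialLinearGroup (Fin 2) F)) ∧
          ∃ P : Sylow 2 G, H = P) ∨
        (Cfsg.Lie.IsoSuzuki G ∧ ∃ P : Sylow 2 G, H = (Subgroup.center (P : Subgroup G)).map (P : Subgroup G).subtype) ∨
        ((∃ (F : Type) (_ : Field F) (_ : Fintype F) (a : ℕ), 2 ≤ a ∧ Fintype.card F = (2 ^ a) ^ 2 ∧ Nonempty (G ≃* Cfsg.PSU 3 F (2 ^ a))) ∧
          ∃ P : Sylow 2 G, H = (Subgroup.center (P : Subgroup G)).map (P : Subgroup G).subtype)) := by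
  have even : ∀ {G' : Type _} [Group G'] (e : G ≃* G'), H.map e.toMonoidHom ≠ ⊤ ∧
      Even (Nat.card (H.map e.toMonoidHom)) := fun e =>
    ⟨fun h => hH (by rw [← map_symm_map e H, h]; exact map_top_of_surjective _ e.symm.surjective),
      by rwa [card_map_of_injective e.injective]⟩
  have c1 : ∀ (F : Type) [Field F] [Fintype F] (a : ℕ), 2 ≤ a → Fintype.card F = 2 ^ a →
      (G ≃* PSL(2, F)) → (IsBin G (G ⧸ H) ↔ ∃ P : Sylow 2 G, H = P) := by
    intro F _ _ a ha hF e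
    obtain ⟨h1, h2⟩ := even e
    refine (isBin_map_iff e H).trans ((S5736.result (hF ▸ Bender.four_le_two_pow ha) (fun e => ?_) _
      h1).trans ⟨?_, fun h => Or.inr (Or.inl ⟨⟨a, hF⟩, sylow_map e h⟩)⟩)
    · have : Even (2 ^ a) := (Nat.even_pow' (by omega)).2 even_two
      rw [← hF, e] at this
      exact absurd this (by decide)
    rintro (h | ⟨-, h⟩ | ⟨-, h⟩)
    · rw [h, card_bot] at h2
      exact absurd h2 (by decide)
    · exact map_symm_map e H ▸ sylow_map e.symm h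
    · rw [h] at h2
      exact absurd h2 (by decide)
  have c2 : Cfsg.Lie.IsoSuzuki G → (IsBin G (G ⧸ H) ↔
      ∃ P : Sylow 2 G, H = (center P).map (P : Subgroup G).subtype) := by
    rintro ⟨F, _, _, m, hm, hF, ⟨e⟩⟩
    obtain ⟨h1, h2⟩ := even e
    have := Finite.of_equiv _ e.toEquiv
    refine (isBin_map_iff e H).trans ((S5737.result m hm hF _ h1).trans
      ⟨?_, fun h => Or.inr (center_map e h)⟩)
    rintro (h | h)
    · rw [h, card_bot] at h2
      exact absurd h2 (by decide)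
    · exact map_symm_map e H ▸ center_map e.symm h
  have c3 : ∀ (F : Type) [Field F] [Fintype F] (a : ℕ), 2 ≤ a → Fintype.card F = (2 ^ a) ^ 2 →
      (G ≃* PSU 3 F (2 ^ a)) → (IsBin G (G ⧸ H) ↔
        ∃ P : Sylow 2 G, H = (center P).map (P : Subgroup G).subtype) := by
    intro F _ _ a ha hF e
    obtain ⟨h1, h2⟩ := even e
    have := Class.U.UF.of_card hF
    have := Finite.of_equiv _ e.toEquiv
    refine (isBin_map_iff e H).trans ((Class.U.isBin_iff_PSU3 (fun s t hs ht => ?_)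
      (S5736.pow_two_iff.1 ⟨_, hF.trans (pow_mul 2 a 2).symm⟩)
      (lt_of_lt_of_le (by norm_num) (Bender.four_le_two_pow ha)) h1 h2).trans
      ⟨fun h => map_symm_map e H ▸ center_map e.symm h, center_map e⟩)
    simpa using e.toMonoidHom.map_isConj
      (hone (e.symm s) (e.symm t) (by rw [e.symm.orderOf_eq, hs]) (by rw [e.symm.orderOf_eq, ht]))
  refine Iff.trans (b := IsBin G (G ⧸ H)) Iff.rfl ⟨fun hb => ?_, ?_⟩
  · obtain ⟨s, hs⟩ := exists_prime_orderOf_dvd_card' (G := H) 2 heven.two_dvd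
    obtain ⟨s2, s1⟩ := orderOf_eq_prime_iff.1 ((orderOf_coe s).trans hs)
    obtain ⟨M, hM⟩ := hb.exists_SE (fun s t s1 s2 t1 t2 => hone s t (orderOf_eq_prime s2 s1)
      (orderOf_eq_prime t2 t1)) (ω := ((1 : G) : G ⧸ H)) (by rwa [stabilizer_quotient]) s1 s2
      (mem_stabilizer_iff.1 ((stabilizer_quotient H).ge s.2))
    have hna : ∃ a b : G, a * b ≠ b * a := by
      by_contra! h
      have : H.Normal := ⟨fun n hn g => by rwa [h g n, mul_inv_cancel_right]⟩
      rcases this.eq_bot_or_eq_top with e | e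
      · simp [e] at heven
      · exact hH e
    rcases Bender.ident_simple hna hM with ⟨F, _, _, a, ha, hF, ⟨e⟩⟩ | h | ⟨F, _, _, a, ha, hF, ⟨e⟩⟩
    · obtain ⟨e'⟩ := nonempty_SL_equiv (S5736.pow_two_iff.1 ⟨a, hF⟩)
      exact Or.inl ⟨⟨F, _, _, a, ha, hF, ⟨e.trans e'.symm⟩⟩, (c1 F a ha hF e).1 hb⟩
    · exact Or.inr (Or.inl ⟨h, (c2 h).1 hb⟩)
    · exact Or.inr (Or.inr ⟨⟨F, _, _, a, ha, hF, ⟨e⟩⟩, (c3 F a ha hF e).1 hb⟩)
  · rintro (⟨⟨F, _, _, a, ha, hF, ⟨e⟩⟩, h⟩ | ⟨h1, h⟩ | ⟨⟨F, _, _, a, ha, hF, ⟨e⟩⟩, h⟩)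
    · obtain ⟨e'⟩ := nonempty_SL_equiv (S5736.pow_two_iff.1 ⟨a, hF⟩)
      exact (c1 F a ha hF (e.trans e')).2 h
    · exact (c2 h1).2 h
    · exact (c3 F a ha hF e).2 h

end Cfsg.Agent.S5735
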