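import Cfsg.Statements.S5744
import Mathlib
import Cfsg.Agent.Chev.F22Three
import Cfsg.Agent.S1686
import Cfsg.Agent.S2604
import Cfsg.Agent.Spor.ModelO73

set_option autoImplicit false
open Cfsg

namespace Cfsg.Agent.S5744

/-- The simple group ²E₆(2) (the twisted group of type E₆ over the field with 4 elements) contains at least three pairwise non-conjugate subgroups isomorphic to the orthogonal group Ω₇(3) (the commutator subgroup of the isometry group of x₀² + x₁y₁ + x₂y₂ + x₃y₃ over the field with 3 elements). -/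
theorem result {K : Type*} [Field K] [Fintype K] (hK : Fintype.card K = 4) :
    ∃ H : Fin 3 → Subgroup (Cfsg.Lie.twistedE6 K 2),
      (∀ i, Nonempty ((H i) ≃* Cfsg.Omega (ZMod 3) (Cfsg.quadFormOdd 3 (ZMod 3)))) ∧
      (∀ i j, i ≠ j → ∀ g : (Cfsg.Lie.twistedE6 K 2), (H i).map (MulAut.conj g).toMonoidHom ≠ H j) := by
  haveI : Fact (Nat.Prime 3) := ⟨Nat.prime_three⟩
  obtain ⟨e⟩ := S1686.result
  obtain ⟨o⟩ := S2604.result (F := ZMod 3) (p := 3) (f := 1) (m := 3) le_rfl (by simp) (by decide)
    le_rfl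
  obtain ⟨H, h1, h2⟩ := Chev.F22.three hK ((Subgroup.subtype _).comp e.symm.toMonoidHom)
    (Subtype.val_injective.comp e.symm.injective)
    (fun x hx => ⟨e ⟨_, Subgroup.mem_map_of_mem _ (Subgroup.subset_closure
      (show FreeGroup.of x ∈ _ by cases x <;> simp at hx ⊢))⟩, by simp; rfl⟩)
    fun a => o.injective (by rw [map_mul, map_one]; generalize o a = b; revert b; decide)
  exact ⟨H, fun i => (h1 i).map fun f =>
    f.trans (Spor.ModelO73.equivP.trans Spor.ModelO73.equiv.symm), h2⟩

end Cfsg.Agent.S5744
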