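import Cfsg.Statements.S5849
import Cfsg.Agent.Class.Max.FrM
import Cfsg.Agent.Class.Max.LowTab
import Cfsg.Agent.Class.Max.C3J
import Cfsg.Agent.Class.Max.C3Z
import Cfsg.Agent.Class.Max.C5Inst

set_option autoImplicit false
open Cfsg

namespace Cfsg.Agent.S5849

open Cfsg.Agent.Class.Max

theorem not_plus {F : Type*} [Field F] [Fintype F] {κ : Type} [Fintype κ] [DecidableEq κ]
    {Q : (κ → F) → F} (hQ : Geo.IsNondegenerateQuadraticForm Q) (hminus : ¬ Geo.IsPlusTypeOn Q ⊤)
    {t : ℕ} {D : Fin t → Submodule F (κ → F)} (hD : Geo.IsOrthogonalMDecomposition Q 2 D) (i : Fin t) :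
    ¬ Geo.IsPlusTypeOn Q (D i) := by
  rintro ⟨U, hU, h1, h2⟩
  rw [hD.decomp.decomp.finrank_eq] at h2
  obtain ⟨u, hu, hu0⟩ := (Submodule.ne_bot_iff U).1 fun e => by rw [e, finrank_bot] at h2; omega
  choose e he using hD.isometric i
  have h3 : ∀ j, Q (e j ⟨u, hU hu⟩) = 0 := fun j => (he j _).trans (h1 u hu)
  have li : LinearIndependent F fun j => (e j ⟨u, hU hu⟩ : κ → F) :=
    hD.decomp.decomp.indep.linearIndependent _ (fun j => Subtype.prop _) fun j => by simpa using hu0
  refine hminus ⟨_, le_top, (Fm.ts_span (Φ := fmO hQ) ?_ ?_).1, by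
    rw [finrank_span_eq_card li, finrank_top, Module.finrank_fintype_fun_eq_card,
      ← finrank_of_isMDecomposition hD.decomp.decomp, Fintype.card_fin, mul_comm]⟩
  · rintro _ ⟨j, rfl⟩
    exact h3 j
  · rintro _ ⟨j, rfl⟩ _ ⟨k, rfl⟩
    by_cases h : j = k
    · exact h ▸ (fmO hQ).B_self (h3 j)
    · exact hD.decomp.orthogonal j k h _ (Subtype.prop _) _ (Subtype.prop _)


/-- Maximal subgroups of Ω_10^-(q) of geometric type (any q). Let F be a finite field with q elements (characteristic p), Q a non-degenerate quadratic form on F^10 (non-degenerate polar form) of minus type (Witt index 4: no totally singular 5-space), and Ω = Ω_10^-(q) the commutator subgroup of the isometry group of Q, inside GL_10(F). Each of the following, intersected with Ω, is a maximal subgroup of Ω: (1) the stabiliser of any non-zero subspace on which Q vanishes identically (totally singular subspaces, dimensions 1 to 4); (2) for q odd, the stabiliser of any proper subspace of odd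 dimension other than 5 on which the polar form of Q is non-degenerate; (3) the stabiliser of any non-degenerate 2-space of minus type (containing no non-zero singular vector); (4) for q ≥ 4, the stabiliser of any non-degenerate 2-space of plus type (containing a non-zero singular vector); (5) the stabiliser of any non-degenerate 4-space (either type); (6) for q even, the stabiliser of the 1-space spanned by any non-singular vector v (Q(v) ≠ 0); (7) for q = p prime with p ≡ 3 mod 4, the stabiliser of any decomposition of F^10 into 10 pairwise orthogonal, pairwise Q-isometric non-degenerate 1-spaces; (8) for q ≠ 3, the stabiliser of any decomposition of F^10 into 5 pairwise orthogonal, pairwise Q-isometric non-degenerate 2-spaces; (9) for q ≡ 3 mod 4, the stabiliser of any decomposition of F^10 into 2 pairwise orthogonal, pairwise Q-isometric non-degenerate 5-spaces; (10) for q ≡ 1 mod 4, the stabiliser of any decomposition of F^10 into two orthogonal non-degenerate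 5-spaces that are not Q-isometric; (11) for q odd, the normaliser of any degree-2 subfield K of the matrix algebra whose elements are self-adjoint for the polar form of Q (Q is then the trace of a quadratic form over K); (12) the normaliser of any degree-2 subfield K of the matrix algebra, closed under adjoints for the polar form but not self-adjoint, whose elements act as similarities of Q (so F^10 becomes a 5-dimensional space over K with a hermitian form, and the subgroup is of the type of the unitary group GU_5(q)); (13) every subfield group for a subfield F₀ with |F| = |F₀|^r, r an odd prime, whose F₀-structure carries a non-zero scalar multiple of Q. -/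
theorem result {F : Type*} [Field F] [Fintype F] (Q : (Fin 10 → F) → F) (hQ : Cfsg.Geo.IsNondegenerateQuadraticForm Q) (hminus : ¬ Cfsg.Geo.IsPlusTypeOn Q ⊤) :
    (∀ W : Submodule F (Fin 10 → F), W ≠ ⊥ → Cfsg.Geo.IsTotallySingularQuad Q W → Cfsg.Geo.IsMaximalIn (Cfsg.Geo.omegaGL Q) (Cfsg.Geo.subspaceStabilizer W ⊓ Cfsg.Geo.omegaGL Q)) ∧
    (Odd (Fintype.card F) → ∀ W : Submodule F (Fin 10 → F), W ≠ ⊥ → W ≠ ⊤ → Odd (Module.finrank F W) → 2 * Module.finrank F W ≠ 10 → Cfsg.Geo.IsNondegenerateOn (QuadraticMap.polar Q) W → Cfsg.Geo.IsMaximalIn (Cfsg.Geo.omegaGL Q) (Cfsg.Geo.subspaceStabilizer W ⊓ Cfsg.Geo.omegaGL Q)) ∧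
    (∀ W : Submodule F (Fin 10 → F), Module.finrank F W = 2 → Cfsg.Geo.IsNondegenerateOn (QuadraticMap.polar Q) W → ¬ Cfsg.Geo.IsPlusTypeOn Q W → Cfsg.Geo.IsMaximalIn (Cfsg.Geo.omegaGL Q) (Cfsg.Geo.subspaceStabilizer W ⊓ Cfsg.Geo.omegaGL Q)) ∧
    (4 ≤ Fintype.card F → ∀ W : Submodule F (Fin 10 → F), Module.finrank F W = 2 → Cfsg.Geo.IsNondegenerateOn (QuadraticMap.polar Q) W → Cfsg.Geo.IsPlusTypeOn Q W → Cfsg.Geo.IsMaximalIn (Cfsg.Geo.omegaGL Q) (Cfsg.Geo.subspaceStabilizer W ⊓ Cfsg.Geo.omegaGL Q)) ∧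
    (∀ W : Submodule F (Fin 10 → F), Module.finrank F W = 4 → Cfsg.Geo.IsNondegenerateOn (QuadraticMap.polar Q) W → Cfsg.Geo.IsMaximalIn (Cfsg.Geo.omegaGL Q) (Cfsg.Geo.subspaceStabilizer W ⊓ Cfsg.Geo.omegaGL Q)) ∧
    (¬ Odd (Fintype.card F) → ∀ v : (Fin 10 → F), Q v ≠ 0 → Cfsg.Geo.IsMaximalIn (Cfsg.Geo.omegaGL Q) (Cfsg.Geo.subspaceStabilizer (Submodule.span F {v}) ⊓ Cfsg.Geo.omegaGL Q)) ∧
    ((∃ p : ℕ, p.Prime ∧ Fintype.card F = p ∧ (p % 4 = 3)) → ∀ D : Fin 10 → Submodule F (Fin 10 → F), Cfsg.Geo.IsOrthogonalMDecomposition Q 1 D → Cfsg.Geo.IsMaximalIn (Cfsg.Geo.omegaGL Q) (Cfsg.Geo.decompositionStabilizer D ⊓ Cfsg.Geo.omegaGL Q)) ∧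
    (Fintype.card F ≠ 3 → ∀ D : Fin 5 → Submodule F (Fin 10 → F), Cfsg.Geo.IsOrthogonalMDecomposition Q 2 D → Cfsg.Geo.IsMaximalIn (Cfsg.Geo.omegaGL Q) (Cfsg.Geo.decompositionStabilizer D ⊓ Cfsg.Geo.omegaGL Q)) ∧
    (Fintype.card F % 4 = 3 → ∀ D : Fin 2 → Submodule F (Fin 10 → F), Cfsg.Geo.IsOrthogonalMDecomposition Q 5 D → Cfsg.Geo.IsMaximalIn (Cfsg.Geo.omegaGL Q) (Cfsg.Geo.decompositionStabilizer D ⊓ Cfsg.Geo.omegaGL Q)) ∧
    (Fintype.card F % 4 = 1 → ∀ D : Fin 2 → Submodule F (Fin 10 → F), Cfsg.Geo.IsNondegenerateMDecomposition (QuadraticMap.polar Q) 5 D → ¬ Cfsg.Geo.AreIsometricFor Q (D 0) (D 1) → Cfsg.Geo.IsMaximalIn (Cfsg.Geo.omegaGL Q) (Cfsg.Geo.decompositionStabilizer D ⊓ Cfsg.Geo.omegaGL Q)) ∧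
    (Odd (Fintype.card F) → ∀ K : Subalgebra F (Matrix (Fin 10) (Fin 10) F), Cfsg.Geo.IsFieldSubalgebra 2 K → Cfsg.Geo.IsSelfAdjointFor (QuadraticMap.polar Q) K → Cfsg.Geo.IsMaximalIn (Cfsg.Geo.omegaGL Q) (Cfsg.Geo.subalgebraNormalizer K ⊓ Cfsg.Geo.omegaGL Q)) ∧
    (∀ K : Subalgebra F (Matrix (Fin 10) (Fin 10) F), Cfsg.Geo.IsFieldSubalgebra 2 K → Cfsg.Geo.IsAdjointClosedFor (QuadraticMap.polar Q) K → ¬ Cfsg.Geo.IsSelfAdjointFor (QuadraticMap.polar Q) K → (∀ k ∈ K, ∃ c : F, ∀ v : (Fin 10 → F), Q (Matrix.mulVec k v) = c * Q v) → Cfsg.Geo.IsMaximalIn (Cfsg.Geo.omegaGL Q) (Cfsg.Geo.subalgebraNormalizer K ⊓ Cfsg.Geo.omegaGL Q)) ∧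
    (∀ (F₀ : Subfield F) (r : ℕ) (P : Matrix.GeneralLinearGroup (Fin 10) F) (ζ : F), r.Prime → Odd r → Fintype.card F = Nat.card F₀ ^ r → ζ ≠ 0 → Cfsg.Geo.IsQuadFormRationalStructure (fun v : Fin 10 → F => ζ * Q v) F₀ P → Cfsg.Geo.IsMaximalIn (Cfsg.Geo.omegaGL Q) (Cfsg.Geo.subfieldSubgroup F₀ P ⊓ Cfsg.Geo.omegaGL Q)) := by
  exact ⟨fun W h0 hW => o_ts_isMaximalIn hQ (by simp) h0 hW (Or.inl hminus),
    fun _ W _ _ h h5 hW => have := Nat.odd_iff.1 h
      o_nd_tab hQ (Fintype.card_fin 10) (by omega) (by omega) hW (by omega) (by omega) (by omega)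
        (by omega) (by omega),
    fun W h hW hp => o_nd_tab hQ (Fintype.card_fin 10) (by omega) (by omega) hW (by omega) (by omega)
      (by omega) (by omega) fun _ => Or.inr hp,
    fun hq W h hW _ => o_nd_tab hQ (Fintype.card_fin 10) (by omega) (by omega) hW (by omega) (by omega)
      (by omega) (by omega) fun _ => Or.inl hq,
    fun W h hW => o_nd_tab hQ (Fintype.card_fin 10) (by omega) (by omega) hW (by omega) (by omega)
      (by omega) (by omega) (by omega),
    fun _ v hv => o_point_isMaximalIn hQ (by simp) hv,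
    fun ⟨p, hp, h, _⟩ D hD => o_frame_isMaximalIn (h ▸ hp) (by simp) (by simp) hQ hD,
    fun hq D hD => o_dstab_isMaximalIn hQ hD le_rfl (by omega)
      (fun _ => ⟨le_rfl, hq, Or.inl (not_plus hQ hminus hD)⟩) (by omega) (by omega),
    fun hq D hD => o_dstab_isMaximalIn hQ hD (by omega) (by omega) (by omega) (by omega) (by omega),
    fun _ D hD h => o_pair_isMaximalIn hQ le_rfl hD h,
    fun h K hK hsa => oo_normalizer_isMaximalIn h Nat.prime_two (by simp) hQ hK hsa,
    fun K hK hac hn hs => uo_normalizer_isMaximalIn (by simp) hQ hK hac hn hs,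
    fun F₀ r P ζ hr _ hc hζ hP => subfield_isMaximalIn_omega (by simp) hQ F₀ hr hc P hζ hP⟩


end Cfsg.Agent.S5849
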