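import Cfsg.Statements.S5850
import Cfsg.Agent.Class.Asch.OEven

set_option autoImplicit false
open Cfsg

namespace Cfsg.Agent.S5850

/-- Every maximal subgroup of Ω_10^-(q) is of one of the listed geometric types or lies in the residual class. Let F be a finite field with q elements (characteristic p), Q a non-degenerate quadratic form on F^10 of minus type (Witt index 4: no totally singular 5-space), Ω the commutator subgroup of its isometry group, and H a maximal subgroup of Ω (inside GL_10(F)). Then H is the intersection with Ω of one of: the stabiliser of a non-zero totally singular subspace; for q odd, the stabiliser of a non-degenerate subspace of odd dimension ≠ 5; the stabiliser of a non-degenerate 2-space of minus type; for q ≥ 4, the stabiliser of a non-degenerate 2-space of plus type; the stabiliser of a non-degenerate 4-space; for q even, the stabiliser of the span of a non-singular vector; for q = p prime with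 p ≡ 3 mod 4, the stabiliser of a decomposition into 10 pairwise orthogonal, pairwise isometric non-degenerate 1-spaces; for q ≠ 3, the stabiliser of a decomposition into 5 pairwise orthogonal, pairwise isometric non-degenerate 2-spaces; for q ≡ 3 mod 4, the stabiliser of a decomposition into 2 pairwise orthogonal, pairwise isometric non-degenerate 5-spaces; for q ≡ 1 mod 4, the stabiliser of a decomposition into two orthogonal, non-isometric non-degenerate 5-spaces; for q odd, the normaliser of a degree-2 subfield of the matrix algebra, self-adjoint for the polar form; the normaliser of a degree-2 subfield K, adjoint-closed but not self-adjoint, acting by similarities of Q; a subfield group (|F| = |F₀|^r, r odd prime) whose F₀-structure carries a non-zero multiple of Q — or else H lies in the residual class of the orthogonal case (modulo scalars H is almost simple, with absolutely irreducible perfect socle preimage realisable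 over no proper subfield and fixing no non-degenerate unitary form). -/
theorem result {F : Type*} [Field F] [Fintype F] (Q : (Fin 10 → F) → F) (hQ : Cfsg.Geo.IsNondegenerateQuadraticForm Q) (hminus : ¬ Cfsg.Geo.IsPlusTypeOn Q ⊤) (H : Subgroup (Matrix.GeneralLinearGroup (Fin 10) F)) (hH : Cfsg.Geo.IsMaximalIn (Cfsg.Geo.omegaGL Q) H) :
    (∃ W : Submodule F (Fin 10 → F), W ≠ ⊥ ∧ Cfsg.Geo.IsTotallySingularQuad Q W ∧ H = Cfsg.Geo.subspaceStabilizer W ⊓ Cfsg.Geo.omegaGL Q) ∨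
    (Odd (Fintype.card F) ∧ ∃ W : Submodule F (Fin 10 → F), W ≠ ⊥ ∧ W ≠ ⊤ ∧ Odd (Module.finrank F W) ∧ 2 * Module.finrank F W ≠ 10 ∧ Cfsg.Geo.IsNondegenerateOn (QuadraticMap.polar Q) W ∧ H = Cfsg.Geo.subspaceStabilizer W ⊓ Cfsg.Geo.omegaGL Q) ∨
    (∃ W : Submodule F (Fin 10 → F), Module.finrank F W = 2 ∧ Cfsg.Geo.IsNondegenerateOn (QuadraticMap.polar Q) W ∧ ¬ Cfsg.Geo.IsPlusTypeOn Q W ∧ H = Cfsg.Geo.subspaceStabilizer W ⊓ Cfsg.Geo.omegaGL Q) ∨
    (4 ≤ Fintype.card F ∧ ∃ W : Submodule F (Fin 10 → F), Module.finrank F W = 2 ∧ Cfsg.Geo.IsNondegenerateOn (QuadraticMap.polar Q) W ∧ Cfsg.Geo.IsPlusTypeOn Q W ∧ H = Cfsg.Geo.subspaceStabilizer W ⊓ Cfsg.Geo.omegaGL Q) ∨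
    (∃ W : Submodule F (Fin 10 → F), Module.finrank F W = 4 ∧ Cfsg.Geo.IsNondegenerateOn (QuadraticMap.polar Q) W ∧ H = Cfsg.Geo.subspaceStabilizer W ⊓ Cfsg.Geo.omegaGL Q) ∨
    (¬ Odd (Fintype.card F) ∧ ∃ v : (Fin 10 → F), Q v ≠ 0 ∧ H = Cfsg.Geo.subspaceStabilizer (Submodule.span F {v}) ⊓ Cfsg.Geo.omegaGL Q) ∨
    ((∃ p : ℕ, p.Prime ∧ Fintype.card F = p ∧ (p % 4 = 3)) ∧ ∃ D : Fin 10 → Submodule F (Fin 10 → F), Cfsg.Geo.IsOrthogonalMDecomposition Q 1 D ∧ H = Cfsg.Geo.decompositionStabilizer D ⊓ Cfsg.Geo.omegaGL Q) ∨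
    (Fintype.card F ≠ 3 ∧ ∃ D : Fin 5 → Submodule F (Fin 10 → F), Cfsg.Geo.IsOrthogonalMDecomposition Q 2 D ∧ H = Cfsg.Geo.decompositionStabilizer D ⊓ Cfsg.Geo.omegaGL Q) ∨
    (Fintype.card F % 4 = 3 ∧ ∃ D : Fin 2 → Submodule F (Fin 10 → F), Cfsg.Geo.IsOrthogonalMDecomposition Q 5 D ∧ H = Cfsg.Geo.decompositionStabilizer D ⊓ Cfsg.Geo.omegaGL Q) ∨
    (Fintype.card F % 4 = 1 ∧ ∃ D : Fin 2 → Submodule F (Fin 10 → F), Cfsg.Geo.IsNondegenerateMDecomposition (QuadraticMap.polar Q) 5 D ∧ ¬ Cfsg.Geo.AreIsometricFor Q (D 0) (D 1) ∧ H = Cfsg.Geo.decompositionStabilizer D ⊓ Cfsg.Geo.omegaGL Q) ∨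
    (Odd (Fintype.card F) ∧ ∃ K : Subalgebra F (Matrix (Fin 10) (Fin 10) F), Cfsg.Geo.IsFieldSubalgebra 2 K ∧ Cfsg.Geo.IsSelfAdjointFor (QuadraticMap.polar Q) K ∧ H = Cfsg.Geo.subalgebraNormalizer K ⊓ Cfsg.Geo.omegaGL Q) ∨
    (∃ K : Subalgebra F (Matrix (Fin 10) (Fin 10) F), Cfsg.Geo.IsFieldSubalgebra 2 K ∧ Cfsg.Geo.IsAdjointClosedFor (QuadraticMap.polar Q) K ∧ ¬ Cfsg.Geo.IsSelfAdjointFor (QuadraticMap.polar Q) K ∧ (∀ k ∈ K, ∃ c : F, ∀ v : (Fin 10 → F), Q (Matrix.mulVec k v) = c * Q v) ∧ H = Cfsg.Geo.subalgebraNormalizer K ⊓ Cfsg.Geo.omegaGL Q) ∨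
    (∃ (F₀ : Subfield F) (r : ℕ) (P : Matrix.GeneralLinearGroup (Fin 10) F) (ζ : F), r.Prime ∧ Odd r ∧ Fintype.card F = Nat.card F₀ ^ r ∧ ζ ≠ 0 ∧ Cfsg.Geo.IsQuadFormRationalStructure (fun v : Fin 10 → F => ζ * Q v) F₀ P ∧ H = Cfsg.Geo.subfieldSubgroup F₀ P ⊓ Cfsg.Geo.omegaGL Q) ∨
    Cfsg.Geo.InOrthogonalResidualClass H := by
  have hq := Class.Max.nd_qfOf hQ
  have hm : ¬ Geo.IsPlusTypeOn ⇑(Class.Max.qfOf hQ) ⊤ := hminus
  have key : ∀ {t k : ℕ} {D : Fin t → Submodule F (Fin 10 → F)}, Odd (Fintype.card F) → Even t →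
      Geo.IsOrthogonalMDecomposition ⇑(Class.Max.qfOf hQ) k D → Fintype.card F % 4 = 3 := by
    intro t k D h1 h2 h3
    exact by_contra fun h4 => hm ((Class.Asch.IsOrthogonalMDecomposition.isPlus_iff
      (Class.QF.two_ne_zero_of_odd_card h1) hq h3 h2 (m := 5) (by simp)).2 (Or.inr h4))
  rcases Class.Asch.oEven (Q := Class.Max.qfOf hQ) hq (n := 10) (by simp) (by simp) hH with
    ⟨W, h0, h1, -, h⟩ | ⟨W, h0, h1, h2, h3, h4, h5, h, h'⟩ | h | ⟨t, k, D, h1, h2, h3, h4, h⟩ |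
    ⟨m, D, h1, h2, -⟩ | ⟨K, h1, h2, h3, h⟩ | ⟨K, h1, h2, h3, h4, -, h⟩ | h | h | h |
    ⟨F₀, r, B, ζ, h1, h2, h⟩ | h | h
  · exact Or.inl ⟨W, h0, h1, h⟩
  · by_cases ho : Odd (Module.finrank F W)
    · by_cases h6 : 2 * Module.finrank F W = 10
      swap
      · exact Or.inr <| Or.inl ⟨h4 ho, W, h0, h1, ho, h6, h3, h⟩
      obtain ⟨D, h7, h8⟩ := h' 5 (by omega) rfl
      iterate 8 right
      by_cases h9 : Geo.AreIsometricFor Q (D 0) (D 1)
      · have h10 := Class.Asch.orth_of_isometric h7 h9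
        exact Or.inl ⟨key (h4 ho) (by decide) h10, D, h10, h8⟩
      · have h11 := Nat.odd_iff.1 (h4 ho)
        exact Or.inr <| Or.inl ⟨by_contra fun h10 => h9 (Class.Asch.isometric_of_odd hq h7
          (by decide) (iff_of_false hm (by omega))), D, h7, h9, h8⟩
    have h6 := Submodule.finrank_eq_zero.not.2 h0
    rw [Nat.odd_iff] at ho
    obtain h7 | h7 : Module.finrank F W = 2 ∨ Module.finrank F W = 4 := by omega
    · by_cases hp : Geo.IsPlusTypeOn Q W
      · exact Or.inr <| Or.inr <| Or.inr <| Or.inl ⟨h5 h7 hp, W, h7, h3, hp, h⟩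
      · exact Or.inr <| Or.inr <| Or.inl ⟨W, h7, h3, hp, h⟩
    · exact Or.inr <| Or.inr <| Or.inr <| Or.inr <| Or.inl ⟨W, h7, h3, h⟩
  · exact Or.inr <| Or.inr <| Or.inr <| Or.inr <| Or.inr <| Or.inl h
  · have h5 : k ≤ 5 := by nlinarith
    iterate 6 right
    obtain ⟨rfl, rfl⟩ | ⟨rfl, rfl⟩ | ⟨rfl, rfl⟩ : (k = 1 ∧ t = 10) ∨ (k = 2 ∧ t = 5) ∨
        (k = 5 ∧ t = 2) := by interval_cases k <;> omega
    · exact Or.inl ⟨⟨_, h4.one rfl, rfl, key (h3 odd_one) (by decide) h4.dec⟩, D, h4.dec, h⟩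
    · exact Or.inr <| Or.inl ⟨fun h6 => by have := h4.three h6; omega, D, h4.dec, h⟩
    · exact Or.inr <| Or.inr <| Or.inl ⟨key (h3 (by decide)) (by decide) h4.dec, D, h4.dec, h⟩
  · rw [Nat.even_iff] at h2
    omega
  · iterate 10 right
    exact Or.inl ⟨h3 rfl, K, h1, h2, h⟩
  · iterate 11 right
    exact Or.inl ⟨K, h1, h2, h3, h4, h⟩
  · exact absurd h.1 (by decide)
  · exact absurd h.1 (by decide)
  · exact absurd h.1 (by decide)
  · iterate 12 right
    exact Or.inl ⟨F₀, r, B, ζ, h1, h2 hm, h⟩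
  · exact absurd h.1 (by decide)
  · iterate 13 right
    exact h

end Cfsg.Agent.S5850
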