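import Cfsg.Statements.S5852
import Cfsg.Agent.Class.Max.LowO
import Cfsg.Agent.Class.Max.C2Mon2
import Cfsg.Agent.Class.Max.C5Lin
import Cfsg.Agent.Sg11.Fin
import Cfsg.Agent.C11.Main

set_option autoImplicit false
open Cfsg

namespace Cfsg.Agent.S5852

open Cfsg.Agent.Class.Max

/-- Maximal subgroups of SL_11(q) of geometric type, for a finite field F with q elements (any q); p denotes the characteristic. Each of the following subgroups of GL_11(F), intersected with SL_11(F), is a maximal subgroup of SL_11(F): (1) the stabiliser of any proper non-zero subspace of F^11; (2) for q ≥ 5, the stabiliser of any decomposition of F^11 into 11 independent 1-spaces; (3) the normaliser of any degree-11 subfield of the 11 × 11 matrix algebra over F (a commutative subalgebra of dimension 11 in which every non-zero element is invertible); (4) every subfield group (a conjugate of GL_11(F₀) times the scalars of F) for a subfield F₀ with |F| = |F₀|^r, r prime; (5) for q = p prime with p ≡ 1 mod 11, or q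 = p⁵ with p ≡ 3, 4, 5 or 9 mod 11, the normaliser of any absolutely irreducible 11-subgroup R of exponent 11 and order 11^(1+2m) with centre of order 11, all of whose characteristic abelian subgroups are cyclic, F being the smallest field of characteristic p containing the eleventh roots of unity (here R is extraspecial of order 11³); (6) for q odd, the group of similarities of any non-degenerate quadratic form on F^11; (7) the group of similarities of any non-degenerate unitary form on F^11 (these exist exactly when q is a square). -/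
theorem result {F : Type*} [Field F] [Fintype F] :
    (∀ W : Submodule F (Fin 11 → F), W ≠ ⊥ → W ≠ ⊤ → Cfsg.Geo.IsMaximalIn (Cfsg.Geo.specialLinear (Fin 11) F) (Cfsg.Geo.subspaceStabilizer W ⊓ Cfsg.Geo.specialLinear (Fin 11) F)) ∧
    (5 ≤ Fintype.card F → ∀ D : Fin 11 → Submodule F (Fin 11 → F), Cfsg.Geo.IsMDecomposition 1 D → Cfsg.Geo.IsMaximalIn (Cfsg.Geo.specialLinear (Fin 11) F) (Cfsg.Geo.decompositionStabilizer D ⊓ Cfsg.Geo.specialLinear (Fin 11) F)) ∧
    (∀ K : Subalgebra F (Matrix (Fin 11) (Fin 11) F), Cfsg.Geo.IsFieldSubalgebra 11 K → Cfsg.Geo.IsMaximalIn (Cfsg.Geo.specialLinear (Fin 11) F) (Cfsg.Geo.subalgebraNormalizer K ⊓ Cfsg.Geo.specialLinear (Fin 11) F)) ∧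
    (∀ (F₀ : Subfield F) (r : ℕ) (P : Matrix.GeneralLinearGroup (Fin 11) F), r.Prime → Fintype.card F = Nat.card F₀ ^ r → Cfsg.Geo.IsMaximalIn (Cfsg.Geo.specialLinear (Fin 11) F) (Cfsg.Geo.subfieldSubgroup F₀ P ⊓ Cfsg.Geo.specialLinear (Fin 11) F)) ∧
    ((∃ p : ℕ, p.Prime ∧ CharP F p ∧ ((Fintype.card F = p ∧ p % 11 = 1) ∨ (Fintype.card F = p ^ 5 ∧ (p % 11 = 3 ∨ p % 11 = 4 ∨ p % 11 = 5 ∨ p % 11 = 9)))) → ∀ R : Subgroup (Matrix.GeneralLinearGroup (Fin 11) F), Cfsg.Geo.IsLinearSymplecticTypeData 11 R → Cfsg.Geo.IsMaximalIn (Cfsg.Geo.specialLinear (Fin 11) F) (Cfsg.Geo.subgroupNormalizer R ⊓ Cfsg.Geo.specialLinear (Fin 11) F)) ∧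
    (Odd (Fintype.card F) → ∀ Q : (Fin 11 → F) → F, Cfsg.Geo.IsNondegenerateQuadraticForm Q → Cfsg.Geo.IsMaximalIn (Cfsg.Geo.specialLinear (Fin 11) F) (Cfsg.Geo.quadSimilarityGroup Q ⊓ Cfsg.Geo.specialLinear (Fin 11) F)) ∧
    (∀ (σ : F ≃+* F) (f : (Fin 11 → F) → (Fin 11 → F) → F), Cfsg.Geo.IsUnitaryForm σ f → Cfsg.Geo.IsMaximalIn (Cfsg.Geo.specialLinear (Fin 11) F) (Cfsg.Geo.similarityGroup f ⊓ Cfsg.Geo.specialLinear (Fin 11) F)) := by
  refine ⟨fun W h0 h1 => isMaximalIn_of_equiv (glEquiv _ F) mem_specialLinear_iff (fun g => by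
      rw [Subgroup.mem_inf, Subgroup.mem_inf, mem_specialLinear_iff, mem_subspaceStabilizer_iff])
      (stab_isMaximalIn_SLV h0 h1),
    fun h D hD => lin_decomposition_isMaximalIn hD (by omega), fun K hK => ?_,
    fun F₀ r P hr hc => subfield_isMaximalIn_SL (by simp) F₀ hr hc P,
    fun ⟨p, hp, _, hq⟩ R hR => C11.c6 hp hq (R := R) hR,
    fun h Q hQ => o_similarity_isMaximalIn_five h hQ (by simp),
    fun σ f hf => u_similarity_isMaximalIn_six hf (by simp)⟩
  let := (isField_of hK).toField
  have : FiniteDimensional K (Fin 11 → F) := Module.Finite.of_finite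
  have h1 := Module.finrank_mul_finrank F K (Fin 11 → F)
  rw [hK.finrank_eq, Module.finrank_fintype_fun_eq_card, Fintype.card_fin] at h1
  exact isMaximalIn_of_equiv (glEquiv (Fin 11) F) (H' := GamL F K (Fin 11 → F) ⊓ SLV F _)
    mem_specialLinear_iff
    (fun g => and_congr (mem_subalgebraNormalizer_iff K g) (mem_specialLinear_iff g))
    (Sg11.GamL_isMaximalIn_one (by omega) (by rw [hK.finrank_eq]; norm_num) hK.finrank_eq.ge)

end Cfsg.Agent.S5852
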