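import Cfsg.Statements.S5874
import Cfsg.Agent.Class.Asch.OEven

set_option autoImplicit false
open Cfsg

namespace Cfsg.Agent.S5874

/-- Every maximal subgroup of Ω_12^-(q) is of one of the listed geometric types or lies in the residual class. Let F be a finite field with q elements (characteristic p), Q a non-degenerate quadratic form on F^12 of minus type (Witt index 5: no totally singular 6-space), Ω the commutator subgroup of its isometry group, and H a maximal subgroup of Ω (inside GL_12(F)). Then H is the intersection with Ω of one of: the stabiliser of a non-zero totally singular subspace; for q odd, the stabiliser of a non-degenerate subspace of odd dimension; the stabiliser of a non-degenerate 2-space of minus type; for q ≥ 4, the stabiliser of a non-degenerate 2-space of plus type; the stabiliser of a non-degenerate 4-space; the stabiliser of a non-degenerate 6-space; for q even, the stabiliser of the span of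 a non-singular vector; the stabiliser of a decomposition into 3 pairwise orthogonal, pairwise isometric non-degenerate 4-spaces of minus type; the normaliser of a degree-2 subfield of the matrix algebra; the normaliser of a degree-3 subfield of the matrix algebra; for q odd with q ≥ 5, the stabiliser of a tensor decomposition of the polar form into symmetric forms on F^3 and F^4 (minus type); a subfield group (|F| = |F₀|^r, r odd prime) whose F₀-structure carries a non-zero multiple of Q — or else H lies in the residual class of the orthogonal case (modulo scalars H is almost simple, with absolutely irreducible perfect socle preimage realisable over no proper subfield and fixing no non-degenerate unitary form). -/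
theorem result {F : Type*} [Field F] [Fintype F] (Q : (Fin 12 → F) → F) (hQ : Cfsg.Geo.IsNondegenerateQuadraticForm Q) (hminus : ¬ Cfsg.Geo.IsPlusTypeOn Q ⊤) (H : Subgroup (Matrix.GeneralLinearGroup (Fin 12) F)) (hH : Cfsg.Geo.IsMaximalIn (Cfsg.Geo.omegaGL Q) H) :
    (∃ W : Submodule F (Fin 12 → F), W ≠ ⊥ ∧ Cfsg.Geo.IsTotallySingularQuad Q W ∧ H = Cfsg.Geo.subspaceStabilizer W ⊓ Cfsg.Geo.omegaGL Q) ∨
    (Odd (Fintype.card F) ∧ ∃ W : Submodule F (Fin 12 → F), W ≠ ⊥ ∧ W ≠ ⊤ ∧ Odd (Module.finrank F W) ∧ 2 * Module.finrank F W ≠ 12 ∧ Cfsg.Geo.IsNondegenerateOn (QuadraticMap.polar Q) W ∧ H = Cfsg.Geo.subspaceStabilizer W ⊓ Cfsg.Geo.omegaGL Q) ∨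
    (∃ W : Submodule F (Fin 12 → F), Module.finrank F W = 2 ∧ Cfsg.Geo.IsNondegenerateOn (QuadraticMap.polar Q) W ∧ ¬ Cfsg.Geo.IsPlusTypeOn Q W ∧ H = Cfsg.Geo.subspaceStabilizer W ⊓ Cfsg.Geo.omegaGL Q) ∨
    (4 ≤ Fintype.card F ∧ ∃ W : Submodule F (Fin 12 → F), Module.finrank F W = 2 ∧ Cfsg.Geo.IsNondegenerateOn (QuadraticMap.polar Q) W ∧ Cfsg.Geo.IsPlusTypeOn Q W ∧ H = Cfsg.Geo.subspaceStabilizer W ⊓ Cfsg.Geo.omegaGL Q) ∨
    (∃ W : Submodule F (Fin 12 → F), Module.finrank F W = 4 ∧ Cfsg.Geo.IsNondegenerateOn (QuadraticMap.polar Q) W ∧ H = Cfsg.Geo.subspaceStabilizer W ⊓ Cfsg.Geo.omegaGL Q) ∨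
    (∃ W : Submodule F (Fin 12 → F), Module.finrank F W = 6 ∧ Cfsg.Geo.IsNondegenerateOn (QuadraticMap.polar Q) W ∧ H = Cfsg.Geo.subspaceStabilizer W ⊓ Cfsg.Geo.omegaGL Q) ∨
    (¬ Odd (Fintype.card F) ∧ ∃ v : (Fin 12 → F), Q v ≠ 0 ∧ H = Cfsg.Geo.subspaceStabilizer (Submodule.span F {v}) ⊓ Cfsg.Geo.omegaGL Q) ∨
    (∃ D : Fin 3 → Submodule F (Fin 12 → F), Cfsg.Geo.IsOrthogonalMDecomposition Q 4 D ∧ (∀ i, ¬ Cfsg.Geo.IsPlusTypeOn Q (D i)) ∧ H = Cfsg.Geo.decompositionStabilizer D ⊓ Cfsg.Geo.omegaGL Q) ∨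
    (∃ K : Subalgebra F (Matrix (Fin 12) (Fin 12) F), Cfsg.Geo.IsFieldSubalgebra 2 K ∧ H = Cfsg.Geo.subalgebraNormalizer K ⊓ Cfsg.Geo.omegaGL Q) ∨
    (∃ K : Subalgebra F (Matrix (Fin 12) (Fin 12) F), Cfsg.Geo.IsFieldSubalgebra 3 K ∧ H = Cfsg.Geo.subalgebraNormalizer K ⊓ Cfsg.Geo.omegaGL Q) ∨
    (Odd (Fintype.card F) ∧ 5 ≤ Fintype.card F ∧ ∃ (e : Fin 12 ≃ Fin 3 × Fin 4) (P : Matrix.GeneralLinearGroup (Fin 12) F) (f₁ : (Fin 3 → F) → (Fin 3 → F) → F) (f₂ : (Fin 4 → F) → (Fin 4 → F) → F), Cfsg.Geo.IsSymmetricForm f₁ ∧ Cfsg.Geo.IsSymmetricForm f₂ ∧ ¬ Cfsg.Geo.IsPlusTypeOn (fun v : Fin 4 → F => f₂ v v) ⊤ ∧ Cfsg.Geo.IsTensorFormStructure id (QuadraticMap.polar Q) f₁ f₂ e P ∧ H = Cfsg.Geo.tensorProductSubgroup 3 4 e P ⊓ Cfsg.Geo.omegaGL Q) ∨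
    (∃ (F₀ : Subfield F) (r : ℕ) (P : Matrix.GeneralLinearGroup (Fin 12) F) (ζ : F), r.Prime ∧ Odd r ∧ Fintype.card F = Nat.card F₀ ^ r ∧ ζ ≠ 0 ∧ Cfsg.Geo.IsQuadFormRationalStructure (fun v : Fin 12 → F => ζ * Q v) F₀ P ∧ H = Cfsg.Geo.subfieldSubgroup F₀ P ⊓ Cfsg.Geo.omegaGL Q) ∨
    Cfsg.Geo.InOrthogonalResidualClass H := by
  have hq := Class.Max.nd_qfOf hQ
  have hm : ¬ Geo.IsPlusTypeOn ⇑(Class.Max.qfOf hQ) ⊤ := hminus
  rcases Class.Asch.oEven (Q := Class.Max.qfOf hQ) hq (n := 12) (by simp) (by simp) hH with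
    ⟨W, h0, h1, -, h⟩ | ⟨W, h0, h1, h2, h3, h4, h5, h, -⟩ | h | ⟨t, k, D, h1, h2, h3, h4, h⟩ |
    ⟨m, D, -, -, h1, h2, -⟩ | ⟨K, h1, -, -, h⟩ | ⟨K, h1, -, -, -, -, h⟩ | h | h | h |
    ⟨F₀, r, B, ζ, h1, h2, h⟩ | h | h
  · exact Or.inl ⟨W, h0, h1, h⟩
  · by_cases ho : Odd (Module.finrank F W)
    · exact Or.inr <| Or.inl ⟨h4 ho, W, h0, h1, ho, by rw [Nat.odd_iff] at ho; omega, h3, h⟩
    have h6 := Submodule.finrank_eq_zero.not.2 h0
    rw [Nat.odd_iff] at ho
    obtain h7 | h7 | h7 : Module.finrank F W = 2 ∨ Module.finrank F W = 4 ∨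
      Module.finrank F W = 6 := by omega
    · by_cases hp : Geo.IsPlusTypeOn Q W
      · exact Or.inr <| Or.inr <| Or.inr <| Or.inl ⟨h5 h7 hp, W, h7, h3, hp, h⟩
      · exact Or.inr <| Or.inr <| Or.inl ⟨W, h7, h3, hp, h⟩
    · exact Or.inr <| Or.inr <| Or.inr <| Or.inr <| Or.inl ⟨W, h7, h3, h⟩
    · exact Or.inr <| Or.inr <| Or.inr <| Or.inr <| Or.inr <| Or.inl ⟨W, h7, h3, h⟩
  · iterate 6 right
    exact Or.inl h
  · have h5 : k ≤ 6 := by nlinarith
    have key : Odd k → Even t → False := fun a b =>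
      hm ((Class.Asch.IsOrthogonalMDecomposition.isPlus_iff
        (Class.QF.two_ne_zero_of_odd_card (h3 a)) hq h4.dec b (m := 6) (by simp)).2
          (Or.inl (by decide)))
    obtain ⟨rfl, rfl⟩ | ⟨rfl, rfl⟩ | ⟨rfl, rfl⟩ | ⟨rfl, rfl⟩ | ⟨rfl, rfl⟩ : (k = 1 ∧ t = 12) ∨
        (k = 2 ∧ t = 6) ∨ (k = 3 ∧ t = 4) ∨ (k = 4 ∧ t = 3) ∨ (k = 6 ∧ t = 2) := by
      interval_cases k <;> omega
    · exact (key (by decide) (by decide)).elim
    · exact absurd (Class.Asch.IsOrthogonalMDecomposition.isPlus_of_even h4.dec (by decide)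
        (by decide)) hm
    · exact (key (by decide) (by decide)).elim
    · iterate 7 right
      exact Or.inl ⟨D, h4.dec, fun i h6 =>
        hm (Class.Asch.IsOrthogonalMDecomposition.isPlus_of_block h4.dec h6), h⟩
    · exact absurd (Class.Asch.IsOrthogonalMDecomposition.isPlus_of_even h4.dec (by decide)
        (by decide)) hm
  · exact absurd (Class.Asch.isPlus_of_ts_pair h1 h2) hm
  · iterate 8 right
    exact Or.inl ⟨K, h1, h⟩
  · iterate 8 right
    exact Or.inl ⟨K, h1, h⟩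
  · iterate 9 right
    exact Or.inl h.2
  · iterate 10 right
    exact Or.inl h.2.2
  · exact absurd h.2.1 hm
  · iterate 11 right
    exact Or.inl ⟨F₀, r, B, ζ, h1, h2 hm, h⟩
  · exact absurd h.1 (by decide)
  · iterate 12 right
    exact h

end Cfsg.Agent.S5874
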