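import Cfsg.Statements.S5905
import Mathlib
import Cfsg.Agent.KSG.PartStab

set_option autoImplicit false
open Cfsg

namespace Cfsg.Agent.S5905


/-- Let Ω be a finite set and f : Ω → Fin b a map onto b ≥ 2 labels whose fibres all have the same size a ≥ 2 (a partition of Ω into b blocks of size a, so |Ω| = ab). Then the stabilizer of this partition in the symmetric group on Ω — the permutations g such that x and y lie in the same block exactly when g x and g y do, a group isomorphic to the imprimitive wreath product S_a ≀ S_b — is a maximal subgroup of the symmetric group. -/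
theorem result {Ω : Type*} [Fintype Ω] [DecidableEq Ω] (a b : ℕ) (ha : 2 ≤ a) (hb : 2 ≤ b)
    (f : Ω → Fin b) (hf : ∀ i : Fin b, Nat.card {x : Ω // f x = i} = a) :
    IsCoatom (Subgroup.closure {g : Equiv.Perm Ω | ∀ x y : Ω, f x = f y ↔ f (g x) = f (g y)}) := by
  rw [KSG.closure_eq_partStab]
  refine ⟨fun h => KSG.partStab_alt_ne ha hb hf (h ▸ le_top), fun H hH => ?_⟩
  obtain ⟨e, he⟩ := KSG.exists_equiv_of_fibers a f hf
  have hprim : MulAction.IsPreprimitive H Ω := by
    refine KSG.isPreprimitive_of_pairs (f := f) (fun u u' => ?_) (fun u v u' v' h h' hff => ?_)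
      (not_le_of_gt hH)
    · obtain ⟨w, hw, h⟩ := KSG.exists_mem_partStab_alt_apply ha hb hf u u'
      exact ⟨w, hH.le hw.1, h⟩
    · obtain ⟨w, hw, h⟩ := KSG.exists_mem_partStab_pair e he h h' hff
      exact ⟨w, hH.le hw, h⟩
  obtain ⟨p, q, hpq, hp, hq⟩ := KSG.exists_pair_in_fiber ha hf ⟨0, by omega⟩
  exact Equiv.Perm.subgroup_eq_top_of_isPreprimitive_of_isSwap_mem hprim (Equiv.swap p q)
    ⟨p, q, hpq, rfl⟩ (hH.le (KSG.swap_mem_partStab (hp.trans hq.symm)))

end Cfsg.Agent.S5905
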