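import Cfsg.Statements.S5894
import Mathlib
import Cfsg.Agent.KSG.PartStab
import Cfsg.Agent.KSG.AutSym
import Cfsg.Agent.S5905

set_option autoImplicit false
open Cfsg

namespace Cfsg.Agent.S5894

open Equiv Equiv.Perm KSG
open scoped Pointwise


/-- For every m ≥ 2 the symmetric group on 2m letters has a maximal subgroup M of index 2m together with a maximal subgroup H of M that is not second maximal: some maximal subgroup K of the symmetric group contains H without H being maximal in K. (One may take M the stabiliser of a letter, H ≅ S_m × S_{m−1} inside it, and K ≅ S_m ≀ S₂ the stabiliser of a partition into two m-sets, with H < S_m × S_m < K.) So the prime-index hypothesis in the second-maximality criterion cannot be relaxed to any even index ≥ 4. -/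
theorem result (m : ℕ) (hm : 2 ≤ m) :
    ∃ M H K : Subgroup (Equiv.Perm (Fin (2 * m))), IsCoatom M ∧ M.index = 2 * m ∧ H ≤ M ∧ IsCoatom (H.subgroupOf M) ∧
      IsCoatom K ∧ H ≤ K ∧ ¬ IsCoatom (H.subgroupOf K) := by
  let e : Fin 2 × Fin m ≃ Fin (2 * m) := finProdFinEquiv
  let f : Fin (2 * m) → Fin 2 := fun x => (e.symm x).1
  have hf : ∀ i, Nat.card {x // f x = i} = m := by
    intro i
    have : {x // f x = i} ≃ Fin m :=
      { toFun := fun x => (e.symm x.1).2
        invFun := fun j => ⟨e (i, j), by simp [f]⟩
        left_inv := by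
          rintro ⟨x, rfl⟩
          simp [f]
        right_inv := fun j => by simp }
    simpa using Nat.card_congr this
  let o : Fin (2 * m) := e (0, ⟨0, by omega⟩)
  let o' : Fin (2 * m) := e (0, ⟨1, by omega⟩)
  let o'' : Fin (2 * m) := e (1, ⟨0, by omega⟩)
  have ho : f o = 0 := by simp [f, o]
  have ho' : f o' = 0 := by simp [f, o']
  have ho'' : f o'' = 1 := by simp [f, o'']
  have hoo : o' ≠ o := by simp [o, o']
  have hK := S5905.result m 2 hm le_rfl f hf
  rw [closure_eq_partStab] at hK
  let M := MulAction.stabilizer (Perm (Fin (2 * m))) o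
  let F : Subgroup (Perm (Fin (2 * m))) :=
    { carrier := {g | ∀ x, f (g x) = f x}
      one_mem' := fun _ => rfl
      mul_mem' := fun {g h} hg hh x => (hg _).trans (hh _)
      inv_mem' := fun {g} hg x => by simpa using (hg (g⁻¹ x)).symm }
  have hFK : F ≤ partStab f := fun g hg => mem_partStab_of_perm id Function.injective_id hg
  have hsw : ∀ p q, f p = f q → swap p q ∈ F := by
    intro p q h x
    rw [swap_apply_def]
    split_ifs with h1 h2
    · rw [h1, h]
    · rw [h2, h]
    · rfl
  refine ⟨M, M ⊓ F, partStab f, ?_, ?_, inf_le_left, ⟨?_, ?_⟩, hK, inf_le_right.trans hFK, ?_⟩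
  · have : Nontrivial (Fin (2 * m)) := ⟨o', o, hoo⟩
    exact (MulAction.isCoatom_stabilizer_iff_preprimitive _ o).2 inferInstance
  · simpa using KSG.index_stabilizer_perm o
  · intro h
    obtain ⟨p, q, hpq, hp, hq⟩ := exists_pair_in_fiber hm hf 1
    have h1 : swap o' p ∈ M := by
      apply swap_apply_of_ne_of_ne hoo.symm
      rintro rfl; simp [ho] at hp
    have := (Subgroup.subgroupOf_eq_top.1 h h1).2 o'
    simp [hp, ho'] at this
  · intro L hL
    obtain ⟨g, hg, hgF⟩ := SetLike.exists_of_lt hL
    have hsw' : ∀ p q (hp : o ≠ p) (hq : o ≠ q), f p = f q →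
        (⟨swap p q, swap_apply_of_ne_of_ne hp hq⟩ : M) ∈ L := fun p q hp hq h =>
      hL.le ⟨swap_apply_of_ne_of_ne hp hq, hsw p q h⟩
    let H := L.map M.subtype
    have hHM : ∀ k ∈ H, k o = o := by rintro _ ⟨k, -, rfl⟩; exact k.2
    have s1 : ∀ p q, o ≠ p → o ≠ q → f p = f q → swap p q ∈ H := fun p q hp hq h =>
      ⟨_, hsw' p q hp hq h, rfl⟩
    have h01 : ∀ i : Fin 2, i = 0 ∨ i = 1 := by decide
    obtain ⟨u, v, hu, hv, hu0, hv1, huv⟩ :
        ∃ u v, o ≠ u ∧ o ≠ v ∧ f u = 0 ∧ f v = 1 ∧ swap u v ∈ H := by
      have hgH : g.1 ∈ H := ⟨g, hg, rfl⟩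
      have hne : ∀ k ∈ H, ∀ x, f x = 1 → o ≠ k x := by
        intro k hk x hx e
        have : x = o := k.injective (by rw [← e, hHM k hk])
        simp [this, ho] at hx
      have key : ∀ k ∈ H, ∀ x, f x = 1 → f (k x) = 0 →
          ∃ u v, o ≠ u ∧ o ≠ v ∧ f u = 0 ∧ f v = 1 ∧ swap u v ∈ H := by
        intro k hk x hx hkx
        obtain ⟨y, hy, hky⟩ : ∃ y, f y = 1 ∧ f (k y) = 1 := by
          by_contra! hc
          have hc' : ∀ y, f y = 1 → f (k y) = 0 := fun y hy => (h01 _).resolve_right (hc y hy)
          let j : {y // f y = 1} → {y // f y = 0} := fun y => ⟨k y, hc' y y.2⟩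
          have hj : Function.Injective j := fun a b h =>
            Subtype.ext (k.injective (congrArg Subtype.val h))
          have hs := (hj.bijective_of_nat_card_le (by rw [hf, hf])).2
          obtain ⟨y, hy⟩ := hs ⟨o, ho⟩
          exact hne k hk y y.2 (congrArg Subtype.val hy).symm
        refine ⟨k x, k y, hne k hk x hx, hne k hk y hy, hkx, hky, ?_⟩
        rw [swap_apply_apply]
        refine mul_mem (mul_mem hk (s1 x y ?_ ?_ (hx.trans hy.symm))) (inv_mem hk)
        · rintro rfl; simp [ho] at hx
        · rintro rfl; simp [ho] at hy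
      by_contra hc
      apply hgF
      refine ⟨g.2, fun x => ?_⟩
      rcases h01 (f x) with h | h
      · rcases h01 (f (g.1 x)) with h' | h'
        · exact h'.trans h.symm
        · exact (hc (key g.1⁻¹ (inv_mem hgH) (g.1 x) h' (by simpa using h))).elim
      · rcases h01 (f (g.1 x)) with h' | h'
        · exact (hc (key g.1 hgH x h h')).elim
        · exact h'.trans h.symm
    have s2 : ∀ p, o ≠ p → swap u p ∈ H := by
      intro p hp
      rcases h01 (f p) with h | h
      · exact s1 u p hu hp (hu0.trans h.symm)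
      · have h3 := s1 v p hv hp (hv1.trans h.symm)
        have := mul_mem (mul_mem h3 huv) (inv_mem h3)
        rw [← swap_apply_apply, swap_apply_left, swap_apply_of_ne_of_ne] at this
        · exact this
        · rintro rfl; simp [hu0] at hv1
        · rintro rfl; simp [hu0] at h
    have s3 : ∀ p q, o ≠ p → o ≠ q → swap p q ∈ H := by
      intro p q hp hq
      by_cases h1 : q = u
      · rw [h1, swap_comm]; exact s2 p hp
      by_cases h2 : q = p
      · rw [h2, swap_self]; exact one_mem H
      have := mul_mem (mul_mem (s2 p hp) (s2 q hq)) (inv_mem (s2 p hp))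
      rwa [← swap_apply_apply, swap_apply_left, swap_apply_of_ne_of_ne h1 h2] at this
    rw [eq_top_iff]
    rintro ⟨k, hk⟩ -
    suffices k ∈ H by
      obtain ⟨k', h1, h2⟩ := this
      rwa [← Subtype.ext (a1 := k') (a2 := ⟨k, hk⟩) h2]
    have hk' : ∀ x, o ≠ k x ↔ o ≠ x := by
      intro x
      have : k o = o := hk
      conv_lhs => rw [← this]
      exact k.injective.ne_iff
    have : k = ofSubtype (k.subtypePerm hk') := by
      rw [ofSubtype_subtypePerm]
      intro x hx
      rintro rfl
      exact hx hk
    rw [this]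
    generalize k.subtypePerm hk' = t
    induction t using swap_induction_on with
    | one => simp
    | swap_mul t x y hxy ih =>
      rw [map_mul, ofSubtype_swap_eq]
      exact mul_mem (s3 _ _ x.2 y.2) ih
  · intro hc
    have h1 : (M ⊓ F).subgroupOf (partStab f) < F.subgroupOf (partStab f) := by
      refine lt_of_le_of_ne (Subgroup.comap_mono inf_le_right) fun h => ?_
      have : (⟨swap o o', swap_mem_partStab (ho.trans ho'.symm)⟩ : partStab f) ∈
          F.subgroupOf (partStab f) := hsw o o' (ho.trans ho'.symm)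
      rw [← h] at this
      have : swap o o' o = o := this.1
      simp [hoo] at this
    have h2 := Subgroup.subgroupOf_eq_top.1 (hc.2 _ h1)
    obtain ⟨w, hw, h⟩ := exists_mem_partStab_alt_apply hm le_rfl hf o o''
    have := h2 hw.1 o
    simp [h, ho, ho''] at this

end Cfsg.Agent.S5894
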