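import Cfsg.Statements.S5914
import Cfsg.Agent.Perm.SimplePower

set_option autoImplicit false
open Cfsg

namespace Cfsg.Agent.S5914

theorem charSimple_pi (S : Type*) [Group S] [IsSimpleGroup S] (n : ℕ) (H : Subgroup (Fin n → S))
    [hH : H.Characteristic] : H = ⊥ ∨ H = ⊤ := by
  classical
  by_cases h0 : H = ⊥
  · exact Or.inl h0
  right
  obtain ⟨⟨x, hx⟩, hx1⟩ := Subgroup.ne_bot_iff_exists_ne_one.1 h0
  obtain ⟨i, hi⟩ : ∃ i, x i ≠ 1 := by
    by_contra h
    push Not at h
    exact hx1 (Subtype.ext (funext h))
  have haut : ∀ φ : (Fin n → S) ≃* (Fin n → S), ∀ y ∈ H, φ y ∈ H := fun φ y hy =>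
    (Subgroup.characteristic_iff_le_comap.1 hH φ) hy
  obtain ⟨j, hj⟩ : ∃ j, ∀ t : S, Pi.mulSingle j t ∈ H := by
    by_cases hS : IsMulCommutative S
    swap
    · exact ⟨i, Perm.mulSingle_mem_of_normal H i hS hx hi⟩
    obtain ⟨j, hj⟩ : ∃ j, Pi.mulSingle j (x i) ∈ H := by
      by_cases h : ∃ j, j ≠ i
      · obtain ⟨j, hj⟩ := h
        let φ : (Fin n → S) ≃* (Fin n → S) :=
          { toFun := fun y => y * Pi.mulSingle j (y i)
            invFun := fun y => y * Pi.mulSingle j (y i)⁻¹
            left_inv := fun y => by simp [hj.symm, mul_assoc, ← Pi.mulSingle_mul]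
            right_inv := fun y => by simp [hj.symm, mul_assoc, ← Pi.mulSingle_mul]
            map_mul' := fun y z => by
              rw [Pi.mul_apply, Pi.mulSingle_mul, mul_assoc, mul_assoc, ← mul_assoc z,
                mul_comm' z, mul_assoc] }
        exact ⟨j, (H.mul_mem_cancel_left hx).1 (haut φ x hx)⟩
      · push Not at h
        refine ⟨i, ?_⟩
        convert hx
        funext k
        simp [h k]
    refine ⟨j, fun t => ?_⟩
    have h1 : (H.comap (MonoidHom.mulSingle (fun _ => S) j)).Normal := inferInstance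
    have h2 := h1.eq_bot_or_eq_top.resolve_left fun e => hi (by
      have : x i ∈ H.comap (MonoidHom.mulSingle (fun _ => S) j) := hj
      rwa [e] at this)
    have : t ∈ H.comap (MonoidHom.mulSingle (fun _ => S) j) := h2 ▸ Subgroup.mem_top t
    exact this
  rw [eq_top_iff]
  refine fun y _ => Subgroup.pi_mem_of_mulSingle_mem y fun k => ?_
  convert haut (MulEquiv.arrowCongr (Equiv.swap j k) (MulEquiv.refl S)) _ (hj (y k))
  funext l
  by_cases h : l = k
  · simp [h]
  · have : Equiv.swap j k l ≠ j := fun e => h (by simpa using congrArg (Equiv.swap j k) e)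
    simp [h, this]

/-- A non-trivial finite group G is characteristically simple (its only characteristic subgroups are 1 and G) if and only if G is isomorphic to a direct power S^n (n ≥ 1) of some simple group S (possibly cyclic of prime order). -/
theorem result {G : Type*} [Group G] [Finite G] [Nontrivial G] :
    (∀ H : Subgroup G, H.Characteristic → H = ⊥ ∨ H = ⊤) ↔
    ∃ (S : Type) (_ : Group S) (_ : IsSimpleGroup S) (n : ℕ), 1 ≤ n ∧ Nonempty (G ≃* (Fin n → S)) := by
  constructor
  · intro h
    let φ : MulAut G →* MulAut G := MonoidHom.id _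
    let N : Subgroup (G ⋊[φ] MulAut G) := (SemidirectProduct.inl : G →* G ⋊[φ] MulAut G).range
    have hN : N.Normal := by
      rw [show N = _ from SemidirectProduct.range_inl_eq_ker_rightHom]
      infer_instance
    have : Finite (G ⋊[φ] MulAut G) := Finite.of_equiv _ SemidirectProduct.equivProd.symm
    have e : G ≃* N := MonoidHom.ofInjective SemidirectProduct.inl_injective
    obtain ⟨T, _, m, h1, h2, ⟨f⟩⟩ := Perm.exists_simple_type_mulEquiv_pi N
      ((Subgroup.nontrivial_iff_ne_bot N).1 e.symm.nontrivial) fun M hM hle => by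
        have h3 : (M.comap SemidirectProduct.inl).Characteristic :=
          Subgroup.characteristic_iff_le_comap.2 fun ψ x hx => by
            have := hM.conj_mem _ hx (SemidirectProduct.inr ψ)
            rwa [← map_inv, ← SemidirectProduct.inl_aut] at this
        have h4 := Subgroup.map_comap_eq_self hle
        rcases h _ h3 with h5 | h5 <;> rw [h5] at h4
        · exact Or.inl (h4 ▸ Subgroup.map_bot _)
        · exact Or.inr (h4 ▸ (MonoidHom.range_eq_map _).symm)
    exact ⟨T, _, h1, m, h2, ⟨e.trans f⟩⟩
  · rintro ⟨S, _, _, n, -, ⟨e⟩⟩ H hH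
    have : (H.comap e.symm.toMonoidHom).Characteristic :=
      Subgroup.characteristic_iff_le_comap.2 fun ψ x hx => by
        simpa using Subgroup.characteristic_iff_le_comap.1 hH ((e.trans ψ).trans e.symm) hx
    have h1 := Subgroup.map_comap_eq_self_of_surjective (f := e.symm.toMonoidHom) e.symm.surjective H
    rcases charSimple_pi S n (H.comap e.symm.toMonoidHom) with h | h <;> rw [h] at h1
    · exact Or.inl (h1 ▸ Subgroup.map_bot _)
    · exact Or.inr (h1 ▸ Subgroup.map_top_of_surjective _ e.symm.surjective)

end Cfsg.Agent.S5914
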