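import Cfsg.Statements.S5895
import Cfsg.Agent.S5914

set_option autoImplicit false
open Cfsg

namespace Cfsg.Agent.S5895

open SemidirectProduct

def Irr {V : Type} [Group V] (M : Subgroup (MulAut V)) : Prop :=
  ∀ W : Subgroup V, (∀ φ ∈ M, ∀ w ∈ W, φ w ∈ W) → W = ⊥ ∨ W = ⊤

theorem main {V : Type} [Group V] [Finite V] (h1 : Irr (⊤ : Subgroup (MulAut V)))
    (h2 : ¬ Irr (⊥ : Subgroup (MulAut V))) (hV : Nontrivial V) :
    ∃ (G : Type) (_ : Group G) (_ : Finite G) (M H K : Subgroup G), IsCoatom M ∧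
      M.index = Nat.card V ∧ H ≤ M ∧
      IsCoatom (H.subgroupOf M) ∧ IsCoatom K ∧ H ≤ K ∧ ¬ IsCoatom (H.subgroupOf K) := by
  obtain ⟨M₀, hM₀⟩ := exists_minimal_of_wellFoundedLT (Irr (V := V)) ⟨⊤, h1⟩
  have hne : M₀ ≠ ⊥ := fun e => h2 (e ▸ hM₀.1)
  have hnt : Nontrivial M₀ := (Subgroup.nontrivial_iff_ne_bot _).2 hne
  obtain ⟨H₀, hH₀, -⟩ := (eq_top_or_exists_le_coatom (⊥ : Subgroup M₀)).resolve_left bot_ne_top
  have hred : ¬ Irr (H₀.map M₀.subtype) := fun h => hH₀.1 (by
    have := hM₀.2 h (Subgroup.map_subtype_le H₀)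
    rw [eq_top_iff]
    intro x _
    obtain ⟨y, hy, e⟩ := this x.2
    exact (Subtype.ext e : y = x) ▸ hy)
  unfold Irr at hred
  push Not at hred
  obtain ⟨W, hW, hW0, hW1⟩ := hred
  let G := V ⋊[M₀.subtype] M₀
  have hfin : Finite G := Finite.of_equiv _ SemidirectProduct.equivProd.symm
  have hmem : ∀ g : G, g ∈ (inr : M₀ →* G).range ↔ g.left = 1 := fun g =>
    ⟨fun ⟨y, e⟩ => e ▸ rfl, fun h => ⟨g.right, SemidirectProduct.ext h.symm rfl⟩⟩
  have hmemH : ∀ g : G, g ∈ H₀.map (inr : M₀ →* G) ↔ g.left = 1 ∧ g.right ∈ H₀ := fun g =>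
    ⟨fun ⟨y, hy, e⟩ => e ▸ ⟨rfl, hy⟩, fun h => ⟨g.right, h.2, SemidirectProduct.ext h.1.symm rfl⟩⟩
  refine ⟨G, inferInstance, hfin, (inr : M₀ →* G).range, H₀.map inr, H₀.comap rightHom, ?_, ?_,
    Subgroup.map_le_range _ _, ?_, Subgroup.isCoatom_comap_of_surjective rightHom_surjective hH₀,
    fun g hg => ((hmemH g).1 hg).2, ?_⟩
  · constructor
    · intro e
      obtain ⟨v, hv⟩ := exists_ne (1 : V)
      exact hv ((hmem (inl v)).1 (e ▸ Subgroup.mem_top _))
    · intro X hX
      obtain ⟨g, hgX, hg⟩ := SetLike.exists_of_lt hX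
      have hr : ∀ y : M₀, (inr y : G) ∈ X := fun y => hX.le ⟨y, rfl⟩
      have hl : (inl g.left : G) ∈ X := by
        rw [← X.mul_mem_cancel_right (hr g.right), inl_left_mul_inr_right]
        exact hgX
      have := (hM₀.1 (X.comap inl) fun φ hφ w hw => by
        have h3 : (inl (M₀.subtype ⟨φ, hφ⟩ w) : G) ∈ X := by
          rw [inl_aut]
          exact X.mul_mem (X.mul_mem (hr _) hw) (hr _)
        exact h3).resolve_left fun e => hg ((hmem g).2 (by
          have : g.left ∈ X.comap inl := hl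
          rwa [e] at this))
      rw [eq_top_iff]
      intro x _
      rw [← inl_left_mul_inr_right x]
      exact X.mul_mem (show x.left ∈ X.comap inl from this ▸ Subgroup.mem_top _) (hr _)
  · have h3 := (inr : M₀ →* G).range.card_mul_index
    rw [← Nat.card_congr (MonoidHom.ofInjective inr_injective).toEquiv,
      Nat.card_congr (SemidirectProduct.equivProd (φ := M₀.subtype)), Nat.card_prod,
      mul_comm (Nat.card V)] at h3
    exact Nat.eq_of_mul_eq_mul_left Nat.card_pos h3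
  · have h3 : (H₀.map (inr : M₀ →* G)).subgroupOf (inr : M₀ →* G).range =
        H₀.comap (rightHom.comp (inr : M₀ →* G).range.subtype) := by
      ext ⟨g, hg⟩
      rw [Subgroup.mem_subgroupOf, hmemH]
      exact ⟨fun h => h.2, fun h => ⟨(hmem g).1 hg, h⟩⟩
    rw [h3]
    exact Subgroup.isCoatom_comap_of_surjective (fun y => ⟨⟨inr y, y, rfl⟩, rfl⟩) hH₀
  · intro hc
    let X : Subgroup G :=
      { carrier := {g | g.left ∈ W ∧ g.right ∈ H₀}
        one_mem' := ⟨W.one_mem, H₀.one_mem⟩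
        mul_mem' := fun {a b} ha hb =>
          ⟨W.mul_mem ha.1 (hW _ ⟨_, ha.2, rfl⟩ _ hb.1), H₀.mul_mem ha.2 hb.2⟩
        inv_mem' := fun {a} ha =>
          ⟨hW _ ⟨_, H₀.inv_mem ha.2, rfl⟩ _ (W.inv_mem ha.1), H₀.inv_mem ha.2⟩ }
    obtain ⟨⟨w, hw⟩, hw1⟩ := Subgroup.ne_bot_iff_exists_ne_one.1 hW0
    have hlt : (H₀.map (inr : M₀ →* G)).subgroupOf (H₀.comap rightHom) <
        X.subgroupOf (H₀.comap rightHom) := by
      refine lt_of_le_of_ne (Subgroup.subgroupOf_mono _ fun g hg => ?_) fun e => hw1 ?_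
      · rw [hmemH] at hg
        exact ⟨hg.1 ▸ W.one_mem, hg.2⟩
      · have h3 : (⟨inl w, H₀.one_mem⟩ : H₀.comap (rightHom : G →* M₀)) ∈
            X.subgroupOf (H₀.comap rightHom) := ⟨hw, H₀.one_mem⟩
        rw [← e, Subgroup.mem_subgroupOf, hmemH] at h3
        exact Subtype.ext h3.1
    have h4 := hc.2 _ hlt
    apply hW1
    rw [eq_top_iff]
    intro v _
    have h3 : (⟨inl v, H₀.one_mem⟩ : H₀.comap (rightHom : G →* M₀)) ∈
        X.subgroupOf (H₀.comap rightHom) := h4 ▸ Subgroup.mem_top _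
    exact h3.1


/-- For every prime p and every d ≥ 2 there is a finite group G with a maximal subgroup M of index p^d and a maximal subgroup H of M that is not second maximal in G: some maximal subgroup K of G contains H without H being maximal in K. (One may take G the affine group V ⋊ GL(V) of V = 𝔽_p^d, M = GL(V), H the stabiliser in M of a line W of V, and K = V ⋊ H, with H < W ⋊ H < K.) So the prime-index hypothesis in the second-maximality criterion cannot be relaxed to prime-power index. -/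
theorem result (p d : ℕ) (hp : p.Prime)
    (hd : 2 ≤ d) :
    ∃ (G : Type) (_ : Group G) (_ : Finite G) (M H K : Subgroup G), IsCoatom M ∧ M.index = p ^ d ∧ H ≤ M ∧
      IsCoatom (H.subgroupOf M) ∧ IsCoatom K ∧ H ≤ K ∧ ¬ IsCoatom (H.subgroupOf K) := by
  have := Fact.mk hp
  have : IsSimpleGroup (Multiplicative (ZMod p)) :=
    isSimpleGroup_of_prime_card (p := p) (by simp)
  have hc : Nat.card (Fin d → Multiplicative (ZMod p)) = p ^ d := by simp
  rw [← hc]
  obtain ⟨a, ha⟩ := exists_ne (1 : Multiplicative (ZMod p))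
  let i : Fin d := ⟨0, by omega⟩
  let j : Fin d := ⟨1, by omega⟩
  have hij : i ≠ j := by simp [i, j]
  refine main (fun W hW => ?_) (fun h => ?_) ⟨⟨fun _ => a, 1, fun e => ha (congrFun e i)⟩⟩
  · have : W.Characteristic :=
      Subgroup.characteristic_iff_le_comap.2 fun φ w hw => hW φ trivial w hw
    exact S5914.charSimple_pi _ d W
  · rcases h (Pi.evalMonoidHom (fun _ => Multiplicative (ZMod p)) i).ker
      (fun φ hφ w hw => by rw [Subgroup.mem_bot.1 hφ]; exact hw) with e | e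
    · have h3 : Pi.mulSingle j a ∈ (Pi.evalMonoidHom (fun _ => Multiplicative (ZMod p)) i).ker := by
        simp [MonoidHom.mem_ker, hij]
      rw [e, Subgroup.mem_bot] at h3
      exact ha (by simpa using congrFun h3 j)
    · have h3 : (fun _ => a) ∈ (Pi.evalMonoidHom (fun _ => Multiplicative (ZMod p)) i).ker :=
        e ▸ Subgroup.mem_top _
      exact ha h3

end Cfsg.Agent.S5895
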