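import Cfsg.Statements.S5998
import Cfsg.Agent.Class.C6.Heis

set_option autoImplicit false
open scoped MatrixGroups
open Cfsg

namespace Cfsg.Agent.S5998

/-- Elements of prime order of PSL_3(p), p ≡ 1 (mod 3), and the normalizer of an extraspecial subgroup of order 27. Here `T = PSL_3(F)` for the field `F` with `p` elements, `p` a prime with `p ≡ 1 (mod 3)`; `R` is a non-abelian subgroup of GL_3(F) of order 27 and exponent 3 (an extraspecial group 3^{1+2}, acting absolutely irreducibly), and `H` is the subgroup of matrices of determinant 1 normalizing `R` — a subgroup of type 3^{1+2}.Sp₂(3) (maximality is not assumed). Ω is the set of cosets of `H` in `T`, so an element of `T` of prime order `r` (a matrix `x` of determinant 1 with `x^r` scalar, `x` not scalar) fixes a point of Ω exactly when some conjugate of `x` by a matrix of determinant 1 normalizes `R`. Let `r` be a prime dividing the index of `H`. Then every element of `T` of order `r` fixes a point of Ω if and only if `r = 2`, or `r = 3` and `p ≡ 1 (mod 9)`. -/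
theorem result {F : Type*} [Field F] [Fintype F] {p : ℕ} [Fact p.Prime] [CharP F p] (hF : Fintype.card F = p) (hp3 : p % 3 = 1)
    (R : Subgroup (GL (Fin 3) F)) (hR : Nat.card R = 27) (hRe : Monoid.exponent R = 3) (hRna : ¬ IsMulCommutative R)
    (r : ℕ) [Fact r.Prime]
    (hΩ : r ∣ (Cfsg.Geo.subgroupNormalizer R).relIndex (Cfsg.Geo.specialLinear (Fin 3) F)) :
    (∀ x ∈ Cfsg.Geo.specialLinear (Fin 3) F, (∃ z : F, ((x ^ r : GL (Fin 3) F) : Matrix (Fin 3) (Fin 3) F) = z • (1 : Matrix (Fin 3) (Fin 3) F)) →
      (∀ z : F, (x : Matrix (Fin 3) (Fin 3) F) ≠ z • (1 : Matrix (Fin 3) (Fin 3) F)) →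
      ∃ g ∈ Cfsg.Geo.specialLinear (Fin 3) F, g⁻¹ * x * g ∈ Cfsg.Geo.subgroupNormalizer R) ↔ (r = 2 ∨ (r = 3 ∧ p % 9 = 1)) := by
  open Cfsg.Agent.Class.C6 Cfsg.Agent.Class.Spec in
  have hp : p.Prime := Fact.out
  have hr : r.Prime := Fact.out
  have := charP_of_injective_algebraMap (algebraMap F (AlgebraicClosure F)).injective p
  obtain ⟨ζ, hζ⟩ := exists_cube_root F (by omega)
  obtain ⟨a, b, P, ω, H⟩ := exists_heis hR hRe hRna hζ
  have A := amb_SL (F := F) (K := AlgebraicClosure F) (ι := Fin 3) (p := p)
  have h2 : p ≠ 2 := by omega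
  refine ⟨fun h => ?_, fun e x hx ⟨z, hz⟩ hns => ?_⟩
  · by_contra e
    by_cases h3 : r = 3
    · subst h3
      refine H.not_three_dvd (fun g hg => mem_specialLinear.2 (H.det_eq_one hg)) (fun h4 => ?_) hΩ
      rw [Geo.specialLinear, ← Class.range_toGL_eq_ker_det,
        ← Nat.card_congr (MonoidHom.ofInjective Matrix.SpecialLinearGroup.toGL_injective).toEquiv,
        ← Int.natCast_dvd_natCast, card_SL_eq F three_ne_zero] at h4
      exact not_dvd_oS (by omega) h4
    exact H.not_good_large A.det hr (by omega) h3 (hΩ.trans (Subgroup.relIndex_dvd_card _ _)) h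
  · rcases e with rfl | ⟨rfl, e⟩
    · exact H.good_two hp h2 A trivial (fun _ _ => trivial) hx hz hns
    · exact H.good_three hp (by omega) A trivial (by omega) (fun _ _ _ _ => trivial)
        (fun s hs => by simpa using exists_scalar hs) hx hz hns

end Cfsg.Agent.S5998
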