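import Cfsg.Statements.S5999
import Cfsg.Agent.Class.C6.Heis

set_option autoImplicit false
open scoped MatrixGroups
open Cfsg

namespace Cfsg.Agent.S5999

/-- Elements of prime order of PSU_3(p), p ≡ 2 (mod 3), and the normalizer of an extraspecial subgroup of order 27. Here `T = PSU_3(p)` for a prime `p ≥ 5` with `p ≡ 2 (mod 3)`, realised through `SU_3(p)`, the matrices of determinant 1 over the field `F` with `p²` elements preserving the hermitian form `Σ uᵢvᵢ^p`; `R` is a non-abelian subgroup of order 27 and exponent 3 of the full unitary group of that form (an extraspecial group 3^{1+2}, acting absolutely irreducibly), and `H` is the subgroup of `SU_3(p)` normalizing `R` — a subgroup of type 3^{1+2}.Sp₂(3) (maximality is not assumed). Ω is the set of cosets of `H`, so an element of `T` of prime order `r` (`x ∈ SU_3(p)` with `x^r` scalar, `x` not scalar) fixes a point of Ω exactly when some `SU_3(p)`-conjugate of `x` normalizes `R`. Let `r` be a prime dividing the index of `H`. Then every element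 of `T` of order `r` fixes a point of Ω if and only if `r = 2`, or `r = 3` and `p ≡ 8 (mod 9)`. -/
theorem result {F : Type*} [Field F] [Fintype F] {p : ℕ} [Fact p.Prime] [CharP F p] (hF : Fintype.card F = p ^ 2) (hp : 5 ≤ p) (hp3 : p % 3 = 2)
    (R : Subgroup (GL (Fin 3) F)) (hRU : R ≤ Cfsg.GU 3 F p) (hR : Nat.card R = 27) (hRe : Monoid.exponent R = 3) (hRna : ¬ IsMulCommutative R)
    (r : ℕ) [Fact r.Prime]
    (hΩ : r ∣ (Cfsg.Geo.subgroupNormalizer R).relIndex (Cfsg.GU 3 F p ⊓ Cfsg.Geo.specialLinear (Fin 3) F)) :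
    (∀ x ∈ Cfsg.GU 3 F p ⊓ Cfsg.Geo.specialLinear (Fin 3) F, (∃ z : F, ((x ^ r : GL (Fin 3) F) : Matrix (Fin 3) (Fin 3) F) = z • (1 : Matrix (Fin 3) (Fin 3) F)) →
      (∀ z : F, (x : Matrix (Fin 3) (Fin 3) F) ≠ z • (1 : Matrix (Fin 3) (Fin 3) F)) →
      ∃ g ∈ Cfsg.GU 3 F p ⊓ Cfsg.Geo.specialLinear (Fin 3) F, g⁻¹ * x * g ∈ Cfsg.Geo.subgroupNormalizer R) ↔ (r = 2 ∨ (r = 3 ∧ p % 9 = 8)) := by
  open Cfsg.Agent.Class Cfsg.Agent.Class.C6 Cfsg.Agent.Class.Spec in
  have hp' : p.Prime := Fact.out
  have hr : r.Prime := Fact.out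
  have := charP_of_injective_algebraMap (algebraMap F (AlgebraicClosure F)).injective p
  have := U.UF.of_card hF
  obtain ⟨ζ, hζ⟩ := exists_cube_root F (by rw [hF, Nat.pow_mod, hp3])
  obtain ⟨a, b, P, hP, ω, H⟩ := exists_heis_GU hp3 hRU hR hRe hRna hζ
  have A := amb_SU (F := F) (K := AlgebraicClosure F) (n := 3) (q := p) (p := p) (by decide)
  refine ⟨fun h => ?_, fun e x hx ⟨z, hz⟩ hns => ?_⟩
  · by_contra e
    by_cases h3 : r = 3
    · subst h3
      refine H.not_three_dvd (le_inf hRU fun g hg => mem_specialLinear.2 (H.det_eq_one hg))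
        (fun h4 => ?_) hΩ
      have h5 : (SU 3 F p).map Matrix.SpecialLinearGroup.toGL =
          GU 3 F p ⊓ Geo.specialLinear (Fin 3) F := by
        rw [Geo.specialLinear, ← Class.range_toGL_eq_ker_det, inf_comm, ← Subgroup.map_comap_eq]
        rfl
      rw [← h5, Subgroup.card_map_of_injective Matrix.SpecialLinearGroup.toGL_injective,
        ← Int.natCast_dvd_natCast, card_SU_eq F p three_ne_zero] at h4
      refine not_dvd_oS (Q := -p) (by omega) ((dvd_abs _ _).1 ?_)
      simpa [abs_mul] using h4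
    exact H.not_good_large A.det hr (by omega) h3 (hΩ.trans (Subgroup.relIndex_dvd_card _ _)) h
  · rcases e with rfl | ⟨rfl, e⟩
    · refine H.good_two hp' (by omega) A hP (fun Y hY => U.mem_GU_iff.2 (Wall.pres_iff_cstar.2 ?_))
        hx hz hns
      rw [hY]
      ext i j
      fin_cases i <;> fin_cases j <;> simp [Wall.cstar, Matrix.mul_apply, Fin.sum_univ_three]
    · refine H.good_three hp' (by omega) A hP (by omega)
        (fun Y d hd hY => U.mem_GU_iff.2 (Wall.pres_iff_cstar.2 ?_))
        (fun s hs => exists_scalar_GU hs) hx hz hns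
      rw [hY, Wall.cstar, Matrix.diagonal_map (map_zero _), Matrix.diagonal_transpose,
        Matrix.diagonal_mul_diagonal, ← Matrix.diagonal_one]
      congr 1
      ext i
      rw [U.conj_apply, ← pow_succ, show p + 1 = 3 * ((p + 1) / 3) by omega, pow_mul, hd, one_pow]

end Cfsg.Agent.S5999
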