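import Cfsg.Statements.S6000
import Cfsg.Agent.Class.C6.Four

set_option autoImplicit false
open scoped MatrixGroups
open Cfsg

namespace Cfsg.Agent.S6000

/-- Elements of prime order of PSL_4(p), p ≡ 1 (mod 4), and the normalizer of a 2-group of symplectic type of order 2⁶. Here `T = PSL_4(F)` for the field `F` with `p` elements, `p` a prime with `p ≡ 1 (mod 4)`; `R` is an absolutely irreducible subgroup of GL_4(F) of order 2⁶ that is a 2-group of symplectic type of exponent 4 with centre of order 4 (the central product of the scalars of order 4 with an extraspecial group 2^{1+4}), and `H` is the subgroup of matrices of determinant 1 normalizing `R` — a subgroup of type 2⁴.Sp₄(2) (maximality is not assumed). Ω is the set of cosets of `H` in `T`, so an element of `T` of prime order `r` (a matrix `x` of determinant 1 with `x^r` scalar, `x` not scalar) fixes a point of Ω exactly when some conjugate of `x` by a matrix of determinant 1 normalizes `R`. Let `r` be a prime dividing the index of `H`. Then every element of `T`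 of order `r` fixes a point of Ω if and only if `r = 2`, or `r = 3` and `p ≡ 2 (mod 3)`, or `r = 5` and `p ≡ ±2 (mod 5)` (`p` has multiplicative order 4 modulo 5). -/
theorem result {F : Type*} [Field F] [Fintype F] {p : ℕ} [Fact p.Prime] [CharP F p] (hF : Fintype.card F = p) (hp4 : p % 4 = 1)
    (R : Subgroup (GL (Fin 4) F)) (hR : Cfsg.Geo.IsLinearSymplecticTypeData 2 R) (hR6 : Nat.card R = 2 ^ 6)
    (r : ℕ) [Fact r.Prime]
    (hΩ : r ∣ (Cfsg.Geo.subgroupNormalizer R).relIndex (Cfsg.Geo.specialLinear (Fin 4) F)) :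
    (∀ x ∈ Cfsg.Geo.specialLinear (Fin 4) F, (∃ z : F, ((x ^ r : GL (Fin 4) F) : Matrix (Fin 4) (Fin 4) F) = z • (1 : Matrix (Fin 4) (Fin 4) F)) →
      (∀ z : F, (x : Matrix (Fin 4) (Fin 4) F) ≠ z • (1 : Matrix (Fin 4) (Fin 4) F)) →
      ∃ g ∈ Cfsg.Geo.specialLinear (Fin 4) F, g⁻¹ * x * g ∈ Cfsg.Geo.subgroupNormalizer R) ↔ (r = 2 ∨ (r = 3 ∧ p % 3 = 2) ∨ (r = 5 ∧ orderOf (p : ZMod 5) = 4)) := by
  open Cfsg.Agent.Class.C6 Cfsg.Agent.Class.Spec in
  have hp : p.Prime := Fact.out
  have hr : r.Prime := Fact.out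
  have := charP_of_injective_algebraMap (algebraMap F (AlgebraicClosure F)).injective p
  have h5 : 5 ≤ p := hp.five_le_of_ne_two_of_ne_three (by omega) (by omega)
  have h2 : (2 : F) ≠ 0 := fun e => by
    have := Nat.le_of_dvd two_pos ((CharP.cast_eq_zero_iff F p 2).1 e)
    omega
  have hZ : Nat.card (Subgroup.center R) = 4 := by
    obtain ⟨_, _, -, -, h | h | h⟩ := hR.field
    · exact absurd h.1 (by decide)
    · exact h.2.2.1
    · exact absurd h.2.2.1 (by simp)
  have h := twoG_of h2 (by simp) hR.symplecticType hR.absIrred (k := 2) hR6 hZ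
  obtain ⟨i, hi, i2, a, b, c, d, C⟩ := h.exists_chain_four ((card_zc R).trans hZ)
  have A := amb_SL (F := F) (K := AlgebraicClosure F) (ι := Fin 4) (p := p)
  rw [orderOf_five_iff]
  refine ⟨fun H => ?_, fun e x hx ⟨z, hz⟩ hns => ?_⟩
  · by_contra e
    by_cases h3 : r = 3
    · subst h3
      obtain ⟨ω, hω⟩ := exists_prim (K := AlgebraicClosure F) hp hr (by omega)
      have h4 : p % 3 ≠ 0 := fun e => by
        have := (Nat.prime_dvd_prime_iff_eq hr hp).1 (Nat.dvd_of_mod_eq_zero e)
        omega
      obtain ⟨x, hx, h6⟩ := exists_SL_ss (F := F) (ι := Fin 4) (m := {ω, ω, ω, 1}) rfl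
        (by simp [zpow_eq_pow_of_emod (j := 1) (Q := Fintype.card F) hω.pow_eq_one (by omega),
          -zpow_natCast]) (by simpa [pow_succ, mul_assoc] using hω.pow_eq_one)
      exact not_good_homology hp h5 h C hω h6 (H x hx)
    by_cases h4 : r = 5
    · subst h4
      by_cases h6 : p = 5
      · subst h6
        refine not_good_transv hp h (N := Matrix.single 0 1 1) (x := Matrix.SpecialLinearGroup.toGL
          ⟨_, Matrix.det_transvection_of_ne (0 : Fin 4) 1 (by decide) (1 : F)⟩) rfl ?_ ?_ ?_
          (H _ (mem_specialLinear.2 (Matrix.det_transvection_of_ne (0 : Fin 4) 1 (by decide) (1 : F))))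
        · exact fun e => by simpa using congrFun (congrFun e 0) 1
        · simp
        · rw [Matrix.single_eq_single_vecMulVec_single]
          exact Matrix.rank_vecMulVec_le _ _
      obtain ⟨ζ, hζ⟩ := exists_prim (K := AlgebraicClosure F) hp hr h6
      have h7 : p % 5 ≠ 0 := fun e => by
        have := (Nat.prime_dvd_prime_iff_eq hr hp).1 (Nat.dvd_of_mod_eq_zero e)
        omega
      obtain ⟨x, hx, h8⟩ := exists_SL_ss (F := F) (ι := Fin 4) (m := {1, 1, ζ, ζ⁻¹}) rfl
        (map_pair hζ.pow_eq_one (by omega)) (by simp)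
      exact not_good_five hp h6 h C hζ h8 (H x hx)
    exact not_good_large A h hr (by omega) h3 h4 (hΩ.trans (Subgroup.relIndex_dvd_card _ _)) H
  · rcases e with rfl | ⟨rfl, e⟩ | ⟨rfl, e⟩
    · exact good_two hp A h le_top C hi i2 (fun s hs => by simpa using exists_scalar hs) hx hz hns
    · exact good_three hp (by omega) A h le_top C hi i2 (by omega) hx hz hns
    · exact good_five hp (by omega) A h le_top C (by omega) (by omega) hx hz hns

end Cfsg.Agent.S6000
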