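import Cfsg.Statements.S6001
import Cfsg.Agent.Class.C6.Four

set_option autoImplicit false
open scoped MatrixGroups
open Cfsg

namespace Cfsg.Agent.S6001

/-- Elements of prime order of PSU_4(p), p ≡ 3 (mod 4), and the normalizer of a 2-group of symplectic type of order 2⁶. Here `T = PSU_4(p)` for a prime `p ≡ 3 (mod 4)`, realised through `SU_4(p)`, the matrices of determinant 1 over the field `F` with `p²` elements preserving the hermitian form `f = Σ uᵢvᵢ^p`; `R` is an absolutely irreducible subgroup of the full unitary group of `f` of order 2⁶ that is a 2-group of symplectic type of exponent 4 with centre of order 4, and `H` is the subgroup of `SU_4(p)` normalizing `R` — a subgroup of type 2⁴.Sp₄(2) (maximality is not assumed). Ω is the set of cosets of `H`, so an element of `T` of prime order `r` (`x ∈ SU_4(p)` with `x^r` scalar, `x` not scalar) fixes a point of Ω exactly when some `SU_4(p)`-conjugate of `x` normalizes `R`. Let `r` be a prime dividing the index of `H`. Then every element of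 `T` of order `r` fixes a point of Ω if and only if `r = 2`, or `r = 3` and `p ≡ 1 (mod 3)`, or `r = 5` and `p ≡ ±2 (mod 5)` (`p` has multiplicative order 4 modulo 5). -/
theorem result {F : Type*} [Field F] [Fintype F] {p : ℕ} [Fact p.Prime] [CharP F p] (hF : Fintype.card F = p ^ 2) (hp4 : p % 4 = 3)
    (R : Subgroup (GL (Fin 4) F)) (hRs : Cfsg.Geo.IsSymplecticTypeGroup 2 R) (hRi : Cfsg.Geo.ActsAbsolutelyIrreducibly (Cfsg.Geo.matrixSet R))
    (hRU : R ≤ Cfsg.GU 4 F p) (hR6 : Nat.card R = 2 ^ 6) (hRZ : Nat.card (Subgroup.center R) = 4)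
    (r : ℕ) [Fact r.Prime]
    (hΩ : r ∣ (Cfsg.Geo.subgroupNormalizer R).relIndex (Cfsg.GU 4 F p ⊓ Cfsg.Geo.specialLinear (Fin 4) F)) :
    (∀ x ∈ Cfsg.GU 4 F p ⊓ Cfsg.Geo.specialLinear (Fin 4) F, (∃ z : F, ((x ^ r : GL (Fin 4) F) : Matrix (Fin 4) (Fin 4) F) = z • (1 : Matrix (Fin 4) (Fin 4) F)) →
      (∀ z : F, (x : Matrix (Fin 4) (Fin 4) F) ≠ z • (1 : Matrix (Fin 4) (Fin 4) F)) →
      ∃ g ∈ Cfsg.GU 4 F p ⊓ Cfsg.Geo.specialLinear (Fin 4) F, g⁻¹ * x * g ∈ Cfsg.Geo.subgroupNormalizer R) ↔ (r = 2 ∨ (r = 3 ∧ p % 3 = 1) ∨ (r = 5 ∧ orderOf (p : ZMod 5) = 4)) := by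
  open Cfsg.Agent.Class Cfsg.Agent.Class.C6 Cfsg.Agent.Class.Spec in
  have hp : p.Prime := Fact.out
  have hr : r.Prime := Fact.out
  have := charP_of_injective_algebraMap (algebraMap F (AlgebraicClosure F)).injective p
  have := U.UF.of_card hF
  have h2 : (2 : F) ≠ 0 := fun e => by
    have := Nat.le_of_dvd two_pos ((CharP.cast_eq_zero_iff F p 2).1 e)
    omega
  have h := twoG_of h2 (by simp) hRs hRi (k := 2) hR6 hRZ
  obtain ⟨i, hi, i2, a, b, c, d, C⟩ := h.exists_chain_four ((card_zc R).trans hRZ)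
  have A := amb_SU (F := F) (K := AlgebraicClosure F) (n := 4) (q := p) (p := p) (by decide)
  rw [orderOf_five_iff]
  refine ⟨fun H => ?_, fun e x hx ⟨z, hz⟩ hns => ?_⟩
  · by_contra e
    by_cases h3 : r = 3
    · subst h3
      by_cases h6 : p = 3
      · subst h6
        obtain ⟨t, t0, ht⟩ := U.exists_trace_zero F 3
        have h3 : (3 : F) = 0 := CharP.cast_eq_zero F 3
        have hv : hermForm 4 F 3 ![1, 1, 1, 0] ![1, 1, 1, 0] = 0 := by
          simp [hermForm, Fin.sum_univ_four]
          linear_combination h3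
        have h7 := U.pres_unitaryTransvection (q := 3) (v := ![1, 1, 1, 0]) (c := t) (by simp [ht, hv])
        refine not_good_transv hp h (x := (U.mkGU _ h7).1)
          (N := t • Matrix.vecMulVec ![1, 1, 1, 0] fun j => (![1, 1, 1, 0] j) ^ 3) rfl ?_ ?_ ?_
          (H _ ⟨(U.mkGU _ h7).2, mem_specialLinear.2 ((U.det_unitaryTransvection _ _).trans
            (by simp [hv]))⟩)
        · refine fun e => t0 ?_
          have := congrFun (congrFun e 0) 0
          rw [Matrix.smul_apply, Matrix.vecMulVec_apply] at this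
          simpa using this
        · simp only [smul_mul_smul_comm, Matrix.vecMulVec_mul_vecMulVec]
          rw [dotProduct_comm, ← U.herm_eq_dotProduct, hv]
          simp
        · rw [← Matrix.smul_vecMulVec]
          exact Matrix.rank_vecMulVec_le _ _
      obtain ⟨ω, hω⟩ := exists_prim (K := AlgebraicClosure F) hp hr h6
      have h4 : p % 3 ≠ 0 := fun e => by
        have := (Nat.prime_dvd_prime_iff_eq hr hp).1 (Nat.dvd_of_mod_eq_zero e)
        omega
      obtain ⟨x, hx, h7⟩ := exists_SU_ss (F := F) (n := 4) (q := p) (m := {ω, ω, ω, 1}) rfl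
        (by simp [zpow_eq_pow_of_emod (j := 1) (Q := -p) hω.pow_eq_one (by omega), -zpow_neg])
        (by simpa [pow_succ, mul_assoc] using hω.pow_eq_one)
      exact not_good_homology hp (hp.five_le_of_ne_two_of_ne_three (by omega) h6) h C hω h7 (H x hx)
    by_cases h4 : r = 5
    · subst h4
      obtain ⟨ζ, hζ⟩ := exists_prim (K := AlgebraicClosure F) hp hr (by omega)
      have h7 : p % 5 ≠ 0 := fun e => by
        have := (Nat.prime_dvd_prime_iff_eq hr hp).1 (Nat.dvd_of_mod_eq_zero e)
        omega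
      obtain ⟨x, hx, h8⟩ := exists_SU_ss (F := F) (n := 4) (q := p) (m := {1, 1, ζ, ζ⁻¹}) rfl
        (map_pair hζ.pow_eq_one (by omega)) (by simp)
      exact not_good_five hp (by omega) h C hζ h8 (H x hx)
    exact not_good_large A h hr (by omega) h3 h4 (hΩ.trans (Subgroup.relIndex_dvd_card _ _)) H
  · rcases e with rfl | ⟨rfl, e⟩ | ⟨rfl, e⟩
    · exact good_two hp A h hRU C hi i2 (fun s hs => exists_scalar_GU hs) hx hz hns
    · exact good_three hp (by omega) A h hRU C hi i2 (by omega) hx hz hns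
    · refine good_five hp (by omega) A h hRU C (by omega) ?_ hx hz hns
      have : p ^ 2 % 5 = 4 := by rcases e with e | e <;> simp [Nat.pow_mod, e]
      omega

end Cfsg.Agent.S6001
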