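import Cfsg.Statements.S6002
import Cfsg.Agent.Class.C6.Four

set_option autoImplicit false
open scoped MatrixGroups
open Cfsg

namespace Cfsg.Agent.S6002

/-- Elements of prime order of PSp_4(p), p odd, and the normalizer of an extraspecial 2-group of order 2⁵ of minus type. Here `T = PSp_4(F)` for the field `F` with `p` elements, `p` an odd prime, realised through the matrices preserving the standard alternating form `f`; `R` is an absolutely irreducible subgroup of `T` (it preserves `f`) that is a 2-group of symplectic type of exponent 4, order 2⁵ and centre of order 2, of minus type (no elementary abelian subgroup of order 2³), and `H` is the subgroup of `T` normalizing `R` — a subgroup of type 2^{1+4}.O₄⁻(2) (maximality is not assumed). Ω is the set of cosets of `H` in `T`, so an element of `T` of prime order `r` (`x ∈ T` with `x^r` scalar, `x` not scalar) fixes a point of Ω exactly when some `T`-conjugate of `x` normalizes `R`. Let `r` be a prime dividing the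 index of `H`. Then every element of `T` of order `r` fixes a point of Ω if and only if `r = 2`, or `r = 5` and `p` has multiplicative order 4 modulo 5. -/
theorem result {F : Type*} [Field F] [Fintype F] {p : ℕ} [Fact p.Prime] [CharP F p] (hF : Fintype.card F = p) (hodd : Odd p)
    (R : Subgroup (GL (Fin 2 ⊕ Fin 2) F)) (hRs : Cfsg.Geo.IsSymplecticTypeGroup 2 R) (hRi : Cfsg.Geo.ActsAbsolutelyIrreducibly (Cfsg.Geo.matrixSet R))
    (hRf : R ≤ Cfsg.spGL 2 F) (hR5 : Nat.card R = 2 ^ 5) (hRZ : Nat.card (Subgroup.center R) = 2) (hRm : Cfsg.Geo.IsOfMinusType 2 R)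
    (r : ℕ) [Fact r.Prime]
    (hΩ : r ∣ (Cfsg.Geo.subgroupNormalizer R).relIndex (Cfsg.spGL 2 F)) :
    (∀ x ∈ Cfsg.spGL 2 F, (∃ z : F, ((x ^ r : GL (Fin 2 ⊕ Fin 2) F) : Matrix (Fin 2 ⊕ Fin 2) (Fin 2 ⊕ Fin 2) F) = z • (1 : Matrix (Fin 2 ⊕ Fin 2) (Fin 2 ⊕ Fin 2) F)) →
      (∀ z : F, (x : Matrix (Fin 2 ⊕ Fin 2) (Fin 2 ⊕ Fin 2) F) ≠ z • (1 : Matrix (Fin 2 ⊕ Fin 2) (Fin 2 ⊕ Fin 2) F)) →
      ∃ g ∈ Cfsg.spGL 2 F, g⁻¹ * x * g ∈ Cfsg.Geo.subgroupNormalizer R) ↔ (r = 2 ∨ (r = 5 ∧ orderOf (p : ZMod 5) = 4)) := by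
  open Cfsg.Agent.Class Cfsg.Agent.Class.C6 Cfsg.Agent.Class.Spec in
  have hp : p.Prime := Fact.out
  have hr : r.Prime := Fact.out
  have := charP_of_injective_algebraMap (algebraMap F (AlgebraicClosure F)).injective p
  have h2 : (2 : F) ≠ 0 := fun e => by
    rw [(Nat.prime_dvd_prime_iff_eq hp Nat.prime_two).1 ((CharP.cast_eq_zero_iff F p 2).1 e)] at hodd
    exact absurd hodd (by decide)
  have h := twoG_of h2 (by simp) hRs hRi (k := 1) hR5 hRZ
  obtain ⟨a, b, c, d, C⟩ := h.exists_chain_minus hRm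
  have A := amb_Sp (F := F) (K := AlgebraicClosure F) (n := 2) (p := p) (by decide)
  rw [orderOf_five_iff]
  refine ⟨fun H => ?_, fun e x hx ⟨z, hz⟩ hns => ?_⟩
  · by_contra e
    by_cases h6 : p = r
    · subst h6
      refine not_good_transv hp h (x := Sp.toGL (Sp.tv (Pi.single (.inl 0) 1) 1))
        (N := (1 : F) • Matrix.vecMulVec (Pi.single (.inl 0) 1) ((Matrix.J (Fin 2) F).mulVec
          (Pi.single (.inl 0) 1))) rfl ?_ ?_ ?_ (H _ (Sp.mem_spGL_iff.2 (Sp.tv _ _).2))
      · exact fun e => by simpa [Matrix.J, Matrix.vecMulVec_apply] using congrFun (congrFun e (.inl 0)) (.inr 0)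
      · simp [Matrix.vecMulVec_mul_vecMulVec, Matrix.J]
      · rw [one_smul]
        exact Matrix.rank_vecMulVec_le _ _
    have h7 : p % r ≠ 0 := fun e =>
      h6 ((Nat.prime_dvd_prime_iff_eq hr hp).1 (Nat.dvd_of_mod_eq_zero e)).symm
    obtain ⟨ζ, hζ⟩ := exists_prim (K := AlgebraicClosure F) hp hr h6
    have h8 : ζ * ζ ≠ 1 := fun e' => e (Or.inl ((Nat.prime_dvd_prime_iff_eq hr Nat.prime_two).1
      (hζ.dvd_of_pow_eq_one 2 (by rw [pow_two, e']))))
    by_cases h3 : r = 3
    · subst h3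
      obtain ⟨x, hx, h9⟩ := exists_Sp_pair (F := F) hζ.pow_eq_one h8 (by omega)
      exact not_good_minus hp h6 h C hRm ((card_zc R).trans hRZ) hζ h9 (H x hx)
    by_cases h4 : r = 5
    · subst h4
      obtain ⟨x, hx, h9⟩ := exists_Sp_pair (F := F) hζ.pow_eq_one h8 (by omega)
      exact not_good_five hp h6 h C hζ h9 (H x hx)
    exact not_good_large A h hr (by omega) h3 h4 (hΩ.trans (Subgroup.relIndex_dvd_card _ _)) H
  · rcases e with rfl | ⟨rfl, e⟩
    · refine good_two_a hp A h hRf C hx hz hns ?_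
      have h3 := SymplecticGroup.mem_iff'.1 (Sp.mem_spGL_iff.1 ((spGL 2 F).pow_mem hx 2))
      rw [hz] at h3
      simpa [smul_smul, pow_two, Matrix.J] using congrFun (congrFun h3 (.inr 0)) (.inl 0)
    · exact good_five hp (by omega) A h hRf C (by omega) (by omega) hx hz hns

end Cfsg.Agent.S6002
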